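import Mathlib
import Cfsg.Agent.Lib.Lead.SylowTools
import Cfsg.Agent.Lib.Helper7.BrOrd1

/-!
# S3278 piece BURN (helper28): `3 |C(P)| ≤ |N(P)|` for a group of order `4 g₀` without
normal `2`-complement.
-/

set_option autoImplicit false

namespace Cfsg.Agent.Helper16.KF

variable {G : Type*} [Group G] [Finite G]

theorem three_mul_card_le (g₀ : ℕ) (hg₀ : Odd g₀) (hG : Nat.card G = 4 * g₀)
    (hnc : ¬ ∃ N : Subgroup G, N.Normal ∧ Nat.card N = g₀) (P : Sylow 2 G) :
    3 * Nat.card (Subgroup.centralizer ((P : Subgroup G) : Set G)) ≤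
      Nat.card (Subgroup.normalizer ((P : Subgroup G) : Set G)) := by
  haveI : Fact (2 : ℕ).Prime := ⟨Nat.prime_two⟩
  obtain ⟨hK, -⟩ := Cfsg.Agent.Helper7.klein_of_no_complement g₀ hg₀ hG hnc P
  have hcP : Nat.card (P : Subgroup G) = 4 := hK.card_four
  -- no Burnside
  have hNC : ¬ (Subgroup.normalizer ((P : Subgroup G) : Set G) ≤
      Subgroup.centralizer ((P : Subgroup G) : Set G)) := by
    intro h
    apply hnc
    refine ⟨(MonoidHom.transferSylow P h).ker, inferInstance, ?_⟩
    have hcomp := MonoidHom.ker_transferSylow_isComplement' P h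
    have := hcomp.card_mul
    rw [hcP, hG] at this
    omega
  set N := Subgroup.normalizer ((P : Subgroup G) : Set G) with hN
  set C := Subgroup.centralizer ((P : Subgroup G) : Set G) with hC
  have hCN : C ≤ N := Subgroup.centralizer_le_normalizer _
  -- `P ≤ C` as `P` is abelian
  have hPC : (P : Subgroup G) ≤ C := by
    intro x hx
    rw [hC, Subgroup.mem_centralizer_iff]
    intro y hy
    have := mul_comm_of_exponent_two (IsKleinFour.exponent_two (G := (P : Subgroup G)))
      (⟨y, hy⟩ : (P : Subgroup G)) ⟨x, hx⟩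
    exact congrArg Subtype.val this
  have h4C : 4 ∣ Nat.card C := hcP ▸ Subgroup.card_dvd_of_le hPC
  have hdvd : Nat.card C ∣ Nat.card N := Subgroup.card_dvd_of_le hCN
  obtain ⟨k, hk⟩ := hdvd
  have hNG : Nat.card N ∣ 4 * g₀ := hG ▸ Subgroup.card_subgroup_dvd_card N
  have hCpos : 0 < Nat.card C := Nat.card_pos
  have hNpos : 0 < Nat.card N := Nat.card_pos
  -- `k ≠ 1`
  have hk1 : k ≠ 1 := by
    intro h
    apply hNC
    rw [h, mul_one] at hk
    have : C = N := Subgroup.eq_of_le_of_card_ge hCN (le_of_eq hk)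
    rw [← this]
  have hk0 : k ≠ 0 := by
    rintro rfl
    rw [mul_zero] at hk
    omega
  -- `k` odd
  have hkodd : Odd k := by
    obtain ⟨c, hc⟩ := h4C
    rw [hk, hc] at hNG
    have h1 : 4 * (c * k) ∣ 4 * g₀ := by
      have : 4 * c * k = 4 * (c * k) := by ring
      rwa [this] at hNG
    have h2 : c * k ∣ g₀ := (Nat.mul_dvd_mul_iff_left (by norm_num)).mp h1
    have h3 : k ∣ g₀ := Dvd.dvd.trans (Dvd.intro_left c rfl) h2
    exact Odd.of_dvd_nat hg₀ h3
  have hk3 : 3 ≤ k := by
    obtain ⟨m, hm⟩ := hkodd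
    omega
  calc 3 * Nat.card C ≤ k * Nat.card C := Nat.mul_le_mul_right _ hk3
    _ = Nat.card N := by rw [hk, mul_comm]

end Cfsg.Agent.Helper16.KF
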