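import Mathlib
import Cfsg.Agent.Lib.Helper2.CardSL

/-!
# Subfield subgroups of `PSL₂` (helper28)
-/

set_option autoImplicit false

namespace Cfsg.Agent.Helper28.SubfieldPSL2
open Matrix

section hom

variable {F K : Type*} [Field F] [Fintype F] [Field K] [Fintype K]

/-- a finite field whose order is a power of the order of another contains a copy of it -/
theorem exists_ringHom {m : ℕ} (hK : Fintype.card K ^ m = Fintype.card F) :
    Nonempty (K →+* F) := by
  obtain ⟨p, hp⟩ := CharP.exists K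
  have hpp : p.Prime := CharP.char_is_prime K p
  haveI : Fact p.Prime := ⟨hpp⟩
  obtain ⟨p', hp'⟩ := CharP.exists F
  have hpp' : p'.Prime := CharP.char_is_prime F p'
  obtain ⟨a, -, ha⟩ := FiniteField.card K p
  obtain ⟨b, -, hb⟩ := FiniteField.card F p'
  have heq : p' = p := by
    have h1 : p' ∣ p ^ ((a : ℕ) * m) := by
      rw [pow_mul, ← ha, hK, hb]
      exact dvd_pow_self _ b.ne_zero
    exact (Nat.prime_dvd_prime_iff_eq hpp' hpp).1 (hpp'.dvd_of_dvd_pow h1)
  subst heq
  letI : Algebra (ZMod p') K := ZMod.algebra K p'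
  letI : Algebra (ZMod p') F := ZMod.algebra F p'
  have h1 := FiniteField.pow_finrank_eq_card p' K
  have h2 := FiniteField.pow_finrank_eq_card p' F
  have h3 : Module.finrank (ZMod p') K * m = Module.finrank (ZMod p') F := by
    apply Nat.pow_right_injective hpp'.two_le
    show p' ^ _ = p' ^ _
    rw [pow_mul, h1, h2, hK]
  obtain ⟨f⟩ := FiniteField.nonempty_algHom_of_finrank_dvd (F := ZMod p') (K := K) (L := F)
    (Dvd.intro _ h3)
  exact ⟨f.toRingHom⟩

end hom

section psl

variable {F K : Type*} [Field F] [Field K] (ι : K →+* F)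

/-- the map `SL₂(K) → PSL₂(F)` -/
noncomputable def slToPSL : Matrix.SpecialLinearGroup (Fin 2) K →*
    Matrix.ProjectiveSpecialLinearGroup (Fin 2) F :=
  (QuotientGroup.mk' (Subgroup.center (Matrix.SpecialLinearGroup (Fin 2) F))).comp
    (Matrix.SpecialLinearGroup.map ι)

theorem ker_slToPSL : (slToPSL ι).ker = Subgroup.center (Matrix.SpecialLinearGroup (Fin 2) K) := by
  ext A
  rw [MonoidHom.mem_ker, slToPSL, MonoidHom.comp_apply, QuotientGroup.mk'_apply,
    QuotientGroup.eq_one_iff, Matrix.SpecialLinearGroup.mem_center_iff,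
    Matrix.SpecialLinearGroup.mem_center_iff]
  constructor
  · rintro ⟨r, hr, hA⟩
    have h00 := congrFun (congrFun hA 0) 0
    have h01 := congrFun (congrFun hA 0) 1
    have h10 := congrFun (congrFun hA 1) 0
    have h11 := congrFun (congrFun hA 1) 1
    simp only [Matrix.scalar_apply, Matrix.diagonal_apply_eq, Matrix.SpecialLinearGroup.map_apply_coe,
      RingHom.mapMatrix_apply, Matrix.map_apply, ne_eq, zero_ne_one, not_false_eq_true,
      one_ne_zero, Matrix.diagonal_apply_ne] at h00 h01 h10 h11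
    have e01 : (A : Matrix (Fin 2) (Fin 2) K) 0 1 = 0 := ι.injective (by rw [← h01, map_zero])
    have e10 : (A : Matrix (Fin 2) (Fin 2) K) 1 0 = 0 := ι.injective (by rw [← h10, map_zero])
    have e11 : (A : Matrix (Fin 2) (Fin 2) K) 1 1 = (A : Matrix (Fin 2) (Fin 2) K) 0 0 :=
      ι.injective (by rw [← h11, ← h00])
    refine ⟨(A : Matrix (Fin 2) (Fin 2) K) 0 0, ?_, ?_⟩
    · have hdet := A.2
      rw [Matrix.det_fin_two, e01, e10, e11] at hdet
      rw [Fintype.card_fin]
      linear_combination hdet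
    · ext i j
      fin_cases i <;> fin_cases j <;> simp [e01, e10, e11]
  · rintro ⟨r, hr, hA⟩
    refine ⟨ι r, by rw [← map_pow, hr, map_one], ?_⟩
    ext i j
    have := congrFun (congrFun hA i) j
    simp only [Matrix.SpecialLinearGroup.map_apply_coe, RingHom.mapMatrix_apply, Matrix.map_apply,
      ← this]
    by_cases hij : i = j
    · subst hij; simp
    · simp [hij]

include ι in
/-- `PSL₂(K)` embeds in `PSL₂(F)` -/
theorem exists_psl_subgroup :
    ∃ H : Subgroup (Matrix.ProjectiveSpecialLinearGroup (Fin 2) F),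
      Nonempty (H ≃* Matrix.ProjectiveSpecialLinearGroup (Fin 2) K) := by
  refine ⟨(slToPSL ι).range, ⟨?_⟩⟩
  exact ((QuotientGroup.quotientMulEquivOfEq (ker_slToPSL ι)).symm.trans
    (QuotientGroup.quotientKerEquivRange (slToPSL ι))).symm

end psl

section pgl

variable {F K : Type*} [Field F] [Field K] (ι : K →+* F)

theorem mk_eq_of_neg {A B : Matrix.SpecialLinearGroup (Fin 2) F}
    (h : (A : Matrix (Fin 2) (Fin 2) F) = -(B : Matrix (Fin 2) (Fin 2) F)) :
    (QuotientGroup.mk A : Matrix.ProjectiveSpecialLinearGroup (Fin 2) F) = QuotientGroup.mk B := by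
  rw [QuotientGroup.eq, Matrix.SpecialLinearGroup.mem_center_iff]
  refine ⟨-1, by rw [Fintype.card_fin]; ring, ?_⟩
  have h1 : ((A⁻¹ * B : Matrix.SpecialLinearGroup (Fin 2) F) : Matrix (Fin 2) (Fin 2) F)
      = -((A⁻¹ * A : Matrix.SpecialLinearGroup (Fin 2) F) : Matrix (Fin 2) (Fin 2) F) := by
    rw [Matrix.SpecialLinearGroup.coe_mul, Matrix.SpecialLinearGroup.coe_mul, h, Matrix.mul_neg,
      neg_neg]
  rw [h1, inv_mul_cancel]
  ext i j
  fin_cases i <;> fin_cases j <;> simp

variable (hsq : ∀ x : K, x ≠ 0 → IsSquare (ι x))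

/-- a square root of the inverse determinant -/
noncomputable def sroot (g : GL (Fin 2) K) : F :=
  Classical.choose (hsq ((g : Matrix (Fin 2) (Fin 2) K).det)⁻¹
    (inv_ne_zero (Matrix.GeneralLinearGroup.det_ne_zero g)))

theorem sroot_mul_self (g : GL (Fin 2) K) :
    sroot ι hsq g * sroot ι hsq g = ι ((g : Matrix (Fin 2) (Fin 2) K).det)⁻¹ :=
  (Classical.choose_spec (hsq ((g : Matrix (Fin 2) (Fin 2) K).det)⁻¹
    (inv_ne_zero (Matrix.GeneralLinearGroup.det_ne_zero g)))).symm

theorem sroot_ne_zero (g : GL (Fin 2) K) : sroot ι hsq g ≠ 0 := by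
  intro h
  have h1 := sroot_mul_self ι hsq g
  rw [h, mul_zero] at h1
  have h2 : ((g : Matrix (Fin 2) (Fin 2) K).det)⁻¹ = 0 := ι.injective (by rw [← h1, map_zero])
  exact inv_ne_zero (Matrix.GeneralLinearGroup.det_ne_zero g) h2

/-- the lift of an invertible matrix to `SL₂(F)` -/
noncomputable def lift (g : GL (Fin 2) K) : Matrix.SpecialLinearGroup (Fin 2) F :=
  ⟨sroot ι hsq g • ι.mapMatrix (g : Matrix (Fin 2) (Fin 2) K), by
    rw [Matrix.det_smul, Fintype.card_fin, ← RingHom.map_det, sq, sroot_mul_self, ← map_mul,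
      inv_mul_cancel₀ (Matrix.GeneralLinearGroup.det_ne_zero g), map_one]⟩

theorem lift_coe (g : GL (Fin 2) K) :
    (lift ι hsq g : Matrix (Fin 2) (Fin 2) F)
      = sroot ι hsq g • ι.mapMatrix (g : Matrix (Fin 2) (Fin 2) K) := rfl

theorem sroot_mul (g h : GL (Fin 2) K) :
    sroot ι hsq (g * h) = sroot ι hsq g * sroot ι hsq h ∨
      sroot ι hsq (g * h) = -(sroot ι hsq g * sroot ι hsq h) := by
  apply mul_self_eq_mul_self_iff.1
  rw [sroot_mul_self, mul_mul_mul_comm, sroot_mul_self, sroot_mul_self, ← map_mul,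
    Matrix.GeneralLinearGroup.coe_mul, Matrix.det_mul, _root_.mul_inv_rev, mul_comm]

/-- the map `GL₂(K) → PSL₂(F)` -/
noncomputable def glToPSL : GL (Fin 2) K →* Matrix.ProjectiveSpecialLinearGroup (Fin 2) F :=
  MonoidHom.mk' (fun g => (QuotientGroup.mk (lift ι hsq g) :
      Matrix.ProjectiveSpecialLinearGroup (Fin 2) F)) (by
    intro g h
    rw [← QuotientGroup.mk_mul]
    have hcoe : ((lift ι hsq g * lift ι hsq h : Matrix.SpecialLinearGroup (Fin 2) F) :
        Matrix (Fin 2) (Fin 2) F)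
        = (sroot ι hsq g * sroot ι hsq h) • ι.mapMatrix ((g * h : GL (Fin 2) K) :
          Matrix (Fin 2) (Fin 2) K) := by
      rw [Matrix.SpecialLinearGroup.coe_mul, lift_coe, lift_coe, Matrix.GeneralLinearGroup.coe_mul,
        map_mul, Matrix.smul_mul, Matrix.mul_smul, smul_smul]
    rcases sroot_mul ι hsq g h with h1 | h1
    · congr 1
      apply Subtype.ext
      rw [hcoe, lift_coe, h1]
    · apply mk_eq_of_neg
      rw [hcoe, lift_coe, h1, neg_smul])

theorem glToPSL_apply (g : GL (Fin 2) K) :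
    glToPSL ι hsq g = (QuotientGroup.mk (lift ι hsq g) :
      Matrix.ProjectiveSpecialLinearGroup (Fin 2) F) := rfl

theorem ker_glToPSL : (glToPSL ι hsq).ker = Subgroup.center (GL (Fin 2) K) := by
  ext g
  rw [MonoidHom.mem_ker, glToPSL_apply, QuotientGroup.eq_one_iff,
    Matrix.SpecialLinearGroup.mem_center_iff, Matrix.GeneralLinearGroup.center_eq_range_scalar,
    MonoidHom.mem_range]
  have hs := sroot_ne_zero ι hsq g
  constructor
  · rintro ⟨r, hr, hA⟩
    rw [lift_coe] at hA
    have h00 := congrFun (congrFun hA 0) 0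
    have h01 := congrFun (congrFun hA 0) 1
    have h10 := congrFun (congrFun hA 1) 0
    have h11 := congrFun (congrFun hA 1) 1
    simp only [Matrix.scalar_apply, Matrix.diagonal_apply_eq, Matrix.smul_apply,
      RingHom.mapMatrix_apply, Matrix.map_apply, ne_eq, zero_ne_one, not_false_eq_true,
      one_ne_zero, Matrix.diagonal_apply_ne, smul_eq_mul] at h00 h01 h10 h11
    have e01 : (g : Matrix (Fin 2) (Fin 2) K) 0 1 = 0 := by
      apply ι.injective
      rw [map_zero]
      exact (mul_eq_zero.1 h01.symm).resolve_left hs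
    have e10 : (g : Matrix (Fin 2) (Fin 2) K) 1 0 = 0 := by
      apply ι.injective
      rw [map_zero]
      exact (mul_eq_zero.1 h10.symm).resolve_left hs
    have e11 : (g : Matrix (Fin 2) (Fin 2) K) 1 1 = (g : Matrix (Fin 2) (Fin 2) K) 0 0 := by
      apply ι.injective
      exact mul_left_cancel₀ hs (h11.symm.trans h00)
    have hdet := Matrix.GeneralLinearGroup.det_ne_zero g
    rw [Matrix.det_fin_two, e01, e10, e11] at hdet
    have hu : (g : Matrix (Fin 2) (Fin 2) K) 0 0 ≠ 0 := by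
      intro h
      apply hdet
      rw [h]
      ring
    refine ⟨Units.mk0 _ hu, ?_⟩
    apply Units.ext
    ext i j
    fin_cases i <;> fin_cases j <;>
      simp [Matrix.GeneralLinearGroup.scalar, e01, e10, e11]
  · rintro ⟨u, rfl⟩
    refine ⟨sroot ι hsq (Matrix.GeneralLinearGroup.scalar (Fin 2) u) * ι (u : K), ?_, ?_⟩
    · rw [Fintype.card_fin, sq, mul_mul_mul_comm, sroot_mul_self, ← map_mul, ← map_mul]
      have : ((Matrix.GeneralLinearGroup.scalar (Fin 2) u : GL (Fin 2) K) :
          Matrix (Fin 2) (Fin 2) K).det = (u : K) * (u : K) := by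
        simp [Matrix.GeneralLinearGroup.scalar, sq]
      rw [this, inv_mul_cancel₀ (mul_ne_zero u.ne_zero u.ne_zero), map_one]
    · rw [lift_coe]
      ext i j
      fin_cases i <;> fin_cases j <;>
        simp [Matrix.GeneralLinearGroup.scalar]

include ι hsq in
/-- `PGL₂(K)` embeds in `PSL₂(F)` when the elements of `K` are squares in `F` -/
theorem exists_pgl_subgroup :
    ∃ H : Subgroup (Matrix.ProjectiveSpecialLinearGroup (Fin 2) F),
      Nonempty (H ≃* Matrix.ProjGenLinGroup (Fin 2) K) := by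
  refine ⟨(glToPSL ι hsq).range, ⟨?_⟩⟩
  have e : GL (Fin 2) K ⧸ Subgroup.center (GL (Fin 2) K) ≃* (glToPSL ι hsq).range :=
    (QuotientGroup.quotientMulEquivOfEq (ker_glToPSL ι hsq)).symm.trans
      (QuotientGroup.quotientKerEquivRange (glToPSL ι hsq))
  exact e.symm

end pgl

section squares

variable {F K : Type*} [Field F] [Fintype F] [Field K] [Fintype K] (ι : K →+* F)

/-- for an extension of even degree (odd characteristic), the small field consists of squares -/
theorem isSquare_of_even (hodd : Odd (Fintype.card F)) {m : ℕ} (hm : Even m)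
    (hK : Fintype.card K ^ m = Fintype.card F) (x : K) (hx : x ≠ 0) : IsSquare (ι x) := by
  have hchar : ringChar F ≠ 2 := by
    intro h
    have := FiniteField.even_card_iff_char_two.1 h
    rw [Nat.odd_iff] at hodd
    omega
  have hιx : ι x ≠ 0 := fun h => hx (ι.injective (by rw [h, map_zero]))
  rw [FiniteField.isSquare_iff hchar hιx]
  obtain ⟨k, hk⟩ : ∃ k, k = Fintype.card K := ⟨_, rfl⟩
  have hkodd : Odd k := by
    have hm0 : m ≠ 0 := by
      rintro rfl
      have h1 : 1 < Fintype.card F := Fintype.one_lt_card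
      rw [← hK, pow_zero] at h1
      exact lt_irrefl _ h1
    rw [← hK, ← hk] at hodd
    exact (Nat.odd_pow_iff hm0).1 hodd
  have hk1 : 1 ≤ k := by rw [hk]; exact Fintype.card_pos
  obtain ⟨m', rfl⟩ := hm
  -- (k - 1) ∣ card F / 2
  have h1 : k ^ 2 - 1 ∣ Fintype.card F - 1 := by
    have := Nat.sub_one_dvd_pow_sub_one (k ^ 2) m'
    rw [← pow_mul, two_mul, hk, hK] at this
    rw [hk]
    exact this
  have h2 : 2 * (k - 1) ∣ k ^ 2 - 1 := by
    obtain ⟨t, ht⟩ := hkodd
    have hk' : k - 1 = 2 * t := by omega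
    have : k ^ 2 - 1 = (2 * (k - 1)) * (t + 1) := by
      rw [hk', ht]
      have : (2 * t + 1) ^ 2 = 4 * t * t + 4 * t + 1 := by ring
      rw [this, Nat.add_sub_cancel]
      ring
    exact Dvd.intro _ this.symm
  obtain ⟨w, hw⟩ := dvd_trans h2 h1
  have h3 : Fintype.card F / 2 = (k - 1) * w := by
    obtain ⟨t, ht⟩ := hodd
    rw [ht] at hw ⊢
    rw [Nat.add_sub_cancel] at hw
    have hw' : 2 * t = 2 * ((k - 1) * w) := by rw [hw]; ring
    omega
  rw [h3, pow_mul, ← map_pow, hk, FiniteField.pow_card_sub_one_eq_one x hx, map_one, one_pow]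

end squares

section card

variable {F K : Type*} [Field F] [Fintype F] [Field K] [Fintype K]

theorem card_center_GL2 :
    Nat.card (Subgroup.center (GL (Fin 2) K)) = Fintype.card K - 1 := by
  rw [Matrix.GeneralLinearGroup.center_eq_range_scalar]
  have hinj : Function.Injective (Matrix.GeneralLinearGroup.scalar (Fin 2) (R := K)) := by
    intro u v huv
    apply Units.ext
    have := congrArg (fun g : GL (Fin 2) K => (g : Matrix (Fin 2) (Fin 2) K) 0 0) huv
    simpa [Matrix.GeneralLinearGroup.scalar] using this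
  rw [← Nat.card_congr (MonoidHom.ofInjective hinj).toEquiv, Nat.card_units,
    Nat.card_eq_fintype_card]

theorem card_PGL2 :
    Nat.card (Matrix.ProjGenLinGroup (Fin 2) K) * (Fintype.card K - 1)
      = (Fintype.card K ^ 2 - 1) * (Fintype.card K ^ 2 - Fintype.card K) := by
  have h1 := Subgroup.card_eq_card_quotient_mul_card_subgroup (Subgroup.center (GL (Fin 2) K))
  rw [card_center_GL2, Matrix.card_GL_field, Fin.prod_univ_two] at h1
  simp only [Fin.val_zero, pow_zero, Fin.val_one, pow_one] at h1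
  rw [h1]
  rfl

theorem card_PSL2_two_mul (hodd : Odd (Fintype.card F)) :
    2 * Nat.card (Matrix.ProjectiveSpecialLinearGroup (Fin 2) F)
      = Fintype.card F * (Fintype.card F ^ 2 - 1) := by
  obtain ⟨q, hq⟩ : ∃ q, q = Fintype.card F := ⟨_, rfl⟩
  rw [← hq] at hodd ⊢
  have hq2 : 2 ≤ q := by rw [hq]; exact Fintype.one_lt_card
  have h1 := Cfsg.Agent.Helper2.card_PSL_mul (F := F) 2 (by norm_num)
  rw [Fin.prod_univ_two, ← hq] at h1
  simp only [Fin.val_zero, pow_zero, Fin.val_one, pow_one] at h1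
  have h3 : Nat.gcd 2 (q - 1) = 2 := by
    obtain ⟨t, ht⟩ := hodd
    rw [ht, Nat.add_sub_cancel]
    exact Nat.gcd_eq_left (Dvd.intro _ rfl)
  rw [h3] at h1
  have hq1 : 0 < q - 1 := by omega
  apply Nat.eq_of_mul_eq_mul_left hq1
  have h6 : q ^ 2 - q = q * (q - 1) := by
    rw [Nat.mul_sub, mul_one, sq]
  rw [h6] at h1
  calc (q - 1) * (2 * Nat.card (Matrix.ProjectiveSpecialLinearGroup (Fin 2) F))
      = 2 * ((q - 1) * Nat.card (Matrix.ProjectiveSpecialLinearGroup (Fin 2) F)) := by ring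
    _ = (q ^ 2 - 1) * (q * (q - 1)) := h1
    _ = (q - 1) * (q * (q ^ 2 - 1)) := by ring

/-- for an extension of odd degree the order of `PGL₂(K)` does not divide that of `PSL₂(F)` -/
theorem not_dvd_of_odd (hodd : Odd (Fintype.card F)) {m : ℕ} (hm : Odd m)
    (hK : Fintype.card K ^ m = Fintype.card F) :
    ¬ Nat.card (Matrix.ProjGenLinGroup (Fin 2) K)
      ∣ Nat.card (Matrix.ProjectiveSpecialLinearGroup (Fin 2) F) := by
  obtain ⟨k, hk⟩ : ∃ k, k = Fintype.card K := ⟨_, rfl⟩
  obtain ⟨q, hq⟩ : ∃ q, q = Fintype.card F := ⟨_, rfl⟩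
  rw [← hk, ← hq] at hK
  have hkodd : Odd k := by
    have hm0 : m ≠ 0 := by
      rintro rfl
      have h1 : 1 < Fintype.card F := Fintype.one_lt_card
      rw [← hq, ← hK, pow_zero] at h1
      exact lt_irrefl _ h1
    rw [← hq, ← hK] at hodd
    exact (Nat.odd_pow_iff hm0).1 hodd
  have hk2 : 2 ≤ k := by rw [hk]; exact Fintype.one_lt_card
  rintro ⟨t, ht⟩
  have hP := card_PGL2 (K := K)
  have hR := card_PSL2_two_mul (F := F) hodd
  rw [← hk] at hP
  rw [← hq] at hR hodd
  obtain ⟨P, hPdef⟩ : ∃ P, P = Nat.card (Matrix.ProjGenLinGroup (Fin 2) K) := ⟨_, rfl⟩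
  rw [← hPdef] at hP ht
  rw [ht] at hR
  -- P = k (k^2 - 1)
  have hk1 : 0 < k - 1 := by omega
  have hP' : P = k * (k ^ 2 - 1) := by
    apply Nat.eq_of_mul_eq_mul_right hk1
    rw [hP]
    have : k ^ 2 - k = k * (k - 1) := by rw [Nat.mul_sub, mul_one, sq]
    rw [this]
    ring
  -- q^2 - 1 = (k^2 - 1) * S
  obtain ⟨S, hS⟩ : ∃ S, S = ∑ i ∈ Finset.range m, (k ^ 2) ^ i := ⟨_, rfl⟩
  have hgs : S * (k ^ 2 - 1) + 1 = q ^ 2 := by
    have := geom_sum_mul_add (k ^ 2 - 1) m
    have hk3 : k ^ 2 - 1 + 1 = k ^ 2 := Nat.sub_add_cancel (Nat.one_le_pow _ _ (by omega))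
    rw [hk3] at this
    rw [hS, this, ← pow_mul, mul_comm 2 m, pow_mul, hK]
  have hSodd : Odd S := by
    rw [hS, Finset.odd_sum_iff_odd_card_odd]
    have : (Finset.range m).filter (fun i => Odd ((k ^ 2) ^ i)) = Finset.range m := by
      apply Finset.filter_true_of_mem
      intro i _
      exact (hkodd.pow).pow
    rw [this, Finset.card_range]
    exact hm
  have hq21 : q ^ 2 - 1 = S * (k ^ 2 - 1) := by omega
  rw [hq21, hP'] at hR
  have hk21 : 0 < k ^ 2 - 1 := by
    have : 2 ^ 2 ≤ k ^ 2 := Nat.pow_le_pow_left hk2 2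
    omega
  have h7 : 2 * (k * t) * (k ^ 2 - 1) = q * S * (k ^ 2 - 1) := by
    calc 2 * (k * t) * (k ^ 2 - 1) = 2 * (k * (k ^ 2 - 1) * t) := by ring
      _ = q * (S * (k ^ 2 - 1)) := hR
      _ = q * S * (k ^ 2 - 1) := by ring
  have h8 := Nat.eq_of_mul_eq_mul_right hk21 h7
  have h9 : Odd (q * S) := hodd.mul hSodd
  rw [← h8] at h9
  rw [Nat.odd_iff] at h9
  omega

end card

end Cfsg.Agent.Helper28.SubfieldPSL2
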