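import Mathlib
import Cfsg.Prelude.Def_Blocks
import Cfsg.Agent.Lib.Helper5.TLDDefs
import Cfsg.Agent.Lib.Helper24.CharLinear
import Cfsg.Agent.S0906
import Cfsg.Agent.S0908
import Cfsg.Agent.S0973
import Cfsg.Agent.S0968

/-!
# S4507, piece ROOT (helper28, for helper5's farm-out)

`exists_root`: a block of positive defect of a group with `p ‖ |G|` has a Sylow `p`-subgroup `P` of
order `p` as a defect group, and a root `(b, θ)` in `C_G(P)`.
-/

set_option autoImplicit false

namespace Cfsg.Agent.Helper5.TLG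

open scoped ComplexConjugate
open Cfsg Cfsg.Agent.Helper5.TLD

section RootAux

variable {G : Type*} [Group G]

/-- transport of a root along an equality of subgroups -/
private theorem root_transport (M : Ideal AlgInt) (B : Set (IrrCharacter G)) (D : Subgroup G)
    {H H' : Subgroup G} (h : H = H') (b0 : Set (IrrCharacter H)) (θ0 : IrrCharacter H)
    (hθ0 : θ0 ∈ b0) (hind : IsInducedBlock M H b0 B)
    (hker : ∀ x : H, (x : G) ∈ D → (θ0 : H → ℂ) x = (θ0 : H → ℂ) 1) :
    ∃ (b : Set (IrrCharacter H')) (θ : IrrCharacter H'), IsInducedBlock M H' b B ∧ θ ∈ b ∧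
      ∀ x : H', (x : G) ∈ D → (θ : H' → ℂ) x = (θ : H' → ℂ) 1 := by
  subst h
  exact ⟨b0, θ0, hind, hθ0, hker⟩

end RootAux

section Root

variable (p : ℕ) [Fact p.Prime] {G : Type*} [Group G] [Finite G]

/-- PIECE ROOT. -/
theorem exists_root (M : Ideal AlgInt) (hM : IsPModular p M) (hdiv : p ∣ Nat.card G)
    (hsq : ¬ p ^ 2 ∣ Nat.card G) (B : Set (IrrCharacter G)) (hB : IsPBlock M B)
    (hd : 0 < blockDefect p B) :
    ∃ P : Sylow p G, Nat.card P = p ∧ IsDefectGroup p M B P ∧
      ∃ (b : Set (IrrCharacter (Subgroup.centralizer ((P : Subgroup G) : Set G))))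
        (θ : IrrCharacter (Subgroup.centralizer ((P : Subgroup G) : Set G))),
        IsInducedBlock M (Subgroup.centralizer ((P : Subgroup G) : Set G)) b B ∧ θ ∈ b ∧
        ∀ x : Subgroup.centralizer ((P : Subgroup G) : Set G), (x : G) ∈ (P : Subgroup G) →
          (θ : Subgroup.centralizer ((P : Subgroup G) : Set G) → ℂ) x =
            (θ : Subgroup.centralizer ((P : Subgroup G) : Set G) → ℂ) 1 := by
  classical
  have hprime : p.Prime := Fact.out
  have hGne : Nat.card G ≠ 0 := Nat.card_pos.ne'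
  -- a defect group `D`
  obtain ⟨g, hg⟩ := Cfsg.Agent.S0906.result p M hM B hB
  let Pg : Sylow p (Subgroup.centralizer ({g} : Set G)) := default
  set D : Subgroup G := (Pg : Subgroup (Subgroup.centralizer ({g} : Set G))).map
    (Subgroup.centralizer ({g} : Set G)).subtype with hDdef
  have hD : IsDefectGroup p M B D := ⟨g, hg, Pg, rfl⟩
  have hDcard := Cfsg.Agent.S0908.result p M hM B hB D hD
  have hdef1 : blockDefect p B = 1 := by
    by_contra hne
    have h2 : 2 ≤ blockDefect p B := by omega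
    apply hsq
    calc p ^ 2 ∣ p ^ blockDefect p B := pow_dvd_pow p h2
      _ = Nat.card D := hDcard.symm
      _ ∣ Nat.card G := Subgroup.card_subgroup_dvd_card D
  rw [hdef1, pow_one] at hDcard
  have hfac : (Nat.card G).factorization p = 1 := by
    have h1 : 0 < (Nat.card G).factorization p :=
      hprime.factorization_pos_of_dvd hGne hdiv
    have h2 : ¬ 2 ≤ (Nat.card G).factorization p := fun h =>
      hsq ((hprime.pow_dvd_iff_le_factorization hGne).mpr h)
    omega
  have hDcard' : Nat.card D = p ^ (Nat.card G).factorization p := by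
    rw [hfac, pow_one, hDcard]
  refine ⟨Sylow.ofCard D hDcard', hDcard, hD, ?_⟩
  -- `D` is abelian
  have hDcomm : ∀ a ∈ D, ∀ b ∈ D, a * b = b * a := by
    intro a ha b hb
    have : IsCyclic D := isCyclic_of_prime_card hDcard
    have := (IsCyclic.commGroup (α := D)).mul_comm ⟨a, ha⟩ ⟨b, hb⟩
    exact congrArg Subtype.val this
  have hDle : D ≤ Subgroup.centralizer (D : Set G) := fun a ha =>
    Subgroup.mem_centralizer_iff.mpr fun b hb => hDcomm b hb a ha
  have hL : D ⊔ Subgroup.centralizer (D : Set G) = Subgroup.centralizer (D : Set G) :=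
    sup_eq_right.mpr hDle
  -- the root in `L = D ⊔ C_G(D)`
  set L : Subgroup G := D ⊔ Subgroup.centralizer (D : Set G) with hLdef
  obtain ⟨⟨b0, hb0D, hb0ind⟩, -⟩ := Cfsg.Agent.S0973.result p M hM B hB D hD
  have hP' : IsPGroup p (D.subgroupOf L) := by
    have hcard : Nat.card (D.subgroupOf L) = p ^ 1 := by
      rw [pow_one, ← hDcard]
      exact Nat.card_congr (Subgroup.subgroupOfEquivOfLe (le_sup_left : D ≤ L)).toEquiv
    exact IsPGroup.of_card hcard
  have hcent : Subgroup.centralizer ((D.subgroupOf L : Subgroup L) : Set L) = ⊤ := by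
    rw [eq_top_iff]
    intro x _
    rw [Subgroup.mem_centralizer_iff]
    intro y hy
    have hx : (x : G) ∈ Subgroup.centralizer (D : Set G) := hL ▸ x.2
    have hy' : (y : G) ∈ D := Subgroup.mem_subgroupOf.mp hy
    apply Subtype.ext
    exact Subgroup.mem_centralizer_iff.mp hx (y : G) hy'
  have hG' : D.subgroupOf L ⊔ Subgroup.centralizer ((D.subgroupOf L : Subgroup L) : Set L) = ⊤ := by
    rw [hcent]; exact sup_top_eq _
  obtain ⟨⟨θ0, ⟨hθ0b, hθ0P⟩, -⟩, -, -⟩ := Cfsg.Agent.S0968.result p M hM (D.subgroupOf L) hP' hG'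
    b0 hb0ind.1 hb0D
  exact root_transport M B D hL b0 θ0 hθ0b hb0ind
    (fun x hx => hθ0P x (Subgroup.mem_subgroupOf.mpr hx))

end Root

end Cfsg.Agent.Helper5.TLG
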