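import Mathlib
import Cfsg.Prelude.Def_Blocks
import Cfsg.Agent.Lib.Helper5.TLDDefs
import Cfsg.Agent.Lib.Helper20.TLDDDICH
import Cfsg.Agent.Lib.Helper18.TLDDDEGCore

/-!
# S4503 (helper14's farm-out), PIECE THA1 (helper28)

`char_eq_sum_FP`: for `χ` in a block `B` with root `θ` (inertia group `T`, `e = |T : C|`, `f = |N : C|`):
* `χ a · |T| = θ 1 · Σ_{n ∈ N} FP_θ(χ)(n a n⁻¹)` for `a ∈ P`, `a ≠ 1`;
* `FP_θ(χ)(1) = z` gives `χ 1 = (f / e) θ 1 z + p r` with `r` a natural number.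

Both from the expansion `expand_FP` at `c = 1`, the dichotomy `FP_dichotomy`, `FP_conj` and
`card_orbit_theta`.  For the first part the expansion is averaged over `N` (so no fibre counting is
needed): `|N| χ a = Σ_n χ (n a n⁻¹) = Σ_{φ ∈ O} θ 1 Σ_n FP_θ(χ)(n a n⁻¹) = |O| θ 1 Σ_n …`, `|N| = |O| |T|`.
-/

set_option autoImplicit false
set_option linter.unusedSectionVars false
set_option linter.unusedVariables false
set_option linter.style.haveILetI false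

namespace Cfsg.Agent.Helper14.BRB

open scoped ComplexConjugate
open Cfsg Cfsg.Agent.Helper24 Cfsg.Agent.Helper5.TLD

universe u

variable {G : Type u} [Group G] [Fintype G] (p : ℕ) [Fact p.Prime]

variable (P : Sylow p G)

local notation "𝒞" => Subgroup.centralizer ((P : Subgroup G) : Set G)
local notation "𝒩" => Subgroup.normalizer ((P : Subgroup G) : Set G)

/-- `|N| = (f / e) |T|` -/
theorem THA1_card_normalizer (T : Subgroup G) (hCT : 𝒞 ≤ T) (hTN : T ≤ 𝒩)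
    (e f : ℕ) (he : (𝒞).relIndex T = e) (hf : (𝒞).relIndex 𝒩 = f) :
    Nat.card 𝒩 = f / e * Nat.card T := by
  have hmul := Subgroup.relIndex_mul_relIndex _ T _ hCT hTN
  rw [he, hf] at hmul
  have he0 : e ≠ 0 := by
    rw [← he, Subgroup.relIndex]
    exact Subgroup.index_ne_zero_of_finite
  have h1 : T.relIndex 𝒩 = f / e := by
    rw [← hmul, Nat.mul_div_cancel_left _ (Nat.pos_of_ne_zero he0)]
  rw [← h1]
  have h2 := Subgroup.card_mul_index (T.subgroupOf 𝒩)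
  rw [Nat.card_congr (Subgroup.subgroupOfEquivOfLe hTN).toEquiv] at h2
  rw [← h2, Subgroup.relIndex, mul_comm]

/-- PIECE THA1. -/
theorem char_eq_sum_FP (M : Ideal AlgInt) (hM : IsPModular p M) (hP : Nat.card P = p)
    (B : Set (IrrCharacter G)) (hB : IsPBlock M B)
    (b : Set (IrrCharacter 𝒞)) (hind : IsInducedBlock M 𝒞 b B)
    (θ : IrrCharacter 𝒞) (hθ : θ ∈ b)
    (hθP : ∀ x : 𝒞, (x : G) ∈ (P : Subgroup G) → (θ : 𝒞 → ℂ) x = (θ : 𝒞 → ℂ) 1)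
    (T : Subgroup G)
    (hT : ∀ g : G, g ∈ T ↔ (g ∈ 𝒩 ∧
      ∀ c c' : 𝒞, (c' : G) = g * c * g⁻¹ → (θ : 𝒞 → ℂ) c' = (θ : 𝒞 → ℂ) c))
    (e f : ℕ) (he : (𝒞).relIndex T = e) (hf : (𝒞).relIndex 𝒩 = f)
    (χ : IrrCharacter G) (hχ : χ ∈ B) :
    (∀ a : G, a ∈ (P : Subgroup G) → a ≠ 1 →
      (χ : G → ℂ) a * (Nat.card T : ℂ) = (θ : 𝒞 → ℂ) 1 *
        ∑ᶠ n ∈ (𝒩 : Set G), FP p P (θ : 𝒞 → ℂ) (χ : G → ℂ) (n * a * n⁻¹)) ∧
    (∀ z : ℕ, FP p P (θ : 𝒞 → ℂ) (χ : G → ℂ) 1 = (z : ℂ) →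
      ∃ r : ℕ, charDegree (χ : G → ℂ) = f / e * charDegree (θ : 𝒞 → ℂ) * z + p * r) := by
  classical
  haveI : Fintype (IrrCharacter 𝒞) := irrFintype
  have hχcf : IsClassFunction G (χ : G → ℂ) := isClassFunction_of_isIrrCharacter χ.2
  have hdich : ∀ φ : IrrCharacter 𝒞,
      (∀ x : 𝒞, (x : G) ∈ (P : Subgroup G) → (φ : 𝒞 → ℂ) x = (φ : 𝒞 → ℂ) 1) →
      (∃ n ∈ 𝒩, ∀ c c' : 𝒞, (c' : G) = n * c * n⁻¹ → (φ : 𝒞 → ℂ) c = (θ : 𝒞 → ℂ) c') ∨
      (∀ a : G, a ∈ (P : Subgroup G) → a ≠ 1 → FP p P (φ : 𝒞 → ℂ) (χ : G → ℂ) a = 0) :=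
    fun φ hφP => FP_dichotomy p M hM P hP B hB b hind θ hθ hθP χ hχ φ hφP
  -- the orbit of `θ`
  set O : Set (IrrCharacter 𝒞) := {φ | ∃ n ∈ 𝒩, ∀ c c' : 𝒞, (c' : G) = n * c * n⁻¹ →
    (φ : 𝒞 → ℂ) c = (θ : 𝒞 → ℂ) c'} with hO
  set S : Set (IrrCharacter 𝒞) := {φ | ∀ x : 𝒞, (x : G) ∈ (P : Subgroup G) →
    (φ : 𝒞 → ℂ) x = (φ : 𝒞 → ℂ) 1} with hS
  have hcardO : Nat.card O = f / e := card_orbit_theta p P θ T hT e f he hf
  have hnC : ∀ n ∈ 𝒩, ∀ y ∈ 𝒞, n * y * n⁻¹ ∈ 𝒞 := by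
    intro n hn y hy
    rw [Subgroup.mem_centralizer_iff] at hy ⊢
    intro u hu
    have hu' : n⁻¹ * u * n ∈ (P : Subgroup G) := by
      have := (Subgroup.mem_normalizer_iff.1 (Subgroup.inv_mem _ hn) u).1 hu
      simpa using this
    have h2 := hy _ hu'
    calc u * (n * y * n⁻¹) = n * ((n⁻¹ * u * n) * y) * n⁻¹ := by group
      _ = n * (y * (n⁻¹ * u * n)) * n⁻¹ := by rw [h2]
      _ = n * y * n⁻¹ * u := by group
  have hOS : O ⊆ S := by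
    rintro φ ⟨n, hn, hφ⟩ x hx
    have hx' : n * (x : G) * n⁻¹ ∈ (P : Subgroup G) :=
      (Subgroup.mem_normalizer_iff.1 hn (x : G)).1 hx
    have hxC : n * (x : G) * n⁻¹ ∈ 𝒞 := hnC n hn _ x.2
    rw [hφ x ⟨n * (x : G) * n⁻¹, hxC⟩ rfl, hφ 1 1 (by simp)]
    exact hθP _ hx'
  have hSfin : S.Finite := Set.toFinite S
  -- the expansion at `c = 1`, split along the orbit
  have hexp : ∀ a : G, a ∈ (P : Subgroup G) → (χ : G → ℂ) a =
      ∑ φ ∈ hSfin.toFinset.filter (fun φ => φ ∈ O),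
        FP p P (φ : 𝒞 → ℂ) (χ : G → ℂ) a * (φ : 𝒞 → ℂ) 1 +
      ∑ φ ∈ hSfin.toFinset.filter (fun φ => ¬ φ ∈ O),
        FP p P (φ : 𝒞 → ℂ) (χ : G → ℂ) a * (φ : 𝒞 → ℂ) 1 := by
    intro a ha
    have h1 := expand_FP p P hP (χ : G → ℂ) hχcf a ha (1 : 𝒞)
      (by
        rw [orderOf_one]
        exact (Fact.out : p.Prime).not_dvd_one)
    rw [Subgroup.coe_one, mul_one] at h1
    rw [finsum_mem_eq_finite_toFinset_sum _ hSfin,
      ← Finset.sum_filter_add_sum_filter_not hSfin.toFinset (fun φ => φ ∈ O)] at h1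
    exact h1
  have hcard : (hSfin.toFinset.filter (fun φ => φ ∈ O)).card = f / e := by
    rw [← hcardO, Nat.card_eq_fintype_card, ← Set.toFinset_card]
    congr 1
    ext φ
    rw [Finset.mem_filter, Set.Finite.mem_toFinset, Set.mem_toFinset]
    exact ⟨fun h => h.2, fun h => ⟨hOS h, h⟩⟩
  have hCN : 𝒞 ≤ 𝒩 := Subgroup.centralizer_le_normalizer _
  have hTN : T ≤ 𝒩 := fun g hg => ((hT g).mp hg).1
  have hCT : 𝒞 ≤ T := by
    intro g hg
    rw [hT]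
    refine ⟨hCN hg, ?_⟩
    intro c c' hcc'
    have hcl := isClassFunction_of_isIrrCharacter θ.2
    have h6 : c' = (⟨g, hg⟩ : 𝒞) * c * (⟨g, hg⟩ : 𝒞)⁻¹ :=
      Subtype.ext (by simpa using hcc')
    rw [h6]
    exact hcl c ⟨g, hg⟩
  have hcardN : Nat.card 𝒩 = f / e * Nat.card T :=
    THA1_card_normalizer p P T hCT hTN e f he hf
  have hfe0 : ((f / e : ℕ) : ℂ) ≠ 0 := by
    have hN0 : Nat.card 𝒩 ≠ 0 := Nat.card_pos.ne'
    rw [hcardN] at hN0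
    exact_mod_cast (mul_ne_zero_iff.1 hN0).1
  refine ⟨?_, ?_⟩
  · -- part (i)
    intro a ha ha1
    have hNfin : ((𝒩 : Subgroup G) : Set G).Finite := Set.toFinite _
    set Nf : Finset G := hNfin.toFinset with hNf
    have hmemNf : ∀ n, n ∈ Nf ↔ n ∈ 𝒩 := fun n => by
      rw [hNf, Set.Finite.mem_toFinset]
      rfl
    rw [finsum_mem_eq_finite_toFinset_sum _ hNfin]
    set Sθ : ℂ := ∑ n ∈ Nf, FP p P (θ : 𝒞 → ℂ) (χ : G → ℂ) (n * a * n⁻¹) with hSθ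
    -- the expansion at `n a n⁻¹`
    have hN : ∀ n ∈ Nf, (χ : G → ℂ) a =
        ∑ φ ∈ hSfin.toFinset.filter (fun φ => φ ∈ O),
          FP p P (φ : 𝒞 → ℂ) (χ : G → ℂ) (n * a * n⁻¹) * (θ : 𝒞 → ℂ) 1 := by
      intro n hn
      rw [hmemNf] at hn
      have hna : n * a * n⁻¹ ∈ (P : Subgroup G) := (Subgroup.mem_normalizer_iff.1 hn a).1 ha
      have hna1 : n * a * n⁻¹ ≠ 1 := by
        intro h
        apply ha1
        have h3 : a = n⁻¹ * (n * a * n⁻¹) * n := by group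
        rw [h3, h]
        group
      have h1 := hexp _ hna
      rw [hχcf a n] at h1
      have h2 : ∑ φ ∈ hSfin.toFinset.filter (fun φ => ¬ φ ∈ O),
          FP p P (φ : 𝒞 → ℂ) (χ : G → ℂ) (n * a * n⁻¹) * (φ : 𝒞 → ℂ) 1 = 0 := by
        refine Finset.sum_eq_zero (fun φ hφ => ?_)
        rw [Finset.mem_filter, Set.Finite.mem_toFinset] at hφ
        rcases hdich φ hφ.1 with h | h
        · exact absurd h hφ.2
        · rw [h _ hna hna1, zero_mul]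
      rw [h2, add_zero] at h1
      rw [h1]
      refine Finset.sum_congr rfl (fun φ hφ => ?_)
      rw [Finset.mem_filter] at hφ
      obtain ⟨m, hm, hφm⟩ := hφ.2
      rw [hφm 1 1 (by simp)]
    -- the sum over `N` of the `φ`-part, `φ` in the orbit
    have hφsum : ∀ φ ∈ hSfin.toFinset.filter (fun φ => φ ∈ O),
        ∑ n ∈ Nf, FP p P (φ : 𝒞 → ℂ) (χ : G → ℂ) (n * a * n⁻¹) = Sθ := by
      intro φ hφ
      rw [Finset.mem_filter] at hφ
      obtain ⟨m, hm, hφm⟩ := hφ.2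
      rw [hSθ]
      refine Finset.sum_bij (fun n _ => m * n) ?_ ?_ ?_ ?_
      · intro n hn
        rw [hmemNf] at hn ⊢
        exact Subgroup.mul_mem _ hm hn
      · intro n₁ _ n₂ _ h
        exact mul_left_cancel h
      · intro n hn
        rw [hmemNf] at hn
        refine ⟨m⁻¹ * n, ?_, by group⟩
        rw [hmemNf]
        exact Subgroup.mul_mem _ (Subgroup.inv_mem _ hm) hn
      · intro n _
        rw [FP_conj p P (θ : 𝒞 → ℂ) (φ : 𝒞 → ℂ) (χ : G → ℂ) hχcf m hm hφm (n * a * n⁻¹)]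
        congr 1
        group
    have hsumN : ∑ n ∈ Nf, (χ : G → ℂ) a = (Nat.card 𝒩 : ℂ) * (χ : G → ℂ) a := by
      have hNfcard : Nf.card = Nat.card 𝒩 := by
        rw [hNf, ← Set.ncard_eq_toFinset_card _ hNfin, ← Nat.card_coe_set_eq]
        rfl
      rw [Finset.sum_const, nsmul_eq_mul, hNfcard]
    have hmain : (Nat.card 𝒩 : ℂ) * (χ : G → ℂ) a = ((f / e : ℕ) : ℂ) * (Sθ * (θ : 𝒞 → ℂ) 1) := by
      rw [← hsumN, Finset.sum_congr rfl hN, Finset.sum_comm]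
      have : ∀ φ ∈ hSfin.toFinset.filter (fun φ => φ ∈ O),
          ∑ n ∈ Nf, FP p P (φ : 𝒞 → ℂ) (χ : G → ℂ) (n * a * n⁻¹) * (θ : 𝒞 → ℂ) 1 =
            Sθ * (θ : 𝒞 → ℂ) 1 := by
        intro φ hφ
        rw [← Finset.sum_mul, hφsum φ hφ]
      rw [Finset.sum_congr rfl this, Finset.sum_const, nsmul_eq_mul, hcard]
    rw [hcardN] at hmain
    push_cast at hmain
    have h5 : ((f / e : ℕ) : ℂ) * ((χ : G → ℂ) a * (Nat.card T : ℂ)) =
        ((f / e : ℕ) : ℂ) * ((θ : 𝒞 → ℂ) 1 * Sθ) := by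
      rw [← mul_assoc] at hmain
      linear_combination hmain
    exact mul_left_cancel₀ hfe0 h5
  · -- part (ii)
    intro z hz
    have hOval : ∀ φ ∈ O, (φ : 𝒞 → ℂ) 1 = (θ : 𝒞 → ℂ) 1 ∧
        FP p P (φ : 𝒞 → ℂ) (χ : G → ℂ) 1 = (z : ℂ) := by
      rintro φ ⟨n, hn, hφ⟩
      constructor
      · exact hφ 1 1 (by simp)
      · rw [FP_conj p P (θ : 𝒞 → ℂ) (φ : 𝒞 → ℂ) (χ : G → ℂ) hχcf n hn hφ 1]
        have : n * 1 * n⁻¹ = 1 := by group
        rw [this, hz]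
    have hoff : ∀ φ ∈ S, φ ∉ O → ∃ m : ℕ,
        FP p P (φ : 𝒞 → ℂ) (χ : G → ℂ) 1 * (φ : 𝒞 → ℂ) 1 = ((p * m : ℕ) : ℂ) := by
      intro φ hφS hφO
      rcases hdich φ hφS with h | h
      · exact absurd h hφO
      · have hch := isCharacter_FP p P hP φ hφS χ
        obtain ⟨m, hm⟩ := isCharacter_vanish_dvd
          (fun a : (P : Subgroup G) => FP p P (φ : 𝒞 → ℂ) (χ : G → ℂ) (a : G)) hch
          (by
            intro a ha
            exact h (a : G) a.2 (fun h0 => ha (Subtype.ext h0)))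
        have hm' : FP p P (φ : 𝒞 → ℂ) (χ : G → ℂ) 1 = ((p * m : ℕ) : ℂ) := by
          have := hm
          simp only [Subgroup.coe_one] at this
          rw [this, hP]
        refine ⟨m * charDegree (φ : 𝒞 → ℂ), ?_⟩
        rw [hm', irr_one_eq_charDegree φ.2]
        push_cast
        ring
    choose! mm hmm using hoff
    have h1 := hexp 1 (P : Subgroup G).one_mem
    have hsum1 : ∑ φ ∈ hSfin.toFinset.filter (fun φ => φ ∈ O),
        FP p P (φ : 𝒞 → ℂ) (χ : G → ℂ) 1 * (φ : 𝒞 → ℂ) 1 =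
        ((f / e * charDegree (θ : 𝒞 → ℂ) * z : ℕ) : ℂ) := by
      have hconst : ∀ φ ∈ hSfin.toFinset.filter (fun φ => φ ∈ O),
          FP p P (φ : 𝒞 → ℂ) (χ : G → ℂ) 1 * (φ : 𝒞 → ℂ) 1 = (z : ℂ) * (θ : 𝒞 → ℂ) 1 := by
        intro φ hφ
        rw [Finset.mem_filter] at hφ
        obtain ⟨h2, h3⟩ := hOval φ hφ.2
        rw [h2, h3]
      rw [Finset.sum_congr rfl hconst, Finset.sum_const, nsmul_eq_mul, hcard,
        irr_one_eq_charDegree θ.2]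
      push_cast
      ring
    have hsum2 : ∑ φ ∈ hSfin.toFinset.filter (fun φ => ¬ φ ∈ O),
        FP p P (φ : 𝒞 → ℂ) (χ : G → ℂ) 1 * (φ : 𝒞 → ℂ) 1 =
        ((p * ∑ φ ∈ hSfin.toFinset.filter (fun φ => ¬ φ ∈ O), mm φ : ℕ) : ℂ) := by
      rw [Finset.mul_sum]
      push_cast
      refine Finset.sum_congr rfl fun φ hφ => ?_
      rw [Finset.mem_filter, Set.Finite.mem_toFinset] at hφ
      rw [hmm φ hφ.1 hφ.2]
      push_cast
      ring
    rw [hsum1, hsum2, irr_one_eq_charDegree χ.2] at h1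
    refine ⟨∑ φ ∈ hSfin.toFinset.filter (fun φ => ¬ φ ∈ O), mm φ, ?_⟩
    exact_mod_cast h1

end Cfsg.Agent.Helper14.BRB
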