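import Mathlib

/-!
# S4507, piece EXTA (helper28, for helper5's farm-out)

`exists_ringEquiv_extends`: every ring automorphism of a subfield of `ℂ` extends to `ℂ`.
-/

set_option autoImplicit false

namespace Cfsg.Agent.Helper5.TLG

section Ext

/-- PIECE EXTA: every ring automorphism of a subfield of `ℂ` extends to `ℂ`. -/
theorem exists_ringEquiv_extends (F : Subfield ℂ) (τ : F ≃+* F) :
    ∃ σ : ℂ ≃+* ℂ, ∀ x : F, σ (x : ℂ) = ((τ x : F) : ℂ) := by
  classical
  obtain ⟨ι, v, hv⟩ := exists_isTranscendenceBasis' F ℂ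
  have := IsAlgClosed.isAlgClosure_of_transcendence_basis v hv
  let e : Algebra.adjoin F (Set.range v) ≃+* Algebra.adjoin F (Set.range v) :=
    (hv.1.aevalEquiv.symm.toRingEquiv.trans (MvPolynomial.mapEquiv ι τ)).trans
      hv.1.aevalEquiv.toRingEquiv
  refine ⟨IsAlgClosure.equivOfEquiv ℂ ℂ e, fun x => ?_⟩
  have h1 : (x : ℂ) = algebraMap (Algebra.adjoin F (Set.range v)) ℂ
      (algebraMap F (Algebra.adjoin F (Set.range v)) x) := rfl
  have h2 : e (algebraMap F (Algebra.adjoin F (Set.range v)) x) =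
      algebraMap F (Algebra.adjoin F (Set.range v)) (τ x) := by
    have h3 : hv.1.aevalEquiv.symm (algebraMap F (Algebra.adjoin F (Set.range v)) x) =
        MvPolynomial.C x := by
      rw [AlgEquiv.symm_apply_eq, ← MvPolynomial.algebraMap_eq, AlgEquiv.commutes]
    show hv.1.aevalEquiv (MvPolynomial.mapEquiv ι τ
      (hv.1.aevalEquiv.symm (algebraMap F (Algebra.adjoin F (Set.range v)) x))) = _
    rw [h3, MvPolynomial.mapEquiv_apply, MvPolynomial.map_C, ← MvPolynomial.algebraMap_eq,
      AlgEquiv.commutes]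
    rfl
  rw [h1, IsAlgClosure.equivOfEquiv_algebraMap, h2]
  rfl

end Ext

end Cfsg.Agent.Helper5.TLG
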