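import Mathlib
import Cfsg.Agent.Lib.Helper5.TLRDefs

set_option autoImplicit false

/-!
# S4442 lattice side, LAYER B, piece WITT: the coefficient ring `WR p`
-/

namespace Cfsg.Agent.Helper5.TLR

section Witt

variable (p : ℕ) [Fact p.Prime]

/-- the coefficient ring: Witt vectors of the algebraic closure of `F_p`. -/
abbrev WR : Type := WittVector p (AlgebraicClosure (ZMod p))

instance punif_WR : PUnif (WR p) p := ⟨WittVector.irreducible p⟩

/-- PIECE WITT-1. -/
instance charZero_WR : CharZero (WR p) := by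
  obtain ⟨q, hq⟩ := CharP.exists (WR p)
  rcases CharP.char_is_prime_or_zero (WR p) q with hqp | hq0
  · exfalso
    have h1 : ((q : ℕ) : WR p) = 0 := CharP.cast_eq_zero _ q
    have h2 : ((q : ℕ) : AlgebraicClosure (ZMod p)) = 0 := by
      have := congrArg (WittVector.constantCoeff (p := p) (R := AlgebraicClosure (ZMod p))) h1
      rw [map_natCast, map_zero] at this
      exact this
    have h3 : p ∣ q := (CharP.cast_eq_zero_iff (AlgebraicClosure (ZMod p)) p q).mp h2
    have h4 : q = p := ((Nat.prime_dvd_prime_iff_eq Fact.out hqp).mp h3).symm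
    subst h4
    exact WittVector.p_nonzero q _ h1
  · subst hq0
    exact CharP.charP_to_charZero _

/-- PIECE WITT-2. -/
instance isAlgClosed_kk_WR : IsAlgClosed (kk (WR p)) := by
  have e1 : kk (WR p) ≃+* (WR p ⧸ Ideal.span {(p : WR p)}) :=
    Ideal.quotEquivOfEq (maximalIdeal_eq_span_p p)
  have e2 : (WR p ⧸ Ideal.span {(p : WR p)}) ≃+* AlgebraicClosure (ZMod p) :=
    WittVector.quotientPEquiv
  exact IsAlgClosed.of_ringEquiv _ _ (e1.trans e2).symm

end Witt

end Cfsg.Agent.Helper5.TLR
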