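import Mathlib
import Cfsg.Agent.Lib.Helper5.TLRDefs
import Cfsg.Agent.Lib.Helper28.TLBWITT

set_option autoImplicit false

/-!
# S4442 lattice side, LAYER B, piece J-R: `WR p` embeds in `ℂ`
-/

namespace Cfsg.Agent.Helper5.TLR

open Cardinal

section Witt

variable (p : ℕ) [Fact p.Prime]

theorem jr_mk_closure_fp : #(AlgebraicClosure (ZMod p)) ≤ ℵ₀ := by
  have h1 := Algebra.IsAlgebraic.cardinalMk_le_max (ZMod p) (AlgebraicClosure (ZMod p))
  refine h1.trans (max_le ?_ le_rfl)
  exact (Cardinal.lt_aleph0_of_finite _).le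

theorem jr_two_le : (2 : Cardinal) ≤ #(AlgebraicClosure (ZMod p)) :=
  Cardinal.two_le_iff.mpr ⟨0, 1, zero_ne_one⟩

theorem jr_mk_WR : #(WR p) = 𝔠 := by
  have h1 : #(WR p) = #(ℕ → AlgebraicClosure (ZMod p)) := by
    apply le_antisymm
    · refine Cardinal.mk_le_of_injective (f := fun x : WR p => x.coeff) ?_
      intro x y h
      exact WittVector.ext (fun n => congrFun h n)
    · refine Cardinal.mk_le_of_injective (f := fun c : ℕ → AlgebraicClosure (ZMod p) =>
        (WittVector.mk p c : WR p)) ?_
      intro x y h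
      funext n
      have := congrArg (fun w : WR p => w.coeff n) h
      simpa using this
  rw [h1, Cardinal.mk_arrow]
  simp only [Cardinal.mk_eq_aleph0, Cardinal.lift_id]
  rw [Cardinal.power_eq_two_power le_rfl (jr_two_le p) (jr_mk_closure_fp p),
    Cardinal.two_power_aleph0]

theorem jr_mk_frac : #(FractionRing (WR p)) = 𝔠 := by
  apply le_antisymm
  · exact (IsLocalization.cardinalMk_le (nonZeroDivisors (WR p))).trans (jr_mk_WR p).le
  · rw [← jr_mk_WR p]
    exact Cardinal.mk_le_of_injective (IsFractionRing.injective (WR p) (FractionRing (WR p)))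

theorem jr_mk_closure : #(AlgebraicClosure (FractionRing (WR p))) = 𝔠 := by
  apply le_antisymm
  · have h1 := Algebra.IsAlgebraic.cardinalMk_le_max (FractionRing (WR p))
      (AlgebraicClosure (FractionRing (WR p)))
    rw [jr_mk_frac] at h1
    exact h1.trans (max_le le_rfl aleph0_le_continuum)
  · rw [← jr_mk_frac p]
    exact Cardinal.mk_le_of_injective
      (algebraMap (FractionRing (WR p)) (AlgebraicClosure (FractionRing (WR p)))).injective

/-- PIECE J-R. -/
theorem exists_WR_embedding : ∃ j : WR p →+* ℂ, Function.Injective j := by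
  have hK : ℵ₀ < #(AlgebraicClosure (FractionRing (WR p))) := by
    rw [jr_mk_closure]; exact aleph0_lt_continuum
  have hKL : Nonempty (AlgebraicClosure (FractionRing (WR p)) ≃ ℂ) := by
    rw [← Cardinal.eq, jr_mk_closure, Cardinal.mk_complex]
  obtain ⟨e⟩ := IsAlgClosed.ringEquiv_of_equiv_of_charZero hK hKL
  refine ⟨(e : AlgebraicClosure (FractionRing (WR p)) →+* ℂ).comp
    ((algebraMap (FractionRing (WR p)) (AlgebraicClosure (FractionRing (WR p)))).comp
      (algebraMap (WR p) (FractionRing (WR p)))), ?_⟩
  intro a b hab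
  simp only [RingHom.coe_comp, Function.comp_apply, RingHom.coe_coe] at hab
  have h1 := e.injective hab
  have h2 := (algebraMap (FractionRing (WR p)) (AlgebraicClosure (FractionRing (WR p)))).injective h1
  exact IsFractionRing.injective (WR p) (FractionRing (WR p)) h2

end Witt

end Cfsg.Agent.Helper5.TLR
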