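import Mathlib
import Cfsg.Prelude.Def_Blocks
import Cfsg.Agent.Lib.Helper5.TLRDefs
import Cfsg.Agent.Lib.Helper5.TLDDefs
import Cfsg.Agent.Lib.Helper24.CharLinear
import Cfsg.Agent.Lib.Helper24.CharOrtho
import Cfsg.Agent.Lib.Helper24.CharComplete
import Cfsg.Agent.Lib.Helper24.CharCentral
import Cfsg.Agent.Lib.Helper24.TLTLCCore

/-!
# S4442 (blocks of defect one), LAYER C', piece CLAUSE (helper28, for helper5's farm-out)

`central_clause_gen`: helper24's `central_clause` for a general central element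
`Z = Σ_h w h • ρ h` (`w` a class function with values in `R`) of a lattice `ρ` over a domain `R`.
-/

set_option autoImplicit false

namespace Cfsg.Agent.Helper5.TLD

open scoped ComplexConjugate
open Cfsg Cfsg.Agent.Helper5.TLR

section ClauseAux

variable {R : Type*} [CommRing R] [IsDomain R] {G : Type*} [Group G] [Fintype G]

/-- For an irreducible character `χ` and a class function `a`:
`Σ_h a h χ (g h) = (Σ_h a h χ h) / χ 1 * χ g`. -/
private theorem clause_weighted {χ : G → ℂ} (hχ : IsIrrCharacter G χ) (a : G → ℂ)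
    (ha : ∀ g h : G, a (g * h * g⁻¹) = a h) (g : G) :
    ∑ h : G, a h * χ (g * h) = (∑ h : G, a h * χ h) / χ 1 * χ g := by
  have hcard : (Nat.card G : ℂ) ≠ 0 := by exact_mod_cast (Nat.card_pos (α := G)).ne'
  have h0 : ∀ y : G, ∑ h : G, a h * χ (g * (y * h * y⁻¹)) = ∑ h : G, a h * χ (g * h) := by
    intro y
    rw [← Equiv.sum_comp (MulAut.conj y).toEquiv (fun h => a h * χ (g * h))]
    refine Finset.sum_congr rfl fun h _ => ?_
    simp only [MulEquiv.toEquiv_eq_coe, MulEquiv.coe_toEquiv, MulAut.conj_apply]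
    rw [ha]
  have h1 : (Nat.card G : ℂ) * ∑ h : G, a h * χ (g * h) =
      ∑ y : G, ∑ h : G, a h * χ (g * (y * h * y⁻¹)) := by
    rw [Finset.sum_congr rfl (fun y _ => h0 y), Finset.sum_const, Finset.card_univ, nsmul_eq_mul,
      Nat.card_eq_fintype_card]
  rw [Finset.sum_comm] at h1
  have h2 : ∀ h : G, ∑ y : G, a h * χ (g * (y * h * y⁻¹)) =
      a h * ((Nat.card G : ℂ) * χ g * χ h / χ 1) := by
    intro h
    rw [← Finset.mul_sum, Cfsg.Agent.Helper24.sum_char_mul_conj hχ g h]
  rw [Finset.sum_congr rfl (fun h _ => h2 h)] at h1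
  apply mul_left_cancel₀ hcard
  rw [h1, Finset.sum_div, Finset.sum_mul, Finset.mul_sum]
  refine Finset.sum_congr rfl fun h _ => ?_
  ring

/-- The central element `Σ_h w h • ρ h`. -/
private noncomputable def clauseZ {n : ℕ} (ρ : Representation R G (Fin n → R)) (w : G → R) :
    Module.End R (Fin n → R) :=
  ∑ h : G, w h • ρ h

omit [IsDomain R] in
private theorem clauseZ_commute {n : ℕ} (ρ : Representation R G (Fin n → R)) (w : G → R)
    (hw : ∀ g h : G, w (g * h * g⁻¹) = w h) (g : G) : Commute (clauseZ ρ w) (ρ g) := by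
  show clauseZ ρ w * ρ g = ρ g * clauseZ ρ w
  simp only [clauseZ, Finset.sum_mul, Finset.mul_sum]
  rw [← Equiv.sum_comp (MulAut.conj g).toEquiv (fun h => (w h • ρ h) * ρ g)]
  refine Finset.sum_congr rfl fun h _ => ?_
  simp only [MulEquiv.toEquiv_eq_coe, MulEquiv.coe_toEquiv, MulAut.conj_apply]
  rw [hw, smul_mul_assoc, mul_smul_comm, ← map_mul, ← map_mul]
  congr 2
  group

omit [IsDomain R] in
/-- The key trace formula for powers of `B = d Z - c`. -/
private theorem clause_trace_pow [Fintype (IrrCharacter G)] {n : ℕ} (j : R →+* ℂ)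
    (ρ : Representation R G (Fin n → R)) (mult : IrrCharacter G → ℕ)
    (hch : ∀ g, j (LinearMap.trace R (Fin n → R) (ρ g)) =
      ∑ ψ : IrrCharacter G, (mult ψ : ℂ) * (ψ : G → ℂ) g)
    (w : G → R) (hw : ∀ g h : G, w (g * h * g⁻¹) = w h) (d c : R) (m : ℕ) (g : G) :
    j (LinearMap.trace R (Fin n → R)
        (ρ g * (d • clauseZ ρ w - c • (1 : Module.End R (Fin n → R))) ^ m)) =
      ∑ ψ : IrrCharacter G, (mult ψ : ℂ) *
        (j d * ((∑ h : G, j (w h) * (ψ : G → ℂ) h) / (ψ : G → ℂ) 1) - j c) ^ m *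
          (ψ : G → ℂ) g := by
  induction m generalizing g with
  | zero =>
    simp only [pow_zero, mul_one]
    exact hch g
  | succ m ih =>
    set B := d • clauseZ ρ w - c • (1 : Module.End R (Fin n → R)) with hB
    have h1 : ρ g * B ^ (m + 1) =
        d • ∑ h : G, w h • (ρ (g * h) * B ^ m) - c • (ρ g * B ^ m) := by
      rw [pow_succ', ← mul_assoc]
      have : ρ g * B = d • ∑ h : G, w h • ρ (g * h) - c • ρ g := by
        rw [hB, mul_sub, mul_smul_comm, mul_smul_comm, mul_one, clauseZ, Finset.mul_sum]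
        congr 2
        refine Finset.sum_congr rfl fun h _ => ?_
        rw [mul_smul_comm, map_mul]
      rw [this, sub_mul, smul_mul_assoc, smul_mul_assoc, Finset.sum_mul]
      simp only [smul_mul_assoc]
    rw [h1, map_sub, map_smul, map_smul, map_sum, smul_eq_mul, smul_eq_mul, map_sub, map_mul,
      map_mul, map_sum]
    have h2 : ∀ h : G, j (LinearMap.trace R (Fin n → R) (w h • (ρ (g * h) * B ^ m))) =
        j (w h) * ∑ ψ : IrrCharacter G, (mult ψ : ℂ) *
          (j d * ((∑ h : G, j (w h) * (ψ : G → ℂ) h) / (ψ : G → ℂ) 1) - j c) ^ m *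
            (ψ : G → ℂ) (g * h) := by
      intro h
      rw [map_smul, smul_eq_mul, map_mul, ih]
    rw [Finset.sum_congr rfl (fun h _ => h2 h), ih g]
    simp only [Finset.mul_sum]
    rw [Finset.sum_comm, ← Finset.sum_sub_distrib]
    refine Finset.sum_congr rfl fun ψ _ => ?_
    have h3 := clause_weighted ψ.2 (fun h => j (w h)) (fun a b => by rw [hw]) g
    have h4 : ∑ h : G, j d * (j (w h) * ((mult ψ : ℂ) *
        (j d * ((∑ h : G, j (w h) * (ψ : G → ℂ) h) / (ψ : G → ℂ) 1) - j c) ^ m *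
          (ψ : G → ℂ) (g * h))) =
        j d * ((mult ψ : ℂ) *
          (j d * ((∑ h : G, j (w h) * (ψ : G → ℂ) h) / (ψ : G → ℂ) 1) - j c) ^ m) *
          ∑ h : G, j (w h) * (ψ : G → ℂ) (g * h) := by
      rw [Finset.mul_sum]
      refine Finset.sum_congr rfl fun h _ => ?_
      ring
    rw [h4, h3]
    ring

omit [Fintype G] in
private theorem clause_det_ne_zero_of_injective {n : ℕ} (B : Module.End R (Fin n → R))
    (hB : Function.Injective B) : LinearMap.det B ≠ 0 := by
  intro hdet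
  have h1 : (LinearMap.toMatrix' B).det = 0 := by
    rw [LinearMap.det_toMatrix']; exact hdet
  obtain ⟨v, hv, hv0⟩ := Matrix.exists_mulVec_eq_zero_iff.mpr h1
  rw [LinearMap.toMatrix'_mulVec] at hv0
  exact hv (hB (by rw [hv0, map_zero]))

end ClauseAux

section Clause

variable {R : Type*} [CommRing R] [IsDomain R] {G : Type*} [Group G] [Finite G]

/-- PIECE CLAUSE: `central_clause` (Lib/Helper24/TLTLCCore.lean) for a general central element
`Z = Σ_h w h • ρ h`, `w` a class function with values in `R`. -/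
theorem central_clause_gen {n : ℕ} (j : R →+* ℂ) (hj : Function.Injective j)
    (ρ : Representation R G (Fin n → R)) (mult : IrrCharacter G → ℕ)
    (hcomm : ∀ lam : Module.End R (Fin n → R), (∀ g, Commute lam (ρ g)) →
        lam = 0 ∨ Function.Injective lam)
    (hch : ∀ g, j (LinearMap.trace R (Fin n → R) (ρ g)) =
      ∑ᶠ ψ : IrrCharacter G, (mult ψ : ℂ) * (ψ : G → ℂ) g)
    (w : G → R) (hw : ∀ g h : G, w (g * h * g⁻¹) = w h)
    (ψ ψ' : IrrCharacter G) (hψ : 0 < mult ψ) (hψ' : 0 < mult ψ')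
    (r : ℚ) (hr : (∑ᶠ h : G, j (w h) * (ψ : G → ℂ) h) / (ψ : G → ℂ) 1 = (r : ℂ)) :
    (∑ᶠ h : G, j (w h) * (ψ' : G → ℂ) h) / (ψ' : G → ℂ) 1 =
      (∑ᶠ h : G, j (w h) * (ψ : G → ℂ) h) / (ψ : G → ℂ) 1 := by
  classical
  letI : Fintype G := Fintype.ofFinite G
  letI : Fintype (IrrCharacter G) := Cfsg.Agent.Helper24.irrFintype
  have hch' : ∀ g, j (LinearMap.trace R (Fin n → R) (ρ g)) =
      ∑ ψ : IrrCharacter G, (mult ψ : ℂ) * (ψ : G → ℂ) g := by
    intro g
    rw [hch g, finsum_eq_sum_of_fintype]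
  rw [finsum_eq_sum_of_fintype] at hr
  rw [finsum_eq_sum_of_fintype, finsum_eq_sum_of_fintype]
  set ω : IrrCharacter G → ℂ := fun ψ'' =>
    (∑ h : G, j (w h) * (ψ'' : G → ℂ) h) / (ψ'' : G → ℂ) 1 with hω
  change ω ψ = (r : ℂ) at hr
  change ω ψ' = ω ψ
  set d : R := (r.den : R) with hd
  set c : R := (r.num : R) with hc
  have hjd : j d = (r.den : ℂ) := by rw [hd, map_natCast]
  have hjc : j c = (r.num : ℂ) := by rw [hc, map_intCast]
  have hden : (r.den : ℂ) ≠ 0 := by exact_mod_cast r.den_nz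
  have hrel : (r.den : ℂ) * (r : ℂ) = (r.num : ℂ) := by
    have := Rat.den_mul_eq_num r
    exact_mod_cast this
  set B : Module.End R (Fin n → R) :=
    d • clauseZ ρ w - c • (1 : Module.End R (Fin n → R)) with hB
  have hBcomm : ∀ g, Commute B (ρ g) := by
    intro g
    rw [hB]
    refine Commute.sub_left ?_ ?_
    · exact (clauseZ_commute ρ w hw g).smul_left d
    · exact (Commute.one_left _).smul_left c
  have hform : ∀ (m : ℕ) (g : G), j (LinearMap.trace R (Fin n → R) (ρ g * B ^ m)) =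
      ∑ ψ'' : IrrCharacter G, (mult ψ'' : ℂ) * (j d * ω ψ'' - j c) ^ m * (ψ'' : G → ℂ) g :=
    fun m g => clause_trace_pow j ρ mult hch' w hw d c m g
  have hμψ : j d * ω ψ - j c = 0 := by
    rw [hjd, hjc, hr, hrel, sub_self]
  have hmψ : (mult ψ : ℂ) ≠ 0 := by exact_mod_cast hψ.ne'
  have hmψ' : (mult ψ' : ℂ) ≠ 0 := by exact_mod_cast hψ'.ne'
  rcases hcomm B hBcomm with h0 | hinj
  · -- B = 0
    have h1 : ∀ g, ∑ ψ'' : IrrCharacter G, ((mult ψ'' : ℂ) *
        (j d * ω ψ'' - j c)) * (ψ'' : G → ℂ) g = 0 := by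
      intro g
      have := hform 1 g
      rw [h0, pow_one, mul_zero, map_zero, map_zero] at this
      rw [this]
      refine Finset.sum_congr rfl fun ψ'' _ => ?_
      rw [pow_one]
    have h2 := Cfsg.Agent.Helper5.TL.coeff_eq_zero_of_sum _ h1 ψ'
    rcases mul_eq_zero.mp h2 with h3 | h3
    · exact absurd h3 hmψ'
    · rw [hjd, hjc] at h3
      rw [hr]
      have h4 : (r.den : ℂ) * ω ψ' = (r.den : ℂ) * (r : ℂ) := by
        rw [hrel]; exact sub_eq_zero.mp h3
      exact mul_left_cancel₀ hden h4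
  · -- B injective: impossible
    exfalso
    have hdet := clause_det_ne_zero_of_injective B hinj
    have hCH := LinearMap.aeval_self_charpoly B
    rw [Polynomial.aeval_eq_sum_range] at hCH
    set q := B.charpoly with hq
    have h1 : ∀ g, ∑ ψ'' : IrrCharacter G, ((mult ψ'' : ℂ) *
        ∑ i ∈ Finset.range (q.natDegree + 1), j (q.coeff i) *
          (j d * ω ψ'' - j c) ^ i) * (ψ'' : G → ℂ) g = 0 := by
      intro g
      have h2 : j (LinearMap.trace R (Fin n → R)
          (ρ g * ∑ i ∈ Finset.range (q.natDegree + 1), q.coeff i • B ^ i)) = 0 := by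
        rw [hCH, mul_zero, map_zero, map_zero]
      rw [Finset.mul_sum, map_sum, map_sum] at h2
      have h3 : ∀ i ∈ Finset.range (q.natDegree + 1),
          j (LinearMap.trace R (Fin n → R) (ρ g * q.coeff i • B ^ i)) =
          j (q.coeff i) * ∑ ψ'' : IrrCharacter G, (mult ψ'' : ℂ) *
            (j d * ω ψ'' - j c) ^ i * (ψ'' : G → ℂ) g := by
        intro i _
        rw [mul_smul_comm, map_smul, smul_eq_mul, map_mul, hform i g]
      rw [Finset.sum_congr rfl h3] at h2
      rw [← h2]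
      simp only [Finset.mul_sum, Finset.sum_mul]
      rw [Finset.sum_comm]
      refine Finset.sum_congr rfl fun i _ => Finset.sum_congr rfl fun ψ'' _ => ?_
      ring
    have h2 := Cfsg.Agent.Helper5.TL.coeff_eq_zero_of_sum _ h1 ψ
    rcases mul_eq_zero.mp h2 with h3 | h3
    · exact hmψ h3
    · rw [hμψ] at h3
      rw [Finset.sum_eq_single 0] at h3
      · rw [pow_zero, mul_one] at h3
        have h4 : q.coeff 0 = 0 := hj (by rw [h3, map_zero])
        apply hdet
        rw [LinearMap.det_eq_sign_charpoly_coeff, ← hq, h4, mul_zero]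
      · intro i _ hi
        rw [zero_pow hi, mul_zero]
      · intro h
        exact absurd (Finset.mem_range.mpr (Nat.succ_pos _)) h

end Clause

end Cfsg.Agent.Helper5.TLD
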