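import Mathlib

set_option autoImplicit false

/-!
# S4442 lattice side, LAYER B, piece REAL-B: Schur relation for a lattice with commutant `R`
-/

namespace Cfsg.Agent.Helper5.TLR

section Real

variable {R : Type*} [CommRing R] [IsDomain R] [CharZero R]
variable {H : Type*} [Group H] [Finite H]

/-- the matrix unit -/
def realbE (R : Type*) [CommRing R] {n : ℕ} (i j : Fin n) : Matrix (Fin n) (Fin n) R :=
  Matrix.of fun a b => if a = i then (if b = j then (1 : R) else 0) else 0

omit [IsDomain R] [CharZero R] in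
theorem realb_entry {n : ℕ} (A B : Matrix (Fin n) (Fin n) R) (i j k l : Fin n) :
    (A * realbE R i j * B) k l = A k i * B j l := by
  simp only [Matrix.mul_apply, realbE, Matrix.of_apply]
  simp only [mul_ite, mul_one, mul_zero, Finset.sum_ite_eq', Finset.mem_univ, if_true,
    ite_mul, zero_mul]

omit [IsDomain R] [CharZero R] in
theorem realb_trace_E {n : ℕ} (i : Fin n) : Matrix.trace (realbE R i i) = 1 := by
  simp only [Matrix.trace, Matrix.diag, realbE, Matrix.of_apply]
  rw [Finset.sum_eq_single i]
  · simp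
  · intro b _ hb
    simp [hb]
  · intro h
    exact absurd (Finset.mem_univ i) h

/-- PIECE REAL-B (Schur relations). -/
theorem sum_trace_mul_trace_inv {n : ℕ} (hn : 0 < n) (ρ : Representation R H (Fin n → R))
    (hEnd : ∀ lam : Module.End R (Fin n → R), (∀ g, Commute lam (ρ g)) → ∃ c : R, lam = c • 1) :
    ∑ᶠ h : H, LinearMap.trace R (Fin n → R) (ρ h) * LinearMap.trace R (Fin n → R) (ρ h⁻¹) =
      (Nat.card H : R) := by
  classical
  have : Fintype H := Fintype.ofFinite H
  rw [finsum_eq_sum_of_fintype, Nat.card_eq_fintype_card]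
  set A : H → Matrix (Fin n) (Fin n) R := fun h => LinearMap.toMatrix' (ρ h) with hA
  have hAmul : ∀ g h, A (g * h) = A g * A h := by
    intro g h
    simp only [hA]
    rw [map_mul, Module.End.mul_eq_comp, LinearMap.toMatrix'_comp]
  have hAone : A 1 = 1 := by
    simp only [hA]
    rw [map_one, Module.End.one_eq_id, LinearMap.toMatrix'_id]
  have hAinv : ∀ g, A g⁻¹ * A g = 1 := by
    intro g
    rw [← hAmul, inv_mul_cancel, hAone]
  have hAlin : ∀ g, Matrix.toLin' (A g) = ρ g := by
    intro g
    simp only [hA]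
    exact Matrix.toLin'_toMatrix' _
  have htr : ∀ h, LinearMap.trace R (Fin n → R) (ρ h) = Matrix.trace (A h) := by
    intro h
    rw [LinearMap.trace_eq_matrix_trace R (Pi.basisFun R (Fin n)),
      LinearMap.toMatrix_eq_toMatrix']
  simp only [htr]
  set T : Matrix (Fin n) (Fin n) R → Matrix (Fin n) (Fin n) R :=
    fun M => ∑ h, A h * M * A h⁻¹ with hT
  have hcomm : ∀ M g, T M * A g = A g * T M := by
    intro M g
    simp only [hT, Finset.mul_sum, Finset.sum_mul]
    rw [← Equiv.sum_comp (Equiv.mulLeft g) (fun h => A h * M * A h⁻¹ * A g)]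
    refine Finset.sum_congr rfl (fun h _ => ?_)
    simp only [Equiv.coe_mulLeft, mul_inv_rev, hAmul]
    rw [Matrix.mul_assoc (A g * A h * M), Matrix.mul_assoc (A h⁻¹), hAinv, Matrix.mul_one]
    simp only [Matrix.mul_assoc]
  have hscal : ∀ M, ∃ c : R, T M = c • (1 : Matrix (Fin n) (Fin n) R) := by
    intro M
    obtain ⟨c, hc⟩ := hEnd (Matrix.toLin' (T M)) (by
      intro g
      change Matrix.toLin' (T M) * ρ g = ρ g * Matrix.toLin' (T M)
      rw [← hAlin g, Module.End.mul_eq_comp, Module.End.mul_eq_comp, ← Matrix.toLin'_mul,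
        ← Matrix.toLin'_mul, hcomm])
    refine ⟨c, ?_⟩
    have h1 := congrArg LinearMap.toMatrix' hc
    rw [LinearMap.toMatrix'_toLin', map_smul, Module.End.one_eq_id, LinearMap.toMatrix'_id] at h1
    exact h1
  have htrT : ∀ M, Matrix.trace (T M) = (Fintype.card H : R) * Matrix.trace M := by
    intro M
    simp only [hT, Matrix.trace_sum]
    have : ∀ h : H, Matrix.trace (A h * M * A h⁻¹) = Matrix.trace M := by
      intro h
      rw [Matrix.trace_mul_cycle]
      have := hAinv h
      rw [this, Matrix.one_mul]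
    simp only [this, Finset.sum_const, Finset.card_univ, nsmul_eq_mul]
  choose c hc using hscal
  -- the main computation
  have hmain : ∑ h, Matrix.trace (A h) * Matrix.trace (A h⁻¹) = ∑ i, c (realbE R i i) := by
    have h1 : ∀ h : H, Matrix.trace (A h) * Matrix.trace (A h⁻¹)
        = ∑ i, ∑ j, (A h * realbE R i j * A h⁻¹ : Matrix (Fin n) (Fin n) R) i j := by
      intro h
      simp only [realb_entry, Matrix.trace, Matrix.diag, Finset.sum_mul_sum]
    simp only [h1]
    rw [Finset.sum_comm]
    refine Finset.sum_congr rfl (fun i _ => ?_)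
    rw [Finset.sum_comm]
    have h2 : ∀ j, ∑ h, (A h * realbE R i j * A h⁻¹ : Matrix (Fin n) (Fin n) R) i j = (T (realbE R i j)) i j := by
      intro j
      simp only [hT, Matrix.sum_apply]
    simp only [h2, hc, Matrix.smul_apply, Matrix.one_apply, smul_eq_mul, mul_ite, mul_one,
      mul_zero, Finset.sum_ite_eq, Finset.mem_univ, if_true]
  rw [hmain]
  have hn0 : (n : R) ≠ 0 := Nat.cast_ne_zero.mpr hn.ne'
  apply mul_left_cancel₀ hn0
  rw [Finset.mul_sum]
  have h3 : ∀ i : Fin n, (n : R) * c (realbE R i i) = (Fintype.card H : R) := by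
    intro i
    have h4 := htrT (realbE R i i)
    rw [hc, Matrix.trace_smul, Matrix.trace_one, realb_trace_E, mul_one, Fintype.card_fin,
      smul_eq_mul] at h4
    rw [mul_comm]
    exact h4
  simp only [h3, Finset.sum_const, Finset.card_univ, Fintype.card_fin, nsmul_eq_mul]

end Real

end Cfsg.Agent.Helper5.TLR
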