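import Mathlib
import Cfsg.Prelude.Def_Blocks
import Cfsg.Agent.Lib.Helper5.TLRDefs
import Cfsg.Agent.Lib.Helper5.TLDDefs
import Cfsg.Agent.Lib.Helper24.CharLinear
import Cfsg.Agent.Lib.Helper24.CharComplete
import Cfsg.Agent.Lib.Helper1.TLBREAL
import Cfsg.Agent.Lib.Helper1.TLBHOMZERO
import Cfsg.Agent.Lib.Helper5.Clifford
import Cfsg.Agent.S0886

/-!
# S4442 (blocks of defect one), LAYER C', piece TWIST (helper28, for helper5's farm-out)

`exists_twist_data`: for `ϑ ∈ Irr(K)`, `K` a `p'`-group normalized by the `p`-regular element `n₀`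
with `(n₀ ^ i) ^ (p - 1) ∈ K`: an `R`-lattice affording `ϑ`, the least `s > 0` with `ϑ ∘ conj (n₀ ^ s) = ϑ`,
an invertible intertwiner `A` for the twist by `n₀ ^ s` with `A ^ (p - 1) = 𝔛 ((n₀ ^ s) ^ (p - 1))`, and
no nonzero `n₀ ^ r`-twisted endomorphisms for `0 < r < s`.
-/

set_option autoImplicit false

namespace Cfsg.Agent.Helper5.TLD

open scoped ComplexConjugate
open Cfsg Cfsg.Agent.Helper5.TLR

section TwistAux

variable {G : Type*} [Group G]

/-- An element conjugating a finite subgroup into itself normalizes it. -/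
private theorem twist_mem_normalizer (K : Subgroup G) [Finite K] (g : G)
    (hg : ∀ k ∈ K, g * k * g⁻¹ ∈ K) : g ∈ Subgroup.normalizer (K : Set G) := by
  rw [Subgroup.mem_normalizer_iff]
  intro x
  refine ⟨hg x, fun hx => ?_⟩
  let c : K → K := fun k => ⟨g * k * g⁻¹, hg k k.2⟩
  have hinj : Function.Injective c := by
    intro a b hab
    have h1 : g * (a : G) * g⁻¹ = g * (b : G) * g⁻¹ := congrArg Subtype.val hab
    exact Subtype.ext (by simpa using h1)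
  obtain ⟨k, hk⟩ := (Finite.injective_iff_surjective.mp hinj) ⟨g * x * g⁻¹, hx⟩
  have h1 : g * (k : G) * g⁻¹ = g * x * g⁻¹ := congrArg Subtype.val hk
  have h2 : (k : G) = x := by simpa using h1
  exact h2 ▸ k.2

/-- Conjugation by an element of the normalizer, as an automorphism of the subgroup. -/
private noncomputable def twistConj (K : Subgroup G) (g : G)
    (hg : g ∈ Subgroup.normalizer (K : Set G)) : K ≃* K where
  toFun k := ⟨g * k * g⁻¹, (Subgroup.mem_normalizer_iff.mp hg k).mp k.2⟩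
  invFun k := ⟨g⁻¹ * k * g, (Subgroup.mem_normalizer_iff''.mp hg k).mp k.2⟩
  left_inv k := Subtype.ext (by simp [mul_assoc])
  right_inv k := Subtype.ext (by simp [mul_assoc])
  map_mul' a b := Subtype.ext (by simp [mul_assoc])

private theorem twistConj_coe (K : Subgroup G) (g : G)
    (hg : g ∈ Subgroup.normalizer (K : Set G)) (k : K) :
    ((twistConj K g hg k : K) : G) = g * k * g⁻¹ := rfl

end TwistAux

section Twist

variable (p : ℕ) [Fact p.Prime] {R : Type*} [CommRing R] [IsDomain R] [IsDiscreteValuationRing R]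
  [CharZero R] [PUnif R p] [IsAdicComplete (Ideal.span {(p : R)}) R] [IsAlgClosed (kk R)]
variable {G : Type*} [Group G] [Finite G]

/-- PIECE TWIST. -/
theorem exists_twist_data (j : R →+* ℂ) (hj : Function.Injective j)
    (K : Subgroup G) [Fintype K] (hKp : ¬ p ∣ Fintype.card K)
    (n₀ : G) (hn₀K : ∀ k ∈ K, n₀ * k * n₀⁻¹ ∈ K) (hn₀p : ¬ p ∣ orderOf n₀)
    (hpow : ∀ i : ℕ, (n₀ ^ i) ^ (p - 1) ∈ K) (ϑ : IrrCharacter K) :
    ∃ (n : ℕ) (𝔛 : Representation R K (Fin n → R)) (s : ℕ) (A A' : Module.End R (Fin n → R))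
      (k₁ : K),
      (∀ k, j (LinearMap.trace R (Fin n → R) (𝔛 k)) = (ϑ : K → ℂ) k) ∧
      0 < s ∧ A * A' = 1 ∧ A' * A = 1 ∧
      (∀ k k' : K, (k' : G) = n₀ ^ s * k * (n₀ ^ s)⁻¹ → A * 𝔛 k = 𝔛 k' * A) ∧
      (k₁ : G) = (n₀ ^ s) ^ (p - 1) ∧ A ^ (p - 1) = 𝔛 k₁ ∧
      (∀ r, 0 < r → r < s → ∀ φ : Module.End R (Fin n → R),
        (∀ k k' : K, (k' : G) = n₀ ^ r * k * (n₀ ^ r)⁻¹ → φ * 𝔛 k = 𝔛 k' * φ) → φ = 0) := by
  classical
  have hprime : p.Prime := Fact.out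
  have hn₀N : n₀ ∈ Subgroup.normalizer (K : Set G) := twist_mem_normalizer K n₀ hn₀K
  have hpowN : ∀ r : ℕ, n₀ ^ r ∈ Subgroup.normalizer (K : Set G) := fun r => pow_mem hn₀N r
  have hcls : ∀ g k : K, (ϑ : K → ℂ) (g * k * g⁻¹) = (ϑ : K → ℂ) k := fun g k =>
    Cfsg.Agent.Helper24.isClassFunction_of_isIrrCharacter ϑ.2 k g
  -- the least `s`
  have hex : ∃ s : ℕ, 0 < s ∧ ∀ k k' : K, (k' : G) = n₀ ^ s * k * (n₀ ^ s)⁻¹ →
      (ϑ : K → ℂ) k' = (ϑ : K → ℂ) k := by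
    refine ⟨p - 1, Nat.sub_pos_of_lt hprime.one_lt, fun k k' hk' => ?_⟩
    have hg : n₀ ^ (p - 1) ∈ K := by simpa using hpow 1
    have : k' = (⟨n₀ ^ (p - 1), hg⟩ : K) * k * (⟨n₀ ^ (p - 1), hg⟩ : K)⁻¹ := Subtype.ext hk'
    rw [this]
    exact hcls _ _
  set s := Nat.find hex with hs_def
  have hs : 0 < s ∧ ∀ k k' : K, (k' : G) = n₀ ^ s * k * (n₀ ^ s)⁻¹ →
      (ϑ : K → ℂ) k' = (ϑ : K → ℂ) k := Nat.find_spec hex
  have hmin : ∀ r : ℕ, r < s → ¬ (0 < r ∧ ∀ k k' : K, (k' : G) = n₀ ^ r * k * (n₀ ^ r)⁻¹ →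
      (ϑ : K → ℂ) k' = (ϑ : K → ℂ) k) := fun r hr => Nat.find_min hex hr
  -- the group `H = K ⟨t₀⟩`
  set t₀ : G := n₀ ^ s with ht₀
  set H : Subgroup G := K ⊔ Subgroup.zpowers t₀ with hH
  have hKH : K ≤ H := le_sup_left
  have hHle : H ≤ Subgroup.normalizer (K : Set G) :=
    sup_le Subgroup.le_normalizer ((Subgroup.zpowers_le).mpr (hpowN s))
  set N : Subgroup H := K.subgroupOf H with hN
  have hNn : N.Normal := Subgroup.normal_subgroupOf_of_le_normalizer hHle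
  let e : N ≃* K := Subgroup.subgroupOfEquivOfLe hKH
  have he : ∀ x : N, ((e x : K) : G) = ((x : H) : G) := fun x => rfl
  let t₀' : H := ⟨t₀, Subgroup.mem_sup_right (Subgroup.mem_zpowers t₀)⟩
  -- the stabilizer of `ϑ`
  let St : Subgroup G :=
    { carrier := {g | g ∈ Subgroup.normalizer (K : Set G) ∧ ∀ k k' : K, (k' : G) = g * k * g⁻¹ →
        (ϑ : K → ℂ) k' = (ϑ : K → ℂ) k}
      one_mem' := ⟨one_mem _, fun k k' h => by
        have : k' = k := Subtype.ext (by simpa using h)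
        rw [this]⟩
      mul_mem' := by
        rintro a b ⟨ha1, ha2⟩ ⟨hb1, hb2⟩
        refine ⟨mul_mem ha1 hb1, fun k k' h => ?_⟩
        have h1 := hb2 k (twistConj K b hb1 k) rfl
        have h2 := ha2 (twistConj K b hb1 k) k' (by rw [h, twistConj_coe]; group)
        rw [h2, h1]
      inv_mem' := by
        rintro a ⟨ha1, ha2⟩
        refine ⟨inv_mem ha1, fun k k' h => ?_⟩
        exact (ha2 k' k (by rw [h]; group)).symm }
  have hKSt : K ≤ St := fun g hg => ⟨Subgroup.le_normalizer hg, fun k k' h => by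
    have : k' = (⟨g, hg⟩ : K) * k * (⟨g, hg⟩ : K)⁻¹ := Subtype.ext h
    rw [this]
    exact hcls _ _⟩
  have ht₀St : t₀ ∈ St := ⟨hpowN s, hs.2⟩
  have hHSt : H ≤ St := sup_le hKSt ((Subgroup.zpowers_le).mpr ht₀St)
  have hinv : ∀ (g : H) (x : N), ((ϑ : K → ℂ) ∘ e) ⟨g * x * g⁻¹, hNn.conj_mem (x : H) x.2 g⟩ =
      ((ϑ : K → ℂ) ∘ e) x := fun g x =>
    (hHSt g.2).2 (e x) (e ⟨g * x * g⁻¹, hNn.conj_mem (x : H) x.2 g⟩) rfl
  -- `H / N` is cyclic, generated by the image of `t₀'`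
  have hgen : ∀ x : H ⧸ N, x ∈ Subgroup.zpowers ((t₀' : H) : H ⧸ N) := by
    intro x
    induction x using QuotientGroup.induction_on with
    | H h =>
      let M : Subgroup H := (Subgroup.zpowers ((t₀' : H) : H ⧸ N)).comap (QuotientGroup.mk' N)
      have hM1 : K ≤ M.map H.subtype := fun k hk => by
        refine ⟨⟨k, hKH hk⟩, ?_, rfl⟩
        show ((⟨k, hKH hk⟩ : H) : H ⧸ N) ∈ Subgroup.zpowers ((t₀' : H) : H ⧸ N)
        have : ((⟨k, hKH hk⟩ : H) : H ⧸ N) = 1 := (QuotientGroup.eq_one_iff _).mpr hk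
        rw [this]
        exact one_mem _
      have hM2 : t₀ ∈ M.map H.subtype :=
        ⟨t₀', Subgroup.mem_zpowers ((t₀' : H) : H ⧸ N), rfl⟩
      have hM : H ≤ M.map H.subtype := sup_le hM1 ((Subgroup.zpowers_le).mpr hM2)
      obtain ⟨y, hy, hyh⟩ := hM h.2
      have : y = h := Subtype.ext hyh
      rw [← this]
      exact hy
  have hcyc : IsCyclic (H ⧸ N) := ⟨⟨((t₀' : H) : H ⧸ N), hgen⟩⟩
  obtain ⟨χ, hχirr, hχres⟩ := Cfsg.Agent.S0886.result N hcyc ((ϑ : K → ℂ) ∘ e)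
    (Cfsg.Agent.Helper5.isIrrCharacter_comp_equiv e ϑ.2) hinv
  -- `H` is a `p'`-group
  have hHp : ¬ p ∣ Nat.card H := by
    rw [Subgroup.card_eq_card_quotient_mul_card_subgroup N]
    intro hdvd
    rcases (Nat.Prime.dvd_mul hprime).mp hdvd with h1 | h1
    · rw [← orderOf_eq_card_of_forall_mem_zpowers hgen] at h1
      have h2 : orderOf ((t₀' : H) : H ⧸ N) ∣ orderOf t₀' :=
        orderOf_map_dvd (QuotientGroup.mk' N) t₀'
      have h3 : orderOf t₀' = orderOf t₀ := Subgroup.orderOf_mk t₀ _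
      have h4 : orderOf t₀ ∣ orderOf n₀ := orderOf_pow_dvd s
      exact hn₀p (h1.trans (h2.trans (h3 ▸ h4)))
    · rw [Nat.card_congr e.toEquiv, Nat.card_eq_fintype_card] at h1
      exact hKp h1
  obtain ⟨n, 𝔜, h𝔜⟩ := exists_real_lattice p j hj hHp ⟨χ, hχirr⟩
  -- the data
  set 𝔛 : Representation R K (Fin n → R) := 𝔜.comp (Subgroup.inclusion hKH) with h𝔛
  have htr : ∀ k, j (LinearMap.trace R (Fin n → R) (𝔛 k)) = (ϑ : K → ℂ) k := by
    intro k
    have h1 : j (LinearMap.trace R (Fin n → R) (𝔛 k)) = χ (Subgroup.inclusion hKH k) := h𝔜 _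
    have hmem : Subgroup.inclusion hKH k ∈ N := k.2
    have h2 := hχres ⟨Subgroup.inclusion hKH k, hmem⟩
    rw [h1]
    exact h2
  refine ⟨n, 𝔛, s, 𝔜 t₀', 𝔜 t₀'⁻¹, ⟨t₀ ^ (p - 1), hpow s⟩, htr, hs.1, ?_, ?_, ?_, rfl, ?_, ?_⟩
  · rw [← map_mul, mul_inv_cancel, map_one]
  · rw [← map_mul, inv_mul_cancel, map_one]
  · intro k k' hk'
    show 𝔜 t₀' * 𝔜 (Subgroup.inclusion hKH k) = 𝔜 (Subgroup.inclusion hKH k') * 𝔜 t₀'
    rw [← map_mul, ← map_mul]
    congr 1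
    apply Subtype.ext
    show t₀ * (k : G) = (k' : G) * t₀
    rw [hk', ht₀]
    group
  · show 𝔜 t₀' ^ (p - 1) = 𝔜 (Subgroup.inclusion hKH ⟨t₀ ^ (p - 1), hpow s⟩)
    rw [← map_pow]
    congr 1
  · intro r hr0 hrs φ hφ
    set c : K ≃* K := twistConj K (n₀ ^ r) (hpowN r) with hc
    have hfun : (fun g => j (LinearMap.trace R (Fin n → R) (𝔛 g))) = (ϑ : K → ℂ) := funext htr
    have hfun' : (fun g => j (LinearMap.trace R (Fin n → R) ((𝔛.comp c.toMonoidHom) g))) =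
        (ϑ : K → ℂ) ∘ c := funext fun g => htr (c g)
    refine hom_eq_zero_of_char_ne j hj 𝔛 (𝔛.comp c.toMonoidHom) ?_ ?_ ?_ φ
      (fun g => hφ g (c g) rfl)
    · rw [hfun]; exact ϑ.2
    · rw [hfun']; exact Cfsg.Agent.Helper5.isIrrCharacter_comp_equiv c ϑ.2
    · rw [hfun, hfun']
      intro heq
      refine hmin r hrs ⟨hr0, fun k k' hk' => ?_⟩
      have : k' = c k := Subtype.ext hk'
      rw [this]
      exact (congrFun heq k).symm

end Twist

end Cfsg.Agent.Helper5.TLD
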