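import Mathlib
import Cfsg.Agent.Lib.Helper5.TLRHomDefs
import Cfsg.Agent.Lib.Helper5.TLRHom

set_option autoImplicit false

/-!
# S4442 lattice side, LAYER C, piece HOM-PTR: the partial trace
-/

namespace Cfsg.Agent.Helper5.TLR

section Ptr

variable {R : Type*} [CommRing R]
variable {U : Type*} [AddCommGroup U] [Module R U]
variable {M : Type*} [AddCommGroup M] [Module R M]
variable {ι : Type*} [Fintype ι] (b : Module.Basis ι R U)

theorem ptr_add (Ψ Ψ' : Module.End R (U →ₗ[R] M)) : ptr b (Ψ + Ψ') = ptr b Ψ + ptr b Ψ' := by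
  ext m
  simp only [ptr_apply, LinearMap.add_apply, Finset.sum_add_distrib]

theorem ptr_sub (Ψ Ψ' : Module.End R (U →ₗ[R] M)) : ptr b (Ψ - Ψ') = ptr b Ψ - ptr b Ψ' := by
  ext m
  simp only [ptr_apply, LinearMap.sub_apply, Finset.sum_sub_distrib]

theorem ptr_smul (c : R) (Ψ : Module.End R (U →ₗ[R] M)) : ptr b (c • Ψ) = c • ptr b Ψ := by
  ext m
  simp only [ptr_apply, LinearMap.smul_apply, Finset.smul_sum]

theorem ptr_post_mul (B : Module.End R M) (Ψ : Module.End R (U →ₗ[R] M)) :
    ptr b (post U B * Ψ) = B * ptr b Ψ := by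
  ext m
  simp only [ptr_apply, Module.End.mul_apply, post_apply, map_sum]

theorem ptr_mul_post (B : Module.End R M) (Ψ : Module.End R (U →ₗ[R] M)) :
    ptr b (Ψ * post U B) = ptr b Ψ * B := by
  ext m
  simp only [ptr_apply, Module.End.mul_apply, post_smulRight]

/-- expansion of `ξ_j ∘ A` in the dual basis -/
theorem homptr_coord_comp [DecidableEq ι] (A : Module.End R U) (j : ι) (m : M) :
    ((b.coord j) ∘ₗ A).smulRight m
      = ∑ i, b.coord j (A (b i)) • ((b.coord i).smulRight m : U →ₗ[R] M) := by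
  ext u
  simp only [LinearMap.smulRight_apply, LinearMap.comp_apply, LinearMap.sum_apply,
    LinearMap.smul_apply]
  have hu : A u = ∑ i, b.coord i u • A (b i) := by
    conv_lhs => rw [← b.sum_repr u]
    rw [map_sum]
    refine Finset.sum_congr rfl fun i _ => ?_
    rw [map_smul, Module.Basis.coord_apply]
  rw [hu, map_sum, Finset.sum_smul]
  refine Finset.sum_congr rfl fun i _ => ?_
  rw [map_smul, smul_eq_mul, mul_comm, mul_smul]

/-- cyclicity of the partial trace in the `U`-factor. -/
theorem ptr_pre_mul [DecidableEq ι] (A : Module.End R U) (Ψ : Module.End R (U →ₗ[R] M)) :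
    ptr b (pre M A * Ψ) = ptr b (Ψ * pre M A) := by
  ext m
  simp only [ptr_apply, Module.End.mul_apply, pre_apply, pre_smulRight]
  have h1 : ∀ i, Ψ ((b.coord i).smulRight m) (A (b i))
      = ∑ j, b.coord j (A (b i)) • Ψ ((b.coord i).smulRight m) (b j) := by
    intro i
    conv_lhs => rw [← b.sum_repr (A (b i))]
    rw [map_sum]
    refine Finset.sum_congr rfl fun j _ => ?_
    rw [map_smul, Module.Basis.coord_apply]
  have h2 : ∀ j, Ψ (((b.coord j) ∘ₗ A).smulRight m) (b j)
      = ∑ i, b.coord j (A (b i)) • Ψ ((b.coord i).smulRight m) (b j) := by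
    intro j
    rw [homptr_coord_comp b A j m, map_sum, LinearMap.sum_apply]
    refine Finset.sum_congr rfl fun i _ => ?_
    rw [map_smul, LinearMap.smul_apply]
  simp only [h1, h2]
  exact Finset.sum_comm

end Ptr

end Cfsg.Agent.Helper5.TLR
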