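import Mathlib
import Cfsg.Agent.Lib.Helper5.TLRDefs
import Cfsg.Agent.Lib.Helper5.TLRHomDefs
import Cfsg.Agent.Lib.Helper5.TLRHom
import Cfsg.Agent.Lib.Helper5.TLRGen0

set_option autoImplicit false

/-!
# S4442 lattice side, LAYER C, piece HOM-TB: `topS` / `botS` of `post U X` versus those of `X`
-/

namespace Cfsg.Agent.Helper5.TLR

section TB

variable (p : ℕ) {R : Type*} [CommRing R]
variable {U : Type*} [AddCommGroup U] [Module R U]
variable {M : Type*} [AddCommGroup M] [Module R M]

theorem hometb_top_true {L : Type*} [AddCommGroup L] [Module R L] (X : Module.End R L) (v : L) :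
    v ∈ topS p true X ↔ X v = v := by
  unfold topS fixedPts
  simp only [cond_true]
  rw [LinearMap.mem_ker, LinearMap.sub_apply, sub_eq_zero]
  rfl

theorem hometb_top_false {L : Type*} [AddCommGroup L] [Module R L] (X : Module.End R L) (v : L) :
    v ∈ topS p false X ↔ sig p X v = 0 := by
  unfold topS sigKer
  simp only [cond_false]
  exact LinearMap.mem_ker

theorem hometb_bot_true {L : Type*} [AddCommGroup L] [Module R L] (X : Module.End R L) (v : L) :
    v ∈ botS p true X ↔ ∃ m, sig p X m = v := by
  unfold botS sigRange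
  simp only [cond_true]
  exact LinearMap.mem_range

theorem hometb_bot_false {L : Type*} [AddCommGroup L] [Module R L] (X : Module.End R L) (v : L) :
    v ∈ botS p false X ↔ ∃ m, X m - m = v := by
  unfold botS augRange
  simp only [cond_false]
  rw [LinearMap.mem_range]
  simp only [LinearMap.sub_apply]
  rfl

theorem smulRight_mem_top (b : Bool) (X : Module.End R M) (ξ : U →ₗ[R] R) (m : M)
    (hm : m ∈ topS p b X) : ξ.smulRight m ∈ topS p b (post U X) := by
  cases b
  · rw [hometb_top_false] at hm ⊢
    rw [sig_post, post_smulRight, hm]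
    ext u
    simp
  · rw [hometb_top_true] at hm ⊢
    rw [post_smulRight, hm]

theorem apply_mem_top (b : Bool) (X : Module.End R M) (ψ : U →ₗ[R] M)
    (hψ : ψ ∈ topS p b (post U X)) (u : U) : ψ u ∈ topS p b X := by
  cases b
  · rw [hometb_top_false] at hψ ⊢
    rw [sig_post] at hψ
    have := congrArg (fun φ : U →ₗ[R] M => φ u) hψ
    simpa using this
  · rw [hometb_top_true] at hψ ⊢
    have := congrArg (fun φ : U →ₗ[R] M => φ u) hψ
    simpa using this

theorem apply_mem_bot (b : Bool) (X : Module.End R M) (ψ : U →ₗ[R] M)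
    (hψ : ψ ∈ botS p b (post U X)) (u : U) : ψ u ∈ botS p b X := by
  cases b
  · rw [hometb_bot_false] at hψ ⊢
    obtain ⟨φ, hφ⟩ := hψ
    refine ⟨φ u, ?_⟩
    rw [← hφ]
    simp
  · rw [hometb_bot_true] at hψ ⊢
    obtain ⟨φ, hφ⟩ := hψ
    refine ⟨φ u, ?_⟩
    rw [← hφ, sig_post]
    simp

theorem mem_bot_of_apply (b : Bool) (X : Module.End R M) {ι : Type*} [Fintype ι] [DecidableEq ι]
    (bs : Module.Basis ι R U) (ψ : U →ₗ[R] M) (h : ∀ i, ψ (bs i) ∈ botS p b X) :
    ψ ∈ botS p b (post U X) := by
  have hcoord : ∀ (mm : ι → M) (j : ι),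
      (∑ i, ((bs.coord i).smulRight (mm i) : U →ₗ[R] M)) (bs j) = mm j := by
    intro mm j
    rw [LinearMap.sum_apply]
    simp only [LinearMap.smulRight_apply, Module.Basis.coord_apply, Module.Basis.repr_self]
    rw [Finset.sum_eq_single j]
    · simp
    · intro i _ hij
      rw [Finsupp.single_apply, if_neg (Ne.symm hij), zero_smul]
    · intro hj
      exact absurd (Finset.mem_univ j) hj
  cases b
  · simp only [hometb_bot_false] at h ⊢
    choose mm hmm using h
    refine ⟨∑ i, (bs.coord i).smulRight (mm i), ?_⟩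
    apply bs.ext
    intro j
    rw [LinearMap.sub_apply, post_apply, hcoord, hmm]
  · simp only [hometb_bot_true] at h ⊢
    choose mm hmm using h
    refine ⟨∑ i, (bs.coord i).smulRight (mm i), ?_⟩
    apply bs.ext
    intro j
    rw [sig_post, post_apply, hcoord, hmm]

end TB

end Cfsg.Agent.Helper5.TLR
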