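import Mathlib

/-!
# S0996 (helper10's farm-out), PIECE NUM3 (helper28): `num_tau`

Pure arithmetic: column orthogonality at the involution `τ` and the class constant.
-/

set_option autoImplicit false

namespace Cfsg.Agent.Helper10.BR996

namespace NUM3

/-- splitting a sum over the whole index set along `{one} ∪ E⁺ ∪ E⁻ ∪ Y ∪ D`, for a summand vanishing on `E⁻` -/
theorem sum_split {ι : Type*} [Fintype ι] [DecidableEq ι] {M : Type*} [AddCommMonoid M]
    (X Y : Finset ι) (sg : ι → ℤ) (one : ι) (hdisj : Disjoint X Y)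
    (hsg : ∀ i ∈ X, sg i = 1 ∨ sg i = -1) (hone : one ∈ X) (hsg1 : sg one = 1)
    (f : ι → M) (hf : ∀ i ∈ X, sg i = -1 → f i = 0) :
    ∑ i, f i = f one + ∑ i ∈ X.filter (fun i => i ≠ one ∧ sg i = 1), f i + ∑ i ∈ Y, f i +
      ∑ i ∈ (Finset.univ \ X) \ Y, f i := by
  classical
  have h1 : ∑ i, f i = ∑ i ∈ X, f i + ∑ i ∈ Finset.univ \ X, f i := by
    rw [add_comm, Finset.sum_sdiff (Finset.subset_univ X)]
  have hYsub : Y ⊆ Finset.univ \ X := by
    intro i hi
    rw [Finset.mem_sdiff]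
    exact ⟨Finset.mem_univ _, fun hiX => (Finset.disjoint_left.1 hdisj hiX) hi⟩
  have h2 : ∑ i ∈ Finset.univ \ X, f i = ∑ i ∈ Y, f i + ∑ i ∈ (Finset.univ \ X) \ Y, f i := by
    rw [add_comm, Finset.sum_sdiff hYsub]
  have h3 : ∑ i ∈ X, f i = f one + ∑ i ∈ X.filter (fun i => i ≠ one ∧ sg i = 1), f i := by
    rw [← Finset.sum_filter_add_sum_filter_not X (fun i => sg i = -1)]
    have hz : ∑ i ∈ X.filter (fun i => sg i = -1), f i = 0 := by
      refine Finset.sum_eq_zero (fun i hi => ?_)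
      rw [Finset.mem_filter] at hi
      exact hf i hi.1 hi.2
    have hset : X.filter (fun i => ¬ sg i = -1) =
        insert one (X.filter (fun i => i ≠ one ∧ sg i = 1)) := by
      ext i
      rw [Finset.mem_filter, Finset.mem_insert, Finset.mem_filter]
      constructor
      · rintro ⟨hiX, hne⟩
        by_cases hio : i = one
        · exact Or.inl hio
        · rcases hsg i hiX with h | h
          · exact Or.inr ⟨hiX, hio, h⟩
          · exact absurd h hne
      · rintro (rfl | ⟨hiX, -, h⟩)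
        · refine ⟨hone, ?_⟩
          rw [hsg1]
          norm_num
        · refine ⟨hiX, ?_⟩
          rw [h]
          norm_num
    have hnot : one ∉ X.filter (fun i => i ≠ one ∧ sg i = 1) := by
      rw [Finset.mem_filter]
      rintro ⟨-, h, -⟩
      exact h rfl
    rw [hz, zero_add, hset, Finset.sum_insert hnot]
  rw [h1, h2, h3]
  abel

end NUM3

/-- PIECE NUM (the involution `τ`, `δ₀ = +1`, `u₀ = 1`, `t = n + 1`, `w = 2 + e t`): `v i = χ_i(τ)`.
Column orthogonality `(τ,τ)` and `(τ,1)` give `|C(τ)| = w t` and: `t = 2`, or the class constant. -/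
theorem num_tau {ι : Type*} [Fintype ι] [DecidableEq ι] (deg a : ι → ℕ) (v : ι → ℤ)
    (X Y : Finset ι) (sg : ι → ℤ) (one : ι) (p w t n e c : ℕ) (ε : ℤ)
    (hp : p = w * t + 1) (hw : 2 ≤ w) (ht : 2 ≤ t) (htn : t = n + 1) (hwe : w = 2 + e * t)
    (hdisj : Disjoint X Y) (hY : Y.card = t)
    (hsg : ∀ i ∈ X, sg i = 1 ∨ sg i = -1) (hone : one ∈ X) (hsg1 : sg one = 1)
    (hdeg1 : deg one = 1)
    (he : (X.filter (fun i => i ≠ one ∧ sg i = 1)).card = e)
    (hplus : ∀ i ∈ X, i ≠ one → sg i = 1 → deg i = 1 + n * p ∧ a i = n + 1)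
    (hYdeg : ∀ i ∈ Y, deg i + w = p)
    (hwD : ∀ i, i ∉ X → i ∉ Y → deg i = p * a i ∧ 0 < a i)
    (hK : ∑ i ∈ (Finset.univ \ X) \ Y, a i ^ 2 = n)
    (hv1 : v one = 1)
    (hvplus : ∀ i ∈ X, i ≠ one → sg i = 1 → |v i| ≤ t)
    (hvminus : ∀ i ∈ X, sg i = -1 → v i = 0)
    (hε : ε = 1 ∨ ε = -1) (hvY : ∀ i ∈ Y, v i = ε)
    (hvD : ∀ i, i ∉ X → i ∉ Y → v i = a i)
    (hcc : ∑ i, v i ^ 2 = (c : ℤ)) (hc : w * t ≤ c)
    (horth : ∑ i, v i * (deg i : ℤ) = 0) :
    c = w * t ∧ (t = 2 ∨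
      ((p * w * (1 + n * p) : ℚ) * ∑ i, (v i : ℚ) ^ 3 / (deg i : ℚ) =
        (w : ℚ) * ((t : ℚ) - 1) * ((w : ℚ) * t) ^ 2)) := by
  classical
  set Ep : Finset ι := X.filter (fun i => i ≠ one ∧ sg i = 1) with hEp
  set D : Finset ι := (Finset.univ \ X) \ Y with hD
  have hmemEp : ∀ i ∈ Ep, i ∈ X ∧ i ≠ one ∧ sg i = 1 := fun i hi => by
    rw [hEp, Finset.mem_filter] at hi
    exact hi
  have hmemD : ∀ i ∈ D, i ∉ X ∧ i ∉ Y := fun i hi => by
    rw [hD, Finset.mem_sdiff, Finset.mem_sdiff] at hi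
    exact ⟨hi.1.2, hi.2⟩
  have hε2 : ε ^ 2 = 1 := by rcases hε with rfl | rfl <;> norm_num
  -- the sum of squares
  have hsq := NUM3.sum_split X Y sg one hdisj hsg hone hsg1 (fun i => v i ^ 2)
    (fun i hi h => by
      show v i ^ 2 = 0
      rw [hvminus i hi h]
      norm_num)
  have hsqY : ∑ i ∈ Y, v i ^ 2 = (t : ℤ) := by
    rw [Finset.sum_congr rfl (fun i hi => by rw [hvY i hi, hε2] : ∀ i ∈ Y, v i ^ 2 = 1),
      Finset.sum_const, hY]
    simp
  have hsqD : ∑ i ∈ D, v i ^ 2 = (n : ℤ) := by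
    rw [Finset.sum_congr rfl (fun i hi => by
      rw [hvD i (hmemD i hi).1 (hmemD i hi).2] : ∀ i ∈ D, v i ^ 2 = ((a i : ℤ)) ^ 2)]
    rw [← hK]
    push_cast
    rfl
  set Q : ℤ := ∑ i ∈ Ep, v i ^ 2 with hQ
  have hle : ∀ i ∈ Ep, v i ^ 2 ≤ (t : ℤ) ^ 2 := by
    intro i hi
    obtain ⟨hiX, hio, hs⟩ := hmemEp i hi
    have h1 := hvplus i hiX hio hs
    rw [← sq_abs]
    exact pow_le_pow_left₀ (abs_nonneg _) h1 2
  have hQle : Q ≤ (e : ℤ) * (t : ℤ) ^ 2 := by
    have := Finset.sum_le_card_nsmul Ep (fun i => v i ^ 2) ((t : ℤ) ^ 2) hle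
    rw [he, nsmul_eq_mul] at this
    exact this
  have hcQ : (c : ℤ) = 1 + Q + t + n := by
    rw [← hcc, hsq, hsqY, hsqD, hv1]
    norm_num
  have htn' : (t : ℤ) = n + 1 := by exact_mod_cast htn
  have hwe' : (w : ℤ) = 2 + e * t := by exact_mod_cast hwe
  have hp' : (p : ℤ) = w * t + 1 := by exact_mod_cast hp
  have hc' : (w : ℤ) * t ≤ c := by exact_mod_cast hc
  have hQeq : Q = (e : ℤ) * (t : ℤ) ^ 2 := by
    apply le_antisymm hQle
    have : (w : ℤ) * t = 2 * t + e * (t : ℤ) ^ 2 := by rw [hwe']; ring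
    linarith
  have hcwt : (c : ℤ) = w * t := by
    rw [hcQ, hQeq, hwe']
    linarith [htn']
  have hcwt' : c = w * t := by exact_mod_cast hcwt
  refine ⟨hcwt', ?_⟩
  -- every `v i`, `i ∈ E⁺`, is `± t`
  have hvsq : ∀ i ∈ Ep, v i ^ 2 = (t : ℤ) ^ 2 := by
    have hsum : ∑ i ∈ Ep, ((t : ℤ) ^ 2 - v i ^ 2) = 0 := by
      rw [Finset.sum_sub_distrib, Finset.sum_const, he, nsmul_eq_mul, ← hQ, hQeq]
      ring
    have hnn : ∀ i ∈ Ep, 0 ≤ (t : ℤ) ^ 2 - v i ^ 2 := fun i hi => sub_nonneg.2 (hle i hi)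
    intro i hi
    have := (Finset.sum_eq_zero_iff_of_nonneg hnn).1 hsum i hi
    linarith
  have hvpm : ∀ i ∈ Ep, v i = t ∨ v i = -(t : ℤ) := fun i hi =>
    sq_eq_sq_iff_eq_or_eq_neg.1 (hvsq i hi)
  set s : ℤ := ∑ i ∈ Ep, v i with hs
  have hts : (t : ℤ) ∣ s := by
    apply Finset.dvd_sum
    intro i hi
    rcases hvpm i hi with h | h <;> rw [h]
    exact (dvd_neg).2 dvd_rfl
  -- the orthogonality relation with the degrees
  have hor := NUM3.sum_split X Y sg one hdisj hsg hone hsg1 (fun i => v i * (deg i : ℤ))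
    (fun i hi h => by
      show v i * (deg i : ℤ) = 0
      rw [hvminus i hi h, zero_mul])
  have horEp : ∑ i ∈ Ep, v i * (deg i : ℤ) = (1 + (n : ℤ) * p) * s := by
    rw [hs, Finset.mul_sum]
    refine Finset.sum_congr rfl (fun i hi => ?_)
    obtain ⟨hiX, hio, hsi⟩ := hmemEp i hi
    rw [(hplus i hiX hio hsi).1]
    push_cast
    ring
  have horY : ∑ i ∈ Y, v i * (deg i : ℤ) = ε * t * ((p : ℤ) - w) := by
    rw [Finset.sum_congr rfl (fun i hi => by
      have h1 : (deg i : ℤ) = (p : ℤ) - w := by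
        have := hYdeg i hi
        have h2 : ((deg i + w : ℕ) : ℤ) = (p : ℤ) := by rw [this]
        push_cast at h2
        linarith
      rw [hvY i hi, h1] : ∀ i ∈ Y, v i * (deg i : ℤ) = ε * ((p : ℤ) - w)),
      Finset.sum_const, hY, nsmul_eq_mul]
    ring
  have horD : ∑ i ∈ D, v i * (deg i : ℤ) = (p : ℤ) * n := by
    rw [Finset.sum_congr rfl (fun i hi => by
      obtain ⟨h1, h2⟩ := hmemD i hi
      rw [hvD i h1 h2, (hwD i h1 h2).1]
      push_cast
      ring : ∀ i ∈ D, v i * (deg i : ℤ) = (p : ℤ) * ((a i : ℤ)) ^ 2), ← Finset.mul_sum, ← hK]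
    push_cast
    rfl
  rw [hor, horEp, horY, horD, hv1, hdeg1] at horth
  have hkey : ((n : ℤ) + 1) * (1 + n * w) * (1 + s + ε) = 0 := by
    rw [hp', htn'] at horth
    push_cast at horth
    linear_combination horth
  have hkey' : 1 + s + ε = 0 := by
    rcases mul_eq_zero.1 hkey with h | h
    · rcases mul_eq_zero.1 h with h | h
      · exfalso
        have : (0 : ℤ) ≤ n := Nat.cast_nonneg n
        linarith
      · exfalso
        have h1 : (0 : ℤ) ≤ n := Nat.cast_nonneg n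
        have h2 : (0 : ℤ) ≤ w := Nat.cast_nonneg w
        nlinarith
    · exact h
  rcases hε with rfl | rfl
  · -- `ε = 1`: `s = -2`, so `t ∣ 2`
    left
    have hs2 : s = -2 := by linarith
    rw [hs2] at hts
    have h2 : (t : ℤ) ∣ 2 := (dvd_neg).1 hts
    have h3 : t ∣ 2 := by exact_mod_cast h2
    have := Nat.le_of_dvd (by norm_num) h3
    omega
  · -- `ε = -1`: `s = 0`
    right
    have hs0 : s = 0 := by linarith
    have hcube := NUM3.sum_split X Y sg one hdisj hsg hone hsg1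
      (fun i => (v i : ℚ) ^ 3 / (deg i : ℚ))
      (fun i hi h => by
        show (v i : ℚ) ^ 3 / (deg i : ℚ) = 0
        rw [hvminus i hi h]
        norm_num)
    have hpw : ((p : ℚ) - w) = 1 + n * w := by
      have : (p : ℚ) = w * t + 1 := by exact_mod_cast hp
      have h2 : (t : ℚ) = n + 1 := by exact_mod_cast htn
      rw [this, h2]
      ring
    have hnp : (1 + (n : ℚ) * p) = (n + 1) * (1 + n * w) := by
      have : (p : ℚ) = w * t + 1 := by exact_mod_cast hp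
      have h2 : (t : ℚ) = n + 1 := by exact_mod_cast htn
      rw [this, h2]
      ring
    have hn0 : (0 : ℚ) ≤ n := Nat.cast_nonneg n
    have hw0 : (0 : ℚ) ≤ w := Nat.cast_nonneg w
    have hpos1 : (0 : ℚ) < 1 + n * w := by positivity
    have hppos : (0 : ℚ) < p := by
      have : 0 < p := by rw [hp]; omega
      exact_mod_cast this
    have hcEp : ∑ i ∈ Ep, (v i : ℚ) ^ 3 / (deg i : ℚ) = 0 := by
      have h1 : ∀ i ∈ Ep, (v i : ℚ) ^ 3 / (deg i : ℚ) =
          ((t : ℚ) ^ 2 / (1 + n * p)) * (v i : ℚ) := by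
        intro i hi
        obtain ⟨hiX, hio, hsi⟩ := hmemEp i hi
        rw [(hplus i hiX hio hsi).1]
        have h2 : (v i : ℚ) ^ 2 = (t : ℚ) ^ 2 := by exact_mod_cast hvsq i hi
        have h3 : (v i : ℚ) ^ 3 = (t : ℚ) ^ 2 * v i := by rw [← h2]; ring
        rw [h3]
        push_cast
        ring
      rw [Finset.sum_congr rfl h1, ← Finset.mul_sum]
      have h4 : ∑ i ∈ Ep, (v i : ℚ) = ((s : ℤ) : ℚ) := by
        rw [hs]
        push_cast
        rfl
      rw [h4, hs0]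
      simp
    have hcY : ∑ i ∈ Y, (v i : ℚ) ^ 3 / (deg i : ℚ) = -(t : ℚ) / (1 + n * w) := by
      have h1 : ∀ i ∈ Y, (v i : ℚ) ^ 3 / (deg i : ℚ) = -1 / (1 + n * w) := by
        intro i hi
        have h2 : (deg i : ℚ) = (p : ℚ) - w := by
          have := hYdeg i hi
          have h3 : ((deg i + w : ℕ) : ℚ) = (p : ℚ) := by rw [this]
          push_cast at h3
          linarith
        rw [hvY i hi, h2, hpw]
        norm_num
      rw [Finset.sum_congr rfl h1, Finset.sum_const, hY, nsmul_eq_mul]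
      ring
    have hcD : ∑ i ∈ D, (v i : ℚ) ^ 3 / (deg i : ℚ) = (n : ℚ) / p := by
      have h1 : ∀ i ∈ D, (v i : ℚ) ^ 3 / (deg i : ℚ) = ((a i : ℚ)) ^ 2 / p := by
        intro i hi
        obtain ⟨h2, h3⟩ := hmemD i hi
        obtain ⟨h4, h5⟩ := hwD i h2 h3
        have ha : (0 : ℚ) < a i := by exact_mod_cast h5
        rw [hvD i h2 h3, h4]
        push_cast
        field_simp
      rw [Finset.sum_congr rfl h1, ← Finset.sum_div]
      congr 1
      rw [← hK]
      push_cast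
      rfl
    rw [hcube, hcEp, hcY, hcD, hv1, hdeg1, hnp]
    have ht' : (t : ℚ) = n + 1 := by exact_mod_cast htn
    have hp'' : (p : ℚ) = w * (n + 1) + 1 := by
      have : (p : ℚ) = w * t + 1 := by exact_mod_cast hp
      rw [this, ht']
    rw [ht']
    have hp0 : (p : ℚ) ≠ 0 := hppos.ne'
    have h10 : (1 + (n : ℚ) * w) ≠ 0 := hpos1.ne'
    push_cast
    field_simp
    rw [hp'']
    ring

end Cfsg.Agent.Helper10.BR996
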