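import Mathlib
import Cfsg.Agent.Lib.Helper13.OInvDefs
import Cfsg.Agent.Lib.Lead.ChevOrderAll
import Cfsg.Agent.Lib.Lead.ChevCore
import Cfsg.Agent.Lib.Lead.ChevNConj
import Cfsg.Agent.Lib.Lead.ChevHCard
import Cfsg.Agent.S1024

/-!
# ODDINV piece OINV-FIXN (helper28 for helper13): `n_w` commutes with `s = T(c)` iff `w` fixes the character of `s`.
-/

set_option autoImplicit false
set_option linter.unusedSectionVars false
set_option linter.unusedVariables false

namespace Cfsg.Agent.Helper13.OInv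

open Cfsg Cfsg.Lie Cfsg.Agent.Lead.Chev Cfsg.Agent.Lead.Tw

variable {F : Type*} [Field F] {D : ChevalleyDatum}

/-- `t ↦ x_r(t)` is injective -/
theorem oinvfixn_xGL_inj (hF : ChevFacts D F) (r : ℕ) (hr : r < D.nroots) (a b : F)
    (h : xGL D hF.xadd r a = xGL D hF.xadd r b) : a = b := by
  have hok : Cfsg.Agent.S1024.NegOk D := by
    intro r hr
    refine ⟨?_, hF.sign.neg_lt r hr⟩
    intro e
    have e' : D.neg r = r := e
    rcases hF.sign.pos_or_neg r hr with hp | hn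
    · have := hF.sign.neg_of_pos r hp
      rw [e'] at this
      exact hF.sign.not_both r hp this
    · have := hF.sign.pos_of_neg r hn
      rw [e'] at this
      exact hF.sign.not_both r this hn
  have h1 : xGL D hF.xadd r (a - b) = 1 := by
    rw [sub_eq_add_neg, ← xGL_mul, ← xGL_inv, h, mul_inv_cancel]
  have h2 := congrArg (fun g : GL D.Idx F => (g : Matrix D.Idx D.Idx F)) h1
  simp only [xGL_val, Units.val_one] at h2
  unfold ChevalleyDatum.x at h2
  rw [dif_pos hr] at h2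
  exact sub_eq_zero.1 (Cfsg.Agent.S1024.xMat_eq_one_imp D hok ⟨r, hr⟩ _ h2)

/-- `T(c) ∈ H` -/
theorem oinvfixn_mem_diagonal (hF : ChevFacts D F) (c : ℕ → F) (hc : ∀ i < D.rank, c i ≠ 0)
    (s : GL D.Idx F) (hsc : (s : Matrix D.Idx D.Idx F) = Tmat D c) : s ∈ D.diagonalSubgroup F := by
  rw [← torusHom_range D hF.xadd hF.hsimple hF.hall hF.simple_lt]
  refine ⟨fun i => Units.mk0 (c i.val) (hc i.val i.2), ?_⟩
  apply Units.ext
  rw [torusHom_val, hsc]
  apply Tmat_congr
  intro i hi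
  rw [extC_lt D _ i hi]
  rfl

/-- the character of `n_w⁻¹ s n_w` is `χ ∘ w` -/
theorem oinvfixn_conj (hF : ChevFacts D F) (c : ℕ → F) (hc : ∀ i < D.rank, c i ≠ 0)
    (s : GL D.Idx F) (hsc : (s : Matrix D.Idx D.Idx F) = Tmat D c)
    (w : List ℕ) (hw : ∀ i ∈ w, i < D.rank) :
    ∃ c' : ℕ → F, (∀ i < D.rank, c' i ≠ 0) ∧
      (((nWordGL D hF.xadd w)⁻¹ * s * nWordGL D hF.xadd w : GL D.Idx F) : Matrix D.Idx D.Idx F) = Tmat D c' ∧
      ∀ r < D.nroots, chi D c' r = chi D c (reflWord D w r) := by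
  have hsH := oinvfixn_mem_diagonal hF c hc s hsc
  obtain ⟨k0, hk0, e0⟩ := nWordGL_inv D hF.xadd (etaOf D) hF.nsimple hF.simple_lt w hw
  have hwr : ∀ i ∈ w.reverse, i < D.rank := fun i hi => hw i (List.mem_reverse.1 hi)
  set n := nWordGL D hF.xadd w with hn
  have hkH : n⁻¹ * s * n ∈ D.diagonalSubgroup F := by
    have h1 := nWordGL_conj_mem_diagonal D hF.xadd (etaOf D) hF.nsimple w.reverse hwr s hsH
    have hn' : n = (nWordGL D hF.xadd w.reverse)⁻¹ * k0⁻¹ := by
      have : n = (n⁻¹)⁻¹ := (inv_inv _).symm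
      rw [this, e0]
      group
    have e : n⁻¹ * s * n = k0 * (nWordGL D hF.xadd w.reverse * s * (nWordGL D hF.xadd w.reverse)⁻¹) * k0⁻¹ := by
      calc n⁻¹ * s * n = (k0 * nWordGL D hF.xadd w.reverse) * s *
            ((nWordGL D hF.xadd w.reverse)⁻¹ * k0⁻¹) := by rw [← e0, ← hn']
        _ = _ := by group
    rw [e]
    exact mul_mem (mul_mem hk0 h1) (inv_mem hk0)
  obtain ⟨c', hc', hkc⟩ := exists_Tmat_of_mem D hF.hall _ hkH
  refine ⟨c', hc', hkc, ?_⟩
  intro r hr
  have hwlt := reflWord_lt D (etaOf D) hF.facts w hw r hr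
  have h1 := hF.Tmat_conj_xGL (n⁻¹ * s * n) c' hc' hkc r hr 1
  have h2 := nWordGL_conj D hF.xadd (etaOf D) hF.nsimple w hw r hr (1 : F)
  have h3 := hF.Tmat_conj_xGL s c hc hsc (reflWord D w r) hwlt
    (((signWord D (etaOf D) w r : ℤ) : F) * 1)
  have h4 := nWordGL_conj D hF.xadd (etaOf D) hF.nsimple w hw r hr (chi D c (reflWord D w r))
  have h5 : (n⁻¹ * s * n) * xGL D hF.xadd r 1 * (n⁻¹ * s * n)⁻¹ =
      xGL D hF.xadd r (chi D c (reflWord D w r)) := by
    calc (n⁻¹ * s * n) * xGL D hF.xadd r 1 * (n⁻¹ * s * n)⁻¹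
        = n⁻¹ * (s * (n * xGL D hF.xadd r 1 * n⁻¹) * s⁻¹) * n := by group
      _ = n⁻¹ * (n * xGL D hF.xadd r (chi D c (reflWord D w r)) * n⁻¹) * n := by
          rw [h2, h3, h4]
          congr 3
          ring
      _ = _ := by group
  rw [h1] at h5
  have h6 := oinvfixn_xGL_inj hF r hr _ _ h5
  rw [mul_one] at h6
  exact h6

/-- PIECE OINV-FIXN: `n_w` commutes with `s = T(c)` iff `w` fixes the character of `s` -/
theorem nWordGL_comm_iff (hF : ChevFacts D F) (c : ℕ → F) (hc : ∀ i < D.rank, c i ≠ 0)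
    (s : GL D.Idx F) (hsc : (s : Matrix D.Idx D.Idx F) = Tmat D c)
    (w : List ℕ) (hw : ∀ i ∈ w, i < D.rank) :
    s * nWordGL D hF.xadd w = nWordGL D hF.xadd w * s ↔
      ∀ r < D.nroots, chi D c (reflWord D w r) = chi D c r := by
  obtain ⟨c', hc', hkc, hchi⟩ := oinvfixn_conj hF c hc s hsc w hw
  set n := nWordGL D hF.xadd w with hn
  constructor
  · intro hcomm r hr
    have hk : n⁻¹ * s * n = s := by
      rw [mul_assoc, hcomm]
      group
    rw [← hchi r hr]
    have hT : Tmat D c' = Tmat D c := by rw [← hkc, hk, hsc]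
    have := congrFun (congrFun hT (Sum.inr ⟨r, hr⟩)) (Sum.inr ⟨r, hr⟩)
    simpa [Tmat] using this
  · intro h
    have hT : Tmat D c' = Tmat D c := by
      unfold Tmat
      congr 1
      funext idx
      rcases idx with j | v
      · rfl
      · simp only [Sum.elim_inr]
        rw [hchi v.val v.2, h v.val v.2]
    have hk : n⁻¹ * s * n = s := Units.ext (by rw [hkc, hT, hsc])
    calc s * n = n * (n⁻¹ * s * n) := by group
      _ = n * s := by rw [hk]

end Cfsg.Agent.Helper13.OInv
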