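import Mathlib
import Cfsg.Agent.Lib.Helper13.OInvDefs
import Cfsg.Agent.Lib.Lead.ChevOrderAll
import Cfsg.Agent.Lib.Lead.ChevCore

/-!
# ODDINV piece OINV-TW (helper28 for helper13): the twist "conjugation by `T(c)`".
-/

set_option autoImplicit false
set_option linter.unusedSectionVars false
set_option linter.unusedVariables false

namespace Cfsg.Agent.Helper13.OInv

open Cfsg Cfsg.Lie Cfsg.Agent.Lead.Chev Cfsg.Agent.Lead.Tw

variable {F : Type*} [Field F] {D : ChevalleyDatum}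

/-- `χ_{-r} = χ_r⁻¹` -/
theorem chi_neg (hcn : ∀ i < D.rank, ∀ r < D.nroots, D.cartan i (D.neg r) = - D.cartan i r)
    (c : ℕ → F) (hc : ∀ i < D.rank, c i ≠ 0) (r : ℕ) (hr : r < D.nroots) :
    chi D c (D.neg r) = (chi D c r)⁻¹ :=
  Cfsg.Agent.Lead.Chev.chi_neg D hcn c r hr

/-- the twist: `σ g = s g s⁻¹`, `ρ = id`, `c r t = χ_r(s) t` -/
noncomputable def twistDiag (hF : ChevFacts D F)
    (hcn : ∀ i < D.rank, ∀ r < D.nroots, D.cartan i (D.neg r) = - D.cartan i r)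
    (c : ℕ → F) (hc : ∀ i < D.rank, c i ≠ 0) (s : GL D.Idx F)
    (hsc : (s : Matrix D.Idx D.Idx F) = Tmat D c) : Twist D F hF.xadd where
  σ := fun g => s * g * s⁻¹
  ρ := fun r => r
  c := fun r t => chi D c r * t
  π := fun i => i
  map_mul := fun g h _ _ => by group
  ρ_lt := fun r hr => hr
  ρ_pos := fun r hr => hr
  ρ_neg := fun r hr => rfl
  c_ne := fun r hr t ht => mul_ne_zero (chi_ne_zero D c hc r) ht
  c_neg := fun r hr t ht => by
    show chi D c (D.neg r) * (-t⁻¹) = -(chi D c r * t)⁻¹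
    rw [Cfsg.Agent.Lead.Chev.chi_neg D hcn c r hr, mul_inv, mul_neg]
  c_surj := fun r hr y => ⟨(chi D c r)⁻¹ * y, by
    show chi D c r * ((chi D c r)⁻¹ * y) = y
    rw [← mul_assoc, mul_inv_cancel₀ (chi_ne_zero D c hc r), one_mul]⟩
  map_x := fun r hr t => hF.Tmat_conj_xGL s c hc hsc r hr t
  π_lt := fun i hi => hi
  ρ_simple := fun i hi => rfl
  ρ_refl := fun i hi r hr => rfl

theorem twistDiag_σ (hF : ChevFacts D F)
    (hcn : ∀ i < D.rank, ∀ r < D.nroots, D.cartan i (D.neg r) = - D.cartan i r)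
    (c : ℕ → F) (hc : ∀ i < D.rank, c i ≠ 0) (s : GL D.Idx F)
    (hsc : (s : Matrix D.Idx D.Idx F) = Tmat D c) (g : GL D.Idx F) :
    (twistDiag hF hcn c hc s hsc).σ g = s * g * s⁻¹ := rfl

end Cfsg.Agent.Helper13.OInv
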