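import Mathlib

/-!
# S2371 (helper11's farm-out), PIECE SYL (helper28)

An element of prime order `r` is conjugate into any subgroup containing a full Sylow `r`-subgroup.
-/

set_option autoImplicit false

namespace Cfsg.Agent.Helper11.G2T

open scoped Pointwise

/-- an element of order `r` is conjugate into any subgroup containing a full Sylow `r`-subgroup -/
theorem syl_conj {G : Type*} [Group G] [Finite G] (T : Subgroup G) (r : ℕ) (hr : r.Prime)
    (h : (Nat.card G).factorization r = (Nat.card T).factorization r) (x : G) (hx : orderOf x = r) :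
    ∃ g : G, g⁻¹ * x * g ∈ T := by
  have : Fact r.Prime := ⟨hr⟩
  -- a Sylow subgroup of `G` inside `T`
  obtain ⟨Q₀⟩ : Nonempty (Sylow r T) := inferInstance
  have hQ₀card : Nat.card (Q₀ : Subgroup T) = r ^ (Nat.card T).factorization r :=
    Sylow.card_eq_multiplicity Q₀
  set Q' : Subgroup G := (Q₀ : Subgroup T).map T.subtype with hQ'
  have hQ'card : Nat.card Q' = r ^ (Nat.card G).factorization r := by
    rw [hQ', Subgroup.card_map_of_injective T.subtype_injective, hQ₀card, h]
  have hQ'T : Q' ≤ T := by
    rw [hQ']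
    exact Subgroup.map_subtype_le _
  set Q : Sylow r G := Sylow.ofCard Q' hQ'card with hQ
  -- a Sylow subgroup containing `x`
  have hxp : IsPGroup r (Subgroup.zpowers x) := by
    apply IsPGroup.of_card (n := 1)
    rw [Nat.card_zpowers, hx, pow_one]
  obtain ⟨P, hP⟩ := hxp.exists_le_sylow
  obtain ⟨g, hg⟩ := MulAction.exists_smul_eq G P Q
  refine ⟨g⁻¹, ?_⟩
  rw [inv_inv]
  have hxP : x ∈ (P : Subgroup G) := hP (Subgroup.mem_zpowers x)
  have h1 : g * x * g⁻¹ ∈ ((g • P : Sylow r G) : Subgroup G) := by
    rw [Sylow.coe_subgroup_smul]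
    have := Subgroup.smul_mem_pointwise_smul x (MulAut.conj g) (P : Subgroup G) hxP
    rwa [MulAut.smul_def, MulAut.conj_apply] at this
  rw [hg] at h1
  exact hQ'T h1

end Cfsg.Agent.Helper11.G2T
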