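import Mathlib
import Cfsg.Agent.Lib.Helper14.GAG40Defs
import Cfsg.Agent.Lib.Helper25.GAG40CARD

set_option autoImplicit false

/-!
# S4840 piece BADV (helper28, for helper14's farm-out)

`badv`: in the transitive linear setting `TLin 3 X V`, if `i, j ∈ X` generate a quaternion group
centralized by a subgroup `C` with `|X : C| ∣ 24`, then `|X| = 3 ^ b * 8`.
-/

namespace Cfsg.Agent.Helper14.Gag40

open Cfsg

section BADVaux

variable {X V : Type*} [Group X] [CommGroup V] [MulDistribMulAction X V]

private theorem badv_id1 (a b c d : V) (hb : b ^ 3 = 1) (hc : c ^ 3 = 1) :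
    (a * b * c) * (b * a⁻¹ * d) * (c * d⁻¹ * a⁻¹) = (a * b * c)⁻¹ := by
  apply Additive.ofMul.injective
  have hb' : 3 • Additive.ofMul b = 0 := by rw [← ofMul_pow, hb]; rfl
  have hc' : 3 • Additive.ofMul c = 0 := by rw [← ofMul_pow, hc]; rfl
  simp only [ofMul_mul, ofMul_inv]
  rw [← sub_eq_zero]
  have : (Additive.ofMul a + Additive.ofMul b + Additive.ofMul c
      + (Additive.ofMul b + -Additive.ofMul a + Additive.ofMul d)
      + (Additive.ofMul c + -Additive.ofMul d + -Additive.ofMul a))
      - (-(Additive.ofMul a + Additive.ofMul b + Additive.ofMul c))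
      = 3 • Additive.ofMul b + 3 • Additive.ofMul c := by abel
  rw [this, hb', hc', add_zero]

private theorem badv_id2 (b c d : V) (hd : d ^ 3 = 1) :
    d * c⁻¹ * b = (d * (d * c * b⁻¹))⁻¹ := by
  apply Additive.ofMul.injective
  have hd' : 3 • Additive.ofMul d = 0 := by rw [← ofMul_pow, hd]; rfl
  simp only [ofMul_mul, ofMul_inv]
  rw [← sub_eq_zero]
  have : (Additive.ofMul d + -Additive.ofMul c + Additive.ofMul b)
      - -(Additive.ofMul d + (Additive.ofMul d + Additive.ofMul c + -Additive.ofMul b))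
      = 3 • Additive.ofMul d := by abel
  rw [this, hd']

/-- An involution of `X` inverts `V`. -/
private theorem badv_inv (h : TLin 3 X V) (z : X) (hz1 : z ≠ 1) (hz2 : z * z = 1) (v : V) :
    z • v = v⁻¹ := by
  have : Fact (Nat.Prime 3) := ⟨Nat.prime_three⟩
  have ho : orderOf z = 2 := orderOf_eq_prime (by rw [pow_two]; exact hz2) hz1
  have hcop : (orderOf z).Coprime 3 := by rw [ho]; decide
  by_contra hne
  have hw : v * z • v ≠ 1 := fun hw => hne (eq_inv_of_mul_eq_one_right hw)
  have hfix : z • (v * z • v) = v * z • v := by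
    rw [smul_mul', ← mul_smul, hz2, one_smul, mul_comm]
  exact hz1 (h.fpf hcop hfix hw)

/-- The endomorphism `v ↦ v * i • v * j • v`. -/
private noncomputable def badvU (i j : X) : V →* V :=
  MonoidHom.id V * MulDistribMulAction.toMonoidHom V i * MulDistribMulAction.toMonoidHom V j

private theorem badvU_apply (i j : X) (v : V) : badvU i j v = v * i • v * j • v := rfl

private theorem badvU_sq (i j : X) (hi2 : ∀ v : V, i • i • v = v⁻¹) (hj2 : ∀ v : V, j • j • v = v⁻¹)
    (hji' : ∀ v : V, j • i • v = (i • j • v)⁻¹) (hexp : ∀ v : V, v ^ 3 = 1) (v : V) :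
    badvU i j (badvU i j v) = (badvU i j v)⁻¹ := by
  have e1 : i • (v * i • v * j • v) = i • v * v⁻¹ * i • j • v := by
    rw [smul_mul', smul_mul', hi2 v]
  have e2 : j • (v * i • v * j • v) = j • v * (i • j • v)⁻¹ * v⁻¹ := by
    rw [smul_mul', smul_mul', hji' v, hj2 v]
  rw [badvU_apply, badvU_apply, e1, e2]
  exact badv_id1 v (i • v) (j • v) (i • j • v) (hexp _) (hexp _)

private theorem badvU_k (i j : X) (hi2 : ∀ v : V, i • i • v = v⁻¹) (hj2 : ∀ v : V, j • j • v = v⁻¹)
    (hji' : ∀ v : V, j • i • v = (i • j • v)⁻¹) (hexp : ∀ v : V, v ^ 3 = 1) (v : V) :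
    badvU i j (i • j • v) = (i • j • (v * badvU i j v))⁻¹ := by
  have e1 : i • (i • j • v) = (j • v)⁻¹ := hi2 _
  have e2 : j • (i • j • v) = i • v := by
    rw [hji', hj2, smul_inv', inv_inv]
  have e3 : i • j • (v * (v * i • v * j • v))
      = i • j • v * (i • j • v * j • v * (i • v)⁻¹) := by
    rw [smul_mul', smul_mul', smul_mul', smul_mul', smul_mul', smul_mul', hji', hj2, smul_inv',
      smul_inv', hi2, inv_inv]
  rw [badvU_apply, badvU_apply, e1, e2, e3]
  exact badv_id2 (i • v) (j • v) (i • j • v) (hexp _)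

/-- A free invariant-subset count: an `l`-subgroup `L` of `C` (`l ≠ 3`) has order dividing
`|W| - 1` for an `L`-invariant subgroup `W` of `V`. -/
private theorem badv_free [Finite X] [Finite V] (h : TLin 3 X V) (C : Subgroup X)
    (W : Subgroup V) (hW : ∀ c ∈ C, ∀ v ∈ W, c • v ∈ W) {l : ℕ} (hl : l.Prime) (hl3 : l ≠ 3)
    (L : Subgroup C) (hL : IsPGroup l L) : Nat.card L ∣ Nat.card W - 1 := by
  have : Fact (Nat.Prime 3) := ⟨Nat.prime_three⟩
  have hsm : ∀ (x : L) (v : V), x • v = ((x : C) : X) • v := fun x v => rfl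
  have hne : ∀ (x : X) (v : V), v ≠ 1 → x • v ≠ 1 := by
    intro x v hv hxv
    apply hv
    have := congrArg (fun w => x⁻¹ • w) hxv
    simpa using this
  let S : SubMulAction L V :=
    { carrier := {v | v ∈ W ∧ v ≠ 1}
      smul_mem' := fun x v hv => ⟨by rw [hsm]; exact hW _ (x : C).2 v hv.1,
        by rw [hsm]; exact hne _ v hv.2⟩ }
  have hfree : ∀ s : S, MulAction.stabilizer L s = ⊥ := by
    intro s
    rw [Subgroup.eq_bot_iff_forall]
    intro x hx
    have hx' : x • s = s := hx
    have hx2 : ((x : C) : X) • (s : V) = (s : V) := by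
      have := congrArg (fun t : S => (t : V)) hx'
      exact this
    obtain ⟨k, hk⟩ := hL x
    have hk' : (((x : C) : X)) ^ l ^ k = 1 := by
      have := congrArg (fun t : L => ((t : C) : X)) hk
      simpa using this
    have hdvd : orderOf ((x : C) : X) ∣ l ^ k := orderOf_dvd_of_pow_eq_one hk'
    have hcop : (orderOf ((x : C) : X)).Coprime 3 :=
      Nat.Coprime.coprime_dvd_left hdvd
        (Nat.Coprime.pow_left k ((Nat.coprime_primes hl Nat.prime_three).mpr hl3))
    have h1 : ((x : C) : X) = 1 := h.fpf hcop hx2 s.2.2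
    exact Subtype.ext (Subtype.ext h1)
  have hcard : Nat.card S = Nat.card (Quotient (MulAction.orbitRel L S)) * Nat.card L := by
    rw [← Nat.card_prod]
    exact Nat.card_congr (MulAction.selfEquivOrbitsQuotientProd hfree)
  have hS : Nat.card S = Nat.card W - 1 := by
    have h1 : Nat.card S = ({v | v ∈ W ∧ v ≠ 1} : Set V).ncard := Nat.card_coe_set_eq _
    have h2 : ({v | v ∈ W ∧ v ≠ 1} : Set V) = (W : Set V) \ {1} := by
      ext v; simp
    have h3 : Nat.card W = (W : Set V).ncard := Nat.card_coe_set_eq _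
    rw [h1, h2, h3, Set.ncard_sdiff_singleton_of_mem (W.one_mem)]
  rw [← hS, hcard]
  exact dvd_mul_left _ _

private theorem badv_smul_eq_one (x : X) (w : V) : x • w = 1 ↔ w = 1 := by
  constructor
  · intro hxw
    have := congrArg (fun t => x⁻¹ • t) hxw
    simpa using this
  · rintro rfl; exact smul_one x

private theorem badv_aux [Finite X] [Finite V] (h : TLin 3 X V) (i j : X) (C : Subgroup X)
    (hii : i * i = j * j) (hz1 : i * i ≠ 1) (hz2 : (i * i) * (i * i) = 1)
    (hji : j * i = (i * i) * (i * j)) (hCi : ∀ c ∈ C, c * i = i * c) (hCj : ∀ c ∈ C, c * j = j * c)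
    (hidx : C.index ∣ 24) : ∃ b : ℕ, Nat.card X = 3 ^ b * 8 := by
  have : Fact (Nat.Prime 3) := ⟨Nat.prime_three⟩
  have hzv := badv_inv h (i * i) hz1 hz2
  have hi2 : ∀ v : V, i • i • v = v⁻¹ := fun v => by rw [← mul_smul]; exact hzv v
  have hj2 : ∀ v : V, j • j • v = v⁻¹ := fun v => by rw [← mul_smul, ← hii]; exact hzv v
  have hji' : ∀ v : V, j • i • v = (i • j • v)⁻¹ := fun v => by
    rw [← mul_smul, hji, mul_smul, hzv, mul_smul]
  have husq := badvU_sq i j hi2 hj2 hji' h.exp
  have hk := badvU_k i j hi2 hj2 hji' h.exp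
  set u : V →* V := badvU i j with hu
  have hCu : ∀ c ∈ C, ∀ v : V, u (c • v) = c • u v := by
    intro c hc v
    rw [hu, badvU_apply, badvU_apply, smul_mul', smul_mul', ← mul_smul c i, ← mul_smul c j,
      hCi c hc, hCj c hc, mul_smul, mul_smul]
  have hW : ∀ v, v ∈ u.range ↔ u v = v⁻¹ := by
    intro v
    constructor
    · rintro ⟨w, rfl⟩; exact husq w
    · intro hv; exact ⟨v⁻¹, by rw [map_inv, hv, inv_inv]⟩
  have hker : ∀ v, v ∈ u.range ↔ (MulAction.toPerm (i * j) : Equiv.Perm V) v ∈ u.ker := by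
    intro v
    rw [hW, MonoidHom.mem_ker, MulAction.toPerm_apply, mul_smul, hk, inv_eq_one,
      badv_smul_eq_one, badv_smul_eq_one, mul_eq_one_iff_inv_eq, eq_comm]
  have hcardK : Nat.card u.ker = Nat.card u.range :=
    (Nat.card_congr (Equiv.subtypeEquiv (MulAction.toPerm (i * j)) hker)).symm
  have hcardV : Nat.card V = Nat.card u.range * Nat.card u.range := by
    rw [← Subgroup.card_mul_index u.ker, Subgroup.index_ker, hcardK]
  have hWC : ∀ c ∈ C, ∀ v ∈ u.range, c • v ∈ u.range := by
    intro c hc v hv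
    rw [hW] at hv ⊢
    rw [hCu c hc, hv, smul_inv']
  have hfree : ∀ l : ℕ, l.Prime → l ≠ 3 →
      l ^ (Nat.card C).factorization l ∣ Nat.card u.range - 1 := by
    intro l hl hl3
    have : Fact l.Prime := ⟨hl⟩
    have L : Sylow l C := default
    have hL := badv_free h C u.range hWC hl hl3 (L : Subgroup C) L.isPGroup'
    rwa [Sylow.card_eq_multiplicity] at hL
  obtain ⟨a, b, ha, hVa, hXb⟩ := h.card
  refine ⟨b, ?_⟩
  generalize Nat.card u.range = m at hcardV hfree
  -- m is a power of 3, m ≥ 3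
  have hm_dvd : m ∣ 3 ^ a := ⟨m, by rw [← hVa, hcardV]⟩
  obtain ⟨t, -, hmt⟩ := (Nat.dvd_prime_pow Nat.prime_three).mp hm_dvd
  have ht : t ≠ 0 := by
    rintro rfl
    rw [pow_zero] at hmt
    rw [hmt, one_mul, hVa] at hcardV
    have : 3 ≤ 3 ^ a := Nat.le_self_pow ha.ne' 3
    omega
  have h3m : 3 ∣ m := by rw [hmt]; exact dvd_pow_self 3 ht
  have hm3 : 3 ≤ m := Nat.le_of_dvd (by rw [hmt]; positivity) h3m
  have hfac : ∀ l : ℕ, l.Prime → l ≠ 3 →
      (Nat.card C).factorization l ≤ (m - 1).factorization l := fun l hl hl3 =>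
    (hl.pow_dvd_iff_le_factorization (by omega)).mp (hfree l hl hl3)
  have hX : Nat.card X = 3 ^ b * ((m - 1) * (m + 1)) := by
    rw [hXb, ← hVa, hcardV]
    congr 1
    obtain ⟨n, rfl⟩ : ∃ n, m = n + 1 := ⟨m - 1, by omega⟩
    rw [Nat.add_sub_cancel]
    have : (n + 1) * (n + 1) = n * (n + 1 + 1) + 1 := by ring
    rw [this, Nat.add_sub_cancel]
  have hnot3 : ∀ l : ℕ, l.Prime → l ≠ 3 → ∀ e : ℕ, (3 ^ e).factorization l = 0 := by
    intro l hl hl3 e
    apply Nat.factorization_eq_zero_of_not_dvd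
    intro hd
    exact hl3 ((Nat.prime_dvd_prime_iff_eq hl Nat.prime_three).mp (hl.dvd_of_dvd_pow hd))
  have hdvd8 : m + 1 ∣ 8 := by
    rw [← Nat.factorization_prime_le_iff_dvd (by omega) (by norm_num)]
    intro l hl
    by_cases hl3 : l = 3
    · subst hl3
      have hnd : ¬ 3 ∣ m + 1 := by omega
      rw [Nat.factorization_eq_zero_of_not_dvd hnd]
      exact Nat.zero_le _
    · have h1 : (Nat.card X).factorization l
          = (m - 1).factorization l + (m + 1).factorization l := by
        rw [hX, Nat.factorization_mul (by positivity) (by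
            have : 0 < (m - 1) * (m + 1) := Nat.mul_pos (by omega) (by omega)
            omega),
          Nat.factorization_mul (by omega) (by omega), Finsupp.add_apply, Finsupp.add_apply,
          hnot3 l hl hl3 b, zero_add]
      have h2 : (Nat.card X).factorization l
          = (Nat.card C).factorization l + C.index.factorization l := by
        rw [← Subgroup.card_mul_index C,
          Nat.factorization_mul Nat.card_pos.ne' (Subgroup.index_ne_zero_of_finite),
          Finsupp.add_apply]
      have h3 : C.index.factorization l ≤ (24 : ℕ).factorization l :=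
        (Nat.factorization_le_iff_dvd Subgroup.index_ne_zero_of_finite (by norm_num)).mpr hidx l
      have h4 : (24 : ℕ).factorization l = (8 : ℕ).factorization l := by
        have : (24 : ℕ) = 8 * 3 ^ 1 := by norm_num
        rw [this, Nat.factorization_mul (by norm_num) (by norm_num), Finsupp.add_apply,
          hnot3 l hl hl3 1, add_zero]
      have h5 := hfac l hl hl3
      omega
  have hle : m + 1 ≤ 8 := Nat.le_of_dvd (by norm_num) hdvd8
  have hm : m = 3 := by
    have hm7 : m ≤ 7 := by omega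
    interval_cases m <;> first | rfl | omega
  rw [hX, hm]

end BADVaux

section BADV
variable {X V : Type*} [Group X] [Group V] [MulDistribMulAction X V]

theorem badv [Finite X] [Finite V] (h : TLin 3 X V) (i j : X) (C : Subgroup X)
    (hii : i * i = j * j) (hz1 : i * i ≠ 1) (hz2 : (i * i) * (i * i) = 1)
    (hji : j * i = (i * i) * (i * j)) (hCi : ∀ c ∈ C, c * i = i * c) (hCj : ∀ c ∈ C, c * j = j * c)
    (hidx : C.index ∣ 24) : ∃ b : ℕ, Nat.card X = 3 ^ b * 8 := by
  let _ : CommGroup V := { ‹Group V› with mul_comm := h.comm }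
  exact badv_aux h i j C hii hz1 hz2 hji hCi hCj hidx

end BADV

end Cfsg.Agent.Helper14.Gag40
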