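import Mathlib
import Cfsg.Agent.Lib.Helper17.BTRED
import Cfsg.Agent.Lib.Helper24.CharLinear
import Cfsg.Agent.Lib.Helper24.CharComplete
import Cfsg.Agent.Lib.Helper24.O5040DET2
import Cfsg.Agent.Lib.Helper24.O5040MULT

set_option autoImplicit false
set_option linter.style.haveILetI false
open Cfsg
open scoped commutatorElement

namespace Cfsg.Agent.Helper28.Ord5040

theorem perfect_of_nonab {G : Type*} [Group G] [IsSimpleGroup G]
    (hG : ∃ x y : G, x * y ≠ y * x) : commutator G = ⊤ := by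
  rcases (inferInstance : (commutator G).Normal).eq_bot_or_eq_top with h | h
  · exfalso
    obtain ⟨a, b, hab⟩ := hG
    apply hab
    have h1 : ⁅a, b⁆ ∈ commutator G := by
      rw [commutator_def]
      exact Subgroup.commutator_mem_commutator (Subgroup.mem_top a) (Subgroup.mem_top b)
    rw [h, Subgroup.mem_bot, commutatorElement_eq_one_iff_mul_comm] at h1
    exact h1
  · exact h

theorem step3 {G : Type*} [Group G] [Finite G] [IsSimpleGroup G] (hG : ∃ x y : G, x * y ≠ y * x)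
    (p : ℕ) [Fact p.Prime] (hp2 : p ≠ 2) (P : Sylow p G) (hP : Nat.card P = p)
    (t : G) (ht : orderOf t = 2) (htC : t ∈ Subgroup.centralizer ((P : Subgroup G) : Set G))
    (χ : IrrCharacter G) (hχ : ∃ g : G, (χ : G → ℂ) g ≠ 1) (ε : ℤ)
    (hval : ∀ x : G, x ∈ (P : Subgroup G) → x ≠ 1 → ∀ y : G,
      y ∈ Subgroup.centralizer ((P : Subgroup G) : Set G) → ¬ p ∣ orderOf y →
      (χ : G → ℂ) (x * y) = (ε : ℂ)) :
    ∃ j : ℕ, 1 ≤ j ∧ (χ : G → ℂ) t = (charDegree (χ : G → ℂ) : ℂ) - 4 * (p : ℂ) * (j : ℂ) ∧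
      2 * p * j ≤ charDegree (χ : G → ℂ) := by
  classical
  letI : Fintype G := Fintype.ofFinite G
  have hpp : p.Prime := Fact.out
  have hp3 : 3 ≤ p := by
    have := hpp.two_le
    omega
  have hχc : IsCharacter G (χ : G → ℂ) := Cfsg.Agent.Helper24.isCharacter_of_isIrrCharacter χ.2
  have hdeg : (χ : G → ℂ) 1 = (charDegree (χ : G → ℂ) : ℂ) :=
    Cfsg.Agent.Helper24.irr_one_eq_charDegree χ.2
  have ht2 : t ^ 2 = 1 := by rw [← ht]; exact pow_orderOf_eq_one t
  -- a generator of P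
  have hPcard : Nat.card (P : Subgroup G) = p := hP
  obtain ⟨x, hxP, hx1⟩ : ∃ x : G, x ∈ (P : Subgroup G) ∧ x ≠ 1 := by
    by_contra hno
    push Not at hno
    have hbot : (P : Subgroup G) = ⊥ := by
      rw [Subgroup.eq_bot_iff_forall]
      exact hno
    rw [hbot, Subgroup.card_bot] at hPcard
    omega
  have hxord : orderOf x = p := by
    have h1 : orderOf x ∣ p := by
      have := Subgroup.orderOf_dvd_natCard (P : Subgroup G) hxP
      rwa [hPcard] at this
    rcases (Nat.dvd_prime hpp).1 h1 with h | h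
    · exact absurd (orderOf_eq_one_iff.1 h) hx1
    · exact h
  have hxp : x ^ p = 1 := by rw [← hxord]; exact pow_orderOf_eq_one x
  have hcomm : Commute x t := by
    have := (Subgroup.mem_centralizer_iff.1 htC) x hxP
    exact this
  have hpow : ∀ i : ℕ, 0 < i → i < p → x ^ i ∈ (P : Subgroup G) ∧ x ^ i ≠ 1 := by
    intro i hi0 hip
    refine ⟨Subgroup.pow_mem _ hxP i, ?_⟩
    intro h1
    have := orderOf_dvd_of_pow_eq_one h1
    rw [hxord] at this
    have := Nat.le_of_dvd hi0 this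
    omega
  have hone_reg : ¬ p ∣ orderOf (1 : G) := by
    rw [orderOf_one]
    intro h
    have := Nat.le_of_dvd Nat.one_pos h
    omega
  have ht_reg : ¬ p ∣ orderOf t := by
    rw [ht]
    intro h
    have := Nat.le_of_dvd (by norm_num) h
    omega
  have hv1 : ∀ i : ℕ, 0 < i → i < p → (χ : G → ℂ) (x ^ i) = (ε : ℂ) := by
    intro i hi0 hip
    obtain ⟨h1, h2⟩ := hpow i hi0 hip
    have := hval (x ^ i) h1 h2 1 (Subgroup.one_mem _) hone_reg
    rwa [mul_one] at this
  have hv2 : ∀ i : ℕ, 0 < i → i < p → (χ : G → ℂ) (x ^ i * t) = (ε : ℂ) := by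
    intro i hi0 hip
    obtain ⟨h1, h2⟩ := hpow i hi0 hip
    exact hval (x ^ i) h1 h2 t htC ht_reg
  obtain ⟨m', hm'⟩ := mult_pair hχc x t hcomm p hpp.pos hxp ht2
  obtain ⟨m, hm⟩ := inv_value_mod_four (perfect_of_nonab hG) hχc t ht2
  have hsum : ∑ i ∈ Finset.range p, ((χ : G → ℂ) (x ^ i) - (χ : G → ℂ) (x ^ i * t)) =
      (χ : G → ℂ) 1 - (χ : G → ℂ) t := by
    rw [Finset.sum_eq_single 0]
    · simp
    · intro i hi hi0
      have hip := Finset.mem_range.1 hi
      have hi0' : 0 < i := Nat.pos_of_ne_zero hi0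
      rw [hv1 i hi0' hip, hv2 i hi0' hip, sub_self]
    · intro h0
      exact absurd (Finset.mem_range.2 hpp.pos) h0
  rw [hsum] at hm'
  -- 2 p m' = 4 m
  have hnat : 2 * p * m' = 4 * m := by
    have h1 : (2 * (p : ℂ) * (m' : ℂ)) = 4 * (m : ℂ) := by
      rw [hm', hm]; ring
    exact_mod_cast h1
  have hodd : p % 2 = 1 := by
    rcases hpp.eq_two_or_odd with h | h
    · exact absurd h hp2
    · exact h
  have hm'even : m' % 2 = 0 := by
    have h2 : p * m' = 2 * m := by
      have : 2 * (p * m') = 2 * (2 * m) := by ring_nf; ring_nf at hnat; omega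
      omega
    have h3 : (p * m') % 2 = 0 := by omega
    rw [Nat.mul_mod, hodd] at h3
    omega
  obtain ⟨j, hj⟩ : ∃ j, m' = 2 * j := ⟨m' / 2, by omega⟩
  have hval_t : (χ : G → ℂ) t = (charDegree (χ : G → ℂ) : ℂ) - 4 * (p : ℂ) * (j : ℂ) := by
    have h1 : (χ : G → ℂ) 1 - (χ : G → ℂ) t = 2 * (p : ℂ) * (m' : ℂ) := hm'.symm
    rw [hj, hdeg] at h1
    push_cast at h1
    linear_combination (-1 : ℂ) * h1
  refine ⟨j, ?_, hval_t, ?_⟩
  · -- j ≥ 1
    rcases Nat.eq_zero_or_pos j with h0 | h0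
    · exfalso
      subst h0
      have h1 : (χ : G → ℂ) t = (χ : G → ℂ) 1 := by
        rw [hval_t, hdeg]; simp
      have hne : χ ≠ Cfsg.Agent.Helper24.principalChar G := by
        intro heq
        obtain ⟨g, hg⟩ := hχ
        apply hg
        rw [heq]
        rfl
      have := Cfsg.Agent.Helper21.BT.RED.faithful_of_simple χ hne t h1
      rw [this, orderOf_one] at ht
      omega
    · exact h0
  · -- norm bound
    have hn := Cfsg.Agent.Helper24.norm_le_charDegree hχc t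
    rw [hval_t] at hn
    have h2 : (((charDegree (χ : G → ℂ) : ℂ) - 4 * (p : ℂ) * (j : ℂ))) =
        (((charDegree (χ : G → ℂ) : ℤ) - 4 * (p : ℤ) * (j : ℤ) : ℤ) : ℂ) := by
      push_cast; ring
    rw [h2, Complex.norm_intCast] at hn
    have h3 : |((charDegree (χ : G → ℂ) : ℤ) - 4 * (p : ℤ) * (j : ℤ) : ℤ)| ≤
        (charDegree (χ : G → ℂ) : ℤ) := by
      have : ((|((charDegree (χ : G → ℂ) : ℤ) - 4 * (p : ℤ) * (j : ℤ) : ℤ)| : ℤ) : ℝ) ≤
          ((charDegree (χ : G → ℂ) : ℤ) : ℝ) := by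
        push_cast
        push_cast at hn
        exact hn
      exact_mod_cast this
    have h4 := (abs_le.1 h3).1
    have : (4 * (p : ℤ) * (j : ℤ)) ≤ 2 * (charDegree (χ : G → ℂ) : ℤ) := by linarith
    have h5 : (2 * (2 * p * j) : ℤ) ≤ 2 * (charDegree (χ : G → ℂ) : ℤ) := by
      have : (2 * (2 * (p : ℤ) * (j : ℤ))) = 4 * (p : ℤ) * (j : ℤ) := by ring
      linarith
    have h6 : ((2 * p * j : ℕ) : ℤ) ≤ (charDegree (χ : G → ℂ) : ℤ) := by
      push_cast
      linarith
    exact_mod_cast h6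

end Cfsg.Agent.Helper28.Ord5040
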