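import Mathlib
import Cfsg.Prelude.Def_Classical
import Cfsg.Prelude.Def_ClassicalGeometry
import Cfsg.Agent.Lib.Helper17.SpinorOmega

/-!
# Siegel transformations as isometries (helper28)
-/

set_option autoImplicit false

namespace Cfsg.Agent.Helper28.Siegel
open Cfsg QuadraticMap

section general
variable {F V : Type*} [Field F] [AddCommGroup V] [Module F V] (Q : QuadraticForm F V)

/-- the Siegel map `x ↦ x + c f(x,u) v - c f(x,v) u` -/
noncomputable def sieg (u v : V) (c : F) : Module.End F V :=
  LinearMap.id + c • ((polarBilin Q u).smulRight v - (polarBilin Q v).smulRight u)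

theorem sieg_apply (u v : V) (c : F) (x : V) :
    sieg Q u v c x = x + c • (polar Q u x • v - polar Q v x • u) := by
  simp [sieg]

/-- the map `-1` on the hyperbolic plane spanned by `u, u'`, identity on its complement -/
noncomputable def hyp (u u' : V) : Module.End F V :=
  LinearMap.id - (2 : F) • ((polarBilin Q u').smulRight u + (polarBilin Q u).smulRight u')

theorem hyp_apply (u u' : V) (x : V) :
    hyp Q u u' x = x - (2 : F) • (polar Q u' x • u + polar Q u x • u') := by
  simp [hyp]

theorem Q_lin3 (x y z : V) (a b : F) :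
    Q (x + (a • y + b • z)) = Q x + a * a * Q y + b * b * Q z + a * b * polar Q y z
      + a * polar Q x y + b * polar Q x z := by
  have h1 := QuadraticMap.map_add (⇑Q) x (a • y + b • z)
  have h2 := QuadraticMap.map_add (⇑Q) (a • y) (b • z)
  rw [h1, h2, QuadraticMap.map_smul, QuadraticMap.map_smul, polar_add_right, polar_smul_right,
    polar_smul_right, polar_smul_left, polar_smul_right]
  simp only [smul_eq_mul]
  ring

variable {Q}

theorem Q_sieg {u v : V} (hu : Q u = 0) (hv : Q v = 0) (huv : polar Q u v = 0) (c : F) (x : V) :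
    Q (sieg Q u v c x) = Q x := by
  rw [sieg_apply]
  have h : x + c • (polar Q u x • v - polar Q v x • u)
      = x + ((c * polar Q u x) • v + (-(c * polar Q v x)) • u) := by
    module
  rw [h, Q_lin3, hu, hv, polar_comm Q v u, huv, polar_comm Q x v, polar_comm Q x u]
  ring

theorem sieg_sieg {u v : V} (hu : Q u = 0) (hv : Q v = 0) (huv : polar Q u v = 0) (c d : F) (x : V) :
    sieg Q u v c (sieg Q u v d x) = sieg Q u v (c + d) x := by
  have huu : polar Q u u = 0 := by rw [polar_self, hu]; simp
  have hvv : polar Q v v = 0 := by rw [polar_self, hv]; simp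
  have hvu : polar Q v u = 0 := by rw [polar_comm, huv]
  have h1 : polar Q u (sieg Q u v d x) = polar Q u x := by
    rw [sieg_apply, polar_add_right, polar_smul_right, polar_sub_right, polar_smul_right,
      polar_smul_right, huu, huv]
    simp
  have h2 : polar Q v (sieg Q u v d x) = polar Q v x := by
    rw [sieg_apply, polar_add_right, polar_smul_right, polar_sub_right, polar_smul_right,
      polar_smul_right, hvv, hvu]
    simp
  rw [sieg_apply, h1, h2, sieg_apply, sieg_apply]
  module

theorem sieg_zero (u v : V) (x : V) : sieg Q u v 0 x = x := by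
  rw [sieg_apply]; simp

theorem Q_hyp {u u' : V} (hu : Q u = 0) (hu' : Q u' = 0) (huu' : polar Q u u' = 1) (x : V) :
    Q (hyp Q u u' x) = Q x := by
  rw [hyp_apply]
  have h : x - (2 : F) • (polar Q u' x • u + polar Q u x • u')
      = x + ((-(2 * polar Q u' x)) • u + (-(2 * polar Q u x)) • u') := by
    module
  rw [h, Q_lin3, hu, hu', huu', polar_comm Q x u, polar_comm Q x u']
  ring

theorem hyp_hyp {u u' : V} (hu : Q u = 0) (hu' : Q u' = 0) (huu' : polar Q u u' = 1) (x : V) :
    hyp Q u u' (hyp Q u u' x) = x := by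
  have h0 : polar Q u u = 0 := by rw [polar_self, hu]; simp
  have h0' : polar Q u' u' = 0 := by rw [polar_self, hu']; simp
  have h1' : polar Q u' u = 1 := by rw [polar_comm, huu']
  have h1 : polar Q u (hyp Q u u' x) = - polar Q u x := by
    rw [hyp_apply, polar_sub_right, polar_smul_right, polar_add_right, polar_smul_right,
      polar_smul_right, h0, huu']
    simp only [smul_eq_mul]
    ring
  have h2 : polar Q u' (hyp Q u u' x) = - polar Q u' x := by
    rw [hyp_apply, polar_sub_right, polar_smul_right, polar_add_right, polar_smul_right,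
      polar_smul_right, h0', h1']
    simp only [smul_eq_mul]
    ring
  rw [hyp_apply, h1, h2, hyp_apply]
  module

/-- the key commutation relation -/
theorem hyp_sieg {u u' v : V} (hu : Q u = 0) (hu' : Q u' = 0) (huu' : polar Q u u' = 1)
    (hv : Q v = 0) (huv : polar Q u v = 0) (hu'v : polar Q u' v = 0) (d : F) (x : V) :
    hyp Q u u' (sieg Q u v d x) = sieg Q u v (-(2 * d)) (sieg Q u v d (hyp Q u u' x)) := by
  have h0 : polar Q u u = 0 := by rw [polar_self, hu]; simp
  have h0' : polar Q u' u' = 0 := by rw [polar_self, hu']; simp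
  have h1' : polar Q u' u = 1 := by rw [polar_comm, huu']
  have hvv : polar Q v v = 0 := by rw [polar_self, hv]; simp
  have hvu : polar Q v u = 0 := by rw [polar_comm, huv]
  have hvu' : polar Q v u' = 0 := by rw [polar_comm, hu'v]
  rw [sieg_sieg hu hv huv]
  have e1 : polar Q u (sieg Q u v d x) = polar Q u x := by
    rw [sieg_apply, polar_add_right, polar_smul_right, polar_sub_right, polar_smul_right,
      polar_smul_right, h0, huv]
    simp
  have e2 : polar Q u' (sieg Q u v d x) = polar Q u' x - d * polar Q v x := by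
    rw [sieg_apply, polar_add_right, polar_smul_right, polar_sub_right, polar_smul_right,
      polar_smul_right, hu'v, h1']
    simp only [smul_eq_mul]
    ring
  have e3 : polar Q u (hyp Q u u' x) = - polar Q u x := by
    rw [hyp_apply, polar_sub_right, polar_smul_right, polar_add_right, polar_smul_right,
      polar_smul_right, h0, huu']
    simp only [smul_eq_mul]
    ring
  have e4 : polar Q v (hyp Q u u' x) = polar Q v x := by
    rw [hyp_apply, polar_sub_right, polar_smul_right, polar_add_right, polar_smul_right,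
      polar_smul_right, hvu, hvu']
    simp
  rw [hyp_apply, e1, e2, sieg_apply, sieg_apply, e3, e4, hyp_apply]
  module

theorem sieg_eq_id_of_left_zero (v : V) (c : F) (x : V) : sieg Q 0 v c x = x := by
  rw [sieg_apply]; simp

theorem sieg_eq_id_of_smul (u : V) (t c : F) (x : V) : sieg Q u (t • u) c x = x := by
  rw [sieg_apply, polar_smul_left]
  simp only [smul_eq_mul]
  module

theorem exists_polar_eq_one (hQ : (polarBilin Q).Nondegenerate) {x : V} (hx : x ≠ 0) :
    ∃ y, polar Q x y = 1 := by
  have h1 : ∃ y, polar Q x y ≠ 0 := by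
    by_contra hcon
    push Not at hcon
    exact hx (hQ.1 x hcon)
  obtain ⟨y, hy⟩ := h1
  refine ⟨(polar Q x y)⁻¹ • y, ?_⟩
  rw [polar_smul_right, smul_eq_mul, inv_mul_cancel₀ hy]

/-- a singular partner of `u`, orthogonal to `v` -/
theorem exists_hyp_partner (hQ : (polarBilin Q).Nondegenerate) {u v : V} (hu : Q u = 0)
    (huv : polar Q u v = 0) (hu0 : u ≠ 0) (hv : ∀ t : F, v ≠ t • u) :
    ∃ u', Q u' = 0 ∧ polar Q u u' = 1 ∧ polar Q u' v = 0 := by
  have huu : polar Q u u = 0 := by rw [polar_self, hu]; simp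
  obtain ⟨w1, hw1⟩ := exists_polar_eq_one hQ hu0
  have hv' : v - polar Q v w1 • u ≠ 0 := by
    intro h
    exact hv _ (sub_eq_zero.1 h)
  obtain ⟨w2, hw2⟩ := exists_polar_eq_one hQ hv'
  rw [polar_sub_left, polar_smul_left, smul_eq_mul] at hw2
  obtain ⟨w, hw, hwv⟩ : ∃ w, polar Q u w = 1 ∧ polar Q v w = 0 := by
    refine ⟨(1 + polar Q v w1 * polar Q u w2) • w1 - polar Q v w1 • w2, ?_, ?_⟩
    · rw [polar_sub_right, polar_smul_right, polar_smul_right, hw1]
      simp only [smul_eq_mul]
      ring
    · rw [polar_sub_right, polar_smul_right, polar_smul_right]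
      simp only [smul_eq_mul]
      linear_combination (-(polar Q v w1)) * hw2
  refine ⟨w - Q w • u, ?_, ?_, ?_⟩
  · rw [Cfsg.Agent.Helper17.Spinor.Q_sub_smul, hu, polar_comm Q w u, hw]
    ring
  · rw [polar_sub_right, polar_smul_right, huu, hw]
    simp
  · rw [polar_sub_left, polar_smul_left, polar_comm Q w v, hwv, huv]
    simp

end general

section concrete
variable {F : Type*} [Field F] {ι : Type} [Fintype ι] [DecidableEq ι] (Q : QuadraticForm F (ι → F))

/-- an isometry group element from a pair of mutually inverse endomorphisms -/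
noncomputable def ofEnd (φ ψ : Module.End F (ι → F)) (h1 : φ * ψ = 1) (h2 : ψ * φ = 1)
    (hiso : ∀ x, Q (φ x) = Q x) : ↥(Cfsg.isometryGroup F (⇑Q)) :=
  ⟨⟨LinearMap.toMatrix' φ, LinearMap.toMatrix' ψ,
    by rw [← LinearMap.toMatrix'_mul, h1, LinearMap.toMatrix'_one],
    by rw [← LinearMap.toMatrix'_mul, h2, LinearMap.toMatrix'_one]⟩, by
    intro x _
    show Q ((LinearMap.toMatrix' φ).mulVec x) = Q x
    rw [LinearMap.toMatrix'_mulVec]
    exact hiso x⟩

theorem toEnd_ofEnd (φ ψ : Module.End F (ι → F)) (h1 : φ * ψ = 1) (h2 : ψ * φ = 1)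
    (hiso : ∀ x, Q (φ x) = Q x) :
    Cfsg.Agent.Helper17.Spinor.toEnd Q (ofEnd Q φ ψ h1 h2 hiso) = φ :=
  Matrix.toLin'_toMatrix' φ

theorem siegelMatrix_mulVec (u v : ι → F) (c : F) (x : ι → F) :
    (Cfsg.siegelMatrix (⇑Q) u v c).mulVec x = sieg Q u v c x := by
  rw [Cfsg.siegelMatrix, Matrix.add_mulVec, Matrix.one_mulVec, Matrix.smul_mulVec,
    Matrix.sub_mulVec, Matrix.vecMulVec_mulVec, Matrix.vecMulVec_mulVec,
    Cfsg.Agent.Helper17.Spinor.polarVec_dotProduct, Cfsg.Agent.Helper17.Spinor.polarVec_dotProduct,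
    sieg_apply]
  ext k
  simp [mul_comm]

/-- the Siegel transformation as an element of the isometry group -/
noncomputable def siegG {u v : ι → F} (hu : Q u = 0) (hv : Q v = 0) (huv : polar Q u v = 0)
    (c : F) : ↥(Cfsg.isometryGroup F (⇑Q)) :=
  ofEnd Q (sieg Q u v c) (sieg Q u v (-c))
    (by
      apply LinearMap.ext
      intro x
      rw [Module.End.mul_apply, sieg_sieg hu hv huv, add_neg_cancel, sieg_zero,
        Module.End.one_apply])
    (by
      apply LinearMap.ext
      intro x
      rw [Module.End.mul_apply, sieg_sieg hu hv huv, neg_add_cancel, sieg_zero,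
        Module.End.one_apply])
    (Q_sieg hu hv huv c)

theorem toEnd_siegG {u v : ι → F} (hu : Q u = 0) (hv : Q v = 0) (huv : polar Q u v = 0)
    (c : F) : Cfsg.Agent.Helper17.Spinor.toEnd Q (siegG Q hu hv huv c) = sieg Q u v c :=
  toEnd_ofEnd Q _ _ _ _ _

/-- the hyperbolic `-1` as an element of the isometry group -/
noncomputable def hypG {u u' : ι → F} (hu : Q u = 0) (hu' : Q u' = 0) (huu' : polar Q u u' = 1) :
    ↥(Cfsg.isometryGroup F (⇑Q)) :=
  ofEnd Q (hyp Q u u') (hyp Q u u')
    (by
      apply LinearMap.ext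
      intro x
      rw [Module.End.mul_apply, hyp_hyp hu hu' huu', Module.End.one_apply])
    (by
      apply LinearMap.ext
      intro x
      rw [Module.End.mul_apply, hyp_hyp hu hu' huu', Module.End.one_apply])
    (Q_hyp hu hu' huu')

theorem toEnd_hypG {u u' : ι → F} (hu : Q u = 0) (hu' : Q u' = 0) (huu' : polar Q u u' = 1) :
    Cfsg.Agent.Helper17.Spinor.toEnd Q (hypG Q hu hu' huu') = hyp Q u u' :=
  toEnd_ofEnd Q _ _ _ _ _

theorem toEnd_eq_sieg {g : ↥(Cfsg.isometryGroup F (⇑Q))} {u v : ι → F} {c : F}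
    (hg : ((g : Matrix.GeneralLinearGroup ι F) : Matrix ι ι F) = Cfsg.siegelMatrix (⇑Q) u v c) :
    Cfsg.Agent.Helper17.Spinor.toEnd Q g = sieg Q u v c := by
  apply LinearMap.ext
  intro x
  rw [Cfsg.Agent.Helper17.Spinor.toEnd_apply, hg, siegelMatrix_mulVec]

/-- a Siegel transformation is a commutator (characteristic not two) -/
theorem siegel_mem_commutatorSet (h2 : (2 : F) ≠ 0) (hQ : (polarBilin Q).Nondegenerate)
    {u v : ι → F} (hu : Q u = 0) (hv : Q v = 0) (huv : polar Q u v = 0) (c : F)
    (g : ↥(Cfsg.isometryGroup F (⇑Q)))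
    (hg : ((g : Matrix.GeneralLinearGroup ι F) : Matrix ι ι F) = Cfsg.siegelMatrix (⇑Q) u v c) :
    g ∈ commutatorSet ↥(Cfsg.isometryGroup F (⇑Q)) := by
  have hgE := toEnd_eq_sieg Q hg
  have hone : sieg Q u v c = 1 → g ∈ commutatorSet ↥(Cfsg.isometryGroup F (⇑Q)) := by
    intro h
    have : g = 1 := by
      apply Cfsg.Agent.Helper17.Spinor.toEnd_injective
      rw [hgE, h, map_one]
    rw [this]
    exact ⟨1, 1, by simp⟩
  by_cases hu0 : u = 0
  · apply hone
    apply LinearMap.ext
    intro x
    rw [hu0, sieg_eq_id_of_left_zero, Module.End.one_apply]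
  by_cases hvt : ∃ t : F, v = t • u
  · obtain ⟨t, rfl⟩ := hvt
    apply hone
    apply LinearMap.ext
    intro x
    rw [sieg_eq_id_of_smul, Module.End.one_apply]
  push Not at hvt
  obtain ⟨u', hu', huu', hu'v⟩ := exists_hyp_partner hQ hu huv hu0 hvt
  refine ⟨hypG Q hu hu' huu', siegG Q hu hv huv (-(c / 2)), ?_⟩
  have key : hypG Q hu hu' huu' * siegG Q hu hv huv (-(c / 2))
      = g * siegG Q hu hv huv (-(c / 2)) * hypG Q hu hu' huu' := by
    apply Cfsg.Agent.Helper17.Spinor.toEnd_injective
    rw [map_mul, map_mul, map_mul, hgE, toEnd_siegG, toEnd_hypG]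
    apply LinearMap.ext
    intro x
    rw [Module.End.mul_apply, Module.End.mul_apply, Module.End.mul_apply,
      hyp_sieg hu hu' huu' hv huv hu'v]
    congr 2
    field_simp
  rw [commutatorElement_def, key]
  group

end concrete

end Cfsg.Agent.Helper28.Siegel
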