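import Mathlib
import Cfsg.Agent.Lib.Helper17.SpinorReflections
import Cfsg.Agent.Lib.Helper28.Siegel

/-!
# Witt's lemma for quadratic forms with non-degenerate polar form (helper28)

Valid over any field and in any characteristic: the extension is built from reflections
(orthogonal transvections), Eichler maps and hyperbolic rotations.
-/

set_option autoImplicit false

namespace Cfsg.Agent.Helper28.WittQuad
open QuadraticMap Cfsg.Agent.Helper28.Siegel

variable {F V : Type*} [Field F] [AddCommGroup V] [Module F V] (Q : QuadraticForm F V)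

/-- isometries of `Q` -/
def IsIsom (g : V ≃ₗ[F] V) : Prop := ∀ v, Q (g v) = Q v

theorem isIsom_refl : IsIsom Q (LinearEquiv.refl F V) := fun _ => rfl

variable {Q}

theorem IsIsom.trans {g h : V ≃ₗ[F] V} (hg : IsIsom Q g) (hh : IsIsom Q h) :
    IsIsom Q (g.trans h) := fun v => by
  rw [LinearEquiv.trans_apply, hh, hg]

theorem IsIsom.symm {g : V ≃ₗ[F] V} (hg : IsIsom Q g) : IsIsom Q g.symm := fun v => by
  have := hg (g.symm v)
  rw [LinearEquiv.apply_symm_apply] at this
  exact this.symm

theorem polar_of_isom {φ : V →ₗ[F] V} (hφ : ∀ v, Q (φ v) = Q v) (u v : V) :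
    polar Q (φ u) (φ v) = polar Q u v := by
  unfold polar
  rw [← map_add, hφ, hφ, hφ]

theorem IsIsom.polar {g : V ≃ₗ[F] V} (hg : IsIsom Q g) (u v : V) :
    polar Q (g u) (g v) = polar Q u v := by
  unfold QuadraticMap.polar
  rw [← map_add, hg, hg, hg]

theorem injective_of_isom (hQ : (polarBilin Q).Nondegenerate) {φ : V →ₗ[F] V}
    (hφ : ∀ v, Q (φ v) = Q v) : Function.Injective φ := by
  rw [← LinearMap.ker_eq_bot, LinearMap.ker_eq_bot']
  intro v hv
  apply hQ.1
  intro w
  rw [polarBilin_apply_apply, ← polar_of_isom hφ, hv, polar_zero_left]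

/-- an isometric endomorphism as a linear equivalence -/
noncomputable def equivOfIsom [FiniteDimensional F V] (hQ : (polarBilin Q).Nondegenerate)
    (φ : V →ₗ[F] V) (hφ : ∀ v, Q (φ v) = Q v) : V ≃ₗ[F] V :=
  LinearEquiv.ofBijective φ ⟨injective_of_isom hQ hφ,
    LinearMap.injective_iff_surjective.1 (injective_of_isom hQ hφ)⟩

theorem equivOfIsom_apply [FiniteDimensional F V] (hQ : (polarBilin Q).Nondegenerate)
    (φ : V →ₗ[F] V) (hφ : ∀ v, Q (φ v) = Q v) (v : V) : equivOfIsom hQ φ hφ v = φ v := rfl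

theorem isIsom_equivOfIsom [FiniteDimensional F V] (hQ : (polarBilin Q).Nondegenerate)
    (φ : V →ₗ[F] V) (hφ : ∀ v, Q (φ v) = Q v) : IsIsom Q (equivOfIsom hQ φ hφ) := hφ

variable (Q)

/-- the Eichler map `v ↦ v + f(v,b) z - f(v,z) b - Q(b) f(v,z) z` -/
noncomputable def eich (z b : V) : Module.End F V :=
  LinearMap.id + ((polarBilin Q b).smulRight z - (polarBilin Q z).smulRight b
    - Q b • (polarBilin Q z).smulRight z)

theorem eich_apply (z b v : V) :
    eich Q z b v = v + (polar Q b v • z - polar Q z v • b - Q b • polar Q z v • z) := by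
  simp [eich]

/-- the hyperbolic rotation: `z ↦ l z`, `z' ↦ l⁻¹ z'`, identity on the complement -/
noncomputable def hrot (z z' : V) (l : F) : Module.End F V :=
  LinearMap.id + ((l - 1) • (polarBilin Q z').smulRight z
    + (l⁻¹ - 1) • (polarBilin Q z).smulRight z')

theorem hrot_apply (z z' : V) (l : F) (v : V) :
    hrot Q z z' l v = v + ((l - 1) • polar Q z' v • z + (l⁻¹ - 1) • polar Q z v • z') := by
  simp [hrot]

variable {Q}

theorem Q_eich {z b : V} (hz : Q z = 0) (hzb : polar Q z b = 0) (v : V) :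
    Q (eich Q z b v) = Q v := by
  rw [eich_apply]
  have h : v + (polar Q b v • z - polar Q z v • b - Q b • polar Q z v • z)
      = v + ((polar Q b v - Q b * polar Q z v) • z + (-(polar Q z v)) • b) := by
    module
  rw [h, Q_lin3, hz, hzb, polar_comm Q v z, polar_comm Q v b]
  ring

theorem Q_hrot {z z' : V} (hz : Q z = 0) (hz' : Q z' = 0) (hzz' : polar Q z z' = 1) {l : F}
    (hl : l ≠ 0) (v : V) : Q (hrot Q z z' l v) = Q v := by
  rw [hrot_apply]
  have h : v + ((l - 1) • polar Q z' v • z + (l⁻¹ - 1) • polar Q z v • z')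
      = v + (((l - 1) * polar Q z' v) • z + ((l⁻¹ - 1) * polar Q z v) • z') := by
    module
  rw [h, Q_lin3, hz, hz', hzz', polar_comm Q v z, polar_comm Q v z']
  field_simp
  ring

section fd
variable [FiniteDimensional F V]

theorem exists_repr (hQ : (polarBilin Q).Nondegenerate) (ψ : Module.Dual F V) :
    ∃ d, ∀ v, polar Q d v = ψ v := by
  refine ⟨(LinearMap.BilinForm.toDual (polarBilin Q) hQ).symm ψ, fun v => ?_⟩
  have := LinearMap.BilinForm.apply_toDual_symm_apply (B := polarBilin Q) (hB := hQ) ψ v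
  rwa [polarBilin_apply_apply] at this

theorem exists_perp_partner (hQ : (polarBilin Q).Nondegenerate) (K : Submodule F V) {x : V}
    (hx : x ∉ K) : ∃ b, (∀ k ∈ K, polar Q b k = 0) ∧ polar Q b x = 1 := by
  obtain ⟨ψ, hψx, hψK⟩ := Submodule.exists_le_ker_of_notMem hx
  obtain ⟨d, hd⟩ := exists_repr hQ ψ
  refine ⟨(ψ x)⁻¹ • d, ?_, ?_⟩
  · intro k hk
    rw [polar_smul_left, hd, hψK hk, smul_zero]
  · rw [polar_smul_left, hd, smul_eq_mul, inv_mul_cancel₀ hψx]

/-- The core step of Witt's lemma. -/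
theorem exists_isom_fix (hQ : (polarBilin Q).Nondegenerate) (H : Submodule F V) (x y : V)
    (hx : x ∉ H) (hy : y ∉ H) (hxy : Q x = Q y) (hH : ∀ h ∈ H, polar Q (y - x) h = 0) :
    ∃ g : V ≃ₗ[F] V, IsIsom Q g ∧ g x = y ∧ ∀ h ∈ H, g h = h := by
  obtain ⟨z, hz⟩ : ∃ z, z = y - x := ⟨_, rfl⟩
  rw [← hz] at hH
  have hyz : y = x + z := by rw [hz]; abel
  have hkey : Q z + polar Q x z = 0 := by
    have h1 : Q y = Q x + Q z + polar Q x z := by
      rw [hyz]
      exact QuadraticMap.map_add (⇑Q) x z
    rw [← hxy] at h1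
    linear_combination -h1
  by_cases hQz : Q z ≠ 0
  · -- reflection
    have hiso : ∀ v, Q (Cfsg.Agent.Helper17.Spinor.refl Q z v) = Q v :=
      Cfsg.Agent.Helper17.Spinor.Q_refl Q hQz
    refine ⟨equivOfIsom hQ _ hiso, isIsom_equivOfIsom hQ _ hiso, ?_, ?_⟩
    · rw [equivOfIsom_apply, Cfsg.Agent.Helper17.Spinor.refl_apply, polar_comm Q z x, hyz]
      have : (Q z)⁻¹ * polar Q x z = -1 := by
        field_simp
        linear_combination hkey
      rw [this]
      module
    · intro h hh
      rw [equivOfIsom_apply, Cfsg.Agent.Helper17.Spinor.refl_apply, hH h hh]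
      simp
  push Not at hQz
  have hxz : polar Q x z = 0 := by rw [hQz, zero_add] at hkey; exact hkey
  by_cases hmem : x ∈ H ⊔ Submodule.span F {z}
  · -- hyperbolic rotation
    obtain ⟨h1, hh1, w, hw, hsum⟩ := Submodule.mem_sup.1 hmem
    obtain ⟨t, rfl⟩ := Submodule.mem_span_singleton.1 hw
    have hzH : z ∉ H := by
      intro hzH
      apply hx
      rw [← hsum]
      exact H.add_mem hh1 (H.smul_mem t hzH)
    have ht0 : t ≠ 0 := by
      rintro rfl
      apply hx
      rw [← hsum, zero_smul, add_zero]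
      exact hh1
    have ht1 : t + 1 ≠ 0 := by
      intro ht1
      apply hy
      rw [hyz, ← hsum]
      have : h1 + t • z + z = h1 + (t + 1) • z := by module
      rw [this, ht1, zero_smul, add_zero]
      exact hh1
    obtain ⟨b, hbH, hbz⟩ := exists_perp_partner hQ H hzH
    obtain ⟨z', hz'⟩ : ∃ z', z' = b - Q b • z := ⟨_, rfl⟩
    have hzz : polar Q z z = 0 := by rw [polar_self, hQz]; simp
    have hQz' : Q z' = 0 := by
      rw [hz', Cfsg.Agent.Helper17.Spinor.Q_sub_smul, hQz, hbz]
      ring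
    have hzz' : polar Q z z' = 1 := by
      rw [hz', polar_sub_right, polar_smul_right, hzz, polar_comm Q z b, hbz]
      simp
    have hz'H : ∀ h ∈ H, polar Q z' h = 0 := by
      intro h hh
      rw [hz', polar_sub_left, polar_smul_left, hbH h hh, hH h hh]
      simp
    obtain ⟨l, hl⟩ : ∃ l, l = (t + 1) / t := ⟨_, rfl⟩
    have hl0 : l ≠ 0 := by rw [hl]; exact div_ne_zero ht1 ht0
    have hiso : ∀ v, Q (hrot Q z z' l v) = Q v := Q_hrot hQz hQz' hzz' hl0
    have hfixH : ∀ h ∈ H, hrot Q z z' l h = h := by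
      intro h hh
      rw [hrot_apply, hz'H h hh, hH h hh]
      simp
    refine ⟨equivOfIsom hQ _ hiso, isIsom_equivOfIsom hQ _ hiso, ?_, ?_⟩
    · rw [equivOfIsom_apply, hyz, ← hsum, map_add, hfixH h1 hh1, map_smul, hrot_apply, hzz,
        polar_comm Q z' z, hzz', hl]
      have : ((t + 1) / t - 1) = t⁻¹ := by field_simp; ring
      rw [this]
      have h2 : t • (z + (t⁻¹ • (1 : F) • z + (((t + 1) / t)⁻¹ - 1) • (0 : F) • z'))
          = (t * (1 + t⁻¹)) • z := by module
      rw [h2]
      have h3 : t * (1 + t⁻¹) = t + 1 := by field_simp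
      rw [h3]
      module
    · intro h hh
      rw [equivOfIsom_apply, hfixH h hh]
  · -- Eichler map
    obtain ⟨b, hbK, hbx⟩ := exists_perp_partner hQ _ hmem
    have hbH : ∀ h ∈ H, polar Q b h = 0 := fun h hh => hbK h (Submodule.mem_sup_left hh)
    have hbz : polar Q b z = 0 :=
      hbK z (Submodule.mem_sup_right (Submodule.mem_span_singleton_self z))
    have hzb : polar Q z b = 0 := by rw [polar_comm, hbz]
    have hiso : ∀ v, Q (eich Q z b v) = Q v := Q_eich hQz hzb
    refine ⟨equivOfIsom hQ _ hiso, isIsom_equivOfIsom hQ _ hiso, ?_, ?_⟩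
    · rw [equivOfIsom_apply, eich_apply, hbx, polar_comm Q z x, hxz, hyz]
      module
    · intro h hh
      rw [equivOfIsom_apply, eich_apply, hbH h hh, hH h hh]
      simp

theorem witt_family (hQ : (polarBilin Q).Nondegenerate) :
    ∀ (k : ℕ) (x y : Fin k → V), LinearIndependent F x →
    LinearIndependent F y → (∀ i, Q (x i) = Q (y i)) →
    (∀ i j, polar Q (x i) (x j) = polar Q (y i) (y j)) →
    ∃ g : V ≃ₗ[F] V, IsIsom Q g ∧ ∀ i, g (x i) = y i := by
  intro k
  induction k with
  | zero =>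
    intro x y _ _ _ _
    exact ⟨LinearEquiv.refl F V, isIsom_refl Q, fun i => i.elim0⟩
  | succ k ih =>
    intro x y hx hy hxyQ hxy
    have hx' : LinearIndependent F (Fin.init x) :=
      hx.comp Fin.castSucc (Fin.castSucc_injective k)
    have hy' : LinearIndependent F (Fin.init y) :=
      hy.comp Fin.castSucc (Fin.castSucc_injective k)
    obtain ⟨g0, hg0, hg0x⟩ := ih (Fin.init x) (Fin.init y) hx' hy'
      (fun i => hxyQ (Fin.castSucc i))
      (fun i j => hxy (Fin.castSucc i) (Fin.castSucc j))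
    have hxs : x (Fin.last k) ∉ Submodule.span F (Set.range (Fin.init x)) := by
      have h1 := hx
      rw [← Fin.snoc_init_self x, linearIndependent_finSnoc] at h1
      exact h1.2
    have hys : y (Fin.last k) ∉ Submodule.span F (Set.range (Fin.init y)) := by
      have h1 := hy
      rw [← Fin.snoc_init_self y, linearIndependent_finSnoc] at h1
      exact h1.2
    obtain ⟨H, hH⟩ : ∃ H, H = Submodule.span F (Set.range (Fin.init x)) := ⟨_, rfl⟩
    have hmap : H.map (g0 : V →ₗ[F] V) = Submodule.span F (Set.range (Fin.init y)) := by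
      rw [hH, Submodule.map_span]
      congr 1
      ext v
      constructor
      · rintro ⟨_, ⟨i, rfl⟩, rfl⟩
        exact ⟨i, (hg0x i).symm⟩
      · rintro ⟨i, rfl⟩
        exact ⟨_, ⟨i, rfl⟩, hg0x i⟩
    obtain ⟨yl, hyl⟩ : ∃ yl, yl = g0.symm (y (Fin.last k)) := ⟨_, rfl⟩
    have hg0yl : g0 yl = y (Fin.last k) := by rw [hyl, LinearEquiv.apply_symm_apply]
    have hylH : yl ∉ H := by
      intro h
      apply hys
      rw [← hmap, ← hg0yl]
      exact Submodule.mem_map_of_mem h
    have hnorm : Q (x (Fin.last k)) = Q yl := by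
      rw [← hg0 yl, hg0yl, hxyQ]
    have hperp : ∀ h ∈ H, polar Q (yl - x (Fin.last k)) h = 0 := by
      have : H ≤ LinearMap.ker (polarBilin Q (yl - x (Fin.last k))) := by
        rw [hH, Submodule.span_le]
        rintro _ ⟨i, rfl⟩
        rw [SetLike.mem_coe, LinearMap.mem_ker, polarBilin_apply_apply, polar_sub_left,
          ← hg0.polar yl, hg0yl, hg0x i]
        show polar Q (y (Fin.last k)) (y (Fin.castSucc i))
          - polar Q (x (Fin.last k)) (x (Fin.castSucc i)) = 0
        rw [hxy, sub_self]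
      intro h hh
      have h1 := this hh
      rwa [LinearMap.mem_ker, polarBilin_apply_apply] at h1
    obtain ⟨g1, hg1, hg1x, hg1H⟩ := exists_isom_fix hQ H (x (Fin.last k)) yl
      (by rw [hH]; exact hxs) hylH hnorm hperp
    refine ⟨g1.trans g0, hg1.trans hg0, ?_⟩
    intro i
    induction i using Fin.lastCases with
    | last => rw [LinearEquiv.trans_apply, hg1x, hg0yl]
    | cast i =>
      rw [LinearEquiv.trans_apply, hg1H _ (by
        rw [hH]
        exact Submodule.subset_span ⟨i, rfl⟩)]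
      exact hg0x i

/-- **Witt's lemma** for quadratic forms with non-degenerate polar form. -/
theorem witt (hQ : (polarBilin Q).Nondegenerate) (X Y : Submodule F V) (φ : X ≃ₗ[F] Y)
    (hφ : ∀ x : X, Q (φ x : V) = Q (x : V)) :
    ∃ g : V ≃ₗ[F] V, (∀ v : V, Q (g v) = Q v) ∧ ∀ x : X, g (x : V) = (φ x : V) := by
  let b := Module.finBasis F X
  have hx : LinearIndependent F (fun i => ((b i : X) : V)) :=
    b.linearIndependent.map' X.subtype X.ker_subtype
  have hy : LinearIndependent F (fun i => ((φ (b i) : Y) : V)) :=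
    b.linearIndependent.map' (Y.subtype ∘ₗ φ.toLinearMap)
      (LinearMap.ker_eq_bot.2 (Y.injective_subtype.comp φ.injective))
  obtain ⟨g, hg, hgx⟩ := witt_family hQ _ _ _ hx hy
    (fun i => (hφ (b i)).symm)
    (fun i j => by
      unfold QuadraticMap.polar
      have h1 := hφ (b i + b j)
      rw [map_add] at h1
      simp only [Submodule.coe_add] at h1
      rw [h1, hφ, hφ])
  refine ⟨g, hg, ?_⟩
  have : (g : V →ₗ[F] V) ∘ₗ X.subtype = Y.subtype ∘ₗ φ.toLinearMap :=
    b.ext (fun i => hgx i)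
  intro x
  exact LinearMap.congr_fun this x

end fd

end Cfsg.Agent.Helper28.WittQuad
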