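import Mathlib

/-!
# S4613 definitions: automorphisms of order prime to `p` fixing a Sylow `p`-subgroup pointwise

`NoPAut p G`: every automorphism of `G` of order prime to `p` which fixes some Sylow `p`-subgroup
elementwise is trivial (the conclusion of S4613 for `G`).

`Good p G`: there is a `p`-subgroup `U` such that `G` is generated by the normalizers `N_G(Q)` of the
subgroups `Q ≤ U` with `C_G(Q) ≤ U`.

`GoodZ p X Z`: the same with `C_X(Q) ≤ U ⊔ Z` (to be used with `Z = center X` and passed to `X ⧸ center X`).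
-/

set_option autoImplicit false

namespace Cfsg.Agent.Helper28.PA

/-- The conclusion of S4613 for the group `G` and the prime `p`. -/
def NoPAut (p : ℕ) [Fact p.Prime] (G : Type*) [Group G] : Prop :=
  ∀ α : MulAut G, ¬ p ∣ orderOf α → ∀ U : Sylow p G, (∀ x ∈ (U : Subgroup G), α x = x) → α = 1

/-- `G` is generated by the normalizers of the subgroups `Q` of a fixed `p`-subgroup `U` with `C_G(Q) ≤ U`. -/
def Good (p : ℕ) (G : Type*) [Group G] : Prop :=
  ∃ U : Subgroup G, IsPGroup p U ∧
    Subgroup.closure {x : G | ∃ Q : Subgroup G, Q ≤ U ∧ Subgroup.centralizer (Q : Set G) ≤ U ∧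
      x ∈ Subgroup.normalizer (Q : Set G)} = ⊤

/-- Version relative to a (central) subgroup `Z`: `C_X(Q) ≤ U ⊔ Z`. -/
def GoodZ (p : ℕ) (X : Type*) [Group X] (Z : Subgroup X) : Prop :=
  ∃ U : Subgroup X, IsPGroup p U ∧
    Subgroup.closure {x : X | ∃ Q : Subgroup X, Q ≤ U ∧ Subgroup.centralizer (Q : Set X) ≤ U ⊔ Z ∧
      x ∈ Subgroup.normalizer (Q : Set X)} = ⊤

end Cfsg.Agent.Helper28.PA
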