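import Mathlib
import Cfsg.Agent.Lib.Helper10.EODefs

/-!
# S2264, piece EO-ARITH: `arith_case1_of` (combination of `habs` and `hdc`, `t = m - S`).
-/

set_option autoImplicit false

open Polynomial

namespace Cfsg.Agent.Helper10.EO

theorem eo_arith_two_mul_le (t : ℕ) : 2 * t ≤ 2 ^ t := by
  induction t with
  | zero => simp
  | succ t ih =>
    rcases Nat.eq_zero_or_pos t with rfl | ht
    · simp
    · have h2 : 2 ≤ 2 ^ t := by
        calc 2 = 2 ^ 1 := by norm_num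
          _ ≤ 2 ^ t := Nat.pow_le_pow_right (by norm_num) ht
      rw [pow_succ]; omega

theorem eo_arith_two_mul_add_one_le (t : ℕ) : 2 * t + 1 ≤ 3 ^ t := by
  induction t with
  | zero => simp
  | succ t ih =>
    have h1 : 1 ≤ 3 ^ t := Nat.one_le_pow _ _ (by norm_num)
    rw [pow_succ]; omega

theorem arith_case1_of {ι : Type*} [DecidableEq ι] (p q k : ℕ) (hp : p.Prime) (hk : 1 ≤ k)
    (hq : q = p ^ k)
    (habs : ∀ (I : Finset ι) (σ : ι → ι) (n : ι → ℕ),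
      (∀ i ∈ I, σ i ∈ I ∧ σ (σ i) = i ∧ n (σ i) = n i) → (∀ i ∈ I, 1 ≤ n i) →
      (∀ i ∈ I, σ i = i → Even (n i)) →
      (q - 1) * (I.lcm fun i => if σ i = i then q ^ (n i / 2) + 1 else q ^ (n i) - 1)
        ≤ q ^ ((∑ i ∈ I, n i) / 2 + 1))
    (hdc : ∀ (I : Finset ι) (σ : ι → ι) (n a : ι → ℕ),
      (∀ i ∈ I, σ i ∈ I ∧ σ (σ i) = i ∧ n (σ i) = n i ∧ a (σ i) = a i) →
      (∀ i ∈ I, 1 ≤ n i) → (∀ i ∈ I, 1 ≤ a i) → (∀ i ∈ I, σ i = i → n i = 1 ∨ Even (n i)) →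
      ∀ i₀ ∈ I, 2 ≤ a i₀ →
      a i₀ + ∑ i ∈ I.filter (fun i => ¬ (σ i = i ∧ n i = 1)), n i ≤ ∑ i ∈ I, a i * n i)
    (I : Finset ι) (σ : ι → ι) (n a : ι → ℕ)
    (hσ : ∀ i ∈ I, σ i ∈ I ∧ σ (σ i) = i ∧ n (σ i) = n i ∧ a (σ i) = a i)
    (hn : ∀ i ∈ I, 1 ≤ n i) (ha : ∀ i ∈ I, 1 ≤ a i)
    (hfix : ∀ i ∈ I, σ i = i → n i = 1 ∨ Even (n i))
    (d m : ℕ) (hD : ∑ i ∈ I, a i * n i ≤ d) (hd : d = 2 * m ∨ (d = 2 * m + 1 ∧ 3 ≤ q)) :
    ∃ t : ℕ, (∀ i ∈ I, a i ≤ q ^ t) ∧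
      (q - 1) * (((I.filter (fun i => ¬ (σ i = i ∧ n i = 1))).lcm
        (fun i => if σ i = i then q ^ (n i / 2) + 1 else q ^ (n i) - 1)) * q ^ t) ≤ q ^ (m + 1) := by
  set I₀ := I.filter (fun i => ¬ (σ i = i ∧ n i = 1)) with hI₀
  set N := ∑ i ∈ I₀, n i with hN
  set S := N / 2 with hS
  have hq2 : 2 ≤ q := by
    rw [hq]
    calc 2 ≤ p := hp.two_le
      _ = p ^ 1 := (pow_one p).symm
      _ ≤ p ^ k := Nat.pow_le_pow_right hp.pos hk
  -- `I₀` is closed under `σ`, fixed points have `n` even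
  have hmem : ∀ i, i ∈ I₀ ↔ i ∈ I ∧ ¬ (σ i = i ∧ n i = 1) := fun i => by
    rw [hI₀, Finset.mem_filter]
  have h1 : ∀ i ∈ I₀, σ i ∈ I₀ ∧ σ (σ i) = i ∧ n (σ i) = n i := by
    intro i hi
    obtain ⟨hiI, hni⟩ := (hmem i).1 hi
    obtain ⟨h1, h2, h3, _⟩ := hσ i hiI
    refine ⟨(hmem _).2 ⟨h1, ?_⟩, h2, h3⟩
    rintro ⟨h4, h5⟩
    apply hni
    rw [h2] at h4
    exact ⟨h4.symm, by rw [← h3]; exact h5⟩
  have h2 : ∀ i ∈ I₀, 1 ≤ n i := fun i hi => hn i ((hmem i).1 hi).1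
  have h3 : ∀ i ∈ I₀, σ i = i → Even (n i) := by
    intro i hi hfi
    obtain ⟨hiI, hni⟩ := (hmem i).1 hi
    rcases hfix i hiI hfi with h | h
    · exact absurd ⟨hfi, h⟩ hni
    · exact h
  have hL := habs I₀ σ n h1 h2 h3
  -- `S ≤ m`
  have hNle : N ≤ ∑ i ∈ I, a i * n i := by
    calc N ≤ ∑ i ∈ I, n i := Finset.sum_le_sum_of_subset (Finset.filter_subset _ _)
      _ ≤ ∑ i ∈ I, a i * n i := Finset.sum_le_sum (fun i hi => by
          have := ha i hi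
          nlinarith)
  have hSm : S ≤ m := by
    rcases hd with hd | ⟨hd, _⟩ <;> omega
  refine ⟨m - S, ?_, ?_⟩
  · intro i hi
    by_cases hai : 2 ≤ a i
    · have hdci : a i + N ≤ ∑ i ∈ I, a i * n i := hdc I σ n a hσ hn ha hfix i hi hai
      have h2S : 2 * S ≤ N := Nat.mul_div_le N 2
      rcases hd with hd | ⟨hd, hq3⟩
      · calc a i ≤ 2 * (m - S) := by omega
          _ ≤ 2 ^ (m - S) := eo_arith_two_mul_le _
          _ ≤ q ^ (m - S) := Nat.pow_le_pow_left hq2 _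
      · calc a i ≤ 2 * (m - S) + 1 := by omega
          _ ≤ 3 ^ (m - S) := eo_arith_two_mul_add_one_le _
          _ ≤ q ^ (m - S) := Nat.pow_le_pow_left hq3 _
    · have h1a := ha i hi
      have : a i = 1 := by omega
      rw [this]
      exact Nat.one_le_pow _ _ (by omega)
  · calc (q - 1) * ((I₀.lcm fun i => if σ i = i then q ^ (n i / 2) + 1 else q ^ (n i) - 1) *
          q ^ (m - S))
        = ((q - 1) * (I₀.lcm fun i => if σ i = i then q ^ (n i / 2) + 1 else q ^ (n i) - 1)) *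
          q ^ (m - S) := by ring
      _ ≤ q ^ (S + 1) * q ^ (m - S) := Nat.mul_le_mul_right _ hL
      _ = q ^ (m + 1) := by
          rw [← pow_add]
          congr 1
          omega

end Cfsg.Agent.Helper10.EO
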