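import Mathlib
import Cfsg.Prelude.Def_Classical
import Cfsg.Agent.Lib.Helper10.EODefs

/-!
# S2264, piece EO-GRAMMINUS: the Gram matrix of the polar form of `quadFormMinus` is invertible when the
binary part is anisotropic (over a finite field).
-/

set_option autoImplicit false
set_option linter.unusedSimpArgs false

open Polynomial Matrix

namespace Cfsg.Agent.Helper10.EO

section mat
variable {F : Type*} [Field F]

/-- an anisotropic binary form `z₁² + a z₁ z₂ + b z₂²` over a finite field has `4 b - a² ≠ 0` -/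
theorem eo_gramminus_disc_ne [Finite F] (a b : F)
    (han : ∀ z₁ z₂ : F, z₁ ^ 2 + a * z₁ * z₂ + b * z₂ ^ 2 = 0 → z₁ = 0 ∧ z₂ = 0) :
    4 * b - a ^ 2 ≠ 0 := by
  intro h0
  have h4 : 4 * b = a ^ 2 := sub_eq_zero.1 h0
  by_cases h2 : (2 : F) = 0
  · -- characteristic 2
    have h4' : (4 : F) = 0 := by
      have : (4 : F) = 2 * 2 := by norm_num
      rw [this, h2, mul_zero]
    have ha : a = 0 := by
      rw [h4', zero_mul] at h4
      exact pow_eq_zero_iff (two_ne_zero) |>.1 h4.symm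
    have hinj : Function.Injective (fun x : F => x ^ 2) := by
      intro x y hxy
      have hxy' : x ^ 2 = y ^ 2 := hxy
      have h1 : (x - y) * (x + y) = 0 := by ring_nf; rw [hxy']; ring
      rcases mul_eq_zero.1 h1 with h | h
      · exact sub_eq_zero.1 h
      · have hy : y + y = 0 := by rw [← two_mul, h2, zero_mul]
        have : x = -y := eq_neg_of_add_eq_zero_left h
        rw [this]
        exact (eq_neg_of_add_eq_zero_left hy).symm
    obtain ⟨c, hc⟩ := (Finite.injective_iff_surjective.1 hinj) b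
    have hc' : c ^ 2 = b := hc
    have hiso : c ^ 2 + a * c * 1 + b * 1 ^ 2 = 0 := by
      rw [ha, hc']
      have : b + 0 * c * 1 + b * 1 ^ 2 = 2 * b := by ring
      rw [this, h2, zero_mul]
    exact one_ne_zero (han c 1 hiso).2
  · -- odd characteristic
    have hiso : (-a / 2) ^ 2 + a * (-a / 2) * 1 + b * 1 ^ 2 = 0 := by
      have h4ne : (4 : F) ≠ 0 := by
        have : (4 : F) = 2 * 2 := by norm_num
        rw [this]; exact mul_ne_zero h2 h2
      have : (-a / 2) ^ 2 + a * (-a / 2) * 1 + b * 1 ^ 2 = (4 * b - a ^ 2) / 4 := by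
        field_simp
        ring
      rw [this, h0, zero_div]
    exact one_ne_zero (han _ 1 hiso).2

theorem eo_gramminus_polar (m : ℕ) (a b : F) (u v : (Fin m ⊕ Fin m) ⊕ Fin 2 → F) :
    u ⬝ᵥ ((Matrix.fromBlocks (Matrix.fromBlocks (0 : Matrix (Fin m) (Fin m) F) 1 1 0) 0 0
        !![2, a; a, 2 * b]) *ᵥ v) =
      ∑ i : Fin m, (u (.inl (.inl i)) * v (.inl (.inr i)) + u (.inl (.inr i)) * v (.inl (.inl i))) +
        (2 * u (.inr 0) * v (.inr 0) + a * (u (.inr 0) * v (.inr 1) + u (.inr 1) * v (.inr 0)) +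
          2 * b * u (.inr 1) * v (.inr 1)) := by
  simp only [Matrix.fromBlocks_mulVec, Matrix.zero_mulVec, Matrix.one_mulVec, zero_add, add_zero]
  simp only [dotProduct, Fintype.sum_sum_type, Sum.elim_inl, Sum.elim_inr, Function.comp_apply,
    Pi.add_apply, Pi.zero_apply, zero_add, add_zero, Fin.sum_univ_two]
  simp only [Matrix.mulVec, dotProduct, Fin.sum_univ_two, Matrix.of_apply, Matrix.cons_val_zero,
    Matrix.cons_val_one, Matrix.cons_val', Matrix.cons_val_fin_one, Function.comp_apply]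
  rw [Finset.sum_add_distrib]
  ring

/-- PIECE EO-GRAMMINUS. -/
theorem gram_minus [Finite F] (m : ℕ) (a b : F)
    (han : ∀ z₁ z₂ : F, z₁ ^ 2 + a * z₁ * z₂ + b * z₂ ^ 2 = 0 → z₁ = 0 ∧ z₂ = 0) :
    ∃ G : Matrix ((Fin m ⊕ Fin m) ⊕ Fin 2) ((Fin m ⊕ Fin m) ⊕ Fin 2) F, IsUnit G.det ∧
      ∀ u v, Cfsg.quadFormMinus m F a b (u + v) - Cfsg.quadFormMinus m F a b u -
        Cfsg.quadFormMinus m F a b v = u ⬝ᵥ (G *ᵥ v) := by
  classical
  refine ⟨Matrix.fromBlocks (Matrix.fromBlocks (0 : Matrix (Fin m) (Fin m) F) 1 1 0) 0 0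
    !![2, a; a, 2 * b], ?_, ?_⟩
  · rw [Matrix.det_fromBlocks_zero₂₁]
    apply IsUnit.mul
    · have h : (Matrix.fromBlocks (0 : Matrix (Fin m) (Fin m) F) (1 : Matrix (Fin m) (Fin m) F)
            (1 : Matrix (Fin m) (Fin m) F) (0 : Matrix (Fin m) (Fin m) F)) *
          (Matrix.fromBlocks (0 : Matrix (Fin m) (Fin m) F) (1 : Matrix (Fin m) (Fin m) F)
            (1 : Matrix (Fin m) (Fin m) F) (0 : Matrix (Fin m) (Fin m) F)) = 1 := by
        rw [Matrix.fromBlocks_multiply]
        simp [Matrix.fromBlocks_one]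
      exact IsUnit.of_mul_eq_one _ (by rw [← Matrix.det_mul, h, Matrix.det_one])
    · rw [Matrix.det_fin_two_of]
      have hne := eo_gramminus_disc_ne a b han
      have e : 2 * (2 * b) - a * a = 4 * b - a ^ 2 := by ring
      rw [e]
      exact hne.isUnit
  · intro u v
    rw [eo_gramminus_polar]
    unfold Cfsg.quadFormMinus
    simp only [Pi.add_apply]
    have hs : ∑ i : Fin m, (u (.inl (.inl i)) + v (.inl (.inl i))) * (u (.inl (.inr i)) + v (.inl (.inr i))) =
        ∑ i : Fin m, u (.inl (.inl i)) * u (.inl (.inr i)) + ∑ i : Fin m, v (.inl (.inl i)) * v (.inl (.inr i)) +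
        ∑ i : Fin m, (u (.inl (.inl i)) * v (.inl (.inr i)) + u (.inl (.inr i)) * v (.inl (.inl i))) := by
      rw [← Finset.sum_add_distrib, ← Finset.sum_add_distrib]
      apply Finset.sum_congr rfl
      intro i _
      ring
    rw [hs]
    ring

end mat

end Cfsg.Agent.Helper10.EO
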