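import Mathlib
import Cfsg.Agent.Lib.Helper10.PUDefs

/-!
# S2263, piece PU-ORBM: the orbit-counting inequality `multi_orbit_sum`.
-/

set_option autoImplicit false

namespace Cfsg.Agent.Helper10.PU

open Polynomial Matrix

theorem multi_orbit_sum {ι : Type*} [DecidableEq ι] (I : Finset ι) (τ : ι → ι) (e b : ι → ℕ)
    (hτ : ∀ i ∈ I, τ i ∈ I ∧ τ (τ i) = i ∧ e (τ i) = e i ∧ b (τ i) = b i)
    (he : ∀ i ∈ I, 1 ≤ e i) (hb : ∀ i ∈ I, 1 ≤ b i)
    (hmulti : ¬ ∃ i ∈ I, ∀ j ∈ I, j = i ∨ j = τ i)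
    (i₀ : ι) (hi₀ : i₀ ∈ I) (c : ℕ) (hc : c + 1 ≤ b i₀) :
    (∑ n ∈ I.image (fun i => if τ i = i then e i else 2 * e i), n) + c + 2 ≤
      (∑ i ∈ I, b i * e i) + (I.image (fun i => if τ i = i then e i else 2 * e i)).card := by
  classical
  set nn : ι → ℕ := fun i => if τ i = i then e i else 2 * e i with hnn
  set N := I.image nn with hN
  have hnn_fix : ∀ i, τ i = i → nn i = e i := fun i h => by simp only [hnn, if_pos h]
  have hnn_nfix : ∀ i, τ i ≠ i → nn i = 2 * e i := fun i h => by simp only [hnn, if_neg h]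
  -- orbit facts
  have hnnτ : ∀ i ∈ I, nn (τ i) = nn i := by
    intro i hi
    obtain ⟨h1, h2, h3, h4⟩ := hτ i hi
    by_cases hfix : τ i = i
    · rw [hfix]
    · have hne : τ (τ i) ≠ τ i := by rw [h2]; exact fun h => hfix h.symm
      rw [hnn_nfix _ hne, hnn_nfix _ hfix, h3]
  have horb_sum : ∀ i ∈ I, b i * nn i ≤ ∑ j ∈ ({i, τ i} : Finset ι), b j * e j := by
    intro i hi
    obtain ⟨h1, h2, h3, h4⟩ := hτ i hi
    by_cases hfix : τ i = i
    · rw [hfix, hnn_fix i hfix]
      simp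
    · rw [Finset.sum_pair (fun h => hfix h.symm), h3, h4, hnn_nfix i hfix]
      nlinarith
  have horb_sub : ∀ i ∈ I, ({i, τ i} : Finset ι) ⊆ I.filter (fun j => nn j = nn i) := by
    intro i hi j hj
    rw [Finset.mem_insert, Finset.mem_singleton] at hj
    rcases hj with rfl | rfl
    · exact Finset.mem_filter.2 ⟨hi, rfl⟩
    · exact Finset.mem_filter.2 ⟨(hτ i hi).1, hnnτ i hi⟩
  have hfib : ∀ i ∈ I, b i * nn i ≤ ∑ j ∈ I.filter (fun j => nn j = nn i), b j * e j :=
    fun i hi => (horb_sum i hi).trans (Finset.sum_le_sum_of_subset (horb_sub i hi))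
  have hnn1 : ∀ i ∈ I, 1 ≤ nn i := by
    intro i hi
    have := he i hi
    by_cases hfix : τ i = i
    · rw [hnn_fix i hfix]; exact this
    · rw [hnn_nfix i hfix]; omega
  have htot : ∑ n ∈ N, ∑ j ∈ I.filter (fun j => nn j = n), b j * e j = ∑ j ∈ I, b j * e j :=
    Finset.sum_fiberwise_of_maps_to (fun j hj => Finset.mem_image_of_mem nn hj) _
  have hn₀N : nn i₀ ∈ N := Finset.mem_image_of_mem nn hi₀
  have hmain : (∑ n ∈ N, n) + c * nn i₀ ≤ ∑ j ∈ I, b j * e j := by
    rw [← htot, ← Finset.add_sum_erase N (fun n => n) hn₀N,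
      ← Finset.add_sum_erase N (fun n => ∑ j ∈ I.filter (fun j => nn j = n), b j * e j) hn₀N]
    have h1 : (c + 1) * nn i₀ ≤ ∑ j ∈ I.filter (fun j => nn j = nn i₀), b j * e j :=
      (Nat.mul_le_mul_right _ hc).trans (hfib i₀ hi₀)
    have h2 : ∑ n ∈ N.erase (nn i₀), n ≤
        ∑ n ∈ N.erase (nn i₀), ∑ j ∈ I.filter (fun j => nn j = n), b j * e j := by
      apply Finset.sum_le_sum
      intro n hn
      obtain ⟨i, hi, rfl⟩ := Finset.mem_image.1 (Finset.mem_of_mem_erase hn)
      calc nn i = 1 * nn i := (one_mul _).symm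
        _ ≤ b i * nn i := Nat.mul_le_mul_right _ (hb i hi)
        _ ≤ _ := hfib i hi
    nlinarith
  by_cases hcard : 2 ≤ N.card
  · have := hnn1 i₀ hi₀
    nlinarith
  · have hcard1 : N.card = 1 := by
      have : 0 < N.card := Finset.card_pos.2 ⟨_, hn₀N⟩
      omega
    obtain ⟨a, ha⟩ := Finset.card_eq_one.1 hcard1
    have ha0 : nn i₀ = a := by
      have := hn₀N
      rw [ha, Finset.mem_singleton] at this
      exact this
    have hNeq : ∀ j ∈ I, nn j = nn i₀ := by
      intro j hj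
      have h1 : nn j ∈ N := Finset.mem_image_of_mem nn hj
      rw [ha, Finset.mem_singleton] at h1
      rw [h1, ha0]
    push Not at hmulti
    obtain ⟨j, hj, hj1, hj2⟩ := hmulti i₀ hi₀
    obtain ⟨hjI, hjj, _, _⟩ := hτ j hj
    obtain ⟨hiI, hii, _, _⟩ := hτ i₀ hi₀
    have hdisj : Disjoint ({i₀, τ i₀} : Finset ι) ({j, τ j} : Finset ι) := by
      rw [Finset.disjoint_left]
      intro x hx hx'
      simp only [Finset.mem_insert, Finset.mem_singleton] at hx hx'
      rcases hx with hx | hx <;> rcases hx' with h | h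
      · exact hj1 (by rw [← h, hx])
      · apply hj2
        rw [← hx, h, hjj]
      · exact hj2 (by rw [← h, hx])
      · apply hj1
        have h3 : τ i₀ = τ j := by rw [← hx, h]
        have := congrArg τ h3
        rw [hii, hjj] at this
        exact this.symm
    have hsub : ({i₀, τ i₀} : Finset ι) ∪ {j, τ j} ⊆ I := by
      intro x hx
      simp only [Finset.mem_union, Finset.mem_insert, Finset.mem_singleton] at hx
      rcases hx with (rfl | rfl) | (rfl | rfl)
      · exact hi₀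
      · exact hiI
      · exact hj
      · exact hjI
    have hsum : (c + 1) * nn i₀ + nn i₀ ≤ ∑ x ∈ I, b x * e x := by
      calc (c + 1) * nn i₀ + nn i₀ ≤ b i₀ * nn i₀ + b j * nn j := by
            rw [hNeq j hj]
            have h1 := hb j hj
            have h2 := Nat.mul_le_mul_right (nn i₀) hc
            have h3 := Nat.mul_le_mul_right (nn i₀) h1
            omega
        _ ≤ ∑ x ∈ ({i₀, τ i₀} : Finset ι), b x * e x + ∑ x ∈ ({j, τ j} : Finset ι), b x * e x :=
            add_le_add (horb_sum i₀ hi₀) (horb_sum j hj)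
        _ = ∑ x ∈ ({i₀, τ i₀} : Finset ι) ∪ {j, τ j}, b x * e x := (Finset.sum_union hdisj).symm
        _ ≤ _ := Finset.sum_le_sum_of_subset hsub
    have hsumN : ∑ n ∈ N, n = nn i₀ := by
      rw [ha, Finset.sum_singleton, ha0]
    have h1 := hnn1 i₀ hi₀
    rw [hsumN, hcard1]
    nlinarith

end Cfsg.Agent.Helper10.PU
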