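import Mathlib
import Cfsg.Agent.Lib.Helper12.SpGenT

set_option autoImplicit false

/-!
# Two generators for the symplectic group: tools

Extensionality on the standard basis, a diagonal torus element, a coprime-order lemma and a
lemma on additive subgroups of finite fields.
-/

namespace Cfsg.Agent.Helper28.SpTwo

open Matrix
open Cfsg.Agent.Helper2.Symp
open scoped Cfsg.Agent.Helper2.Symp
open Cfsg.Agent.Helper12.SpGen

section grp

variable {G : Type*} [Group G]

/-- commuting elements with coprime exponents are powers of their product -/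
theorem mem_zpowers_mul_of_coprime {x y : G} (hc : Commute x y) {P R : ℕ}
    (hx : x ^ P = 1) (hy : y ^ R = 1) (h : Nat.Coprime P R) :
    x ∈ Subgroup.zpowers (x * y) := by
  have h1 : (x * y) ^ R = x ^ R := by rw [hc.mul_pow, hy, mul_one]
  by_cases hP : P = 1
  · subst hP
    rw [pow_one] at hx
    rw [hx]
    exact Subgroup.one_mem _
  · by_cases hP0 : P = 0
    · subst hP0
      rw [Nat.coprime_zero_left] at h
      subst h
      rw [pow_one] at hy
      rw [hy, mul_one]
      exact Subgroup.mem_zpowers x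
    · have hP1 : 1 < P := by omega
      obtain ⟨s, -, hs⟩ := Nat.exists_mul_mod_eq_one_of_coprime h.symm hP1
      have h2 : x ^ (R * s) = x := by
        rw [pow_eq_pow_mod (R * s) hx, hs, pow_one]
      have h3 : x = ((x * y) ^ R) ^ s := by rw [h1, ← pow_mul, h2]
      have h4 : ((x * y) ^ R) ^ s ∈ Subgroup.zpowers (x * y) :=
        Subgroup.pow_mem _ (Subgroup.pow_mem _ (Subgroup.mem_zpowers (x * y)) _) _
      rwa [← h3] at h4

theorem mem_zpowers_mul_of_coprime' {x y : G} (hc : Commute x y) {P R : ℕ}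
    (hx : x ^ P = 1) (hy : y ^ R = 1) (h : Nat.Coprime P R) :
    y ∈ Subgroup.zpowers (x * y) := by
  have := mem_zpowers_mul_of_coprime hc.symm hy hx h.symm
  rwa [hc.symm.eq] at this

theorem both_mem_of_mul_mem {x y : G} (hc : Commute x y) {P R : ℕ}
    (hx : x ^ P = 1) (hy : y ^ R = 1) (h : Nat.Coprime P R) {H : Subgroup G}
    (hxy : x * y ∈ H) : x ∈ H ∧ y ∈ H := by
  have hle : Subgroup.zpowers (x * y) ≤ H := by
    rw [Subgroup.zpowers_le]
    exact hxy
  exact ⟨hle (mem_zpowers_mul_of_coprime hc hx hy h), hle (mem_zpowers_mul_of_coprime' hc hx hy h)⟩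

end grp

section fld

variable {F : Type*} [Field F] [Fintype F]

/-- a nonzero additive subgroup of a finite field stable under multiplication by the square of a
generator of the multiplicative group is everything -/
theorem addSubgroup_eq_top_of_sq (μ : Fˣ) (hμ : ∀ x : Fˣ, x ∈ Subgroup.zpowers μ)
    (A : AddSubgroup F) (hA : ∀ c ∈ A, (μ : F) * (μ : F) * c ∈ A) (c₀ : F) (hc₀ : c₀ ∈ A)
    (hne : c₀ ≠ 0) : A = ⊤ := by
  classical
  by_cases h3 : 3 < Fintype.card F
  · exact Cfsg.Agent.Helper12.addSubgroup_eq_top_of_sq_closed h3 μ hμ A hA c₀ hc₀ hne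
  · -- the field has prime order
    have h1 : 1 < Fintype.card F := Fintype.one_lt_card
    have hpr : (Nat.card F).Prime := by
      rw [Nat.card_eq_fintype_card]
      have : Fintype.card F = 2 ∨ Fintype.card F = 3 := by omega
      rcases this with h | h <;> rw [h] <;> norm_num
    have : Fact (Nat.card F).Prime := ⟨hpr⟩
    rcases AddSubgroup.eq_bot_or_eq_top_of_prime_card A with h | h
    · exfalso
      rw [h, AddSubgroup.mem_bot] at hc₀
      exact hne hc₀
    · exact h

end fld

section basis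

variable {N : ℕ} {F : Type*} [Field F]

/-- two symplectic elements agreeing on the standard basis are equal -/
theorem ext_basis {g h : Matrix.symplecticGroup (Fin (N + 2)) F}
    (he : ∀ k, k < N + 2 → g • ev N F k = h • ev N F k)
    (hf : ∀ k, k < N + 2 → g • fv N F k = h • fv N F k) : g = h := by
  apply Subtype.ext
  have h0 : (g : Matrix (Fin (N + 2) ⊕ Fin (N + 2)) (Fin (N + 2) ⊕ Fin (N + 2)) F)
      - (h : Matrix (Fin (N + 2) ⊕ Fin (N + 2)) (Fin (N + 2) ⊕ Fin (N + 2)) F) = 0 := by
    apply matrix_eq_zero_of_basis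
    · intro k hk
      have := he k hk
      rw [smul_def, smul_def] at this
      rw [Matrix.sub_mulVec, this, sub_self]
    · intro k hk
      have := hf k hk
      rw [smul_def, smul_def] at this
      rw [Matrix.sub_mulVec, this, sub_self]
  exact sub_eq_zero.1 h0

theorem eq_one_of_basis {g : Matrix.symplecticGroup (Fin (N + 2)) F}
    (he : ∀ k, k < N + 2 → g • ev N F k = ev N F k)
    (hf : ∀ k, k < N + 2 → g • fv N F k = fv N F k) : g = 1 := by
  apply ext_basis
  · intro k hk; rw [he k hk, one_smul]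
  · intro k hk; rw [hf k hk, one_smul]

/-! ### the diagonal torus -/

/-- columns of the diagonal torus element -/
def diagCol (N : ℕ) (s : ℕ → F) :
    Fin (N + 2) ⊕ Fin (N + 2) → (Fin (N + 2) ⊕ Fin (N + 2) → F)
  | Sum.inl a => s a.val • ev N F a.val
  | Sum.inr a => (s a.val)⁻¹ • fv N F a.val

theorem diagCol_cond (s : ℕ → F) (hs : ∀ k, k < N + 2 → s k ≠ 0) :
    ∀ p q, Bf (diagCol N s p) (diagCol N s q) = Matrix.J (Fin (N + 2)) F p q := by
  have hne : ∀ a b : Fin (N + 2), a ≠ b → ix N a.val ≠ ix N b.val := by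
    intro a b hab
    apply ix_ne a.isLt b.isLt
    intro e
    exact hab (Fin.ext e)
  intro p q
  rcases p with a | a <;> rcases q with b | b
  · simp [diagCol, Matrix.J, Bf_smul_left, Bf_smul_right]
  · by_cases hab : a = b
    · subst hab
      simp [diagCol, Matrix.J, Bf_smul_left, Bf_smul_right, hs a.val a.isLt]
    · simp [diagCol, Matrix.J, Bf_smul_left, Bf_smul_right, Bf_ev_fv_of_ne (hne a b hab), hab]
  · by_cases hab : a = b
    · subst hab
      simp [diagCol, Matrix.J, Bf_smul_left, Bf_smul_right, hs a.val a.isLt]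
    · simp [diagCol, Matrix.J, Bf_smul_left, Bf_smul_right, Bf_fv_ev_of_ne (hne a b hab), hab]
  · simp [diagCol, Matrix.J, Bf_smul_left, Bf_smul_right]

/-- the diagonal torus element `e_k ↦ s_k e_k`, `f_k ↦ s_k⁻¹ f_k` -/
def diagS (N : ℕ) (s : ℕ → F) (hs : ∀ k, k < N + 2 → s k ≠ 0) :
    Matrix.symplecticGroup (Fin (N + 2)) F := spOfCols (diagCol N s) (diagCol_cond s hs)

theorem diagS_smul_ev (s : ℕ → F) (hs : ∀ k, k < N + 2 → s k ≠ 0) {k : ℕ} (hk : k < N + 2) :
    diagS N s hs • ev N F k = s k • ev N F k := by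
  unfold diagS
  have : ev N F k = eV (ix N k) := rfl
  rw [this, spOfCols_smul_eV]
  simp only [diagCol, ix_val hk]
  rfl

theorem diagS_smul_fv (s : ℕ → F) (hs : ∀ k, k < N + 2 → s k ≠ 0) {k : ℕ} (hk : k < N + 2) :
    diagS N s hs • fv N F k = (s k)⁻¹ • fv N F k := by
  unfold diagS
  have : fv N F k = fV (ix N k) := rfl
  rw [this, spOfCols_smul_fV]
  simp only [diagCol, ix_val hk]
  rfl

theorem diagS_pow_smul_ev (s : ℕ → F) (hs : ∀ k, k < N + 2 → s k ≠ 0) {k : ℕ} (hk : k < N + 2)
    (j : ℕ) : (diagS N s hs) ^ j • ev N F k = (s k) ^ j • ev N F k := by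
  induction j with
  | zero => rw [pow_zero, pow_zero, one_smul, one_smul]
  | succ j ih =>
    rw [pow_succ, mul_smul, diagS_smul_ev s hs hk, smul_comm, ih, smul_smul, pow_succ, mul_comm]

theorem diagS_pow_smul_fv (s : ℕ → F) (hs : ∀ k, k < N + 2 → s k ≠ 0) {k : ℕ} (hk : k < N + 2)
    (j : ℕ) : (diagS N s hs) ^ j • fv N F k = ((s k)⁻¹) ^ j • fv N F k := by
  induction j with
  | zero => rw [pow_zero, pow_zero, one_smul, one_smul]
  | succ j ih =>
    rw [pow_succ, mul_smul, diagS_smul_fv s hs hk, smul_comm, ih, smul_smul, pow_succ, mul_comm]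

theorem diagS_pow_card [Fintype F] (s : ℕ → F) (hs : ∀ k, k < N + 2 → s k ≠ 0) :
    (diagS N s hs) ^ (Fintype.card F - 1) = 1 := by
  apply eq_one_of_basis
  · intro k hk
    rw [diagS_pow_smul_ev s hs hk, FiniteField.pow_card_sub_one_eq_one _ (hs k hk), one_smul]
  · intro k hk
    rw [diagS_pow_smul_fv s hs hk,
      FiniteField.pow_card_sub_one_eq_one _ (inv_ne_zero (hs k hk)), one_smul]

end basis

end Cfsg.Agent.Helper28.SpTwo
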