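import Mathlib
import Cfsg.Agent.Lib.Helper11.OGDefs
import Cfsg.Agent.Lib.Helper1.OGBASE
import Cfsg.Agent.Lib.Helper1.OGFRAME
import Cfsg.Agent.Lib.Helper1.OGCRIT

/-!
# S2413 / S2414 / S2415, piece LG: Levi generation
-/

set_option autoImplicit false
set_option linter.unusedSectionVars false
set_option linter.unusedVariables false

namespace Cfsg.Agent.Helper11.OG

open QuadraticMap Matrix Cfsg.Agent.Helper2.Orth Cfsg.Agent.Helper28.WittQuad

variable {F : Type*} [Field F] {ι : Type} [Fintype ι] [DecidableEq ι]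
variable {Q : QuadraticForm F (ι → F)}

section frame
variable {r : ℕ} {e f : Fin r → (ι → F)}

theorem KS_f_of_levi (fr : HypFrame Q e f) (H : Subgroup (Cfsg.isometryGroup F (⇑Q)))
    (hL : ∀ i j, i ≠ j → ∀ c : F, eichG Q (e i) (c • f j) ∈ H) (i0 : Fin r) :
    ∀ j, j ≠ i0 → ∀ c : F, c • f j ∈ KS H (e i0) (fr.qe i0) := by
  intro j hj c
  rw [mem_KS]
  refine ⟨?_, hL i0 j (Ne.symm hj) c⟩
  rw [polar_smul_right, fr.ef, if_neg (Ne.symm hj), smul_zero]

/-- the action of the root element `E(e_i, f_j)` -/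
theorem lg_root_apply (fr : HypFrame Q e f) {i j : Fin r} (hij : i ≠ j) (x : ι → F) :
    eichG Q (e i) (f j) • x = x + (polar Q (f j) x • e i - polar Q (e i) x • f j) := by
  rw [eichG_apply (fr.qe i) (by rw [fr.ef, if_neg hij]), fr.qf]
  simp

theorem KS_e_of_levi (fr : HypFrame Q e f) (H : Subgroup (Cfsg.isometryGroup F (⇑Q)))
    (hL : ∀ i j, i ≠ j → ∀ c : F, eichG Q (e i) (c • f j) ∈ H) (i0 : Fin r)
    (hA1 : ∃ j, j ≠ i0 ∧ ∀ c : F, c • e j ∈ KS H (e i0) (fr.qe i0)) :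
    ∀ j, j ≠ i0 → ∀ c : F, c • e j ∈ KS H (e i0) (fr.qe i0) := by
  obtain ⟨j, hj, hjK⟩ := hA1
  intro j' hj' c
  by_cases hjj : j' = j
  · subst hjj
    exact hjK c
  · have hg : eichG Q (e j') (f j) ∈ H := by
      have := hL j' j hjj 1
      rwa [one_smul] at this
    have hg0 : eichG Q (e j') (f j) • e i0 = e i0 := by
      rw [lg_root_apply fr hjj, fr.fe, if_neg hj, fr.ee]
      simp
    have hg1 : eichG Q (e j') (f j) • (c • e j) = c • e j + c • e j' := by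
      rw [lg_root_apply fr hjj, polar_smul_right, polar_smul_right, fr.fe, if_pos rfl, fr.ee]
      simp
    have h1 := KS_smul_mem hg hg0 (hjK c)
    rw [hg1] at h1
    exact (AddSubgroup.add_mem_cancel_left _ (hjK c)).mp h1

/-- **Levi generation.** -/
theorem levi_gen (hQ : (polarBilin Q).Nondegenerate) (fr : HypFrame Q e f)
    (H : Subgroup (Cfsg.isometryGroup F (⇑Q)))
    (hL : ∀ i j, i ≠ j → ∀ c : F, eichG Q (e i) (c • f j) ∈ H)
    (i0 : Fin r)
    (hA1 : ∃ j, j ≠ i0 ∧ ∀ c : F, c • e j ∈ KS H (e i0) (fr.qe i0))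
    (hA2 : ∀ x, Perp Q e f x → x ∈ KS H (e i0) (fr.qe i0))
    (hA3 : ∃ c ∈ H, ∃ i k, i ≠ i0 ∧ k ≠ i0 ∧ c • e i0 = e i0 ∧
      polar Q (e i0) (c • e i) = 0 ∧ polar Q (e k) (c • e i) ≠ 0) :
    eichGroup Q ≤ H := by
  have he := KS_e_of_levi fr H hL i0 hA1
  have hf := KS_f_of_levi fr H hL i0
  have hK := KS_of_frame fr H i0 he hf hA2
  obtain ⟨c, hcH, i, k, hi, hk, hc0, hc1, hc2⟩ := hA3
  refine eichGroup_le_of_KS hQ H (fr.qe i0) (fr.qf i0) (by rw [fr.ef, if_pos rfl]) hK ?_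
  have hL' : ∀ i j, i ≠ j → eichG Q (e i) (f j) ∈ H := by
    intro i j hij
    have := hL i j hij 1
    rwa [one_smul] at this
  refine ⟨eichG Q (e k) (f i0) * c * eichG Q (e i) (f i0),
    H.mul_mem (H.mul_mem (hL' k i0 hk) hcH) (hL' i i0 hi), ?_⟩
  have h1 : eichG Q (e i) (f i0) • e i0 = e i0 + e i := by
    rw [lg_root_apply fr hi, fr.fe, if_pos rfl, fr.ee]
    simp
  have h2 : c • (e i0 + e i) = e i0 + c • e i := by rw [smul_add_vec, hc0]
  rw [mul_smul, mul_smul, h1, h2, lg_root_apply fr hk]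
  simp only [polar_add_right, polar_sub_right, polar_smul_right, fr.ee, fr.ef, hc1, if_true,
    smul_eq_mul]
  simpa using hc2

end frame

end Cfsg.Agent.Helper11.OG
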