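import Mathlib
import Cfsg.Agent.Lib.Helper11.OGDefs
import Cfsg.Agent.Lib.Helper1.OGBASE
import Cfsg.Agent.Lib.Helper1.OGFRAME
import Cfsg.Agent.Lib.Helper1.OGCRIT
import Cfsg.Agent.Lib.Helper28.OGLG

/-!
# S2413 / S2414 / S2415, piece PLUSC1
-/

set_option autoImplicit false
set_option linter.unusedSectionVars false
set_option linter.unusedVariables false

namespace Cfsg.Agent.Helper11.OG

open QuadraticMap Matrix Cfsg.Agent.Helper2.Orth Cfsg.Agent.Helper28.WittQuad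

variable {F : Type*} [Field F] {ι : Type} [Fintype ι] [DecidableEq ι]
variable {Q : QuadraticForm F (ι → F)}

section frame
variable {r : ℕ} {e f : Fin r → (ι → F)}

theorem plusc1_Qz (fr : HypFrame Q e f) {i2 i3 : Fin r} (h23 : i2 ≠ i3) :
    Q (e i2 + f i3) = 0 := by
  rw [Q_add', fr.qe, fr.qf, fr.ef, if_neg h23]
  simp

theorem plusc1_Qb (fr : HypFrame Q e f) {i2 i3 : Fin r} (h23 : i2 ≠ i3) :
    Q (e i3 - f i2) = 0 := by
  rw [sub_eq_add_neg, Q_add', fr.qe, QuadraticMap.map_neg, fr.qf, polar_neg_right, fr.ef,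
    if_neg (Ne.symm h23)]
  simp

theorem plusc1_zb (fr : HypFrame Q e f) {i2 i3 : Fin r} (h23 : i2 ≠ i3) :
    polar Q (e i2 + f i3) (e i3 - f i2) = 0 := by
  simp only [polar_add_left, polar_sub_right, fr.ee, fr.ef, fr.fe, fr.ff, if_true]
  ring

theorem plusc1_apply (fr : HypFrame Q e f) {i2 i3 : Fin r} (h23 : i2 ≠ i3) (x : ι → F) :
    eichG Q (e i2 + f i3) (e i3 - f i2) • x
      = x + ((polar Q (e i3) x - polar Q (f i2) x) • (e i2 + f i3)
        - (polar Q (e i2) x + polar Q (f i3) x) • (e i3 - f i2)) := by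
  rw [eichG_apply (plusc1_Qz fr h23) (plusc1_zb fr h23), plusc1_Qb fr h23, polar_sub_left,
    polar_add_left]
  simp

theorem plus_hgen_c1 (hQ : (polarBilin Q).Nondegenerate) (fr : HypFrame Q e f)
    (hperp : ∀ x, Perp Q e f x → x = 0) (H : Subgroup (Cfsg.isometryGroup F (⇑Q)))
    (hL : ∀ i j, i ≠ j → ∀ c : F, eichG Q (e i) (c • f j) ∈ H)
    (i0 i2 i3 : Fin r) (h20 : i2 ≠ i0) (h30 : i3 ≠ i0) (h23 : i2 ≠ i3)
    (hc : eichG Q (e i2 + f i3) (e i3 - f i2) ∈ H) : eichGroup Q ≤ H := by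
  have h0 : eichG Q (e i2 + f i3) (e i3 - f i2) • e i0 = e i0 := by
    rw [plusc1_apply fr h23, fr.ee, fr.ee, fr.fe, fr.fe, if_neg h20, if_neg h30]
    simp
  refine levi_gen hQ fr H hL i0 ⟨i2, h20, ?_⟩ ?_ ⟨_, hc, i3, i2, h30, h20, h0, ?_, ?_⟩
  · intro c
    have hf3 := KS_f_of_levi fr H hL i0 i3 h30 c
    have h1 := KS_smul_mem hc h0 hf3
    have h2 : eichG Q (e i2 + f i3) (e i3 - f i2) • (c • f i3)
        = (c • f i3 + c • f i3) + c • e i2 := by
      rw [plusc1_apply fr h23, polar_smul_right, polar_smul_right, polar_smul_right,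
        polar_smul_right, fr.ef, fr.ef, fr.ff, fr.ff, if_pos rfl, if_neg h23]
      simp only [smul_eq_mul, mul_one, mul_zero, sub_zero, add_zero, zero_smul, smul_add]
      abel
    rw [h2] at h1
    exact (AddSubgroup.add_mem_cancel_left _ (add_mem hf3 hf3)).mp h1
  · intro x hx
    rw [hperp x hx]
    exact zero_mem _
  · have h3 : eichG Q (e i2 + f i3) (e i3 - f i2) • e i3 = f i2 := by
      rw [plusc1_apply fr h23, fr.ee, fr.ee, fr.fe, fr.fe, if_pos rfl, if_neg h23]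
      simp
    rw [h3, fr.ef, if_neg (Ne.symm h20)]
  · have h3 : eichG Q (e i2 + f i3) (e i3 - f i2) • e i3 = f i2 := by
      rw [plusc1_apply fr h23, fr.ee, fr.ee, fr.fe, fr.fe, if_pos rfl, if_neg h23]
      simp
    rw [h3, fr.ef, if_pos rfl]
    exact one_ne_zero

end frame

end Cfsg.Agent.Helper11.OG
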