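import Mathlib
import Cfsg.Agent.Lib.Helper11.OGDefs
import Cfsg.Agent.Lib.Helper1.OGBASE
import Cfsg.Agent.Lib.Helper1.OGFRAME
import Cfsg.Agent.Lib.Helper1.OGCRIT
import Cfsg.Agent.Lib.Helper28.OGLG

/-!
# S2413 / S2414 / S2415, piece PLUST
-/

set_option autoImplicit false
set_option linter.unusedSectionVars false
set_option linter.unusedVariables false

namespace Cfsg.Agent.Helper11.OG

open QuadraticMap Matrix Cfsg.Agent.Helper2.Orth Cfsg.Agent.Helper28.WittQuad

variable {F : Type*} [Field F] {ι : Type} [Fintype ι] [DecidableEq ι]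
variable {Q : QuadraticForm F (ι → F)}

section frame
variable {r : ℕ} {e f : Fin r → (ι → F)}

theorem plust_apply (fr : HypFrame Q e f) {i2 i3 : Fin r} (h23 : i2 ≠ i3) (x : ι → F) :
    (eichG Q (e i2) (e i3) * eichG Q (f i2) (-(f i3))) • x
      = x - polar Q (f i3) x • f i2 + polar Q (f i2) x • f i3
        + (polar Q (e i3) x + polar Q (f i2) x) • e i2
        - (polar Q (e i2) x - polar Q (f i3) x) • e i3 := by
  have hB : eichG Q (f i2) (-(f i3)) • x
      = x - polar Q (f i3) x • f i2 + polar Q (f i2) x • f i3 := by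
    rw [eichG_apply (fr.qf i2) (by rw [polar_neg_right, fr.ff, neg_zero]), QuadraticMap.map_neg,
      fr.qf, polar_neg_left]
    simp only [neg_smul, smul_neg, zero_smul, sub_zero, sub_neg_eq_add]
    abel
  have hA : ∀ y : ι → F, eichG Q (e i2) (e i3) • y
      = y + polar Q (e i3) y • e i2 - polar Q (e i2) y • e i3 := by
    intro y
    rw [eichG_apply (fr.qe i2) (fr.ee i2 i3), fr.qe]
    simp only [zero_smul, sub_zero]
    abel
  rw [mul_smul, hB, hA]
  simp only [polar_add_right, polar_sub_right, polar_smul_right, fr.ee, fr.ef, fr.fe, fr.ff,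
    if_true, if_neg h23, if_neg (Ne.symm h23), smul_eq_mul, mul_one, mul_zero, sub_zero, add_zero]

theorem plust_e2 (fr : HypFrame Q e f) {i2 i3 : Fin r} (h23 : i2 ≠ i3) :
    (eichG Q (e i2) (e i3) * eichG Q (f i2) (-(f i3))) • e i2 = (2 : F) • e i2 + f i3 := by
  rw [plust_apply fr h23]
  simp only [fr.ee, fr.fe, if_true, if_neg h23, if_neg (Ne.symm h23)]
  module

theorem plust_f3 (fr : HypFrame Q e f) {i2 i3 : Fin r} (h23 : i2 ≠ i3) :
    (eichG Q (e i2) (e i3) * eichG Q (f i2) (-(f i3))) • f i3 = e i2 + f i3 := by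
  rw [plust_apply fr h23]
  simp only [fr.ef, fr.ff, if_true, if_neg h23, if_neg (Ne.symm h23)]
  module

theorem plust_e3 (fr : HypFrame Q e f) {i2 i3 : Fin r} (h23 : i2 ≠ i3) :
    (eichG Q (e i2) (e i3) * eichG Q (f i2) (-(f i3))) • e i3 = (2 : F) • e i3 - f i2 := by
  rw [plust_apply fr h23]
  simp only [fr.ee, fr.fe, if_true, if_neg h23, if_neg (Ne.symm h23)]
  module

theorem plust_f2 (fr : HypFrame Q e f) {i2 i3 : Fin r} (h23 : i2 ≠ i3) :
    (eichG Q (e i2) (e i3) * eichG Q (f i2) (-(f i3))) • f i2 = f i2 - e i3 := by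
  rw [plust_apply fr h23]
  simp only [fr.ef, fr.ff, if_true, if_neg h23, if_neg (Ne.symm h23)]
  module

theorem plust_fix (fr : HypFrame Q e f) {i2 i3 : Fin r} (h23 : i2 ≠ i3) {x : ι → F}
    (h1 : polar Q (e i2) x = 0) (h2 : polar Q (f i2) x = 0) (h3 : polar Q (e i3) x = 0)
    (h4 : polar Q (f i3) x = 0) :
    (eichG Q (e i2) (e i3) * eichG Q (f i2) (-(f i3))) • x = x := by
  rw [plust_apply fr h23, h1, h2, h3, h4]
  module

theorem plus_hgen_t (hQ : (polarBilin Q).Nondegenerate) (fr : HypFrame Q e f)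
    (hperp : ∀ x, Perp Q e f x → x = 0) (H : Subgroup (Cfsg.isometryGroup F (⇑Q)))
    (hL : ∀ i j, i ≠ j → ∀ c : F, eichG Q (e i) (c • f j) ∈ H)
    (i0 i2 i3 : Fin r) (h20 : i2 ≠ i0) (h30 : i3 ≠ i0) (h23 : i2 ≠ i3)
    (hc : eichG Q (e i2) (e i3) * eichG Q (f i2) (-(f i3)) ∈ H) : eichGroup Q ≤ H := by
  have h0 : (eichG Q (e i2) (e i3) * eichG Q (f i2) (-(f i3))) • e i0 = e i0 := by
    apply plust_fix fr h23
    · exact fr.ee _ _
    · rw [fr.fe, if_neg h20]
    · exact fr.ee _ _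
    · rw [fr.fe, if_neg h30]
  refine levi_gen hQ fr H hL i0 ⟨i3, h30, ?_⟩ ?_ ⟨_, hc, i2, i3, h20, h30, h0, ?_, ?_⟩
  · intro c
    have hf2 := KS_f_of_levi fr H hL i0 i2 h20 c
    have h1 := KS_smul_mem hc h0 hf2
    rw [smul_smul_vec, plust_f2 fr h23, smul_sub] at h1
    have h2 := sub_mem hf2 h1
    rwa [sub_sub_cancel] at h2
  · intro x hx
    rw [hperp x hx]
    exact zero_mem _
  · rw [plust_e2 fr h23, polar_add_right, polar_smul_right, fr.ee, fr.ef, if_neg (Ne.symm h30)]
    simp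
  · rw [plust_e2 fr h23, polar_add_right, polar_smul_right, fr.ee, fr.ef, if_pos rfl]
    simp

theorem plust_ext (fr : HypFrame Q e f) {i2 i3 : Fin r} (h23 : i2 ≠ i3)
    (g : Cfsg.isometryGroup F (⇑Q))
    (h1 : g • e i2 = e i2) (h2 : g • f i2 = f i2) (h3 : g • e i3 = e i3) (h4 : g • f i3 = f i3)
    (hfix : ∀ x : ι → F, polar Q (e i2) x = 0 → polar Q (f i2) x = 0 → polar Q (e i3) x = 0 →
      polar Q (f i3) x = 0 → g • x = x) : g = 1 := by
  apply ext_frame fr
  · intro i
    rw [one_smul]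
    by_cases hi2 : i = i2
    · rw [hi2, h1]
    by_cases hi3 : i = i3
    · rw [hi3, h3]
    apply hfix
    · exact fr.ee _ _
    · rw [fr.fe, if_neg (Ne.symm hi2)]
    · exact fr.ee _ _
    · rw [fr.fe, if_neg (Ne.symm hi3)]
  · intro i
    rw [one_smul]
    by_cases hi2 : i = i2
    · rw [hi2, h2]
    by_cases hi3 : i = i3
    · rw [hi3, h4]
    apply hfix
    · rw [fr.ef, if_neg (Ne.symm hi2)]
    · exact fr.ff _ _
    · rw [fr.ef, if_neg (Ne.symm hi3)]
    · exact fr.ff _ _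
  · intro x hx
    rw [one_smul]
    exact hfix x (hx i2).1 (hx i2).2 (hx i3).1 (hx i3).2

theorem plus_t_pow_three (h2 : (2 : F) = 0) (fr : HypFrame Q e f) (i2 i3 : Fin r) (h23 : i2 ≠ i3) :
    (eichG Q (e i2) (e i3) * eichG Q (f i2) (-(f i3))) ^ 3 = 1 := by
  set t := eichG Q (e i2) (e i3) * eichG Q (f i2) (-(f i3)) with ht
  have e2 := plust_e2 fr h23
  have f3 := plust_f3 fr h23
  have e3 := plust_e3 fr h23
  have f2 := plust_f2 fr h23
  rw [← ht] at e2 f3 e3 f2
  apply plust_ext fr h23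
  · rw [pow_succ, pow_succ, pow_one, mul_smul, mul_smul]
    simp only [e2, f3, smul_add_vec, smul_smul_vec, smul_sub_vec]
    funext a
    simp only [Pi.add_apply, Pi.smul_apply, Pi.sub_apply, smul_eq_mul]
    linear_combination (6 * e i2 a + 4 * f i3 a) * h2
  · rw [pow_succ, pow_succ, pow_one, mul_smul, mul_smul]
    simp only [e3, f2, smul_add_vec, smul_smul_vec, smul_sub_vec]
    funext a
    simp only [Pi.add_apply, Pi.smul_apply, Pi.sub_apply, smul_eq_mul]
    linear_combination (2 * f i2 a - 4 * e i3 a) * h2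
  · rw [pow_succ, pow_succ, pow_one, mul_smul, mul_smul]
    simp only [e3, f2, smul_add_vec, smul_smul_vec, smul_sub_vec]
    funext a
    simp only [Pi.add_apply, Pi.smul_apply, Pi.sub_apply, smul_eq_mul]
    linear_combination (6 * e i3 a - 4 * f i2 a) * h2
  · rw [pow_succ, pow_succ, pow_one, mul_smul, mul_smul]
    simp only [e2, f3, smul_add_vec, smul_smul_vec, smul_sub_vec]
    funext a
    simp only [Pi.add_apply, Pi.smul_apply, Pi.sub_apply, smul_eq_mul]
    linear_combination (4 * e i2 a + 2 * f i3 a) * h2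
  · intro x h1 h2' h3 h4
    have hx := plust_fix fr h23 h1 h2' h3 h4
    rw [← ht] at hx
    rw [pow_succ, pow_succ, pow_one, mul_smul, mul_smul, hx, hx, hx]

theorem plus_t_pow_four (h3 : (3 : F) = 0) (fr : HypFrame Q e f) (i2 i3 : Fin r) (h23 : i2 ≠ i3) :
    (eichG Q (e i2) (e i3) * eichG Q (f i2) (-(f i3))) ^ 4 = 1 := by
  set t := eichG Q (e i2) (e i3) * eichG Q (f i2) (-(f i3)) with ht
  have e2 := plust_e2 fr h23
  have f3 := plust_f3 fr h23
  have e3 := plust_e3 fr h23
  have f2 := plust_f2 fr h23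
  rw [← ht] at e2 f3 e3 f2
  apply plust_ext fr h23
  · rw [pow_succ, pow_succ, pow_succ, pow_one, mul_smul, mul_smul, mul_smul]
    simp only [e2, f3, smul_add_vec, smul_smul_vec, smul_sub_vec]
    funext a
    simp only [Pi.add_apply, Pi.smul_apply, Pi.sub_apply, smul_eq_mul]
    linear_combination (11 * e i2 a + 7 * f i3 a) * h3
  · rw [pow_succ, pow_succ, pow_succ, pow_one, mul_smul, mul_smul, mul_smul]
    simp only [e3, f2, smul_add_vec, smul_smul_vec, smul_sub_vec]
    funext a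
    simp only [Pi.add_apply, Pi.smul_apply, Pi.sub_apply, smul_eq_mul]
    linear_combination (4 * f i2 a - 7 * e i3 a) * h3
  · rw [pow_succ, pow_succ, pow_succ, pow_one, mul_smul, mul_smul, mul_smul]
    simp only [e3, f2, smul_add_vec, smul_smul_vec, smul_sub_vec]
    funext a
    simp only [Pi.add_apply, Pi.smul_apply, Pi.sub_apply, smul_eq_mul]
    linear_combination (11 * e i3 a - 7 * f i2 a) * h3
  · rw [pow_succ, pow_succ, pow_succ, pow_one, mul_smul, mul_smul, mul_smul]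
    simp only [e2, f3, smul_add_vec, smul_smul_vec, smul_sub_vec]
    funext a
    simp only [Pi.add_apply, Pi.smul_apply, Pi.sub_apply, smul_eq_mul]
    linear_combination (7 * e i2 a + 4 * f i3 a) * h3
  · intro x h1 h2' h3' h4
    have hx := plust_fix fr h23 h1 h2' h3' h4
    rw [← ht] at hx
    rw [pow_succ, pow_succ, pow_succ, pow_one, mul_smul, mul_smul, mul_smul, hx, hx, hx, hx]

end frame

end Cfsg.Agent.Helper11.OG
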