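import Mathlib
import Cfsg.Agent.Lib.Helper28.SpTwoA

set_option autoImplicit false

/-!
# The element `Zp N F N` is unipotent
-/

namespace Cfsg.Agent.Helper28.SpTwo

open Matrix
open Cfsg.Agent.Helper2.Symp
open scoped Cfsg.Agent.Helper2.Symp
open Cfsg.Agent.Helper12.SpGen

variable {N : ℕ} {F : Type*} [Field F]

section unip

variable (N F)

/-- the matrix of the inverse of `y₂ = Zp N F N` -/
def A2 : Matrix (Fin (N + 2) ⊕ Fin (N + 2)) (Fin (N + 2) ⊕ Fin (N + 2)) F :=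
  ((Zp N F N)⁻¹ : Matrix.symplecticGroup (Fin (N + 2)) F)

/-- the nilpotent matrix `y₂⁻¹ - 1` -/
def M2 : Matrix (Fin (N + 2) ⊕ Fin (N + 2)) (Fin (N + 2) ⊕ Fin (N + 2)) F := A2 N F - 1

variable {N F}

theorem A2_mulVec (x : Fin (N + 2) ⊕ Fin (N + 2) → F) :
    A2 N F *ᵥ x = (Zp N F N)⁻¹ • x := rfl

theorem M2_mulVec (x : Fin (N + 2) ⊕ Fin (N + 2) → F) :
    M2 N F *ᵥ x = A2 N F *ᵥ x - x := by
  unfold M2
  rw [Matrix.sub_mulVec, Matrix.one_mulVec]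

theorem commute_M2_A2 : Commute (M2 N F) (A2 N F) := by
  unfold M2
  exact (Commute.refl _).sub_left (Commute.one_left _)

theorem A2_ev_low {k : ℕ} (hk : k ≤ 1) : A2 N F *ᵥ ev N F k = ev N F k := by
  rw [A2_mulVec, inv_smul_eq_iff, Zp_smul_ev_low N (by omega) k (by omega)]

theorem M2_ev_low {k : ℕ} (hk : k ≤ 1) : M2 N F *ᵥ ev N F k = 0 := by
  rw [M2_mulVec, A2_ev_low hk, sub_self]

theorem M2_fv0 : M2 N F *ᵥ fv N F 0 = 0 := by
  rw [M2_mulVec, A2_mulVec, Zp_inv_smul_fv_low N (by omega) 0 (by omega), sub_self]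

theorem M2_fv {k : ℕ} (hk1 : 1 ≤ k) (hk : k ≤ N) : M2 N F *ᵥ fv N F k = fv N F (k + 1) := by
  rw [M2_mulVec, A2_mulVec, Zp_inv_smul_fv_high N (by omega) k (by omega) hk, add_sub_cancel_left]

theorem M2_ev {k : ℕ} (hk1 : 2 ≤ k) (hk : k ≤ N + 1) :
    M2 N F *ᵥ ev N F k = -(A2 N F *ᵥ ev N F (k - 1)) := by
  rw [M2_mulVec]
  have h1 : Zp N F N • ev N F k = ev N F k + ev N F (k - 1) :=
    Zp_smul_ev_high N (by omega) k (by omega) hk
  have h2 : (Zp N F N)⁻¹ • (Zp N F N • ev N F k) = ev N F k := inv_smul_smul _ _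
  rw [h1, smul_add] at h2
  rw [A2_mulVec, A2_mulVec]
  rw [eq_neg_iff_add_eq_zero, sub_add_eq_add_sub, h2, sub_self]

theorem M2_fv_top : M2 N F *ᵥ fv N F (N + 1) = -(A2 N F *ᵥ ev N F (N + 1)) := by
  rw [M2_mulVec]
  have h1 : Zp N F N • fv N F (N + 1) = fv N F (N + 1) + ev N F (N + 1) :=
    Zp_smul_fv_top N (by omega)
  have h2 : (Zp N F N)⁻¹ • (Zp N F N • fv N F (N + 1)) = fv N F (N + 1) := inv_smul_smul _ _
  rw [h1, smul_add] at h2
  rw [A2_mulVec, A2_mulVec]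
  rw [eq_neg_iff_add_eq_zero, sub_add_eq_add_sub, h2, sub_self]

theorem M2_pow_fv : ∀ j k : ℕ, 1 ≤ k → k + j ≤ N + 1 →
    (M2 N F) ^ j *ᵥ fv N F k = fv N F (k + j) := by
  intro j
  induction j with
  | zero => intro k _ _; rw [pow_zero, Matrix.one_mulVec, add_zero]
  | succ j ih =>
    intro k hk1 hk
    rw [pow_succ', ← Matrix.mulVec_mulVec, ih k hk1 (by omega), M2_fv (by omega) (by omega),
      add_assoc]

theorem M2_pow_ev : ∀ i k : ℕ, i + 1 ≤ k → k ≤ N + 1 →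
    (M2 N F) ^ i *ᵥ ev N F k = (-1 : F) ^ i • ((A2 N F) ^ i *ᵥ ev N F (k - i)) := by
  intro i
  induction i with
  | zero =>
    intro k _ _
    rw [Nat.sub_zero, pow_zero, pow_zero, pow_zero, Matrix.one_mulVec, one_smul]
  | succ i ih =>
    intro k hik hk
    rw [pow_succ', ← Matrix.mulVec_mulVec, ih k (by omega) hk, Matrix.mulVec_smul,
      Matrix.mulVec_mulVec, (commute_M2_A2.pow_right i).eq, ← Matrix.mulVec_mulVec,
      M2_ev (by omega) (by omega), Matrix.mulVec_neg, Matrix.mulVec_mulVec, ← pow_succ,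
      smul_neg, ← neg_smul]
    have e1 : k - i - 1 = k - (i + 1) := by omega
    have e2 : -((-1 : F) ^ i) = (-1) ^ (i + 1) := by rw [pow_succ]; ring
    rw [e1, e2]

theorem M2_kill_ev {k : ℕ} (hk1 : 1 ≤ k) (hk : k ≤ N + 1) :
    (M2 N F) ^ k *ᵥ ev N F k = 0 := by
  obtain ⟨i, rfl⟩ : ∃ i, k = i + 1 := ⟨k - 1, by omega⟩
  rw [pow_succ', ← Matrix.mulVec_mulVec, M2_pow_ev i (i + 1) le_rfl hk]
  have e : i + 1 - i = 1 := by omega
  rw [e, Matrix.mulVec_smul, Matrix.mulVec_mulVec, (commute_M2_A2.pow_right i).eq,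
    ← Matrix.mulVec_mulVec, M2_ev_low le_rfl, Matrix.mulVec_zero, smul_zero]

theorem M2_pow_kill_ev {k n : ℕ} (hk : k ≤ N + 1) (hn : k + 1 ≤ n) :
    (M2 N F) ^ n *ᵥ ev N F k = 0 := by
  by_cases hk0 : k = 0
  · subst hk0
    obtain ⟨r, rfl⟩ : ∃ r, n = r + 1 := ⟨n - 1, by omega⟩
    rw [pow_succ, ← Matrix.mulVec_mulVec, M2_ev_low (by omega), Matrix.mulVec_zero]
  · obtain ⟨r, rfl⟩ : ∃ r, n = r + k := ⟨n - k, by omega⟩
    rw [pow_add, ← Matrix.mulVec_mulVec, M2_kill_ev (by omega) hk, Matrix.mulVec_zero]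

theorem M2_pow_kill_fv {k : ℕ} (hk : k ≤ N + 1) :
    (M2 N F) ^ (2 * N + 4) *ᵥ fv N F k = 0 := by
  by_cases hk0 : k = 0
  · subst hk0
    have e : 2 * N + 4 = (2 * N + 3) + 1 := by omega
    rw [e, pow_succ, ← Matrix.mulVec_mulVec, M2_fv0, Matrix.mulVec_zero]
  · have e : 2 * N + 4 = (k + (N + 2)) + (1 + (N + 1 - k)) := by omega
    rw [e, pow_add _ (k + (N + 2)) (1 + (N + 1 - k)), pow_add (M2 N F) 1 (N + 1 - k), pow_one,
      ← Matrix.mulVec_mulVec, ← Matrix.mulVec_mulVec,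
      M2_pow_fv (N + 1 - k) k (by omega) (by omega)]
    have e2 : k + (N + 1 - k) = N + 1 := by omega
    rw [e2, M2_fv_top, Matrix.mulVec_neg, Matrix.mulVec_mulVec,
      (commute_M2_A2.pow_left _).eq, ← Matrix.mulVec_mulVec,
      M2_pow_kill_ev le_rfl (by omega), Matrix.mulVec_zero, neg_zero]

theorem M2_pow_eq_zero : (M2 N F) ^ (2 * N + 4) = 0 := by
  apply matrix_eq_zero_of_basis
  · intro k hk
    exact M2_pow_kill_ev (by omega) (by omega)
  · intro k hk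
    exact M2_pow_kill_fv (by omega)

/-- `y₂` has `p`-power order -/
theorem Zp_pow_eq_one (p : ℕ) [hp : Fact p.Prime] [CharP F p] :
    (Zp N F N) ^ (p ^ (2 * N + 4)) = 1 := by
  have h1 : (A2 N F) ^ (p ^ (2 * N + 4)) = 1 := by
    have hA : A2 N F = M2 N F + 1 := by unfold M2; abel
    have hlt : 2 * N + 4 ≤ p ^ (2 * N + 4) :=
      le_of_lt (lt_of_lt_of_le (Nat.lt_two_pow_self) (Nat.pow_le_pow_left hp.out.two_le _))
    rw [hA, add_pow_char_pow_of_commute p _ (Commute.one_right _), one_pow]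
    obtain ⟨r, hr⟩ := Nat.exists_eq_add_of_le hlt
    rw [hr, pow_add, M2_pow_eq_zero, zero_mul, zero_add]
  have h2 : ((Zp N F N)⁻¹) ^ (p ^ (2 * N + 4)) = 1 := by
    apply Subtype.ext
    rw [SubmonoidClass.coe_pow]
    exact h1
  rw [inv_pow, inv_eq_one] at h2
  exact h2

end unip

end Cfsg.Agent.Helper28.SpTwo
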