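import Mathlib
import Cfsg.Agent.Lib.Helper28.SpTwoB

set_option autoImplicit false

/-!
# Two generators for the symplectic group: the main criterion
-/

namespace Cfsg.Agent.Helper28.SpTwo

open Matrix
open Cfsg.Agent.Helper2.Symp
open scoped Cfsg.Agent.Helper2.Symp
open Cfsg.Agent.Helper12.SpGen

variable {N : ℕ} {F : Type*} [Field F] [Fintype F]
variable {H : Subgroup (Matrix.symplecticGroup (Fin (N + 2)) F)}

/-- the scalars `c` with `tv v c ∈ H` -/
def tvAdd (H : Subgroup (Matrix.symplecticGroup (Fin (N + 2)) F))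
    (v : Fin (N + 2) ⊕ Fin (N + 2) → F) : AddSubgroup F where
  carrier := {c | tv v c ∈ H}
  zero_mem' := by
    show tv v 0 ∈ H
    rw [tv_zero_right]
    exact H.one_mem
  add_mem' := by
    intro c d hc hd
    show tv v (c + d) ∈ H
    rw [← tv_mul_tv]
    exact H.mul_mem hc hd
  neg_mem' := by
    intro c hc
    show tv v (-c) ∈ H
    rw [← tv_inv]
    exact H.inv_mem hc

theorem mem_tvAdd {v : Fin (N + 2) ⊕ Fin (N + 2) → F} {c : F} :
    c ∈ tvAdd H v ↔ tv v c ∈ H := Iff.rfl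

/-- the vectors `d` orthogonal to `b` with `Tm d b ∈ H`, when the root group of `b` lies in `H` -/
def DSub (H : Subgroup (Matrix.symplecticGroup (Fin (N + 2)) F))
    (b : Fin (N + 2) ⊕ Fin (N + 2) → F) (hb : ∀ c, tv b c ∈ H) :
    AddSubgroup (Fin (N + 2) ⊕ Fin (N + 2) → F) where
  carrier := {d | Bf d b = 0 ∧ Tm d b ∈ H}
  zero_mem' := by
    refine ⟨Bf_zero_left _, ?_⟩
    rw [Tm_zero_left]
    exact H.one_mem
  add_mem' := by
    rintro d d' ⟨h1, h2⟩ ⟨h1', h2'⟩
    refine ⟨by rw [Bf_add_left, h1, h1', add_zero], ?_⟩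
    have key := Tm_add_left h1 h1'
    have : Tm (d + d') b = Tm d b * Tm d' b * (tv b (Bf d' d))⁻¹ := by
      rw [key]; group
    rw [this]
    exact H.mul_mem (H.mul_mem h2 h2') (H.inv_mem (hb _))
  neg_mem' := by
    rintro d ⟨h1, h2⟩
    refine ⟨by rw [Bf_neg_left, h1, neg_zero], ?_⟩
    rw [Tm_neg_left h1]
    exact H.inv_mem h2

theorem mem_DSub {b : Fin (N + 2) ⊕ Fin (N + 2) → F} {hb : ∀ c, tv b c ∈ H}
    {d : Fin (N + 2) ⊕ Fin (N + 2) → F} : d ∈ DSub H b hb ↔ Bf d b = 0 ∧ Tm d b ∈ H := Iff.rfl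

theorem DSub_smul_mem {b : Fin (N + 2) ⊕ Fin (N + 2) → F} {hb : ∀ c, tv b c ∈ H}
    {g : Matrix.symplecticGroup (Fin (N + 2)) F} (hg : g ∈ H) (hgb : g • b = b)
    {d : Fin (N + 2) ⊕ Fin (N + 2) → F} (hd : d ∈ DSub H b hb) : g • d ∈ DSub H b hb := by
  obtain ⟨h1, h2⟩ := hd
  refine ⟨?_, ?_⟩
  · rw [← hgb, Bf_smul_smul, h1]
  · have := Tm_smul_mem H hg h2
    rwa [hgb] at this

/-- scaling: an element of `H` scaling `b` by `t` -/
theorem DSub_scale_mem {b : Fin (N + 2) ⊕ Fin (N + 2) → F} {hb : ∀ c, tv b c ∈ H}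
    {g : Matrix.symplecticGroup (Fin (N + 2)) F} (hg : g ∈ H) {t : F} (hgb : g • b = t • b)
    {d : Fin (N + 2) ⊕ Fin (N + 2) → F} (hd : d ∈ DSub H b hb) :
    t • (g • d) ∈ DSub H b hb := by
  obtain ⟨h1, h2⟩ := hd
  have h3 : Bf (g • d) b = 0 ∨ t = 0 := by
    have : Bf (g • d) (g • b) = 0 := by rw [Bf_smul_smul, h1]
    rw [hgb, Bf_smul_right] at this
    rcases mul_eq_zero.1 this with h | h
    · right; exact h
    · left; exact h
  have h3' : Bf (t • (g • d)) b = 0 := by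
    rw [Bf_smul_left]
    rcases h3 with h | h
    · rw [h, mul_zero]
    · rw [h, zero_mul]
  refine ⟨h3', ?_⟩
  rcases h3 with h | h
  · rw [Tm_smul_left h]
    have := Tm_smul_mem H hg h2
    rwa [hgb] at this
  · rw [h, zero_smul, Tm_zero_left]
    exact H.one_mem

/-- vectors `b` orthogonal to the plane `<e_0, f_0>` with `Tm e_0 b` in `H` modulo the root
group of `e_0` -/
def KSub (H : Subgroup (Matrix.symplecticGroup (Fin (N + 2)) F)) :
    AddSubgroup (Fin (N + 2) ⊕ Fin (N + 2) → F) where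
  carrier := {b | Bf b (ev N F 0) = 0 ∧ Bf b (fv N F 0) = 0 ∧
    ∃ c : F, Tm (ev N F 0) b * tv (ev N F 0) c ∈ H}
  zero_mem' := by
    refine ⟨Bf_zero_left _, Bf_zero_left _, 0, ?_⟩
    rw [Tm_zero_right, tv_zero_right, mul_one]
    exact H.one_mem
  add_mem' := by
    rintro b b' ⟨h1, h2, c, h3⟩ ⟨h1', h2', c', h3'⟩
    refine ⟨by rw [Bf_add_left, h1, h1', add_zero], by rw [Bf_add_left, h2, h2', add_zero],
      Bf b' b + (c + c'), ?_⟩
    have o : Bf (ev N F 0) b = 0 := Bf_symm_zero h1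
    have o' : Bf (ev N F 0) b' = 0 := Bf_symm_zero h1'
    have key := Tm_add_right o o'
    have hc := tv_commute_Tm_left o' c
    have : Tm (ev N F 0) (b + b') * tv (ev N F 0) (Bf b' b + (c + c'))
        = (Tm (ev N F 0) b * tv (ev N F 0) c) * (Tm (ev N F 0) b' * tv (ev N F 0) c') := by
      calc Tm (ev N F 0) (b + b') * tv (ev N F 0) (Bf b' b + (c + c'))
          = (Tm (ev N F 0) (b + b') * tv (ev N F 0) (Bf b' b))
              * (tv (ev N F 0) c * tv (ev N F 0) c') := by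
            rw [tv_mul_tv, mul_assoc, tv_mul_tv]
        _ = (Tm (ev N F 0) b * Tm (ev N F 0) b') * (tv (ev N F 0) c * tv (ev N F 0) c') := by
            rw [key]
        _ = Tm (ev N F 0) b * (Tm (ev N F 0) b' * tv (ev N F 0) c) * tv (ev N F 0) c' := by
            group
        _ = Tm (ev N F 0) b * (tv (ev N F 0) c * Tm (ev N F 0) b') * tv (ev N F 0) c' := by
            rw [hc]
        _ = (Tm (ev N F 0) b * tv (ev N F 0) c) * (Tm (ev N F 0) b' * tv (ev N F 0) c') := by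
            group
    rw [this]
    exact H.mul_mem h3 h3'
  neg_mem' := by
    rintro b ⟨h1, h2, c, h3⟩
    refine ⟨by rw [Bf_neg_left, h1, neg_zero], by rw [Bf_neg_left, h2, neg_zero], -c, ?_⟩
    have o : Bf (ev N F 0) b = 0 := Bf_symm_zero h1
    have o' : Bf (ev N F 0) (-b) = 0 := by rw [Bf_neg_right, o, neg_zero]
    have hc := tv_commute_Tm_left o' (-c)
    have : Tm (ev N F 0) (-b) * tv (ev N F 0) (-c)
        = (Tm (ev N F 0) b * tv (ev N F 0) c)⁻¹ := by
      rw [← hc, Tm_neg_right o, ← tv_inv, _root_.mul_inv_rev]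
    rw [this]
    exact H.inv_mem h3

theorem mem_KSub {b : Fin (N + 2) ⊕ Fin (N + 2) → F} :
    b ∈ KSub H ↔ Bf b (ev N F 0) = 0 ∧ Bf b (fv N F 0) = 0 ∧
      ∃ c : F, Tm (ev N F 0) b * tv (ev N F 0) c ∈ H := Iff.rfl

theorem KSub_smul_mem {g : Matrix.symplecticGroup (Fin (N + 2)) F} (hg : g ∈ H)
    (hge : g • ev N F 0 = ev N F 0) (hgf : g • fv N F 0 = fv N F 0)
    {b : Fin (N + 2) ⊕ Fin (N + 2) → F} (hb : b ∈ KSub H) : g • b ∈ KSub H := by
  obtain ⟨h1, h2, c, h3⟩ := hb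
  refine ⟨?_, ?_, c, ?_⟩
  · rw [← hge, Bf_smul_smul, h1]
  · rw [← hgf, Bf_smul_smul, h2]
  · have e : Tm (ev N F 0) (g • b) * tv (ev N F 0) c
        = g * (Tm (ev N F 0) b * tv (ev N F 0) c) * g⁻¹ := by
      have e1 := conj_Tm g (ev N F 0) b
      have e2 := conj_tv g (ev N F 0) c
      rw [hge] at e1 e2
      calc Tm (ev N F 0) (g • b) * tv (ev N F 0) c
          = (g * Tm (ev N F 0) b * g⁻¹) * (g * tv (ev N F 0) c * g⁻¹) := by rw [e1, e2]
        _ = g * (Tm (ev N F 0) b * tv (ev N F 0) c) * g⁻¹ := by group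
    rw [e]
    exact conj_mem H hg h3

theorem KSub_inv_smul_mem {g : Matrix.symplecticGroup (Fin (N + 2)) F} (hg : g ∈ H)
    (hge : g • ev N F 0 = ev N F 0) (hgf : g • fv N F 0 = fv N F 0)
    {b : Fin (N + 2) ⊕ Fin (N + 2) → F} (hb : b ∈ KSub H) : g⁻¹ • b ∈ KSub H :=
  KSub_smul_mem (H.inv_mem hg) (by rw [inv_smul_eq_iff, hge]) (by rw [inv_smul_eq_iff, hgf]) hb

/-- the chain: from `f_1` to `e_1` using `y₂ = Zp N F N` -/
theorem ev1_mem_KSub (hy2 : Zp N F N ∈ H) (hf1 : fv N F 1 ∈ KSub H) : ev N F 1 ∈ KSub H := by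
  have hy2e : Zp N F N • ev N F 0 = ev N F 0 := Zp_smul_ev_low N (by omega) 0 (by omega)
  have hy2f : Zp N F N • fv N F 0 = fv N F 0 := Zp_smul_fv_low N (by omega) 0 (by omega)
  have hfk : ∀ k : ℕ, 1 ≤ k → k ≤ N + 1 → fv N F k ∈ KSub H := by
    intro k hk1
    induction k, hk1 using Nat.le_induction with
    | base => intro _; exact hf1
    | succ k hk ih =>
      intro hk2
      have h1 := ih (by omega)
      have h2 := KSub_inv_smul_mem hy2 hy2e hy2f h1
      rw [Zp_inv_smul_fv_high N (by omega) k (by omega) (by omega)] at h2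
      have := (KSub H).sub_mem h2 h1
      rwa [add_sub_cancel_left] at this
  have hetop : ev N F (N + 1) ∈ KSub H := by
    have h1 := hfk (N + 1) (by omega) le_rfl
    have h2 := KSub_smul_mem hy2 hy2e hy2f h1
    rw [Zp_smul_fv_top N (by omega)] at h2
    have := (KSub H).sub_mem h2 h1
    rwa [add_sub_cancel_left] at this
  have hek : ∀ j : ℕ, j ≤ N → ev N F (N + 1 - j) ∈ KSub H := by
    intro j
    induction j with
    | zero => intro _; exact hetop
    | succ j ih =>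
      intro hj
      have h1 := ih (by omega)
      have h2 := KSub_smul_mem hy2 hy2e hy2f h1
      rw [Zp_smul_ev_high N (by omega) _ (by omega) (by omega)] at h2
      have := (KSub H).sub_mem h2 h1
      rw [add_sub_cancel_left] at this
      have e : N + 1 - j - 1 = N + 1 - (j + 1) := by omega
      rwa [e] at this
  have := hek N le_rfl
  have e : N + 1 - N = 1 := by omega
  rwa [e] at this

end Cfsg.Agent.Helper28.SpTwo
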