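import Mathlib
import Cfsg.Agent.Lib.Helper28.SpTwoC

set_option autoImplicit false

/-!
# Two generators for the symplectic group: the generation criterion
-/

namespace Cfsg.Agent.Helper28.SpTwo

open Matrix
open Cfsg.Agent.Helper2.Symp
open scoped Cfsg.Agent.Helper2.Symp
open Cfsg.Agent.Helper12.SpGen

variable {N : ℕ} {F : Type*} [Field F] [Fintype F]
variable {H : Subgroup (Matrix.symplecticGroup (Fin (N + 2)) F)}

/-- **The criterion.**  A subgroup containing `y₂ = Zp N F N`, the root element `rootA 0`, a torus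
element scaling `f_0`, `f_1` by the inverse of a generator, an element `ρ` with `ρ e_0 = -f_0`
fixing `f_1`, and a nontrivial transvection along `f_1`, is the whole symplectic group. -/
theorem main_top (μ : Fˣ) (hμ : ∀ x : Fˣ, x ∈ Subgroup.zpowers μ)
    {σ ρ : Matrix.symplecticGroup (Fin (N + 2)) F} (hσ : σ ∈ H)
    (hσf0 : σ • fv N F 0 = (μ : F)⁻¹ • fv N F 0) (hσf1 : σ • fv N F 1 = (μ : F)⁻¹ • fv N F 1)
    (hρ : ρ ∈ H) (hρe : ρ • ev N F 0 = -fv N F 0) (hρf1 : ρ • fv N F 1 = fv N F 1)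
    (hy2 : Zp N F N ∈ H) (hr0 : rootA N F 0 ∈ H)
    {c₀ : F} (hc₀ : c₀ ≠ 0) (htv : tv (fv N F 1) c₀ ∈ H) : H = ⊤ := by
  have hμ0 : (μ : F) ≠ 0 := μ.ne_zero
  have hσi0 : σ⁻¹ • fv N F 0 = (μ : F) • fv N F 0 := by
    rw [inv_smul_eq_iff, smul_comm, hσf0, smul_smul, mul_inv_cancel₀ hμ0, one_smul]
  have hσi1 : σ⁻¹ • fv N F 1 = (μ : F) • fv N F 1 := by
    rw [inv_smul_eq_iff, smul_comm, hσf1, smul_smul, mul_inv_cancel₀ hμ0, one_smul]
  have hσi : σ⁻¹ ∈ H := H.inv_mem hσ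
  -- the root group of `f_1`
  have hXf1 : ∀ c, tv (fv N F 1) c ∈ H := by
    have hA : tvAdd H (fv N F 1) = ⊤ := by
      apply addSubgroup_eq_top_of_sq μ hμ _ _ c₀ htv hc₀
      intro c hc
      rw [mem_tvAdd] at hc ⊢
      have := tv_smul_mem H hσi hc
      rwa [hσi1, tv_smul_vec] at this
    intro c
    have : c ∈ tvAdd H (fv N F 1) := by rw [hA]; exact AddSubgroup.mem_top _
    exact this
  -- the Siegel elements `Tm d f_1`, `d` in the plane
  have o01 : Bf (ev N F 0) (fv N F 1) = 0 := Bf_ev_fv_lt (by omega) (by omega) (by omega)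
  have he0D : ev N F 0 ∈ DSub H (fv N F 1) hXf1 := by
    refine ⟨o01, ?_⟩
    have : Tm (ev N F 0) (fv N F 1) = (rootA N F 0)⁻¹ := by
      unfold rootA
      rw [Tm_neg_right o01, inv_inv]
    rw [this]
    exact H.inv_mem hr0
  have hf0D : -fv N F 0 ∈ DSub H (fv N F 1) hXf1 := by
    have := DSub_smul_mem hρ hρf1 he0D
    rwa [hρe] at this
  have hΛ : LamOf (F := F) (DSub H (fv N F 1) hXf1) (fv N F 0) = ⊤ := by
    apply addSubgroup_eq_top_of_sq μ hμ _ _ (-1) _ (neg_ne_zero.2 one_ne_zero)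
    · intro l hl
      rw [mem_LamOf] at hl ⊢
      have := DSub_scale_mem hσi hσi1 hl
      rw [smul_comm σ⁻¹ l, hσi0, smul_smul, smul_smul] at this
      have e : (μ : F) * l * (μ : F) = (μ : F) * (μ : F) * l := by ring
      rwa [e] at this
    · rw [mem_LamOf, neg_one_smul]
      exact hf0D
  have hfD : ∀ l : F, l • fv N F 0 ∈ DSub H (fv N F 1) hXf1 := by
    intro l
    have : l ∈ LamOf (F := F) (DSub H (fv N F 1) hXf1) (fv N F 0) := by
      rw [hΛ]; exact AddSubgroup.mem_top _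
    exact this
  have hρi : ρ⁻¹ • fv N F 0 = -ev N F 0 := by
    rw [inv_smul_eq_iff, smul_neg, hρe, neg_neg]
  have hρif1 : ρ⁻¹ • fv N F 1 = fv N F 1 := by rw [inv_smul_eq_iff, hρf1]
  have heD : ∀ l : F, l • ev N F 0 ∈ DSub H (fv N F 1) hXf1 := by
    intro l
    have := DSub_smul_mem (H.inv_mem hρ) hρif1 (hfD (-l))
    rwa [smul_comm, hρi, smul_neg, neg_smul, neg_neg] at this
  have hTe : ∀ c : F, Tm (c • ev N F 0) (fv N F 1) ∈ H := fun c => (heD c).2
  -- the root group of `e_0`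
  have hf1K : fv N F 1 ∈ KSub H := by
    refine ⟨Bf_fv_ev_lt (by omega) (by omega) (by omega), Bf_fv_fv _ _, 0, ?_⟩
    rw [tv_zero_right, mul_one]
    exact he0D.2
  obtain ⟨-, -, c₁, hg1⟩ := ev1_mem_KSub hy2 hf1K
  have hE : ev N F 0 ∈ Xset H := by
    intro c
    have hh : tv (fv N F 1) (-c) ∈ H := hXf1 _
    have o1 : Bf (ev N F 0) (ev N F 1) = 0 := Bf_ev_ev _ _
    have o2 : Bf (ev N F 0) (c • fv N F 1) = 0 := by rw [Bf_smul_right, o01, mul_zero]
    have e_h0 : tv (fv N F 1) (-c) • ev N F 0 = ev N F 0 := by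
      rw [tv_smul, o01, mul_zero, zero_smul, add_zero]
    have e_h1 : tv (fv N F 1) (-c) • ev N F 1 = ev N F 1 + c • fv N F 1 := by
      rw [tv_smul, Bf_ev_fv_self]
      congr 2
      ring
    have hg2 : Tm (ev N F 0) (ev N F 1 + c • fv N F 1) * tv (ev N F 0) c₁ ∈ H := by
      have e : Tm (ev N F 0) (ev N F 1 + c • fv N F 1) * tv (ev N F 0) c₁
          = tv (fv N F 1) (-c) * (Tm (ev N F 0) (ev N F 1) * tv (ev N F 0) c₁)
              * (tv (fv N F 1) (-c))⁻¹ := by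
        have e1 := conj_Tm (tv (fv N F 1) (-c)) (ev N F 0) (ev N F 1)
        have e2 := conj_tv (tv (fv N F 1) (-c)) (ev N F 0) c₁
        rw [e_h0, e_h1] at e1
        rw [e_h0] at e2
        calc Tm (ev N F 0) (ev N F 1 + c • fv N F 1) * tv (ev N F 0) c₁
            = (tv (fv N F 1) (-c) * Tm (ev N F 0) (ev N F 1) * (tv (fv N F 1) (-c))⁻¹)
                * (tv (fv N F 1) (-c) * tv (ev N F 0) c₁ * (tv (fv N F 1) (-c))⁻¹) := by
              rw [e1, e2]
          _ = tv (fv N F 1) (-c) * (Tm (ev N F 0) (ev N F 1) * tv (ev N F 0) c₁)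
              * (tv (fv N F 1) (-c))⁻¹ := by group
      rw [e]
      exact conj_mem H hh hg1
    have hT3 : Tm (ev N F 0) (c • fv N F 1) ∈ H := by
      rw [← Tm_smul_left o01]
      exact hTe c
    have key := Tm_add_right o1 o2
    rw [Bf_smul_left, Bf_fv_ev_self, mul_one] at key
    have hc3 := tv_commute_Tm_left o2 c₁
    have hprod : (Tm (ev N F 0) (ev N F 1) * tv (ev N F 0) c₁) * Tm (ev N F 0) (c • fv N F 1)
        = (Tm (ev N F 0) (ev N F 1 + c • fv N F 1) * tv (ev N F 0) c₁) * tv (ev N F 0) c := by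
      calc (Tm (ev N F 0) (ev N F 1) * tv (ev N F 0) c₁) * Tm (ev N F 0) (c • fv N F 1)
          = Tm (ev N F 0) (ev N F 1) * (tv (ev N F 0) c₁ * Tm (ev N F 0) (c • fv N F 1)) := by
            group
        _ = Tm (ev N F 0) (ev N F 1) * (Tm (ev N F 0) (c • fv N F 1) * tv (ev N F 0) c₁) := by
            rw [hc3]
        _ = (Tm (ev N F 0) (ev N F 1) * Tm (ev N F 0) (c • fv N F 1)) * tv (ev N F 0) c₁ := by
            group
        _ = (Tm (ev N F 0) (ev N F 1 + c • fv N F 1) * tv (ev N F 0) c) * tv (ev N F 0) c₁ := by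
            rw [key]
        _ = Tm (ev N F 0) (ev N F 1 + c • fv N F 1) * (tv (ev N F 0) c * tv (ev N F 0) c₁) := by
            group
        _ = Tm (ev N F 0) (ev N F 1 + c • fv N F 1) * (tv (ev N F 0) c₁ * tv (ev N F 0) c) := by
            rw [tv_mul_tv, tv_mul_tv, add_comm c c₁]
        _ = (Tm (ev N F 0) (ev N F 1 + c • fv N F 1) * tv (ev N F 0) c₁) * tv (ev N F 0) c := by
            group
    have hfin : tv (ev N F 0) c
        = (Tm (ev N F 0) (ev N F 1 + c • fv N F 1) * tv (ev N F 0) c₁)⁻¹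
          * ((Tm (ev N F 0) (ev N F 1) * tv (ev N F 0) c₁) * Tm (ev N F 0) (c • fv N F 1)) := by
      rw [hprod]
      group
    rw [hfin]
    exact H.mul_mem (H.inv_mem hg2) (H.mul_mem hg1 hT3)
  have hF : fv N F 0 ∈ Xset H := by
    have h3 := Xset_smul (Xset_smul_mem hρ hE) (-1)
    rw [hρe] at h3
    have e : (-1 : F) • -fv N F 0 = fv N F 0 := by module
    rwa [e] at h3
  have hu : uReg N F ∈ H := by
    rw [uReg_eq_mul]
    exact H.mul_mem hy2 hr0
  exact eq_top_of_W1 hE hF hu hr0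

end Cfsg.Agent.Helper28.SpTwo
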