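import Mathlib
import Cfsg.Agent.Lib.Helper28.SpTwoD

set_option autoImplicit false

/-!
# Two generators for the symplectic group: assembly
-/

namespace Cfsg.Agent.Helper28.SpTwo

open Matrix
open Cfsg.Agent.Helper2.Symp
open scoped Cfsg.Agent.Helper2.Symp
open Cfsg.Agent.Helper12.SpGen

variable {N : ℕ} {F : Type*} [Field F]

/-! ### the element `ρ₂ = tv e_0 1 * tv f_0 1` -/

/-- the element `x_{2e_0}(1) x_{-2e_0}(1)` of the long root `SL_2` -/
def rho2 (N : ℕ) (F : Type*) [Field F] : Matrix.symplecticGroup (Fin (N + 2)) F :=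
  tv (ev N F 0) 1 * tv (fv N F 0) 1

theorem rho2_smul (x : Fin (N + 2) ⊕ Fin (N + 2) → F) :
    rho2 N F • x = x + Bf x (fv N F 0) • fv N F 0
      + (Bf x (ev N F 0) + Bf x (fv N F 0)) • ev N F 0 := by
  unfold rho2
  simp only [mul_smul, tv_smul, Bf_add_left, Bf_smul_left, Bf_fv_ev_self]
  module

theorem rho2_smul_ev0 : rho2 N F • ev N F 0 = -fv N F 0 := by
  rw [rho2_smul, Bf_self, Bf_ev_fv_self]
  module

theorem rho2_smul_fv0 : rho2 N F • fv N F 0 = fv N F 0 + ev N F 0 := by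
  rw [rho2_smul, Bf_self, Bf_fv_ev_self]
  module

theorem rho2_smul_of_orth {x : Fin (N + 2) ⊕ Fin (N + 2) → F} (h1 : Bf x (ev N F 0) = 0)
    (h2 : Bf x (fv N F 0) = 0) : rho2 N F • x = x := by
  rw [rho2_smul, h1, h2]
  module

theorem rho2_smul_ev {k : ℕ} (hk : k < N + 2) (hk0 : k ≠ 0) : rho2 N F • ev N F k = ev N F k :=
  rho2_smul_of_orth (Bf_ev_ev _ _) (Bf_ev_fv_lt hk (by omega) hk0)

theorem rho2_smul_fv {k : ℕ} (hk : k < N + 2) (hk0 : k ≠ 0) : rho2 N F • fv N F k = fv N F k :=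
  rho2_smul_of_orth (Bf_fv_ev_lt hk (by omega) hk0) (Bf_fv_fv _ _)

/-- in characteristic two `ρ₂` has order three -/
theorem rho2_pow_three (h2 : (2 : F) = 0) : (rho2 N F) ^ 3 = 1 := by
  have e : (rho2 N F) ^ 3 = rho2 N F * rho2 N F * rho2 N F := by
    rw [pow_succ, pow_two]
  rw [e]
  apply eq_one_of_basis
  · intro k hk
    by_cases hk0 : k = 0
    · subst hk0
      rw [mul_smul, mul_smul, rho2_smul_ev0, smul_neg, rho2_smul_fv0, smul_neg, smul_add,
        rho2_smul_fv0, rho2_smul_ev0]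
      have := neg_eq_of_two h2 (ev N F 0)
      calc -(fv N F 0 + ev N F 0 + -fv N F 0) = -ev N F 0 := by abel
        _ = ev N F 0 := this
    · rw [mul_smul, mul_smul, rho2_smul_ev hk hk0, rho2_smul_ev hk hk0, rho2_smul_ev hk hk0]
  · intro k hk
    by_cases hk0 : k = 0
    · subst hk0
      rw [mul_smul, mul_smul, rho2_smul_fv0, smul_add, rho2_smul_fv0, rho2_smul_ev0, smul_add,
        smul_add, rho2_smul_fv0, rho2_smul_ev0, smul_neg, rho2_smul_fv0]
      have := neg_eq_of_two h2 (fv N F 0)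
      have h3 := neg_eq_of_two h2 (ev N F 0)
      calc fv N F 0 + ev N F 0 + -fv N F 0 + -(fv N F 0 + ev N F 0)
          = -fv N F 0 := by abel
        _ = fv N F 0 := this
    · rw [mul_smul, mul_smul, rho2_smul_fv hk hk0, rho2_smul_fv hk hk0, rho2_smul_fv hk hk0]

/-- `wEl` has order dividing four -/
theorem wEl_pow_four : (wEl N F) ^ 4 = 1 := by
  have e : (wEl N F) ^ 4 = iotaEl N F * iotaEl N F := by
    unfold iotaEl
    rw [pow_succ, pow_succ, pow_two]
    group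
  rw [e]
  apply eq_one_of_basis
  · intro k hk
    by_cases hk0 : k = 0
    · subst hk0
      rw [mul_smul, iotaEl_smul_ev0, smul_neg, iotaEl_smul_ev0, neg_neg]
    · rw [mul_smul, iotaEl_smul_ev hk hk0, iotaEl_smul_ev hk hk0]
  · intro k hk
    by_cases hk0 : k = 0
    · subst hk0
      rw [mul_smul, iotaEl_smul_fv0, smul_neg, iotaEl_smul_fv0, neg_neg]
    · rw [mul_smul, iotaEl_smul_fv hk hk0, iotaEl_smul_fv hk hk0]

theorem commute_Zp_tv_ev0 (c : F) : Commute (Zp N F N) (tv (ev N F 0) c) :=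
  commute_tv_of_smul_eq (Zp_smul_ev_low N (by omega) 0 (by omega)) c

theorem commute_Zp_tv_fv0 (c : F) : Commute (Zp N F N) (tv (fv N F 0) c) :=
  commute_tv_of_smul_eq (Zp_smul_fv_low N (by omega) 0 (by omega)) c

theorem commute_Zp_rho2 : Commute (Zp N F N) (rho2 N F) := by
  unfold rho2
  exact (commute_Zp_tv_ev0 1).mul_right (commute_Zp_tv_fv0 1)

theorem commute_Zp_wEl : Commute (Zp N F N) (wEl N F) := by
  unfold wEl
  exact ((commute_Zp_tv_ev0 1).mul_right (commute_Zp_tv_fv0 1)).mul_right (commute_Zp_tv_ev0 1)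

end Cfsg.Agent.Helper28.SpTwo
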