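import Mathlib
import Cfsg.Agent.Lib.Helper28.SpTwoE

set_option autoImplicit false

/-!
# Two generators for the symplectic group: the theorem
-/

namespace Cfsg.Agent.Helper28.SpTwo

open Matrix
open Cfsg.Agent.Helper2.Symp
open scoped Cfsg.Agent.Helper2.Symp
open Cfsg.Agent.Helper12.SpGen

variable {N : ℕ} {F : Type*} [Field F]

/-- the torus weights: `μ` on the first two coordinates -/
def sgm (μ : F) : ℕ → F := fun k => if k ≤ 1 then μ else 1

theorem sgm_ne (μ : Fˣ) : ∀ k, k < N + 2 → sgm (μ : F) k ≠ 0 := by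
  intro k _
  unfold sgm
  split_ifs
  · exact μ.ne_zero
  · exact one_ne_zero

/-- the torus element `σ` -/
def sigmaEl (N : ℕ) (μ : Fˣ) : Matrix.symplecticGroup (Fin (N + 2)) F :=
  diagS N (sgm (μ : F)) (sgm_ne μ)

theorem sigmaEl_smul_ev0 (μ : Fˣ) : sigmaEl N μ • ev N F 0 = (μ : F) • ev N F 0 := by
  unfold sigmaEl
  rw [diagS_smul_ev _ _ (by omega)]
  simp [sgm]

theorem sigmaEl_smul_fv0 (μ : Fˣ) : sigmaEl N μ • fv N F 0 = (μ : F)⁻¹ • fv N F 0 := by
  unfold sigmaEl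
  rw [diagS_smul_fv _ _ (by omega)]
  simp [sgm]

theorem sigmaEl_smul_fv1 (μ : Fˣ) : sigmaEl N μ • fv N F 1 = (μ : F)⁻¹ • fv N F 1 := by
  unfold sigmaEl
  rw [diagS_smul_fv _ _ (by omega)]
  simp [sgm]

theorem commute_rootA_sigma (μ : Fˣ) : Commute (rootA N F 0) (sigmaEl N μ) := by
  have hμ0 : (μ : F) ≠ 0 := μ.ne_zero
  have o : Bf (ev N F 0) ((μ : F)⁻¹ • -fv N F 1) = 0 := by
    rw [Bf_smul_right, Bf_neg_right, Bf_ev_fv_lt (by omega) (by omega) (by omega), neg_zero,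
      mul_zero]
  have h1 := conj_Tm (sigmaEl N μ) (ev N F 0) (-fv N F 1)
  rw [sigmaEl_smul_ev0, smul_neg, sigmaEl_smul_fv1, ← smul_neg, Tm_smul_left o, smul_smul,
    mul_inv_cancel₀ hμ0, one_smul] at h1
  have h2 : sigmaEl N μ * rootA N F 0 = rootA N F 0 * sigmaEl N μ := by
    unfold rootA
    calc sigmaEl N μ * Tm (ev N F 0) (-fv N F 1)
        = (sigmaEl N μ * Tm (ev N F 0) (-fv N F 1) * (sigmaEl N μ)⁻¹) * sigmaEl N μ := by group
      _ = Tm (ev N F 0) (-fv N F 1) * sigmaEl N μ := by rw [h1]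
  exact h2.symm

section fin

variable [Fintype F]

theorem coprime_char_card_sub_one (p : ℕ) [hp : Fact p.Prime] [CharP F p] :
    Nat.Coprime p (Fintype.card F - 1) := by
  rw [Nat.Prime.coprime_iff_not_dvd hp.out]
  intro h
  have h1 : p ∣ Fintype.card F := by
    rw [← CharP.cast_eq_zero_iff F p]
    exact Nat.cast_card_eq_zero F
  have h2 : 1 ≤ Fintype.card F := Fintype.card_pos
  have h3 : p ∣ Fintype.card F - (Fintype.card F - 1) := Nat.dvd_sub h1 h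
  have e : Fintype.card F - (Fintype.card F - 1) = 1 := by omega
  rw [e] at h3
  exact hp.out.one_lt.ne' (Nat.dvd_one.1 h3)

/-- the generic assembly -/
theorem two_gen_of (p : ℕ) [Fact p.Prime] [CharP F p] (μ : Fˣ)
    (hμ : ∀ x : Fˣ, x ∈ Subgroup.zpowers μ)
    (ρ : Matrix.symplecticGroup (Fin (N + 2)) F) (R : ℕ) (hR : ρ ^ R = 1)
    (hcop : Nat.Coprime (p ^ (2 * N + 4)) R) (hcomm : Commute (Zp N F N) ρ)
    (hρe : ρ • ev N F 0 = -fv N F 0) (hρf1 : ρ • fv N F 1 = fv N F 1)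
    (htv : ∀ H : Subgroup (Matrix.symplecticGroup (Fin (N + 2)) F), rootA N F 0 ∈ H → ρ ∈ H →
      ∃ c₀ : F, c₀ ≠ 0 ∧ tv (fv N F 1) c₀ ∈ H) :
    Subgroup.closure ({Zp N F N * ρ, rootA N F 0 * sigmaEl N μ} :
      Set (Matrix.symplecticGroup (Fin (N + 2)) F)) = ⊤ := by
  set H := Subgroup.closure ({Zp N F N * ρ, rootA N F 0 * sigmaEl N μ} :
      Set (Matrix.symplecticGroup (Fin (N + 2)) F)) with hH
  have ha : Zp N F N * ρ ∈ H := Subgroup.subset_closure (by simp)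
  have hb : rootA N F 0 * sigmaEl N μ ∈ H := Subgroup.subset_closure (by simp)
  obtain ⟨hy2, hρ⟩ := both_mem_of_mul_mem hcomm (Zp_pow_eq_one p) hR hcop ha
  have hr0p : (rootA N F 0) ^ p = 1 := by
    unfold rootA
    rw [Tm_pow (rootA_orth (by omega)), CharP.cast_eq_zero, zero_smul, Tm_zero_left]
  have hσq : (sigmaEl N μ) ^ (Fintype.card F - 1) = 1 := diagS_pow_card _ _
  obtain ⟨hr0, hσ⟩ := both_mem_of_mul_mem (commute_rootA_sigma μ) hr0p hσq
    (coprime_char_card_sub_one p) hb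
  obtain ⟨c₀, hc₀, htv'⟩ := htv H hr0 hρ
  exact main_top μ hμ hσ (sigmaEl_smul_fv0 μ) (sigmaEl_smul_fv1 μ) hρ hρe hρf1 hy2 hr0 hc₀ htv'

/-- characteristic two -/
theorem two_gen_even (h2 : (2 : F) = 0) :
    ∃ a b : Matrix.symplecticGroup (Fin (N + 2)) F,
      Subgroup.closure ({a, b} : Set (Matrix.symplecticGroup (Fin (N + 2)) F)) = ⊤ := by
  haveI : CharP F 2 := CharTwo.of_one_ne_zero_of_two_eq_zero one_ne_zero h2
  haveI : Fact (Nat.Prime 2) := ⟨Nat.prime_two⟩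
  obtain ⟨μ, hμ⟩ := IsCyclic.exists_generator (α := Fˣ)
  refine ⟨Zp N F N * rho2 N F, rootA N F 0 * sigmaEl N μ, ?_⟩
  apply two_gen_of 2 μ hμ (rho2 N F) 3 (rho2_pow_three h2)
    (Nat.Coprime.pow_left _ (by norm_num)) commute_Zp_rho2 rho2_smul_ev0
    (rho2_smul_fv (by omega) (by omega))
  intro H hr0 hρ
  refine ⟨-1, neg_ne_zero.2 one_ne_zero, ?_⟩
  have o01 : Bf (ev N F 0) (fv N F 1) = 0 := Bf_ev_fv_lt (by omega) (by omega) (by omega)
  have of1 : Bf (fv N F 0) (fv N F 1) = 0 := Bf_fv_fv _ _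
  have hT : Tm (ev N F 0) (fv N F 1) ∈ H := by
    have : Tm (ev N F 0) (fv N F 1) = (rootA N F 0)⁻¹ := by
      unfold rootA
      rw [Tm_neg_right o01, inv_inv]
    rw [this]
    exact H.inv_mem hr0
  have hT1 : Tm (-fv N F 0) (fv N F 1) ∈ H := by
    have := Tm_smul_mem H hρ hT
    rwa [rho2_smul_ev0, rho2_smul_fv (by omega) (by omega)] at this
  have hT2 : Tm (-(fv N F 0 + ev N F 0)) (fv N F 1) ∈ H := by
    have := Tm_smul_mem H hρ hT1
    rwa [smul_neg, rho2_smul_fv0, rho2_smul_fv (by omega) (by omega)] at this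
  have o1 : Bf (-fv N F 0) (fv N F 1) = 0 := by rw [Bf_neg_left, of1, neg_zero]
  have o2 : Bf (-ev N F 0) (fv N F 1) = 0 := by rw [Bf_neg_left, o01, neg_zero]
  have key := Tm_add_left o1 o2
  rw [Bf_neg_left, Bf_neg_right, neg_neg, Bf_ev_fv_self, ← neg_add, Tm_neg_left o01] at key
  have hfin : tv (fv N F 1) (-1)
      = (Tm (-(fv N F 0 + ev N F 0)) (fv N F 1))⁻¹
        * (Tm (-fv N F 0) (fv N F 1) * (Tm (ev N F 0) (fv N F 1))⁻¹) := by
    rw [key]
    group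
  rw [hfin]
  exact H.mul_mem (H.inv_mem hT2) (H.mul_mem hT1 (H.inv_mem hT))

/-- odd characteristic -/
theorem two_gen_odd (h2 : (2 : F) ≠ 0) :
    ∃ a b : Matrix.symplecticGroup (Fin (N + 2)) F,
      Subgroup.closure ({a, b} : Set (Matrix.symplecticGroup (Fin (N + 2)) F)) = ⊤ := by
  haveI := ringChar.charP F
  have hp : (ringChar F).Prime := CharP.char_is_prime F (ringChar F)
  haveI : Fact (ringChar F).Prime := ⟨hp⟩
  obtain ⟨μ, hμ⟩ := IsCyclic.exists_generator (α := Fˣ)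
  have hodd : Odd (ringChar F) := odd_ringChar h2
  have hcop : Nat.Coprime (ringChar F ^ (2 * N + 4)) 4 := by
    apply Nat.Coprime.pow_left
    have : Nat.Coprime (ringChar F) (2 ^ 2) :=
      Nat.Coprime.pow_right 2 (Nat.coprime_two_right.2 hodd)
    exact this
  refine ⟨Zp N F N * wEl N F, rootA N F 0 * sigmaEl N μ, ?_⟩
  apply two_gen_of (ringChar F) μ hμ (wEl N F) 4 wEl_pow_four hcop commute_Zp_wEl wEl_smul_ev0
    (wEl_smul_fv (by omega) (by omega))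
  intro H hr0 hρ
  refine ⟨1 + 1, ?_, ?_⟩
  · rw [one_add_one_eq_two]; exact h2
  have o01 : Bf (ev N F 0) (fv N F 1) = 0 := Bf_ev_fv_lt (by omega) (by omega) (by omega)
  have of1 : Bf (fv N F 0) (fv N F 1) = 0 := Bf_fv_fv _ _
  have hT : Tm (ev N F 0) (fv N F 1) ∈ H := by
    have : Tm (ev N F 0) (fv N F 1) = (rootA N F 0)⁻¹ := by
      unfold rootA
      rw [Tm_neg_right o01, inv_inv]
    rw [this]
    exact H.inv_mem hr0
  have hT1 : Tm (-fv N F 0) (fv N F 1) ∈ H := by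
    have := Tm_smul_mem H hρ hT
    rwa [wEl_smul_ev0, wEl_smul_fv (by omega) (by omega)] at this
  have o1 : Bf (-fv N F 0) (fv N F 1) = 0 := by rw [Bf_neg_left, of1, neg_zero]
  have k1 := Tm_add_left o01 o1
  have k2 := Tm_add_left o1 o01
  rw [Bf_neg_left, Bf_fv_ev_self] at k1
  rw [Bf_neg_right, Bf_ev_fv_self, neg_neg, add_comm (-fv N F 0) (ev N F 0)] at k2
  have hfin : tv (fv N F 1) (1 + 1)
      = (Tm (ev N F 0) (fv N F 1) * Tm (-fv N F 0) (fv N F 1))⁻¹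
        * (Tm (-fv N F 0) (fv N F 1) * Tm (ev N F 0) (fv N F 1)) := by
    rw [k1, k2, ← tv_mul_tv, _root_.mul_inv_rev, tv_inv, neg_neg]
    group
  rw [hfin]
  exact H.mul_mem (H.inv_mem (H.mul_mem hT hT1)) (H.mul_mem hT1 hT)

/-- **`Sp_{2n}(F)`, `n ≥ 2`, is generated by two elements.** -/
theorem two_gen (N : ℕ) (F : Type*) [Field F] [Fintype F] :
    ∃ a b : Matrix.symplecticGroup (Fin (N + 2)) F,
      Subgroup.closure ({a, b} : Set (Matrix.symplecticGroup (Fin (N + 2)) F)) = ⊤ := by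
  by_cases h2 : (2 : F) = 0
  · exact two_gen_even h2
  · exact two_gen_odd h2

end fin

end Cfsg.Agent.Helper28.SpTwo
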