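import Mathlib
import Cfsg.Agent.Lib.Helper11.D4TTab

/-!
# S2376 piece CON (helper28): explicit elements of the twisted torus of `³D₄`, and the comparison of the two
parametrizations of the characters of the torus.
-/

set_option autoImplicit false

namespace Cfsg.Agent.Helper11.D4T

namespace CON

/-- the exponent of `ω` in `chiC c v` for `c = (ω^(q+1), ω^(q²+q+1), ω^((q+1)q), ω^((q+1)q²))` -/
def E (q : ℤ) (v : ℕ) : ℤ :=
  (q + 1) * cartT 0 v + (q ^ 2 + q + 1) * cartT 1 v + ((q + 1) * q) * cartT 2 v +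
    ((q + 1) * q ^ 2) * cartT 3 v

/-- the multipliers: `E (w̃ v) - q E v = kTab v * (q⁴ + q³ - q - 1)` -/
def kTab : List ℤ :=
  [0, 1, -1, 1, -1, 0, 1, -1, 1, -1, 0, 2, -2, 0, 1, -1, 1, -1, 0, 1, -1, 1, -1, 0]

theorem E_wtil (q : ℤ) : ∀ v < 24,
    E q (wtil.getD v 0) = E q v * q + ((q ^ 3 - 1) * (q + 1)) * kTab.getD v 0 := by
  intro v hv
  interval_cases v <;> simp [E, cartT, wtil, kTab] <;> ring

theorem E_18 (q : ℤ) : E q 18 = q + 1 - q ^ 2 := by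
  simp [E, cartT]
  ring

theorem cast_Mq (q : ℕ) (hq : 2 ≤ q) : ((Mq q : ℕ) : ℤ) = ((q : ℤ) ^ 3 - 1) * ((q : ℤ) + 1) := by
  unfold Mq
  have h1 : 1 ≤ q ^ 3 := Nat.one_le_pow _ _ (by omega)
  push_cast [Nat.cast_sub h1]
  ring

variable {G : Type*} [CommGroup G]

theorem zpow_eq_of_dvd (ω : G) (M : ℕ) (hω : ω ^ M = 1) (A B k : ℤ) (h : A = B + (M : ℤ) * k) :
    ω ^ A = ω ^ B := by
  rw [h, zpow_add, zpow_mul, zpow_natCast, hω, one_zpow, mul_one]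

theorem chiC_pow (ω : G) (q : ℕ) (v : ℕ) :
    chiC (ω ^ (q + 1)) (ω ^ (q ^ 2 + q + 1)) (ω ^ ((q + 1) * q)) (ω ^ ((q + 1) * q ^ 2)) v =
      ω ^ E (q : ℤ) v := by
  unfold chiC E
  simp only [← zpow_natCast, ← zpow_mul, ← zpow_add]
  congr 1

/-- a monomial in the `chiC c f_j` is a monomial in the `c_i` -/
theorem chiS_chiC (c0 c1 c2 c3 : G) (f0 f1 f2 f3 v : ℕ) :
    chiS (chiC c0 c1 c2 c3 f0) (chiC c0 c1 c2 c3 f1) (chiC c0 c1 c2 c3 f2) (chiC c0 c1 c2 c3 f3) v =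
      c0 ^ (cartT 0 f0 * rcv v 0 + cartT 0 f1 * rcv v 1 + cartT 0 f2 * rcv v 2 + cartT 0 f3 * rcv v 3) *
        c1 ^ (cartT 1 f0 * rcv v 0 + cartT 1 f1 * rcv v 1 + cartT 1 f2 * rcv v 2 +
          cartT 1 f3 * rcv v 3) *
        c2 ^ (cartT 2 f0 * rcv v 0 + cartT 2 f1 * rcv v 1 + cartT 2 f2 * rcv v 2 +
          cartT 2 f3 * rcv v 3) *
        c3 ^ (cartT 3 f0 * rcv v 0 + cartT 3 f1 * rcv v 1 + cartT 3 f2 * rcv v 2 +
          cartT 3 f3 * rcv v 3) := by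
  unfold chiS chiC
  simp only [mul_zpow, ← zpow_mul, zpow_add]
  ac_rfl

theorem cart_lin : ∀ i < 4, ∀ v < 24,
    cartT i v = cartT i 18 * rcv v 0 + cartT i 14 * rcv v 1 + cartT i 13 * rcv v 2 +
      cartT i 12 * rcv v 3 := by
  decide

end CON

open CON in
/-- PIECE CON (1). -/
theorem cocon {G : Type*} [CommGroup G] (q : ℕ) (hq : 2 ≤ q) (ω : G) (hω : ω ^ Mq q = 1) :
    (∀ v < 24,
      chiC (ω ^ (q + 1)) (ω ^ (q ^ 2 + q + 1)) (ω ^ ((q + 1) * q)) (ω ^ ((q + 1) * q ^ 2)) (wtil.getD v 0) =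
        chiC (ω ^ (q + 1)) (ω ^ (q ^ 2 + q + 1)) (ω ^ ((q + 1) * q)) (ω ^ ((q + 1) * q ^ 2)) v ^ q) ∧
    chiC (ω ^ (q + 1)) (ω ^ (q ^ 2 + q + 1)) (ω ^ ((q + 1) * q)) (ω ^ ((q + 1) * q ^ 2)) 18 =
      ω ^ ((q : ℤ) + 1 - (q : ℤ) ^ 2) := by
  constructor
  · intro v hv
    rw [chiC_pow, chiC_pow, ← zpow_natCast, ← zpow_mul]
    apply zpow_eq_of_dvd ω (Mq q) hω _ _ (kTab.getD v 0)
    rw [cast_Mq q hq]
    exact E_wtil (q : ℤ) v hv
  · rw [chiC_pow, E_18]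

open CON in
/-- PIECE CON (2): the two parametrizations of the characters agree:
`chiC c v = chiS (chiC c 18) (chiC c 14) (chiC c 13) (chiC c 12) v` -/
theorem chiC_eq_chiS {G : Type*} [CommGroup G] (c0 c1 c2 c3 : G) (v : ℕ) (hv : v < 24) :
    chiC c0 c1 c2 c3 v =
      chiS (chiC c0 c1 c2 c3 18) (chiC c0 c1 c2 c3 14) (chiC c0 c1 c2 c3 13) (chiC c0 c1 c2 c3 12) v := by
  rw [chiS_chiC, ← cart_lin 0 (by norm_num) v hv, ← cart_lin 1 (by norm_num) v hv,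
    ← cart_lin 2 (by norm_num) v hv, ← cart_lin 3 (by norm_num) v hv]
  rfl

end Cfsg.Agent.Helper11.D4T
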