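import Mathlib
import Cfsg.Agent.Lib.Helper11.D4TDefs

/-!
# S2376 piece EVTOR (helper28): the characters of `torusHom chevD4 L c`
-/

set_option autoImplicit false

namespace Cfsg.Agent.Helper11.D4T

open Cfsg Cfsg.Lie Cfsg.Agent.Lead.Chev Cfsg.Agent.Lead.Tw

namespace EVTOR

theorem cartan_eq : ∀ i < 4, ∀ v < 24, chevD4.cartan i v = cartT i v := by
  decide

theorem rank_eq : chevD4.rank = 4 := by decide

theorem nroots_eq : chevD4.nroots = 24 := by decide

end EVTOR

section L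

variable {L : Type*} [Field L]

theorem torusHom_mem_diagonal (c : Fin chevD4.rank → Lˣ) :
    torusHom chevD4 L c ∈ chevD4.diagonalSubgroup L := by
  have h := torusHom_range chevD4 (d4F L).xadd (d4F L).hsimple (d4F L).hall
    (fun i hi => (d4F L).simple_lt i hi)
  rw [← h]
  exact ⟨c, rfl⟩

theorem ev_torusHom (c : Fin chevD4.rank → Lˣ) (v : ℕ) (hv : v < 24) :
    ev (torusHom chevD4 L c) v =
      ((chiC (c ⟨0, by decide⟩) (c ⟨1, by decide⟩) (c ⟨2, by decide⟩) (c ⟨3, by decide⟩) v : Lˣ) : L) := by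
  have hv' : v < chevD4.nroots := by rw [EVTOR.nroots_eq]; exact hv
  unfold ev
  rw [dif_pos hv', torusHom_val]
  unfold Tmat
  rw [Matrix.diagonal_apply_eq]
  simp only [Sum.elim_inr]
  rw [← chiU_val]
  congr 1
  unfold chiU chiC
  have h4 : ∀ (f : Fin chevD4.rank → Lˣ), ∏ i : Fin chevD4.rank, f i =
      f ⟨0, by decide⟩ * f ⟨1, by decide⟩ * f ⟨2, by decide⟩ * f ⟨3, by decide⟩ := by
    intro f
    exact Fin.prod_univ_four f
  rw [h4]
  simp only [EVTOR.cartan_eq 0 (by norm_num) v hv, EVTOR.cartan_eq 1 (by norm_num) v hv,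
    EVTOR.cartan_eq 2 (by norm_num) v hv, EVTOR.cartan_eq 3 (by norm_num) v hv]

end L

end Cfsg.Agent.Helper11.D4T
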