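import Mathlib
import Cfsg.Agent.Lib.Helper11.G2TTab

/-!
# S2371 (helper11's farm-out), PIECE ARITH (helper28)

A prime `r ≠ 2, 3` dividing `q² + q + 1`, and the valuation identities.
-/

set_option autoImplicit false

namespace Cfsg.Agent.Helper11.G2T

/-- `q² + q + 1` is odd -/
theorem g2tarith_odd (q : ℕ) : (q ^ 2 + q + 1) % 2 = 1 := by
  have h : (q ^ 2 + q + 1) % 2 = ((q % 2) ^ 2 + q % 2 + 1) % 2 := by
    simp [Nat.pow_mod, Nat.add_mod]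
  rw [h]
  have hk : q % 2 < 2 := Nat.mod_lt _ (by norm_num)
  interval_cases (q % 2) <;> rfl

/-- `9` does not divide `q² + q + 1` -/
theorem g2tarith_nine (q : ℕ) : ¬ 9 ∣ q ^ 2 + q + 1 := by
  intro hdvd
  have h0 : (q ^ 2 + q + 1) % 9 = 0 := Nat.mod_eq_zero_of_dvd hdvd
  have h : (q ^ 2 + q + 1) % 9 = ((q % 9) ^ 2 + q % 9 + 1) % 9 := by
    simp [Nat.pow_mod, Nat.add_mod]
  rw [h] at h0
  have hk : q % 9 < 9 := Nat.mod_lt _ (by norm_num)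
  interval_cases (q % 9) <;> simp at h0

theorem arith_exists (q : ℕ) (hq : 2 ≤ q) : ∃ r : ℕ, GoodPrime q r := by
  set m := q ^ 2 + q + 1 with hm
  have hm7 : 7 ≤ m := by
    have : 2 * 2 ≤ q * q := Nat.mul_le_mul hq hq
    rw [hm, pow_two]
    omega
  have hodd := g2tarith_odd q
  have hnine := g2tarith_nine q
  by_cases h3 : 3 ∣ m
  · obtain ⟨k, hk⟩ := h3
    have hk1 : k ≠ 1 := by
      rintro rfl
      omega
    obtain ⟨r, hr, hrk⟩ := Nat.exists_prime_and_dvd hk1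
    refine ⟨r, hr, ?_, ?_, ?_⟩
    · rw [← hm, hk]
      exact Dvd.dvd.mul_left hrk 3
    · rintro rfl
      obtain ⟨j, hj⟩ := hrk
      rw [← hm, hk, hj] at hodd
      omega
    · rintro rfl
      obtain ⟨j, hj⟩ := hrk
      apply hnine
      rw [← hm, hk, hj]
      exact ⟨j, by ring⟩
  · have hm1 : m ≠ 1 := by omega
    obtain ⟨r, hr, hrm⟩ := Nat.exists_prime_and_dvd hm1
    refine ⟨r, hr, hrm, ?_, ?_⟩
    · rintro rfl
      obtain ⟨j, hj⟩ := hrm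
      rw [← hm, hj] at hodd
      omega
    · rintro rfl
      exact h3 hrm

theorem arith_coprime (q r : ℕ) (h : GoodPrime q r) :
    ¬ (r : ℤ) ∣ q ∧ ¬ (r : ℤ) ∣ (q : ℤ) - 1 ∧ ¬ (r : ℤ) ∣ (q : ℤ) + 1 ∧ ¬ (r : ℤ) ∣ (q : ℤ) ^ 2 - q + 1 := by
  have hm : (r : ℤ) ∣ (q : ℤ) ^ 2 + q + 1 := by
    have := Int.natCast_dvd_natCast.2 h.dvd
    push_cast at this
    exact this
  have h1 : ¬ (r : ℤ) ∣ 1 := by
    intro hd
    have : r ∣ 1 := by exact_mod_cast hd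
    exact h.prime.one_lt.ne' (Nat.dvd_one.1 this)
  have hq : ¬ (r : ℤ) ∣ q := by
    intro hd
    apply h1
    have h2 : (r : ℤ) ∣ (q : ℤ) * ((q : ℤ) + 1) := Dvd.dvd.mul_right hd _
    have h3 := dvd_sub hm h2
    have e : (q : ℤ) ^ 2 + q + 1 - (q : ℤ) * ((q : ℤ) + 1) = 1 := by ring
    rwa [e] at h3
  refine ⟨hq, ?_, ?_, ?_⟩
  · intro hd
    have h2 : (r : ℤ) ∣ ((q : ℤ) - 1) * ((q : ℤ) + 2) := Dvd.dvd.mul_right hd _
    have h3 := dvd_sub hm h2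
    have e : (q : ℤ) ^ 2 + q + 1 - ((q : ℤ) - 1) * ((q : ℤ) + 2) = 3 := by ring
    rw [e] at h3
    have h4 : r ∣ 3 := by exact_mod_cast h3
    rcases (Nat.dvd_prime Nat.prime_three).1 h4 with h5 | h5
    · exact h.prime.one_lt.ne' h5
    · exact h.ne3 h5
  · intro hd
    apply h1
    have h2 : (r : ℤ) ∣ ((q : ℤ) + 1) * (q : ℤ) := Dvd.dvd.mul_right hd _
    have h3 := dvd_sub hm h2
    have e : (q : ℤ) ^ 2 + q + 1 - ((q : ℤ) + 1) * (q : ℤ) = 1 := by ring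
    rwa [e] at h3
  · intro hd
    have h3 := dvd_sub hm hd
    have e : (q : ℤ) ^ 2 + q + 1 - ((q : ℤ) ^ 2 - q + 1) = ((2 * q : ℕ) : ℤ) := by
      push_cast
      ring
    rw [e] at h3
    have h4 : r ∣ 2 * q := by exact_mod_cast h3
    rcases (Nat.Prime.dvd_mul h.prime).1 h4 with h5 | h5
    · rcases (Nat.dvd_prime Nat.prime_two).1 h5 with h6 | h6
      · exact h.prime.one_lt.ne' h6
      · exact h.ne2 h6
    · exact hq (by exact_mod_cast h5)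

/-- `q ≠ 0` for a good prime -/
theorem g2tarith_pos (q r : ℕ) (h : GoodPrime q r) : 1 ≤ q := by
  rcases Nat.eq_zero_or_pos q with rfl | hq
  · exfalso
    have := h.dvd
    norm_num at this
    exact h.prime.one_lt.ne' this
  · exact hq

/-- `r` divides `q³ - 1` -/
theorem g2tarith_dvd_cube (q r : ℕ) (h : GoodPrime q r) : r ∣ q ^ 3 - 1 := by
  obtain ⟨s, rfl⟩ : ∃ s, q = s + 1 := ⟨q - 1, by have := g2tarith_pos q r h; omega⟩
  have e : (s + 1) ^ 3 - 1 = s * ((s + 1) ^ 2 + (s + 1) + 1) := by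
    have : (s + 1) ^ 3 = s * ((s + 1) ^ 2 + (s + 1) + 1) + 1 := by ring
    rw [this, Nat.add_sub_cancel]
  rw [e]
  exact Dvd.dvd.mul_left h.dvd s

theorem arith_dvd (q r : ℕ) (h : GoodPrime q r) : r ∣ q ^ 6 * (q ^ 2 - 1) * (q ^ 6 - 1) := by
  apply Dvd.dvd.mul_left
  have h1 := g2tarith_dvd_cube q r h
  have h2 : q ^ 3 - 1 ∣ (q ^ 3) ^ 2 - 1 ^ 2 := Nat.sub_dvd_pow_sub_pow (q ^ 3) 1 2
  have e : (q ^ 3) ^ 2 - 1 ^ 2 = q ^ 6 - 1 := by
    rw [← pow_mul, one_pow]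
  rw [e] at h2
  exact h1.trans h2

theorem arith_fact (q r : ℕ) (hq : 2 ≤ q) (h : GoodPrime q r) :
    ((q ^ 3) ^ 6 * ((q ^ 3) ^ 2 - 1) * ((q ^ 3) ^ 6 - 1)).factorization r =
      ((q ^ 3 - 1) ^ 2).factorization r := by
  have hrP := g2tarith_dvd_cube q r h
  have hQ1 : 1 ≤ q ^ 3 := Nat.one_le_pow _ _ (by omega)
  obtain ⟨P, hP⟩ : ∃ P, q ^ 3 = P + 1 := ⟨q ^ 3 - 1, by omega⟩
  have hP0 : P ≠ 0 := by
    rintro rfl
    have : 2 ^ 3 ≤ q ^ 3 := Nat.pow_le_pow_left hq 3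
    omega
  rw [hP] at hrP ⊢
  rw [Nat.add_sub_cancel] at hrP ⊢
  set B : ℕ := (P + 1) ^ 6 * (P + 2) * ((P + 2) * ((P + 1) ^ 2 + (P + 1) + 1) * (P ^ 2 + P + 1)) with hB
  have e1 : (P + 1) ^ 2 - 1 = P * (P + 2) := by
    have : (P + 1) ^ 2 = P * (P + 2) + 1 := by ring
    rw [this, Nat.add_sub_cancel]
  have e2 : (P + 1) ^ 6 - 1 = P * ((P + 2) * ((P + 1) ^ 2 + (P + 1) + 1) * (P ^ 2 + P + 1)) := by
    have : (P + 1) ^ 6 = P * ((P + 2) * ((P + 1) ^ 2 + (P + 1) + 1) * (P ^ 2 + P + 1)) + 1 := by ring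
    rw [this, Nat.add_sub_cancel]
  have e3 : (P + 1) ^ 6 * ((P + 1) ^ 2 - 1) * ((P + 1) ^ 6 - 1) = P ^ 2 * B := by
    rw [e1, e2, hB]
    ring
  rw [e3]
  have hr := h.prime
  -- `r` does not divide `B`
  have h1 : ¬ r ∣ 1 := fun hd => hr.one_lt.ne' (Nat.dvd_one.1 hd)
  have hn1 : ¬ r ∣ P + 1 := fun hd => h1 ((Nat.dvd_add_right hrP).1 hd)
  have hn2 : ¬ r ∣ P + 2 := by
    intro hd
    have h2 : r ∣ 2 := (Nat.dvd_add_right hrP).1 hd
    rcases (Nat.dvd_prime Nat.prime_two).1 h2 with h6 | h6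
    · exact hr.one_lt.ne' h6
    · exact h.ne2 h6
  have hn3 : ¬ r ∣ (P + 1) ^ 2 + (P + 1) + 1 := by
    intro hd
    have e : (P + 1) ^ 2 + (P + 1) + 1 = P * (P + 3) + 3 := by ring
    rw [e] at hd
    have h2 : r ∣ 3 := (Nat.dvd_add_right (Dvd.dvd.mul_right hrP _)).1 hd
    rcases (Nat.dvd_prime Nat.prime_three).1 h2 with h6 | h6
    · exact hr.one_lt.ne' h6
    · exact h.ne3 h6
  have hn4 : ¬ r ∣ P ^ 2 + P + 1 := by
    intro hd
    have e : P ^ 2 + P + 1 = P * (P + 1) + 1 := by ring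
    rw [e] at hd
    exact h1 ((Nat.dvd_add_right (Dvd.dvd.mul_right hrP _)).1 hd)
  have hnB : ¬ r ∣ B := by
    rw [hB]
    intro hd
    rcases (Nat.Prime.dvd_mul hr).1 hd with hd | hd
    · rcases (Nat.Prime.dvd_mul hr).1 hd with hd | hd
      · exact hn1 (hr.dvd_of_dvd_pow hd)
      · exact hn2 hd
    · rcases (Nat.Prime.dvd_mul hr).1 hd with hd | hd
      · rcases (Nat.Prime.dvd_mul hr).1 hd with hd | hd
        · exact hn2 hd
        · exact hn3 hd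
      · exact hn4 hd
  have hB0 : B ≠ 0 := fun h0 => hnB (h0 ▸ dvd_zero r)
  rw [Nat.factorization_mul (pow_ne_zero 2 hP0) hB0, Finsupp.add_apply,
    Nat.factorization_eq_zero_of_not_dvd hnB, add_zero]

end Cfsg.Agent.Helper11.G2T
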