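import Mathlib

/-!
# Isometry groups of bilinear forms as subgroups of `V ≃ₗ V` (helper28)
-/

set_option autoImplicit false

namespace Cfsg.Agent.Helper28.IsoGrp

variable {F : Type*} [Field F] {V V' : Type*} [AddCommGroup V] [Module F V]
  [AddCommGroup V'] [Module F V']

/-- the isometry group of a bilinear form -/
def isoGrp (B : LinearMap.BilinForm F V) : Subgroup (V ≃ₗ[F] V) where
  carrier := {g | ∀ x y, B (g x) (g y) = B x y}
  mul_mem' {a b} ha hb := by
    intro x y
    rw [LinearEquiv.mul_apply, LinearEquiv.mul_apply, ha, hb]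
  one_mem' := by
    intro x y
    rfl
  inv_mem' {a} ha := by
    intro x y
    have h := ha (a⁻¹ x) (a⁻¹ y)
    have e : ∀ z, a (a⁻¹ z) = z := fun z => by
      rw [← LinearEquiv.mul_apply, mul_inv_cancel]; rfl
    rw [e, e] at h
    exact h.symm

theorem mem_isoGrp {B : LinearMap.BilinForm F V} {g : V ≃ₗ[F] V} :
    g ∈ isoGrp B ↔ ∀ x y, B (g x) (g y) = B x y := Iff.rfl

/-- conjugation by a linear equivalence -/
def conjEquiv (e : V ≃ₗ[F] V') : (V ≃ₗ[F] V) ≃* (V' ≃ₗ[F] V') where
  toFun g := (e.symm.trans g).trans e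
  invFun g := (e.trans g).trans e.symm
  left_inv g := by
    ext x
    simp
  right_inv g := by
    ext x
    simp
  map_mul' a b := by
    ext x
    simp [LinearEquiv.mul_apply]

theorem conjEquiv_apply (e : V ≃ₗ[F] V') (g : V ≃ₗ[F] V) (x : V') :
    conjEquiv e g x = e (g (e.symm x)) := rfl

theorem conjEquiv_symm_apply (e : V ≃ₗ[F] V') (g : V' ≃ₗ[F] V') (x : V) :
    (conjEquiv e).symm g x = e.symm (g (e x)) := rfl

/-- isometric spaces have isomorphic isometry groups -/
def isoGrpCongr {B : LinearMap.BilinForm F V} {B' : LinearMap.BilinForm F V'} (e : V ≃ₗ[F] V')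
    (he : ∀ x y, B' (e x) (e y) = B x y) : isoGrp B ≃* isoGrp B' :=
  (conjEquiv e).subgroupMap (isoGrp B) |>.trans (MulEquiv.subgroupCongr (by
    ext g
    rw [Subgroup.mem_map]
    constructor
    · rintro ⟨g0, hg0, rfl⟩
      intro x y
      show B' (conjEquiv e g0 x) (conjEquiv e g0 y) = B' x y
      rw [conjEquiv_apply, conjEquiv_apply, he, hg0, ← he, e.apply_symm_apply,
        e.apply_symm_apply]
    · intro hg
      refine ⟨(conjEquiv e).symm g, ?_, (conjEquiv e).apply_symm_apply g⟩
      intro x y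
      rw [conjEquiv_symm_apply, conjEquiv_symm_apply, ← he, e.apply_symm_apply,
        e.apply_symm_apply, hg, he]))

section glue

variable {W W' : Submodule F V} (hc : IsCompl W W')

/-- glue two linear equivalences of complementary subspaces -/
noncomputable def glueEquiv (g₁ : W ≃ₗ[F] W) (g₂ : W' ≃ₗ[F] W') : V ≃ₗ[F] V :=
  (Submodule.prodEquivOfIsCompl W W' hc).symm.trans
    ((g₁.prodCongr g₂).trans (Submodule.prodEquivOfIsCompl W W' hc))

theorem glueEquiv_add (g₁ : W ≃ₗ[F] W) (g₂ : W' ≃ₗ[F] W') (w : W) (w' : W') :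
    glueEquiv hc g₁ g₂ ((w : V) + (w' : V)) = (g₁ w : V) + (g₂ w' : V) := by
  have h1 : ((w : V) + (w' : V)) = Submodule.prodEquivOfIsCompl W W' hc (w, w') := by
    rw [Submodule.coe_prodEquivOfIsCompl']
  rw [h1, glueEquiv, LinearEquiv.trans_apply, LinearEquiv.symm_apply_apply,
    LinearEquiv.trans_apply, Submodule.coe_prodEquivOfIsCompl']
  rfl

include hc in
theorem exists_decomp (v : V) : ∃ (w : W) (w' : W'), v = (w : V) + (w' : V) := by
  refine ⟨((Submodule.prodEquivOfIsCompl W W' hc).symm v).1,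
    ((Submodule.prodEquivOfIsCompl W W' hc).symm v).2, ?_⟩
  have := (Submodule.prodEquivOfIsCompl W W' hc).apply_symm_apply v
  rw [Submodule.coe_prodEquivOfIsCompl'] at this
  exact this.symm

theorem glueEquiv_left (g₁ : W ≃ₗ[F] W) (g₂ : W' ≃ₗ[F] W') (w : W) :
    glueEquiv hc g₁ g₂ (w : V) = (g₁ w : V) := by
  have := glueEquiv_add hc g₁ g₂ w 0
  simpa using this

theorem glueEquiv_right (g₁ : W ≃ₗ[F] W) (g₂ : W' ≃ₗ[F] W') (w' : W') :
    glueEquiv hc g₁ g₂ (w' : V) = (g₂ w' : V) := by
  have := glueEquiv_add hc g₁ g₂ 0 w'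
  simpa using this

variable (B : LinearMap.BilinForm F V)

/-- the stabiliser of a subspace in the isometry group -/
def stabL (W : Submodule F V) : Subgroup (isoGrp B) where
  carrier := {g | ∀ v, v ∈ W ↔ (g : V ≃ₗ[F] V) v ∈ W}
  mul_mem' {a b} ha hb := by
    intro v
    show v ∈ W ↔ (a : V ≃ₗ[F] V) ((b : V ≃ₗ[F] V) v) ∈ W
    exact (hb v).trans (ha _)
  one_mem' := by
    intro v
    rfl
  inv_mem' {a} ha := by
    intro v
    have h := ha (((a⁻¹ : isoGrp B) : V ≃ₗ[F] V) v)
    have e : (a : V ≃ₗ[F] V) (((a⁻¹ : isoGrp B) : V ≃ₗ[F] V) v) = v := by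
      have : ((a * a⁻¹ : isoGrp B) : V ≃ₗ[F] V) v = v := by rw [mul_inv_cancel]; rfl
      exact this
    rw [e] at h
    exact h.symm

theorem mem_stabL {W : Submodule F V} {g : isoGrp B} :
    g ∈ stabL B W ↔ ∀ v, v ∈ W ↔ (g : V ≃ₗ[F] V) v ∈ W := Iff.rfl

variable {B}

/-- gluing isometries of orthogonal complementary subspaces -/
noncomputable def glueHom (horth : ∀ w ∈ W, ∀ w' ∈ W', B w w' = 0)
    (horth' : ∀ w ∈ W, ∀ w' ∈ W', B w' w = 0) :
    isoGrp (B.restrict W) × isoGrp (B.restrict W') →* isoGrp B where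
  toFun g := ⟨glueEquiv hc g.1.1 g.2.1, by
    intro x y
    obtain ⟨w, w', rfl⟩ := exists_decomp hc x
    obtain ⟨z, z', rfl⟩ := exists_decomp hc y
    rw [glueEquiv_add, glueEquiv_add]
    simp only [map_add, LinearMap.add_apply]
    rw [horth _ (g.1.1 w).2 _ (g.2.1 z').2, horth' _ (g.1.1 z).2 _ (g.2.1 w').2,
      horth _ w.2 _ z'.2, horth' _ z.2 _ w'.2]
    have h1 := g.1.2 w z
    have h2 := g.2.2 w' z'
    simp only [LinearMap.BilinForm.restrict_apply, LinearMap.domRestrict_apply] at h1 h2
    rw [h1, h2]⟩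
  map_one' := by
    apply Subtype.ext
    apply LinearEquiv.ext
    intro x
    obtain ⟨w, w', rfl⟩ := exists_decomp hc x
    show glueEquiv hc _ _ _ = _
    rw [glueEquiv_add]
    rfl
  map_mul' a b := by
    apply Subtype.ext
    apply LinearEquiv.ext
    intro x
    obtain ⟨w, w', rfl⟩ := exists_decomp hc x
    show glueEquiv hc _ _ _ = glueEquiv hc _ _ (glueEquiv hc _ _ _)
    rw [glueEquiv_add, glueEquiv_add, glueEquiv_add]
    rfl

theorem glueHom_apply_add (horth : ∀ w ∈ W, ∀ w' ∈ W', B w w' = 0)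
    (horth' : ∀ w ∈ W, ∀ w' ∈ W', B w' w = 0)
    (g : isoGrp (B.restrict W) × isoGrp (B.restrict W')) (w : W) (w' : W') :
    ((glueHom hc horth horth' g : isoGrp B) : V ≃ₗ[F] V) ((w : V) + (w' : V))
      = (g.1.1 w : V) + (g.2.1 w' : V) :=
  glueEquiv_add hc _ _ w w'

theorem glueHom_injective (horth : ∀ w ∈ W, ∀ w' ∈ W', B w w' = 0)
    (horth' : ∀ w ∈ W, ∀ w' ∈ W', B w' w = 0) :
    Function.Injective (glueHom hc horth horth') := by
  intro a b hab
  have h : ∀ v, ((glueHom hc horth horth' a : isoGrp B) : V ≃ₗ[F] V) v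
      = ((glueHom hc horth horth' b : isoGrp B) : V ≃ₗ[F] V) v := by
    intro v; rw [hab]
  apply Prod.ext
  · apply Subtype.ext
    apply LinearEquiv.ext
    intro w
    have h1 := h (w : V)
    have e1 := glueEquiv_left hc a.1.1 a.2.1 w
    have e2 := glueEquiv_left hc b.1.1 b.2.1 w
    apply Subtype.ext
    rw [← e1, ← e2]
    exact h1
  · apply Subtype.ext
    apply LinearEquiv.ext
    intro w
    have h1 := h (w : V)
    have e1 := glueEquiv_right hc a.1.1 a.2.1 w
    have e2 := glueEquiv_right hc b.1.1 b.2.1 w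
    apply Subtype.ext
    rw [← e1, ← e2]
    exact h1

end glue

section orth

variable {B : LinearMap.BilinForm F V} (hrefl : B.IsRefl) {W : Submodule F V}
  (hc : IsCompl W (B.orthogonal W))

theorem orth_left : ∀ w ∈ W, ∀ w' ∈ B.orthogonal W, B w w' = 0 :=
  fun w hw w' hw' => hw' w hw

include hrefl in
theorem orth_right : ∀ w ∈ W, ∀ w' ∈ B.orthogonal W, B w' w = 0 :=
  fun w hw w' hw' => hrefl _ _ (hw' w hw)

/-- gluing isometries of `W` and of its orthogonal complement -/
noncomputable def glueOrth :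
    isoGrp (B.restrict W) × isoGrp (B.restrict (B.orthogonal W)) →* isoGrp B :=
  glueHom hc orth_left (orth_right hrefl)

theorem glueOrth_injective : Function.Injective (glueOrth hrefl hc) :=
  glueHom_injective hc _ _

theorem range_glueOrth : (glueOrth hrefl hc).range = stabL B W := by
  have hdis : ∀ x ∈ W, x ∈ B.orthogonal W → x = 0 := Submodule.disjoint_def.1 hc.disjoint
  ext g
  rw [MonoidHom.mem_range, mem_stabL]
  constructor
  · rintro ⟨g0, rfl⟩ v
    obtain ⟨w, w', rfl⟩ := exists_decomp hc v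
    have hg : ((glueOrth hrefl hc g0 : isoGrp B) : V ≃ₗ[F] V) ((w : V) + (w' : V))
        = (g0.1.1 w : V) + (g0.2.1 w' : V) := glueHom_apply_add hc _ _ g0 w w'
    rw [hg]
    constructor
    · intro hv
      have h1 : (w' : V) ∈ W := by
        have := W.sub_mem hv w.2
        rwa [add_sub_cancel_left] at this
      have h2 : w' = 0 := Subtype.ext (hdis _ h1 w'.2)
      rw [h2, map_zero, Submodule.coe_zero, add_zero]
      exact (g0.1.1 w).2
    · intro hv
      have h1 : (g0.2.1 w' : V) ∈ W := by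
        have := W.sub_mem hv (g0.1.1 w).2
        rwa [add_sub_cancel_left] at this
      have h2 : g0.2.1 w' = 0 := Subtype.ext (hdis _ h1 (g0.2.1 w').2)
      have h3 : w' = 0 := by
        have := congrArg g0.2.1.symm h2
        rwa [LinearEquiv.symm_apply_apply, map_zero] at this
      rw [h3, Submodule.coe_zero, add_zero]
      exact w.2
  · intro hg
    have hsymm : ∀ x ∈ W, (g : V ≃ₗ[F] V).symm x ∈ W := by
      intro x hx
      rw [hg, LinearEquiv.apply_symm_apply]
      exact hx
    have h1 : W.map ((g : V ≃ₗ[F] V) : V →ₗ[F] V) = W := by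
      ext x
      rw [Submodule.mem_map]
      constructor
      · rintro ⟨y, hy, rfl⟩
        exact (hg y).1 hy
      · intro hx
        exact ⟨(g : V ≃ₗ[F] V).symm x, hsymm x hx, LinearEquiv.apply_symm_apply _ x⟩
    have h2 : (B.orthogonal W).map ((g : V ≃ₗ[F] V) : V →ₗ[F] V) = B.orthogonal W := by
      ext x
      rw [Submodule.mem_map]
      constructor
      · rintro ⟨y, hy, rfl⟩
        intro n hn
        show B n ((g : V ≃ₗ[F] V) y) = 0
        have h3 := g.2 ((g : V ≃ₗ[F] V).symm n) y
        rw [LinearEquiv.apply_symm_apply] at h3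
        rw [h3]
        exact hy _ (hsymm n hn)
      · intro hx
        refine ⟨(g : V ≃ₗ[F] V).symm x, ?_, LinearEquiv.apply_symm_apply _ x⟩
        intro n hn
        show B n ((g : V ≃ₗ[F] V).symm x) = 0
        have h3 := g.2 n ((g : V ≃ₗ[F] V).symm x)
        rw [LinearEquiv.apply_symm_apply] at h3
        rw [← h3]
        exact hx _ ((hg n).1 hn)
    refine ⟨(⟨LinearEquiv.ofSubmodules (g : V ≃ₗ[F] V) W W h1, ?_⟩,
      ⟨LinearEquiv.ofSubmodules (g : V ≃ₗ[F] V) _ _ h2, ?_⟩), ?_⟩
    · intro x y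
      simp only [LinearMap.BilinForm.restrict_apply, LinearMap.domRestrict_apply,
        LinearEquiv.ofSubmodules_apply]
      exact g.2 x y
    · intro x y
      simp only [LinearMap.BilinForm.restrict_apply, LinearMap.domRestrict_apply,
        LinearEquiv.ofSubmodules_apply]
      exact g.2 x y
    · apply Subtype.ext
      apply LinearEquiv.ext
      intro v
      obtain ⟨w, w', rfl⟩ := exists_decomp hc v
      have hg' := glueHom_apply_add hc orth_left (orth_right hrefl)
        ((⟨LinearEquiv.ofSubmodules (g : V ≃ₗ[F] V) W W h1, by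
          intro x y
          simp only [LinearMap.BilinForm.restrict_apply, LinearMap.domRestrict_apply,
            LinearEquiv.ofSubmodules_apply]
          exact g.2 x y⟩,
        ⟨LinearEquiv.ofSubmodules (g : V ≃ₗ[F] V) _ _ h2, by
          intro x y
          simp only [LinearMap.BilinForm.restrict_apply, LinearMap.domRestrict_apply,
            LinearEquiv.ofSubmodules_apply]
          exact g.2 x y⟩) : isoGrp (B.restrict W) × isoGrp (B.restrict (B.orthogonal W))) w w'
      refine hg'.trans ?_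
      simp only [LinearEquiv.ofSubmodules_apply, map_add]

/-- the stabiliser of a non-degenerate subspace is the product of two isometry groups -/
noncomputable def stabLEquiv :
    stabL B W ≃* isoGrp (B.restrict W) × isoGrp (B.restrict (B.orthogonal W)) :=
  ((MonoidHom.ofInjective (glueOrth_injective hrefl hc)).trans
    (MulEquiv.subgroupCongr (range_glueOrth hrefl hc))).symm

end orth

end Cfsg.Agent.Helper28.IsoGrp
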