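import Mathlib
import Cfsg.Agent.Lib.Helper28.IsoGrp
import Cfsg.Agent.S0749

/-!
# Isotropic frames of a non-degenerate alternating form (helper28)
-/

set_option autoImplicit false

namespace Cfsg.Agent.Helper28.IsoFrames
open Cfsg.Agent.Helper28.IsoGrp

variable {F V : Type*} [Field F] [AddCommGroup V] [Module F V] (B : LinearMap.BilinForm F V)

/-- isotropic frames: linearly independent families of mutually orthogonal vectors -/
def IsFrame (k : ℕ) (x : Fin k → V) : Prop :=
  LinearIndependent F x ∧ ∀ i j, B (x i) (x j) = 0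

variable {B}

theorem isFrame_cons (hA : B.IsAlt) {k : ℕ} {s : Fin k → V} (hs : IsFrame B k s) {v : V}
    (hv : (∀ i, B (s i) v = 0) ∧ v ∉ Submodule.span F (Set.range s)) :
    IsFrame B (k + 1) (Fin.cons v s) := by
  refine ⟨linearIndependent_finCons.mpr ⟨hs.1, hv.2⟩, ?_⟩
  intro i j
  induction i using Fin.cases with
  | zero =>
    induction j using Fin.cases with
    | zero => simp only [Fin.cons_zero]; exact hA v
    | succ j =>
      simp only [Fin.cons_zero, Fin.cons_succ]
      rw [← LinearMap.IsAlt.neg hA, hv.1 j, neg_zero]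
  | succ i =>
    induction j using Fin.cases with
    | zero => simp only [Fin.cons_zero, Fin.cons_succ]; exact hv.1 i
    | succ j => simp only [Fin.cons_succ]; exact hs.2 i j

theorem isFrame_tail {k : ℕ} {x : Fin (k + 1) → V} (hx : IsFrame B (k + 1) x) :
    IsFrame B k (Fin.tail x) :=
  ⟨(linearIndependent_finSucc.mp hx.1).1, fun i j => hx.2 i.succ j.succ⟩

theorem isFrame_head {k : ℕ} {x : Fin (k + 1) → V} (hx : IsFrame B (k + 1) x) :
    (∀ i, B (Fin.tail x i) (x 0) = 0) ∧ x 0 ∉ Submodule.span F (Set.range (Fin.tail x)) :=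
  ⟨fun i => hx.2 i.succ 0, (linearIndependent_finSucc.mp hx.1).2⟩

/-- frames of length `k+1` are frames of length `k` together with one more vector -/
def frameEquiv (hA : B.IsAlt) (k : ℕ) :
    {x : Fin (k + 1) → V // IsFrame B (k + 1) x} ≃
      Σ s : {s : Fin k → V // IsFrame B k s},
        {v : V // (∀ i, B (s.1 i) v = 0) ∧ v ∉ Submodule.span F (Set.range s.1)} where
  toFun x := ⟨⟨Fin.tail x.1, isFrame_tail x.2⟩, ⟨x.1 0, isFrame_head x.2⟩⟩
  invFun s := ⟨Fin.cons s.2.1 s.1.1, isFrame_cons hA s.1.2 s.2.2⟩
  left_inv _ := by simp only [Fin.cons_self_tail, Subtype.coe_eta]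
  right_inv := fun ⟨⟨s, hs⟩, ⟨v, hv⟩⟩ => rfl

section count

variable [Fintype F] [FiniteDimensional F V]

theorem card_fibre (hA : B.IsAlt) (hB : B.Nondegenerate) {k : ℕ} {s : Fin k → V}
    (hs : IsFrame B k s) :
    Nat.card {v : V // (∀ i, B (s i) v = 0) ∧ v ∉ Submodule.span F (Set.range s)}
      = Fintype.card F ^ (Module.finrank F V - k) - Fintype.card F ^ k := by
  have : Finite V := Module.finite_of_finite F
  obtain ⟨U, hU⟩ : ∃ U, U = Submodule.span F (Set.range s) := ⟨_, rfl⟩
  have hUk : Module.finrank F U = k := by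
    rw [hU, finrank_span_eq_card hs.1, Fintype.card_fin]
  have hmem : ∀ v, (∀ i, B (s i) v = 0) ↔ v ∈ B.orthogonal U := by
    intro v
    constructor
    · intro h u hu
      rw [hU] at hu
      refine Submodule.span_induction (p := fun u _ => B u v = 0) ?_ ?_ ?_ ?_ hu
      · rintro _ ⟨i, rfl⟩
        exact h i
      · simp
      · intro a b _ _ ha hb
        rw [map_add, LinearMap.add_apply, ha, hb, add_zero]
      · intro c a _ ha
        rw [map_smul, LinearMap.smul_apply, ha, smul_zero]
    · intro h i
      exact h (s i) (by rw [hU]; exact Submodule.subset_span ⟨i, rfl⟩)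
  have hle : U ≤ B.orthogonal U := by
    intro u hu
    rw [← hmem]
    intro i
    rw [hU] at hu
    refine Submodule.span_induction (p := fun u _ => B (s i) u = 0) ?_ ?_ ?_ ?_ hu
    · rintro _ ⟨j, rfl⟩
      exact hs.2 i j
    · simp
    · intro a b _ _ ha hb
      rw [map_add, ha, hb, add_zero]
    · intro c a _ ha
      rw [map_smul, ha, smul_zero]
  have h1 : Nat.card {v : V // (∀ i, B (s i) v = 0) ∧ v ∉ Submodule.span F (Set.range s)}
      = (((B.orthogonal U : Submodule F V) : Set V) \ (U : Set V)).ncard := by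
    rw [← Nat.card_coe_set_eq]
    apply Nat.card_congr
    refine Equiv.subtypeEquivRight (fun v => ?_)
    rw [Set.mem_sdiff, SetLike.mem_coe, SetLike.mem_coe, hmem, hU]
  have h2 : ∀ W : Submodule F V, ((W : Submodule F V) : Set V).ncard
      = Fintype.card F ^ Module.finrank F W := by
    intro W
    rw [← Nat.card_coe_set_eq]
    show Nat.card W = _
    rw [Module.natCard_eq_pow_finrank (K := F), Nat.card_eq_fintype_card]
  rw [h1, Set.ncard_sdiff (by exact_mod_cast hle) (Set.toFinite _), h2, h2,
    LinearMap.BilinForm.finrank_orthogonal hB, hUk]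

theorem card_frames (hA : B.IsAlt) (hB : B.Nondegenerate) (k : ℕ) :
    Nat.card {x : Fin k → V // IsFrame B k x}
      = ∏ i ∈ Finset.range k,
        (Fintype.card F ^ (Module.finrank F V - i) - Fintype.card F ^ i) := by
  have : Finite V := Module.finite_of_finite F
  induction k with
  | zero =>
    rw [Finset.range_zero, Finset.prod_empty]
    have : Unique {x : Fin 0 → V // IsFrame B 0 x} :=
      { default := ⟨Fin.elim0, linearIndependent_empty_type, fun i => i.elim0⟩
        uniq := fun x => Subtype.ext (funext fun i => i.elim0) }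
    exact Nat.card_unique
  | succ k ih =>
    have : Fintype {s : Fin k → V // IsFrame B k s} := Fintype.ofFinite _
    rw [Nat.card_congr (frameEquiv hA k), Nat.card_sigma, Finset.prod_range_succ, ← ih]
    rw [Finset.sum_congr rfl (fun s _ => card_fibre hA hB s.2), Finset.sum_const,
      Finset.card_univ, smul_eq_mul, Nat.card_eq_fintype_card]

end count

section orbits

theorem isotropic_span {k : ℕ} {x : Fin k → V} (hx : IsFrame B k x) :
    ∀ a ∈ Submodule.span F (Set.range x), ∀ b ∈ Submodule.span F (Set.range x), B a b = 0 := by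
  intro a ha b hb
  refine Submodule.span_induction (p := fun a _ => B a b = 0) ?_ ?_ ?_ ?_ ha
  · rintro _ ⟨i, rfl⟩
    refine Submodule.span_induction (p := fun b _ => B (x i) b = 0) ?_ ?_ ?_ ?_ hb
    · rintro _ ⟨j, rfl⟩
      exact hx.2 i j
    · simp
    · intro a b _ _ ha hb
      rw [map_add, ha, hb, add_zero]
    · intro c a _ ha
      rw [map_smul, ha, smul_zero]
  · simp
  · intro a b _ _ ha hb
    rw [map_add, LinearMap.add_apply, ha, hb, add_zero]
  · intro c a _ ha
    rw [map_smul, LinearMap.smul_apply, ha, smul_zero]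

theorem smul_frame_apply {k : ℕ} (g : isoGrp B) (x : Fin k → V) (i : Fin k) :
    (g • x) i = (g : V ≃ₗ[F] V) (x i) := rfl

theorem isFrame_smul {k : ℕ} (g : isoGrp B) {x : Fin k → V} (hx : IsFrame B k x) :
    IsFrame B k (g • x) := by
  constructor
  · have := hx.1.map' ((g : V ≃ₗ[F] V) : V →ₗ[F] V) (LinearEquiv.ker _)
    exact this
  · intro i j
    rw [smul_frame_apply, smul_frame_apply, g.2]
    exact hx.2 i j

/-- Witt's lemma for isotropic frames -/
theorem exists_smul_eq [FiniteDimensional F V] (hA : B.IsAlt) (hB : B.Nondegenerate) {k : ℕ}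
    {x y : Fin k → V} (hx : IsFrame B k x) (hy : IsFrame B k y) :
    ∃ g : isoGrp B, g • x = y := by
  let bx := Module.Basis.span hx.1
  let bY := Module.Basis.span hy.1
  let φ : Submodule.span F (Set.range x) ≃ₗ[F] Submodule.span F (Set.range y) :=
    bx.equiv bY (Equiv.refl _)
  have hφ : ∀ a b : Submodule.span F (Set.range x),
      B (φ a : V) (φ b : V) = B (a : V) (b : V) := by
    intro a b
    rw [isotropic_span hx _ a.2 _ b.2, isotropic_span hy _ (φ a).2 _ (φ b).2]
  obtain ⟨g, hg, hgx⟩ := Cfsg.Agent.S0749.result B hB hA _ _ φ hφ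
  refine ⟨⟨g, hg⟩, ?_⟩
  funext i
  rw [smul_frame_apply]
  show g (x i) = y i
  have h1 := hgx (bx i)
  have h2 : ((bx i : Submodule.span F (Set.range x)) : V) = x i := by
    rw [Module.Basis.span_apply]
  rw [h2] at h1
  rw [h1, Module.Basis.equiv_apply, Equiv.refl_apply, Module.Basis.span_apply]

theorem orbit_eq_frames [FiniteDimensional F V] (hA : B.IsAlt) (hB : B.Nondegenerate) {k : ℕ}
    {x : Fin k → V} (hx : IsFrame B k x) :
    MulAction.orbit (isoGrp B) x = {y | IsFrame B k y} := by
  ext y
  constructor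
  · rintro ⟨g, rfl⟩
    exact isFrame_smul g hx
  · intro hy
    obtain ⟨g, hg⟩ := exists_smul_eq hA hB hx hy
    exact ⟨g, hg⟩

theorem fix_span_of_smul_eq {k : ℕ} {g : isoGrp B} {x : Fin k → V} (hg : g • x = x) :
    ∀ v ∈ Submodule.span F (Set.range x), (g : V ≃ₗ[F] V) v = v := by
  intro v hv
  have h1 : Set.EqOn (((g : V ≃ₗ[F] V) : V →ₗ[F] V)) (LinearMap.id : V →ₗ[F] V) (Set.range x) := by
    rintro _ ⟨i, rfl⟩
    exact congrFun hg i
  exact LinearMap.eqOn_span h1 hv

theorem stabilizer_le_stabL {k : ℕ} {x : Fin k → V} :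
    MulAction.stabilizer (isoGrp B) x ≤ stabL B (Submodule.span F (Set.range x)) := by
  intro g hg
  rw [MulAction.mem_stabilizer_iff] at hg
  have hfix := fix_span_of_smul_eq hg
  rw [mem_stabL]
  intro v
  constructor
  · intro hv
    rw [hfix v hv]
    exact hv
  · intro hv
    have h1 := hfix _ hv
    have h2 := (g : V ≃ₗ[F] V).injective h1
    rw [← h2]
    exact hv

theorem orbit_stabL_eq [FiniteDimensional F V] (hA : B.IsAlt) (hB : B.Nondegenerate) {k : ℕ}
    {x : Fin k → V} (hx : IsFrame B k x) :
    MulAction.orbit (stabL B (Submodule.span F (Set.range x))) x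
      = {y | LinearIndependent F y ∧
        Submodule.span F (Set.range y) = Submodule.span F (Set.range x)} := by
  ext y
  constructor
  · rintro ⟨g, rfl⟩
    have hgf := isFrame_smul (g : isoGrp B) hx
    refine ⟨hgf.1, ?_⟩
    have hg := (mem_stabL B).1 g.2
    apply le_antisymm
    · rw [Submodule.span_le]
      rintro _ ⟨i, rfl⟩
      exact (hg _).1 (Submodule.subset_span ⟨i, rfl⟩)
    · have h1 : Submodule.span F (Set.range ((g : isoGrp B) • x))
          = (Submodule.span F (Set.range x)).map
            ((((g : isoGrp B) : V ≃ₗ[F] V)) : V →ₗ[F] V) := by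
        rw [Submodule.map_span]
        congr 1
        ext v
        constructor
        · rintro ⟨i, rfl⟩
          exact ⟨x i, ⟨i, rfl⟩, rfl⟩
        · rintro ⟨_, ⟨i, rfl⟩, rfl⟩
          exact ⟨i, rfl⟩
      intro v hv
      show v ∈ Submodule.span F (Set.range ((g : isoGrp B) • x))
      rw [h1, Submodule.mem_map]
      refine ⟨((g : isoGrp B) : V ≃ₗ[F] V).symm v, ?_, LinearEquiv.apply_symm_apply _ v⟩
      rw [hg, LinearEquiv.apply_symm_apply]
      exact hv
  · rintro ⟨hy1, hy2⟩
    have hy : IsFrame B k y := by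
      refine ⟨hy1, fun i j => ?_⟩
      apply isotropic_span hx
      · rw [← hy2]; exact Submodule.subset_span ⟨i, rfl⟩
      · rw [← hy2]; exact Submodule.subset_span ⟨j, rfl⟩
    obtain ⟨g, hg⟩ := exists_smul_eq hA hB hx hy
    have hmap : ∀ v ∈ Submodule.span F (Set.range x),
        (g : V ≃ₗ[F] V) v ∈ Submodule.span F (Set.range x) := by
      intro v hv
      refine Submodule.span_induction (p := fun v _ => (g : V ≃ₗ[F] V) v
        ∈ Submodule.span F (Set.range x)) ?_ ?_ ?_ ?_ hv
      · rintro _ ⟨i, rfl⟩
        rw [← hy2, ← hg]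
        exact Submodule.subset_span ⟨i, rfl⟩
      · simp
      · intro a b _ _ ha hb
        rw [map_add]
        exact Submodule.add_mem _ ha hb
      · intro c a _ ha
        rw [map_smul]
        exact Submodule.smul_mem _ c ha
    have hgP : g ∈ stabL B (Submodule.span F (Set.range x)) := by
      rw [mem_stabL]
      intro v
      refine ⟨hmap v, fun hv => ?_⟩
      -- the restriction of g to the span is injective, hence surjective
      let r : Submodule.span F (Set.range x) →ₗ[F] Submodule.span F (Set.range x) :=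
        (((g : V ≃ₗ[F] V) : V →ₗ[F] V)).restrict hmap
      have hr : Function.Injective r := by
        intro a b hab
        apply Subtype.ext
        apply (g : V ≃ₗ[F] V).injective
        exact congrArg Subtype.val hab
      obtain ⟨w, hw⟩ := (LinearMap.injective_iff_surjective.1 hr) ⟨_, hv⟩
      have h3 : (g : V ≃ₗ[F] V) (w : V) = (g : V ≃ₗ[F] V) v := congrArg Subtype.val hw
      rw [← (g : V ≃ₗ[F] V).injective h3]
      exact w.2
    exact ⟨⟨g, hgP⟩, hg⟩

end orbits

section count2

variable [Fintype F] [FiniteDimensional F V]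

/-- orbit–stabiliser for isotropic frames: the stabiliser of a totally isotropic subspace -/
theorem card_stabL_mul (hA : B.IsAlt) (hB : B.Nondegenerate) {k : ℕ} {x : Fin k → V}
    (hx : IsFrame B k x) :
    Nat.card (stabL B (Submodule.span F (Set.range x))) * Nat.card {y : Fin k → V // IsFrame B k y}
      = Nat.card {y : Fin k → V // LinearIndependent F y ∧
          Submodule.span F (Set.range y) = Submodule.span F (Set.range x)}
        * Nat.card (isoGrp B) := by
  have : Finite V := Module.finite_of_finite F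
  have : Finite (V ≃ₗ[F] V) := Finite.of_injective (fun g => (g : V → V)) DFunLike.coe_injective
  obtain ⟨P, hP⟩ : ∃ P, P = stabL B (Submodule.span F (Set.range x)) := ⟨_, rfl⟩
  rw [← hP]
  -- the big group
  have h1 := Subgroup.card_mul_index (MulAction.stabilizer (isoGrp B) x)
  rw [MulAction.index_stabilizer, orbit_eq_frames hA hB hx] at h1
  -- the stabiliser of the subspace
  have h2 := Subgroup.card_mul_index (MulAction.stabilizer P x)
  rw [MulAction.index_stabilizer] at h2
  have h3 : MulAction.orbit P x = {y | LinearIndependent F y ∧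
      Submodule.span F (Set.range y) = Submodule.span F (Set.range x)} := by
    rw [hP]; exact orbit_stabL_eq hA hB hx
  rw [h3] at h2
  have h4 : MulAction.stabilizer P x = (MulAction.stabilizer (isoGrp B) x).subgroupOf P := by
    ext g
    rfl
  have hle : MulAction.stabilizer (isoGrp B) x ≤ P := by
    rw [hP]; exact stabilizer_le_stabL
  rw [h4, Nat.card_congr (Subgroup.subgroupOfEquivOfLe hle).toEquiv] at h2
  rw [← h1, ← h2]
  show _ * Set.ncard {y | LinearIndependent F y ∧ _} * _ = _
  rw [← Nat.card_coe_set_eq, ← Nat.card_coe_set_eq]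
  have e1 : Nat.card ↑{y : Fin k → V | LinearIndependent F y ∧
      Submodule.span F (Set.range y) = Submodule.span F (Set.range x)}
      = Nat.card {y : Fin k → V // LinearIndependent F y ∧
      Submodule.span F (Set.range y) = Submodule.span F (Set.range x)} := rfl
  have e2 : Nat.card ↑{y : Fin k → V | IsFrame B k y}
      = Nat.card {y : Fin k → V // IsFrame B k y} := rfl
  rw [e1, e2]
  ring

end count2

end Cfsg.Agent.Helper28.IsoFrames
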