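import Mathlib
import Cfsg.Prelude.Def_ClassicalGeometry
import Cfsg.Agent.Lib.Helper2.SympBasic
import Cfsg.Agent.Lib.Helper28.IsoGrp
import Cfsg.Agent.S0752

/-!
# The symplectic group as an isometry group of linear equivalences (helper28)
-/

set_option autoImplicit false

namespace Cfsg.Agent.Helper28.SympIso
open Cfsg Matrix Cfsg.Agent.Helper28.IsoGrp Cfsg.Agent.Helper2.Symp

variable {F : Type*} [Field F] (m : ℕ)

/-- the standard alternating form as a bilinear form -/
noncomputable def sympBil (m : ℕ) (F : Type*) [Field F] :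
    LinearMap.BilinForm F (Fin m ⊕ Fin m → F) :=
  Matrix.toBilin' (Matrix.J (Fin m) F)

theorem sympBil_apply (u v : Fin m ⊕ Fin m → F) : sympBil m F u v = Cfsg.sympForm m F u v := by
  rw [sympBil, Matrix.toBilin'_apply']
  rfl

theorem sympBil_isAlt : (sympBil m F).IsAlt := by
  intro x
  rw [sympBil_apply]
  exact Bf_self x

theorem sympBil_isRefl : (sympBil m F).IsRefl := (sympBil_isAlt m).isRefl

theorem sympBil_nondegenerate : (sympBil m F).Nondegenerate := by
  constructor
  · intro x hx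
    by_contra hne
    obtain ⟨y, hy⟩ := exists_Bf_ne_zero hne
    apply hy
    have := hx y
    rwa [sympBil_apply] at this
  · intro x hx
    by_contra hne
    obtain ⟨y, hy⟩ := exists_Bf_ne_zero hne
    apply hy
    have := hx y
    rw [sympBil_apply] at this
    have h2 : Bf y x = 0 := this
    rw [Bf_skew, h2, neg_zero]

theorem mem_symplectic_of_preserves {A : Matrix (Fin m ⊕ Fin m) (Fin m ⊕ Fin m) F}
    (h : ∀ u v, Cfsg.sympForm m F (A *ᵥ u) (A *ᵥ v) = Cfsg.sympForm m F u v) :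
    A ∈ Matrix.symplecticGroup (Fin m) F := by
  rw [SymplecticGroup.mem_iff']
  ext i j
  have h1 := h (Pi.single i 1) (Pi.single j 1)
  have h2 : ∀ u v : Fin m ⊕ Fin m → F, Cfsg.sympForm m F (A *ᵥ u) (A *ᵥ v)
      = u ⬝ᵥ ((Aᵀ * Matrix.J (Fin m) F * A) *ᵥ v) := by
    intro u v
    show (A *ᵥ u) ⬝ᵥ (Matrix.J (Fin m) F *ᵥ (A *ᵥ v)) = _
    rw [← Matrix.vecMul_transpose A u, ← Matrix.dotProduct_mulVec, Matrix.mulVec_mulVec,
      Matrix.mulVec_mulVec]
  rw [h2] at h1
  have h3 : Cfsg.sympForm m F (Pi.single i 1) (Pi.single j 1) = Matrix.J (Fin m) F i j := by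
    show (Pi.single i 1 : Fin m ⊕ Fin m → F) ⬝ᵥ (Matrix.J (Fin m) F *ᵥ Pi.single j 1) = _
    simp
  rw [h3] at h1
  rw [← h1]
  simp

/-- a symplectic matrix as a linear equivalence -/
noncomputable def toLinEquiv (A : Matrix.symplecticGroup (Fin m) F) :
    (Fin m ⊕ Fin m → F) ≃ₗ[F] (Fin m ⊕ Fin m → F) :=
  LinearEquiv.ofLinearMap (Matrix.toLin' (A : Matrix (Fin m ⊕ Fin m) (Fin m ⊕ Fin m) F))
    (Matrix.toLin' ((A⁻¹ : Matrix.symplecticGroup (Fin m) F) :
      Matrix (Fin m ⊕ Fin m) (Fin m ⊕ Fin m) F))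
    (by
      rw [← Matrix.toLin'_mul]
      have h : (A : Matrix (Fin m ⊕ Fin m) (Fin m ⊕ Fin m) F)
          * ((A⁻¹ : Matrix.symplecticGroup (Fin m) F) : Matrix _ _ F) = 1 :=
        congrArg Subtype.val (mul_inv_cancel A)
      rw [h, Matrix.toLin'_one])
    (by
      rw [← Matrix.toLin'_mul]
      have h : ((A⁻¹ : Matrix.symplecticGroup (Fin m) F) : Matrix _ _ F)
          * (A : Matrix (Fin m ⊕ Fin m) (Fin m ⊕ Fin m) F) = 1 :=
        congrArg Subtype.val (inv_mul_cancel A)
      rw [h, Matrix.toLin'_one])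

theorem toLinEquiv_apply (A : Matrix.symplecticGroup (Fin m) F) (x : Fin m ⊕ Fin m → F) :
    toLinEquiv m A x = (A : Matrix (Fin m ⊕ Fin m) (Fin m ⊕ Fin m) F) *ᵥ x := rfl

/-- the symplectic group maps to the isometry group -/
noncomputable def sympHom : Matrix.symplecticGroup (Fin m) F →* isoGrp (sympBil m F) where
  toFun A := ⟨toLinEquiv m A, by
    intro x y
    rw [sympBil_apply, sympBil_apply, toLinEquiv_apply, toLinEquiv_apply]
    exact Bf_mulVec A.2 x y⟩
  map_one' := by
    apply Subtype.ext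
    apply LinearEquiv.ext
    intro x
    show ((1 : Matrix.symplecticGroup (Fin m) F) :
      Matrix (Fin m ⊕ Fin m) (Fin m ⊕ Fin m) F) *ᵥ x = x
    exact Matrix.one_mulVec x
  map_mul' A B := by
    apply Subtype.ext
    apply LinearEquiv.ext
    intro x
    show ((A * B : Matrix.symplecticGroup (Fin m) F) :
        Matrix (Fin m ⊕ Fin m) (Fin m ⊕ Fin m) F) *ᵥ x
      = (A : Matrix (Fin m ⊕ Fin m) (Fin m ⊕ Fin m) F)
        *ᵥ ((B : Matrix (Fin m ⊕ Fin m) (Fin m ⊕ Fin m) F) *ᵥ x)
    rw [Matrix.mulVec_mulVec]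
    rfl

theorem sympHom_apply (A : Matrix.symplecticGroup (Fin m) F) (x : Fin m ⊕ Fin m → F) :
    ((sympHom m A : isoGrp (sympBil m F)) : (Fin m ⊕ Fin m → F) ≃ₗ[F] (Fin m ⊕ Fin m → F)) x
      = (A : Matrix (Fin m ⊕ Fin m) (Fin m ⊕ Fin m) F) *ᵥ x := rfl

theorem sympHom_bijective : Function.Bijective (sympHom (F := F) m) := by
  constructor
  · intro A B hAB
    apply Subtype.ext
    apply Matrix.toLin'.injective
    apply LinearMap.ext
    intro x
    rw [Matrix.toLin'_apply, Matrix.toLin'_apply, ← sympHom_apply, ← sympHom_apply, hAB]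
  · intro g
    have hA : LinearMap.toMatrix' ((g : (Fin m ⊕ Fin m → F) ≃ₗ[F] (Fin m ⊕ Fin m → F)) :
        (Fin m ⊕ Fin m → F) →ₗ[F] (Fin m ⊕ Fin m → F)) ∈ Matrix.symplecticGroup (Fin m) F := by
      apply mem_symplectic_of_preserves
      intro u v
      rw [LinearMap.toMatrix'_mulVec, LinearMap.toMatrix'_mulVec, ← sympBil_apply, ← sympBil_apply]
      exact g.2 u v
    refine ⟨⟨_, hA⟩, ?_⟩
    apply Subtype.ext
    apply LinearEquiv.ext
    intro x
    rw [sympHom_apply]
    show LinearMap.toMatrix' _ *ᵥ x = _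
    rw [LinearMap.toMatrix'_mulVec]
    rfl

/-- the symplectic group is the isometry group of `sympBil` -/
noncomputable def sympMulEquiv : Matrix.symplecticGroup (Fin m) F ≃* isoGrp (sympBil m F) :=
  MulEquiv.ofBijective (sympHom m) (sympHom_bijective m)

theorem sympMulEquiv_apply (A : Matrix.symplecticGroup (Fin m) F) (x : Fin m ⊕ Fin m → F) :
    ((sympMulEquiv m A : isoGrp (sympBil m F)) :
      (Fin m ⊕ Fin m → F) ≃ₗ[F] (Fin m ⊕ Fin m → F)) x
      = (A : Matrix (Fin m ⊕ Fin m) (Fin m ⊕ Fin m) F) *ᵥ x := rfl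

/-- the stabiliser of a subspace, in both descriptions -/
noncomputable def stabEquiv (W : Submodule F (Fin m ⊕ Fin m → F)) :
    ↥(Cfsg.stabilizing (Cfsg.spToMat m F) (W : Set (Fin m ⊕ Fin m → F)))
      ≃* stabL (sympBil m F) W :=
  ((sympMulEquiv m).subgroupMap _).trans (MulEquiv.subgroupCongr (by
    ext g
    rw [Subgroup.mem_map, mem_stabL]
    constructor
    · rintro ⟨A, hA, rfl⟩ v
      exact hA v
    · intro hg
      refine ⟨(sympMulEquiv m).symm g, ?_, (sympMulEquiv m).apply_symm_apply g⟩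
      intro v
      have h1 := hg v
      have h2 := sympMulEquiv_apply m ((sympMulEquiv m).symm g) v
      rw [MulEquiv.apply_symm_apply] at h2
      rw [h2] at h1
      exact h1))

/-- a non-degenerate alternating space of dimension `2k` is the standard one -/
theorem exists_symp_equiv {U : Type*} [AddCommGroup U] [Module F U] [FiniteDimensional F U]
    (B : LinearMap.BilinForm F U) (hA : B.IsAlt) (hB : B.Nondegenerate) (k : ℕ)
    (hk : Module.finrank F U = 2 * k) :
    ∃ e : U ≃ₗ[F] (Fin k ⊕ Fin k → F), ∀ x y, sympBil k F (e x) (e y) = B x y := by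
  obtain ⟨m', k', b, h1, h2, h3, h4⟩ := Cfsg.Agent.S0752.result B hA
  have hk' : k' = 0 := by
    by_contra hne
    have j : Fin k' := ⟨0, Nat.pos_of_ne_zero hne⟩
    exact b.ne_zero (Sum.inr j) (hB.1 _ (h4 j))
  subst hk'
  have hm' : m' = k := by
    have := Module.finrank_eq_card_basis b
    rw [hk] at this
    simp only [Fintype.card_sum, Fintype.card_fin] at this
    omega
  subst hm'
  let σ : ((Fin m' ⊕ Fin m') ⊕ Fin 0) ≃ (Fin m' ⊕ Fin m') :=
    (Equiv.sumEmpty _ _).trans (Equiv.sumComm _ _)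
  let b' : Module.Basis (Fin m' ⊕ Fin m') F U := b.reindex σ
  have hb'l : ∀ i, b' (Sum.inl i) = b (Sum.inl (Sum.inr i)) := fun i => by
    rw [Module.Basis.reindex_apply]; rfl
  have hb'r : ∀ i, b' (Sum.inr i) = b (Sum.inl (Sum.inl i)) := fun i => by
    rw [Module.Basis.reindex_apply]; rfl
  have he : ∀ i, b'.equivFun (b' i) = Pi.single i 1 := by
    intro i
    funext j
    rw [Module.Basis.equivFun_self]
    simp [Pi.single_apply, eq_comm]
  have key : (sympBil m' F).comp (b'.equivFun : U →ₗ[F] _) (b'.equivFun : U →ₗ[F] _) = B := by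
    apply LinearMap.BilinForm.ext_basis b'
    intro i j
    rw [LinearMap.BilinForm.comp_apply]
    show sympBil m' F (b'.equivFun (b' i)) (b'.equivFun (b' j)) = _
    rw [he, he, sympBil, Matrix.toBilin'_single]
    rcases i with i | i <;> rcases j with j | j
    · rw [hb'l, hb'l, h3]
      simp [Matrix.J]
    · rw [hb'l, hb'r, ← LinearMap.IsAlt.neg hA (b (Sum.inl (Sum.inl j))) (b (Sum.inl (Sum.inr i))), h1]
      simp [Matrix.J, Matrix.one_apply, eq_comm]
    · rw [hb'r, hb'l, h1]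
      simp [Matrix.J, Matrix.one_apply]
    · rw [hb'r, hb'r, h2]
      simp [Matrix.J]
  refine ⟨b'.equivFun, fun x y => ?_⟩
  have := LinearMap.congr_fun (LinearMap.congr_fun key x) y
  rw [LinearMap.BilinForm.comp_apply] at this
  exact this

end Cfsg.Agent.Helper28.SympIso
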