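import Mathlib
import Cfsg.Agent.Lib.Helper15.S62Defs

/-!
# S2362, piece S62-DETSPLIT: the determinant of an endomorphism preserving two complementary subspaces.
-/

set_option autoImplicit false

open Polynomial

namespace Cfsg.Agent.Helper15.S62

universe u

section linalg

variable {F : Type u} [Field F] {V : Type u} [AddCommGroup V] [Module F V]

theorem det_eq_mul_of_isCompl [FiniteDimensional F V] (C W : Submodule F V) (h : IsCompl C W)
    (s : Module.End F V) (hC : ∀ x ∈ C, s x ∈ C) (hW : ∀ x ∈ W, s x ∈ W) :
    LinearMap.det s = LinearMap.det (s.restrict hC) * LinearMap.det (s.restrict hW) := by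
  set e := Submodule.prodEquivOfIsCompl C W h with he
  have key : s = (e : (C × W) →ₗ[F] V) ∘ₗ ((s.restrict hC).prodMap (s.restrict hW)) ∘ₗ
      (e.symm : V →ₗ[F] (C × W)) := by
    apply LinearMap.ext
    intro v
    obtain ⟨⟨c, w⟩, rfl⟩ := e.surjective v
    simp [he, Submodule.coe_prodEquivOfIsCompl', LinearMap.restrict_apply]
  calc LinearMap.det s = LinearMap.det ((e : (C × W) →ₗ[F] V) ∘ₗ
        ((s.restrict hC).prodMap (s.restrict hW)) ∘ₗ (e.symm : V →ₗ[F] (C × W))) := congrArg _ key
    _ = LinearMap.det (s.restrict hC) * LinearMap.det (s.restrict hW) := by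
      rw [LinearMap.det_conj, LinearMap.det_prodMap]

end linalg

end Cfsg.Agent.Helper15.S62
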