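import Mathlib
import Cfsg.Agent.Lib.Helper15.S62Defs

/-!
# S2362, piece S62-ORTH: for an isometry `t`, the kernel of `1 + t + ... + t^(r-1)` is orthogonal to
the fixed space of `t` (when `r ≠ 0` in `F`).
-/

set_option autoImplicit false

open Polynomial

namespace Cfsg.Agent.Helper15.S62

universe u

section linalg

variable {F : Type u} [Field F] {V : Type u} [AddCommGroup V] [Module F V]

theorem s62_orth_pow (B : LinearMap.BilinForm F V) (t : Module.End F V)
    (hB : ∀ x y, B (t x) (t y) = B x y) {x : V} (hx : t x = x) (w : V) (i : ℕ) :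
    B ((t ^ i) w) x = B w x := by
  induction i with
  | zero => simp
  | succ i ih =>
    rw [pow_succ', Module.End.mul_apply]
    calc B (t ((t ^ i) w)) x = B (t ((t ^ i) w)) (t x) := by rw [hx]
      _ = B ((t ^ i) w) x := hB _ _
      _ = B w x := ih

theorem orth_Wpart_Cpart (B : LinearMap.BilinForm F V) (t : Module.End F V)
    (hB : ∀ x y, B (t x) (t y) = B x y) (r : ℕ) (hrF : (r : F) ≠ 0)
    {w x : V} (hw : w ∈ Wpart t r) (hx : x ∈ Cpart t) : B w x = 0 := by
  rw [mem_Wpart] at hw
  rw [mem_Cpart] at hx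
  have h1 : B (∑ i ∈ Finset.range r, (t ^ i) w) x = ∑ i ∈ Finset.range r, B ((t ^ i) w) x := by
    rw [map_sum, LinearMap.sum_apply]
  have h2 : ∑ i ∈ Finset.range r, B ((t ^ i) w) x = (r : F) * B w x := by
    rw [Finset.sum_congr rfl (fun i _ => s62_orth_pow B t hB hx w i)]
    simp
  rw [hw, map_zero, LinearMap.zero_apply, h2] at h1
  rcases mul_eq_zero.1 h1.symm with h | h
  · exact absurd h hrF
  · exact h

end linalg

end Cfsg.Agent.Helper15.S62
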