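import Mathlib
import Cfsg.Agent.Lib.Helper28.InvNWMove

/-!
# A verified collector for words of root elements `x_r(1)` in characteristic two (helper28)

For a `ChevalleyDatum` with `ChevFacts` over a field of characteristic two, `collect n w` rewrites the word
`x_{w₁}(1) x_{w₂}(1) ⋯` towards increasing root index, by cancelling equal neighbours and by swapping neighbours
with the commutator formula.  `xprod (collect n w) = xprod w`, so conjugation certificates (chains of conjugations
by root elements and by Weyl group elements) are checked by `decide`.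
-/

set_option autoImplicit false
set_option linter.unusedSectionVars false
set_option linter.unusedVariables false

namespace Cfsg.Agent.Helper13.InvN

open Cfsg Cfsg.Lie Cfsg.Agent.Lead.Chev

variable {F : Type*} [Field F] {D : ChevalleyDatum}

/-- the roots of the terms of the commutator formula with an odd coefficient -/
def oddTerms (D : ChevalleyDatum) (r s : ℕ) : List ℕ :=
  (D.commTerms r s).filterMap fun c => if c.2.1 % 2 = 0 then none else some c.1

theorem two_eq_zero_F [CharP F 2] : (2 : F) = 0 := by
  have : ((2 : ℕ) : F) = 0 := CharP.cast_eq_zero F 2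
  exact_mod_cast this

theorem cast_even [CharP F 2] (z : ℤ) (h : z % 2 = 0) : ((z : ℤ) : F) = 0 := by
  obtain ⟨k, hk⟩ := Int.dvd_of_emod_eq_zero h
  rw [hk]
  push_cast
  rw [two_eq_zero_F, zero_mul]

theorem cast_odd [CharP F 2] (z : ℤ) (h : ¬ z % 2 = 0) : ((z : ℤ) : F) = 1 := by
  have h1 : z % 2 = 1 := by omega
  have h2 : z = 2 * (z / 2) + 1 := by omega
  rw [h2]
  push_cast
  rw [two_eq_zero_F, zero_mul, zero_add]

theorem neg_one_pow_F [CharP F 2] (i : ℕ) : ((-1 : F)) ^ i = 1 := by
  rw [CharTwo.neg_eq, one_pow]

/-- the commutator word at `t = u = 1` -/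
theorem wordGL_commWord_one [CharP F 2] (hF : ChevFacts D F) (l : List (ℕ × ℤ × ℕ × ℕ)) :
    wordGL D hF.xadd (l.map fun c => (c.1, ((c.2.1 : ℤ) : F) * (-1) ^ c.2.2.1 * 1 ^ c.2.2.2)) =
      xprod hF (l.filterMap fun c => if c.2.1 % 2 = 0 then none else some c.1) := by
  induction l with
  | nil => rfl
  | cons c l ih =>
    rw [List.map_cons, wordGL_cons, ih, List.filterMap_cons]
    by_cases h : c.2.1 % 2 = 0
    · simp only [h, if_true]
      rw [cast_even _ h, zero_mul, zero_mul, xGL_zero, one_mul]
    · simp only [h, if_false]
      rw [xprod_cons, cast_odd _ h, neg_one_pow_F, one_pow, one_mul, one_mul]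

/-- swapping two neighbours -/
theorem swap_one [CharP F 2] (hF : ChevFacts D F) (r s : ℕ) (hr : r < D.nroots) (hs : s < D.nroots)
    (hsr : s ≠ r) (hsn : s ≠ D.neg r) :
    xGL D hF.xadd s 1 * xGL D hF.xadd r 1 =
      xGL D hF.xadd r 1 * (xGL D hF.xadd s 1 * xprod hF (oddTerms D r s)) := by
  have h1 : xGL D hF.xadd s (1 : F) * xGL D hF.xadd r 1 =
      xGL D hF.xadd r 1 * xGL D hF.xadd s 1 * wordGL D hF.xadd (D.commWord F r s 1 1) := by
    apply Units.ext
    simp only [Units.val_mul, xGL_val, wordGL_val]
    exact hF.comm r hr s hs hsr hsn 1 1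
  rw [h1, mul_assoc]
  congr 2
  exact wordGL_commWord_one hF (D.commTerms r s)

theorem xGL_one_sq [CharP F 2] (hF : ChevFacts D F) (r : ℕ) :
    xGL D hF.xadd r (1 : F) * xGL D hF.xadd r 1 = 1 := by
  rw [xGL_mul, CharTwo.add_self_eq_zero, xGL_zero]

theorem xGL_one_inv [CharP F 2] (hF : ChevFacts D F) (r : ℕ) :
    (xGL D hF.xadd r (1 : F))⁻¹ = xGL D hF.xadd r 1 := by
  rw [xGL_inv, CharTwo.neg_eq]

/-- one rewriting step: the first descent of the word is removed -/
def rw1 (D : ChevalleyDatum) : List ℕ → Option (List ℕ)
  | [] => none
  | [_] => none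
  | a :: b :: l =>
    if a = b then some l
    else if b < a then
      if a < D.nroots ∧ b < D.nroots ∧ a ≠ D.neg b then some (b :: a :: (oddTerms D b a ++ l)) else none
    else (rw1 D (b :: l)).map (a :: ·)

theorem xprod_rw1 [CharP F 2] (hF : ChevFacts D F) (w w' : List ℕ) (h : rw1 D w = some w') :
    xprod hF w' = xprod hF w := by
  induction w generalizing w' with
  | nil => simp [rw1] at h
  | cons a t ih =>
    cases t with
    | nil => simp [rw1] at h
    | cons b l =>
      simp only [rw1] at h
      by_cases h1 : a = b
      · rw [if_pos h1] at h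
        simp only [Option.some.injEq] at h
        subst h
        subst h1
        rw [xprod_cons, xprod_cons, ← mul_assoc, xGL_one_sq hF, one_mul]
      · rw [if_neg h1] at h
        by_cases h2 : b < a
        · rw [if_pos h2] at h
          by_cases h3 : a < D.nroots ∧ b < D.nroots ∧ a ≠ D.neg b
          · rw [if_pos h3] at h
            simp only [Option.some.injEq] at h
            subst h
            obtain ⟨ha, hb, hn⟩ := h3
            have e1 : xprod hF (b :: a :: (oddTerms D b a ++ l)) =
                xGL D hF.xadd b 1 * (xGL D hF.xadd a 1 * xprod hF (oddTerms D b a)) * xprod hF l := by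
              rw [xprod_cons, xprod_cons, xprod_append]
              simp only [mul_assoc]
            have e2 : xprod hF (a :: b :: l) =
                xGL D hF.xadd a 1 * xGL D hF.xadd b 1 * xprod hF l := by
              rw [xprod_cons, xprod_cons, mul_assoc]
            rw [e1, e2, swap_one hF b a hb ha h1 hn]
          · rw [if_neg h3] at h
            exact absurd h (by simp)
        · rw [if_neg h2, Option.map_eq_some_iff] at h
          obtain ⟨v, hv, rfl⟩ := h
          rw [xprod_cons, xprod_cons (r := a), ih v hv]

/-- the collector -/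
def collect (D : ChevalleyDatum) : ℕ → List ℕ → List ℕ
  | 0, w => w
  | n + 1, w =>
    match rw1 D w with
    | none => w
    | some w' => collect D n w'

theorem xprod_collect [CharP F 2] (hF : ChevFacts D F) (n : ℕ) (w : List ℕ) :
    xprod hF (collect D n w) = xprod hF w := by
  induction n generalizing w with
  | zero => rfl
  | succ n ih =>
    simp only [collect]
    cases h : rw1 D w with
    | none => rfl
    | some w' =>
      simp only
      rw [ih, xprod_rw1 hF w w' h]

/-- a move of a conjugation chain: conjugation by `x_r(1)` or by `n_c` -/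
inductive Move where
  | x (r : ℕ)
  | w (c : List ℕ)
deriving DecidableEq, Repr

/-- apply a move to a word (normalising with `fuel` rewriting steps) -/
def applyMove (D : ChevalleyDatum) (fuel : ℕ) (m : Move) (L : List ℕ) : List ℕ :=
  match m with
  | .x r => collect D fuel (r :: (L ++ [r]))
  | .w c => collect D fuel (L.map (reflWord D c))

/-- validity of a move -/
def moveOK (D : ChevalleyDatum) (m : Move) (L : List ℕ) : Bool :=
  match m with
  | .x _ => true
  | .w c => c.all (fun i => decide (i < D.rank)) && L.all (fun r => decide (r < D.nroots))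

theorem CJ.applyMove [CharP F 2] (hF : ChevFacts D F) (fuel : ℕ) (m : Move) (L : List ℕ)
    (h : moveOK D m L = true) : CJ D F (xprod hF L) (xprod hF (applyMove D fuel m L)) := by
  cases m with
  | x r =>
    simp only [InvN.applyMove]
    rw [xprod_collect, xprod_cons, xprod_append, xprod_cons, xprod_nil, mul_one]
    have := CJ.conj_x hF r (1 : F) (xprod hF L)
    rw [xGL_one_inv hF, mul_assoc] at this
    exact this
  | w c =>
    simp only [InvN.applyMove]
    rw [xprod_collect]
    simp only [moveOK, Bool.and_eq_true, List.all_eq_true, decide_eq_true_eq] at h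
    exact CJ.wmove hF c h.1 L h.2

/-- apply a chain of moves -/
def applyChain (D : ChevalleyDatum) (fuel : ℕ) : List Move → List ℕ → Option (List ℕ)
  | [], L => some L
  | m :: ms, L => if moveOK D m L then applyChain D fuel ms (applyMove D fuel m L) else none

theorem CJ.applyChain [CharP F 2] (hF : ChevFacts D F) (fuel : ℕ) (ms : List Move) (L L' : List ℕ)
    (h : applyChain D fuel ms L = some L') : CJ D F (xprod hF L) (xprod hF L') := by
  induction ms generalizing L with
  | nil =>
    simp only [InvN.applyChain, Option.some.injEq] at h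
    exact CJ.of_eq (by rw [h])
  | cons m ms ih =>
    simp only [InvN.applyChain] at h
    split_ifs at h with h1
    exact (CJ.applyMove hF fuel m L h1).trans (ih _ h)

end Cfsg.Agent.Helper13.InvN
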