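import Mathlib
import Cfsg.Agent.Lib.Helper27.Tw6Defs
import Cfsg.Agent.Lib.Helper6.ChevLNorm
import Cfsg.Agent.Lib.Lead.TwAutWords

/-!
# S2182 piece TW6-UVA (helper28 for helper27): the radical `UV v` and the parabolic subgroup `PV v` of a class.
-/

set_option autoImplicit false
set_option linter.unusedSectionVars false
set_option linter.unusedVariables false

namespace Cfsg.Agent.Helper27.Tw6

open Cfsg Cfsg.Lie Cfsg.Agent.Lead.Chev Cfsg.Agent.Lead.Tw Cfsg.Agent.Helper13.InvN Cfsg.Agent.Helper6.ChevL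

variable {K : Type*} [Field K] [Fintype K] [CharP K 2] {D : ChevalleyDatum} {hF : ChevFacts D K}
  {T : Twist D K hF.xadd} {π' : ℕ → ℕ} {S l₀ : List (List ℕ)} {f : K ≃+* K} (hX : Ctx hF T π' S l₀ f)
include hX

/-- PIECE UVA (1) -/
theorem uv_le (v : List ℕ) : UV D K v ≤ D.posUnipotent K :=
  radical_le_posUnipotent hF (letters v)

/-- PIECE UVA (2) -/
theorem par_borel (v : List ℕ) : D.borelSubgroup K ≤ PV D K v :=
  borel_le_parabolic (letters v)

/-- PIECE UVA (3) -/
theorem par_nWord (v : List ℕ) (hv : v ∈ S) : nWordGL D hF.xadd v ∈ PV D K v := by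
  rw [nWordGL_eq_prod hF (hX.orth.cls v hv)]
  apply Subgroup.list_prod_mem
  intro x hx
  obtain ⟨i, hi, rfl⟩ := List.mem_map.1 hx
  exact nGL_mem_parabolic hF hX.par (letters v) i (hX.valid v hv i hi) hi

/-- PIECE UVA (4) -/
theorem par_xs (v : List ℕ) (hv : v ∈ S) (φ : ℕ → K) : xs hF v φ ∈ PV D K v :=
  borel_le_parabolic (letters v)
    (posUnipotent_le_borel D (xs_mem_posUnipotent hF v (hX.valid v hv) φ))

/-- PIECE UVA (5) -/
theorem par_ys (v : List ℕ) (hv : v ∈ S) (φ : ℕ → K) : ys hF v φ ∈ PV D K v := by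
  unfold ys
  apply Subgroup.list_prod_mem
  intro x hx
  obtain ⟨i, hi, rfl⟩ := List.mem_map.1 hx
  have hir := hX.valid v hv i hi
  obtain ⟨n, hn⟩ : ∃ n : ℕ, corHt D (D.simple i) < (n : ℤ) :=
    ⟨(corHt D (D.simple i)).toNat + 1, by push_cast; have := Int.self_le_toNat (corHt D (D.simple i)); omega⟩
  exact xGL_neg_mem_parabolic hF hX.par (letters v) n (D.simple i) (hF.simple_pos i hir)
    (inRootSub_simple hF (letters v) i hir hi) hn (φ i)

/-- PIECE UVA (6): `PV v` normalises `UV v` -/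
theorem uv_conj (v : List ℕ) (p : GL D.Idx K) (hp : p ∈ PV D K v) (a : GL D.Idx K) (ha : a ∈ UV D K v) :
    p * a * p⁻¹ ∈ UV D K v := by
  have h := parabolic_le_normalizer hF hX.par hX.cj (letters v) hp
  rw [Subgroup.mem_normalizer_iff] at h
  exact (h a).1 ha

end Cfsg.Agent.Helper27.Tw6
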