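import Mathlib
import Cfsg.Agent.Lib.Helper13.G2IDefs
import Cfsg.Agent.Lib.Helper13.G2I_BASE1A
import Cfsg.Agent.Lib.Helper26.G2I_N11
import Cfsg.Agent.Lib.Helper19.G2TWEYL
import Cfsg.Agent.Lib.Helper11.G2TAsm
import Cfsg.Agent.Lib.Lead.ChevCells

/-!
# S4278 / S4279 piece CENTN (helper28): `n_w` commuting with `z` lies in `C = K T`
-/

set_option autoImplicit false

namespace Cfsg.Agent.Helper13.G2I

open Cfsg Cfsg.Lie Cfsg.Agent.Lead.Chev Cfsg.Agent.Helper11.G2T Cfsg.Agent.Helper6.SL2Hom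
  Cfsg.Agent.Helper6.ChevL Matrix

variable {F : Type*} [Field F]

/-- the four Weyl group elements preserving `{0, 4, 7, 11}`, or a witness that the set is moved -/
theorem centn_wActs (L : List ℕ) (hL : L ∈ wActs) :
    L = [0, 1, 2, 3, 4, 5, 6, 7, 8, 9, 10, 11] ∨ L = [0, 5, 3, 2, 7, 1, 10, 4, 9, 8, 6, 11] ∨
      L = [11, 6, 8, 9, 4, 10, 1, 7, 2, 3, 5, 0] ∨ L = [11, 10, 9, 8, 7, 6, 5, 4, 3, 2, 1, 0] ∨
      L.getD 0 0 ∉ [0, 4, 7, 11] := by
  revert L
  decide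

theorem centn_act_nil : ActsAs [] [0, 1, 2, 3, 4, 5, 6, 7, 8, 9, 10, 11] := by
  intro v hv
  interval_cases v <;> decide

theorem centn_act_0 : ActsAs [0] [0, 5, 3, 2, 7, 1, 10, 4, 9, 8, 6, 11] := by
  intro v hv
  interval_cases v <;> decide

theorem centn_act_11 : ActsAs [1, 0, 1, 0, 1] [11, 6, 8, 9, 4, 10, 1, 7, 2, 3, 5, 0] := by
  intro v hv
  interval_cases v <;> decide

theorem centn_act_w0 : ActsAs [0, 1, 0, 1, 0, 1] [11, 10, 9, 8, 7, 6, 5, 4, 3, 2, 1, 0] := by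
  intro v hv
  interval_cases v <;> decide

theorem centn_TT_le_CC : TT F ≤ CC F := le_sup_right

theorem centn_n7_mem : nGL chevG2 (g2F F).xadd 7 ∈ CC F := by
  rw [← phiS_nS]
  exact (le_sup_left : KK F ≤ CC F) ((le_sup_right : LS F ≤ KK F) ⟨nS F, rfl⟩)

theorem centn_n11_mem : nGL chevG2 (g2F F).xadd 11 ∈ CC F := by
  rw [← phiL_nS]
  exact (le_sup_left : KK F ≤ CC F) ((le_sup_left : LL F ≤ KK F) ⟨nS F, rfl⟩)

/-- the reference words lie in `C` -/
theorem centn_ref_nil : nWordGL chevG2 (g2F F).xadd [] ∈ CC F := by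
  rw [nWordGL_nil]; exact one_mem _

theorem centn_ref_0 : nWordGL chevG2 (g2F F).xadd [0] ∈ CC F := by
  rw [n7_word]; exact centn_n7_mem

theorem centn_ref_11 : nWordGL chevG2 (g2F F).xadd [1, 0, 1, 0, 1] ∈ CC F := by
  obtain ⟨τ, hτ, e⟩ := n11_word (F := F)
  rw [e]
  exact mul_mem centn_n11_mem (centn_TT_le_CC hτ)

theorem centn_ref_w0 : nWordGL chevG2 (g2F F).xadd [0, 1, 0, 1, 0, 1] ∈ CC F := by
  have h : nWordGL chevG2 (g2F F).xadd [0, 1, 0, 1, 0, 1] =
      nWordGL chevG2 (g2F F).xadd [0] * nWordGL chevG2 (g2F F).xadd [1, 0, 1, 0, 1] := by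
    rw [nWordGL_cons, nWordGL_cons (w := []), nWordGL_nil, mul_one]
  rw [h]
  exact mul_mem centn_ref_0 centn_ref_11

/-- same action as a reference word in `C` => in `C` -/
theorem centn_of_ref (w w' : List ℕ) (hw : ∀ i ∈ w, i < 2) (hw' : ∀ i ∈ w', i < 2) (L : List ℕ)
    (h : ActsAs w L) (h' : ActsAs w' L) (hm : nWordGL chevG2 (g2F F).xadd w' ∈ CC F) :
    nWordGL chevG2 (g2F F).xadd w ∈ CC F := by
  have hd := (g2F F).nWordGL_inv_mul_mem_diagonal w' w hw' hw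
    (fun r hr => by rw [h' r hr, h r hr])
  have e : nWordGL chevG2 (g2F F).xadd w =
      nWordGL chevG2 (g2F F).xadd w' * ((nWordGL chevG2 (g2F F).xadd w')⁻¹ * nWordGL chevG2 (g2F F).xadd w) := by
    group
  rw [e]
  exact mul_mem hm (centn_TT_le_CC hd)

theorem centN (h2 : (2 : F) ≠ 0) (w : List ℕ) (hw : ∀ i ∈ w, i < 2)
    (e : nWordGL chevG2 (g2F F).xadd w * zI F * (nWordGL chevG2 (g2F F).xadd w)⁻¹ = zI F) :
    nWordGL chevG2 (g2F F).xadd w ∈ CC F := by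
  obtain ⟨L, hL, hact⟩ := acts_cases w hw
  have hne : (1 : F) ≠ -1 := by
    intro h
    apply h2
    have : (2 : F) = 1 + 1 := by norm_num
    rw [this]
    nth_rewrite 2 [h]
    ring
  rcases centn_wActs L hL with h | h | h | h | h
  · subst h
    exact centn_of_ref w [] hw (by decide) _ hact centn_act_nil centn_ref_nil
  · subst h
    exact centn_of_ref w [0] hw (by decide) _ hact centn_act_0 centn_ref_0
  · subst h
    exact centn_of_ref w [1, 0, 1, 0, 1] hw (by decide) _ hact centn_act_11 centn_ref_11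
  · subst h
    exact centn_of_ref w [0, 1, 0, 1, 0, 1] hw (by decide) _ hact centn_act_w0 centn_ref_w0
  · exfalso
    have h0 := asm_nconj_ev (zI F) (zI F) zI_mem w hw L hact e 0 (by norm_num)
    have hlt : L.getD 0 0 < 12 := asm_getD_lt L hL 0 (by norm_num)
    rw [ev_zI _ hlt, ev_zI 0 (by norm_num), if_neg h, if_pos (by decide)] at h0
    exact hne h0.symm

end Cfsg.Agent.Helper13.G2I
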