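import Mathlib
import Cfsg.Agent.Lib.Helper13.G2IDefs
import Cfsg.Agent.Lib.Helper13.G2I_BASE1B
import Cfsg.Agent.Lib.Helper11.G2TAsm
import Cfsg.Agent.Lib.Lead.ChevNConj

/-!
# S4278 / S4279 piece TORAL (helper28): the three involutions of `T` are `G`-conjugate
-/

set_option autoImplicit false

namespace Cfsg.Agent.Helper13.G2I

open Cfsg Cfsg.Lie Cfsg.Agent.Lead.Chev Cfsg.Agent.Helper11.G2T Cfsg.Agent.Helper6.SL2Hom
  Cfsg.Agent.Helper6.ChevL Matrix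

variable {F : Type*} [Field F]

theorem toral_tab10 : ActsAs [1, 0] [1, 6, 4, 2, 8, 0, 11, 3, 9, 7, 5, 10] := by
  intro v hv
  interval_cases v <;> decide

theorem toral_tab1 : ActsAs [1] [1, 0, 2, 4, 3, 6, 5, 8, 7, 9, 11, 10] := by
  intro v hv
  interval_cases v <;> decide

theorem toral_neg_one_ne : (-1 : F) ≠ 0 := neg_ne_zero.2 one_ne_zero

/-- values of `z, z', z''` at the fundamental roots -/
theorem toral_ev_zI : ev (zI F) 7 = 1 ∧ ev (zI F) 6 = -1 := ev_h11 (-1) toral_neg_one_ne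

theorem toral_ev_zP : ev (zP F) 7 = -1 ∧ ev (zP F) 6 = 1 := by
  have h := ev_h6 (-1 : F) toral_neg_one_ne
  refine ⟨?_, ?_⟩
  · rw [show zP F = hGLt chevG2 (g2F F).xadd 6 (-1) from rfl, h.1]; norm_num
  · rw [show zP F = hGLt chevG2 (g2F F).xadd 6 (-1) from rfl, h.2]; norm_num

theorem toral_ev_zPP : ev (zPP F) 7 = -1 ∧ ev (zPP F) 6 = -1 := by
  have h := ev_h10 (-1 : F) toral_neg_one_ne
  refine ⟨?_, ?_⟩
  · rw [show zPP F = hGLt chevG2 (g2F F).xadd 10 (-1) from rfl, h.1]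
  · rw [show zPP F = hGLt chevG2 (g2F F).xadd 10 (-1) from rfl, h.2]; norm_num

theorem toral_conj_mem (w : List ℕ) (hw : ∀ i ∈ w, i < 2) (h : GL chevG2.Idx F) (hh : h ∈ TT F) :
    nWordGL chevG2 (g2F F).xadd w * h * (nWordGL chevG2 (g2F F).xadd w)⁻¹ ∈ TT F :=
  nWordGL_conj_mem_diagonal chevG2 (g2F F).xadd (etaOf chevG2) (g2F F).nsimple w hw h hh

/-- `n_{[1,0]} z' n_{[1,0]}⁻¹ = z` -/
theorem toral_conj_zP :
    nWordGL chevG2 (g2F F).xadd [1, 0] * zP F * (nWordGL chevG2 (g2F F).xadd [1, 0])⁻¹ = zI F := by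
  have hw : ∀ i ∈ ([1, 0] : List ℕ), i < 2 := by decide
  have hm := toral_conj_mem [1, 0] hw (zP F) zP_mem
  have e7 := asm_nconj_ev _ (zP F) zP_mem [1, 0] hw _ toral_tab10 rfl 9 (by norm_num)
  have e6 := asm_nconj_ev _ (zP F) zP_mem [1, 0] hw _ toral_tab10 rfl 1 (by norm_num)
  have r9 := ev_rc (zP F) zP_mem 9 (by norm_num)
  have r1 := ev_rc (zP F) zP_mem 1 (by norm_num)
  rw [toral_ev_zP.1, toral_ev_zP.2] at r9 r1
  apply asm_eq_of_ev _ _ hm zI_mem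
  · rw [toral_ev_zI.1]
    have : ([1, 6, 4, 2, 8, 0, 11, 3, 9, 7, 5, 10] : List ℕ).getD 9 0 = 7 := by decide
    rw [this] at e7
    rw [e7, r9]
    have ha : rcA 9 = 2 := by decide
    have hb : rcB 9 = 1 := by decide
    rw [ha, hb]; norm_num
  · rw [toral_ev_zI.2]
    have : ([1, 6, 4, 2, 8, 0, 11, 3, 9, 7, 5, 10] : List ℕ).getD 1 0 = 6 := by decide
    rw [this] at e6
    rw [e6, r1]
    have ha : rcA 1 = -3 := by decide
    have hb : rcB 1 = -1 := by decide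
    rw [ha, hb]
    rw [show (-3 : ℤ) = -(3 : ℤ) from rfl, _root_.zpow_neg, _root_.zpow_neg]
    norm_num

/-- `n_{[1]} z'' n_{[1]}⁻¹ = z` -/
theorem toral_conj_zPP :
    nWordGL chevG2 (g2F F).xadd [1] * zPP F * (nWordGL chevG2 (g2F F).xadd [1])⁻¹ = zI F := by
  have hw : ∀ i ∈ ([1] : List ℕ), i < 2 := by decide
  have hm := toral_conj_mem [1] hw (zPP F) zPP_mem
  have e7 := asm_nconj_ev _ (zPP F) zPP_mem [1] hw _ toral_tab1 rfl 8 (by norm_num)
  have e6 := asm_nconj_ev _ (zPP F) zPP_mem [1] hw _ toral_tab1 rfl 5 (by norm_num)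
  have r8 := ev_rc (zPP F) zPP_mem 8 (by norm_num)
  have r5 := ev_rc (zPP F) zPP_mem 5 (by norm_num)
  rw [toral_ev_zPP.1, toral_ev_zPP.2] at r8 r5
  apply asm_eq_of_ev _ _ hm zI_mem
  · rw [toral_ev_zI.1]
    have : ([1, 0, 2, 4, 3, 6, 5, 8, 7, 9, 11, 10] : List ℕ).getD 8 0 = 7 := by decide
    rw [this] at e7
    rw [e7, r8]
    have ha : rcA 8 = 1 := by decide
    have hb : rcB 8 = 1 := by decide
    rw [ha, hb]; norm_num
  · rw [toral_ev_zI.2]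
    have : ([1, 0, 2, 4, 3, 6, 5, 8, 7, 9, 11, 10] : List ℕ).getD 5 0 = 6 := by decide
    rw [this] at e6
    rw [e6, r5]
    have ha : rcA 5 = 0 := by decide
    have hb : rcB 5 = -1 := by decide
    rw [ha, hb]
    rw [show (-1 : ℤ) = -(1 : ℤ) from rfl, _root_.zpow_neg]
    norm_num

theorem toral_sq_cases (x : F) (h : x * x = 1) : x = 1 ∨ x = -1 := by
  have : (x - 1) * (x + 1) = 0 := by ring_nf; rw [sq, h]; ring
  rcases mul_eq_zero.1 this with h1 | h1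
  · left; exact sub_eq_zero.1 h1
  · right; exact eq_neg_of_add_eq_zero_left h1

theorem toral (h2 : (2 : F) ≠ 0) (h : GL chevG2.Idx F) (hh : h ∈ TT F) (hsq : h * h = 1) (hne : h ≠ 1) :
    CJ F h (zI F) := by
  have e7 : ev h 7 * ev h 7 = 1 := by rw [← ev_mul h h hh hh, hsq, ev_one]
  have e6 : ev h 6 * ev h 6 = 1 := by rw [← ev_mul h h hh hh, hsq, ev_one]
  rcases toral_sq_cases _ e7 with h7 | h7 <;> rcases toral_sq_cases _ e6 with h6 | h6
  · exact absurd (eq_one_of_ev h hh h7 h6) hne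
  · -- `h = z`
    have : h = zI F := asm_eq_of_ev h (zI F) hh zI_mem (by rw [h7, toral_ev_zI.1]) (by rw [h6, toral_ev_zI.2])
    exact ⟨1, one_mem _, by rw [this]; group⟩
  · have : h = zP F := asm_eq_of_ev h (zP F) hh zP_mem (by rw [h7, toral_ev_zP.1]) (by rw [h6, toral_ev_zP.2])
    exact ⟨_, nWordGL_mem_group chevG2 (g2F F).xadd [1, 0], by rw [this]; exact toral_conj_zP⟩
  · have : h = zPP F := asm_eq_of_ev h (zPP F) hh zPP_mem (by rw [h7, toral_ev_zPP.1])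
      (by rw [h6, toral_ev_zPP.2])
    exact ⟨_, nWordGL_mem_group chevG2 (g2F F).xadd [1], by rw [this]; exact toral_conj_zPP⟩

/-- `g₁ = n_{[1,0]}` conjugates `z'` to `z` and `z` to an element of `T` outside `K` (when `-1` is a nonsquare) -/
theorem g1_facts (h2 : (2 : F) ≠ 0) :
    nWordGL chevG2 (g2F F).xadd [1, 0] * zP F * (nWordGL chevG2 (g2F F).xadd [1, 0])⁻¹ = zI F ∧
    nWordGL chevG2 (g2F F).xadd [1, 0] * zI F * (nWordGL chevG2 (g2F F).xadd [1, 0])⁻¹ ∈ TT F ∧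
    ev (nWordGL chevG2 (g2F F).xadd [1, 0] * zI F * (nWordGL chevG2 (g2F F).xadd [1, 0])⁻¹) 11 = -1 := by
  have hw : ∀ i ∈ ([1, 0] : List ℕ), i < 2 := by decide
  refine ⟨toral_conj_zP, toral_conj_mem [1, 0] hw (zI F) zI_mem, ?_⟩
  have e := asm_nconj_ev _ (zI F) zI_mem [1, 0] hw _ toral_tab10 rfl 6 (by norm_num)
  have : ([1, 6, 4, 2, 8, 0, 11, 3, 9, 7, 5, 10] : List ℕ).getD 6 0 = 11 := by decide
  rw [this] at e
  rw [e, toral_ev_zI.2]

end Cfsg.Agent.Helper13.G2I
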