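import Mathlib
import Cfsg.Agent.Lib.Helper13.G2IDefs

/-!
# S4278 / S4279 piece GRP3 (helper28): transport of `InvCent` along conjugation
-/

set_option autoImplicit false

namespace Cfsg.Agent.Helper13.G2I

open Cfsg Matrix

/-- the centralizer of a conjugate is the image of the centralizer under conjugation -/
theorem grp3_centralizer_conj {G : Type*} [Group G] (t g : G) :
    Subgroup.centralizer ({g * t * g⁻¹} : Set G) =
      (Subgroup.centralizer ({t} : Set G)).map (MulAut.conj g).toMonoidHom := by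
  ext x
  simp only [Subgroup.mem_centralizer_iff, Set.mem_singleton_iff, forall_eq, Subgroup.mem_map,
    MulEquiv.coe_toMonoidHom, MulAut.conj_apply]
  constructor
  · intro hx
    refine ⟨g⁻¹ * x * g, ?_, by group⟩
    have h1 : g⁻¹ * (g * t * g⁻¹ * x) * g = g⁻¹ * (x * (g * t * g⁻¹)) * g := by rw [hx]
    calc t * (g⁻¹ * x * g) = g⁻¹ * (g * t * g⁻¹ * x) * g := by group
      _ = g⁻¹ * (x * (g * t * g⁻¹)) * g := h1
      _ = g⁻¹ * x * g * t := by group
  · rintro ⟨y, hy, rfl⟩
    calc g * t * g⁻¹ * (g * y * g⁻¹) = g * (t * y) * g⁻¹ := by group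
      _ = g * (y * t) * g⁻¹ := by rw [hy]
      _ = g * y * g⁻¹ * (g * t * g⁻¹) := by group

theorem InvCent.conj {F : Type*} [Field F] {G : Type*} [Group G] (N : ℕ) (t g : G) (h : InvCent F N t) :
    InvCent F N (g * t * g⁻¹) := by
  obtain ⟨hN, L₁, L₂, ⟨e₁⟩, ⟨e₂⟩, hcomm, hinf, hsup, hidx⟩ := h
  set φ : G →* G := (MulAut.conj g).toMonoidHom with hφ
  have hinj : Function.Injective φ := (MulAut.conj g).injective
  have hcent := grp3_centralizer_conj t g
  refine ⟨?_, L₁.map φ, L₂.map φ, ⟨(L₁.equivMapOfInjective φ hinj).symm.trans e₁⟩,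
    ⟨(L₂.equivMapOfInjective φ hinj).symm.trans e₂⟩, ?_, ?_, ?_, ?_⟩
  · rw [hcent, ← hN]
    exact (Nat.card_congr ((Subgroup.centralizer ({t} : Set G)).equivMapOfInjective φ hinj).toEquiv).symm
  · rintro x ⟨x', hx', rfl⟩ y ⟨y', hy', rfl⟩
    rw [← map_mul, ← map_mul, hcomm x' hx' y' hy']
  · rw [← Subgroup.map_inf _ _ φ hinj, hinf, MonoidHom.map_zpowers]
    rfl
  · rw [hcent, ← Subgroup.map_sup]
    exact Subgroup.map_mono hsup
  · rw [hcent, ← Subgroup.map_sup, ← hidx]
    exact Subgroup.relIndex_map_map_of_injective _ _ hinj
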