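import Mathlib
import Cfsg.Prelude.Def_GeometricClasses
import Cfsg.Agent.Lib.Helper2.SympGen
import Cfsg.Agent.Lib.Helper28.SympIso

/-!
# Maximality of the stabiliser of a totally singular subspace in the symplectic group (helper28)
-/

set_option autoImplicit false

namespace Cfsg.Agent.Helper28.SpSingMax

open Cfsg Matrix Cfsg.Agent.Helper2.Symp
open scoped Cfsg.Agent.Helper2.Symp

variable {F : Type*} [Field F] {m : ℕ}

/-- `v` is orthogonal to every member of `W` -/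
def Perp (W : Submodule F (Fin m ⊕ Fin m → F)) (v : Fin m ⊕ Fin m → F) : Prop :=
  ∀ w ∈ W, Bf w v = 0

/-- the vectors all of whose transvections lie in `M` -/
def Cen (M : Subgroup (Matrix.symplecticGroup (Fin m) F)) : Set (Fin m ⊕ Fin m → F) :=
  {v | ∀ c : F, tv v c ∈ M}

/-- `g` stabilises `W` -/
def Stab (W : Submodule F (Fin m ⊕ Fin m → F)) (g : Matrix.symplecticGroup (Fin m) F) : Prop :=
  ∀ v, v ∈ W ↔ g • v ∈ W

theorem cen_smul (M : Subgroup (Matrix.symplecticGroup (Fin m) F))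
    (g : Matrix.symplecticGroup (Fin m) F) (hg : g ∈ M) (v : Fin m ⊕ Fin m → F) (hv : v ∈ Cen M) :
    g • v ∈ Cen M := by
  intro c
  rw [← conj_tv]
  exact M.mul_mem (M.mul_mem hg (hv c)) (M.inv_mem hg)

theorem cen_scalar (M : Subgroup (Matrix.symplecticGroup (Fin m) F)) (a : F)
    (v : Fin m ⊕ Fin m → F) (hv : v ∈ Cen M) : a • v ∈ Cen M := by
  intro c
  rw [tv_smul_vec]
  exact hv _

theorem stab_of_maps [Finite F] (W : Submodule F (Fin m ⊕ Fin m → F))
    (g : Matrix.symplecticGroup (Fin m) F) (h : ∀ v ∈ W, g • v ∈ W) : Stab W g := by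
  have hpow : ∀ k : ℕ, ∀ v ∈ W, (g ^ k) • v ∈ W := by
    intro k
    induction k with
    | zero => intro v hv; rw [pow_zero, one_smul]; exact hv
    | succ k ih =>
      intro v hv
      rw [pow_succ, mul_smul]
      exact ih _ (h v hv)
  have hinv : g⁻¹ = g ^ (orderOf g - 1) := by
    rw [inv_eq_iff_mul_eq_one, ← pow_succ']
    have : 0 < orderOf g := orderOf_pos g
    rw [show orderOf g - 1 + 1 = orderOf g by omega]
    exact pow_orderOf_eq_one g
  intro v
  constructor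
  · exact h v
  · intro hv
    have := hpow (orderOf g - 1) _ hv
    rwa [← hinv, inv_smul_smul] at this

theorem tv_stab [Finite F] (W : Submodule F (Fin m ⊕ Fin m → F)) (v : Fin m ⊕ Fin m → F)
    (hv : Perp W v) (c : F) : Stab W (tv v c) := by
  apply stab_of_maps
  intro x hx
  rw [tv_smul, hv x hx, mul_zero, zero_smul, add_zero]
  exact hx

theorem perp_mem_cen [Finite F] (W : Submodule F (Fin m ⊕ Fin m → F))
    (M : Subgroup (Matrix.symplecticGroup (Fin m) F)) (hPM : ∀ g, Stab W g → g ∈ M)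
    (v : Fin m ⊕ Fin m → F) (hv : Perp W v) : v ∈ Cen M :=
  fun c => hPM _ (tv_stab W v hv c)

theorem hyp_mem_cen (M : Subgroup (Matrix.symplecticGroup (Fin m) F)) (a b : Fin m ⊕ Fin m → F)
    (ha : a ∈ Cen M) (hb : b ∈ Cen M) (hab : Bf a b ≠ 0) (t : F) : a + t • b ∈ Cen M := by
  have := cen_smul M (tv b (t * (Bf a b)⁻¹)) (hb _) a ha
  rwa [tv_smul, mul_assoc, inv_mul_cancel₀ hab, mul_one] at this

theorem perp_of_mem (W : Submodule F (Fin m ⊕ Fin m → F)) (hW : ∀ u ∈ W, ∀ v ∈ W, Bf u v = 0)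
    (a : Fin m ⊕ Fin m → F) (ha : a ∈ W) : Perp W a := fun w hw => hW w hw a ha

theorem step1 [Finite F] (W : Submodule F (Fin m ⊕ Fin m → F)) (hW : ∀ u ∈ W, ∀ v ∈ W, Bf u v = 0)
    (M : Subgroup (Matrix.symplecticGroup (Fin m) F)) (hPM : ∀ g, Stab W g → g ∈ M)
    (u' b : Fin m ⊕ Fin m → F) (hu' : u' ∈ Cen M) (hu'W : ¬ Perp W u') (hb : Perp W b) :
    u' + b ∈ Cen M := by
  by_cases h0 : Bf u' b = 0
  · unfold Perp at hu'W
    push Not at hu'W
    obtain ⟨w, hw, hwu⟩ := hu'W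
    have hwu' : Bf u' w ≠ 0 := by
      rw [Bf_skew]; exact neg_ne_zero.mpr hwu
    have h1 : u' + w ∈ Cen M := by
      have := hyp_mem_cen M u' w hu' (perp_mem_cen W M hPM w (perp_of_mem W hW w hw)) hwu' 1
      rwa [one_smul] at this
    have hbw : Perp W (b - w) := by
      intro x hx
      rw [Bf_sub_right, hb x hx, hW x hx w hw, sub_zero]
    have h2 : Bf (u' + w) (b - w) ≠ 0 := by
      rw [Bf_add_left, Bf_sub_right, Bf_sub_right, h0, Bf_self, hb w hw, sub_zero, zero_sub, add_zero]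
      exact neg_ne_zero.mpr hwu'
    have := hyp_mem_cen M (u' + w) (b - w) h1 (perp_mem_cen W M hPM _ hbw) h2 1
    rw [one_smul] at this
    have e : u' + w + (b - w) = u' + b := by abel
    rwa [e] at this
  · have := hyp_mem_cen M u' b hu' (perp_mem_cen W M hPM b hb) h0 1
    rwa [one_smul] at this

/-- the product of three transvections moving `x` to `x + B(x,a) b + B(x,b) a` -/
def sieg (a b : Fin m ⊕ Fin m → F) : Matrix.symplecticGroup (Fin m) F :=
  tv (a + b) 1 * tv a (-1) * tv b (-1)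

theorem sieg_smul (a b : Fin m ⊕ Fin m → F) (hab : Bf a b = 0) (x : Fin m ⊕ Fin m → F) :
    sieg a b • x = x + Bf x a • b + Bf x b • a := by
  have hba : Bf b a = 0 := by rw [Bf_skew, hab, neg_zero]
  unfold sieg
  rw [mul_smul, mul_smul, tv_smul, tv_smul, tv_smul]
  simp only [Bf_add_left, Bf_add_right, Bf_smul_left, Bf_self, hab, hba, mul_zero, add_zero,
    one_mul]
  module

theorem sieg_stab [Finite F] (W : Submodule F (Fin m ⊕ Fin m → F))
    (hW : ∀ u ∈ W, ∀ v ∈ W, Bf u v = 0) (a b : Fin m ⊕ Fin m → F) (ha : a ∈ W) (hab : Bf a b = 0) :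
    Stab W (sieg a b) := by
  apply stab_of_maps
  intro x hx
  rw [sieg_smul a b hab, hW x hx a ha, zero_smul, add_zero]
  exact W.add_mem hx (W.smul_mem _ ha)

theorem dichotomy (W : Submodule F (Fin m ⊕ Fin m → F)) (u u' : Fin m ⊕ Fin m → F)
    (hu' : ¬ Perp W u') :
    (∃ c : F, ∀ x ∈ W, Bf x u = c * Bf x u') ∨ (∃ a ∈ W, Bf a u' = 1 ∧ Bf a u = 1) := by
  unfold Perp at hu'
  push Not at hu'
  obtain ⟨a₀, ha₀, ha₀u⟩ := hu'
  obtain ⟨a₁, ha₁, ha₁u⟩ : ∃ a₁ ∈ W, Bf a₁ u' = 1 :=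
    ⟨(Bf a₀ u')⁻¹ • a₀, W.smul_mem _ ha₀, by rw [Bf_smul_left, inv_mul_cancel₀ ha₀u]⟩
  by_cases hker : ∀ x ∈ W, Bf x u' = 0 → Bf x u = 0
  · left
    refine ⟨Bf a₁ u, fun x hx => ?_⟩
    have hy : x - Bf x u' • a₁ ∈ W := W.sub_mem hx (W.smul_mem _ ha₁)
    have h1 : Bf (x - Bf x u' • a₁) u' = 0 := by
      rw [Bf_sub_left, Bf_smul_left, ha₁u, mul_one, sub_self]
    have h2 := hker _ hy h1
    rw [Bf_sub_left, Bf_smul_left, sub_eq_zero] at h2
    rw [h2, mul_comm]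
  · right
    push Not at hker
    obtain ⟨x, hx, hxu', hxu⟩ := hker
    refine ⟨a₁ + ((1 - Bf a₁ u) * (Bf x u)⁻¹) • x, W.add_mem ha₁ (W.smul_mem _ hx), ?_, ?_⟩
    · rw [Bf_add_left, Bf_smul_left, hxu', mul_zero, add_zero, ha₁u]
    · rw [Bf_add_left, Bf_smul_left, mul_assoc, inv_mul_cancel₀ hxu, mul_one]
      ring

/-- a vector outside `W` is not orthogonal to the whole of the orthogonal of `W` -/
theorem exists_perp_witness (W : Submodule F (Fin m ⊕ Fin m → F)) (x : Fin m ⊕ Fin m → F)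
    (hx : x ∉ W) : ∃ y, Perp W y ∧ Bf x y = 1 := by
  obtain ⟨f, hfu, hfM⟩ := Submodule.exists_dual_map_eq_bot_of_notMem hx inferInstance
  set φ : (Fin m ⊕ Fin m → F) →ₗ[F] F := (f x)⁻¹ • f with hφ
  have hφM : ∀ w ∈ W, φ w = 0 := by
    intro w hw
    have : f w ∈ W.map f := Submodule.mem_map_of_mem hw
    rw [hfM, Submodule.mem_bot] at this
    simp [hφ, this]
  have hφu : φ x = 1 := by
    simp [hφ, hfu]
  set l : Fin m ⊕ Fin m → F := fun i => φ (fun j => if i = j then 1 else 0) with hl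
  have hlφ : ∀ z, z ⬝ᵥ l = φ z := by
    intro z
    rw [LinearMap.pi_apply_eq_sum_univ φ z, dotProduct]
    apply Finset.sum_congr rfl
    intro i _
    rw [smul_eq_mul]
  have hJ : ∀ z, Bf z (-(Matrix.J (Fin m) F *ᵥ l)) = φ z := by
    intro z
    rw [Bf_def, Matrix.mulVec_neg, Matrix.mulVec_mulVec, Matrix.J_squared, Matrix.neg_mulVec,
      Matrix.one_mulVec, neg_neg, hlφ]
  exact ⟨-(Matrix.J (Fin m) F *ᵥ l), fun w hw => by rw [hJ, hφM w hw], by rw [hJ, hφu]⟩

theorem exists_outside [Finite F] (W : Submodule F (Fin m ⊕ Fin m → F))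
    (M : Subgroup (Matrix.symplecticGroup (Fin m) F)) (hPM : ∀ g, Stab W g → g ∈ M)
    (h : Matrix.symplecticGroup (Fin m) F) (hhM : h ∈ M) (hhW : ¬ Stab W h) :
    ∃ u', u' ∈ Cen M ∧ ¬ Perp W u' := by
  -- some `g ∈ M` moves some `w ∈ W` outside `W`
  obtain ⟨g, hgM, w, hw, hgw⟩ : ∃ g ∈ M, ∃ w ∈ W, g • w ∉ W := by
    unfold Stab at hhW
    push Not at hhW
    obtain ⟨v, hv⟩ := hhW
    rcases hv with ⟨hv1, hv2⟩ | ⟨hv1, hv2⟩
    · exact ⟨h, hhM, v, hv1, hv2⟩
    · refine ⟨h⁻¹, M.inv_mem hhM, h • v, hv2, ?_⟩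
      rwa [inv_smul_smul]
  obtain ⟨y, hy, hgwy⟩ := exists_perp_witness W _ hgw
  refine ⟨g⁻¹ • y, cen_smul M _ (M.inv_mem hgM) y (perp_mem_cen W M hPM y hy), ?_⟩
  intro hperp
  have h1 := hperp w hw
  rw [← Bf_smul_smul g, smul_inv_smul, hgwy] at h1
  exact one_ne_zero h1

theorem all_mem_cen [Finite F] (W : Submodule F (Fin m ⊕ Fin m → F))
    (hW : ∀ u ∈ W, ∀ v ∈ W, Bf u v = 0)
    (M : Subgroup (Matrix.symplecticGroup (Fin m) F)) (hPM : ∀ g, Stab W g → g ∈ M)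
    (h : Matrix.symplecticGroup (Fin m) F) (hhM : h ∈ M) (hhW : ¬ Stab W h)
    (u : Fin m ⊕ Fin m → F) : u ∈ Cen M := by
  by_cases hu : Perp W u
  · exact perp_mem_cen W M hPM u hu
  obtain ⟨u', hu'M, hu'W⟩ := exists_outside W M hPM h hhM hhW
  have hu2 := hu
  unfold Perp at hu2
  push Not at hu2
  obtain ⟨x₀, hx₀, hx₀u⟩ := hu2
  rcases dichotomy W u u' hu'W with ⟨c, hc⟩ | ⟨a, ha, hau', hau⟩
  · have hc0 : c ≠ 0 := by
      rintro rfl
      apply hu
      intro x hx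
      rw [hc x hx, zero_mul]
    have hb : Perp W (u - c • u') := by
      intro x hx
      rw [Bf_sub_right, Bf_smul_right, hc x hx, sub_self]
    have h1 : ¬ Perp W (c • u') := by
      intro hp
      apply hx₀u
      rw [hc x₀ hx₀, ← Bf_smul_right]
      exact hp x₀ hx₀
    have := step1 W hW M hPM (c • u') (u - c • u') (cen_scalar M c u' hu'M) h1 hb
    rwa [add_sub_cancel] at this
  · have hab : Bf a (u' - u) = 0 := by rw [Bf_sub_right, hau', hau, sub_self]
    have hg : sieg a (u' - u) ∈ M := hPM _ (sieg_stab W hW a (u' - u) ha hab)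
    have h1 := cen_smul M _ hg u' hu'M
    rw [sieg_smul a _ hab] at h1
    have hu'a : Bf u' a = -1 := by rw [Bf_skew, hau']
    have e : u' + Bf u' a • (u' - u) + Bf u' (u' - u) • a = u + Bf u' (u' - u) • a := by
      rw [hu'a]; module
    rw [e] at h1
    set μ := Bf u' (u' - u) with hμ
    have h2 : ¬ Perp W (u + μ • a) := by
      intro hp
      apply hx₀u
      have := hp x₀ hx₀
      rwa [Bf_add_right, Bf_smul_right, hW x₀ hx₀ a ha, mul_zero, add_zero] at this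
    have hb : Perp W (-(μ • a)) := by
      intro x hx
      rw [Bf_neg_right, Bf_smul_right, hW x hx a ha, mul_zero, neg_zero]
    have := step1 W hW M hPM _ _ h1 h2 hb
    rwa [add_neg_cancel_right] at this

theorem eq_top_of_stab_lt [Finite F] (W : Submodule F (Fin m ⊕ Fin m → F))
    (hW : ∀ u ∈ W, ∀ v ∈ W, Bf u v = 0)
    (M : Subgroup (Matrix.symplecticGroup (Fin m) F)) (hPM : ∀ g, Stab W g → g ∈ M)
    (h : Matrix.symplecticGroup (Fin m) F) (hhM : h ∈ M) (hhW : ¬ Stab W h) : M = ⊤ := by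
  rw [eq_top_iff, ← tvGroup_top_eq_top]
  unfold tvGroup
  rw [Subgroup.closure_le]
  rintro g ⟨x, -, c, rfl⟩
  exact all_mem_cen W hW M hPM h hhM hhW x c

/-- some symplectic element does not stabilise a non-zero totally singular subspace -/
theorem exists_not_stab (W : Submodule F (Fin m ⊕ Fin m → F))
    (hW : ∀ u ∈ W, ∀ v ∈ W, Bf u v = 0) (hW0 : W ≠ ⊥) :
    ∃ g : Matrix.symplecticGroup (Fin m) F, ¬ Stab W g := by
  obtain ⟨w, hwW, hw0⟩ := (Submodule.ne_bot_iff W).mp hW0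
  obtain ⟨x, hx⟩ := exists_Bf_ne_zero hw0
  refine ⟨tv x 1, fun hst => ?_⟩
  have h1 := (hst w).mp hwW
  rw [tv_smul, one_mul] at h1
  have h2 : Bf w x • x ∈ W := (W.add_mem_iff_right hwW).mp h1
  have h3 : x ∈ W := by
    have := W.smul_mem (Bf w x)⁻¹ h2
    rwa [smul_smul, inv_mul_cancel₀ hx, one_smul] at this
  exact hx (hW w hwW x h3)

/-- symplectic matrices as invertible matrices -/
noncomputable def toGLHom (m : ℕ) (F : Type*) [Field F] :
    Matrix.symplecticGroup (Fin m) F →* GL (Fin m ⊕ Fin m) F where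
  toFun g := ⟨(g : Matrix (Fin m ⊕ Fin m) (Fin m ⊕ Fin m) F),
    ((g⁻¹ : Matrix.symplecticGroup (Fin m) F) : Matrix (Fin m ⊕ Fin m) (Fin m ⊕ Fin m) F),
    congrArg Subtype.val (mul_inv_cancel g), congrArg Subtype.val (inv_mul_cancel g)⟩
  map_one' := Units.ext rfl
  map_mul' _ _ := Units.ext rfl

theorem toGLHom_val (g : Matrix.symplecticGroup (Fin m) F) :
    ((toGLHom m F g : GL (Fin m ⊕ Fin m) F) : Matrix (Fin m ⊕ Fin m) (Fin m ⊕ Fin m) F) =
      (g : Matrix (Fin m ⊕ Fin m) (Fin m ⊕ Fin m) F) := rfl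

theorem toGLHom_mem_spGL (g : Matrix.symplecticGroup (Fin m) F) : toGLHom m F g ∈ Cfsg.spGL m F := by
  intro u v
  exact Bf_mulVec g.2 u v

theorem exists_of_mem_spGL (x : GL (Fin m ⊕ Fin m) F) (hx : x ∈ Cfsg.spGL m F) :
    ∃ g : Matrix.symplecticGroup (Fin m) F, toGLHom m F g = x := by
  have hx' : ∀ u v, Cfsg.sympForm m F ((x : Matrix (Fin m ⊕ Fin m) (Fin m ⊕ Fin m) F) *ᵥ u)
      ((x : Matrix (Fin m ⊕ Fin m) (Fin m ⊕ Fin m) F) *ᵥ v) = Cfsg.sympForm m F u v := hx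
  exact ⟨⟨_, Cfsg.Agent.Helper28.SympIso.mem_symplectic_of_preserves m hx'⟩, Units.ext rfl⟩

theorem toGLHom_mem_stabilizer_iff (W : Submodule F (Fin m ⊕ Fin m → F))
    (g : Matrix.symplecticGroup (Fin m) F) :
    toGLHom m F g ∈ Cfsg.Geo.subspaceStabilizer W ↔ Stab W g := Iff.rfl

/-- the stabiliser of a non-zero totally singular subspace is maximal in the symplectic group -/
theorem maximal_spGL [Finite F] (W : Submodule F (Fin m ⊕ Fin m → F)) (hW0 : W ≠ ⊥)
    (hW : Cfsg.Geo.IsTotallySingularFor (Cfsg.sympForm m F) W) :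
    Cfsg.Geo.IsMaximalIn (Cfsg.spGL m F) (Cfsg.Geo.subspaceStabilizer W ⊓ Cfsg.spGL m F) := by
  have hW' : ∀ u ∈ W, ∀ v ∈ W, Bf u v = 0 := hW
  refine ⟨?_, ?_⟩
  · rw [lt_iff_le_and_ne]
    refine ⟨inf_le_right, fun heq => ?_⟩
    obtain ⟨g, hg⟩ := exists_not_stab W hW' hW0
    have h1 : toGLHom m F g ∈ Cfsg.spGL m F := toGLHom_mem_spGL g
    rw [← heq] at h1
    exact hg ((toGLHom_mem_stabilizer_iff W g).mp h1.1)
  · intro M hPM hMG
    by_cases hMP : M ≤ Cfsg.Geo.subspaceStabilizer W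
    · left
      exact le_antisymm (fun x hx => ⟨hMP hx, hMG hx⟩) hPM
    · right
      obtain ⟨h, hhM, hhW⟩ := SetLike.not_le_iff_exists.mp hMP
      obtain ⟨h', rfl⟩ := exists_of_mem_spGL h (hMG hhM)
      have htop : M.comap (toGLHom m F) = ⊤ := by
        apply eq_top_of_stab_lt W hW' _ _ h' hhM
          (fun hst => hhW ((toGLHom_mem_stabilizer_iff W h').mpr hst))
        intro g hg
        exact hPM ⟨(toGLHom_mem_stabilizer_iff W g).mpr hg, toGLHom_mem_spGL g⟩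
      apply le_antisymm hMG
      intro x hx
      obtain ⟨x', rfl⟩ := exists_of_mem_spGL x hx
      have : x' ∈ M.comap (toGLHom m F) := by rw [htop]; exact Subgroup.mem_top _
      exact this

end Cfsg.Agent.Helper28.SpSingMax
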