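import Mathlib
import Cfsg.Prelude.Def_ClassicalGeometry

/-!
# The Borel subgroup of the symplectic group (helper28)
-/

set_option autoImplicit false

namespace Cfsg.Agent.Helper28.SpBorel
open Cfsg Matrix

variable {F : Type*} [Field F] {m : ℕ}

/-- the coordinate flag -/
def flagSet (m : ℕ) (F : Type*) [Field F] (k : Fin m) : Set (Fin m ⊕ Fin m → F) :=
  {v | (∀ i : Fin m, (k : ℕ) < (i : ℕ) → v (Sum.inl i) = 0) ∧ ∀ i : Fin m, v (Sum.inr i) = 0}

/-- the shape of the elements of the Borel subgroup -/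
def IsB (g : Matrix (Fin m ⊕ Fin m) (Fin m ⊕ Fin m) F) : Prop :=
  g.toBlocks₂₁ = 0 ∧ g.toBlocks₁₁.BlockTriangular id

theorem mulVec_inl (g : Matrix (Fin m ⊕ Fin m) (Fin m ⊕ Fin m) F) (v : Fin m ⊕ Fin m → F)
    (i : Fin m) : (g *ᵥ v) (Sum.inl i)
      = ∑ j, g.toBlocks₁₁ i j * v (Sum.inl j) + ∑ j, g.toBlocks₁₂ i j * v (Sum.inr j) := by
  simp [Matrix.mulVec, dotProduct, Fintype.sum_sum_type, Matrix.toBlocks₁₁, Matrix.toBlocks₁₂]

theorem mulVec_inr (g : Matrix (Fin m ⊕ Fin m) (Fin m ⊕ Fin m) F) (v : Fin m ⊕ Fin m → F)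
    (i : Fin m) : (g *ᵥ v) (Sum.inr i)
      = ∑ j, g.toBlocks₂₁ i j * v (Sum.inl j) + ∑ j, g.toBlocks₂₂ i j * v (Sum.inr j) := by
  simp [Matrix.mulVec, dotProduct, Fintype.sum_sum_type, Matrix.toBlocks₂₁, Matrix.toBlocks₂₂]

theorem isB_of_stab {g : Matrix (Fin m ⊕ Fin m) (Fin m ⊕ Fin m) F}
    (h : ∀ k : Fin m, ∀ v, v ∈ flagSet m F k → g *ᵥ v ∈ flagSet m F k) : IsB g := by
  have key : ∀ j : Fin m, g *ᵥ (Pi.single (Sum.inl j) 1) ∈ flagSet m F j := by
    intro j
    apply h j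
    constructor
    · intro i hi
      rw [Pi.single_apply, if_neg]
      intro h'
      rw [Sum.inl.injEq] at h'
      rw [h'] at hi
      exact lt_irrefl _ hi
    · intro i
      rw [Pi.single_apply, if_neg]
      exact Sum.inr_ne_inl
  constructor
  · ext i j
    have := (key j).2 i
    rw [Matrix.mulVec_single_one] at this
    exact this
  · intro i j hij
    have := (key j).1 i hij
    rw [Matrix.mulVec_single_one] at this
    exact this

theorem stab_of_isB {g : Matrix (Fin m ⊕ Fin m) (Fin m ⊕ Fin m) F} (hg : IsB g)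
    (k : Fin m) (v : Fin m ⊕ Fin m → F) (hv : v ∈ flagSet m F k) : g *ᵥ v ∈ flagSet m F k := by
  constructor
  · intro i hi
    rw [mulVec_inl]
    have h1 : ∑ j, g.toBlocks₁₂ i j * v (Sum.inr j) = 0 := by
      apply Finset.sum_eq_zero
      intro j _
      rw [hv.2 j, mul_zero]
    have h2 : ∑ j, g.toBlocks₁₁ i j * v (Sum.inl j) = 0 := by
      apply Finset.sum_eq_zero
      intro j _
      by_cases hjk : (k : ℕ) < (j : ℕ)
      · rw [hv.1 j hjk, mul_zero]
      · have hji : j < i := by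
          rw [Fin.lt_def]
          omega
        rw [hg.2 hji, zero_mul]
    rw [h1, h2, add_zero]
  · intro i
    rw [mulVec_inr, hg.1]
    have h1 : ∑ j, g.toBlocks₂₂ i j * v (Sum.inr j) = 0 := by
      apply Finset.sum_eq_zero
      intro j _
      rw [hv.2 j, mul_zero]
    rw [h1]
    simp

/-- the Borel subgroup -/
def borel (m : ℕ) (F : Type*) [Field F] : Subgroup (Matrix.symplecticGroup (Fin m) F) :=
  ⨅ k : Fin m, Cfsg.stabilizing (Cfsg.spToMat m F) (flagSet m F k)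

theorem mem_borel_iff [Finite F] (g : Matrix.symplecticGroup (Fin m) F) :
    g ∈ borel m F ↔ IsB (g : Matrix (Fin m ⊕ Fin m) (Fin m ⊕ Fin m) F) := by
  constructor
  · intro hg
    apply isB_of_stab
    intro k v hv
    have := Subgroup.mem_iInf.1 hg k
    exact (this v).1 hv
  · intro hg
    have hpow : ∀ n : ℕ, ∀ k : Fin m, ∀ v, v ∈ flagSet m F k →
        ((g ^ n : Matrix.symplecticGroup (Fin m) F) :
          Matrix (Fin m ⊕ Fin m) (Fin m ⊕ Fin m) F) *ᵥ v ∈ flagSet m F k := by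
      intro n
      induction n with
      | zero =>
        intro k v hv
        rw [pow_zero]
        show (1 : Matrix (Fin m ⊕ Fin m) (Fin m ⊕ Fin m) F) *ᵥ v ∈ _
        rw [Matrix.one_mulVec]
        exact hv
      | succ n ih =>
        intro k v hv
        rw [pow_succ]
        show (((g ^ n : Matrix.symplecticGroup (Fin m) F) :
          Matrix (Fin m ⊕ Fin m) (Fin m ⊕ Fin m) F)
          * (g : Matrix (Fin m ⊕ Fin m) (Fin m ⊕ Fin m) F)) *ᵥ v ∈ _
        rw [← Matrix.mulVec_mulVec]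
        exact ih k _ (stab_of_isB hg k v hv)
    apply Subgroup.mem_iInf.2
    intro k v
    constructor
    · exact stab_of_isB hg k v
    · intro hv
      change (g : Matrix (Fin m ⊕ Fin m) (Fin m ⊕ Fin m) F) *ᵥ v ∈ flagSet m F k at hv
      have : Finite (Matrix.symplecticGroup (Fin m) F) := by
        apply Finite.of_injective (fun g : Matrix.symplecticGroup (Fin m) F =>
          (g : Matrix (Fin m ⊕ Fin m) (Fin m ⊕ Fin m) F)) Subtype.val_injective
      have hinv : g⁻¹ = g ^ (orderOf g - 1) := by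
        apply inv_eq_of_mul_eq_one_right
        rw [← pow_succ', Nat.sub_add_cancel (orderOf_pos g), pow_orderOf_eq_one]
      have h2 := hpow (orderOf g - 1) k _ hv
      rw [← hinv, Matrix.mulVec_mulVec] at h2
      have h3 : ((g⁻¹ : Matrix.symplecticGroup (Fin m) F) :
          Matrix (Fin m ⊕ Fin m) (Fin m ⊕ Fin m) F)
          * (g : Matrix (Fin m ⊕ Fin m) (Fin m ⊕ Fin m) F) = 1 :=
        congrArg Subtype.val (inv_mul_cancel g)
      rw [h3, Matrix.one_mulVec] at h2
      exact h2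

theorem symp_blocks (A B D : Matrix (Fin m) (Fin m) F) :
    fromBlocks A B 0 D ∈ Matrix.symplecticGroup (Fin m) F ↔ A * Dᵀ = 1 ∧ B * Aᵀ = A * Bᵀ := by
  rw [SymplecticGroup.mem_iff, Matrix.J, fromBlocks_transpose, fromBlocks_multiply,
    fromBlocks_multiply, fromBlocks_inj]
  simp only [Matrix.mul_zero, Matrix.zero_mul, Matrix.mul_one, zero_add, add_zero, Matrix.mul_neg,
    Matrix.neg_mul, transpose_zero, neg_inj, neg_zero]
  constructor
  · rintro ⟨h1, h2, h3, -⟩
    refine ⟨h2, ?_⟩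
    exact add_neg_eq_zero.1 h1
  · rintro ⟨h1, h2⟩
    refine ⟨add_neg_eq_zero.2 h2, h1, ?_, trivial⟩
    have := congrArg Matrix.transpose h1
    rwa [transpose_mul, transpose_transpose, transpose_one] at this

/-- the upper triangular block built from a diagonal and a matrix -/
def Amat (d : Fin m → Fˣ) (M : Matrix (Fin m) (Fin m) F) : Matrix (Fin m) (Fin m) F :=
  Matrix.of fun i j => if i < j then M i j else if i = j then (d i : F) else 0

/-- the symmetric block built from a matrix -/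
def Smat (M : Matrix (Fin m) (Fin m) F) : Matrix (Fin m) (Fin m) F :=
  Matrix.of fun i j => if j ≤ i then M i j else M j i

theorem Amat_apply (d : Fin m → Fˣ) (M : Matrix (Fin m) (Fin m) F) (i j : Fin m) :
    Amat d M i j = if i < j then M i j else if i = j then (d i : F) else 0 := rfl

theorem Smat_apply (M : Matrix (Fin m) (Fin m) F) (i j : Fin m) :
    Smat M i j = if j ≤ i then M i j else M j i := rfl

theorem Amat_blockTriangular (d : Fin m → Fˣ) (M : Matrix (Fin m) (Fin m) F) :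
    (Amat d M).BlockTriangular id := by
  intro i j hij
  have hij' : j < i := hij
  rw [Amat_apply, if_neg (not_lt.2 hij'.le), if_neg hij'.ne']

theorem det_Amat (d : Fin m → Fˣ) (M : Matrix (Fin m) (Fin m) F) :
    (Amat d M).det = ∏ i, (d i : F) := by
  rw [Matrix.det_of_upperTriangular (Amat_blockTriangular d M)]
  apply Finset.prod_congr rfl
  intro i _
  rw [Amat_apply, if_neg (lt_irrefl i), if_pos rfl]

theorem isUnit_det_Amat (d : Fin m → Fˣ) (M : Matrix (Fin m) (Fin m) F) :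
    IsUnit (Amat d M).det := by
  rw [det_Amat, isUnit_iff_ne_zero]
  exact Finset.prod_ne_zero_iff.2 (fun i _ => (d i).ne_zero)

theorem Smat_transpose (M : Matrix (Fin m) (Fin m) F) : (Smat M)ᵀ = Smat M := by
  ext i j
  rw [transpose_apply, Smat_apply, Smat_apply]
  rcases lt_trichotomy i j with h | h | h
  · rw [if_pos h.le, if_neg (not_le.2 h)]
  · rw [h]
  · rw [if_neg (not_le.2 h), if_pos h.le]

/-- the element of the Borel subgroup with given parameters -/
noncomputable def gmat (d : Fin m → Fˣ) (M : Matrix (Fin m) (Fin m) F) :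
    Matrix (Fin m ⊕ Fin m) (Fin m ⊕ Fin m) F :=
  fromBlocks (Amat d M) (Amat d M * Smat M) 0 ((Amat d M)⁻¹)ᵀ

theorem gmat_mem (d : Fin m → Fˣ) (M : Matrix (Fin m) (Fin m) F) :
    gmat d M ∈ Matrix.symplecticGroup (Fin m) F := by
  rw [gmat, symp_blocks]
  constructor
  · rw [transpose_transpose, Matrix.mul_nonsing_inv _ (isUnit_det_Amat d M)]
  · rw [transpose_mul, Smat_transpose, Matrix.mul_assoc]

theorem gmat_isB (d : Fin m → Fˣ) (M : Matrix (Fin m) (Fin m) F) : IsB (gmat d M) := by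
  constructor
  · rw [gmat, toBlocks_fromBlocks₂₁]
  · rw [gmat, toBlocks_fromBlocks₁₁]
    exact Amat_blockTriangular d M

section decomp

variable {g : Matrix (Fin m ⊕ Fin m) (Fin m ⊕ Fin m) F}

theorem eq_fromBlocks_of_isB (hB : IsB g) :
    g = fromBlocks g.toBlocks₁₁ g.toBlocks₁₂ 0 g.toBlocks₂₂ := by
  conv_lhs => rw [← fromBlocks_toBlocks g, hB.1]

theorem blocks_of_isB (hg : g ∈ Matrix.symplecticGroup (Fin m) F) (hB : IsB g) :
    g.toBlocks₁₁ * g.toBlocks₂₂ᵀ = 1 ∧ g.toBlocks₁₂ * g.toBlocks₁₁ᵀ = g.toBlocks₁₁ * g.toBlocks₁₂ᵀ := by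
  rw [eq_fromBlocks_of_isB hB] at hg
  exact (symp_blocks _ _ _).1 hg

theorem isUnit_det_of_isB (hg : g ∈ Matrix.symplecticGroup (Fin m) F) (hB : IsB g) :
    IsUnit g.toBlocks₁₁.det := by
  have h := congrArg Matrix.det (blocks_of_isB hg hB).1
  rw [det_mul, det_one] at h
  exact IsUnit.of_mul_eq_one _ h

theorem diag_ne_zero_of_isB (hg : g ∈ Matrix.symplecticGroup (Fin m) F) (hB : IsB g) (i : Fin m) :
    g.toBlocks₁₁ i i ≠ 0 := by
  have h := isUnit_det_of_isB hg hB
  rw [Matrix.det_of_upperTriangular hB.2, isUnit_iff_ne_zero] at h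
  exact Finset.prod_ne_zero_iff.1 h i (Finset.mem_univ i)

theorem inv_eq_of_isB (hg : g ∈ Matrix.symplecticGroup (Fin m) F) (hB : IsB g) :
    (g.toBlocks₁₁⁻¹)ᵀ = g.toBlocks₂₂ := by
  rw [Matrix.inv_eq_right_inv (blocks_of_isB hg hB).1, transpose_transpose]

theorem symm_of_isB (hg : g ∈ Matrix.symplecticGroup (Fin m) F) (hB : IsB g) :
    (g.toBlocks₁₁⁻¹ * g.toBlocks₁₂)ᵀ = g.toBlocks₁₁⁻¹ * g.toBlocks₁₂ := by
  have hu := isUnit_det_of_isB hg hB
  have h2 := (blocks_of_isB hg hB).2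
  have hu' : IsUnit g.toBlocks₁₁ᵀ.det := by rw [det_transpose]; exact hu
  -- A⁻¹ B = Bᵀ (Aᵀ)⁻¹
  rw [transpose_mul, transpose_nonsing_inv]
  symm
  calc g.toBlocks₁₁⁻¹ * g.toBlocks₁₂
      = g.toBlocks₁₁⁻¹ * g.toBlocks₁₂ * (g.toBlocks₁₁ᵀ * (g.toBlocks₁₁ᵀ)⁻¹) := by
        rw [Matrix.mul_nonsing_inv _ hu', Matrix.mul_one]
    _ = g.toBlocks₁₁⁻¹ * (g.toBlocks₁₂ * g.toBlocks₁₁ᵀ) * (g.toBlocks₁₁ᵀ)⁻¹ := by
        simp only [Matrix.mul_assoc]
    _ = g.toBlocks₁₁⁻¹ * (g.toBlocks₁₁ * g.toBlocks₁₂ᵀ) * (g.toBlocks₁₁ᵀ)⁻¹ := by rw [h2]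
    _ = (g.toBlocks₁₁⁻¹ * g.toBlocks₁₁) * g.toBlocks₁₂ᵀ * (g.toBlocks₁₁ᵀ)⁻¹ := by
        simp only [Matrix.mul_assoc]
    _ = g.toBlocks₁₂ᵀ * (g.toBlocks₁₁ᵀ)⁻¹ := by
        rw [Matrix.nonsing_inv_mul _ hu, Matrix.one_mul]

end decomp

/-- the parameters of an element of the Borel subgroup -/
noncomputable def params (g : Matrix (Fin m ⊕ Fin m) (Fin m ⊕ Fin m) F)
    (hg : g ∈ Matrix.symplecticGroup (Fin m) F) (hB : IsB g) :
    (Fin m → Fˣ) × Matrix (Fin m) (Fin m) F :=
  (fun i => Units.mk0 (g.toBlocks₁₁ i i) (diag_ne_zero_of_isB hg hB i),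
    Matrix.of fun i j => if i < j then g.toBlocks₁₁ i j else (g.toBlocks₁₁⁻¹ * g.toBlocks₁₂) i j)

theorem gmat_params (g : Matrix (Fin m ⊕ Fin m) (Fin m ⊕ Fin m) F)
    (hg : g ∈ Matrix.symplecticGroup (Fin m) F) (hB : IsB g) :
    gmat (params g hg hB).1 (params g hg hB).2 = g := by
  have hA : Amat (params g hg hB).1 (params g hg hB).2 = g.toBlocks₁₁ := by
    ext i j
    rw [Amat_apply]
    rcases lt_trichotomy i j with h | h | h
    · rw [if_pos h]
      simp [params, h]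
    · subst h
      rw [if_neg (lt_irrefl i), if_pos rfl]
      rfl
    · rw [if_neg (lt_asymm h), if_neg (ne_of_gt h)]
      exact (hB.2 h).symm
  have hS : Smat (params g hg hB).2 = g.toBlocks₁₁⁻¹ * g.toBlocks₁₂ := by
    ext i j
    rw [Smat_apply]
    by_cases h : j ≤ i
    · rw [if_pos h]
      simp [params, not_lt.2 h]
    · rw [if_neg h]
      have h' : ¬ j < i := fun h'' => h h''.le
      have := congrFun (congrFun (symm_of_isB hg hB) i) j
      rw [transpose_apply] at this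
      simp only [params, of_apply, if_neg h']
      exact this
  rw [gmat, hA, hS, ← Matrix.mul_assoc, Matrix.mul_nonsing_inv _ (isUnit_det_of_isB hg hB),
    Matrix.one_mul, inv_eq_of_isB hg hB]
  exact (eq_fromBlocks_of_isB hB).symm

theorem params_gmat (d : Fin m → Fˣ) (M : Matrix (Fin m) (Fin m) F) :
    params (gmat d M) (gmat_mem d M) (gmat_isB d M) = (d, M) := by
  have h11 : (gmat d M).toBlocks₁₁ = Amat d M := by rw [gmat, toBlocks_fromBlocks₁₁]
  have h12 : (gmat d M).toBlocks₁₂ = Amat d M * Smat M := by rw [gmat, toBlocks_fromBlocks₁₂]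
  apply Prod.ext
  · funext i
    apply Units.ext
    show (gmat d M).toBlocks₁₁ i i = d i
    rw [h11, Amat_apply, if_neg (lt_irrefl i), if_pos rfl]
  · ext i j
    show (if i < j then (gmat d M).toBlocks₁₁ i j
      else ((gmat d M).toBlocks₁₁⁻¹ * (gmat d M).toBlocks₁₂) i j) = M i j
    rw [h11, h12, ← Matrix.mul_assoc, Matrix.nonsing_inv_mul _ (isUnit_det_Amat d M),
      Matrix.one_mul]
    by_cases h : i < j
    · rw [if_pos h, Amat_apply, if_pos h]
    · rw [if_neg h, Smat_apply, if_pos (not_lt.1 h)]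

/-- the Borel subgroup is parametrised by a diagonal and a matrix -/
noncomputable def borelEquiv [Finite F] :
    ↥(borel m F) ≃ (Fin m → Fˣ) × Matrix (Fin m) (Fin m) F where
  toFun g := params (g : Matrix.symplecticGroup (Fin m) F).1 g.1.2 ((mem_borel_iff g.1).1 g.2)
  invFun p := ⟨⟨gmat p.1 p.2, gmat_mem p.1 p.2⟩, (mem_borel_iff _).2 (gmat_isB p.1 p.2)⟩
  left_inv g := by
    apply Subtype.ext
    apply Subtype.ext
    exact gmat_params _ _ _
  right_inv p := params_gmat p.1 p.2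

theorem card_borel [Fintype F] :
    Nat.card ↥(borel m F) = Fintype.card F ^ (m ^ 2) * (Fintype.card F - 1) ^ m := by
  rw [Nat.card_congr borelEquiv, Nat.card_prod, Nat.card_fun, Nat.card_units, Matrix,
    Nat.card_fun, Nat.card_fun, Nat.card_eq_fintype_card (α := Fin m), Fintype.card_fin,
    Nat.card_eq_fintype_card (α := F), ← pow_mul, sq, mul_comm]

end Cfsg.Agent.Helper28.SpBorel
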