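import Mathlib
import Cfsg.Agent.Lib.Helper28.PADefs

set_option autoImplicit false

namespace Cfsg.Agent.Helper28.PA

open scoped Pointwise

variable {G : Type*} [Group G]

/-- Key lemma: if `α` (of order prime to `p`) fixes the `p`-group `F` pointwise, `Q ≤ F` and
`C_G(Q) ≤ F`, then `α` fixes `N_G(Q)` pointwise. -/
theorem fix_normalizer (p : ℕ) [Fact p.Prime] (α : MulAut G)
    (hα : ¬ p ∣ orderOf α) (F : Subgroup G) (hF : IsPGroup p F) (hfix : ∀ x ∈ F, α x = x)
    (Q : Subgroup G) (hQF : Q ≤ F) (hC : Subgroup.centralizer (Q : Set G) ≤ F) :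
    ∀ x ∈ Subgroup.normalizer (Q : Set G), α x = x := by
  intro x hx
  set z : G := x⁻¹ * α x with hz
  have hzC : z ∈ Subgroup.centralizer (Q : Set G) := by
    rw [Subgroup.mem_centralizer_iff]
    intro q hq
    have hq' : x * q * x⁻¹ ∈ Q := (Subgroup.mem_normalizer_iff.mp hx q).mp hq
    have h1 : α (x * q * x⁻¹) = x * q * x⁻¹ := hfix _ (hQF hq')
    have h2 : α q = q := hfix _ (hQF hq)
    rw [map_mul, map_mul, map_inv, h2] at h1
    -- h1 : α x * q * (α x)⁻¹ = x * q * x⁻¹
    have h3 : α x * q = x * q * x⁻¹ * α x := by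
      rw [← h1]; group
    show q * z = z * q
    rw [hz]
    calc q * (x⁻¹ * α x) = x⁻¹ * (x * q * x⁻¹ * α x) := by group
      _ = x⁻¹ * (α x * q) := by rw [h3]
      _ = x⁻¹ * α x * q := by group
  have hzF : z ∈ F := hC hzC
  have hαz : α z = z := hfix z hzF
  have hpow : ∀ k : ℕ, (α ^ k) x = x * z ^ k := by
    intro k
    induction k with
    | zero => simp
    | succ k ih =>
      rw [pow_succ', MulAut.mul_apply, ih, map_mul, map_pow, hαz, pow_succ' z k, ← mul_assoc x z]
      congr 1
      rw [hz, mul_inv_cancel_left]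
  have h1 : x * z ^ orderOf α = x := by
    rw [← hpow, pow_orderOf_eq_one]; rfl
  have hz1 : z ^ orderOf α = 1 := by
    have := mul_left_cancel (a := x) (b := z ^ orderOf α) (c := 1) (by rw [h1, mul_one])
    exact this
  obtain ⟨m, hm⟩ := hF ⟨z, hzF⟩
  have hm' : z ^ p ^ m = 1 := by
    have := congrArg Subtype.val hm
    simpa using this
  have hcop : Nat.Coprime (orderOf α) (p ^ m) := by
    apply Nat.Coprime.pow_right
    exact ((Nat.Prime.coprime_iff_not_dvd (Fact.out)).mpr hα).symm
  have hzone : z = 1 := by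
    have hd1 : orderOf z ∣ orderOf α := orderOf_dvd_of_pow_eq_one hz1
    have hd2 : orderOf z ∣ p ^ m := orderOf_dvd_of_pow_eq_one hm'
    have : orderOf z = 1 := Nat.eq_one_of_dvd_coprimes hcop hd1 hd2
    exact orderOf_eq_one_iff.mp this
  have : x⁻¹ * α x = 1 := by rw [← hz]; exact hzone
  have h5 := eq_of_inv_mul_eq_one this
  exact h5.symm

/-- `Good p G` implies the conclusion of S4613 for `G`. -/
theorem noPAut_of_good (p : ℕ) [Fact p.Prime] [Finite G] (h : Good p G) : NoPAut p G := by
  obtain ⟨U, hU, hgen⟩ := h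
  intro α hα P hfix
  -- `U` lies in a conjugate of `P`
  obtain ⟨P', hP'⟩ := hU.exists_le_sylow
  obtain ⟨g, hg⟩ := MulAction.exists_smul_eq G P P'
  -- the conjugated automorphism
  set β : MulAut G := MulAut.conj g * α * (MulAut.conj g)⁻¹ with hβ
  have hord : orderOf β = orderOf α := by
    have := MulEquiv.orderOf_eq (MulAut.conj (MulAut.conj g)) α
    rw [← this]; rfl
  have hβfix : ∀ y ∈ U, β y = y := by
    intro y hy
    have hy' : y ∈ (P' : Subgroup G) := hP' hy
    rw [← hg] at hy'
    have h1 : g⁻¹ * y * g ∈ (P : Subgroup G) := by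
      have h0 : y ∈ (MulAut.conj g • (P : Subgroup G)) := hy'
      rw [Subgroup.mem_pointwise_smul_iff_inv_smul_mem] at h0
      simpa [MulAut.smul_def, MulAut.conj_apply] using h0
    have h2 := hfix _ h1
    show (MulAut.conj g) (α ((MulAut.conj g)⁻¹ y)) = y
    rw [MulAut.conj_inv_apply, h2, MulAut.conj_apply]
    group
  have hall : ∀ x : G, β x = x := by
    intro x
    have hx : x ∈ Subgroup.closure {x : G | ∃ Q : Subgroup G, Q ≤ U ∧
        Subgroup.centralizer (Q : Set G) ≤ U ∧ x ∈ Subgroup.normalizer (Q : Set G)} := by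
      rw [hgen]; trivial
    induction hx using Subgroup.closure_induction with
    | mem y hy =>
      obtain ⟨Q, hQU, hC, hyN⟩ := hy
      exact fix_normalizer p β (by rw [hord]; exact hα) U hU hβfix Q hQU hC y hyN
    | one => simp
    | mul a b _ _ ha hb => rw [map_mul, ha, hb]
    | inv a _ ha => rw [map_inv, ha]
  have hβ1 : β = 1 := by
    ext x; simpa using hall x
  rw [hβ] at hβ1
  have : α = (MulAut.conj g)⁻¹ * 1 * MulAut.conj g := by
    rw [← hβ1]; group
  simpa using this

/-- `NoPAut` is invariant under isomorphism. -/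
theorem NoPAut.of_equiv {H : Type*} [Group H] (p : ℕ) [Fact p.Prime] [Finite G] (e : G ≃* H)
    (h : NoPAut p G) : NoPAut p H := by
  have : Finite H := Finite.of_equiv G e.toEquiv
  intro α hα P hfix
  set β : MulAut G := (e.trans α).trans e.symm with hβ
  have hβapp : ∀ x, β x = e.symm (α (e x)) := fun x => rfl
  have hpow : ∀ k : ℕ, ∀ x, (β ^ k) x = e.symm ((α ^ k) (e x)) := by
    intro k
    induction k with
    | zero => intro x; simp
    | succ k ih =>
      intro x
      rw [pow_succ', MulAut.mul_apply, ih, hβapp, pow_succ', MulAut.mul_apply]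
      simp
  have hdvd : orderOf β ∣ orderOf α := by
    apply orderOf_dvd_of_pow_eq_one
    ext x
    rw [hpow, pow_orderOf_eq_one]; simp
  have hβord : ¬ p ∣ orderOf β := fun hd => hα (dvd_trans hd hdvd)
  -- the Sylow subgroup of `G` corresponding to `P`
  let P' : Sylow p G := P.comapOfInjective e.toMonoidHom e.injective (by
    intro y _; exact ⟨e.symm y, by simp⟩)
  have hmem : ∀ x, x ∈ (P' : Subgroup G) ↔ e x ∈ (P : Subgroup H) := by
    intro x
    show x ∈ (P : Subgroup H).comap e.toMonoidHom ↔ _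
    simp
  have hfix' : ∀ x ∈ (P' : Subgroup G), β x = x := by
    intro x hx
    rw [hβapp, hfix _ ((hmem x).mp hx)]; simp
  have hβ1 := h β hβord P' hfix'
  ext y
  have := congrArg (fun f : MulAut G => f (e.symm y)) hβ1
  simp only [hβapp, MulAut.one_apply] at this
  simpa using congrArg e this

end Cfsg.Agent.Helper28.PA
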