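import Mathlib
import Cfsg.Agent.Lib.Helper28.PACore

set_option autoImplicit false

namespace Cfsg.Agent.Helper28.PA

variable {X : Type*} [Group X]

/-- a central element killed by a power of `p` is trivial if the centre has no element of order `p` -/
theorem center_ppow_eq_one (p : ℕ) (hZ : ∀ z ∈ Subgroup.center X, z ^ p = 1 → z = 1)
    (z : X) (hz : z ∈ Subgroup.center X) (m : ℕ) (h : z ^ p ^ m = 1) : z = 1 := by
  induction m generalizing z with
  | zero => simpa using h
  | succ m ih =>
    have h1 : (z ^ p) ^ p ^ m = 1 := by rw [← pow_mul, ← pow_succ']; exact h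
    have h2 : z ^ p = 1 := ih (z ^ p) (Subgroup.pow_mem _ hz p) h1
    exact hZ z hz h2

/-- Passing to the quotient by the centre. -/
theorem good_quotient_center (p : ℕ) [Fact p.Prime]
    (hZ : ∀ z ∈ Subgroup.center X, z ^ p = 1 → z = 1)
    (h : GoodZ p X (Subgroup.center X)) : Good p (X ⧸ Subgroup.center X) := by
  obtain ⟨U, hU, hgen⟩ := h
  set π : X →* X ⧸ Subgroup.center X := QuotientGroup.mk' (Subgroup.center X) with hπ
  have hπs : Function.Surjective π := QuotientGroup.mk'_surjective _
  refine ⟨U.map π, hU.map π, ?_⟩
  rw [eq_top_iff]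
  intro y _
  obtain ⟨x, rfl⟩ := hπs y
  have hx : x ∈ Subgroup.closure {x : X | ∃ Q : Subgroup X, Q ≤ U ∧
      Subgroup.centralizer (Q : Set X) ≤ U ⊔ Subgroup.center X ∧
      x ∈ Subgroup.normalizer (Q : Set X)} := by rw [hgen]; trivial
  induction hx using Subgroup.closure_induction with
  | one => rw [map_one]; exact Subgroup.one_mem _
  | mul a b _ _ ha hb => rw [map_mul]; exact Subgroup.mul_mem _ (ha trivial) (hb trivial)
  | inv a _ ha => rw [map_inv]; exact Subgroup.inv_mem _ (ha trivial)
  | mem a ha =>
    obtain ⟨Q, hQU, hC, haN⟩ := ha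
    apply Subgroup.subset_closure
    refine ⟨Q.map π, Subgroup.map_mono hQU, ?_, ?_⟩
    · -- centralizer
      intro w hw
      obtain ⟨c, rfl⟩ := hπs w
      have hcC : c ∈ Subgroup.centralizer (Q : Set X) := by
        rw [Subgroup.mem_centralizer_iff]
        intro q hq
        -- z := c q c⁻¹ q⁻¹ is central
        have h1 : π q * π c = π c * π q :=
          (Subgroup.mem_centralizer_iff.mp hw) (π q) (Subgroup.mem_map_of_mem π hq)
        set z : X := c * q * c⁻¹ * q⁻¹ with hz
        have hzc : z ∈ Subgroup.center X := by
          have : π z = 1 := by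
            rw [hz, map_mul, map_mul, map_mul, map_inv, map_inv, ← h1]; group
          rw [hπ, QuotientGroup.mk'_apply, QuotientGroup.eq_one_iff] at this
          exact this
        -- c q^k c⁻¹ = z^k q^k
        have hconj : c * q * c⁻¹ = z * q := by rw [hz]; group
        have hpowk : ∀ k : ℕ, c * q ^ k * c⁻¹ = z ^ k * q ^ k := by
          intro k
          induction k with
          | zero => simp
          | succ k ih =>
            have hzq : ∀ y : X, y * z = z * y := fun y => (Subgroup.mem_center_iff.mp hzc y)
            have hzk : ∀ y : X, y * z ^ k = z ^ k * y := fun y =>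
              (Subgroup.mem_center_iff.mp (Subgroup.pow_mem _ hzc k) y)
            calc c * q ^ (k + 1) * c⁻¹ = (c * q ^ k * c⁻¹) * (c * q * c⁻¹) := by
                  rw [pow_succ]; group
              _ = (z ^ k * q ^ k) * (z * q) := by rw [ih, hconj]
              _ = z ^ k * (q ^ k * z) * q := by group
              _ = z ^ k * (z * q ^ k) * q := by rw [hzq]
              _ = z ^ (k + 1) * q ^ (k + 1) := by rw [pow_succ, pow_succ]; group
        obtain ⟨m, hm⟩ := hU ⟨q, hQU hq⟩
        have hm' : q ^ p ^ m = 1 := by
          have := congrArg Subtype.val hm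
          simpa using this
        have hzpow : z ^ p ^ m = 1 := by
          have := hpowk (p ^ m)
          rw [hm'] at this
          simpa using this.symm
        have hz1 : z = 1 := center_ppow_eq_one p hZ z hzc m hzpow
        have : c * q * c⁻¹ = q := by rw [hconj, hz1, one_mul]
        calc q * c = (c * q * c⁻¹) * c := by rw [this]
          _ = c * q := by group
      have := hC hcC
      rw [Subgroup.mem_sup_of_normal_right] at this
      obtain ⟨u, hu, z, hz, rfl⟩ := this
      rw [map_mul]
      have : π z = 1 := by
        rw [hπ, QuotientGroup.mk'_apply, QuotientGroup.eq_one_iff]; exact hz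
      rw [this, mul_one]
      exact Subgroup.mem_map_of_mem π hu
    · -- normalizer
      rw [Subgroup.mem_normalizer_iff]
      intro w
      obtain ⟨c, rfl⟩ := hπs w
      constructor
      · rintro ⟨q, hq, hqc⟩
        refine ⟨a * q * a⁻¹, (Subgroup.mem_normalizer_iff.mp haN q).mp hq, ?_⟩
        rw [map_mul, map_mul, map_inv, hqc]
      · rintro ⟨q, hq, hqc⟩
        have hq' : a⁻¹ * q * a ∈ Q := by
          have := (Subgroup.mem_normalizer_iff.mp haN (a⁻¹ * q * a)).mpr
          apply this
          have : a * (a⁻¹ * q * a) * a⁻¹ = q := by group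
          rw [this]; exact hq
        refine ⟨a⁻¹ * q * a, hq', ?_⟩
        have : π c = (π a)⁻¹ * (π a * π c * (π a)⁻¹) * π a := by group
        rw [this, ← hqc, map_mul, map_mul, map_inv]

end Cfsg.Agent.Helper28.PA
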