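import Mathlib
import Cfsg.Prelude.Def_LocalStructure
import Cfsg.Agent.Lib.Helper14.StronglyEmbedded
import Cfsg.Agent.Lib.Helper14.Ambient

set_option autoImplicit false

namespace Cfsg.Agent.Helper28

open Cfsg Cfsg.Agent.Helper14

section Abstract

variable {L : Type*} [Group L]

/-- An elementary abelian subgroup is a `p`-group. -/
theorem isPGroup_of_isElementaryAbelian {p : ℕ} {V : Subgroup L} (hV : IsElementaryAbelian p V) :
    IsPGroup p V := by
  intro v
  refine ⟨1, ?_⟩
  rw [pow_one]
  apply Subtype.ext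
  simpa using hV.2 v v.2

/-- `O_p(L)` centralizes every `p`-reduced normal subgroup. -/
theorem pCore_le_centralizer_of_pReduced {p : ℕ} {V : Subgroup L} (hV : IsPReducedNormal p V) :
    pCore p L ≤ Subgroup.centralizer (V : Set L) := by
  obtain ⟨_, _, hCn, hcore⟩ := hV
  have h1 : ((pCore p L).map (QuotientGroup.mk' (Subgroup.centralizer (V : Set L)))) ≤
      pCore p (L ⧸ Subgroup.centralizer (V : Set L)) := by
    apply le_pCore
    · exact (pCore_normal p L).map _ (QuotientGroup.mk'_surjective _)
    · exact (pCore_isPGroup p L).map _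
  rw [hcore, le_bot_iff, Subgroup.map_eq_bot_iff, QuotientGroup.ker_mk'] at h1
  exact h1

/-- A subgroup generated by pairwise commuting elements of order dividing `p`. -/
theorem closure_elementaryAbelian {p : ℕ} {S : Set L} (hcomm : ∀ x ∈ S, ∀ y ∈ S, x * y = y * x)
    (hpow : ∀ x ∈ S, x ^ p = 1) :
    (∀ a ∈ Subgroup.closure S, ∀ b ∈ Subgroup.closure S, a * b = b * a) ∧
      ∀ a ∈ Subgroup.closure S, a ^ p = 1 := by
  have h1 : Subgroup.closure S ≤ Subgroup.centralizer S := by
    rw [Subgroup.closure_le]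
    intro s hs
    rw [SetLike.mem_coe, Subgroup.mem_centralizer_iff]
    intro t ht
    exact hcomm t ht s hs
  have h2 : Subgroup.closure S ≤ Subgroup.centralizer (Subgroup.closure S : Set L) := by
    rw [Subgroup.centralizer_closure]
    exact h1
  have hc : ∀ a ∈ Subgroup.closure S, ∀ b ∈ Subgroup.closure S, a * b = b * a := by
    intro a ha b hb
    exact (Subgroup.mem_centralizer_iff.mp (h2 hb) a ha)
  refine ⟨hc, ?_⟩
  intro a ha
  induction ha using Subgroup.closure_induction with
  | mem x hx => exact hpow x hx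
  | one => exact one_pow p
  | mul x y hx hy ihx ihy =>
    have : Commute x y := hc x hx y hy
    rw [this.mul_pow, ihx, ihy, one_mul]
  | inv x hx ih => rw [inv_pow, ih, inv_one]

/-- The join of the `p`-reduced normal subgroups is normal. -/
theorem largestPReduced_normal (p : ℕ) : (largestPReduced p L).Normal :=
  Subgroup.sSup_normal _ (fun _ hV => hV.1)

/-- The join of the `p`-reduced normal subgroups is commutative of exponent dividing `p`. -/
theorem largestPReduced_elementary (p : ℕ) :
    (∀ a ∈ largestPReduced p L, ∀ b ∈ largestPReduced p L, a * b = b * a) ∧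
      ∀ a ∈ largestPReduced p L, a ^ p = 1 := by
  unfold largestPReduced
  rw [sSup_eq_iSup', Subgroup.iSup_eq_closure]
  apply closure_elementaryAbelian
  · intro x hx y hy
    rw [Set.mem_iUnion] at hx hy
    obtain ⟨⟨V, hV⟩, hxV⟩ := hx
    obtain ⟨⟨W, hW⟩, hyW⟩ := hy
    have hWp : W ≤ pCore p L := le_pCore hW.1 (isPGroup_of_isElementaryAbelian hW.2.1)
    have := pCore_le_centralizer_of_pReduced hV (hWp hyW)
    exact (Subgroup.mem_centralizer_iff.mp this x hxV)
  · intro x hx
    rw [Set.mem_iUnion] at hx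
    obtain ⟨⟨V, hV⟩, hxV⟩ := hx
    exact hV.2.1.2 x hxV

/-- `O_p(L)` centralizes `Y_L`. -/
theorem pCore_le_centralizer_largestPReduced (p : ℕ) :
    pCore p L ≤ Subgroup.centralizer (largestPReduced p L : Set L) := by
  rw [Subgroup.le_centralizer_iff]
  unfold largestPReduced
  apply sSup_le
  intro V hV
  rw [← Subgroup.le_centralizer_iff]
  exact pCore_le_centralizer_of_pReduced hV

end Abstract

section Ambient

variable {G : Type*} [Group G]

/-- `M` normalizes `Y_M`. -/
theorem le_normalizer_largestPReducedOf (p : ℕ) (M : Subgroup G) :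
    M ≤ Subgroup.normalizer (largestPReducedOf p M : Set G) := by
  unfold largestPReducedOf
  have hn := largestPReduced_normal (L := ↥M) p
  intro m hm
  rw [Subgroup.mem_normalizer_iff]
  intro x
  constructor
  · rintro ⟨y, hy, rfl⟩
    exact ⟨⟨m, hm⟩ * y * ⟨m, hm⟩⁻¹, hn.conj_mem y hy ⟨m, hm⟩, by simp⟩
  · rintro ⟨y, hy, hyx⟩
    refine ⟨⟨m, hm⟩⁻¹ * y * ⟨m, hm⟩, ?_, ?_⟩
    · have := hn.conj_mem y hy ⟨m, hm⟩⁻¹
      simpa using this
    · simp only [Subgroup.subtype_apply, Subgroup.coe_mul, Subgroup.coe_inv] at hyx ⊢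
      rw [hyx]
      group

theorem largestPReducedOf_le (p : ℕ) (M : Subgroup G) : largestPReducedOf p M ≤ M := by
  unfold largestPReducedOf
  exact Subgroup.map_subtype_le _

/-- `Y_M` is commutative of exponent dividing `p`. -/
theorem largestPReducedOf_elementary (p : ℕ) (M : Subgroup G) :
    (∀ a ∈ largestPReducedOf p M, ∀ b ∈ largestPReducedOf p M, a * b = b * a) ∧
      ∀ a ∈ largestPReducedOf p M, a ^ p = 1 := by
  obtain ⟨h1, h2⟩ := largestPReduced_elementary (L := ↥M) p
  unfold largestPReducedOf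
  constructor
  · rintro a ⟨a', ha', rfl⟩ b ⟨b', hb', rfl⟩
    have := h1 a' ha' b' hb'
    exact congrArg Subtype.val this
  · rintro a ⟨a', ha', rfl⟩
    have := h2 a' ha'
    have h3 := congrArg Subtype.val this
    simpa using h3

/-- `O_p(M)` centralizes `Y_M`. -/
theorem pCoreOf_le_centralizer_largestPReducedOf (p : ℕ) (M : Subgroup G) :
    pCoreOf p M ≤ Subgroup.centralizer (largestPReducedOf p M : Set G) := by
  unfold pCoreOf largestPReducedOf
  rintro x ⟨x', hx', rfl⟩
  rw [Subgroup.mem_centralizer_iff]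
  rintro y ⟨y', hy', rfl⟩
  have := Subgroup.mem_centralizer_iff.mp (pCore_le_centralizer_largestPReduced p hx') y' hy'
  exact congrArg Subtype.val this

end Ambient

end Cfsg.Agent.Helper28
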