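import Mathlib
import Cfsg.Prelude.Def_LocalStructure
import Cfsg.Agent.Lib.Helper14.StronglyEmbedded

set_option autoImplicit false

namespace Cfsg.Agent.Helper28

open Cfsg Cfsg.Agent.Helper14

variable {H : Type*} [Group H]

/-- If `conj x⁻¹ Q = Q` then `conj x Q = Q`. -/
theorem map_conj_eq_of_inv {Q : Subgroup H} {x : H}
    (h : Q.map (MulAut.conj x⁻¹).toMonoidHom = Q) : Q.map (MulAut.conj x).toMonoidHom = Q := by
  have := map_conj_map_conj_inv Q x
  rw [h] at this
  exact this

/-- A weakly closed subgroup (for `p`) is weakly closed in every Sylow `p`-subgroup containing it. -/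
theorem weaklyClosed_sylow [Finite H] {p : ℕ} [Fact p.Prime] {Q : Subgroup H}
    (hwc : IsWeaklyClosedSubgroup p Q) (T : Sylow p H) (hQT : Q ≤ (T : Subgroup H)) {g : H}
    (hg : Q.map (MulAut.conj g).toMonoidHom ≤ (T : Subgroup H)) :
    Q.map (MulAut.conj g).toMonoidHom = Q := by
  obtain ⟨T0, hQT0, h0⟩ := hwc
  obtain ⟨x, hx⟩ := sylow_exists_conj T0 T
  -- conj x⁻¹ Q ≤ T0
  have h1 : Q.map (MulAut.conj x⁻¹).toMonoidHom ≤ (T0 : Subgroup H) := by
    calc Q.map (MulAut.conj x⁻¹).toMonoidHom ≤ (T : Subgroup H).map (MulAut.conj x⁻¹).toMonoidHom :=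
          Subgroup.map_mono hQT
      _ = (T0 : Subgroup H) := by rw [hx, map_conj_inv_map_conj]
  have h2 := h0 x⁻¹ h1
  have h3 : Q.map (MulAut.conj (x⁻¹ * g)).toMonoidHom ≤ (T0 : Subgroup H) := by
    rw [conj_mul_map]
    calc (Q.map (MulAut.conj g).toMonoidHom).map (MulAut.conj x⁻¹).toMonoidHom
        ≤ (T : Subgroup H).map (MulAut.conj x⁻¹).toMonoidHom := Subgroup.map_mono hg
      _ = (T0 : Subgroup H) := by rw [hx, map_conj_inv_map_conj]
  have h4 := h0 _ h3
  rw [conj_mul_map] at h4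
  -- conj g Q = conj x Q = Q
  have h5 : Q.map (MulAut.conj g).toMonoidHom = Q.map (MulAut.conj x).toMonoidHom := by
    rw [← map_conj_map_conj_inv (Q.map (MulAut.conj g).toMonoidHom) x, h4]
  rw [h5]
  exact map_conj_eq_of_inv h2

/-- A weakly closed subgroup (for `p`) is the only conjugate of itself in any `p`-subgroup containing it. -/
theorem weaklyClosed_pgroup [Finite H] {p : ℕ} [Fact p.Prime] {Q : Subgroup H}
    (hwc : IsWeaklyClosedSubgroup p Q) {R : Subgroup H} (hR : IsPGroup p R) (hQR : Q ≤ R) {g : H}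
    (hg : Q.map (MulAut.conj g).toMonoidHom ≤ R) :
    Q.map (MulAut.conj g).toMonoidHom = Q := by
  obtain ⟨T, hT⟩ := hR.exists_le_sylow
  exact weaklyClosed_sylow hwc T (hQR.trans hT) (hg.trans hT)

/-- A `p`-subgroup containing a weakly closed subgroup normalizes it. -/
theorem weaklyClosed_le_normalizer [Finite H] {p : ℕ} [Fact p.Prime] {Q : Subgroup H}
    (hwc : IsWeaklyClosedSubgroup p Q) {R : Subgroup H} (hR : IsPGroup p R) (hQR : Q ≤ R) :
    R ≤ Subgroup.normalizer (Q : Set H) := by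
  intro t ht
  apply mem_normalizer_of_map_conj_eq
  apply weaklyClosed_pgroup hwc hR hQR
  rw [← map_conj_eq_self_of_mem ht]
  exact Subgroup.map_mono hQR

/-- Conjugates of a weakly closed subgroup `Q` inside an overgroup `K` of `Q` are conjugate under `K`. -/
theorem weaklyClosed_conj_in_overgroup [Finite H] {p : ℕ} [Fact p.Prime] {Q : Subgroup H}
    (hQp : IsPGroup p Q) (hwc : IsWeaklyClosedSubgroup p Q) {K : Subgroup H} (hQK : Q ≤ K) {g : H}
    (hg : Q.map (MulAut.conj g).toMonoidHom ≤ K) :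
    ∃ k ∈ K, Q.map (MulAut.conj g).toMonoidHom = Q.map (MulAut.conj k).toMonoidHom := by
  obtain ⟨T1, hT1, hQT1⟩ := exists_isSylowOf_ge hQK hQp
  obtain ⟨T2, hT2, hAT2⟩ := exists_isSylowOf_ge hg (hQp.map _)
  obtain ⟨k, hk, hkT⟩ := hT1.exists_conj hT2
  refine ⟨k, hk, ?_⟩
  have h3 : Q.map (MulAut.conj (k⁻¹ * g)).toMonoidHom ≤ T1 := by
    rw [conj_mul_map]
    calc (Q.map (MulAut.conj g).toMonoidHom).map (MulAut.conj k⁻¹).toMonoidHom
        ≤ T2.map (MulAut.conj k⁻¹).toMonoidHom := Subgroup.map_mono hAT2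
      _ = T1 := by rw [hkT, map_conj_inv_map_conj]
  have h4 := weaklyClosed_pgroup hwc hT1.isPGroup hQT1 h3
  rw [conj_mul_map] at h4
  rw [← map_conj_map_conj_inv (Q.map (MulAut.conj g).toMonoidHom) k, h4]

/-- Conjugation commutes with the subgroup of a subgroup. -/
theorem subgroupOf_map_conj (Q K : Subgroup H) (k : K) :
    (Q.subgroupOf K).map (MulAut.conj k).toMonoidHom =
      (Q.map (MulAut.conj (k : H)).toMonoidHom).subgroupOf K := by
  ext y
  rw [mem_map_conj_iff, Subgroup.mem_subgroupOf, Subgroup.mem_subgroupOf, mem_map_conj_iff]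
  rfl

/-- Image of a conjugate under a homomorphism. -/
theorem map_map_conj {H' : Type*} [Group H'] (f : H →* H') (Q : Subgroup H) (g : H) :
    (Q.map (MulAut.conj g).toMonoidHom).map f = (Q.map f).map (MulAut.conj (f g)).toMonoidHom := by
  rw [Subgroup.map_map, Subgroup.map_map]
  congr 1
  ext x
  simp

/-- A weakly closed `p`-subgroup `Q` of `H` is weakly closed in every subgroup `K` containing it. -/
theorem weaklyClosed_subgroupOf [Finite H] {p : ℕ} [Fact p.Prime] {Q : Subgroup H}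
    (hQp : IsPGroup p Q) (hwc : IsWeaklyClosedSubgroup p Q) {K : Subgroup H} (hQK : Q ≤ K) :
    IsWeaklyClosedSubgroup p (Q.subgroupOf K) := by
  obtain ⟨TK, hTK⟩ := (hQp.comap_subtype (K := K)).exists_le_sylow
  set R := (TK : Subgroup K).map K.subtype with hR
  have hRp : IsPGroup p R := TK.isPGroup'.map _
  have hQR : Q ≤ R := by
    intro x hx
    exact ⟨⟨x, hQK hx⟩, hTK (Subgroup.mem_subgroupOf.mpr hx), rfl⟩
  refine ⟨TK, hTK, ?_⟩
  intro k hk
  rw [subgroupOf_map_conj] at hk ⊢
  have hle : Q.map (MulAut.conj (k : H)).toMonoidHom ≤ R := by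
    intro y hy
    have hyK : y ∈ K := by
      rw [mem_map_conj_iff] at hy
      have := K.mul_mem (K.mul_mem k.2 (hQK hy)) (K.inv_mem k.2)
      simpa [mul_assoc] using this
    have := hk (show (⟨y, hyK⟩ : K) ∈ _ from Subgroup.mem_subgroupOf.mpr hy)
    exact ⟨⟨y, hyK⟩, this, rfl⟩
  rw [weaklyClosed_pgroup hwc hRp hQR hle]

/-- Every conjugate of a weakly closed `p`-subgroup `A` lies in every subnormal subgroup containing `A`. -/
theorem weaklyClosed_conj_le_subnormal [Finite H] {p : ℕ} [Fact p.Prime] {A : Subgroup H}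
    (hAp : IsPGroup p A) (hwc : IsWeaklyClosedSubgroup p A) {S : Subgroup H} (hS : S.IsSubnormal)
    (hAS : A ≤ S) (g : H) : A.map (MulAut.conj g).toMonoidHom ≤ S := by
  induction hS with
  | top => exact le_top
  | step S M h_le hM hN ih =>
    have h1 := ih (hAS.trans h_le)
    obtain ⟨m, hm, hmeq⟩ := weaklyClosed_conj_in_overgroup hAp hwc (hAS.trans h_le) h1
    rw [hmeq]
    have hnorm : M ≤ Subgroup.normalizer (S : Set H) :=
      (Subgroup.normal_subgroupOf_iff_le_normalizer h_le).mp hN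
    calc A.map (MulAut.conj m).toMonoidHom ≤ S.map (MulAut.conj m).toMonoidHom := Subgroup.map_mono hAS
      _ = S := map_conj_eq_self_of_le_normalizer hnorm hm

end Cfsg.Agent.Helper28
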