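import Mathlib

/-!
# Squares in the derived subgroup (helper28)

Generic lemmas: a group generated by elements whose squares lie in the derived subgroup has all squares in the
derived subgroup; transport along homomorphisms and between Sylow subgroups.
-/

set_option autoImplicit false
set_option linter.style.haveILetI false

namespace Cfsg.Agent.Helper28.Sq

/-- every square lies in the derived subgroup -/
def SqComm (G : Type*) [Group G] : Prop := ∀ x : G, x ^ 2 ∈ commutator G

theorem sqComm_of_closure {G : Type*} [Group G] (S : Set G) (hS : Subgroup.closure S = ⊤)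
    (h : ∀ s ∈ S, s ^ 2 ∈ commutator G) : SqComm G := by
  intro x
  let ψ : G →* Abelianization G := (powMonoidHom 2).comp Abelianization.of
  have hker : ∀ y : G, y ∈ ψ.ker ↔ y ^ 2 ∈ commutator G := by
    intro y
    rw [MonoidHom.mem_ker, ← Abelianization.ker_of, MonoidHom.mem_ker, map_pow]
    rfl
  have hle : Subgroup.closure S ≤ ψ.ker := by
    rw [Subgroup.closure_le]
    intro s hs
    exact (hker s).2 (h s hs)
  rw [hS] at hle
  exact (hker x).1 (hle (Subgroup.mem_top x))

/-- the version for a subgroup -/
theorem sqComm_subgroup_of_closure {G : Type*} [Group G] (U : Subgroup G) (S : Set G) (hSU : S ⊆ U)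
    (hS : U ≤ Subgroup.closure S) (h : ∀ s ∈ S, s * s ∈ ⁅U, U⁆) : SqComm ↥U := by
  have hU : U = Subgroup.closure S := le_antisymm hS ((Subgroup.closure_le U).2 hSU)
  subst hU
  apply sqComm_of_closure (((↑) : Subgroup.closure S → G) ⁻¹' S) Subgroup.closure_closure_coe_preimage
  intro s hs
  have h1 := h s.1 hs
  rw [← Subgroup.map_subtype_commutator] at h1
  obtain ⟨y, hy, hys⟩ := h1
  have : y = s ^ 2 := by
    apply Subtype.ext
    rw [pow_two, Subgroup.coe_mul]
    exact hys
  rw [← this]
  exact hy

theorem SqComm.of_surjective {G H : Type*} [Group G] [Group H] (f : G →* H) (hf : Function.Surjective f)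
    (h : SqComm G) : SqComm H := by
  intro y
  obtain ⟨x, rfl⟩ := hf y
  rw [← map_pow]
  have h1 : commutator G ≤ (commutator H).comap f := by
    rw [commutator_def, commutator_def, Subgroup.commutator_le]
    intro a _ b _
    rw [Subgroup.mem_comap, map_commutatorElement]
    exact Subgroup.commutator_mem_commutator (Subgroup.mem_top _) (Subgroup.mem_top _)
  exact h1 (h x)

theorem SqComm.of_equiv {G H : Type*} [Group G] [Group H] (e : G ≃* H) (h : SqComm G) : SqComm H :=
  h.of_surjective e.toMonoidHom e.surjective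

/-- every Sylow 2-subgroup has squares in its derived subgroup -/
def SylSq (G : Type*) [Group G] : Prop := ∀ P : Sylow 2 G, SqComm ↥(P : Subgroup G)

theorem sylSq_of_sylow {G : Type*} [Group G] [Finite G] (P : Sylow 2 G) (h : SqComm ↥(P : Subgroup G)) :
    SylSq G := by
  haveI : Fact (Nat.Prime 2) := ⟨Nat.prime_two⟩
  intro Q
  exact h.of_equiv (Sylow.equiv P Q)

/-- a `2`-subgroup of odd index gives all the Sylow `2`-subgroups -/
theorem sylSq_of_subgroup {G : Type*} [Group G] [Finite G] (U : Subgroup G) (hU : IsPGroup 2 U)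
    (hidx : ¬ 2 ∣ U.index) (h : SqComm ↥U) : SylSq G := by
  haveI : Fact (Nat.Prime 2) := ⟨Nat.prime_two⟩
  exact sylSq_of_sylow (hU.toSylow hidx) h

theorem SylSq.of_equiv {G H : Type*} [Group G] [Group H] [Finite H] (e : G ≃* H) (h : SylSq H) : SylSq G := by
  haveI : Fact (Nat.Prime 2) := ⟨Nat.prime_two⟩
  haveI : Finite G := Finite.of_equiv H e.symm.toEquiv
  intro P
  let Q : Sylow 2 H := P.mapSurjective (f := e.toMonoidHom) e.surjective
  have hQ := h Q
  have e' : ↥(P : Subgroup G) ≃* ↥(Q : Subgroup H) := e.subgroupMap (P : Subgroup G)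
  exact hQ.of_equiv e'.symm

theorem SylSq.of_surjective {G H : Type*} [Group G] [Group H] [Finite G] (f : G →* H)
    (hf : Function.Surjective f) (h : SylSq G) : SylSq H := by
  haveI : Fact (Nat.Prime 2) := ⟨Nat.prime_two⟩
  intro Q
  obtain ⟨P, rfl⟩ := Sylow.mapSurjective_surjective hf 2 Q
  have hP := h P
  have hs : Function.Surjective ((f.subgroupMap (P : Subgroup G))) := f.subgroupMap_surjective _
  exact hP.of_surjective _ hs

theorem SylSq.quotient {G : Type*} [Group G] [Finite G] (N : Subgroup G) [N.Normal] (h : SylSq G) :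
    SylSq (G ⧸ N) :=
  h.of_surjective (QuotientGroup.mk' N) (QuotientGroup.mk'_surjective N)

/-- a normal subgroup of odd index has the same Sylow `2`-subgroups -/
theorem SylSq.of_normal_odd_index {G : Type*} [Group G] [Finite G] (N : Subgroup G) [N.Normal]
    (hidx : ¬ 2 ∣ N.index) (h : SylSq G) : SylSq ↥N := by
  haveI : Fact (Nat.Prime 2) := ⟨Nat.prime_two⟩
  intro Q
  -- the image of `Q` in `G` is a `2`-subgroup whose index is odd
  let Q' : Subgroup G := (Q : Subgroup ↥N).map N.subtype
  have hQ' : IsPGroup 2 Q' := Q.2.map N.subtype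
  have hidx' : ¬ 2 ∣ Q'.index := by
    have h1 : Q'.index = (Q : Subgroup ↥N).index * N.index := by
      have := Subgroup.relIndex_mul_index (Subgroup.map_subtype_le (Q : Subgroup ↥N))
      rw [← this]
      congr 1
      show (Q'.subgroupOf N).index = _
      congr 1
      ext x
      simp [Q', Subgroup.mem_subgroupOf]
    rw [h1]
    intro hd
    rcases (Nat.Prime.dvd_mul Nat.prime_two).1 hd with h2 | h2
    · exact Q.not_dvd_index h2
    · exact hidx h2
  have hsq := h (hQ'.toSylow hidx')
  have e : ↥(Q : Subgroup ↥N) ≃* ↥Q' := (Q : Subgroup ↥N).equivMapOfInjective N.subtype N.subtype_injective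
  exact SqComm.of_equiv e.symm hsq

end Cfsg.Agent.Helper28.Sq
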