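import Mathlib
import Cfsg.Agent.Lib.Helper13.SuBN2
import Cfsg.Agent.Lib.Helper18.SuBC

/-!
# The unitriangular subgroup of `WSU n φ` is generated by root elements (helper28)

Row clearing: for `g` unitriangular with the first `k` rows trivial, right multiplication by the root elements
`Tm φ k b t`, `Mm φ k mid u v`, `Lm φ k t` clears the row `k`.
-/

set_option autoImplicit false
set_option linter.unusedSectionVars false
set_option linter.unusedVariables false

namespace Cfsg.Agent.Helper28.SqW

open Matrix Cfsg.Agent.Helper13.SuBN Cfsg.Agent.Helper13.SuP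

variable {n : ℕ} {F : Type*} [Field F] {φ : F →+* F}

/-- the root elements of the upper unitriangular subgroup -/
def rootSet (n : ℕ) {F : Type*} [Field F] (φ : F →+* F) : Set (WSU n φ) :=
  {g | ∃ (a b : Fin n) (t : F), a < b ∧ g = Tm φ a b t} ∪
  {g | ∃ (a : Fin n) (t : F), a < Fin.rev a ∧ g = Lm φ a t} ∪
  {g | ∃ (a c : Fin n) (u v : F), a < c ∧ g = Mm φ a c u v}

theorem Tm_mem_rootSet {a b : Fin n} (h : a < b) (t : F) : Tm φ a b t ∈ rootSet n φ :=
  Or.inl (Or.inl ⟨a, b, t, h, rfl⟩)

theorem Lm_mem_rootSet {a : Fin n} (h : a < Fin.rev a) (t : F) : Lm φ a t ∈ rootSet n φ :=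
  Or.inl (Or.inr ⟨a, t, h, rfl⟩)

theorem Mm_mem_rootSet {a c : Fin n} (h : a < c) (u v : F) : Mm φ a c u v ∈ rootSet n φ :=
  Or.inr ⟨a, c, u, v, h, rfl⟩

/-- the first `k` rows are trivial -/
def Triv (k : ℕ) (g : WSU n φ) : Prop :=
  ∀ i j : Fin n, i.val < k → mt g i j = (1 : Matrix (Fin n) (Fin n) F) i j

theorem triv_zero (g : WSU n φ) : Triv 0 g := fun i _ hi => absurd hi (Nat.not_lt_zero _)

theorem Triv.inv {k : ℕ} {g : WSU n φ} (h : Triv k g) : Triv k g⁻¹ := by
  intro i j hi
  have h1 : mt g⁻¹ i j = (mt g * mt g⁻¹) i j := by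
    rw [Matrix.mul_apply, Finset.sum_eq_single i]
    · rw [h i i hi, Matrix.one_apply_eq, one_mul]
    · intro l _ hl
      rw [h i l hi, Matrix.one_apply_ne hl.symm, zero_mul]
    · intro hh; exact absurd (Finset.mem_univ _) hh
  rw [h1, mt_mul_inv]

/-- the columns `j` with `rev j < k` are trivial too -/
theorem Triv.col {k : ℕ} {g : WSU n φ} (h : Triv k g) (i j : Fin n) (hj : (Fin.rev j).val < k) :
    mt g i j = (1 : Matrix (Fin n) (Fin n) F) i j := by
  have h1 := inv_apply g⁻¹ i j
  rw [inv_inv] at h1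
  rw [h1, h.inv (Fin.rev j) (Fin.rev i) hj]
  by_cases hij : i = j
  · subst hij
    rw [Matrix.one_apply_eq, Matrix.one_apply_eq, map_one]
  · rw [Matrix.one_apply_ne hij, Matrix.one_apply_ne (fun e => hij (Fin.rev_inj.1 e).symm), map_zero]

/-- a unitriangular element with more than half of the rows trivial is trivial -/
theorem eq_one_of_triv {k : ℕ} {g : WSU n φ} (hg : g ∈ unip n φ) (h : Triv k g) (hk : n ≤ 2 * k + 1) :
    g = 1 := by
  apply mt_injective
  ext i j
  rw [mt_one]
  by_cases hi : i.val < k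
  · exact h i j hi
  rcases lt_trichotomy j i with hji | hji | hji
  · rw [hg.1 i j hji, Matrix.one_apply_ne (ne_of_gt hji)]
  · rw [hji, hg.2 i, Matrix.one_apply_eq]
  · apply h.col
    rw [Fin.val_rev]
    have := i.2
    have := j.2
    have : i.val < j.val := hji
    omega

/-! ### entries of right multiples -/

theorem mul_single_apply' (G : Matrix (Fin n) (Fin n) F) (p q : Fin n) (c : F) (i j : Fin n) :
    (G * Matrix.single p q c) i j = if j = q then G i p * c else 0 := by
  by_cases h : j = q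
  · subst h
    rw [if_pos rfl]
    exact Matrix.mul_single_apply_same c p j i G
  · rw [if_neg h]
    exact Matrix.mul_single_apply_of_ne c p q i j h G

theorem mul_TmM_apply (G : Matrix (Fin n) (Fin n) F) (a b : Fin n) (t : F) (i j : Fin n) :
    (G * TmM φ a b t) i j = G i j + (if j = b then G i a * t else 0) -
      (if j = Fin.rev a then G i (Fin.rev b) * φ t else 0) := by
  unfold TmM
  rw [Matrix.mul_sub, Matrix.mul_add, Matrix.mul_one, Matrix.sub_apply, Matrix.add_apply,
    mul_single_apply', mul_single_apply']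

theorem mul_LmM_apply (G : Matrix (Fin n) (Fin n) F) (a : Fin n) (t : F) (i j : Fin n) :
    (G * LmM a t) i j = G i j + (if j = Fin.rev a then G i a * t else 0) := by
  unfold LmM
  rw [Matrix.mul_add, Matrix.mul_one, Matrix.add_apply, mul_single_apply']

theorem mul_MmM_apply (G : Matrix (Fin n) (Fin n) F) (a c : Fin n) (u v : F) (i j : Fin n) :
    (G * MmM φ a c u v) i j = G i j + (if j = c then G i a * u else 0) -
      (if j = Fin.rev a then G i c * φ u else 0) + (if j = Fin.rev a then G i a * v else 0) := by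
  unfold MmM
  rw [Matrix.mul_add, Matrix.mul_sub, Matrix.mul_add, Matrix.mul_one, Matrix.add_apply,
    Matrix.sub_apply, Matrix.add_apply, mul_single_apply', mul_single_apply', mul_single_apply']

/-! ### root elements are unitriangular -/

theorem Tm_mem_unip (hφφ : ∀ x, φ (φ x) = x) {a b : Fin n} (hab : a < b) (ha : a ≠ Fin.rev a)
    (hb : b ≠ Fin.rev b) (t : F) : Tm φ a b t ∈ unip n φ := by
  have hne : a ≠ b := ne_of_lt hab
  refine ⟨Tm_mem_bor hφφ hne ha hb hab t, fun i => ?_⟩
  rw [Tm_coe hφφ hne ha hb]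
  unfold TmM
  rw [Matrix.sub_apply, Matrix.add_apply, Matrix.one_apply_eq, Matrix.single_apply, Matrix.single_apply,
    if_neg (fun h => hne (h.1.trans h.2.symm)),
    if_neg (fun h => hne (Fin.rev_inj.1 (h.2.trans h.1.symm)))]
  ring

theorem Lm_mem_unip {a : Fin n} (ha : a < Fin.rev a) {t : F} (ht : t + φ t = 0) :
    Lm φ a t ∈ unip n φ := by
  have hne : a ≠ Fin.rev a := ne_of_lt ha
  refine ⟨Lm_mem_bor hne ha ht, fun i => ?_⟩
  rw [Lm_coe hne ht]
  unfold LmM
  rw [Matrix.add_apply, Matrix.one_apply_eq, Matrix.single_apply,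
    if_neg (fun h => hne (h.1.trans h.2.symm))]
  ring

theorem Mm_mem_unip (hφφ : ∀ x, φ (φ x) = x) {a c : Fin n} (hac : a < c) (ha : a ≠ Fin.rev a)
    (hc : c = Fin.rev c) {u v : F} (huv : v + φ v + u * φ u = 0) : Mm φ a c u v ∈ unip n φ := by
  have hne : a ≠ c := ne_of_lt hac
  have hc' : c ≠ Fin.rev a := c_ne_rev_a hφφ hne ha hc
  refine ⟨Mm_mem_bor hφφ hne ha hc hac huv, fun i => ?_⟩
  rw [Mm_coe hφφ hne ha hc huv]
  unfold MmM
  rw [Matrix.add_apply, Matrix.sub_apply, Matrix.add_apply, Matrix.one_apply_eq, Matrix.single_apply,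
    Matrix.single_apply, Matrix.single_apply, if_neg (fun h => hne (h.1.trans h.2.symm)),
    if_neg (fun h => hc' (h.1.trans h.2.symm)), if_neg (fun h => ha (h.1.trans h.2.symm))]
  ring


/-! ### the clearing steps -/

section steps

variable (hφφ : ∀ x, φ (φ x) = x) {k : ℕ} {g : WSU n φ} (hg : g ∈ unip n φ) (hT : Triv k g)
  {kk : Fin n} (hkk : kk.val = k)
include hφφ hg hT hkk

theorem step_Tm {b : Fin n} (hkb : kk < b) (hbc : b < Fin.rev kk) (hb : b ≠ Fin.rev b) (t : F) :
    g * Tm φ kk b t ∈ unip n φ ∧ Triv k (g * Tm φ kk b t) ∧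
      (∀ j, j ≠ b → j ≠ Fin.rev kk → mt (g * Tm φ kk b t) kk j = mt g kk j) ∧
      mt (g * Tm φ kk b t) kk b = mt g kk b + t := by
  have ha : kk ≠ Fin.rev kk := ne_of_lt (lt_trans hkb hbc)
  have hne : kk ≠ b := ne_of_lt hkb
  have hrb : kk < Fin.rev b := by
    have := Fin.rev_lt_rev.2 hbc
    rwa [Fin.rev_rev] at this
  have hent : ∀ i j, mt (g * Tm φ kk b t) i j = mt g i j + (if j = b then mt g i kk * t else 0) -
      (if j = Fin.rev kk then mt g i (Fin.rev b) * φ t else 0) := by
    intro i j
    rw [mt_mul, Tm_coe hφφ hne ha hb, mul_TmM_apply]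
  refine ⟨(unip n φ).mul_mem hg (Tm_mem_unip hφφ hkb ha hb t), ?_, ?_, ?_⟩
  · intro i j hi
    have h1 : i ≠ kk := fun e => by rw [e, hkk] at hi; exact lt_irrefl _ hi
    have h2 : i ≠ Fin.rev b := fun e => by
      rw [e] at hi
      have : kk.val < (Fin.rev b).val := hrb
      omega
    rw [hent, hT i j hi, hT i kk hi, hT i (Fin.rev b) hi, Matrix.one_apply_ne h1, Matrix.one_apply_ne h2]
    simp
  · intro j hj1 hj2
    rw [hent, if_neg hj1, if_neg hj2]
    ring
  · rw [hent, if_pos rfl, if_neg (ne_of_lt hbc), hg.2 kk]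
    ring

theorem step_Mm {b : Fin n} (hkb : kk < b) (hb : b = Fin.rev b) {u v : F}
    (huv : v + φ v + u * φ u = 0) :
    g * Mm φ kk b u v ∈ unip n φ ∧ Triv k (g * Mm φ kk b u v) ∧
      (∀ j, j ≠ b → j ≠ Fin.rev kk → mt (g * Mm φ kk b u v) kk j = mt g kk j) ∧
      mt (g * Mm φ kk b u v) kk b = mt g kk b + u := by
  have hne : kk ≠ b := ne_of_lt hkb
  have hbc : b < Fin.rev kk := by
    rw [hb]
    exact Fin.rev_lt_rev.2 hkb
  have ha : kk ≠ Fin.rev kk := ne_of_lt (lt_trans hkb hbc)
  have hent : ∀ i j, mt (g * Mm φ kk b u v) i j = mt g i j + (if j = b then mt g i kk * u else 0) -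
      (if j = Fin.rev kk then mt g i b * φ u else 0) +
      (if j = Fin.rev kk then mt g i kk * v else 0) := by
    intro i j
    rw [mt_mul, Mm_coe hφφ hne ha hb huv, mul_MmM_apply]
  refine ⟨(unip n φ).mul_mem hg (Mm_mem_unip hφφ hkb ha hb huv), ?_, ?_, ?_⟩
  · intro i j hi
    have h1 : i ≠ kk := fun e => by rw [e, hkk] at hi; exact lt_irrefl _ hi
    have h2 : i ≠ b := fun e => by
      rw [e] at hi
      have : kk.val < b.val := hkb
      omega
    rw [hent, hT i j hi, hT i kk hi, hT i b hi, Matrix.one_apply_ne h1, Matrix.one_apply_ne h2]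
    simp
  · intro j hj1 hj2
    rw [hent, if_neg hj1, if_neg hj2, if_neg hj2]
    ring
  · rw [hent, if_pos rfl, if_neg (ne_of_lt hbc), if_neg (ne_of_lt hbc), hg.2 kk]
    ring

theorem step_Lm (hkc : kk < Fin.rev kk) {t : F} (ht : t + φ t = 0) :
    g * Lm φ kk t ∈ unip n φ ∧ Triv k (g * Lm φ kk t) ∧
      (∀ j, j ≠ Fin.rev kk → mt (g * Lm φ kk t) kk j = mt g kk j) ∧
      mt (g * Lm φ kk t) kk (Fin.rev kk) = mt g kk (Fin.rev kk) + t := by
  have ha : kk ≠ Fin.rev kk := ne_of_lt hkc
  have hent : ∀ i j, mt (g * Lm φ kk t) i j = mt g i j +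
      (if j = Fin.rev kk then mt g i kk * t else 0) := by
    intro i j
    rw [mt_mul, Lm_coe ha ht, mul_LmM_apply]
  refine ⟨(unip n φ).mul_mem hg (Lm_mem_unip hkc ht), ?_, ?_, ?_⟩
  · intro i j hi
    have h1 : i ≠ kk := fun e => by rw [e, hkk] at hi; exact lt_irrefl _ hi
    rw [hent, hT i j hi, hT i kk hi, Matrix.one_apply_ne h1]
    simp
  · intro j hj
    rw [hent, if_neg hj]
    ring
  · rw [hent, if_pos rfl, hg.2 kk]
    ring

/-- the last entry of a cleared row has trace zero -/
theorem trace_last (hkc : kk < Fin.rev kk)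
    (h0 : ∀ j : Fin n, kk < j → j < Fin.rev kk → mt g kk j = 0) :
    mt g kk (Fin.rev kk) + φ (mt g kk (Fin.rev kk)) = 0 := by
  have ha : kk ≠ Fin.rev kk := ne_of_lt hkc
  have h1 := row_isotropic g ha
  have hz : ∀ q : Fin n, q ≠ kk → q ≠ Fin.rev kk → mt g kk q = 0 := by
    intro q hq1 hq2
    rcases lt_trichotomy q kk with h | h | h
    · exact hg.1 kk q h
    · exact absurd h hq1
    · rcases lt_trichotomy q (Fin.rev kk) with h' | h' | h'
      · exact h0 q h h'
      · exact absurd h' hq2
      · rw [hT.col kk q (by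
          have := Fin.rev_lt_rev.2 h'
          rw [Fin.rev_rev] at this
          rw [← hkk]
          exact this), Matrix.one_apply_ne (ne_of_lt h)]
  rw [Finset.sum_eq_add kk (Fin.rev kk) ha] at h1
  · rw [Fin.rev_rev, hg.2 kk, map_one, mul_one, one_mul] at h1
    exact h1
  · intro q _ hq
    rw [hz q hq.1 hq.2, map_zero, mul_zero]
  · intro h; exact absurd (Finset.mem_univ _) h
  · intro h; exact absurd (Finset.mem_univ _) h

end steps


/-! ### the generation theorem -/

section main

variable (hφφ : ∀ x, φ (φ x) = x)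
  (htr : n % 2 = 1 → ∀ r : F, φ r = r → ∃ s : F, s + φ s = r)
include hφφ htr

theorem clear_row {k : ℕ} (hk : 2 * k + 1 < n)
    (ih : ∀ g ∈ unip n φ, Triv (k + 1) g → g ∈ Subgroup.closure (rootSet n φ)) :
    ∀ m : ℕ, ∀ g ∈ unip n φ, Triv k g →
      (∀ b : Fin n, k + 1 + m ≤ b.val → b.val < n - 1 - k → mt g ⟨k, by omega⟩ b = 0) →
      g ∈ Subgroup.closure (rootSet n φ) := by
  have hkn : k < n := by omega
  set kk : Fin n := ⟨k, hkn⟩ with hkkdef
  have hkkv : kk.val = k := rfl
  have hrev : (Fin.rev kk).val = n - 1 - k := by rw [Fin.val_rev]; omega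
  have hkc : kk < Fin.rev kk := by rw [Fin.lt_def, hrev, hkkv]; omega
  intro m
  induction m with
  | zero =>
    intro g hg hT h0
    have h0' : ∀ j : Fin n, kk < j → j < Fin.rev kk → mt g kk j = 0 := by
      intro j hj1 hj2
      apply h0 j
      · have : kk.val < j.val := hj1
        omega
      · have : j.val < (Fin.rev kk).val := hj2
        omega
    have htrc := trace_last hφφ hg hT hkkv hkc h0'
    have hneg : -(mt g kk (Fin.rev kk)) + φ (-(mt g kk (Fin.rev kk))) = 0 := by
      rw [map_neg]; linear_combination -htrc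
    obtain ⟨h1, h2, h3, h4⟩ := step_Lm hφφ hg hT hkkv hkc hneg
    have hT' : Triv (k + 1) (g * Lm φ kk (-(mt g kk (Fin.rev kk)))) := by
      intro i j hi
      by_cases hik : i.val < k
      · exact h2 i j hik
      have hik' : i = kk := Fin.ext (by rw [hkkv]; omega)
      rw [hik']
      rcases lt_trichotomy j kk with h | h | h
      · rw [h1.1 kk j h, Matrix.one_apply_ne (ne_of_gt h)]
      · rw [h, h1.2 kk, Matrix.one_apply_eq]
      · rw [Matrix.one_apply_ne (ne_of_lt h)]
        rcases lt_trichotomy j (Fin.rev kk) with h' | h' | h'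
        · rw [h3 j (ne_of_lt h'), h0' j h h']
        · rw [h', h4, add_neg_cancel]
        · rw [h2.col kk j (by
            have := Fin.rev_lt_rev.2 h'
            rw [Fin.rev_rev] at this
            rw [← hkkv]
            exact this), Matrix.one_apply_ne (ne_of_lt h)]
    have h5 := ih _ h1 hT'
    have hL : Lm φ kk (-(mt g kk (Fin.rev kk))) ∈ Subgroup.closure (rootSet n φ) :=
      Subgroup.subset_closure (Lm_mem_rootSet hkc _)
    have e : g = (g * Lm φ kk (-(mt g kk (Fin.rev kk)))) * (Lm φ kk (-(mt g kk (Fin.rev kk))))⁻¹ := by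
      group
    rw [e]
    exact mul_mem h5 (inv_mem hL)
  | succ m ihm =>
    intro g hg hT h0
    by_cases hb0 : k + 1 + m < n - 1 - k
    · have hb0n : k + 1 + m < n := by omega
      set b0 : Fin n := ⟨k + 1 + m, hb0n⟩ with hb0def
      have hb0v : b0.val = k + 1 + m := rfl
      have hkb : kk < b0 := by rw [Fin.lt_def, hkkv, hb0v]; omega
      have hbc : b0 < Fin.rev kk := by rw [Fin.lt_def, hrev, hb0v]; exact hb0
      by_cases hmid : b0 = Fin.rev b0
      · -- the middle index
        have hodd : n % 2 = 1 := by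
          have := congrArg Fin.val hmid
          rw [Fin.val_rev, hb0v] at this
          omega
        have hfix : φ (-(-(mt g kk b0) * φ (-(mt g kk b0)))) = -(-(mt g kk b0) * φ (-(mt g kk b0))) := by
          rw [map_neg, map_mul, hφφ]
          ring
        obtain ⟨v, hv⟩ := htr hodd _ hfix
        have huv : v + φ v + -(mt g kk b0) * φ (-(mt g kk b0)) = 0 := by
          rw [hv]; ring
        obtain ⟨h1, h2, h3, h4⟩ := step_Mm hφφ hg hT hkkv hkb hmid huv
        have h5 := ihm _ h1 h2 (by
          intro b hb1 hb2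
          by_cases hbb : b = b0
          · rw [hbb, h4, add_neg_cancel]
          · rw [h3 b hbb (by
              intro e
              rw [e, hrev] at hb2
              exact lt_irrefl _ hb2)]
            apply h0 b _ hb2
            have : b.val ≠ k + 1 + m := fun e => hbb (Fin.ext e)
            omega)
        have hL : Mm φ kk b0 (-(mt g kk b0)) v ∈ Subgroup.closure (rootSet n φ) :=
          Subgroup.subset_closure (Mm_mem_rootSet hkb _ _)
        have e : g = (g * Mm φ kk b0 (-(mt g kk b0)) v) * (Mm φ kk b0 (-(mt g kk b0)) v)⁻¹ := by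
          group
        rw [e]
        exact mul_mem h5 (inv_mem hL)
      · obtain ⟨h1, h2, h3, h4⟩ := step_Tm hφφ hg hT hkkv hkb hbc hmid (-(mt g kk b0))
        have h5 := ihm _ h1 h2 (by
          intro b hb1 hb2
          by_cases hbb : b = b0
          · rw [hbb, h4, add_neg_cancel]
          · rw [h3 b hbb (by
              intro e
              rw [e, hrev] at hb2
              exact lt_irrefl _ hb2)]
            apply h0 b _ hb2
            have : b.val ≠ k + 1 + m := fun e => hbb (Fin.ext e)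
            omega)
        have hL : Tm φ kk b0 (-(mt g kk b0)) ∈ Subgroup.closure (rootSet n φ) :=
          Subgroup.subset_closure (Tm_mem_rootSet hkb _)
        have e : g = (g * Tm φ kk b0 (-(mt g kk b0))) * (Tm φ kk b0 (-(mt g kk b0)))⁻¹ := by
          group
        rw [e]
        exact mul_mem h5 (inv_mem hL)
    · apply ihm g hg hT
      intro b hb1 hb2
      omega

/-- unitriangular elements with the first `k` rows trivial are products of root elements -/
theorem mem_closure_of_triv : ∀ d k : ℕ, n ≤ k + d → ∀ g ∈ unip n φ, Triv k g →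
    g ∈ Subgroup.closure (rootSet n φ) := by
  intro d
  induction d with
  | zero =>
    intro k hk g hg hT
    rw [eq_one_of_triv hg hT (by omega)]
    exact one_mem _
  | succ d ih =>
    intro k hk g hg hT
    by_cases hk2 : n ≤ 2 * k + 1
    · rw [eq_one_of_triv hg hT hk2]
      exact one_mem _
    · have hk3 : 2 * k + 1 < n := by omega
      apply clear_row hφφ htr hk3 (ih (k + 1) (by omega)) n g hg hT
      intro b hb1 hb2
      have := b.2
      omega

/-- **the unitriangular subgroup is generated by the root elements** -/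
theorem unip_le_closure : unip n φ ≤ Subgroup.closure (rootSet n φ) := fun g hg =>
  mem_closure_of_triv hφφ htr n 0 (by omega) g hg (triv_zero g)

end main

end Cfsg.Agent.Helper28.SqW
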