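import Mathlib
import Cfsg.Agent.Lib.Helper28.SqW
import Cfsg.Agent.Lib.Helper13.SdBN2

/-!
# The unitriangular subgroup of the split orthogonal group is generated by root elements (helper28)
-/

set_option autoImplicit false
set_option linter.unusedSectionVars false
set_option linter.unusedVariables false

namespace Cfsg.Agent.Helper28.SqW

open Matrix Cfsg.Agent.Helper13.SuBN Cfsg.Agent.Helper13.SuP Cfsg.Agent.Helper13.SdBN

variable {n : ℕ} {F : Type*} [Field F]

/-- the root elements of the orthogonal unitriangular subgroup -/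
def rootSetQ (n : ℕ) (F : Type*) [Field F] : Set (WSU n (RingHom.id F)) :=
  {g | ∃ (a b : Fin n) (t : F), a < b ∧ a ≠ Fin.rev b ∧ g = Tm (RingHom.id F) a b t}

theorem hidQ : ∀ x : F, (RingHom.id F) ((RingHom.id F) x) = x := fun _ => rfl

/-- the last entry of a cleared row vanishes in the orthogonal group -/
theorem last_zero (hn : n % 2 = 0) {k : ℕ} {g : WSU n (RingHom.id F)} (hg : g ∈ unipQ n F)
    (hT : Triv k g) {kk : Fin n} (hkk : kk.val = k) (hkc : kk < Fin.rev kk)
    (h0 : ∀ j : Fin n, kk < j → j < Fin.rev kk → mt g kk j = 0) : mt g kk (Fin.rev kk) = 0 := by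
  have hz : ∀ q : Fin n, q ≠ kk → q ≠ Fin.rev kk → mt g kk q = 0 := by
    intro q hq1 hq2
    rcases lt_trichotomy q kk with h | h | h
    · exact hg.1.1 kk q h
    · exact absurd h hq1
    · rcases lt_trichotomy q (Fin.rev kk) with h' | h' | h'
      · exact h0 q h h'
      · exact absurd h' hq2
      · rw [hT.col kk q (by
          have := Fin.rev_lt_rev.2 h'
          rw [Fin.rev_rev] at this
          rw [← hkk]
          exact this), Matrix.one_apply_ne (ne_of_lt h)]
  have hinv : g⁻¹ ∈ soq n F := (soq n F).inv_mem hg.2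
  have h1 := qf_col hinv (Fin.rev kk)
  have hk2 : kk.val < n / 2 := by
    have : kk.val < (Fin.rev kk).val := hkc
    rw [Fin.val_rev] at this
    omega
  have e : ∀ a : Fin n, mt g⁻¹ a (Fin.rev kk) = mt g kk (Fin.rev a) := by
    intro a
    rw [inv_apply, Fin.rev_rev]
    rfl
  rw [Finset.sum_eq_single (⟨kk.val, hk2⟩ : Fin (n / 2))] at h1
  · have e1 : ix n (⟨kk.val, hk2⟩ : Fin (n / 2)) = kk := Fin.ext rfl
    rw [e1, e, e, Fin.rev_rev, hg.1.2 kk, mul_one] at h1
    exact h1
  · intro i _ hi
    rw [e, e, Fin.rev_rev]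
    have h2 : ix n i ≠ kk := fun e2 => hi (Fin.ext (by
      have := congrArg Fin.val e2
      exact this))
    have h3 : ix n i ≠ Fin.rev kk := by
      intro e2
      have := congrArg Fin.val e2
      rw [Fin.val_rev] at this
      have h4 : (ix n i).val = i.val := rfl
      have := i.2
      omega
    rw [hz (ix n i) h2 h3, mul_zero]
  · intro h; exact absurd (Finset.mem_univ _) h

theorem clear_rowQ (hn : n % 2 = 0) {k : ℕ} (hk : 2 * k + 1 < n)
    (ih : ∀ g ∈ unipQ n F, Triv (k + 1) g → g ∈ Subgroup.closure (rootSetQ n F)) :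
    ∀ m : ℕ, ∀ g ∈ unipQ n F, Triv k g →
      (∀ b : Fin n, k + 1 + m ≤ b.val → b.val < n - 1 - k → mt g ⟨k, by omega⟩ b = 0) →
      g ∈ Subgroup.closure (rootSetQ n F) := by
  have hkn : k < n := by omega
  set kk : Fin n := ⟨k, hkn⟩ with hkkdef
  have hkkv : kk.val = k := rfl
  have hrev : (Fin.rev kk).val = n - 1 - k := by rw [Fin.val_rev]; omega
  have hkc : kk < Fin.rev kk := by rw [Fin.lt_def, hrev, hkkv]; omega
  intro m
  induction m with
  | zero =>
    intro g hg hT h0
    have h0' : ∀ j : Fin n, kk < j → j < Fin.rev kk → mt g kk j = 0 := by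
      intro j hj1 hj2
      apply h0 j
      · have : kk.val < j.val := hj1
        omega
      · have : j.val < (Fin.rev kk).val := hj2
        omega
    have hlast := last_zero hn hg hT hkkv hkc h0'
    apply ih g hg
    intro i j hi
    by_cases hik : i.val < k
    · exact hT i j hik
    have hik' : i = kk := Fin.ext (by rw [hkkv]; omega)
    rw [hik']
    rcases lt_trichotomy j kk with h | h | h
    · rw [hg.1.1 kk j h, Matrix.one_apply_ne (ne_of_gt h)]
    · rw [h, hg.1.2 kk, Matrix.one_apply_eq]
    · rw [Matrix.one_apply_ne (ne_of_lt h)]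
      rcases lt_trichotomy j (Fin.rev kk) with h' | h' | h'
      · exact h0' j h h'
      · rw [h', hlast]
      · rw [hT.col kk j (by
          have := Fin.rev_lt_rev.2 h'
          rw [Fin.rev_rev] at this
          rw [← hkkv]
          exact this), Matrix.one_apply_ne (ne_of_lt h)]
  | succ m ihm =>
    intro g hg hT h0
    by_cases hb0 : k + 1 + m < n - 1 - k
    · have hb0n : k + 1 + m < n := by omega
      set b0 : Fin n := ⟨k + 1 + m, hb0n⟩ with hb0def
      have hb0v : b0.val = k + 1 + m := rfl
      have hkb : kk < b0 := by rw [Fin.lt_def, hkkv, hb0v]; omega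
      have hbc : b0 < Fin.rev kk := by rw [Fin.lt_def, hrev, hb0v]; exact hb0
      have hmid : b0 ≠ Fin.rev b0 := by
        intro e
        have := congrArg Fin.val e
        rw [Fin.val_rev, hb0v] at this
        omega
      have hka : kk ≠ Fin.rev kk := ne_of_lt hkc
      have hkrb : kk ≠ Fin.rev b0 := by
        intro e
        have := congrArg Fin.rev e
        rw [Fin.rev_rev] at this
        exact (ne_of_lt hbc) this.symm
      obtain ⟨h1, h2, h3, h4⟩ := step_Tm hidQ hg.1 hT hkkv hkb hbc hmid (-(mt g kk b0))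
      have hsoq : g * Tm (RingHom.id F) kk b0 (-(mt g kk b0)) ∈ soq n F :=
        (soq n F).mul_mem hg.2 (Tm_mem_soq (ne_of_lt hkb) hkrb hka hmid hn _)
      have h5 := ihm _ ⟨h1, hsoq⟩ h2 (by
        intro b hb1 hb2
        by_cases hbb : b = b0
        · rw [hbb, h4, add_neg_cancel]
        · rw [h3 b hbb (by
            intro e
            rw [e, hrev] at hb2
            exact lt_irrefl _ hb2)]
          apply h0 b _ hb2
          have : b.val ≠ k + 1 + m := fun e => hbb (Fin.ext e)
          omega)
      have hL : Tm (RingHom.id F) kk b0 (-(mt g kk b0)) ∈ Subgroup.closure (rootSetQ n F) :=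
        Subgroup.subset_closure ⟨kk, b0, _, hkb, hkrb, rfl⟩
      have e : g = (g * Tm (RingHom.id F) kk b0 (-(mt g kk b0))) *
          (Tm (RingHom.id F) kk b0 (-(mt g kk b0)))⁻¹ := by
        group
      rw [e]
      exact mul_mem h5 (inv_mem hL)
    · apply ihm g hg hT
      intro b hb1 hb2
      omega

theorem mem_closure_of_trivQ (hn : n % 2 = 0) : ∀ d k : ℕ, n ≤ k + d → ∀ g ∈ unipQ n F, Triv k g →
    g ∈ Subgroup.closure (rootSetQ n F) := by
  intro d
  induction d with
  | zero =>
    intro k hk g hg hT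
    rw [eq_one_of_triv hg.1 hT (by omega)]
    exact one_mem _
  | succ d ih =>
    intro k hk g hg hT
    by_cases hk2 : n ≤ 2 * k + 1
    · rw [eq_one_of_triv hg.1 hT hk2]
      exact one_mem _
    · have hk3 : 2 * k + 1 < n := by omega
      apply clear_rowQ hn hk3 (ih (k + 1) (by omega)) n g hg hT
      intro b hb1 hb2
      have := b.2
      omega

/-- **the orthogonal unitriangular subgroup is generated by the root elements** -/
theorem unipQ_le_closure (hn : n % 2 = 0) :
    unipQ n F ≤ Subgroup.closure {g | ∃ (a b : Fin n) (t : F), a < b ∧ a ≠ Fin.rev b ∧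
      g = Tm (RingHom.id F) a b t} := fun g hg =>
  mem_closure_of_trivQ hn n 0 (by omega) g hg (triv_zero g)

/-- the root elements lie in `unipQ` -/
theorem rootSetQ_subset (hn : n % 2 = 0) : rootSetQ n F ⊆ unipQ n F := by
  rintro g ⟨a, b, t, hab, hab', rfl⟩
  have ha : a ≠ Fin.rev a := by
    intro e
    have := congrArg Fin.val e
    rw [Fin.val_rev] at this
    omega
  have hb : b ≠ Fin.rev b := by
    intro e
    have := congrArg Fin.val e
    rw [Fin.val_rev] at this
    omega
  exact ⟨Tm_mem_unip hidQ hab ha hb t, Tm_mem_soq (ne_of_lt hab) hab' ha hb hn t⟩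

/-- in characteristic `2` the root elements are involutions -/
theorem rootSetQ_sq (hn : n % 2 = 0) (h2 : (2 : F) = 0) : ∀ s ∈ rootSetQ n F, s * s = 1 := by
  rintro g ⟨a, b, t, hab, hab', rfl⟩
  have ha : a ≠ Fin.rev a := by
    intro e
    have := congrArg Fin.val e
    rw [Fin.val_rev] at this
    omega
  have hb : b ≠ Fin.rev b := by
    intro e
    have := congrArg Fin.val e
    rw [Fin.val_rev] at this
    omega
  rw [Tm_add hidQ (ne_of_lt hab) ha hb, ← two_mul, h2, zero_mul, Tm_zero hidQ (ne_of_lt hab) ha hb]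

/-- **`unipQ` is generated by its involutions in characteristic `2`** -/
theorem unipQ_le_closure_invol (hn : n % 2 = 0) (h2 : (2 : F) = 0) :
    unipQ n F ≤ Subgroup.closure {g | g ∈ unipQ n F ∧ g * g = 1} := by
  refine le_trans (unipQ_le_closure hn) (Subgroup.closure_mono ?_)
  intro g hg
  exact ⟨rootSetQ_subset hn hg, rootSetQ_sq hn h2 g hg⟩

end Cfsg.Agent.Helper28.SqW
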