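import Mathlib
import Cfsg.Agent.Lib.Helper15.S52Defs

/-!
# S3452, piece S52-Q9GRP: the abstract group `⟨a, b | a^5, b a b⁻¹ = a^2, b^8⟩` (with `b^4 ≠ 1 ≠ a`):
every element has a power equal to `b^4` or to `a` (or is `1`), and order in `{1, 2, 4, 8, 5, 10}`.
-/

set_option autoImplicit false
set_option linter.unusedVariables false

namespace Cfsg.Agent.Helper15.S52

open Cfsg.Agent.Helper2

theorem s52_q9grp_comm1 {G : Type*} [Group G] {a b : G} (hab : b * a * b⁻¹ = a ^ 2) (i : ℕ) :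
    b * a ^ i = a ^ (2 * i) * b := by
  have h := conj_pow (a := b) (b := a) (i := i)
  rw [hab, ← pow_mul] at h
  rw [h, inv_mul_cancel_right]

theorem s52_q9grp_comm {G : Type*} [Group G] {a b : G} (hab : b * a * b⁻¹ = a ^ 2) (j i : ℕ) :
    b ^ j * a ^ i = a ^ (2 ^ j * i) * b ^ j := by
  induction j generalizing i with
  | zero => simp
  | succ j ih =>
    rw [pow_succ, mul_assoc, s52_q9grp_comm1 hab, ← mul_assoc, ih, mul_assoc]
    congr 2
    ring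

theorem s52_q9grp_mul {G : Type*} [Group G] {a b : G} (hab : b * a * b⁻¹ = a ^ 2)
    (i j k l : ℕ) :
    (a ^ i * b ^ j) * (a ^ k * b ^ l) = a ^ (i + 2 ^ j * k) * b ^ (j + l) := by
  rw [mul_assoc, ← mul_assoc (b ^ j), s52_q9grp_comm hab, mul_assoc, ← pow_add, ← mul_assoc,
    ← pow_add]

theorem s52_q9grp_sq {G : Type*} [Group G] {a b : G} (hab : b * a * b⁻¹ = a ^ 2) (i j : ℕ) :
    (a ^ i * b ^ j) ^ 2 = a ^ (i * (1 + 2 ^ j)) * b ^ (2 * j) := by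
  rw [pow_two, s52_q9grp_mul hab]
  congr 2 <;> ring

theorem s52_q9grp_apow {G : Type*} [Group G] {a : G} (ha : a ^ 5 = 1) (i N : ℕ) (h : 5 ∣ N) :
    a ^ (i * N) = 1 := by
  obtain ⟨m, rfl⟩ := h
  rw [show i * (5 * m) = 5 * (i * m) by ring, pow_mul, ha, one_pow]

/-- the shape of the elements -/
theorem s52_q9grp_shape {G : Type*} [Group G] {a b : G} (ha : a ^ 5 = 1)
    (hab : b * a * b⁻¹ = a ^ 2) (hb8 : b ^ 8 = 1) :
    ∀ c ∈ Subgroup.closure ({a, b} : Set G), ∃ i j : ℕ, c = a ^ i * b ^ j := by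
  intro c hc
  induction hc using Subgroup.closure_induction with
  | mem x hx =>
    rcases hx with rfl | hx
    · exact ⟨1, 0, by simp⟩
    · rw [Set.mem_singleton_iff] at hx
      subst hx
      exact ⟨0, 1, by simp⟩
  | one => exact ⟨0, 0, by simp⟩
  | mul x y _ _ hx hy =>
    obtain ⟨i, j, rfl⟩ := hx
    obtain ⟨k, l, rfl⟩ := hy
    exact ⟨_, _, s52_q9grp_mul hab i j k l⟩
  | inv x _ hx =>
    obtain ⟨i, j, rfl⟩ := hx
    have h1 : (b ^ j)⁻¹ = b ^ (7 * j) := by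
      apply inv_eq_of_mul_eq_one_right
      rw [← pow_add, show j + 7 * j = 8 * j by ring, pow_mul, hb8, one_pow]
    have h2 : (a ^ i)⁻¹ = a ^ (4 * i) := by
      apply inv_eq_of_mul_eq_one_right
      rw [← pow_add, show i + 4 * i = 5 * i by ring, pow_mul, ha, one_pow]
    refine ⟨2 ^ (7 * j) * (4 * i), 7 * j, ?_⟩
    rw [mul_inv_rev, h1, h2, s52_q9grp_comm hab]

theorem s52_q9grp_of_pow4 {G : Type*} [Group G] {a b : G} (hb8 : b ^ 8 = 1) (hb4 : b ^ 4 ≠ 1)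
    (c : G) (h : c ^ 4 = b ^ 4) :
    (c = 1 ∨ (∃ k : ℕ, c ^ k = b ^ 4) ∨ (∃ k : ℕ, c ^ k = a)) ∧
      (orderOf c = 1 ∨ orderOf c = 2 ∨ orderOf c = 4 ∨ orderOf c = 8 ∨ orderOf c = 5 ∨
        orderOf c = 10) := by
  refine ⟨Or.inr (Or.inl ⟨4, h⟩), Or.inr (Or.inr (Or.inr (Or.inl ?_)))⟩
  haveI : Fact (Nat.Prime 2) := ⟨Nat.prime_two⟩
  have h1 : ¬ c ^ 2 ^ 2 = 1 := by
    norm_num
    rw [h]; exact hb4
  have h2 : c ^ 2 ^ (2 + 1) = 1 := by
    norm_num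
    rw [show (8 : ℕ) = 4 * 2 by norm_num, pow_mul, h, ← pow_mul]
    exact hb8
  have := orderOf_eq_prime_pow h1 h2
  norm_num at this
  exact this

theorem s52_q9grp_of_pow2 {G : Type*} [Group G] {a b : G} (hb8 : b ^ 8 = 1) (hb4 : b ^ 4 ≠ 1)
    (c : G) (h : c ^ 2 = b ^ 4) :
    (c = 1 ∨ (∃ k : ℕ, c ^ k = b ^ 4) ∨ (∃ k : ℕ, c ^ k = a)) ∧
      (orderOf c = 1 ∨ orderOf c = 2 ∨ orderOf c = 4 ∨ orderOf c = 8 ∨ orderOf c = 5 ∨
        orderOf c = 10) := by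
  refine ⟨Or.inr (Or.inl ⟨2, h⟩), Or.inr (Or.inr (Or.inl ?_))⟩
  haveI : Fact (Nat.Prime 2) := ⟨Nat.prime_two⟩
  have h1 : ¬ c ^ 2 ^ 1 = 1 := by
    norm_num
    rw [h]; exact hb4
  have h2 : c ^ 2 ^ (1 + 1) = 1 := by
    norm_num
    rw [show (4 : ℕ) = 2 * 2 by norm_num, pow_mul, h, ← pow_mul]
    exact hb8
  have := orderOf_eq_prime_pow h1 h2
  norm_num at this
  exact this

/-- a nontrivial power of `a` generates `⟨a⟩`. -/
theorem s52_q9grp_gen {G : Type*} [Group G] {a : G} (ha : a ^ 5 = 1) (i : ℕ)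
    (hi : a ^ i ≠ 1) : ∃ k : ℕ, (a ^ i) ^ k = a := by
  have hmod : a ^ i = a ^ (i % 5) := pow_eq_pow_mod i ha
  have hlt : i % 5 < 5 := Nat.mod_lt _ (by norm_num)
  rw [hmod] at hi ⊢
  generalize i % 5 = r at hi hlt
  interval_cases r
  · exact absurd (pow_zero a) hi
  · exact ⟨1, by simp⟩
  · refine ⟨3, ?_⟩
    rw [← pow_mul, show 2 * 3 = 5 + 1 by norm_num, pow_add, ha, one_mul, pow_one]
  · refine ⟨2, ?_⟩
    rw [← pow_mul, show 3 * 2 = 5 + 1 by norm_num, pow_add, ha, one_mul, pow_one]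
  · refine ⟨4, ?_⟩
    rw [← pow_mul, show 4 * 4 = 5 * 3 + 1 by norm_num, pow_add, pow_mul, ha, one_pow, one_mul,
      pow_one]

/-- PIECE S52-Q9GRP -/
theorem q9_struct {G : Type*} [Group G] {a b : G} (ha : a ^ 5 = 1) (ha1 : a ≠ 1)
    (hab : b * a * b⁻¹ = a ^ 2) (hb8 : b ^ 8 = 1) (hb4 : b ^ 4 ≠ 1) :
    ∀ c ∈ Subgroup.closure ({a, b} : Set G),
      (c = 1 ∨ (∃ k : ℕ, c ^ k = b ^ 4) ∨ (∃ k : ℕ, c ^ k = a)) ∧
      (orderOf c = 1 ∨ orderOf c = 2 ∨ orderOf c = 4 ∨ orderOf c = 8 ∨ orderOf c = 5 ∨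
        orderOf c = 10) := by
  intro c hc
  obtain ⟨i, j, rfl⟩ := s52_q9grp_shape ha hab hb8 c hc
  have hmod : b ^ j = b ^ (j % 8) := pow_eq_pow_mod j hb8
  have hlt : j % 8 < 8 := Nat.mod_lt _ (by norm_num)
  rw [hmod]
  generalize j % 8 = r at hlt
  have hbpow : ∀ m : ℕ, b ^ m = b ^ (m % 8) := fun m => pow_eq_pow_mod m hb8
  -- odd `r`: the fourth power is `b ^ 4`
  have hodd : ∀ r : ℕ, 5 ∣ (1 + 2 ^ r) * (1 + 2 ^ (2 * r)) → (4 * r) % 8 = 4 →
      (a ^ i * b ^ r) ^ 4 = b ^ 4 := by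
    intro r h5 h8
    rw [show (4 : ℕ) = 2 * 2 by norm_num, pow_mul, s52_q9grp_sq hab, s52_q9grp_sq hab,
      mul_assoc, s52_q9grp_apow ha i _ h5, one_mul, hbpow, show 2 * (2 * r) = 4 * r by ring, h8]
  have heven : ∀ r : ℕ, 5 ∣ (1 + 2 ^ r) → (2 * r) % 8 = 4 →
      (a ^ i * b ^ r) ^ 2 = b ^ 4 := by
    intro r h5 h8
    rw [s52_q9grp_sq hab, s52_q9grp_apow ha i _ h5, one_mul, hbpow, h8]
  interval_cases r
  · -- `r = 0`
    rw [pow_zero, mul_one]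
    by_cases hi : a ^ i = 1
    · exact ⟨Or.inl hi, Or.inl (by rw [hi, orderOf_one])⟩
    · obtain ⟨k, hk⟩ := s52_q9grp_gen ha i hi
      refine ⟨Or.inr (Or.inr ⟨k, hk⟩), Or.inr (Or.inr (Or.inr (Or.inr (Or.inl ?_))))⟩
      haveI : Fact (Nat.Prime 5) := ⟨by norm_num⟩
      apply orderOf_eq_prime _ hi
      rw [← pow_mul, mul_comm, pow_mul, ha, one_pow]
  · exact s52_q9grp_of_pow4 hb8 hb4 _ (hodd 1 (by norm_num) (by norm_num))
  · exact s52_q9grp_of_pow2 hb8 hb4 _ (heven 2 (by norm_num) (by norm_num))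
  · exact s52_q9grp_of_pow4 hb8 hb4 _ (hodd 3 (by norm_num) (by norm_num))
  · -- `r = 4`
    have hcomm : Commute (a ^ i) (b ^ 4) := by
      show a ^ i * b ^ 4 = b ^ 4 * a ^ i
      rw [s52_q9grp_comm hab]
      congr 1
      rw [show 2 ^ 4 * i = i + i * 15 by ring, pow_add, s52_q9grp_apow ha i 15 (by norm_num),
        mul_one]
    have hpow : ∀ m : ℕ, (a ^ i * b ^ 4) ^ m = (a ^ i) ^ m * (b ^ 4) ^ m := fun m =>
      hcomm.mul_pow m
    have hai5 : (a ^ i) ^ 5 = 1 := by rw [← pow_mul, mul_comm, pow_mul, ha, one_pow]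
    by_cases hi : a ^ i = 1
    · rw [hi, one_mul]
      refine ⟨Or.inr (Or.inl ⟨1, pow_one _⟩), Or.inr (Or.inl ?_)⟩
      haveI : Fact (Nat.Prime 2) := ⟨Nat.prime_two⟩
      apply orderOf_eq_prime _ hb4
      rw [← pow_mul]; exact hb8
    · have h5 : (a ^ i * b ^ 4) ^ 5 = b ^ 4 := by
        rw [hpow, hai5, one_mul, ← pow_mul, hbpow]
      have h10 : (a ^ i * b ^ 4) ^ 10 = 1 := by
        rw [show (10 : ℕ) = 5 * 2 by norm_num, pow_mul, h5, ← pow_mul]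
        exact hb8
      have h2 : (a ^ i * b ^ 4) ^ 2 ≠ 1 := by
        rw [hpow, ← pow_mul b, show 4 * 2 = 8 by norm_num, hb8, mul_one]
        intro h2
        apply hi
        have : a ^ i = (a ^ i) ^ 5 * (((a ^ i) ^ 2) ^ 2)⁻¹ := by group
        rw [this, hai5, h2, one_pow, inv_one, mul_one]
      refine ⟨Or.inr (Or.inl ⟨5, h5⟩), Or.inr (Or.inr (Or.inr (Or.inr (Or.inr ?_))))⟩
      have hdvd : orderOf (a ^ i * b ^ 4) ∣ 10 := orderOf_dvd_of_pow_eq_one h10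
      have hmem : orderOf (a ^ i * b ^ 4) ∈ Nat.divisors 10 :=
        Nat.mem_divisors.2 ⟨hdvd, by norm_num⟩
      have hdiv : Nat.divisors 10 = {1, 2, 5, 10} := by decide
      rw [hdiv] at hmem
      simp only [Finset.mem_insert, Finset.mem_singleton] at hmem
      rcases hmem with h | h | h | h
      · exfalso
        apply h2
        have := pow_orderOf_eq_one (a ^ i * b ^ 4)
        rw [h, pow_one] at this
        rw [this, one_pow]
      · exfalso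
        apply h2
        have := pow_orderOf_eq_one (a ^ i * b ^ 4)
        rw [h] at this
        exact this
      · exfalso
        apply hb4
        have := pow_orderOf_eq_one (a ^ i * b ^ 4)
        rw [h, h5] at this
        exact this
      · exact h
  · exact s52_q9grp_of_pow4 hb8 hb4 _ (hodd 5 (by norm_num) (by norm_num))
  · exact s52_q9grp_of_pow2 hb8 hb4 _ (heven 6 (by norm_num) (by norm_num))
  · exact s52_q9grp_of_pow4 hb8 hb4 _ (hodd 7 (by norm_num) (by norm_num))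

end Cfsg.Agent.Helper15.S52
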