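import Mathlib
import Cfsg.Agent.Lib.Helper15.S64Defs
import Cfsg.Agent.Lib.Helper2.OutCongr
import Cfsg.Agent.Lib.Helper2.SzSimple
import Cfsg.Agent.Lib.Helper2.SzSylow

/-!
# S3664, piece S64-EX15: an element of order `15` in `L = Sz(8) ⋊ Aut(F_8)`.
-/

set_option autoImplicit false
set_option linter.unusedSectionVars false
set_option linter.unusedVariables false

namespace Cfsg.Agent.Helper15.S64

open Matrix Cfsg.Agent.Helper2 Cfsg.Agent.Helper2.Sz

variable {F : Type*} [Field F] [Fintype F] (S : SzData F 1)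
  (hF : Fintype.card F = 2 ^ (2 * 1 + 1))

/-- the matrix of the element of order `5`. -/
def s64_ex15_G (F : Type*) [Field F] : Matrix (Fin 4) (Fin 4) F :=
  !![0, 0, 0, 1; 0, 0, 1, 0; 0, 1, 0, 1; 1, 0, 1, 1]

def s64_ex15_G2 (F : Type*) [Field F] : Matrix (Fin 4) (Fin 4) F :=
  !![1, 0, 1, 1; 0, 1, 0, 1; 1, 0, 0, 1; 1, 1, 1, 1]

def s64_ex15_G4 (F : Type*) [Field F] : Matrix (Fin 4) (Fin 4) F :=
  !![1, 1, 0, 1; 1, 0, 1, 0; 0, 1, 0, 0; 1, 0, 0, 0]

theorem s64_ex15_sq (h2 : (2 : F) = 0) : s64_ex15_G F * s64_ex15_G F = s64_ex15_G2 F := by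
  have h11 : (1 : F) + 1 = 0 := by rw [one_add_one_eq_two]; exact h2
  ext i j
  fin_cases i <;> fin_cases j <;>
    simp [s64_ex15_G, s64_ex15_G2, Matrix.mul_apply, Fin.sum_univ_four, h11]

theorem s64_ex15_four (h2 : (2 : F) = 0) : s64_ex15_G2 F * s64_ex15_G2 F = s64_ex15_G4 F := by
  have h11 : (1 : F) + 1 = 0 := by rw [one_add_one_eq_two]; exact h2
  ext i j
  fin_cases i <;> fin_cases j <;>
    simp [s64_ex15_G2, s64_ex15_G4, Matrix.mul_apply, Fin.sum_univ_four, h11, add_assoc]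

theorem s64_ex15_five (h2 : (2 : F) = 0) : s64_ex15_G4 F * s64_ex15_G F = 1 := by
  have h11 : (1 : F) + 1 = 0 := by rw [one_add_one_eq_two]; exact h2
  ext i j
  fin_cases i <;> fin_cases j <;>
    simp [s64_ex15_G, s64_ex15_G4, Matrix.mul_apply, Fin.sum_univ_four, h11, add_assoc]

theorem s64_ex15_pow_five (h2 : (2 : F) = 0) : s64_ex15_G F ^ 5 = 1 := by
  have : s64_ex15_G F ^ 5 = ((s64_ex15_G F * s64_ex15_G F) * (s64_ex15_G F * s64_ex15_G F)) *
      s64_ex15_G F := by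
    noncomm_ring
  rw [this, s64_ex15_sq h2, s64_ex15_four h2, s64_ex15_five h2]

theorem s64_ex15_mat : mat (S.WgSz * S.TgSz 0 1) = s64_ex15_G F := by
  show (Wm : Matrix (Fin 4) (Fin 4) F) * Tm S.s 0 1 = s64_ex15_G F
  ext i j
  fin_cases i <;> fin_cases j <;>
    simp [s64_ex15_G, Wm, Tm, Cfsg.Agent.S0335.ff, Matrix.mul_apply, Fin.sum_univ_four]

theorem s64_ex15_orderOf_g5 : orderOf (S.WgSz * S.TgSz 0 1) = 5 := by
  haveI : Fact (Nat.Prime 5) := ⟨by norm_num⟩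
  apply orderOf_eq_prime
  · apply Subtype.ext
    apply Subtype.ext
    have h := s64_ex15_pow_five (F := F) S.h2
    rw [← s64_ex15_mat S] at h
    exact h
  · intro h
    have h1 : mat (S.WgSz * S.TgSz 0 1) = 1 := by rw [h]; rfl
    rw [s64_ex15_mat] at h1
    have := congrFun (congrFun h1 0) 0
    simp [s64_ex15_G] at this

theorem s64_ex15_fixed (ψ : F ≃+* F) :
    S.fieldAut le_rfl hF ψ (S.WgSz * S.TgSz 0 1) = S.WgSz * S.TgSz 0 1 := by
  rw [map_mul, S.fieldAut_TgSz, map_zero, map_one]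
  congr 1
  apply Subtype.ext
  rw [SzData.fieldAut_coe]
  exact SzData.slMap_Wg ψ

/-- PIECE S64-EX15 -/
theorem exists_fifteen : ∃ x : Lgrp S hF, orderOf x = 15 := by
  haveI : Fact (Nat.Prime 2) := ⟨Nat.prime_two⟩
  haveI : Fact (Nat.Prime 3) := ⟨Nat.prime_three⟩
  haveI := finite_aut (F := F)
  have hcard : Nat.card (F ≃+* F) = 3 := OutCongr.card_ringEquiv (p := 2) (n := 3) hF
  obtain ⟨ψ, hψ⟩ : ∃ ψ : F ≃+* F, ψ ≠ 1 := by
    by_contra hcon
    push Not at hcon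
    have : Subsingleton (F ≃+* F) := ⟨fun a b => by rw [hcon a, hcon b]⟩
    have := Nat.card_eq_one_iff_unique.2 ⟨this, ⟨1⟩⟩
    omega
  have hoψ : orderOf ψ = 3 := by
    apply orderOf_eq_prime
    · rw [← hcard]; exact pow_card_eq_one'
    · exact hψ
  set g5 : Cfsg.Sz F 1 := S.WgSz * S.TgSz 0 1 with hg5
  have ho5 : orderOf g5 = 5 := s64_ex15_orderOf_g5 S
  have hcomm : Commute (SemidirectProduct.inl g5 : Lgrp S hF) (SemidirectProduct.inr ψ) := by
    have h1 := SemidirectProduct.inl_aut (φ := S.fieldAut le_rfl hF) ψ g5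
    rw [s64_ex15_fixed S hF ψ] at h1
    -- inl g5 = inr ψ * inl g5 * inr ψ⁻¹
    show (SemidirectProduct.inl g5 : Lgrp S hF) * SemidirectProduct.inr ψ =
      SemidirectProduct.inr ψ * SemidirectProduct.inl g5
    conv_lhs => rw [h1]
    rw [mul_assoc, ← map_mul, inv_mul_cancel, map_one, mul_one]
  have h5 : orderOf (SemidirectProduct.inl g5 : Lgrp S hF) = 5 := by
    rw [orderOf_injective (SemidirectProduct.inl : Cfsg.Sz F 1 →* Lgrp S hF)
      SemidirectProduct.inl_injective, ho5]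
  have h3 : orderOf (SemidirectProduct.inr ψ : Lgrp S hF) = 3 := by
    rw [orderOf_injective (SemidirectProduct.inr : (F ≃+* F) →* Lgrp S hF)
      SemidirectProduct.inr_injective, hoψ]
  refine ⟨SemidirectProduct.inl g5 * SemidirectProduct.inr ψ, ?_⟩
  rw [hcomm.orderOf_mul_eq_mul_orderOf_of_coprime (by rw [h5, h3]; norm_num), h5, h3]

end Cfsg.Agent.Helper15.S64
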