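import Mathlib
import Cfsg.Agent.Lib.Helper15.S74Defs

/-!
# S2474, piece S74-DICH1, core: consequences in the irreducible case, with the statements of
S74-CENT, S74-RND, S74-ORDUTIL (specialised) as hypotheses.
-/

set_option autoImplicit false
set_option linter.unusedVariables false
set_option linter.unusedSectionVars false

open Cfsg.Agent.Helper15.S62

namespace Cfsg.Agent.Helper15.S74

universe u

variable {F : Type u} [Field F]

/-- powers of an endomorphism which is a multiplication in the model -/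
theorem s74_dich1_pow {W : Type u} [AddCommGroup W] [Module F W] {L : Type u} [Field L] [Algebra F L]
    (φ : L ≃ₗ[F] W) (z : Module.End F W) (μ : L) (h : ∀ x : L, z (φ x) = φ (μ * x)) (j : ℕ) :
    ∀ x : L, (z ^ j) (φ x) = φ (μ ^ j * x) := by
  induction j with
  | zero => intro x; simp
  | succ j ih =>
    intro x
    rw [pow_succ', Module.End.mul_apply, ih, h, pow_succ', mul_assoc]

/-- an isometry which is the multiplication by `μ` in the model has `μ ^ (q^n + 1) = 1` -/
theorem s74_dich1_norm {W : Type u} [AddCommGroup W] [Module F W] {L : Type u} [Field L] [Algebra F L]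
    (B : LinearMap.BilinForm F W) (hRND : ∀ w, (∀ x, B x w = 0) → w = 0)
    (φ : L ≃ₗ[F] W) (N : ℕ)
    (hadj : ∀ a x y' : L, B (φ (a * x)) (φ y') = B (φ x) (φ (a ^ N * y')))
    (z : Module.End F W) (hz : Isom B z) (μ : L) (h : ∀ x : L, z (φ x) = φ (μ * x)) :
    μ ^ (N + 1) = 1 := by
  have h1 : ∀ x : L, B (φ x) (φ (μ ^ (N + 1) * 1 - 1)) = 0 := by
    intro x
    have e1 : B (z (φ x)) (z (φ 1)) = B (φ x) (φ 1) := hz _ _
    rw [h, h, hadj, ← mul_assoc, ← pow_succ] at e1
    rw [map_sub, map_sub, e1, sub_self]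
  have h2 : φ (μ ^ (N + 1) * 1 - 1) = 0 := by
    apply hRND
    intro w
    obtain ⟨x, rfl⟩ := φ.surjective w
    exact h1 x
  have h3 : μ ^ (N + 1) * 1 - 1 = 0 := by
    have := congrArg φ.symm h2
    simpa using this
  rw [mul_one] at h3
  exact sub_eq_zero.1 h3

theorem s74_dich1_core [Fintype F] {W : Type u} [AddCommGroup W] [Module F W] [FiniteDimensional F W]
    (B : LinearMap.BilinForm F W) (y : Module.End F W)
    (hy : Isom B y) (t : ℕ) (n : ℕ)
    {L : Type u} [Field L] [Algebra F L] (φ : L ≃ₗ[F] W) (ζ : L)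
    (hφ : ∀ x : L, φ (ζ * x) = y (φ x))
    (hadj : ∀ a x y' : L, B (φ (a * x)) (φ y') = B (φ x) (φ (a ^ (Fintype.card F ^ n) * y')))
    (hCENT : ∀ z : Module.End F W, Commute z y → ∃ μ : L, ∀ x : L, z (φ x) = φ (μ * x))
    (hRND : ∀ w, (∀ x, B x w = 0) → w = 0)
    (hORD : ∀ m : ℕ, y ^ m = 1 → t ∣ m) :
    t ∣ Fintype.card F ^ n + 1 ∧
      ∀ z : Module.End F W, Commute z y → Isom B z → z ^ 4 = 1 →
        (z ^ 2 = 1 → z = 1 ∨ z = -1) ∧ (z ^ 2 ≠ 1 → 4 ∣ Fintype.card F ^ n + 1) := by
  constructor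
  · apply hORD
    have hζ1 : ζ ^ (Fintype.card F ^ n + 1) = 1 :=
      s74_dich1_norm B hRND φ _ hadj y hy ζ (fun x => (hφ x).symm)
    apply LinearMap.ext
    intro w
    obtain ⟨x, rfl⟩ := φ.surjective w
    rw [s74_dich1_pow φ y ζ (fun x => (hφ x).symm), hζ1, one_mul, Module.End.one_apply]
  · intro z hzy hz hz4
    obtain ⟨μ, hμ⟩ := hCENT z hzy
    have hμN : μ ^ (Fintype.card F ^ n + 1) = 1 := s74_dich1_norm B hRND φ _ hadj z hz μ hμ
    have hpow : ∀ j : ℕ, z ^ j = 1 → μ ^ j = 1 := by
      intro j hj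
      have := s74_dich1_pow φ z μ hμ j 1
      rw [hj, Module.End.one_apply, mul_one] at this
      exact (φ.injective this).symm
    have hpow' : ∀ j : ℕ, μ ^ j = 1 → z ^ j = 1 := by
      intro j hj
      apply LinearMap.ext
      intro w
      obtain ⟨x, rfl⟩ := φ.surjective w
      rw [s74_dich1_pow φ z μ hμ, hj, one_mul, Module.End.one_apply]
    constructor
    · intro hz2
      have hμ2 : μ * μ = 1 := by rw [← pow_two]; exact hpow 2 hz2
      rcases mul_self_eq_one_iff.1 hμ2 with h | h
      · left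
        apply LinearMap.ext
        intro w
        obtain ⟨x, rfl⟩ := φ.surjective w
        rw [hμ, h, one_mul, Module.End.one_apply]
      · right
        apply LinearMap.ext
        intro w
        obtain ⟨x, rfl⟩ := φ.surjective w
        rw [hμ, h, neg_one_mul, map_neg, LinearMap.neg_apply, Module.End.one_apply]
    · intro hz2
      have hμ4 : μ ^ 4 = 1 := hpow 4 hz4
      have hμ2 : μ ^ 2 ≠ 1 := fun h => hz2 (hpow' 2 h)
      have ho : orderOf μ = 4 := by
        have hd : orderOf μ ∣ 4 := orderOf_dvd_of_pow_eq_one hμ4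
        have hnd : ¬ orderOf μ ∣ 2 := fun h => hμ2 (orderOf_dvd_iff_pow_eq_one.1 h)
        have hle : orderOf μ ≤ 4 := Nat.le_of_dvd (by norm_num) hd
        interval_cases h : orderOf μ
        · simp at hd
        · exact absurd (one_dvd 2) hnd
        · exact absurd (dvd_refl 2) hnd
        · norm_num at hd
        · rfl
      rw [← ho]
      exact orderOf_dvd_of_pow_eq_one hμN

end Cfsg.Agent.Helper15.S74
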