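import Mathlib
import Cfsg.Prelude.Def_Classical
import Cfsg.Agent.Lib.Helper15.S74Defs
import Cfsg.Agent.Lib.Helper12.S74CENT
import Cfsg.Agent.Lib.Helper9.S74RND
import Cfsg.Agent.Lib.Helper27.S74ORDUTIL
import Cfsg.Agent.Lib.Helper28.S74DICH1Core

/-!
# S2474, piece S74-DICH1: consequences in the irreducible case (wrapper of `s74_dich1_core`).
-/

set_option autoImplicit false
set_option linter.unusedVariables false

open Cfsg.Agent.Helper15.S62

namespace Cfsg.Agent.Helper15.S74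

universe u

variable {F : Type u} [Field F]

/-- S74-DICH1 (uses CENT, RND, ORDUTIL): consequences in the irreducible case. -/
theorem dich_irr [Fintype F] {W : Type u} [AddCommGroup W] [Module F W] [FiniteDimensional F W]
    (h2 : (2 : F) ≠ 0) (B : LinearMap.BilinForm F W) (hnd : LND B) (y : Module.End F W)
    (hy : Isom B y) (t : ℕ)
    (ht : t.Prime) (htF : (t : F) ≠ 0) (hsum : ∑ i ∈ Finset.range t, y ^ i = 0) (n : ℕ)
    (hn : 1 ≤ n) {L : Type u} [Field L] [Algebra F L] [Module.Finite F L] (φ : L ≃ₗ[F] W) (ζ : L)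
    (hL : Module.finrank F L = 2 * n) (hζ : Algebra.adjoin F {ζ} = ⊤)
    (hφ : ∀ x : L, φ (ζ * x) = y (φ x))
    (hadj : ∀ a x y' : L, B (φ (a * x)) (φ y') = B (φ x) (φ (a ^ (Fintype.card F ^ n) * y'))) :
    t ∣ Fintype.card F ^ n + 1 ∧
      ∀ z : Module.End F W, Commute z y → Isom B z → z ^ 4 = 1 →
        (z ^ 2 = 1 → z = 1 ∨ z = -1) ∧ (z ^ 2 ≠ 1 → 4 ∣ Fintype.card F ^ n + 1) := by
  have : Nontrivial W := φ.symm.toEquiv.nontrivial
  exact s74_dich1_core B y hy t n φ ζ hφ hadj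
    (fun z hz => exists_mul_of_commute' φ ζ hζ y z hφ hz)
    (rnd_of_lnd B hnd)
    (fun m hm => dvd_of_geom_sum_eq_zero y t ht htF hsum m hm)

end Cfsg.Agent.Helper15.S74
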