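import Mathlib
import Cfsg.Agent.Lib.Helper22.W2PDefs
import Cfsg.Agent.Lib.Helper24.CharBasic

/-!
# S0720 piece CYC (helper28): values of a character on a cyclic subgroup as a nonnegative
integral combination of powers of a primitive root of unity.
-/

set_option autoImplicit false

namespace Cfsg.Agent.Helper22.W2P

open Cfsg Cfsg.Agent.Helper24

universe u

namespace CYC

/-- Representation version: if `π ^ n = 1`, the values of the character of `ρ` on the powers of `π`
are `∑ j < n, c j * ω ^ (j k)` with multiplicities `c j : ℕ`. -/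
theorem rep_cyc {G : Type u} [Group G] {V : Type*} [AddCommGroup V] [Module ℂ V]
    [FiniteDimensional ℂ V] (ρ : Representation ℂ G V) (π : G) (n : ℕ) (hn : 0 < n)
    (hπ : π ^ n = 1) (ω : ℂ) (hω : IsPrimitiveRoot ω n) :
    ∃ c : ℕ → ℕ, ∀ k : ℕ,
      ρ.character (π ^ k) = ∑ j ∈ Finset.range n, (c j : ℂ) * ω ^ (j * k) := by
  classical
  have hf : (ρ π) ^ n = 1 := by rw [← map_pow, hπ, map_one]
  obtain ⟨m, b, μ, hμ, hb⟩ := exists_eigenbasis_of_pow_eq_one (ρ π) hn hf
  haveI : NeZero n := ⟨hn.ne'⟩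
  have he : ∀ i, ∃ e < n, ω ^ e = μ i := fun i => hω.eq_pow_of_pow_eq_one (hμ i)
  choose e hen heq using he
  refine ⟨fun j => (Finset.univ.filter (fun i => e i = j)).card, fun k => ?_⟩
  have htr : ρ.character (π ^ k) = ∑ i, μ i ^ k := by
    apply trace_eq_sum_of_eigenbasis b
    intro i
    rw [map_pow]
    induction k with
    | zero => simp
    | succ k ih =>
      rw [pow_succ, Module.End.mul_apply, hb i, map_smul, ih, smul_smul, pow_succ]
      ring_nf
  rw [htr]
  have h1 : ∀ i, μ i ^ k = ω ^ (e i * k) := fun i => by rw [← heq i, pow_mul]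
  simp_rw [h1]
  rw [← Finset.sum_fiberwise_of_maps_to (s := Finset.univ) (t := Finset.range n) (g := e)
    (fun i _ => Finset.mem_range.mpr (hen i))]
  refine Finset.sum_congr rfl fun j _ => ?_
  rw [Finset.sum_congr rfl (g := fun _ => ω ^ (j * k))
    (fun i hi => by rw [(Finset.mem_filter.mp hi).2])]
  rw [Finset.sum_const, nsmul_eq_mul]

end CYC

variable {G : Type u} [Group G] [Fintype G]

/-- PIECE CYC. -/
theorem cyc_mult {χ : G → ℂ} (hχ : IsCharacter G χ) (π : G) (n : ℕ) (hn : 0 < n)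
    (hπ : π ^ n = 1) (ω : ℂ) (hω : IsPrimitiveRoot ω n) :
    ∃ c : ℕ → ℕ, ∀ k : ℕ, χ (π ^ k) = ∑ j ∈ Finset.range n, (c j : ℂ) * ω ^ (j * k) := by
  obtain ⟨d, ρ, rfl⟩ := hχ
  exact CYC.rep_cyc ρ π n hn hπ ω hω

end Cfsg.Agent.Helper22.W2P
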