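import Mathlib
import Cfsg.Agent.Lib.Helper22.W2PDefs
import Cfsg.Agent.Lib.Helper24.CharComplete
import Cfsg.Agent.Lib.Helper24.CharLinear
import Cfsg.Agent.Lib.Helper20.W2PKER
import Cfsg.Agent.Lib.Helper23.W2PKTRACE

/-!
# S0720 piece PAIR0 (helper28): opposite values of the kernel of `χ₁` along the two cycles of a
conjugate of `π`.
-/

set_option autoImplicit false

namespace Cfsg.Agent.Helper22.W2P

open Cfsg Cfsg.Agent.Helper22.PermCent Cfsg.Agent.Helper24

open scoped ComplexConjugate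

universe u v

namespace PAIR0

section

variable {G : Type u} [Group G] {Ω : Type v} [MulAction G Ω]

/-- an element of prime order without fixed points has all periods equal to `p` -/
theorem period_eq {p : ℕ} (hp : p.Prime) {π : G} (hord : orderOf π = p)
    (hfpf : ∀ x : Ω, π • x ≠ x) (a : Ω) : MulAction.period π a = p := by
  have h := MulAction.period_dvd_orderOf π a
  rw [hord] at h
  rcases (Nat.dvd_prime hp).mp h with h1 | h1
  · exact absurd (MulAction.period_eq_one_iff.mp h1) (hfpf a)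
  · exact h1

theorem pow_smul_inj {p : ℕ} (hp : p.Prime) {π : G} (hord : orderOf π = p)
    (hfpf : ∀ x : Ω, π • x ≠ x) (a : Ω) {i j : ℕ} (hi : i < p) (hj : j < p)
    (h : π ^ i • a = π ^ j • a) : i = j := by
  have hper := period_eq hp hord hfpf a
  unfold MulAction.period at hper
  have h1 : (fun x : Ω => π • x)^[i] a = (fun x : Ω => π • x)^[j] a := by
    rw [smul_iterate, smul_iterate]; exact h
  exact (Function.iterate_eq_iterate_iff_of_lt_minimalPeriod (hper ▸ hi) (hper ▸ hj)).mp h1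

/-- `Ω` of size `2p` is the disjoint union of the two cycles of `π` through `a` and `b`. -/
theorem sum_two_cycles [Fintype Ω] [DecidableEq Ω] {p : ℕ} (hp : p.Prime) {π : G}
    (hord : orderOf π = p) (hfpf : ∀ x : Ω, π • x ≠ x) (hΩ : Fintype.card Ω = 2 * p)
    (a b : Ω) (hab : ∀ s : ℕ, π ^ s • a ≠ b) {M : Type*} [AddCommMonoid M] (f : Ω → M) :
    ∑ x, f x = ∑ j ∈ Finset.range p, f (π ^ j • a) + ∑ j ∈ Finset.range p, f (π ^ j • b) := by
  have injA : Set.InjOn (fun j : ℕ => π ^ j • a) (Finset.range p : Set ℕ) := by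
    intro i hi j hj h
    exact pow_smul_inj hp hord hfpf a (Finset.mem_range.mp hi) (Finset.mem_range.mp hj) h
  have injB : Set.InjOn (fun j : ℕ => π ^ j • b) (Finset.range p : Set ℕ) := by
    intro i hi j hj h
    exact pow_smul_inj hp hord hfpf b (Finset.mem_range.mp hi) (Finset.mem_range.mp hj) h
  set A := (Finset.range p).image (fun j => π ^ j • a) with hAdef
  set B := (Finset.range p).image (fun j => π ^ j • b) with hBdef
  have hA : A.card = p := by rw [hAdef, Finset.card_image_of_injOn injA, Finset.card_range]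
  have hB : B.card = p := by rw [hBdef, Finset.card_image_of_injOn injB, Finset.card_range]
  have hdisj : Disjoint A B := by
    rw [Finset.disjoint_left]
    intro x hxA hxB
    obtain ⟨i, _, rfl⟩ := Finset.mem_image.mp hxA
    obtain ⟨j, hj, hx⟩ := Finset.mem_image.mp hxB
    apply hab (i + (p - j))
    have h1 : π ^ (i + (p - j)) • a = π ^ (p - j) • (π ^ i • a) := by
      rw [add_comm, pow_add, mul_smul]
    have hx' : π ^ j • b = π ^ i • a := hx
    rw [h1, ← hx', ← mul_smul, ← pow_add, Nat.sub_add_cancel (Finset.mem_range.mp hj).le, ← hord,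
      pow_orderOf_eq_one, one_smul]
  have hU : A ∪ B = Finset.univ := by
    apply Finset.eq_univ_of_card
    rw [Finset.card_union_of_disjoint hdisj, hA, hB, hΩ, two_mul]
  rw [← hU, Finset.sum_union hdisj, hAdef, hBdef, Finset.sum_image injA, Finset.sum_image injB]

end

end PAIR0

variable {G : Type u} [Group G] [Fintype G] {Ω : Type v} [Fintype Ω] [DecidableEq Ω]
  [MulAction G Ω]

variable {p : ℕ} [Fact p.Prime] {π : G} {χ₁ ψ ψ' : G → ℂ}

omit [Fintype Ω] [DecidableEq Ω] [Fact p.Prime] in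
/-- the multiplicity of `χ₁` in the permutation character is one -/
theorem PAIR0.inner_theta_chi (C : Ctx2 Ω p π χ₁ ψ ψ') : classInner (theta G Ω) χ₁ = 1 := by
  have hθ : theta G Ω = (fun _ : G => (1 : ℂ)) + χ₁ + ψ + ψ' := by
    rw [C.theta_eq]
    funext g
    simp only [Pi.add_apply]
  have h1 : IsIrrCharacter G (fun _ : G => (1 : ℂ)) := isIrrCharacter_one
  rw [hθ]
  simp only [classInner_add_left]
  rw [irr_orthogonality h1 C.irr₁, irr_orthogonality C.irr₁ C.irr₁,
    irr_orthogonality C.irrψ C.irr₁, irr_orthogonality C.irrψ' C.irr₁, if_pos rfl,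
    if_neg (Ne.symm C.ne₁), if_neg (Ne.symm C.ne₁ψ), if_neg (Ne.symm C.ne₁ψ')]
  norm_num

/-- PIECE PAIR0 (P2): opposite values along the two cycles. -/
theorem pairing (C : Ctx2 Ω p π χ₁ ψ ψ') (hΩ : Fintype.card Ω = 2 * p) (a₀ : Ω) (g : G)
    (hg : ∀ s : ℕ, π ^ s • a₀ ≠ g⁻¹ • a₀) (s : ℕ) (hs : ¬ p ∣ s) :
    K χ₁ a₀ (π ^ s • a₀) + K χ₁ a₀ ((g * π * g⁻¹) ^ s • a₀) = 0 := by
  have hp : p.Prime := Fact.out
  have hcf : IsClassFunction G χ₁ := isClassFunction_of_isIrrCharacter C.irr₁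
  have hm := PAIR0.inner_theta_chi C
  have htr := K_trace C.irr₁ hm (π ^ s)
  rw [C.vanish₁ s hs] at htr
  rw [PAIR0.sum_two_cycles hp C.ord C.fpf hΩ a₀ (g⁻¹ • a₀) hg] at htr
  have hA : ∀ j : ℕ, K χ₁ (π ^ j • a₀) (π ^ s • π ^ j • a₀) = K χ₁ a₀ (π ^ s • a₀) := by
    intro j
    have : π ^ s • π ^ j • a₀ = π ^ j • π ^ s • a₀ := by
      rw [← mul_smul, ← mul_smul, ← pow_add, ← pow_add, add_comm]
    rw [this, K_smul hcf]
  have hB : ∀ j : ℕ, K χ₁ (π ^ j • g⁻¹ • a₀) (π ^ s • π ^ j • g⁻¹ • a₀) =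
      K χ₁ a₀ ((g * π * g⁻¹) ^ s • a₀) := by
    intro j
    have h1 : π ^ s • π ^ j • g⁻¹ • a₀ = π ^ j • g⁻¹ • ((g * π * g⁻¹) ^ s • a₀) := by
      rw [conj_pow]
      simp only [← mul_smul]
      congr 1
      have hc : π ^ s * π ^ j = π ^ j * π ^ s := by rw [← pow_add, ← pow_add, add_comm]
      calc π ^ s * (π ^ j * g⁻¹) = (π ^ s * π ^ j) * g⁻¹ := by rw [mul_assoc]
        _ = (π ^ j * π ^ s) * g⁻¹ := by rw [hc]
        _ = π ^ j * (g⁻¹ * (g * π ^ s * g⁻¹)) := by group
    rw [h1, K_smul hcf, K_smul hcf]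
  simp only [hA, hB, Finset.sum_const, Finset.card_range, nsmul_eq_mul] at htr
  have hp0 : (p : ℂ) ≠ 0 := Nat.cast_ne_zero.mpr hp.ne_zero
  rw [← mul_add] at htr
  exact (mul_eq_zero.mp htr).resolve_left hp0

end Cfsg.Agent.Helper22.W2P
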