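import Mathlib
import Cfsg.Agent.Lib.Helper22.W2PDefs
import Cfsg.Agent.Lib.Helper24.CharComplete
import Cfsg.Agent.Lib.Helper28.W2PPAIR0
import Cfsg.Agent.Lib.Helper2.W2PVFORM
import Cfsg.Agent.Lib.Helper5.W2PPRIMNE

/-!
# S0720 piece PAIRK (helper28): the counting consequence of `pairing`.
-/

set_option autoImplicit false

namespace Cfsg.Agent.Helper22.W2P

open Cfsg Cfsg.Agent.Helper22.PermCent Cfsg.Agent.Helper24

open scoped ComplexConjugate

universe u v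

variable {G : Type u} [Group G] [Fintype G] {Ω : Type v} [Fintype Ω] [DecidableEq Ω]
  [MulAction G Ω]

variable {p : ℕ} [Fact p.Prime] {π : G} {χ₁ ψ ψ' : G → ℂ}

namespace PAIRK

/-- some point lies off the cycle of `π` through `a₀` -/
theorem exists_off_cycle (C : Ctx2 Ω p π χ₁ ψ ψ') (hΩ : Fintype.card Ω = 2 * p) (a₀ : Ω) :
    ∃ g : G, ∀ s : ℕ, π ^ s • a₀ ≠ g⁻¹ • a₀ := by
  have hp : p.Prime := Fact.out
  haveI : MulAction.IsPretransitive G Ω := C.prim.toIsPretransitive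
  have hlt : ((Finset.range p).image (fun j => π ^ j • a₀)).card < Fintype.card Ω := by
    calc ((Finset.range p).image (fun j => π ^ j • a₀)).card
        ≤ (Finset.range p).card := Finset.card_image_le
      _ = p := Finset.card_range p
      _ < 2 * p := by have := hp.pos; omega
      _ = Fintype.card Ω := hΩ.symm
  obtain ⟨y, hy⟩ : ∃ y, y ∉ (Finset.range p).image (fun j => π ^ j • a₀) := by
    by_contra hcon
    push Not at hcon
    have h1 := Finset.eq_univ_iff_forall.mpr hcon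
    rw [h1, Finset.card_univ] at hlt
    exact lt_irrefl _ hlt
  obtain ⟨h, hh⟩ := MulAction.exists_smul_eq G a₀ y
  refine ⟨h⁻¹, fun s hs => hy ?_⟩
  rw [inv_inv, hh] at hs
  rw [Finset.mem_image]
  refine ⟨s % p, Finset.mem_range.mpr (Nat.mod_lt _ hp.pos), ?_⟩
  rw [← hs]
  congr 1
  rw [← C.ord]
  exact pow_mod_orderOf π s

/-- the kernel `K χ a₀ ·` is constant on suborbits -/
theorem K_const {χ : G → ℂ} (hcf : IsClassFunction G χ) (a₀ b y : Ω) (hy : y ∈ sub G a₀ b) :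
    K χ a₀ y = K χ a₀ b := by
  obtain ⟨⟨h, hh⟩, rfl⟩ := hy
  show K χ a₀ (h • b) = K χ a₀ b
  have h2 : K χ a₀ (h • b) = K χ (h • a₀) (h • b) := by
    rw [MulAction.mem_stabilizer_iff.mp hh]
  rw [h2, K_smul hcf]

theorem card_sub_ne_zero (a₀ b : Ω) : (Nat.card (sub G a₀ b) : ℂ) ≠ 0 := by
  haveI : Nonempty (sub G a₀ b) := (MulAction.nonempty_orbit _).to_subtype
  exact Nat.cast_ne_zero.mpr Nat.card_pos.ne'

/-- the counts `kk` do not depend on the conjugate of `π` -/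
theorem kk_conj (C : Ctx2 Ω p π χ₁ ψ ψ') (hΩ : Fintype.card Ω = 2 * p) (a₀ b : Ω) (hb : b ≠ a₀)
    (g : G) : kk p (g * π * g⁻¹) a₀ b = kk p π a₀ b := by
  have h1 := v_formula C hΩ a₀ b hb g
  have h2 := v_formula C hΩ a₀ b hb 1
  rw [one_mul, inv_one, mul_one] at h2
  have h3 : (kk p (g * π * g⁻¹) a₀ b : ℂ) = kk p π a₀ b := by
    have := h1.symm.trans h2
    linear_combination this / 2
  exact_mod_cast h3

/-- every suborbit is met by the cycle of `π` through `a₀` -/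
theorem kk_pos (C : Ctx2 Ω p π χ₁ ψ ψ') (hΩ : Fintype.card Ω = 2 * p) (a₀ b : Ω) (hb : b ≠ a₀) :
    0 < kk p π a₀ b := by
  by_contra h0
  have h0' : kk p π a₀ b = 0 := by omega
  have h2 := v_formula C hΩ a₀ b hb 1
  rw [one_mul, inv_one, mul_one, h0'] at h2
  have hn := card_sub_ne_zero (G := G) a₀ b
  apply prim_ne C hΩ a₀ b hb
  have h3 : (2 * (Nat.card (sub G a₀ b) : ℂ)) * (K χ₁ a₀ b + 1 / 2) = 0 := by
    push_cast at h2 ⊢
    linear_combination h2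
  rcases mul_eq_zero.mp h3 with h4 | h4
  · exact absurd ((mul_eq_zero.mp h4).resolve_left two_ne_zero) hn
  · linear_combination h4

/-- a conjugate of `π` moves `a₀` by every power not divisible by `p` -/
theorem conj_pow_smul_ne (C : Ctx2 Ω p π χ₁ ψ ψ') (a₀ : Ω) (g : G) (s : ℕ) (hs : ¬ p ∣ s) :
    (g * π * g⁻¹) ^ s • a₀ ≠ a₀ := by
  have hp : p.Prime := Fact.out
  have hord : orderOf (g * π * g⁻¹) = p := by
    have := MulEquiv.orderOf_eq (MulAut.conj g) π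
    rw [MulAut.conj_apply] at this
    rw [this, C.ord]
  have hfpf : ∀ x : Ω, (g * π * g⁻¹) • x ≠ x := by
    intro x hx
    apply C.fpf (g⁻¹ • x)
    rw [mul_smul, mul_smul] at hx
    have h1 := congrArg (fun y => g⁻¹ • y) hx
    simpa using h1
  intro h0
  have h1 := MulAction.pow_smul_eq_iff_period_dvd.mp h0
  rw [PAIR0.period_eq hp hord hfpf a₀] at h1
  exact hs h1

/-- one half of `pair_count` -/
theorem half (C : Ctx2 Ω p π χ₁ ψ ψ') (hΩ : Fintype.card Ω = 2 * p) (a₀ : Ω)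
    (b : Fin 3 → Ω) (hb0 : ∀ i, b i ≠ a₀)
    (hball : ∀ y : Ω, y = a₀ ∨ ∃ i, y ∈ sub G a₀ (b i)) (i j l : Fin 3) (hij : i ≠ j)
    (hil : i ≠ l) (hjl : j ≠ l)
    (hk : kk p π a₀ (b i) = kk p π a₀ (b j) + kk p π a₀ (b l)) (hv : K χ₁ a₀ (b i) ≠ 0) :
    K χ₁ a₀ (b j) = - K χ₁ a₀ (b i) := by
  classical
  have hp : p.Prime := Fact.out
  have hcf : IsClassFunction G χ₁ := isClassFunction_of_isIrrCharacter C.irr₁
  obtain ⟨g, hg⟩ := exists_off_cycle C hΩ a₀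
  have hall : ∀ t : Fin 3, t = i ∨ t = j ∨ t = l := by
    intro t
    simp only [Fin.ext_iff, ne_eq] at hij hil hjl ⊢
    omega
  -- the key transfer
  have hstar : ∀ s ∈ Finset.Icc 1 (p - 1), π ^ s • a₀ ∈ sub G a₀ (b i) →
      ∃ t, t ≠ i ∧ K χ₁ a₀ (b t) = - K χ₁ a₀ (b i) ∧ (g * π * g⁻¹) ^ s • a₀ ∈ sub G a₀ (b t) := by
    intro s hs hmem
    have hs' := Finset.mem_Icc.mp hs
    have hnd : ¬ p ∣ s := by
      intro hd
      have h1 := Nat.le_of_dvd (by omega) hd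
      have h2 := hp.pos
      omega
    have hpair := pairing C hΩ a₀ g hg s hnd
    rw [K_const hcf a₀ (b i) _ hmem] at hpair
    rcases hball ((g * π * g⁻¹) ^ s • a₀) with h0 | ⟨t, ht⟩
    · exact absurd h0 (conj_pow_smul_ne C a₀ g s hnd)
    · rw [K_const hcf a₀ (b t) _ ht] at hpair
      refine ⟨t, ?_, ?_, ht⟩
      · rintro rfl
        apply hv
        have h2 : (2 : ℂ) * K χ₁ a₀ (b t) = 0 := by linear_combination hpair
        exact (mul_eq_zero.mp h2).resolve_left two_ne_zero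
      · linear_combination hpair
  by_contra hne
  -- then `S_i ⊆ T_l`
  have hle : kk p π a₀ (b i) ≤ kk p (g * π * g⁻¹) a₀ (b l) := by
    unfold kk
    apply Finset.card_le_card
    intro s hs
    rw [Finset.mem_filter] at hs ⊢
    obtain ⟨t, hti, hkt, hmem⟩ := hstar s hs.1 hs.2
    rcases hall t with rfl | rfl | rfl
    · exact absurd rfl hti
    · exact absurd hkt hne
    · exact ⟨hs.1, hmem⟩
  rw [kk_conj C hΩ a₀ (b l) (hb0 l) g] at hle
  have hpos := kk_pos C hΩ a₀ (b j) (hb0 j)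
  omega

end PAIRK

/-- PIECE PAIRK: the counting consequence of `pairing`. -/
theorem pair_count (C : Ctx2 Ω p π χ₁ ψ ψ') (hΩ : Fintype.card Ω = 2 * p) (a₀ : Ω)
    (b : Fin 3 → Ω) (hb0 : ∀ i, b i ≠ a₀) (hbne : ∀ i j, i ≠ j → b i ∉ sub G a₀ (b j))
    (hball : ∀ y : Ω, y = a₀ ∨ ∃ i, y ∈ sub G a₀ (b i)) (i j l : Fin 3) (hij : i ≠ j)
    (hil : i ≠ l) (hjl : j ≠ l)
    (hk : kk p π a₀ (b i) = kk p π a₀ (b j) + kk p π a₀ (b l)) (hv : K χ₁ a₀ (b i) ≠ 0) :
    K χ₁ a₀ (b j) = - K χ₁ a₀ (b i) ∧ K χ₁ a₀ (b l) = - K χ₁ a₀ (b i) :=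
  ⟨PAIRK.half C hΩ a₀ b hb0 hball i j l hij hil hjl hk hv,
    PAIRK.half C hΩ a₀ b hb0 hball i l j hil hij hjl.symm (by rw [hk, add_comm]) hv⟩

end Cfsg.Agent.Helper22.W2P
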