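import Mathlib
import Cfsg.Agent.Lib.Helper28.PAQuot

set_option autoImplicit false

namespace Cfsg.Agent.Helper28.PA

variable {G : Type*} [Group G]

/-- An automorphism of order prime to `p` which is conjugation by a `p`-element is trivial
(when the centre is trivial). -/
theorem eq_one_of_inner_pElt (p : ℕ) [Fact p.Prime] (α : MulAut G) (hα : ¬ p ∣ orderOf α)
    (hc : Subgroup.center G = ⊥) (u : G) (k : ℕ) (hu : u ^ p ^ k = 1)
    (h : ∀ y, α y = u * y * u⁻¹) : α = 1 := by
  have hpow : ∀ m : ℕ, ∀ y, (α ^ m) y = u ^ m * y * (u ^ m)⁻¹ := by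
    intro m
    induction m with
    | zero => intro y; simp
    | succ m ih =>
      intro y
      rw [pow_succ', MulAut.mul_apply, ih, h, pow_succ']
      group
  have hcen : u ^ orderOf α ∈ Subgroup.center G := by
    rw [Subgroup.mem_center_iff]
    intro y
    have := hpow (orderOf α) y
    rw [pow_orderOf_eq_one, MulAut.one_apply] at this
    calc y * u ^ orderOf α = (u ^ orderOf α * y * (u ^ orderOf α)⁻¹) * u ^ orderOf α := by rw [← this]
      _ = u ^ orderOf α * y := by group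
  rw [hc, Subgroup.mem_bot] at hcen
  have hcop : Nat.Coprime (orderOf α) (p ^ k) := by
    apply Nat.Coprime.pow_right
    exact ((Nat.Prime.coprime_iff_not_dvd (Fact.out)).mpr hα).symm
  have hu1 : u = 1 := by
    have hd1 : orderOf u ∣ orderOf α := orderOf_dvd_of_pow_eq_one hcen
    have hd2 : orderOf u ∣ p ^ k := orderOf_dvd_of_pow_eq_one hu
    exact orderOf_eq_one_iff.mp (Nat.eq_one_of_dvd_coprimes hcop hd1 hd2)
  ext y
  rw [h, hu1]; simp

/-- If `α` fixes the `p`-group `U` pointwise and `C_G(U) ≤ U`, then `α` fixes `N_G(U)` pointwise. -/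
theorem fix_normalizer_self (p : ℕ) [Fact p.Prime] (α : MulAut G) (hα : ¬ p ∣ orderOf α)
    (U : Subgroup G) (hU : IsPGroup p U) (hfix : ∀ x ∈ U, α x = x)
    (hC : Subgroup.centralizer (U : Set G) ≤ U) :
    ∀ x ∈ Subgroup.normalizer (U : Set G), α x = x :=
  fix_normalizer p α hα U hU hfix U le_rfl hC

/-- Convenient way to prove `GoodZ`: `X` is generated by `U` and a set `S`, `C_X(U) ≤ U ⊔ Z`, and every
`s ∈ S` normalizes some `Q ≤ U` with `C_X(Q) ≤ U ⊔ Z`. -/
theorem goodZ_of_gens (p : ℕ) {X : Type*} [Group X] (Z U : Subgroup X) (hU : IsPGroup p U) (S : Set X)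
    (hgen : Subgroup.closure ((U : Set X) ∪ S) = ⊤)
    (hCU : Subgroup.centralizer (U : Set X) ≤ U ⊔ Z)
    (hS : ∀ s ∈ S, ∃ Q : Subgroup X, Q ≤ U ∧ Subgroup.centralizer (Q : Set X) ≤ U ⊔ Z ∧
      s ∈ Subgroup.normalizer (Q : Set X)) : GoodZ p X Z := by
  refine ⟨U, hU, ?_⟩
  rw [eq_top_iff, ← hgen, Subgroup.closure_le]
  rintro x (hx | hx)
  · exact Subgroup.subset_closure ⟨U, le_rfl, hCU, Subgroup.le_normalizer hx⟩
  · exact Subgroup.subset_closure (hS x hx)

/-- `GoodZ p G ⊥` is `Good p G`. -/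
theorem good_of_goodZ_bot (p : ℕ) (h : GoodZ p G ⊥) : Good p G := by
  obtain ⟨U, hU, hgen⟩ := h
  refine ⟨U, hU, ?_⟩
  rw [← hgen]
  congr 1
  ext x
  simp only [sup_bot_eq]

end Cfsg.Agent.Helper28.PA
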