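import Mathlib
import Cfsg.Agent.Lib.Helper2.Psln22

/-!
# S2262, piece AO-GRP3: the square of a graph-field automorphism of `PSL_n(F)`.
-/

set_option autoImplicit false

namespace Cfsg.Agent.Helper17.AO

open Polynomial Matrix Cfsg.Agent.Helper2.PN

section aut
variable {F : Type*} [Field F] {n : ℕ}

/-- AO-GRP3 -/
theorem sq_tau_mul (σ : RingAut F) (g : GL (Fin n) F) :
    (tauAut * (Psi g * phiF σ)) ^ 2 =
      Psi (gT g * fieldGLHom σ g) * phiF (ι := Fin n) (σ ^ 2) := by
  rw [pow_two, map_mul, pow_two, map_mul]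
  calc tauAut * (Psi g * phiF σ) * (tauAut * (Psi g * phiF σ))
      = (tauAut * Psi g) * phiF σ * (tauAut * (Psi g * phiF σ)) := by simp only [mul_assoc]
    _ = Psi (gT g) * (tauAut * phiF σ) * (tauAut * (Psi g * phiF σ)) := by
        rw [tau_mul_Psi]; simp only [mul_assoc]
    _ = Psi (gT g) * phiF σ * (tauAut * tauAut) * (Psi g * phiF σ) := by
        rw [tau_mul_phiF]; simp only [mul_assoc]
    _ = Psi (gT g) * (phiF σ * Psi g) * phiF σ := by
        rw [tauAut_mul_self, mul_one]; simp only [mul_assoc]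
    _ = Psi (gT g) * (Psi (fieldGLHom σ g) * phiF σ) * phiF σ := by rw [phiF_mul_Psi]
    _ = Psi (gT g) * Psi (fieldGLHom σ g) * (phiF σ * phiF σ) := by simp only [mul_assoc]

end aut

end Cfsg.Agent.Helper17.AO
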