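import Mathlib
import Cfsg.Prelude.Def_GeometricClasses
import Cfsg.Agent.Lib.Helper13.FieldInvolution
import Cfsg.Agent.S0752

/-!
# Field subalgebras of matrices: the field structure and the form over the field
(helper28)
-/

set_option autoImplicit false
set_option linter.style.haveILetI false
set_option linter.unusedSectionVars false

namespace Cfsg.Agent.Helper28.BGS

open Matrix Module

section fld

variable {F : Type*} [Field F] {ι : Type} [Fintype ι] [DecidableEq ι]
variable {K : Subalgebra F (Matrix ι ι F)}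

open scoped Classical in
/-- the field structure on a ring that is a field (reducible, extending the ring structure) -/
noncomputable abbrev fieldOf {R : Type*} [Ring R] (h : IsField R) : Field R where
  __ := ‹Ring R›
  __ := h
  inv a := if ha : a = 0 then 0 else Classical.choose (h.mul_inv_cancel ha)
  inv_zero := dif_pos rfl
  mul_inv_cancel a ha := by
    convert Classical.choose_spec (h.mul_inv_cancel ha)
    exact dif_neg ha
  nnqsmul := _
  nnqsmul_def _ _ := rfl
  qsmul := _
  qsmul_def _ _ := rfl

/-- a subalgebra of matrices that is a field -/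
class IsFld (K : Subalgebra F (Matrix ι ι F)) : Prop where
  isField : IsField ↥K

noncomputable instance instFieldOfIsFld [h : IsFld K] : Field ↥K := fieldOf h.isField

theorem fld_smul_def [IsFld K] (k : ↥K) (v : ι → F) :
    k • v = (k : Matrix ι ι F) *ᵥ v := rfl

/-- a field subalgebra of positive degree is a field -/
theorem isFld_of {k : ℕ} (hk : 1 ≤ k) (hK : Cfsg.Geo.IsFieldSubalgebra k K) : IsFld K := by
  constructor
  have hpos : 0 < finrank F ↥K := by rw [hK.finrank_eq]; exact hk
  obtain ⟨x, hx⟩ := Module.finrank_pos_iff_exists_ne_zero.1 hpos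
  refine ⟨⟨x, 0, hx⟩, ?_, ?_⟩
  · intro a b
    exact Subtype.ext (hK.comm a a.2 b b.2)
  · intro a ha
    have ha' : (a : Matrix ι ι F) ≠ 0 := fun h => ha (Subtype.ext h)
    obtain ⟨y, hy, hay⟩ := hK.inv a a.2 ha'
    exact ⟨⟨y, hy⟩, Subtype.ext hay⟩

/-- the dimension over the field -/
theorem finrank_mul [IsFld K] {k : ℕ} (hK : Cfsg.Geo.IsFieldSubalgebra k K) :
    k * finrank ↥K (ι → F) = Fintype.card ι := by
  haveI : FiniteDimensional ↥K (ι → F) := FiniteDimensional.right F ↥K (ι → F)
  have hmul : finrank F ↥K * finrank ↥K (ι → F) = finrank F (ι → F) :=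
    Module.finrank_mul_finrank F ↥K (ι → F)
  rw [hK.finrank_eq, Module.finrank_fintype_fun_eq_card] at hmul
  exact hmul

/-- the dimension of a stable subspace -/
theorem finrank_restrictScalars [IsFld K] {k : ℕ} (hK : Cfsg.Geo.IsFieldSubalgebra k K)
    (W : Submodule ↥K (ι → F)) :
    finrank F ↥(W.restrictScalars F) = k * finrank ↥K ↥W := by
  haveI : FiniteDimensional ↥K (ι → F) := FiniteDimensional.right F ↥K (ι → F)
  have h1 : finrank F ↥K * finrank ↥K ↥W = finrank F ↥W :=
    Module.finrank_mul_finrank F ↥K ↥W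
  rw [hK.finrank_eq] at h1
  rw [h1]
  rfl

/-- a subspace stable under the field, as a subspace over the field -/
def stableSub [IsFld K] (W : Submodule F (ι → F)) (hW : ∀ a ∈ K, ∀ w ∈ W, a *ᵥ w ∈ W) :
    Submodule ↥K (ι → F) where
  carrier := W
  add_mem' := W.add_mem
  zero_mem' := W.zero_mem
  smul_mem' a w hw := hW a a.2 w hw

theorem stableSub_restrictScalars [IsFld K] (W : Submodule F (ι → F))
    (hW : ∀ a ∈ K, ∀ w ∈ W, a *ᵥ w ∈ W) : (stableSub W hW).restrictScalars F = W := by
  ext v
  rfl

theorem mem_stableSub [IsFld K] (W : Submodule F (ι → F))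
    (hW : ∀ a ∈ K, ∀ w ∈ W, a *ᵥ w ∈ W) (v : ι → F) : v ∈ stableSub W hW ↔ v ∈ W := Iff.rfl

/-- the degree divides the dimension of a stable subspace -/
theorem dvd_finrank_of_stable {k : ℕ} (hk : 1 ≤ k) (hK : Cfsg.Geo.IsFieldSubalgebra k K)
    (W : Submodule F (ι → F)) (hW : ∀ a ∈ K, ∀ w ∈ W, a *ᵥ w ∈ W) : k ∣ finrank F ↥W := by
  haveI := isFld_of hk hK
  have h := finrank_restrictScalars hK (stableSub W hW)
  rw [stableSub_restrictScalars] at h
  exact ⟨_, h⟩

end fld

section even

variable {L : Type*} [Field L]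

/-- a space with a non-degenerate alternating form has even dimension -/
theorem even_finrank_of_alt {U : Type*} [AddCommGroup U] [Module L U] [FiniteDimensional L U]
    (B : LinearMap.BilinForm L U) (hA : B.IsAlt) (hnd : ∀ u, (∀ v, B u v = 0) → u = 0) :
    Even (finrank L U) := by
  obtain ⟨m, k, e, f, r, -, -, -, h4, hli, hsum⟩ := Cfsg.Agent.S0752.main (finrank L U) B hA rfl
  have hk : k = 0 := by
    by_contra hne
    have j : Fin k := ⟨0, Nat.pos_of_ne_zero hne⟩
    exact hli.ne_zero j (hnd _ (h4 j))
  subst hk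
  exact ⟨m, by omega⟩

end even

end Cfsg.Agent.Helper28.BGS
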