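import Mathlib
import Cfsg.Agent.Lib.Helper28.BGS1

/-!
# Field subalgebras of self-adjoint matrices: the alternating form over the field
(helper28)
-/

set_option autoImplicit false
set_option linter.style.haveILetI false
set_option linter.unusedSectionVars false

namespace Cfsg.Agent.Helper28.BGS

open Matrix Module

section formL

variable {F : Type*} [Field F] {ι : Type} [Fintype ι] [DecidableEq ι]
variable {K : Subalgebra F (Matrix ι ι F)}

/-- the hypotheses on the form: the subalgebra is self-adjoint, the form is alternating over it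
and non-degenerate -/
structure SAForm (K : Subalgebra F (Matrix ι ι F)) (B : LinearMap.BilinForm F (ι → F)) :
    Prop where
  sa : ∀ a ∈ K, ∀ u v, B (a *ᵥ u) v = B u (a *ᵥ v)
  alt : ∀ a ∈ K, ∀ v, B (a *ᵥ v) v = 0
  nd : ∀ u, (∀ v, B u v = 0) → u = 0

theorem SAForm.self {B : LinearMap.BilinForm F (ι → F)} (h : SAForm K B) (v : ι → F) :
    B v v = 0 := by
  have := h.alt 1 K.one_mem v
  rwa [Matrix.one_mulVec] at this

variable [IsFld K]

/-- the functional `a ↦ B (a u) v` -/
def tau (B : LinearMap.BilinForm F (ι → F)) (u v : ι → F) : ↥K →ₗ[F] F where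
  toFun a := B (a • u) v
  map_add' a b := by rw [add_smul, map_add, LinearMap.add_apply]
  map_smul' c a := by
    rw [smul_assoc, map_smul, LinearMap.smul_apply]
    rfl

theorem tau_apply (B : LinearMap.BilinForm F (ι → F)) (u v : ι → F) (a : ↥K) :
    tau B u v a = B (a • u) v := rfl

/-- the value of the form over the field -/
noncomputable def BLfun (B : LinearMap.BilinForm F (ι → F)) (φ : ↥K →ₗ[F] F) (hφ : φ ≠ 0)
    (u v : ι → F) : ↥K :=
  Classical.choose (Cfsg.Agent.Helper13.Herm.exists_twist φ (tau B u v) hφ)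

theorem BLfun_spec (B : LinearMap.BilinForm F (ι → F)) (φ : ↥K →ₗ[F] F) (hφ : φ ≠ 0)
    (u v : ι → F) (a : ↥K) : φ (a * BLfun B φ hφ u v) = B (a • u) v :=
  Classical.choose_spec (Cfsg.Agent.Helper13.Herm.exists_twist φ (tau B u v) hφ) a

theorem BLfun_unique (B : LinearMap.BilinForm F (ι → F)) (φ : ↥K →ₗ[F] F) (hφ : φ ≠ 0)
    (u v : ι → F) (y : ↥K) (h : ∀ a : ↥K, φ (a * y) = B (a • u) v) : y = BLfun B φ hφ u v := by
  apply Cfsg.Agent.Helper13.Herm.twist_injective φ hφ
  intro a
  rw [h, BLfun_spec]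

/-- the form over the field -/
noncomputable def BL {B : LinearMap.BilinForm F (ι → F)} (h : SAForm K B) (φ : ↥K →ₗ[F] F)
    (hφ : φ ≠ 0) : LinearMap.BilinForm ↥K (ι → F) :=
  LinearMap.mk₂ ↥K (BLfun B φ hφ)
    (by
      intro u u' v
      symm
      apply BLfun_unique
      intro a
      rw [mul_add, map_add, BLfun_spec, BLfun_spec, smul_add, map_add, LinearMap.add_apply])
    (by
      intro b u v
      symm
      apply BLfun_unique
      intro a
      rw [smul_eq_mul, ← mul_assoc, BLfun_spec, mul_smul])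
    (by
      intro u v v'
      symm
      apply BLfun_unique
      intro a
      rw [mul_add, map_add, BLfun_spec, BLfun_spec, map_add])
    (by
      intro b u v
      symm
      apply BLfun_unique
      intro a
      rw [smul_eq_mul, ← mul_assoc, BLfun_spec, mul_comm a b, mul_smul, fld_smul_def b,
        h.sa b b.2]
      rfl)

theorem BL_apply {B : LinearMap.BilinForm F (ι → F)} (h : SAForm K B) (φ : ↥K →ₗ[F] F)
    (hφ : φ ≠ 0) (u v : ι → F) : BL h φ hφ u v = BLfun B φ hφ u v := rfl

theorem phi_mul_BL {B : LinearMap.BilinForm F (ι → F)} (h : SAForm K B) (φ : ↥K →ₗ[F] F)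
    (hφ : φ ≠ 0) (u v : ι → F) (a : ↥K) : φ (a * BL h φ hφ u v) = B (a • u) v := by
  rw [BL_apply, BLfun_spec]

theorem phi_BL {B : LinearMap.BilinForm F (ι → F)} (h : SAForm K B) (φ : ↥K →ₗ[F] F)
    (hφ : φ ≠ 0) (u v : ι → F) : φ (BL h φ hφ u v) = B u v := by
  have := phi_mul_BL h φ hφ u v 1
  rwa [one_mul, one_smul] at this

theorem BL_isAlt {B : LinearMap.BilinForm F (ι → F)} (h : SAForm K B) (φ : ↥K →ₗ[F] F)
    (hφ : φ ≠ 0) : (BL h φ hφ).IsAlt := by
  intro v
  rw [BL_apply]
  symm
  apply BLfun_unique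
  intro a
  rw [mul_zero, map_zero, fld_smul_def, h.alt a a.2]

theorem BL_nd {B : LinearMap.BilinForm F (ι → F)} (h : SAForm K B) (φ : ↥K →ₗ[F] F)
    (hφ : φ ≠ 0) (u : ι → F) (hu : ∀ v, BL h φ hφ u v = 0) : u = 0 := by
  apply h.nd
  intro v
  rw [← phi_BL h φ hφ, hu, map_zero]

theorem BL_nondegenerate {B : LinearMap.BilinForm F (ι → F)} (h : SAForm K B) (φ : ↥K →ₗ[F] F)
    (hφ : φ ≠ 0) : (BL h φ hφ).Nondegenerate := by
  refine ⟨BL_nd h φ hφ, ?_⟩
  intro v hv
  apply BL_nd h φ hφ
  intro u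
  rw [← LinearMap.IsAlt.neg (BL_isAlt h φ hφ) u v, hv, neg_zero]

/-- a non-zero functional on the field -/
theorem exists_functional : ∃ φ : ↥K →ₗ[F] F, φ ≠ 0 := by
  obtain ⟨φ, hφ⟩ := Module.Projective.exists_dual_ne_zero F (one_ne_zero : (1 : ↥K) ≠ 0)
  refine ⟨φ, ?_⟩
  intro h
  apply hφ
  rw [h]
  rfl

end formL

section stable

variable {F : Type*} [Field F] {ι : Type} [Fintype ι] [DecidableEq ι]
variable {K : Subalgebra F (Matrix ι ι F)}

/-- a stable subspace on which the form is non-degenerate has dimension divisible by twice the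
degree -/
theorem two_mul_dvd_finrank_of_stable {k : ℕ} (hk : 1 ≤ k)
    (hK : Cfsg.Geo.IsFieldSubalgebra k K) {B : LinearMap.BilinForm F (ι → F)} (h : SAForm K B)
    (W : Submodule F (ι → F)) (hW : ∀ a ∈ K, ∀ w ∈ W, a *ᵥ w ∈ W)
    (hnd : ∀ u ∈ W, (∀ w ∈ W, B u w = 0) → u = 0) : 2 * k ∣ finrank F ↥W := by
  haveI := isFld_of hk hK
  haveI : FiniteDimensional ↥K (ι → F) := FiniteDimensional.right F ↥K (ι → F)
  obtain ⟨φ, hφ⟩ := exists_functional (K := K)
  set W' := stableSub W hW with hW'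
  have hdim := finrank_restrictScalars hK W'
  rw [stableSub_restrictScalars] at hdim
  have heven : Even (finrank ↥K ↥W') := by
    apply even_finrank_of_alt ((BL h φ hφ).restrict W')
    · intro v
      exact BL_isAlt h φ hφ v
    · intro u hu
      apply Subtype.ext
      apply hnd u u.2
      intro w hw
      have := hu ⟨w, hw⟩
      rw [LinearMap.BilinForm.restrict_apply] at this
      rw [← phi_BL h φ hφ]
      simp only [LinearMap.domRestrict_apply] at this
      rw [this, map_zero]
  obtain ⟨t, ht⟩ := heven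
  refine ⟨t, ?_⟩
  rw [hdim, ht]
  ring

theorem two_mul_dvd_card {k : ℕ} (hk : 1 ≤ k)
    (hK : Cfsg.Geo.IsFieldSubalgebra k K) {B : LinearMap.BilinForm F (ι → F)} (h : SAForm K B) :
    2 * k ∣ Fintype.card ι := by
  have := two_mul_dvd_finrank_of_stable hk hK h ⊤ (fun _ _ _ _ => Submodule.mem_top)
    (fun u _ hu => h.nd u (fun v => hu v Submodule.mem_top))
  rwa [finrank_top, Module.finrank_fintype_fun_eq_card] at this

end stable

end Cfsg.Agent.Helper28.BGS
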