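import Mathlib
import Cfsg.Prelude.Def_GeometricClasses

/-!
# Quadratic field subalgebras closed under adjoints (helper28)

A field subalgebra `K` of degree 2 of a matrix algebra over a finite field of odd order, closed
under adjoints for a nondegenerate bilinear form but not self-adjoint, is `F + F α` with
`α ^ 2 = δ` (any prescribed non-square `δ`) and `α` skew-adjoint.
-/

set_option autoImplicit false

namespace Cfsg.Agent.Helper28.BGU

open Matrix

section finite

variable {F : Type*} [Field F] [Fintype F]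

theorem ringChar_ne_two_of_odd (hodd : Odd (Fintype.card F)) : ringChar F ≠ 2 := by
  intro h
  have h2 := FiniteField.even_card_of_char_two h
  rw [← Nat.not_even_iff_odd] at hodd
  exact hodd (Nat.even_iff.2 h2)

theorem two_ne_zero_of_odd (hodd : Odd (Fintype.card F)) : (2 : F) ≠ 0 := by
  have h := ringChar_ne_two_of_odd hodd
  exact Ring.two_ne_zero h

/-- the quotient of two non-squares is a square -/
theorem exists_sq_mul_of_not_isSquare (hodd : Odd (Fintype.card F)) {a b : F}
    (ha : ¬ IsSquare a) (hb : ¬ IsSquare b) : ∃ c : F, c ≠ 0 ∧ a = c * c * b := by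
  have hF := ringChar_ne_two_of_odd hodd
  have ha0 : a ≠ 0 := by
    rintro rfl
    exact ha ⟨0, by simp⟩
  have hb0 : b ≠ 0 := by
    rintro rfl
    exact hb ⟨0, by simp⟩
  have h1 : a ^ (Fintype.card F / 2) = -1 := by
    rcases FiniteField.pow_dichotomy hF ha0 with h | h
    · exact absurd ((FiniteField.isSquare_iff hF ha0).2 h) ha
    · exact h
  have h2 : b ^ (Fintype.card F / 2) = -1 := by
    rcases FiniteField.pow_dichotomy hF hb0 with h | h
    · exact absurd ((FiniteField.isSquare_iff hF hb0).2 h) hb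
    · exact h
  have hab0 : a / b ≠ 0 := div_ne_zero ha0 hb0
  have h3 : IsSquare (a / b) := by
    rw [FiniteField.isSquare_iff hF hab0, div_pow, h1, h2]
    simp
  obtain ⟨c, hc⟩ := h3
  refine ⟨c, ?_, ?_⟩
  · rintro rfl
    rw [mul_zero] at hc
    exact hab0 hc
  · rw [← hc, div_mul_cancel₀ a hb0]

end finite

section struct

variable {F : Type*} [Field F] {ι : Type} [Fintype ι] [DecidableEq ι]

/-- `α` squares to the scalar `δ` and is skew-adjoint for `B` -/
structure IsSkewRoot (B : LinearMap.BilinForm F (ι → F)) (δ : F) (α : Matrix ι ι F) : Prop where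
  sq : α * α = δ • (1 : Matrix ι ι F)
  skew : ∀ u v : ι → F, B (α *ᵥ u) v = - B u (α *ᵥ v)

theorem matrix_eq_of_mulVec {M N : Matrix ι ι F} (h : ∀ v : ι → F, M *ᵥ v = N *ᵥ v) : M = N := by
  apply Matrix.toLin'.injective
  apply LinearMap.ext
  intro v
  rw [Matrix.toLin'_apply, Matrix.toLin'_apply, h]

theorem one_ne_zero_of_finrank {K : Subalgebra F (Matrix ι ι F)}
    (hK : Module.finrank F K = 2) : (1 : Matrix ι ι F) ≠ 0 := by
  intro h
  have hsub : Subsingleton (Matrix ι ι F) := by
    refine ⟨fun a b => ?_⟩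
    rw [← mul_one a, ← mul_one b, h, mul_zero, mul_zero]
  have hsub' : Subsingleton K := ⟨fun a b => Subtype.ext (Subsingleton.elim _ _)⟩
  have := Module.finrank_zero_of_subsingleton (R := F) (M := K)
  omega

/-- a degree 2 subalgebra has a basis `1, β` -/
theorem exists_gen {K : Subalgebra F (Matrix ι ι F)} (hK : Module.finrank F K = 2) :
    ∃ β ∈ K, (∀ c : F, β ≠ c • (1 : Matrix ι ι F)) ∧
      ∀ k ∈ K, ∃ a b : F, k = a • (1 : Matrix ι ι F) + b • β := by
  classical
  have h10 := one_ne_zero_of_finrank hK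
  have hfd : FiniteDimensional F K := Module.finite_of_finrank_pos (by omega)
  -- an element outside the scalars
  have h1 : ∃ β ∈ K, ∀ c : F, β ≠ c • (1 : Matrix ι ι F) := by
    by_contra hcon
    push Not at hcon
    have hle : Subalgebra.toSubmodule K ≤ Submodule.span F {(1 : Matrix ι ι F)} := by
      intro k hk
      obtain ⟨c, hc⟩ := hcon k hk
      rw [hc]
      exact Submodule.smul_mem _ _ (Submodule.mem_span_singleton_self _)
    have h2 := Submodule.finrank_mono hle
    rw [finrank_span_singleton h10] at h2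
    have h3 : Module.finrank F (Subalgebra.toSubmodule K) = 2 := hK
    omega
  obtain ⟨β, hβK, hβ⟩ := h1
  refine ⟨β, hβK, hβ, ?_⟩
  have hli : LinearIndependent F ![(1 : Matrix ι ι F), β] := by
    rw [LinearIndependent.pair_iff]
    intro s t hst
    by_cases ht : t = 0
    · subst ht
      rw [zero_smul, add_zero] at hst
      rcases smul_eq_zero.1 hst with h | h
      · exact ⟨h, rfl⟩
      · exact absurd h h10
    · exfalso
      apply hβ (-(s / t))
      have : t • β = -(s • (1 : Matrix ι ι F)) := by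
        rw [eq_neg_iff_add_eq_zero, add_comm]
        exact hst
      calc β = t⁻¹ • (t • β) := by rw [smul_smul, inv_mul_cancel₀ ht, one_smul]
        _ = t⁻¹ • (-(s • (1 : Matrix ι ι F))) := by rw [this]
        _ = (-(s / t)) • (1 : Matrix ι ι F) := by
          rw [smul_neg, smul_smul, neg_smul]
          congr 2
          field_simp
  have hspan_le : Submodule.span F (Set.range ![(1 : Matrix ι ι F), β]) ≤
      Subalgebra.toSubmodule K := by
    rw [Submodule.span_le]
    rintro _ ⟨i, rfl⟩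
    fin_cases i
    · exact K.one_mem
    · exact hβK
  have hfr : Module.finrank F (Submodule.span F (Set.range ![(1 : Matrix ι ι F), β])) = 2 := by
    rw [finrank_span_eq_card hli]
    simp
  have heq : Submodule.span F (Set.range ![(1 : Matrix ι ι F), β]) = Subalgebra.toSubmodule K := by
    apply Submodule.eq_of_le_of_finrank_eq hspan_le
    rw [hfr]
    exact hK.symm
  intro k hk
  have hk' : k ∈ Submodule.span F (Set.range ![(1 : Matrix ι ι F), β]) := by
    rw [heq]
    exact hk
  rw [Matrix.range_cons, Matrix.range_cons, Matrix.range_empty, Set.union_empty,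
    Set.union_comm] at hk'
  rw [show ({β} ∪ {(1 : Matrix ι ι F)} : Set (Matrix ι ι F)) = {β, 1} from rfl] at hk'
  obtain ⟨b, a, rfl⟩ := Submodule.mem_span_pair.1 hk'
  exact ⟨a, b, by rw [add_comm]⟩

theorem sub_smul_one_mul_self (β : Matrix ι ι F) (c : F) :
    (β - c • (1 : Matrix ι ι F)) * (β - c • (1 : Matrix ι ι F)) =
      β * β - (c + c) • β + (c * c) • (1 : Matrix ι ι F) := by
  rw [sub_mul, mul_sub, mul_sub, smul_mul_assoc, mul_smul_comm, smul_mul_assoc, mul_smul_comm,
    one_mul, mul_one, mul_one, smul_smul, add_smul]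
  abel

theorem sub_mul_add_smul_one (β : Matrix ι ι F) (c : F) :
    (β - c • (1 : Matrix ι ι F)) * (β + c • (1 : Matrix ι ι F)) =
      β * β - (c * c) • (1 : Matrix ι ι F) := by
  rw [sub_mul, mul_add, mul_add, smul_mul_assoc, mul_smul_comm, smul_mul_assoc, mul_smul_comm,
    one_mul, mul_one, mul_one, smul_smul]
  abel

theorem pair_mul_self (α : Matrix ι ι F) (δ x y : F) (hα : α * α = δ • (1 : Matrix ι ι F)) :
    (x • (1 : Matrix ι ι F) + y • α) * (x • (1 : Matrix ι ι F) + y • α) =
      (x * x + y * y * δ) • (1 : Matrix ι ι F) + (2 * x * y) • α := by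
  rw [add_mul, mul_add, mul_add, smul_mul_assoc, mul_smul_comm, smul_mul_assoc, mul_smul_comm,
    smul_mul_assoc, mul_smul_comm, smul_mul_assoc, mul_smul_comm, one_mul, mul_one, one_mul, hα,
    smul_smul, smul_smul, smul_smul, smul_smul, smul_smul, add_smul]
  rw [show (2 * x * y : F) = x * y + y * x by ring, add_smul]
  abel

end struct

section main

variable {F : Type*} [Field F] [Fintype F] {ι : Type} [Fintype ι] [DecidableEq ι]

/-- structure of a quadratic field subalgebra closed under adjoints but not self-adjoint -/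
theorem exists_skewRoot (hodd : Odd (Fintype.card F)) (B : LinearMap.BilinForm F (ι → F))
    (hnd : ∀ w, (∀ u, B u w = 0) → w = 0)
    (K : Subalgebra F (Matrix ι ι F)) (hK : Cfsg.Geo.IsFieldSubalgebra 2 K)
    (hKf : Cfsg.Geo.IsAdjointClosedFor (fun u v => B u v) K)
    (hKns : ¬ Cfsg.Geo.IsSelfAdjointFor (fun u v => B u v) K)
    (δ : F) (hδ : ¬ IsSquare δ) :
    ∃ α ∈ K, IsSkewRoot B δ α ∧ (∀ t : F, α ≠ t • (1 : Matrix ι ι F)) ∧
      ∀ k ∈ K, ∃ a b : F, k = a • (1 : Matrix ι ι F) + b • α := by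
  have h2 : (2 : F) ≠ 0 := two_ne_zero_of_odd hodd
  have h10 := one_ne_zero_of_finrank hK.finrank_eq
  obtain ⟨β, hβK, hβ, hgen⟩ := exists_gen hK.finrank_eq
  obtain ⟨a, b, hab⟩ := hgen (β * β) (K.mul_mem hβK hβK)
  obtain ⟨c, hc⟩ : ∃ c : F, b = c + c := ⟨b / 2, by field_simp; ring⟩
  set β₁ : Matrix ι ι F := β - c • (1 : Matrix ι ι F) with hβ₁
  have hβ₁K : β₁ ∈ K := K.sub_mem hβK (K.smul_mem K.one_mem c)
  have hββ₁ : β = β₁ + c • (1 : Matrix ι ι F) := by rw [hβ₁]; abel
  have hβ₁ns : ∀ t : F, β₁ ≠ t • (1 : Matrix ι ι F) := by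
    intro t ht
    apply hβ (t + c)
    rw [hββ₁, ht, add_smul]
  set δ₁ : F := a + c * c with hδ₁
  have hsq₁ : β₁ * β₁ = δ₁ • (1 : Matrix ι ι F) := by
    rw [hβ₁, sub_smul_one_mul_self, hab, hc, hδ₁, add_sub_cancel_right, ← add_smul]
  have hδ₁ns : ¬ IsSquare δ₁ := by
    rintro ⟨c', hc'⟩
    have hne : β₁ - c' • (1 : Matrix ι ι F) ≠ 0 := by
      intro h
      exact hβ₁ns c' (sub_eq_zero.1 h)
    obtain ⟨y, hyK, hy⟩ := hK.inv _ (K.sub_mem hβ₁K (K.smul_mem K.one_mem c')) hne
    have hz : (β₁ - c' • (1 : Matrix ι ι F)) * (β₁ + c' • (1 : Matrix ι ι F)) = 0 := by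
      rw [sub_mul_add_smul_one, hsq₁, hc', sub_self]
    have hcomm := hK.comm _ (K.sub_mem hβ₁K (K.smul_mem K.one_mem c')) y hyK
    have h3 : β₁ + c' • (1 : Matrix ι ι F) = 0 := by
      calc β₁ + c' • (1 : Matrix ι ι F)
          = ((β₁ - c' • (1 : Matrix ι ι F)) * y) * (β₁ + c' • (1 : Matrix ι ι F)) := by
            rw [hy, one_mul]
        _ = y * ((β₁ - c' • (1 : Matrix ι ι F)) * (β₁ + c' • (1 : Matrix ι ι F))) := by
            rw [hcomm, mul_assoc]
        _ = 0 := by rw [hz, mul_zero]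
    apply hβ₁ns (-c')
    rw [neg_smul]
    exact eq_neg_of_add_eq_zero_left h3
  obtain ⟨e, he0, he⟩ := exists_sq_mul_of_not_isSquare hodd hδ hδ₁ns
  set α : Matrix ι ι F := e • β₁ with hα
  have hαK : α ∈ K := K.smul_mem hβ₁K e
  have hαsq : α * α = δ • (1 : Matrix ι ι F) := by
    rw [hα, smul_mul_assoc, mul_smul_comm, hsq₁, smul_smul, smul_smul, he]
  have hαns : ∀ t : F, α ≠ t • (1 : Matrix ι ι F) := by
    intro t ht
    apply hβ₁ns (e⁻¹ * t)
    rw [← smul_smul, ← ht, hα, smul_smul, inv_mul_cancel₀ he0, one_smul]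
  have hgenα : ∀ k ∈ K, ∃ x y : F, k = x • (1 : Matrix ι ι F) + y • α := by
    intro k hk
    obtain ⟨x, y, rfl⟩ := hgen k hk
    refine ⟨x + y * c, y * e⁻¹, ?_⟩
    rw [hββ₁, hα, smul_smul, mul_assoc, inv_mul_cancel₀ he0, mul_one, smul_add, smul_smul,
      add_smul]
    abel
  have hli : ∀ x y : F, x • (1 : Matrix ι ι F) + y • α = 0 → x = 0 ∧ y = 0 := by
    intro x y hxy
    by_cases hy : y = 0
    · subst hy
      rw [zero_smul, add_zero] at hxy
      rcases smul_eq_zero.1 hxy with h | h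
      · exact ⟨h, rfl⟩
      · exact absurd h h10
    · exfalso
      apply hαns (-(y⁻¹ * x))
      have h3 : y • α = -(x • (1 : Matrix ι ι F)) := by
        rw [eq_neg_iff_add_eq_zero, add_comm]
        exact hxy
      calc α = y⁻¹ • (y • α) := by rw [smul_smul, inv_mul_cancel₀ hy, one_smul]
        _ = (-(y⁻¹ * x)) • (1 : Matrix ι ι F) := by
          rw [h3, smul_neg, smul_smul, neg_smul]
  -- the adjoint of α
  clear_value α
  obtain ⟨α', hα'K, hα'⟩ := hKf α hαK
  have hα'' : ∀ u v : ι → F, B (α *ᵥ u) v = B u (α' *ᵥ v) := hα'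
  obtain ⟨x, y, hxy⟩ := hgenα α' hα'K
  have hα'sq : α' * α' = δ • (1 : Matrix ι ι F) := by
    apply matrix_eq_of_mulVec
    intro v
    rw [← sub_eq_zero]
    apply hnd
    intro u
    rw [map_sub, ← Matrix.mulVec_mulVec, ← hα'', ← hα'', Matrix.mulVec_mulVec, hαsq,
      Matrix.smul_mulVec, Matrix.one_mulVec, Matrix.smul_mulVec, Matrix.one_mulVec, map_smul,
      map_smul, LinearMap.smul_apply, sub_self]
  rw [hxy, pair_mul_self α δ x y hαsq] at hα'sq
  have h4 : (x * x + y * y * δ - δ) • (1 : Matrix ι ι F) + (2 * x * y) • α = 0 := by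
    rw [sub_smul, show (x * x + y * y * δ) • (1 : Matrix ι ι F) - δ • (1 : Matrix ι ι F) +
      (2 * x * y) • α = ((x * x + y * y * δ) • (1 : Matrix ι ι F) + (2 * x * y) • α) -
      δ • (1 : Matrix ι ι F) by abel, hα'sq, sub_self]
  obtain ⟨h5, h6⟩ := hli _ _ h4
  have hδ0 : δ ≠ 0 := by
    rintro rfl
    exact hδ ⟨0, by simp⟩
  have hxy0 : x * y = 0 := by
    have : 2 * (x * y) = 0 := by rw [← mul_assoc]; exact h6
    exact (mul_eq_zero.1 this).resolve_left h2
  have hy0 : y ≠ 0 := by
    rintro rfl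
    apply hδ
    refine ⟨x, ?_⟩
    linear_combination -h5
  have hx0 : x = 0 := (mul_eq_zero.1 hxy0).resolve_right hy0
  subst hx0
  have hyy : y * y = 1 := by
    have : (y * y - 1) * δ = 0 := by linear_combination h5
    have := (mul_eq_zero.1 this).resolve_right hδ0
    linear_combination this
  have hy1 : y = 1 ∨ y = -1 := by
    have : (y - 1) * (y + 1) = 0 := by linear_combination hyy
    rcases mul_eq_zero.1 this with h | h
    · left; linear_combination h
    · right; linear_combination h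
  rw [zero_smul, zero_add] at hxy
  refine ⟨α, hαK, ⟨hαsq, ?_⟩, hαns, hgenα⟩
  rcases hy1 with rfl | rfl
  · exfalso
    apply hKns
    intro k hk u v
    obtain ⟨s, t, rfl⟩ := hgenα k hk
    show B ((s • (1 : Matrix ι ι F) + t • α) *ᵥ u) v = B u ((s • (1 : Matrix ι ι F) + t • α) *ᵥ v)
    rw [one_smul] at hxy
    rw [Matrix.add_mulVec, Matrix.add_mulVec, Matrix.smul_mulVec, Matrix.smul_mulVec,
      Matrix.smul_mulVec, Matrix.smul_mulVec, Matrix.one_mulVec, Matrix.one_mulVec, map_add,
      map_add, map_smul, map_smul, map_smul, map_smul, LinearMap.add_apply, LinearMap.smul_apply,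
      LinearMap.smul_apply, hα'', hxy]
  · intro u v
    rw [hα'', hxy, neg_smul, one_smul, Matrix.neg_mulVec, map_neg]

end main

end Cfsg.Agent.Helper28.BGU
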