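import Mathlib
import Cfsg.Agent.Lib.Helper28.BGU1
import Cfsg.Agent.Lib.Helper13.SympInvolFrame
import Cfsg.Agent.Lib.Helper13.LagrangianCountSp

/-!
# Symplectic frames adapted to a skew-adjoint square root of a non-square (helper28)

All skew-adjoint `α` with `α ^ 2 = δ` (a non-square) are conjugate under the symplectic group
to the model `alpha0 d δ`.
-/

set_option autoImplicit false

namespace Cfsg.Agent.Helper28.BGU

open Matrix Module Cfsg.Agent.Helper13.SympFrame Cfsg.Agent.Helper13.LagCount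
  Cfsg.Agent.Helper28.SympIso Cfsg.Agent.Helper2.Symp

section norm

variable {F : Type*} [Field F] [Fintype F]

open Polynomial in
/-- the norm form `a ^ 2 - δ b ^ 2` represents every element -/
theorem exists_norm (hodd : Odd (Fintype.card F)) (δ t : F) (hδ0 : δ ≠ 0) :
    ∃ a b : F, a * a - δ * (b * b) = t := by
  have hcard : Fintype.card F % 2 = 1 := Nat.odd_iff.1 hodd
  obtain ⟨a, b, hab⟩ := FiniteField.exists_root_sum_quadratic (R := F)
    (f := X ^ 2 - C t) (g := C (-δ) * X ^ 2)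
    (degree_X_pow_sub_C (by norm_num) t) (degree_C_mul_X_pow 2 (neg_ne_zero.2 hδ0)) hcard
  refine ⟨a, b, ?_⟩
  simp only [eval_sub, eval_pow, eval_X, eval_C, eval_mul] at hab
  linear_combination hab

end norm

section abstract

variable {F : Type*} [Field F] [Fintype F] {V : Type*} [AddCommGroup V] [Module F V]
variable (B : LinearMap.BilinForm F V)

/-- a vector of "norm one" in a non-zero nondegenerate invariant subspace -/
theorem exists_unit_vector (hB : ∀ x, B x x = 0) (hodd : Odd (Fintype.card F))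
    (a : V →ₗ[F] V) (δ : F) (hδ0 : δ ≠ 0) (hsq : ∀ v, a (a v) = δ • v)
    (hskew : ∀ u v, B (a u) v = - B u (a v)) {N : Submodule F V} (hbot : N ≠ ⊥)
    (haN : ∀ n ∈ N, a n ∈ N) (hN : NondegOn B N) : ∃ x ∈ N, B x (a x) = 1 := by
  have h2 : (2 : F) ≠ 0 := two_ne_zero_of_odd hodd
  have hsk : ∀ u v, B u v = - B v u := skew B hB
  -- some vector with nonzero norm
  have hex : ∃ u ∈ N, B u (a u) ≠ 0 := by
    by_contra hcon
    push Not at hcon
    have hsym : ∀ u v, B v (a u) = B u (a v) := by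
      intro u v
      rw [hsk v (a u), hskew u v, neg_neg]
    have hzero : ∀ u ∈ N, ∀ v ∈ N, B u (a v) = 0 := by
      intro u hu v hv
      have h1 := hcon (u + v) (N.add_mem hu hv)
      rw [map_add, map_add, map_add, LinearMap.add_apply, LinearMap.add_apply, hcon u hu,
        hcon v hv, hsym u v, zero_add, add_zero] at h1
      have h3 : (2 : F) * B u (a v) = 0 := by rw [two_mul]; exact h1
      exact (mul_eq_zero.1 h3).resolve_left h2
    obtain ⟨n, hn, hn0⟩ := Submodule.exists_mem_ne_zero_of_ne_bot hbot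
    apply hn0
    apply hN n hn
    intro v hv
    have h1 := hzero n hn (δ⁻¹ • a v) (N.smul_mem _ (haN v hv))
    rw [map_smul, hsq, smul_smul, inv_mul_cancel₀ hδ0, one_smul] at h1
    exact h1
  obtain ⟨u, hu, hu0⟩ := hex
  obtain ⟨s, t, hst⟩ := exists_norm hodd δ (B u (a u))⁻¹ hδ0
  refine ⟨s • u + t • a u, N.add_mem (N.smul_mem _ hu) (N.smul_mem _ (haN u hu)), ?_⟩
  have h1 : B (a u) u = - B u (a u) := (hsk _ _)
  simp only [map_add, map_smul, LinearMap.add_apply, LinearMap.smul_apply, smul_eq_mul, hsq, hB,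
    h1]
  have h3 : (s * s - δ * (t * t)) * B u (a u) = 1 := by
    rw [hst, inv_mul_cancel₀ hu0]
  linear_combination h3

/-- a symplectic frame `(e, a e)` -/
theorem hasFrame_root [FiniteDimensional F V] (hB : ∀ x, B x x = 0)
    (hodd : Odd (Fintype.card F))
    (a : V →ₗ[F] V) (δ : F) (hδ0 : δ ≠ 0) (hsq : ∀ v, a (a v) = δ • v)
    (hskew : ∀ u v, B (a u) v = - B u (a v)) (hnd : NondegOn B ⊤) :
    HasFrame B (fun x y _ _ => a x = y) ⊤ := by
  refine hasFrame_of_step B hB a _ ?_ ⊤ (fun _ _ => Submodule.mem_top) hnd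
  intro N hbot haN hN
  left
  obtain ⟨x, hx, hxx⟩ := exists_unit_vector B hB hodd a δ hδ0 hsq hskew hbot haN hN
  refine ⟨x, hx, a x, haN x hx, hxx, ?_, rfl⟩
  intro w hw
  obtain ⟨hwN, hxw, hyw⟩ := (mem_perp2 B).1 hw
  rw [mem_perp2]
  refine ⟨haN w hwN, ?_, ?_⟩
  · have := hskew x w
    rw [hyw] at this
    have h3 : B x (a w) = 0 := by
      have h4 : -B x (a w) = 0 := this.symm
      exact neg_eq_zero.1 h4
    exact h3
  · have := hskew (a x) w
    rw [hsq, map_smul, LinearMap.smul_apply, hxw, smul_zero] at this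
    have h4 : -B (a x) (a w) = 0 := this.symm
    exact neg_eq_zero.1 h4

end abstract

section model

variable {F : Type*} [Field F] (d : ℕ)

/-- the model square root of `δ` -/
def alpha0 (δ : F) : Matrix (Fin d ⊕ Fin d) (Fin d ⊕ Fin d) F :=
  Matrix.fromBlocks 0 1 (δ • (1 : Matrix (Fin d) (Fin d) F)) 0

theorem alpha0_mul_self (δ : F) :
    alpha0 d δ * alpha0 d δ = δ • (1 : Matrix (Fin d ⊕ Fin d) (Fin d ⊕ Fin d) F) := by
  unfold alpha0
  rw [Matrix.fromBlocks_multiply, ← Matrix.fromBlocks_one, Matrix.fromBlocks_smul]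
  simp

theorem alpha0_mulVec_fV (δ : F) (i : Fin d) : alpha0 d δ *ᵥ (fV i : Fin d ⊕ Fin d → F) = eV i := by
  unfold fV eV alpha0
  rw [Matrix.mulVec_single_one]
  ext c
  rcases c with j | j
  · simp [Matrix.fromBlocks_apply₁₂, Matrix.one_apply, Pi.single_apply, eq_comm]
  · simp [Matrix.fromBlocks_apply₂₂, Pi.single_apply]

theorem alpha0_mulVec_eV (δ : F) (i : Fin d) :
    alpha0 d δ *ᵥ (eV i : Fin d ⊕ Fin d → F) = δ • fV i := by
  unfold fV eV alpha0
  rw [Matrix.mulVec_single_one]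
  ext c
  rcases c with j | j
  · simp [Matrix.fromBlocks_apply₁₁, Pi.single_apply]
  · simp [Matrix.fromBlocks_apply₂₁, Matrix.one_apply, Pi.single_apply, eq_comm]

end model

section conj

variable {F : Type*} [Field F] [Fintype F] {d : ℕ}

theorem nondegOn_top_sympBil : NondegOn (sympBil d F) ⊤ := by
  intro u _ h
  exact sympBil_sep d u (fun v => h v Submodule.mem_top)

/-- two matrices agreeing on the standard symplectic basis are equal -/
theorem matrix_eq_of_eV_fV {M N : Matrix (Fin d ⊕ Fin d) (Fin d ⊕ Fin d) F}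
    (h1 : ∀ i : Fin d, M *ᵥ (eV i : Fin d ⊕ Fin d → F) = N *ᵥ eV i)
    (h2 : ∀ i : Fin d, M *ᵥ (fV i : Fin d ⊕ Fin d → F) = N *ᵥ fV i) : M = N := by
  ext a c
  rcases c with i | i
  · have := congrFun (h1 i) a
    unfold eV at this
    rw [Matrix.mulVec_single_one, Matrix.mulVec_single_one] at this
    exact this
  · have := congrFun (h2 i) a
    unfold fV at this
    rw [Matrix.mulVec_single_one, Matrix.mulVec_single_one] at this
    exact this

/-- every skew-adjoint square root of a non-zero `δ` is symplectically conjugate to the model -/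
theorem exists_symp_conj (hodd : Odd (Fintype.card F)) (δ : F) (hδ0 : δ ≠ 0)
    (α : Matrix (Fin d ⊕ Fin d) (Fin d ⊕ Fin d) F) (hα : IsSkewRoot (sympBil d F) δ α) :
    ∃ g : Matrix.symplecticGroup (Fin d) F,
      (g : Matrix (Fin d ⊕ Fin d) (Fin d ⊕ Fin d) F) * alpha0 d δ =
        α * (g : Matrix (Fin d ⊕ Fin d) (Fin d ⊕ Fin d) F) := by
  classical
  set a : (Fin d ⊕ Fin d → F) →ₗ[F] (Fin d ⊕ Fin d → F) := Matrix.toLin' α with ha
  have haa : ∀ v, a v = α *ᵥ v := fun v => Matrix.toLin'_apply α v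
  have hsq : ∀ v, a (a v) = δ • v := by
    intro v
    rw [haa, haa, Matrix.mulVec_mulVec, hα.sq, Matrix.smul_mulVec, Matrix.one_mulVec]
  have hskew : ∀ u v, sympBil d F (a u) v = - sympBil d F u (a v) := by
    intro u v
    rw [haa, haa]
    exact hα.skew u v
  obtain ⟨I, hI, e, f, π, hfr, -, hR⟩ :=
    hasFrame_root (sympBil d F) (sympBil_self d) hodd a δ hδ0 hsq hskew nondegOn_top_sympBil
  have hcardI : Fintype.card I = d := by
    have h1 := hfr.two_mul_card (sympBil d F) (sympBil_self d)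
    rw [finrank_std] at h1
    omega
  let σ : Fin d ≃ I := (Fintype.equivFinOfCardEq hcardI).symm
  have hfr' : IsFrame (sympBil d F) ⊤ (e ∘ σ) (f ∘ σ) := by
    apply isFrame_top_of_gram (sympBil d F) (sympBil_self d)
    · intro i; exact hfr.ef_self _
    · intro i j hij
      exact hfr.ef_ne _ _ (fun h => hij (σ.injective h))
    · intro i j; exact hfr.ee _ _
    · intro i j; exact hfr.ff _ _
    · rw [finrank_std, Fintype.card_fin]
  obtain ⟨g, hg⟩ := (frameOfSp_bijective (F := F) d).2 ⟨(e ∘ σ, f ∘ σ), hfr'⟩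
  have hg1 : ∀ i, (g : Matrix (Fin d ⊕ Fin d) (Fin d ⊕ Fin d) F) *ᵥ fV i = e (σ i) := by
    intro i
    have := congrArg (fun s : Frames (sympBil d F) d => s.1.1 i) hg
    exact this
  have hg2 : ∀ i, (g : Matrix (Fin d ⊕ Fin d) (Fin d ⊕ Fin d) F) *ᵥ eV i = f (σ i) := by
    intro i
    have := congrArg (fun s : Frames (sympBil d F) d => s.1.2 i) hg
    exact this
  have hfe : ∀ i, f i = α *ᵥ e i := by
    intro i
    rw [← haa]
    exact (hR i).symm
  refine ⟨g, ?_⟩
  apply matrix_eq_of_eV_fV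
  · intro i
    rw [← Matrix.mulVec_mulVec, alpha0_mulVec_eV, Matrix.mulVec_smul, hg1, ← Matrix.mulVec_mulVec,
      hg2, hfe, Matrix.mulVec_mulVec, hα.sq, Matrix.smul_mulVec, Matrix.one_mulVec]
  · intro i
    rw [← Matrix.mulVec_mulVec, alpha0_mulVec_fV, hg2, ← Matrix.mulVec_mulVec, hg1, hfe]

end conj

end Cfsg.Agent.Helper28.BGU
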