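import Mathlib
import Cfsg.Agent.Lib.Helper28.BGU2
import Cfsg.Agent.Lib.Helper28.SpSingMax

/-!
# The normalizer of a quadratic field subalgebra `F + F α` (helper28)
-/

set_option autoImplicit false

namespace Cfsg.Agent.Helper28.BGU

open Matrix Cfsg.Agent.Helper28.SympIso Cfsg.Agent.Helper2.Symp

section general

variable {F : Type*} [Field F] {ι : Type} [Fintype ι] [DecidableEq ι]

/-- the data of a quadratic field subalgebra `K = F + F α`, `α ^ 2 = δ` a non-square -/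
structure IsQuadGen (K : Subalgebra F (Matrix ι ι F)) (δ : F) (α : Matrix ι ι F) : Prop where
  mem : α ∈ K
  sq : α * α = δ • (1 : Matrix ι ι F)
  ns : ∀ t : F, α ≠ t • (1 : Matrix ι ι F)
  gen : ∀ k ∈ K, ∃ a b : F, k = a • (1 : Matrix ι ι F) + b • α
  nonsq : ¬ IsSquare δ
  one_ne : (1 : Matrix ι ι F) ≠ 0

theorem IsQuadGen.li {K : Subalgebra F (Matrix ι ι F)} {δ : F} {α : Matrix ι ι F}
    (h : IsQuadGen K δ α) (x y : F) (hxy : x • (1 : Matrix ι ι F) + y • α = 0) :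
    x = 0 ∧ y = 0 := by
  by_cases hy : y = 0
  · subst hy
    rw [zero_smul, add_zero] at hxy
    rcases smul_eq_zero.1 hxy with h' | h'
    · exact ⟨h', rfl⟩
    · exact absurd h' h.one_ne
  · exfalso
    apply h.ns (-(y⁻¹ * x))
    have h3 : y • α = -(x • (1 : Matrix ι ι F)) := by
      rw [eq_neg_iff_add_eq_zero, add_comm]
      exact hxy
    calc α = y⁻¹ • (y • α) := by rw [smul_smul, inv_mul_cancel₀ hy, one_smul]
      _ = (-(y⁻¹ * x)) • (1 : Matrix ι ι F) := by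
        rw [h3, smul_neg, smul_smul, neg_smul]

theorem IsQuadGen.delta_ne_zero {K : Subalgebra F (Matrix ι ι F)} {δ : F} {α : Matrix ι ι F}
    (h : IsQuadGen K δ α) : δ ≠ 0 := by
  rintro rfl
  exact h.nonsq ⟨0, by simp⟩

/-- the square roots of `δ` in `K` are `± α` -/
theorem IsQuadGen.sqrt_cases {K : Subalgebra F (Matrix ι ι F)} {δ : F} {α : Matrix ι ι F}
    (h : IsQuadGen K δ α) (h2 : (2 : F) ≠ 0) {k : Matrix ι ι F} (hk : k ∈ K)
    (hkk : k * k = δ • (1 : Matrix ι ι F)) : k = α ∨ k = -α := by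
  obtain ⟨x, y, rfl⟩ := h.gen k hk
  rw [pair_mul_self α δ x y h.sq] at hkk
  have h4 : (x * x + y * y * δ - δ) • (1 : Matrix ι ι F) + (2 * x * y) • α = 0 := by
    rw [sub_smul, show (x * x + y * y * δ) • (1 : Matrix ι ι F) - δ • (1 : Matrix ι ι F) +
      (2 * x * y) • α = ((x * x + y * y * δ) • (1 : Matrix ι ι F) + (2 * x * y) • α) -
      δ • (1 : Matrix ι ι F) by abel, hkk, sub_self]
  obtain ⟨h5, h6⟩ := h.li _ _ h4
  have hδ0 := h.delta_ne_zero
  have hxy0 : x * y = 0 := by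
    have : 2 * (x * y) = 0 := by rw [← mul_assoc]; exact h6
    exact (mul_eq_zero.1 this).resolve_left h2
  have hy0 : y ≠ 0 := by
    rintro rfl
    apply h.nonsq
    refine ⟨x, ?_⟩
    linear_combination -h5
  have hx0 : x = 0 := (mul_eq_zero.1 hxy0).resolve_right hy0
  subst hx0
  have hyy : y * y = 1 := by
    have : (y * y - 1) * δ = 0 := by linear_combination h5
    have := (mul_eq_zero.1 this).resolve_right hδ0
    linear_combination this
  have hy1 : y = 1 ∨ y = -1 := by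
    have : (y - 1) * (y + 1) = 0 := by linear_combination hyy
    rcases mul_eq_zero.1 this with h' | h'
    · left; linear_combination h'
    · right; linear_combination h'
  rw [zero_smul, zero_add]
  rcases hy1 with rfl | rfl
  · left; rw [one_smul]
  · right; rw [neg_smul, one_smul]

theorem mem_subalgebraNormalizer_iff (K : Subalgebra F (Matrix ι ι F)) (g : GL ι F) :
    g ∈ Cfsg.Geo.subalgebraNormalizer K ↔
      ∀ k : Matrix ι ι F, k ∈ K ↔ (g : Matrix ι ι F) * k * ((g⁻¹ : GL ι F) : Matrix ι ι F) ∈ K :=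
  Iff.rfl

theorem gl_mul_inv (g : GL ι F) : (g : Matrix ι ι F) * ((g⁻¹ : GL ι F) : Matrix ι ι F) = 1 := by
  rw [← Units.val_mul, mul_inv_cancel, Units.val_one]

theorem gl_inv_mul (g : GL ι F) : ((g⁻¹ : GL ι F) : Matrix ι ι F) * (g : Matrix ι ι F) = 1 := by
  rw [← Units.val_mul, inv_mul_cancel, Units.val_one]

/-- elements of the normalizer commute or anticommute with `α` -/
theorem IsQuadGen.comm_or_anti {K : Subalgebra F (Matrix ι ι F)} {δ : F} {α : Matrix ι ι F}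
    (h : IsQuadGen K δ α) (h2 : (2 : F) ≠ 0) (g : GL ι F)
    (hg : g ∈ Cfsg.Geo.subalgebraNormalizer K) :
    (g : Matrix ι ι F) * α = α * (g : Matrix ι ι F) ∨
      (g : Matrix ι ι F) * α = -(α * (g : Matrix ι ι F)) := by
  have h1 := ((mem_subalgebraNormalizer_iff K g).1 hg α).1 h.mem
  set k := (g : Matrix ι ι F) * α * ((g⁻¹ : GL ι F) : Matrix ι ι F) with hk
  have hkk : k * k = δ • (1 : Matrix ι ι F) := by
    calc k * k = (g : Matrix ι ι F) * α * (((g⁻¹ : GL ι F) : Matrix ι ι F) * (g : Matrix ι ι F))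
          * α * ((g⁻¹ : GL ι F) : Matrix ι ι F) := by
          rw [hk]; simp only [mul_assoc]
      _ = (g : Matrix ι ι F) * (α * α) * ((g⁻¹ : GL ι F) : Matrix ι ι F) := by
          rw [gl_inv_mul, mul_one]; simp only [mul_assoc]
      _ = δ • (1 : Matrix ι ι F) := by
          rw [h.sq, mul_smul_comm, smul_mul_assoc, mul_one, gl_mul_inv]
  have hkg : k * (g : Matrix ι ι F) = (g : Matrix ι ι F) * α := by
    rw [hk, mul_assoc, gl_inv_mul, mul_one]
  rcases h.sqrt_cases h2 h1 hkk with h3 | h3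
  · left
    rw [← hkg, h3]
  · right
    rw [← hkg, h3, neg_mul]

/-- matrices commuting or anticommuting with `α` normalize `K` -/
theorem IsQuadGen.mem_normalizer {K : Subalgebra F (Matrix ι ι F)} {δ : F} {α : Matrix ι ι F}
    (h : IsQuadGen K δ α) (g : GL ι F)
    (hg : (g : Matrix ι ι F) * α = α * (g : Matrix ι ι F) ∨
      (g : Matrix ι ι F) * α = -(α * (g : Matrix ι ι F))) :
    g ∈ Cfsg.Geo.subalgebraNormalizer K := by
  rw [mem_subalgebraNormalizer_iff]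
  -- conjugation of `α` by `g` and `g⁻¹`
  obtain ⟨ε, hε, hgε⟩ : ∃ ε : F, (ε = 1 ∨ ε = -1) ∧
      (g : Matrix ι ι F) * α = ε • (α * (g : Matrix ι ι F)) := by
    rcases hg with h' | h'
    · exact ⟨1, Or.inl rfl, by rw [one_smul]; exact h'⟩
    · exact ⟨-1, Or.inr rfl, by rw [neg_smul, one_smul]; exact h'⟩
  have hεε : ε * ε = 1 := by rcases hε with rfl | rfl <;> ring
  have hconj : (g : Matrix ι ι F) * α * ((g⁻¹ : GL ι F) : Matrix ι ι F) = ε • α := by
    rw [hgε, smul_mul_assoc, mul_assoc, gl_mul_inv, mul_one]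
  have hconj' : ((g⁻¹ : GL ι F) : Matrix ι ι F) * α * (g : Matrix ι ι F) = ε • α := by
    have h1 : ((g⁻¹ : GL ι F) : Matrix ι ι F) * ((g : Matrix ι ι F) * α) =
        ((g⁻¹ : GL ι F) : Matrix ι ι F) * (ε • (α * (g : Matrix ι ι F))) := by rw [hgε]
    rw [← mul_assoc, gl_inv_mul, one_mul, mul_smul_comm, ← mul_assoc] at h1
    calc ((g⁻¹ : GL ι F) : Matrix ι ι F) * α * (g : Matrix ι ι F)
        = (ε * ε) • (((g⁻¹ : GL ι F) : Matrix ι ι F) * α * (g : Matrix ι ι F)) := by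
          rw [hεε, one_smul]
      _ = ε • α := by rw [← smul_smul, ← h1]
  intro k
  constructor
  · intro hk
    obtain ⟨a, b, rfl⟩ := h.gen k hk
    rw [mul_add, add_mul, mul_smul_comm, smul_mul_assoc, mul_one, gl_mul_inv, mul_smul_comm,
      smul_mul_assoc, hconj]
    exact K.add_mem (K.smul_mem K.one_mem a) (K.smul_mem (K.smul_mem h.mem ε) b)
  · intro hk
    obtain ⟨a, b, hab⟩ := h.gen _ hk
    have h1 : k = ((g⁻¹ : GL ι F) : Matrix ι ι F) *
        ((g : Matrix ι ι F) * k * ((g⁻¹ : GL ι F) : Matrix ι ι F)) * (g : Matrix ι ι F) := by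
      rw [mul_assoc, mul_assoc, gl_inv_mul, mul_one, ← mul_assoc, gl_inv_mul, one_mul]
    rw [h1, hab, mul_add, add_mul, mul_smul_comm, smul_mul_assoc, mul_one, gl_inv_mul,
      mul_smul_comm, smul_mul_assoc, hconj']
    exact K.add_mem (K.smul_mem K.one_mem a) (K.smul_mem (K.smul_mem h.mem ε) b)

theorem mul_pow_anti (M α : Matrix ι ι F) (hM : M * α = -(α * M)) (n : ℕ) :
    M ^ n * α = (-1 : F) ^ n • (α * M ^ n) := by
  induction n with
  | zero => simp
  | succ n ih =>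
    rw [pow_succ, mul_assoc, hM, mul_neg, ← mul_assoc, ih, smul_mul_assoc, mul_assoc, pow_succ,
      mul_neg_one, neg_smul]

/-- elements of the normalizer of odd order modulo scalars commute with `α` -/
theorem IsQuadGen.comm_of_odd {K : Subalgebra F (Matrix ι ι F)} {δ : F} {α : Matrix ι ι F}
    (h : IsQuadGen K δ α) (h2 : (2 : F) ≠ 0) (g : GL ι F)
    (hg : g ∈ Cfsg.Geo.subalgebraNormalizer K) (r : ℕ) (hr : Odd r) (z : F)
    (hz : (g : Matrix ι ι F) ^ r = z • (1 : Matrix ι ι F)) :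
    (g : Matrix ι ι F) * α = α * (g : Matrix ι ι F) := by
  rcases h.comm_or_anti h2 g hg with h1 | h1
  · exact h1
  · exfalso
    have h3 := mul_pow_anti (g : Matrix ι ι F) α h1 r
    rw [hz, hr.neg_one_pow, smul_mul_assoc, one_mul, mul_smul_comm, mul_one, neg_smul, one_smul]
      at h3
    have hz0 : z ≠ 0 := by
      rintro rfl
      rw [zero_smul] at hz
      have hdet : ((g : Matrix ι ι F) ^ r).det = 0 := by
        rw [hz]
        have hne : Nonempty ι := by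
          by_contra hcon
          rw [not_nonempty_iff] at hcon
          apply h.one_ne
          ext i
          exact hcon.elim i
        haveI := hne
        exact Matrix.det_zero
      rw [Matrix.det_pow] at hdet
      have := pow_eq_zero_iff (n := r) (by rcases hr with ⟨k, rfl⟩; omega) |>.1 hdet
      exact (Matrix.GeneralLinearGroup.det g).ne_zero this
    have h4 : (2 * z) • α = 0 := by
      rw [mul_smul, two_smul]
      nth_rewrite 1 [h3]
      rw [neg_add_cancel]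
    rcases smul_eq_zero.1 h4 with h5 | h5
    · exact (mul_ne_zero h2 hz0) h5
    · apply h.ns 0
      rw [h5, zero_smul]

end general

section conj

variable {F : Type*} [Field F] {ι : Type} [Fintype ι] [DecidableEq ι]

theorem comm_or_anti_iff (X α : Matrix ι ι F) :
    (X * α = α * X ∨ X * α = -(α * X)) ↔ ∃ ε : F, (ε = 1 ∨ ε = -1) ∧ X * α = ε • (α * X) := by
  constructor
  · rintro (h | h)
    · exact ⟨1, Or.inl rfl, by rw [one_smul]; exact h⟩
    · exact ⟨-1, Or.inr rfl, by rw [neg_smul, one_smul]; exact h⟩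
  · rintro ⟨ε, rfl | rfl, h⟩
    · left; rw [one_smul] at h; exact h
    · right; rw [neg_smul, one_smul] at h; exact h

theorem conj_rel (P Q Y α : Matrix ι ι F) (hQP : Q * P = 1) (ε : F)
    (h : Y * α = ε • (α * Y)) :
    (P * Y * Q) * (P * α * Q) = ε • ((P * α * Q) * (P * Y * Q)) := by
  have h1 : (P * Y * Q) * (P * α * Q) = P * (Y * α) * Q := by
    calc (P * Y * Q) * (P * α * Q) = P * Y * (Q * P) * α * Q := by simp only [mul_assoc]
      _ = P * (Y * α) * Q := by rw [hQP, mul_one]; simp only [mul_assoc]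
  have h2 : (P * α * Q) * (P * Y * Q) = P * (α * Y) * Q := by
    calc (P * α * Q) * (P * Y * Q) = P * α * (Q * P) * Y * Q := by simp only [mul_assoc]
      _ = P * (α * Y) * Q := by rw [hQP, mul_one]; simp only [mul_assoc]
  rw [h1, h2, h, mul_smul_comm, smul_mul_assoc]

end conj

section symp

variable {F : Type*} [Field F] [Fintype F] {d : ℕ}

theorem spGL_apply {g : GL (Fin d ⊕ Fin d) F} (hg : g ∈ Cfsg.spGL d F) (u v : Fin d ⊕ Fin d → F) :
    sympBil d F ((g : Matrix (Fin d ⊕ Fin d) (Fin d ⊕ Fin d) F) *ᵥ u)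
      ((g : Matrix (Fin d ⊕ Fin d) (Fin d ⊕ Fin d) F) *ᵥ v) = sympBil d F u v := by
  rw [sympBil_apply, sympBil_apply]
  exact hg u v

theorem mem_spGL_iff (g : GL (Fin d ⊕ Fin d) F) :
    g ∈ Cfsg.spGL d F ↔ ∀ u v : Fin d ⊕ Fin d → F,
      sympBil d F ((g : Matrix (Fin d ⊕ Fin d) (Fin d ⊕ Fin d) F) *ᵥ u)
        ((g : Matrix (Fin d ⊕ Fin d) (Fin d ⊕ Fin d) F) *ᵥ v) = sympBil d F u v := by
  constructor
  · intro hg u v
    exact spGL_apply hg u v
  · intro h u v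
    have := h u v
    rw [sympBil_apply, sympBil_apply] at this
    exact this

/-- conjugating a skew root by a symplectic matrix -/
theorem IsSkewRoot.conj {δ : F} {α : Matrix (Fin d ⊕ Fin d) (Fin d ⊕ Fin d) F}
    (hα : IsSkewRoot (sympBil d F) δ α) {g : GL (Fin d ⊕ Fin d) F} (hg : g ∈ Cfsg.spGL d F) :
    IsSkewRoot (sympBil d F) δ ((g : Matrix (Fin d ⊕ Fin d) (Fin d ⊕ Fin d) F) * α *
      ((g⁻¹ : GL (Fin d ⊕ Fin d) F) : Matrix (Fin d ⊕ Fin d) (Fin d ⊕ Fin d) F)) := by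
  set P := (g : Matrix (Fin d ⊕ Fin d) (Fin d ⊕ Fin d) F) with hP
  set Q := ((g⁻¹ : GL (Fin d ⊕ Fin d) F) : Matrix (Fin d ⊕ Fin d) (Fin d ⊕ Fin d) F) with hQ
  have hPQ : P * Q = 1 := gl_mul_inv g
  have hQP : Q * P = 1 := gl_inv_mul g
  have hadj : ∀ w v, sympBil d F (P *ᵥ w) v = sympBil d F w (Q *ᵥ v) := by
    intro w v
    have := spGL_apply hg w (Q *ᵥ v)
    rw [Matrix.mulVec_mulVec, hPQ, Matrix.one_mulVec] at this
    exact this
  have hadj' : ∀ w v, sympBil d F w (P *ᵥ v) = sympBil d F (Q *ᵥ w) v := by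
    intro w v
    have := spGL_apply hg (Q *ᵥ w) v
    rw [Matrix.mulVec_mulVec, hPQ, Matrix.one_mulVec] at this
    exact this
  constructor
  · calc P * α * Q * (P * α * Q) = P * α * (Q * P) * α * Q := by simp only [mul_assoc]
      _ = P * (α * α) * Q := by rw [hQP, mul_one]; simp only [mul_assoc]
      _ = δ • (1 : Matrix (Fin d ⊕ Fin d) (Fin d ⊕ Fin d) F) := by
        rw [hα.sq, mul_smul_comm, smul_mul_assoc, mul_one, hPQ]
  · intro u v
    rw [← Matrix.mulVec_mulVec, ← Matrix.mulVec_mulVec, hadj, hα.skew, ← Matrix.mulVec_mulVec,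
      ← Matrix.mulVec_mulVec, hadj']

/-- the main reduction: being conjugate into the normalizer of `K` means (anti)commuting with a
skew root -/
theorem conj_mem_normalizer_iff (hodd : Odd (Fintype.card F))
    {K : Subalgebra F (Matrix (Fin d ⊕ Fin d) (Fin d ⊕ Fin d) F)} {δ : F}
    {α : Matrix (Fin d ⊕ Fin d) (Fin d ⊕ Fin d) F} (h : IsQuadGen K δ α)
    (hα : IsSkewRoot (sympBil d F) δ α) (x : GL (Fin d ⊕ Fin d) F) :
    (∃ g ∈ Cfsg.spGL d F, g⁻¹ * x * g ∈ Cfsg.Geo.subalgebraNormalizer K) ↔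
      ∃ α' : Matrix (Fin d ⊕ Fin d) (Fin d ⊕ Fin d) F, IsSkewRoot (sympBil d F) δ α' ∧
        ((x : Matrix (Fin d ⊕ Fin d) (Fin d ⊕ Fin d) F) * α' =
            α' * (x : Matrix (Fin d ⊕ Fin d) (Fin d ⊕ Fin d) F) ∨
          (x : Matrix (Fin d ⊕ Fin d) (Fin d ⊕ Fin d) F) * α' =
            -(α' * (x : Matrix (Fin d ⊕ Fin d) (Fin d ⊕ Fin d) F))) := by
  have h2 : (2 : F) ≠ 0 := two_ne_zero_of_odd hodd
  constructor
  · rintro ⟨g, hg, hy⟩
    refine ⟨_, hα.conj hg, ?_⟩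
    have h1 := h.comm_or_anti h2 _ hy
    rw [comm_or_anti_iff] at h1 ⊢
    obtain ⟨ε, hε, h3⟩ := h1
    refine ⟨ε, hε, ?_⟩
    rw [Units.val_mul, Units.val_mul] at h3
    set P := (g : Matrix (Fin d ⊕ Fin d) (Fin d ⊕ Fin d) F) with hP
    set Q := ((g⁻¹ : GL (Fin d ⊕ Fin d) F) : Matrix (Fin d ⊕ Fin d) (Fin d ⊕ Fin d) F) with hQ
    set X := (x : Matrix (Fin d ⊕ Fin d) (Fin d ⊕ Fin d) F) with hX
    have hPQ : P * Q = 1 := gl_mul_inv g
    have hQP : Q * P = 1 := gl_inv_mul g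
    have h4 := conj_rel P Q (Q * X * P) α hQP ε h3
    have h5 : P * (Q * X * P) * Q = X := by
      calc P * (Q * X * P) * Q = (P * Q) * X * (P * Q) := by simp only [mul_assoc]
        _ = X := by rw [hPQ, one_mul, mul_one]
    rw [h5] at h4
    exact h4
  · rintro ⟨α', hα', hx⟩
    have hδ0 := h.delta_ne_zero
    obtain ⟨G₁, hG₁⟩ := exists_symp_conj hodd δ hδ0 α' hα'
    obtain ⟨G₂, hG₂⟩ := exists_symp_conj hodd δ hδ0 α hα
    set A : GL (Fin d ⊕ Fin d) F := Cfsg.Agent.Helper28.SpSingMax.toGLHom d F G₁ with hA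
    set C : GL (Fin d ⊕ Fin d) F := Cfsg.Agent.Helper28.SpSingMax.toGLHom d F G₂ with hC
    have hAs : A ∈ Cfsg.spGL d F := Cfsg.Agent.Helper28.SpSingMax.toGLHom_mem_spGL G₁
    have hCs : C ∈ Cfsg.spGL d F := Cfsg.Agent.Helper28.SpSingMax.toGLHom_mem_spGL G₂
    have hA1 : (A : Matrix (Fin d ⊕ Fin d) (Fin d ⊕ Fin d) F) * alpha0 d δ =
        α' * (A : Matrix (Fin d ⊕ Fin d) (Fin d ⊕ Fin d) F) := hG₁
    have hC1 : (C : Matrix (Fin d ⊕ Fin d) (Fin d ⊕ Fin d) F) * alpha0 d δ =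
        α * (C : Matrix (Fin d ⊕ Fin d) (Fin d ⊕ Fin d) F) := hG₂
    refine ⟨A * C⁻¹, (Cfsg.spGL d F).mul_mem hAs ((Cfsg.spGL d F).inv_mem hCs), ?_⟩
    apply h.mem_normalizer
    rw [comm_or_anti_iff] at hx ⊢
    obtain ⟨ε, hε, h3⟩ := hx
    refine ⟨ε, hε, ?_⟩
    set g : GL (Fin d ⊕ Fin d) F := A * C⁻¹ with hg
    rw [Units.val_mul, Units.val_mul]
    set P := (g : Matrix (Fin d ⊕ Fin d) (Fin d ⊕ Fin d) F) with hP
    set Q := ((g⁻¹ : GL (Fin d ⊕ Fin d) F) : Matrix (Fin d ⊕ Fin d) (Fin d ⊕ Fin d) F) with hQ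
    set X := (x : Matrix (Fin d ⊕ Fin d) (Fin d ⊕ Fin d) F) with hX
    have hPQ : P * Q = 1 := gl_mul_inv g
    have hQP : Q * P = 1 := gl_inv_mul g
    have h4 := conj_rel Q P X α' hPQ ε h3
    -- `Q α' P = α`
    have hPe : P = (A : Matrix (Fin d ⊕ Fin d) (Fin d ⊕ Fin d) F) *
        ((C⁻¹ : GL (Fin d ⊕ Fin d) F) : Matrix (Fin d ⊕ Fin d) (Fin d ⊕ Fin d) F) := by
      rw [hP, hg, Units.val_mul]
    have hQe : Q = (C : Matrix (Fin d ⊕ Fin d) (Fin d ⊕ Fin d) F) *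
        ((A⁻¹ : GL (Fin d ⊕ Fin d) F) : Matrix (Fin d ⊕ Fin d) (Fin d ⊕ Fin d) F) := by
      rw [hQ, hg, _root_.mul_inv_rev, inv_inv, Units.val_mul]
    have h5 : Q * α' * P = α := by
      rw [hPe, hQe]
      calc (C : Matrix (Fin d ⊕ Fin d) (Fin d ⊕ Fin d) F) *
            ((A⁻¹ : GL (Fin d ⊕ Fin d) F) : Matrix (Fin d ⊕ Fin d) (Fin d ⊕ Fin d) F) * α' *
            ((A : Matrix (Fin d ⊕ Fin d) (Fin d ⊕ Fin d) F) *
            ((C⁻¹ : GL (Fin d ⊕ Fin d) F) : Matrix (Fin d ⊕ Fin d) (Fin d ⊕ Fin d) F))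
          = (C : Matrix (Fin d ⊕ Fin d) (Fin d ⊕ Fin d) F) *
            ((A⁻¹ : GL (Fin d ⊕ Fin d) F) : Matrix (Fin d ⊕ Fin d) (Fin d ⊕ Fin d) F) *
            (α' * (A : Matrix (Fin d ⊕ Fin d) (Fin d ⊕ Fin d) F)) *
            ((C⁻¹ : GL (Fin d ⊕ Fin d) F) : Matrix (Fin d ⊕ Fin d) (Fin d ⊕ Fin d) F) := by
            simp only [mul_assoc]
        _ = (C : Matrix (Fin d ⊕ Fin d) (Fin d ⊕ Fin d) F) *
            (((A⁻¹ : GL (Fin d ⊕ Fin d) F) : Matrix (Fin d ⊕ Fin d) (Fin d ⊕ Fin d) F) *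
            (A : Matrix (Fin d ⊕ Fin d) (Fin d ⊕ Fin d) F)) * alpha0 d δ *
            ((C⁻¹ : GL (Fin d ⊕ Fin d) F) : Matrix (Fin d ⊕ Fin d) (Fin d ⊕ Fin d) F) := by
            rw [← hA1]; simp only [mul_assoc]
        _ = α * ((C : Matrix (Fin d ⊕ Fin d) (Fin d ⊕ Fin d) F) *
            ((C⁻¹ : GL (Fin d ⊕ Fin d) F) : Matrix (Fin d ⊕ Fin d) (Fin d ⊕ Fin d) F)) := by
            rw [gl_inv_mul, mul_one, hC1]; simp only [mul_assoc]
        _ = α := by rw [gl_mul_inv, mul_one]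
    rw [h5] at h4
    exact h4

end symp

end Cfsg.Agent.Helper28.BGU
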