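import Mathlib
import Cfsg.Agent.Lib.Helper28.BGU3

/-!
# Symplectic matrices with scalar square (anti)commute with a skew root (helper28)
-/

set_option autoImplicit false

namespace Cfsg.Agent.Helper28.BGU

open Matrix Module Cfsg.Agent.Helper13.SympFrame Cfsg.Agent.Helper13.LagCount
  Cfsg.Agent.Helper28.SympIso Cfsg.Agent.Helper2.Symp

section model

variable {F : Type*} [Field F] (d : ℕ)

theorem alpha0_transpose_mul_J (δ : F) :
    (alpha0 d δ)ᵀ * Matrix.J (Fin d) F = -(Matrix.J (Fin d) F * alpha0 d δ) := by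
  unfold alpha0 Matrix.J
  rw [Matrix.fromBlocks_transpose, Matrix.fromBlocks_multiply, Matrix.fromBlocks_multiply,
    Matrix.fromBlocks_neg]
  simp

theorem dotProduct_mulVec_left {n : Type*} [Fintype n] (A : Matrix n n F) (u w : n → F) :
    (A *ᵥ u) ⬝ᵥ w = u ⬝ᵥ (Aᵀ *ᵥ w) := by
  rw [dotProduct_comm, Matrix.dotProduct_mulVec, ← Matrix.mulVec_transpose, dotProduct_comm]

/-- the model is a skew root -/
theorem alpha0_isSkewRoot (δ : F) : IsSkewRoot (sympBil d F) δ (alpha0 d δ) := by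
  refine ⟨alpha0_mul_self d δ, ?_⟩
  intro u v
  rw [sympBil_apply, sympBil_apply]
  unfold Cfsg.sympForm
  rw [dotProduct_mulVec_left, Matrix.mulVec_mulVec, alpha0_transpose_mul_J, Matrix.mulVec_mulVec,
    Matrix.neg_mulVec, dotProduct_neg]

end model

section frames

variable {F : Type*} [Field F] [Fintype F] {d : ℕ}

/-- reindexing a frame of the whole space by `Fin d` -/
theorem exists_fin_frame (R : (Fin d ⊕ Fin d → F) → (Fin d ⊕ Fin d → F) → Prop)
    (h : HasFrame (sympBil d F) (fun x y _ _ => R x y) ⊤) :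
    ∃ e f : Fin d → (Fin d ⊕ Fin d → F), IsFrame (sympBil d F) ⊤ e f ∧ ∀ i, R (e i) (f i) := by
  classical
  obtain ⟨I, hI, e, f, π, hfr, -, hR⟩ := h
  have hcardI : Fintype.card I = d := by
    have h1 := hfr.two_mul_card (sympBil d F) (sympBil_self d)
    rw [finrank_std] at h1
    omega
  let σ : Fin d ≃ I := (Fintype.equivFinOfCardEq hcardI).symm
  refine ⟨e ∘ σ, f ∘ σ, ?_, fun i => hR (σ i)⟩
  apply isFrame_top_of_gram (sympBil d F) (sympBil_self d)
  · intro i; exact hfr.ef_self _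
  · intro i j hij
    exact hfr.ef_ne _ _ (fun h => hij (σ.injective h))
  · intro i j; exact hfr.ee _ _
  · intro i j; exact hfr.ff _ _
  · rw [finrank_std, Fintype.card_fin]

/-- the skew root attached to a frame, and uniqueness of matrices on a frame -/
theorem exists_root_of_frame (δ : F) {e f : Fin d → (Fin d ⊕ Fin d → F)}
    (hfr : IsFrame (sympBil d F) ⊤ e f) :
    ∃ α' : Matrix (Fin d ⊕ Fin d) (Fin d ⊕ Fin d) F, IsSkewRoot (sympBil d F) δ α' ∧
      (∀ i, α' *ᵥ e i = f i) ∧ (∀ i, α' *ᵥ f i = δ • e i) ∧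
      ∀ M N : Matrix (Fin d ⊕ Fin d) (Fin d ⊕ Fin d) F,
        (∀ i, M *ᵥ e i = N *ᵥ e i) → (∀ i, M *ᵥ f i = N *ᵥ f i) → M = N := by
  obtain ⟨g, hg⟩ := (frameOfSp_bijective (F := F) d).2 ⟨(e, f), hfr⟩
  have hg1 : ∀ i, (g : Matrix (Fin d ⊕ Fin d) (Fin d ⊕ Fin d) F) *ᵥ fV i = e i := by
    intro i
    have := congrArg (fun s : Frames (sympBil d F) d => s.1.1 i) hg
    exact this
  have hg2 : ∀ i, (g : Matrix (Fin d ⊕ Fin d) (Fin d ⊕ Fin d) F) *ᵥ eV i = f i := by
    intro i
    have := congrArg (fun s : Frames (sympBil d F) d => s.1.2 i) hg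
    exact this
  set A : GL (Fin d ⊕ Fin d) F := Cfsg.Agent.Helper28.SpSingMax.toGLHom d F g with hA
  have hAs : A ∈ Cfsg.spGL d F := Cfsg.Agent.Helper28.SpSingMax.toGLHom_mem_spGL g
  set P := (A : Matrix (Fin d ⊕ Fin d) (Fin d ⊕ Fin d) F) with hP
  set Q := ((A⁻¹ : GL (Fin d ⊕ Fin d) F) : Matrix (Fin d ⊕ Fin d) (Fin d ⊕ Fin d) F) with hQ
  have hPg : P = (g : Matrix (Fin d ⊕ Fin d) (Fin d ⊕ Fin d) F) := rfl
  have hPQ : P * Q = 1 := gl_mul_inv A
  have hQP : Q * P = 1 := gl_inv_mul A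
  have hQe : ∀ i, Q *ᵥ e i = fV i := by
    intro i
    rw [← hg1, ← hPg, Matrix.mulVec_mulVec, hQP, Matrix.one_mulVec]
  have hQf : ∀ i, Q *ᵥ f i = eV i := by
    intro i
    rw [← hg2, ← hPg, Matrix.mulVec_mulVec, hQP, Matrix.one_mulVec]
  refine ⟨P * alpha0 d δ * Q, (alpha0_isSkewRoot d δ).conj hAs, ?_, ?_, ?_⟩
  · intro i
    rw [← Matrix.mulVec_mulVec, hQe, ← Matrix.mulVec_mulVec, alpha0_mulVec_fV, hPg, hg2]
  · intro i
    rw [← Matrix.mulVec_mulVec, hQf, ← Matrix.mulVec_mulVec, alpha0_mulVec_eV, Matrix.mulVec_smul,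
      hPg, hg1]
  · intro M N h1 h2
    have h3 : M * P = N * P := by
      apply matrix_eq_of_eV_fV
      · intro i
        rw [← Matrix.mulVec_mulVec, ← Matrix.mulVec_mulVec, hPg, hg2, h2]
      · intro i
        rw [← Matrix.mulVec_mulVec, ← Matrix.mulVec_mulVec, hPg, hg1, h1]
    calc M = M * P * Q := by rw [mul_assoc, hPQ, mul_one]
      _ = N * P * Q := by rw [h3]
      _ = N := by rw [mul_assoc, hPQ, mul_one]

end frames

section cases

variable {F : Type*} [Field F] [Fintype F] {d : ℕ}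

theorem frame_ne_zero {e f : Fin d → (Fin d ⊕ Fin d → F)}
    (hfr : IsFrame (sympBil d F) ⊤ e f) (i : Fin d) : e i ≠ 0 ∧ f i ≠ 0 := by
  have h := hfr.ef_self i
  constructor
  · intro h0
    rw [h0, map_zero, LinearMap.zero_apply] at h
    exact zero_ne_one h
  · intro h0
    rw [h0, map_zero] at h
    exact zero_ne_one h

/-- involutions commute with a skew root -/
theorem exists_root_of_sq_one (h2 : (2 : F) ≠ 0) (δ : F)
    (X : Matrix (Fin d ⊕ Fin d) (Fin d ⊕ Fin d) F)
    (hX : ∀ u v, sympBil d F (X *ᵥ u) (X *ᵥ v) = sympBil d F u v)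
    (hXX : X * X = 1) :
    ∃ α' : Matrix (Fin d ⊕ Fin d) (Fin d ⊕ Fin d) F, IsSkewRoot (sympBil d F) δ α' ∧
      X * α' = α' * X := by
  have hgg : ∀ v, Matrix.toLin' X (Matrix.toLin' X v) = v := by
    intro v
    rw [Matrix.toLin'_apply, Matrix.toLin'_apply, Matrix.mulVec_mulVec, hXX, Matrix.one_mulVec]
  have hg : ∀ u v, sympBil d F (Matrix.toLin' X u) (Matrix.toLin' X v) = sympBil d F u v := by
    intro u v
    rw [Matrix.toLin'_apply, Matrix.toLin'_apply]
    exact hX u v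
  obtain ⟨e, f, hfr, hR⟩ := exists_fin_frame _
    (hasFrame_L1 (sympBil d F) (sympBil_self d) h2 (Matrix.toLin' X) hg hgg nondegOn_top_sympBil)
  obtain ⟨α', hα', hαe, hαf, huniq⟩ := exists_root_of_frame δ hfr
  refine ⟨α', hα', ?_⟩
  -- eigenvalues
  have hev : ∀ i, ∃ l : F, X *ᵥ e i = l • e i ∧ X *ᵥ f i = l • f i := by
    intro i
    obtain ⟨h1, h3⟩ := hR i
    rw [Matrix.toLin'_apply] at h1 h3
    obtain ⟨l, hl⟩ := Submodule.mem_span_singleton.1 h1
    obtain ⟨m, hm⟩ := Submodule.mem_span_singleton.1 h3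
    have hll : l * l = 1 := by
      have h4 : X *ᵥ (X *ᵥ e i) = e i := by
        rw [Matrix.mulVec_mulVec, hXX, Matrix.one_mulVec]
      rw [← hl, Matrix.mulVec_smul, ← hl, smul_smul] at h4
      have h5 : (l * l - 1) • e i = 0 := by rw [sub_smul, h4, one_smul, sub_self]
      rcases smul_eq_zero.1 h5 with h6 | h6
      · exact sub_eq_zero.1 h6
      · exact absurd h6 (frame_ne_zero hfr i).1
    have hlm : l * m = 1 := by
      have h4 := hX (e i) (f i)
      rw [← hl, ← hm, map_smul, map_smul, LinearMap.smul_apply, hfr.ef_self, smul_eq_mul,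
        smul_eq_mul, mul_one] at h4
      rw [mul_comm]
      exact h4
    have hml : m = l := by
      calc m = (l * l) * m := by rw [hll, one_mul]
        _ = l * (l * m) := by ring
        _ = l := by rw [hlm, mul_one]
    exact ⟨l, hl.symm, by rw [← hm, hml]⟩
  apply huniq
  · intro i
    obtain ⟨l, hl1, hl2⟩ := hev i
    rw [← Matrix.mulVec_mulVec, ← Matrix.mulVec_mulVec, hαe, hl1, hl2, Matrix.mulVec_smul, hαe]
  · intro i
    obtain ⟨l, hl1, hl2⟩ := hev i
    rw [← Matrix.mulVec_mulVec, ← Matrix.mulVec_mulVec, hαf, hl2, Matrix.mulVec_smul, hl1,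
      Matrix.mulVec_smul, hαf, smul_smul, smul_smul, mul_comm]

/-- square `-1` with `-1` a non-square: a scalar multiple of the matrix itself is a skew root -/
theorem exists_root_of_sq_neg_one_nonsplit (hodd : Odd (Fintype.card F)) (δ : F)
    (hδ : ¬ IsSquare δ) (hm1 : ¬ IsSquare (-1 : F))
    (X : Matrix (Fin d ⊕ Fin d) (Fin d ⊕ Fin d) F)
    (hX : ∀ u v, sympBil d F (X *ᵥ u) (X *ᵥ v) = sympBil d F u v)
    (hXX : X * X = -1) :
    ∃ α' : Matrix (Fin d ⊕ Fin d) (Fin d ⊕ Fin d) F, IsSkewRoot (sympBil d F) δ α' ∧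
      X * α' = α' * X := by
  obtain ⟨c, hc0, hc⟩ := exists_sq_mul_of_not_isSquare hodd hδ hm1
  refine ⟨c • X, ⟨?_, ?_⟩, ?_⟩
  · rw [smul_mul_assoc, mul_smul_comm, hXX, smul_smul, hc, smul_neg]
    rw [← neg_smul]
    congr 1
    ring
  · intro u v
    have h1 : sympBil d F (X *ᵥ u) v = - sympBil d F u (X *ᵥ v) := by
      have h3 := hX u (X *ᵥ v)
      rw [Matrix.mulVec_mulVec, hXX, Matrix.neg_mulVec, Matrix.one_mulVec, map_neg] at h3
      rw [← h3, neg_neg]
    rw [Matrix.smul_mulVec, Matrix.smul_mulVec, map_smul, map_smul, LinearMap.smul_apply, h1,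
      smul_neg]
  · rw [mul_smul_comm, smul_mul_assoc]

/-- square `-1` with `-1` a square: the matrix anticommutes with a skew root -/
theorem exists_root_of_sq_neg_one_split (h2 : (2 : F) ≠ 0) (δ : F) (ι₀ : F) (hι : ι₀ * ι₀ = -1)
    (X : Matrix (Fin d ⊕ Fin d) (Fin d ⊕ Fin d) F)
    (hX : ∀ u v, sympBil d F (X *ᵥ u) (X *ᵥ v) = sympBil d F u v)
    (hXX : X * X = -1) :
    ∃ α' : Matrix (Fin d ⊕ Fin d) (Fin d ⊕ Fin d) F, IsSkewRoot (sympBil d F) δ α' ∧
      X * α' = -(α' * X) := by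
  classical
  have hι0 : ι₀ ≠ 0 := by
    rintro rfl
    rw [mul_zero] at hι
    exact one_ne_zero (neg_eq_zero.1 hι.symm)
  have hgg : ∀ v, Matrix.toLin' X (Matrix.toLin' X v) = -v := by
    intro v
    rw [Matrix.toLin'_apply, Matrix.toLin'_apply, Matrix.mulVec_mulVec, hXX, Matrix.neg_mulVec,
      Matrix.one_mulVec]
  have hg : ∀ u v, sympBil d F (Matrix.toLin' X u) (Matrix.toLin' X v) = sympBil d F u v := by
    intro u v
    rw [Matrix.toLin'_apply, Matrix.toLin'_apply]
    exact hX u v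
  obtain ⟨e, f, hfr, hR⟩ := exists_fin_frame _
    (hasFrame_L2 (sympBil d F) (sympBil_self d) h2 (Matrix.toLin' X) hg hgg nondegOn_top_sympBil)
  have hc : ∀ i, ∃ c c' : F, X *ᵥ e i = c • f i ∧ X *ᵥ f i = c' • e i ∧ c * c' = -1 := by
    intro i
    obtain ⟨h1, h3⟩ := hR i
    rw [Matrix.toLin'_apply] at h1 h3
    obtain ⟨c, hc⟩ := Submodule.mem_span_singleton.1 h1
    obtain ⟨c', hc'⟩ := Submodule.mem_span_singleton.1 h3
    refine ⟨c, c', hc.symm, hc'.symm, ?_⟩
    have h4 : X *ᵥ (X *ᵥ e i) = -e i := by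
      rw [Matrix.mulVec_mulVec, hXX, Matrix.neg_mulVec, Matrix.one_mulVec]
    rw [← hc, Matrix.mulVec_smul, ← hc', smul_smul] at h4
    have h5 : (c * c' + 1) • e i = 0 := by rw [add_smul, h4, one_smul, neg_add_cancel]
    rcases smul_eq_zero.1 h5 with h6 | h6
    · linear_combination h6
    · exact absurd h6 (frame_ne_zero hfr i).1
  choose c c' hce hcf hcc using hc
  have hc0 : ∀ i, c i ≠ 0 := by
    intro i h0
    have := hcc i
    rw [h0, zero_mul] at this
    exact one_ne_zero (neg_eq_zero.1 this.symm)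
  set a : Fin d → F := fun i => ι₀ * c i with ha
  have ha0 : ∀ i, a i ≠ 0 := fun i => mul_ne_zero hι0 (hc0 i)
  have hef : ∀ i j, sympBil d F (e i) (f j) = if i = j then 1 else 0 := by
    intro i j
    split_ifs with hij
    · subst hij; exact hfr.ef_self i
    · exact hfr.ef_ne i j hij
  have hfe : ∀ i j, sympBil d F (f i) (e j) = if i = j then -1 else 0 := by
    intro i j
    split_ifs with hij
    · subst hij; exact hfr.fe_self (sympBil d F) (sympBil_self d) i
    · exact hfr.fe_ne (sympBil d F) (sympBil_self d) i j hij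
  set e' : Fin d → (Fin d ⊕ Fin d → F) := fun i => e i - a i • f i with he'
  set f' : Fin d → (Fin d ⊕ Fin d → F) := fun i => (2 * a i)⁻¹ • (e i + a i • f i) with hf'
  have hfr' : IsFrame (sympBil d F) ⊤ e' f' := by
    apply isFrame_top_of_gram (sympBil d F) (sympBil_self d)
    · intro i
      simp only [he', hf', map_sub, map_add, map_smul, LinearMap.sub_apply, LinearMap.add_apply,
        LinearMap.smul_apply, smul_eq_mul, hef, hfe, hfr.ee, hfr.ff, if_true]
      have := ha0 i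
      field_simp
      ring
    · intro i j hij
      have hji : ¬ j = i := fun h => hij h.symm
      simp only [he', hf', map_sub, map_add, map_smul, LinearMap.sub_apply, LinearMap.add_apply,
        LinearMap.smul_apply, smul_eq_mul, hef, hfe, hfr.ee, hfr.ff, if_neg hij]
      ring
    · intro i j
      simp only [he', map_sub, map_smul, LinearMap.sub_apply,
        LinearMap.smul_apply, smul_eq_mul, hef, hfe, hfr.ee, hfr.ff]
      split_ifs with hij
      · subst hij; ring
      · ring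
    · intro i j
      simp only [hf', map_add, map_smul, LinearMap.add_apply,
        LinearMap.smul_apply, smul_eq_mul, hef, hfe, hfr.ee, hfr.ff]
      split_ifs with hij
      · subst hij; ring
      · ring
    · rw [finrank_std, Fintype.card_fin]
  have hXe' : ∀ i, X *ᵥ e' i = ι₀ • e' i := by
    intro i
    simp only [he', ha, Matrix.mulVec_sub, Matrix.mulVec_smul, hce, hcf, smul_sub, smul_smul]
    have h1 : ι₀ * c i * c' i = -ι₀ := by rw [mul_assoc, hcc]; ring
    have h3 : ι₀ * (ι₀ * c i) = -c i := by rw [← mul_assoc, hι]; ring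
    rw [h1, h3, neg_smul, neg_smul]
    abel
  have hXf' : ∀ i, X *ᵥ f' i = (-ι₀) • f' i := by
    intro i
    simp only [hf', ha, Matrix.mulVec_add, Matrix.mulVec_smul, hce, hcf, smul_add, smul_smul]
    have h1 : ι₀ * c i * c' i = -ι₀ := by rw [mul_assoc, hcc]; ring
    rw [add_comm]
    congr 1
    · congr 1
      rw [mul_assoc, h1]
      ring
    · congr 1
      linear_combination ((2 * (ι₀ * c i))⁻¹ * c i) * hι
  obtain ⟨α', hα', hαe, hαf, huniq⟩ := exists_root_of_frame δ hfr'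
  refine ⟨α', hα', ?_⟩
  apply huniq
  · intro i
    rw [← Matrix.mulVec_mulVec, Matrix.neg_mulVec, ← Matrix.mulVec_mulVec, hαe, hXf', hXe',
      Matrix.mulVec_smul, hαe, neg_smul]
  · intro i
    rw [← Matrix.mulVec_mulVec, Matrix.neg_mulVec, ← Matrix.mulVec_mulVec, hαf, hXf',
      Matrix.mulVec_smul, hXe', Matrix.mulVec_smul, hαf, smul_smul, smul_smul, neg_mul, neg_smul,
      neg_neg, mul_comm]

end cases

end Cfsg.Agent.Helper28.BGU
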