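import Mathlib
import Cfsg.Agent.Lib.Helper28.BGU4

/-!
# Self-adjoint square roots of a non-square in the symplectic group of dimension four
(helper28)
-/

set_option autoImplicit false
set_option linter.style.haveILetI false
set_option linter.unusedSectionVars false
set_option linter.unusedVariables false

namespace Cfsg.Agent.Helper28.BGS

open Matrix Module Cfsg.Agent.Helper13.SympFrame Cfsg.Agent.Helper13.LagCount
  Cfsg.Agent.Helper28.SympIso Cfsg.Agent.Helper2.Symp Cfsg.Agent.Helper28.BGU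

section struct

variable {F : Type*} [Field F] {ι : Type} [Fintype ι] [DecidableEq ι]

/-- `α` squares to the scalar `δ` and is self-adjoint for `B` -/
structure IsSARoot (B : LinearMap.BilinForm F (ι → F)) (δ : F) (α : Matrix ι ι F) : Prop where
  sq : α * α = δ • (1 : Matrix ι ι F)
  sa : ∀ u v : ι → F, B (α *ᵥ u) v = B u (α *ᵥ v)

end struct

section model

variable {F : Type*} [Field F]

/-- the model of a self-adjoint root in dimension four -/
def alpha1 (δ : F) : Matrix (Fin 2 ⊕ Fin 2) (Fin 2 ⊕ Fin 2) F :=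
  Matrix.fromBlocks !![0, 1; δ, 0] 0 0 !![0, δ; 1, 0]

theorem alpha1_mul_self (δ : F) :
    alpha1 δ * alpha1 δ = δ • (1 : Matrix (Fin 2 ⊕ Fin 2) (Fin 2 ⊕ Fin 2) F) := by
  unfold alpha1
  rw [Matrix.fromBlocks_multiply, ← Matrix.fromBlocks_one, Matrix.fromBlocks_smul]
  congr 1
  · ext i j
    fin_cases i <;> fin_cases j <;> simp
  · simp
  · simp
  · ext i j
    fin_cases i <;> fin_cases j <;> simp

theorem alpha1_transpose_mul_J (δ : F) :
    (alpha1 δ)ᵀ * Matrix.J (Fin 2) F = Matrix.J (Fin 2) F * alpha1 δ := by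
  unfold alpha1 Matrix.J
  rw [Matrix.fromBlocks_transpose, Matrix.fromBlocks_multiply, Matrix.fromBlocks_multiply]
  congr 1
  · simp
  · ext i j
    fin_cases i <;> fin_cases j <;> simp
  · ext i j
    fin_cases i <;> fin_cases j <;> simp
  · simp

theorem alpha1_isSARoot (δ : F) : IsSARoot (sympBil 2 F) δ (alpha1 δ) := by
  refine ⟨alpha1_mul_self δ, ?_⟩
  intro u v
  rw [sympBil_apply, sympBil_apply]
  unfold Cfsg.sympForm
  rw [dotProduct_mulVec_left, Matrix.mulVec_mulVec, alpha1_transpose_mul_J, Matrix.mulVec_mulVec]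

theorem alpha1_fV0 (δ : F) : alpha1 δ *ᵥ (fV 0 : Fin 2 ⊕ Fin 2 → F) = fV 1 := by
  unfold fV alpha1
  rw [Matrix.mulVec_single_one]
  ext c
  rcases c with j | j
  · simp [Pi.single_apply]
  · fin_cases j <;> simp [Pi.single_apply]

theorem alpha1_fV1 (δ : F) : alpha1 δ *ᵥ (fV 1 : Fin 2 ⊕ Fin 2 → F) = δ • fV 0 := by
  unfold fV alpha1
  rw [Matrix.mulVec_single_one]
  ext c
  rcases c with j | j
  · simp [Pi.single_apply]
  · fin_cases j <;> simp [Pi.single_apply]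

theorem alpha1_eV1 (δ : F) : alpha1 δ *ᵥ (eV 1 : Fin 2 ⊕ Fin 2 → F) = eV 0 := by
  unfold eV alpha1
  rw [Matrix.mulVec_single_one]
  ext c
  rcases c with j | j
  · fin_cases j <;> simp [Pi.single_apply]
  · simp [Pi.single_apply]

theorem alpha1_eV0 (δ : F) : alpha1 δ *ᵥ (eV 0 : Fin 2 ⊕ Fin 2 → F) = δ • eV 1 := by
  unfold eV alpha1
  rw [Matrix.mulVec_single_one]
  ext c
  rcases c with j | j
  · fin_cases j <;> simp [Pi.single_apply]
  · simp [Pi.single_apply]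

end model

section conj

variable {F : Type*} [Field F] [Fintype F] {d : ℕ}

/-- conjugating a self-adjoint root by a symplectic matrix -/
theorem IsSARoot.conj {δ : F} {α : Matrix (Fin d ⊕ Fin d) (Fin d ⊕ Fin d) F}
    (hα : IsSARoot (sympBil d F) δ α) {g : GL (Fin d ⊕ Fin d) F} (hg : g ∈ Cfsg.spGL d F) :
    IsSARoot (sympBil d F) δ ((g : Matrix (Fin d ⊕ Fin d) (Fin d ⊕ Fin d) F) * α *
      ((g⁻¹ : GL (Fin d ⊕ Fin d) F) : Matrix (Fin d ⊕ Fin d) (Fin d ⊕ Fin d) F)) := by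
  set P := (g : Matrix (Fin d ⊕ Fin d) (Fin d ⊕ Fin d) F) with hP
  set Q := ((g⁻¹ : GL (Fin d ⊕ Fin d) F) : Matrix (Fin d ⊕ Fin d) (Fin d ⊕ Fin d) F) with hQ
  have hPQ : P * Q = 1 := gl_mul_inv g
  have hQP : Q * P = 1 := gl_inv_mul g
  have hadj : ∀ w v, sympBil d F (P *ᵥ w) v = sympBil d F w (Q *ᵥ v) := by
    intro w v
    have := spGL_apply hg w (Q *ᵥ v)
    rw [Matrix.mulVec_mulVec, hPQ, Matrix.one_mulVec] at this
    exact this
  have hadj' : ∀ w v, sympBil d F w (P *ᵥ v) = sympBil d F (Q *ᵥ w) v := by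
    intro w v
    have := spGL_apply hg (Q *ᵥ w) v
    rw [Matrix.mulVec_mulVec, hPQ, Matrix.one_mulVec] at this
    exact this
  constructor
  · calc P * α * Q * (P * α * Q) = P * α * (Q * P) * α * Q := by simp only [mul_assoc]
      _ = P * (α * α) * Q := by rw [hQP, mul_one]; simp only [mul_assoc]
      _ = δ • (1 : Matrix (Fin d ⊕ Fin d) (Fin d ⊕ Fin d) F) := by
        rw [hα.sq, mul_smul_comm, smul_mul_assoc, mul_one, hPQ]
  · intro u v
    rw [← Matrix.mulVec_mulVec, ← Matrix.mulVec_mulVec, hadj, hα.sa, ← Matrix.mulVec_mulVec,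
      ← Matrix.mulVec_mulVec, hadj']

end conj

section frames

variable {F : Type*} [Field F] [Fintype F]

/-- the self-adjoint root attached to a frame, and uniqueness of matrices on a frame -/
theorem exists_saroot_of_frame (δ : F) {e f : Fin 2 → (Fin 2 ⊕ Fin 2 → F)}
    (hfr : IsFrame (sympBil 2 F) ⊤ e f) :
    ∃ α' : Matrix (Fin 2 ⊕ Fin 2) (Fin 2 ⊕ Fin 2) F, IsSARoot (sympBil 2 F) δ α' ∧
      α' *ᵥ e 0 = e 1 ∧ α' *ᵥ e 1 = δ • e 0 ∧ α' *ᵥ f 1 = f 0 ∧ α' *ᵥ f 0 = δ • f 1 ∧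
      ∀ M N : Matrix (Fin 2 ⊕ Fin 2) (Fin 2 ⊕ Fin 2) F,
        (∀ i, M *ᵥ e i = N *ᵥ e i) → (∀ i, M *ᵥ f i = N *ᵥ f i) → M = N := by
  obtain ⟨g, hg⟩ := (frameOfSp_bijective (F := F) 2).2 ⟨(e, f), hfr⟩
  have hg1 : ∀ i, (g : Matrix (Fin 2 ⊕ Fin 2) (Fin 2 ⊕ Fin 2) F) *ᵥ fV i = e i := by
    intro i
    have := congrArg (fun s : Frames (sympBil 2 F) 2 => s.1.1 i) hg
    exact this
  have hg2 : ∀ i, (g : Matrix (Fin 2 ⊕ Fin 2) (Fin 2 ⊕ Fin 2) F) *ᵥ eV i = f i := by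
    intro i
    have := congrArg (fun s : Frames (sympBil 2 F) 2 => s.1.2 i) hg
    exact this
  set A : GL (Fin 2 ⊕ Fin 2) F := Cfsg.Agent.Helper28.SpSingMax.toGLHom 2 F g with hA
  have hAs : A ∈ Cfsg.spGL 2 F := Cfsg.Agent.Helper28.SpSingMax.toGLHom_mem_spGL g
  set P := (A : Matrix (Fin 2 ⊕ Fin 2) (Fin 2 ⊕ Fin 2) F) with hP
  set Q := ((A⁻¹ : GL (Fin 2 ⊕ Fin 2) F) : Matrix (Fin 2 ⊕ Fin 2) (Fin 2 ⊕ Fin 2) F) with hQ
  have hPg : P = (g : Matrix (Fin 2 ⊕ Fin 2) (Fin 2 ⊕ Fin 2) F) := rfl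
  have hPQ : P * Q = 1 := gl_mul_inv A
  have hQP : Q * P = 1 := gl_inv_mul A
  have hQe : ∀ i, Q *ᵥ e i = fV i := by
    intro i
    rw [← hg1, ← hPg, Matrix.mulVec_mulVec, hQP, Matrix.one_mulVec]
  have hQf : ∀ i, Q *ᵥ f i = eV i := by
    intro i
    rw [← hg2, ← hPg, Matrix.mulVec_mulVec, hQP, Matrix.one_mulVec]
  refine ⟨P * alpha1 δ * Q, (alpha1_isSARoot δ).conj hAs, ?_, ?_, ?_, ?_, ?_⟩
  · rw [← Matrix.mulVec_mulVec, hQe, ← Matrix.mulVec_mulVec, alpha1_fV0, hPg, hg1]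
  · rw [← Matrix.mulVec_mulVec, hQe, ← Matrix.mulVec_mulVec, alpha1_fV1, Matrix.mulVec_smul, hPg,
      hg1]
  · rw [← Matrix.mulVec_mulVec, hQf, ← Matrix.mulVec_mulVec, alpha1_eV1, hPg, hg2]
  · rw [← Matrix.mulVec_mulVec, hQf, ← Matrix.mulVec_mulVec, alpha1_eV0, Matrix.mulVec_smul, hPg,
      hg2]
  · intro M N h1 h2
    have h3 : M * P = N * P := by
      apply matrix_eq_of_eV_fV
      · intro i
        rw [← Matrix.mulVec_mulVec, ← Matrix.mulVec_mulVec, hPg, hg2, h2]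
      · intro i
        rw [← Matrix.mulVec_mulVec, ← Matrix.mulVec_mulVec, hPg, hg1, h1]
    calc M = M * P * Q := by rw [mul_assoc, hPQ, mul_one]
      _ = N * P * Q := by rw [h3]
      _ = N := by rw [mul_assoc, hPQ, mul_one]

/-- a frame adapted to a self-adjoint root of a non-square -/
theorem exists_frame_of_saroot (h2 : (2 : F) ≠ 0) (δ : F) (hδ : ¬ IsSquare δ)
    (α : Matrix (Fin 2 ⊕ Fin 2) (Fin 2 ⊕ Fin 2) F) (hα : IsSARoot (sympBil 2 F) δ α) :
    ∃ e f : Fin 2 → (Fin 2 ⊕ Fin 2 → F), IsFrame (sympBil 2 F) ⊤ e f ∧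
      α *ᵥ e 0 = e 1 ∧ α *ᵥ e 1 = δ • e 0 ∧ α *ᵥ f 1 = f 0 ∧ α *ᵥ f 0 = δ • f 1 := by
  set B := sympBil 2 F with hB
  have hδ0 : δ ≠ 0 := by
    rintro rfl
    exact hδ ⟨0, by simp⟩
  have hαα : ∀ v, α *ᵥ (α *ᵥ v) = δ • v := by
    intro v
    rw [Matrix.mulVec_mulVec, hα.sq, Matrix.smul_mulVec, Matrix.one_mulVec]
  have hself : ∀ u, B u u = 0 := sympBil_self 2
  have hBα : ∀ u, B u (α *ᵥ u) = 0 := by
    intro u
    have h1 : B (α *ᵥ u) u = B u (α *ᵥ u) := hα.sa u u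
    have h3 : B (α *ᵥ u) u = - B u (α *ᵥ u) := skew B hself _ _
    have h4 : (2 : F) * B u (α *ᵥ u) = 0 := by
      rw [two_mul]
      nth_rewrite 1 [← h1]
      rw [h3, neg_add_cancel]
    exact (mul_eq_zero.1 h4).resolve_left h2
  -- a non-zero vector
  obtain ⟨v, w₁, hvw⟩ := exists_sympBil_ne_zero (F := F) 2 (by norm_num)
  set s := B v w₁ with hs
  set t := B v (α *ᵥ w₁) with ht
  have hden : δ * s * s - t * t ≠ 0 := by
    intro h
    apply hδ
    refine ⟨t / s, ?_⟩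
    have hs0 : s ≠ 0 := hvw
    field_simp
    linear_combination h
  set D := δ * s * s - t * t with hD
  set a := δ * s / D with ha
  set b := -t / D with hb
  set w := a • w₁ + b • (α *ᵥ w₁) with hw
  have hvw1 : B v w = 1 := by
    rw [hw, map_add, map_smul, map_smul, ← hs, ← ht, smul_eq_mul, smul_eq_mul, ha, hb]
    field_simp
    ring
  have hvw2 : B (α *ᵥ v) w = 0 := by
    rw [hα.sa, hw, Matrix.mulVec_add, Matrix.mulVec_smul, Matrix.mulVec_smul, hαα, map_add,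
      map_smul, map_smul, map_smul, ← hs, ← ht, smul_eq_mul, smul_eq_mul, smul_eq_mul, ha, hb]
    field_simp
    ring
  set e : Fin 2 → (Fin 2 ⊕ Fin 2 → F) := ![v, α *ᵥ v] with he
  set f : Fin 2 → (Fin 2 ⊕ Fin 2 → F) := ![w, δ⁻¹ • (α *ᵥ w)] with hf
  have he0 : e 0 = v := rfl
  have he1 : e 1 = α *ᵥ v := rfl
  have hf0 : f 0 = w := rfl
  have hf1 : f 1 = δ⁻¹ • (α *ᵥ w) := rfl
  have hfr : IsFrame B ⊤ e f := by
    apply isFrame_top_of_gram B hself
    · intro i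
      fin_cases i
      · exact hvw1
      · show B (α *ᵥ v) (δ⁻¹ • (α *ᵥ w)) = 1
        rw [map_smul, smul_eq_mul, hα.sa, hαα, map_smul, smul_eq_mul, hvw1, mul_one,
          inv_mul_cancel₀ hδ0]
    · intro i j hij
      fin_cases i <;> fin_cases j
      · exact absurd rfl hij
      · show B v (δ⁻¹ • (α *ᵥ w)) = 0
        rw [map_smul, smul_eq_mul, ← hα.sa, hvw2, mul_zero]
      · exact hvw2
      · exact absurd rfl hij
    · intro i j
      fin_cases i <;> fin_cases j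
      · exact hself v
      · exact hBα v
      · show B (α *ᵥ v) v = 0
        rw [hα.sa]
        exact hBα v
      · exact hself _
    · intro i j
      fin_cases i <;> fin_cases j
      · exact hself w
      · show B w (δ⁻¹ • (α *ᵥ w)) = 0
        rw [map_smul, hBα, smul_zero]
      · show B (δ⁻¹ • (α *ᵥ w)) w = 0
        rw [map_smul, LinearMap.smul_apply, hα.sa, hBα, smul_zero]
      · exact hself _
    · rw [finrank_std, Fintype.card_fin]
  refine ⟨e, f, hfr, ?_, ?_, ?_, ?_⟩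
  · rw [he0, he1]
  · rw [he0, he1, hαα]
  · rw [hf0, hf1, Matrix.mulVec_smul, hαα, smul_smul, inv_mul_cancel₀ hδ0, one_smul]
  · rw [hf0, hf1, smul_smul, mul_inv_cancel₀ hδ0, one_smul]

end frames

end Cfsg.Agent.Helper28.BGS
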