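import Mathlib
import Cfsg.Agent.Lib.Helper28.BGS2
import Cfsg.Agent.Lib.Helper28.BGU3
import Cfsg.Agent.Lib.Helper13.SemisimpleClass

/-!
# The normalizer of a field subalgebra of prime degree: linear and semilinear elements
(helper28)
-/

set_option autoImplicit false
set_option linter.style.haveILetI false
set_option linter.unusedSectionVars false

namespace Cfsg.Agent.Helper28.BGS

open Matrix Module Polynomial Cfsg.Agent.Helper28.BGU Cfsg.Agent.Helper13.SS

section conj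

variable {F : Type*} [Field F] {ι : Type} [Fintype ι] [DecidableEq ι]
variable {K : Subalgebra F (Matrix ι ι F)}

theorem conj_mem {y : GL ι F} (hy : y ∈ Cfsg.Geo.subalgebraNormalizer K) {a : Matrix ι ι F}
    (ha : a ∈ K) : (y : Matrix ι ι F) * a * ((y⁻¹ : GL ι F) : Matrix ι ι F) ∈ K :=
  ((mem_subalgebraNormalizer_iff K y).1 hy a).1 ha

theorem conj_inv_mem {y : GL ι F} (hy : y ∈ Cfsg.Geo.subalgebraNormalizer K) {a : Matrix ι ι F}
    (ha : a ∈ K) : ((y⁻¹ : GL ι F) : Matrix ι ι F) * a * (y : Matrix ι ι F) ∈ K := by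
  have h := conj_mem ((Cfsg.Geo.subalgebraNormalizer K).inv_mem hy) ha
  rwa [inv_inv] at h

/-- the automorphism of the field induced by an element of the normalizer -/
noncomputable def conjAut (y : GL ι F) (hy : y ∈ Cfsg.Geo.subalgebraNormalizer K) :
    ↥K ≃ₐ[F] ↥K where
  toFun a := ⟨(y : Matrix ι ι F) * a * ((y⁻¹ : GL ι F) : Matrix ι ι F), conj_mem hy a.2⟩
  invFun a := ⟨((y⁻¹ : GL ι F) : Matrix ι ι F) * a * (y : Matrix ι ι F), conj_inv_mem hy a.2⟩
  left_inv a := by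
    apply Subtype.ext
    show ((y⁻¹ : GL ι F) : Matrix ι ι F) *
      ((y : Matrix ι ι F) * a * ((y⁻¹ : GL ι F) : Matrix ι ι F)) * (y : Matrix ι ι F) = a
    calc ((y⁻¹ : GL ι F) : Matrix ι ι F) *
        ((y : Matrix ι ι F) * a * ((y⁻¹ : GL ι F) : Matrix ι ι F)) * (y : Matrix ι ι F)
        = (((y⁻¹ : GL ι F) : Matrix ι ι F) * (y : Matrix ι ι F)) * a *
          (((y⁻¹ : GL ι F) : Matrix ι ι F) * (y : Matrix ι ι F)) := by simp only [mul_assoc]
      _ = a := by rw [gl_inv_mul, one_mul, mul_one]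
  right_inv a := by
    apply Subtype.ext
    show (y : Matrix ι ι F) *
      (((y⁻¹ : GL ι F) : Matrix ι ι F) * a * (y : Matrix ι ι F)) *
        ((y⁻¹ : GL ι F) : Matrix ι ι F) = a
    calc (y : Matrix ι ι F) *
        (((y⁻¹ : GL ι F) : Matrix ι ι F) * a * (y : Matrix ι ι F)) *
          ((y⁻¹ : GL ι F) : Matrix ι ι F)
        = ((y : Matrix ι ι F) * ((y⁻¹ : GL ι F) : Matrix ι ι F)) * a *
          ((y : Matrix ι ι F) * ((y⁻¹ : GL ι F) : Matrix ι ι F)) := by simp only [mul_assoc]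
      _ = a := by rw [gl_mul_inv, one_mul, mul_one]
  map_mul' a b := by
    apply Subtype.ext
    show (y : Matrix ι ι F) * ((a : Matrix ι ι F) * b) * ((y⁻¹ : GL ι F) : Matrix ι ι F) =
      ((y : Matrix ι ι F) * a * ((y⁻¹ : GL ι F) : Matrix ι ι F)) *
        ((y : Matrix ι ι F) * b * ((y⁻¹ : GL ι F) : Matrix ι ι F))
    calc (y : Matrix ι ι F) * ((a : Matrix ι ι F) * b) * ((y⁻¹ : GL ι F) : Matrix ι ι F)
        = (y : Matrix ι ι F) * a * (1 : Matrix ι ι F) * b *
          ((y⁻¹ : GL ι F) : Matrix ι ι F) := by rw [mul_one]; simp only [mul_assoc]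
      _ = _ := by rw [← gl_inv_mul y]; simp only [mul_assoc]
  map_add' a b := by
    apply Subtype.ext
    show (y : Matrix ι ι F) * ((a : Matrix ι ι F) + b) * ((y⁻¹ : GL ι F) : Matrix ι ι F) =
      ((y : Matrix ι ι F) * a * ((y⁻¹ : GL ι F) : Matrix ι ι F)) +
        ((y : Matrix ι ι F) * b * ((y⁻¹ : GL ι F) : Matrix ι ι F))
    rw [mul_add, add_mul]
  commutes' c := by
    apply Subtype.ext
    show (y : Matrix ι ι F) * ((algebraMap F ↥K c : ↥K) : Matrix ι ι F) *
      ((y⁻¹ : GL ι F) : Matrix ι ι F) = ((algebraMap F ↥K c : ↥K) : Matrix ι ι F)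
    have h1 : ((algebraMap F ↥K c : ↥K) : Matrix ι ι F) = c • (1 : Matrix ι ι F) := by
      rw [Algebra.algebraMap_eq_smul_one]
      rfl
    rw [h1, mul_smul_comm, mul_one, smul_mul_assoc, gl_mul_inv]

theorem conjAut_val (y : GL ι F) (hy : y ∈ Cfsg.Geo.subalgebraNormalizer K) (a : ↥K) :
    ((conjAut y hy a : ↥K) : Matrix ι ι F) =
      (y : Matrix ι ι F) * a * ((y⁻¹ : GL ι F) : Matrix ι ι F) := rfl

/-- the element of the normalizer is semilinear -/
theorem conjAut_mul (y : GL ι F) (hy : y ∈ Cfsg.Geo.subalgebraNormalizer K) (a : ↥K) :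
    ((conjAut y hy a : ↥K) : Matrix ι ι F) * (y : Matrix ι ι F) =
      (y : Matrix ι ι F) * (a : Matrix ι ι F) := by
  rw [conjAut_val, mul_assoc, gl_inv_mul, mul_one]

theorem conjAut_eq_one_iff (y : GL ι F) (hy : y ∈ Cfsg.Geo.subalgebraNormalizer K) :
    conjAut y hy = 1 ↔ ∀ a ∈ K, (y : Matrix ι ι F) * a = a * (y : Matrix ι ι F) := by
  constructor
  · intro h a ha
    have h1 := conjAut_mul y hy ⟨a, ha⟩
    rw [h] at h1
    exact h1.symm
  · intro h
    apply AlgEquiv.ext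
    intro a
    apply Subtype.ext
    rw [conjAut_val, h a a.2, mul_assoc, gl_mul_inv, mul_one]
    rfl

theorem conjAut_pow_val (y : GL ι F) (hy : y ∈ Cfsg.Geo.subalgebraNormalizer K) (n : ℕ)
    (a : ↥K) : ((((conjAut y hy) ^ n) a : ↥K) : Matrix ι ι F) =
      (y : Matrix ι ι F) ^ n * a * (((y⁻¹ : GL ι F) : Matrix ι ι F)) ^ n := by
  induction n with
  | zero => simp
  | succ n ih =>
    rw [pow_succ', AlgEquiv.mul_apply, conjAut_val, ih, pow_succ', pow_succ]
    simp only [mul_assoc]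

/-- an element with a scalar power induces an automorphism of that order -/
theorem conjAut_pow_eq_one (y : GL ι F) (hy : y ∈ Cfsg.Geo.subalgebraNormalizer K) (r : ℕ)
    (z : F) (hz : ((y ^ r : GL ι F) : Matrix ι ι F) = z • (1 : Matrix ι ι F)) :
    (conjAut y hy) ^ r = 1 := by
  apply AlgEquiv.ext
  intro a
  apply Subtype.ext
  rw [conjAut_pow_val]
  have h1 : (y : Matrix ι ι F) ^ r = z • (1 : Matrix ι ι F) := by
    rw [← hz, Units.val_pow_eq_pow_val]
  have h2 : (y : Matrix ι ι F) ^ r * (((y⁻¹ : GL ι F) : Matrix ι ι F)) ^ r = 1 := by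
    rw [← Units.val_pow_eq_pow_val, ← Units.val_pow_eq_pow_val, ← Units.val_mul, inv_pow,
      mul_inv_cancel, Units.val_one]
  have h3 : (y : Matrix ι ι F) ^ r * (a : Matrix ι ι F) =
      (a : Matrix ι ι F) * (y : Matrix ι ι F) ^ r := by
    rw [h1, smul_mul_assoc, one_mul, mul_smul_comm, mul_one]
  rw [h3, mul_assoc, h2, mul_one]
  rfl

end conj

end Cfsg.Agent.Helper28.BGS
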