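import Mathlib
import Cfsg.Agent.Lib.Helper28.BGS3

/-!
# The normalizer of a field subalgebra of prime degree: dimensions of kernels
(helper28)
-/

set_option autoImplicit false
set_option linter.style.haveILetI false
set_option linter.unusedSectionVars false

namespace Cfsg.Agent.Helper28.BGS

open Matrix Module Polynomial Cfsg.Agent.Helper28.BGU Cfsg.Agent.Helper13.SS

section galois

variable {F : Type*} [Field F] [Fintype F] {ι : Type} [Fintype ι] [DecidableEq ι]
variable {K : Subalgebra F (Matrix ι ι F)}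

theorem card_aut [IsFld K] {k : ℕ} (hK : Cfsg.Geo.IsFieldSubalgebra k K) :
    Nat.card (↥K ≃ₐ[F] ↥K) = k := by
  rw [IsGalois.card_aut_eq_finrank, hK.finrank_eq]

/-- a non-trivial automorphism of prime order `r`: the degree is `r` -/
theorem degree_eq_of_aut [IsFld K] {k : ℕ} (hk : k.Prime)
    (hK : Cfsg.Geo.IsFieldSubalgebra k K) (σ : ↥K ≃ₐ[F] ↥K) (hσ : σ ≠ 1) (r : ℕ) (hr : r.Prime)
    (hσr : σ ^ r = 1) : k = r := by
  haveI : Fact r.Prime := ⟨hr⟩
  have h1 : orderOf σ = r := orderOf_eq_prime hσr hσ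
  have h2 : orderOf σ ∣ Nat.card (↥K ≃ₐ[F] ↥K) := orderOf_dvd_natCard σ
  rw [h1, card_aut hK] at h2
  exact ((Nat.prime_dvd_prime_iff_eq hr hk).1 h2).symm

/-- the elements fixed by a non-trivial automorphism are the scalars -/
theorem fixed_eq_scalar [IsFld K] {k : ℕ} (hk : k.Prime)
    (hK : Cfsg.Geo.IsFieldSubalgebra k K) (σ : ↥K ≃ₐ[F] ↥K) (hσ : σ ≠ 1) (a : ↥K)
    (ha : σ a = a) : ∃ c : F, algebraMap F ↥K c = a := by
  haveI : Fact k.Prime := ⟨hk⟩
  have htop : Subgroup.zpowers σ = ⊤ := zpowers_eq_top_of_prime_card (card_aut hK) hσ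
  let H : Subgroup (↥K ≃ₐ[F] ↥K) :=
    { carrier := {τ | τ a = a}
      mul_mem' := by
        intro τ τ' h h'
        show (τ * τ') a = a
        rw [AlgEquiv.mul_apply, h', h]
      one_mem' := rfl
      inv_mem' := by
        intro τ h
        show τ⁻¹ a = a
        have h1 : τ⁻¹ (τ a) = a := by
          rw [← AlgEquiv.mul_apply, inv_mul_cancel]
          rfl
        rw [h] at h1
        exact h1 }
  have hle : Subgroup.zpowers σ ≤ H := by
    rw [Subgroup.zpowers_le]
    exact ha
  rw [htop] at hle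
  have hall : ∀ f : ↥K ≃ₐ[F] ↥K, f a = a := fun f => hle (Subgroup.mem_top f)
  exact (IsGalois.mem_range_algebraMap_iff_fixed a).2 hall

end galois

section kernels

variable {F : Type*} [Field F] {ι : Type} [Fintype ι] [DecidableEq ι]
variable {K : Subalgebra F (Matrix ι ι F)}

/-- kernels of polynomials in an element centralizing the field are stable -/
theorem ker_aeval_stable (Y : Matrix ι ι F)
    (hcomm : ∀ a ∈ K, Y * a = a * Y) (P : F[X]) :
    ∀ a ∈ K, ∀ w ∈ LinearMap.ker (aeval (Matrix.toLin' Y) P),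
      a *ᵥ w ∈ LinearMap.ker (aeval (Matrix.toLin' Y) P) := by
  intro a ha w hw
  rw [LinearMap.mem_ker] at hw ⊢
  have h1 := aeval_intertwine (Matrix.toLin' a) (Matrix.toLin' Y) (Matrix.toLin' Y) (by
    intro v
    rw [Matrix.toLin'_apply, Matrix.toLin'_apply, Matrix.toLin'_apply, Matrix.toLin'_apply,
      Matrix.mulVec_mulVec, Matrix.mulVec_mulVec, hcomm a ha]) P w
  rw [Matrix.toLin'_apply, Matrix.toLin'_apply] at h1
  rw [← h1, hw, Matrix.mulVec_zero]

/-- the degree divides the dimension of the kernel of a polynomial in a centralizing element -/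
theorem dvd_kdim_of_comm {k : ℕ} (hk : 1 ≤ k) (hK : Cfsg.Geo.IsFieldSubalgebra k K)
    (Y : Matrix ι ι F) (hcomm : ∀ a ∈ K, Y * a = a * Y) (P : F[X]) :
    k ∣ kdim (Matrix.toLin' Y) P :=
  dvd_finrank_of_stable hk hK _ (ker_aeval_stable Y hcomm P)

end kernels

section semilinear

variable {F : Type*} [Field F] [Fintype F] {ι : Type} [Fintype ι] [DecidableEq ι]
variable {K : Subalgebra F (Matrix ι ι F)}

/-- eigenspaces of a properly semilinear element of the normalizer are small -/
theorem finrank_eigen_le {k : ℕ} (hk : k.Prime) (hK : Cfsg.Geo.IsFieldSubalgebra k K)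
    (y : GL ι F) (hy : y ∈ Cfsg.Geo.subalgebraNormalizer K)
    (hne : ¬ ∀ a ∈ K, (y : Matrix ι ι F) * a = a * (y : Matrix ι ι F)) (l : F) :
    k * finrank F (LinearMap.ker (Matrix.toLin' (y : Matrix ι ι F) - l • 1)) ≤
      Fintype.card ι := by
  classical
  haveI := isFld_of hk.one_le hK
  haveI : FiniteDimensional ↥K (ι → F) := FiniteDimensional.right F ↥K (ι → F)
  set σ := conjAut y hy with hσ
  have hσ1 : σ ≠ 1 := fun h => hne ((conjAut_eq_one_iff y hy).1 h)
  set E : Submodule F (ι → F) := LinearMap.ker (Matrix.toLin' (y : Matrix ι ι F) - l • 1)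
    with hE
  have hEmem : ∀ v, v ∈ E ↔ (y : Matrix ι ι F) *ᵥ v = l • v := by
    intro v
    rw [hE, LinearMap.mem_ker, LinearMap.sub_apply, LinearMap.smul_apply, Module.End.one_apply,
      Matrix.toLin'_apply, sub_eq_zero]
  by_cases hl : l = 0
  · have hbot : E = ⊥ := by
      rw [eq_bot_iff]
      intro v hv
      rw [hEmem, hl, zero_smul] at hv
      have h1 : ((y⁻¹ : GL ι F) : Matrix ι ι F) *ᵥ ((y : Matrix ι ι F) *ᵥ v) = v := by
        rw [Matrix.mulVec_mulVec, gl_inv_mul, Matrix.one_mulVec]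
      rw [hv, Matrix.mulVec_zero] at h1
      rw [Submodule.mem_bot]
      exact h1.symm
    rw [hbot, finrank_bot, mul_zero]
    exact Nat.zero_le _
  -- a basis of the span over the field, inside the eigenspace
  obtain ⟨b, hbE, hbspan, hbli⟩ := exists_linearIndependent ↥K (E : Set (ι → F))
  haveI : Fintype ↥b := hbli.setFinite.fintype
  have hsemi : ∀ (a : ↥K) (v : ι → F),
      (y : Matrix ι ι F) *ᵥ (a • v) = (σ a) • ((y : Matrix ι ι F) *ᵥ v) := by
    intro a v
    rw [fld_smul_def, fld_smul_def, Matrix.mulVec_mulVec, Matrix.mulVec_mulVec, hσ, conjAut_mul]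
  have hEle : E ≤ Submodule.span F (Set.range (Subtype.val : ↥b → (ι → F))) := by
    intro v hv
    have hv' : v ∈ Submodule.span ↥K (Set.range (Subtype.val : ↥b → (ι → F))) := by
      rw [Subtype.range_coe, hbspan]
      exact Submodule.subset_span hv
    obtain ⟨c, hc⟩ := (Submodule.mem_span_range_iff_exists_fun ↥K).1 hv'
    have h1 : (y : Matrix ι ι F) *ᵥ v = ∑ i : ↥b, (σ (c i)) • (l • (i : ι → F)) := by
      rw [← hc, ← Matrix.toLin'_apply, map_sum]
      apply Finset.sum_congr rfl
      intro i _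
      rw [Matrix.toLin'_apply, hsemi, (hEmem _).1 (hbE i.2)]
    have h2 : (y : Matrix ι ι F) *ᵥ v = ∑ i : ↥b, (c i) • (l • (i : ι → F)) := by
      rw [(hEmem v).1 hv, ← hc, Finset.smul_sum]
      apply Finset.sum_congr rfl
      intro i _
      rw [smul_comm]
    have h3 : ∑ i : ↥b, (σ (c i) - c i) • (i : ι → F) = 0 := by
      have h4 : l • ∑ i : ↥b, (σ (c i) - c i) • (i : ι → F) = 0 := by
        rw [Finset.smul_sum]
        have h5 : ∀ i : ↥b, l • ((σ (c i) - c i) • (i : ι → F)) =
            (σ (c i)) • (l • (i : ι → F)) - (c i) • (l • (i : ι → F)) := by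
          intro i
          rw [sub_smul, smul_sub, smul_comm l (σ (c i)), smul_comm l (c i)]
        rw [Finset.sum_congr rfl (fun i _ => h5 i), Finset.sum_sub_distrib, ← h1, ← h2, sub_self]
      rcases smul_eq_zero.1 h4 with h | h
      · exact absurd h hl
      · exact h
    have h4 := Fintype.linearIndependent_iff.1 hbli _ h3
    have h5 : ∀ i : ↥b, ∃ t : F, algebraMap F ↥K t = c i := by
      intro i
      apply fixed_eq_scalar hk hK σ hσ1
      exact sub_eq_zero.1 (h4 i)
    choose t ht using h5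
    rw [← hc]
    apply Submodule.sum_mem
    intro i _
    rw [← ht i, algebraMap_smul]
    exact Submodule.smul_mem _ _ (Submodule.subset_span ⟨i, rfl⟩)
  have h1 : finrank F ↥E ≤ Fintype.card ↥b :=
    le_trans (Submodule.finrank_mono hEle) (finrank_range_le_card _)
  have h2 : Fintype.card ↥b ≤ finrank ↥K (ι → F) := hbli.fintype_card_le_finrank
  have h3 := finrank_mul hK (K := K)
  calc k * finrank F ↥E ≤ k * finrank ↥K (ι → F) := Nat.mul_le_mul_left k (le_trans h1 h2)
    _ = Fintype.card ι := h3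

end semilinear

end Cfsg.Agent.Helper28.BGS
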