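import Mathlib
import Cfsg.Agent.Lib.Helper28.BGS4
import Cfsg.Agent.Lib.Helper28.SympIso
import Cfsg.Agent.Lib.Helper13.OrthSp2
import Cfsg.Agent.S0245

/-!
# The symplectic group over the field inside the normalizer of a field subalgebra
(helper28)
-/

set_option autoImplicit false
set_option linter.style.haveILetI false
set_option linter.unusedSectionVars false

namespace Cfsg.Agent.Helper28.BGS

open Matrix Module Polynomial Cfsg.Agent.Helper28.BGU Cfsg.Agent.Helper28.SympIso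
  Cfsg.Agent.Helper28.IsoGrp

section togl

variable {F : Type*} [Field F] {ι : Type} [Fintype ι] [DecidableEq ι]

/-- the invertible matrix of a linear automorphism -/
noncomputable def toGL : ((ι → F) ≃ₗ[F] (ι → F)) →* GL ι F where
  toFun g := ⟨LinearMap.toMatrix' (g : (ι → F) →ₗ[F] (ι → F)),
    LinearMap.toMatrix' (g.symm : (ι → F) →ₗ[F] (ι → F)),
    by rw [← LinearMap.toMatrix'_comp, LinearEquiv.comp_coe, LinearEquiv.symm_trans_self,
      LinearEquiv.refl_toLinearMap, LinearMap.toMatrix'_id],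
    by rw [← LinearMap.toMatrix'_comp, LinearEquiv.comp_coe, LinearEquiv.self_trans_symm,
      LinearEquiv.refl_toLinearMap, LinearMap.toMatrix'_id]⟩
  map_one' := by
    apply Units.ext
    show LinearMap.toMatrix' ((1 : (ι → F) ≃ₗ[F] (ι → F)) : (ι → F) →ₗ[F] (ι → F)) = 1
    exact LinearMap.toMatrix'_id
  map_mul' g h := by
    apply Units.ext
    show LinearMap.toMatrix' ((g * h : (ι → F) ≃ₗ[F] (ι → F)) : (ι → F) →ₗ[F] (ι → F)) =
      LinearMap.toMatrix' (g : (ι → F) →ₗ[F] (ι → F)) *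
        LinearMap.toMatrix' (h : (ι → F) →ₗ[F] (ι → F))
    rw [← LinearMap.toMatrix'_comp]
    rfl

theorem toGL_mulVec (g : (ι → F) ≃ₗ[F] (ι → F)) (v : ι → F) :
    (toGL g : Matrix ι ι F) *ᵥ v = g v := by
  show LinearMap.toMatrix' (g : (ι → F) →ₗ[F] (ι → F)) *ᵥ v = g v
  rw [← Matrix.toLin'_apply, Matrix.toLin'_toMatrix']
  rfl

theorem toGL_injective : Function.Injective (toGL (F := F) (ι := ι)) := by
  intro g h hgh
  apply LinearEquiv.ext
  intro v
  rw [← toGL_mulVec, ← toGL_mulVec, hgh]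

end togl

section embed

variable {F : Type*} [Field F] {ι : Type} [Fintype ι] [DecidableEq ι]
variable {K : Subalgebra F (Matrix ι ι F)} [IsFld K]

/-- restriction of scalars of automorphisms -/
def rsHom : ((ι → F) ≃ₗ[↥K] (ι → F)) →* ((ι → F) ≃ₗ[F] (ι → F)) where
  toFun g := g.restrictScalars F
  map_one' := rfl
  map_mul' _ _ := rfl

theorem rsHom_apply (g : (ι → F) ≃ₗ[↥K] (ι → F)) (v : ι → F) : rsHom g v = g v := rfl

/-- an invertible matrix centralizing the field normalizes it -/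
theorem mem_normalizer_of_comm (y : GL ι F)
    (h : ∀ a ∈ K, (y : Matrix ι ι F) * a = a * (y : Matrix ι ι F)) :
    y ∈ Cfsg.Geo.subalgebraNormalizer K := by
  rw [mem_subalgebraNormalizer_iff]
  intro a
  constructor
  · intro ha
    rw [h a ha, mul_assoc, gl_mul_inv, mul_one]
    exact ha
  · intro ha
    set a' := (y : Matrix ι ι F) * a * ((y⁻¹ : GL ι F) : Matrix ι ι F) with ha'
    have h1 : a = ((y⁻¹ : GL ι F) : Matrix ι ι F) * a' * (y : Matrix ι ι F) := by
      rw [ha']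
      calc a = (((y⁻¹ : GL ι F) : Matrix ι ι F) * (y : Matrix ι ι F)) * a *
          (((y⁻¹ : GL ι F) : Matrix ι ι F) * (y : Matrix ι ι F)) := by
            rw [gl_inv_mul, one_mul, mul_one]
        _ = _ := by simp only [mul_assoc]
    rw [h1, mul_assoc, ← h a' ha, ← mul_assoc, gl_inv_mul, one_mul]
    exact ha

end embed

section index

variable {F : Type*} [Field F] [Fintype F] {d : ℕ}
variable {K : Subalgebra F (Matrix (Fin d ⊕ Fin d) (Fin d ⊕ Fin d) F)}

/-- the form hypotheses for the standard symplectic form -/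
theorem saForm_sympBil (hKf : Cfsg.Geo.IsSelfAdjointFor (Cfsg.sympForm d F) K)
    (hKalt : ∀ a ∈ K, ∀ v : Fin d ⊕ Fin d → F, Cfsg.sympForm d F (a *ᵥ v) v = 0) :
    SAForm K (sympBil d F) := by
  refine ⟨?_, ?_, ?_⟩
  · intro a ha u v
    rw [sympBil_apply, sympBil_apply]
    exact hKf a ha u v
  · intro a ha v
    rw [sympBil_apply]
    exact hKalt a ha v
  · intro u hu
    exact (sympBil_nondegenerate (F := F) d).1 u hu

/-- the order of the symplectic group over the field divides the order of the normalizer -/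
theorem spOrder_dvd_card {q : ℕ} (hq : Fintype.card F = q) {k : ℕ} (hk : 1 ≤ k)
    (hK : Cfsg.Geo.IsFieldSubalgebra k K) (h : SAForm K (sympBil d F)) (m : ℕ)
    (hm : d = k * m) :
    (q ^ k) ^ (m ^ 2) * ∏ i ∈ Finset.range m, ((q ^ k) ^ (2 * (i + 1)) - 1) ∣
      Nat.card ↥(Cfsg.Geo.subalgebraNormalizer K ⊓ Cfsg.spGL d F) := by
  classical
  haveI := isFld_of hk hK
  haveI : FiniteDimensional ↥K (Fin d ⊕ Fin d → F) :=
    FiniteDimensional.right F ↥K (Fin d ⊕ Fin d → F)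
  haveI : Fintype ↥K := Fintype.ofFinite ↥K
  obtain ⟨φ, hφ⟩ := exists_functional (K := K)
  have hcardL : Fintype.card ↥K = q ^ k := by
    rw [Module.card_eq_pow_finrank (K := F) (V := ↥K), hq, hK.finrank_eq]
  have hdimL : finrank ↥K (Fin d ⊕ Fin d → F) = 2 * m := by
    have h1 := finrank_mul hK (K := K)
    rw [Fintype.card_sum, Fintype.card_fin] at h1
    have hk0 : 0 < k := hk
    apply Nat.eq_of_mul_eq_mul_left hk0
    rw [h1, hm]
    ring
  obtain ⟨e, he⟩ := exists_symp_equiv (BL h φ hφ) (BL_isAlt h φ hφ) (BL_nondegenerate h φ hφ) m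
    hdimL
  have hcard : Nat.card ↥(isoGrp (BL h φ hφ)) =
      (q ^ k) ^ (m ^ 2) * ∏ i ∈ Finset.range m, ((q ^ k) ^ (2 * (i + 1)) - 1) := by
    rw [← Cfsg.Agent.S0245.result hcardL m]
    exact Nat.card_congr ((isoGrpCongr e he).trans (sympMulEquiv m).symm).toEquiv
  set Θ : ↥(isoGrp (BL h φ hφ)) →* GL (Fin d ⊕ Fin d) F :=
    (toGL.comp rsHom).comp (isoGrp (BL h φ hφ)).subtype with hΘ
  have hΘv : ∀ (g : ↥(isoGrp (BL h φ hφ))) (v : Fin d ⊕ Fin d → F),
      (Θ g : Matrix (Fin d ⊕ Fin d) (Fin d ⊕ Fin d) F) *ᵥ v =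
        (g : (Fin d ⊕ Fin d → F) ≃ₗ[↥K] (Fin d ⊕ Fin d → F)) v := by
    intro g v
    rw [hΘ]
    show (toGL (rsHom (g : (Fin d ⊕ Fin d → F) ≃ₗ[↥K] (Fin d ⊕ Fin d → F))) :
      Matrix (Fin d ⊕ Fin d) (Fin d ⊕ Fin d) F) *ᵥ v = _
    rw [toGL_mulVec, rsHom_apply]
  have hinj : Function.Injective Θ := by
    intro g g' hgg
    apply Subtype.ext
    apply LinearEquiv.ext
    intro v
    rw [← hΘv, ← hΘv, hgg]
  have hle : Θ.range ≤ Cfsg.Geo.subalgebraNormalizer K ⊓ Cfsg.spGL d F := by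
    rintro _ ⟨g, rfl⟩
    rw [Subgroup.mem_inf]
    constructor
    · apply mem_normalizer_of_comm
      intro a ha
      apply matrix_eq_of_mulVec
      intro v
      rw [← Matrix.mulVec_mulVec, ← Matrix.mulVec_mulVec, hΘv, hΘv]
      exact (g : (Fin d ⊕ Fin d → F) ≃ₗ[↥K] (Fin d ⊕ Fin d → F)).map_smul ⟨a, ha⟩ v
    · rw [mem_spGL_iff]
      intro u v
      rw [hΘv, hΘv, ← phi_BL h φ hφ, ← phi_BL h φ hφ u v, (mem_isoGrp.1 g.2)]
  have hcardR : Nat.card Θ.range =
      (q ^ k) ^ (m ^ 2) * ∏ i ∈ Finset.range m, ((q ^ k) ^ (2 * (i + 1)) - 1) := by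
    rw [← hcard]
    exact (Nat.card_congr (MonoidHom.ofInjective hinj).toEquiv).symm
  rw [← hcardR]
  exact Subgroup.card_dvd_of_le hle

end index

end Cfsg.Agent.Helper28.BGS
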