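import Mathlib
import Cfsg.Agent.Lib.Helper28.BGS5

/-!
# Primes dividing the index of the normalizer of a field subalgebra in the symplectic group
(helper28)
-/

set_option autoImplicit false
set_option linter.style.haveILetI false
set_option linter.unusedSectionVars false

namespace Cfsg.Agent.Helper28.BGS

open Matrix Module Polynomial Cfsg.Agent.Helper28.BGU Cfsg.Agent.Helper28.SympIso
  Cfsg.Agent.Helper28.IsoGrp

section arith

theorem filter_dvd_eq_image (k m : ℕ) (hk : 1 ≤ k) :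
    (Finset.range (k * m)).filter (fun i => k ∣ i + 1) =
      (Finset.range m).image (fun j => k * (j + 1) - 1) := by
  ext i
  rw [Finset.mem_filter, Finset.mem_range, Finset.mem_image]
  constructor
  · rintro ⟨hi, t, ht⟩
    have ht1 : 1 ≤ t := by
      rcases Nat.eq_zero_or_pos t with h | h
      · rw [h, mul_zero] at ht
        omega
      · exact h
    refine ⟨t - 1, ?_, ?_⟩
    · rw [Finset.mem_range]
      have h1 : k * t ≤ k * m := by omega
      have h2 : t ≤ m := Nat.le_of_mul_le_mul_left h1 hk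
      omega
    · have : t - 1 + 1 = t := by omega
      rw [this, ← ht]
      omega
  · rintro ⟨j, hj, rfl⟩
    rw [Finset.mem_range] at hj
    have h1 : k * (j + 1) ≤ k * m := Nat.mul_le_mul_left k (by omega)
    have h2 : 1 ≤ k * (j + 1) := Nat.mul_pos hk (by omega)
    constructor
    · omega
    · refine ⟨j + 1, ?_⟩
      omega

theorem prod_filter_dvd (k m : ℕ) (hk : 1 ≤ k) (f : ℕ → ℕ) :
    ∏ i ∈ (Finset.range (k * m)).filter (fun i => k ∣ i + 1), f (i + 1) =
      ∏ j ∈ Finset.range m, f (k * (j + 1)) := by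
  rw [filter_dvd_eq_image k m hk, Finset.prod_image]
  · apply Finset.prod_congr rfl
    intro j _
    have h2 : 1 ≤ k * (j + 1) := Nat.mul_pos hk (by omega)
    congr 1
    omega
  · intro j _ j' _ hjj
    have h2 : 1 ≤ k * (j + 1) := Nat.mul_pos hk (by omega)
    have h3 : 1 ≤ k * (j' + 1) := Nat.mul_pos hk (by omega)
    have h4 : k * (j + 1) = k * (j' + 1) := by
      simp only at hjj
      omega
    have := Nat.eq_of_mul_eq_mul_left hk h4
    omega

/-- splitting the order of the symplectic group -/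
theorem sp_order_split (q k m : ℕ) (hk : 1 ≤ k) :
    q ^ ((k * m) ^ 2) * ∏ i ∈ Finset.range (k * m), (q ^ (2 * (i + 1)) - 1) =
      ((q ^ k) ^ (m ^ 2) * ∏ i ∈ Finset.range m, ((q ^ k) ^ (2 * (i + 1)) - 1)) *
        (q ^ ((k * m) ^ 2 - k * m ^ 2) *
          ∏ i ∈ (Finset.range (k * m)).filter (fun i => ¬ k ∣ i + 1), (q ^ (2 * (i + 1)) - 1)) := by
  have h1 : (k * m) ^ 2 = k * m ^ 2 + ((k * m) ^ 2 - k * m ^ 2) := by
    have : k * m ^ 2 ≤ (k * m) ^ 2 := by
      rw [mul_pow]
      exact Nat.mul_le_mul_right _ (Nat.le_self_pow (by omega) k)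
    omega
  have h2 := Finset.prod_filter_mul_prod_filter_not (Finset.range (k * m))
    (fun i => k ∣ i + 1) (fun i => q ^ (2 * (i + 1)) - 1)
  have h3 := prod_filter_dvd k m hk (fun j => q ^ (2 * j) - 1)
  have h4 : ∏ j ∈ Finset.range m, (q ^ (2 * (k * (j + 1))) - 1) =
      ∏ i ∈ Finset.range m, ((q ^ k) ^ (2 * (i + 1)) - 1) := by
    apply Finset.prod_congr rfl
    intro j _
    rw [← pow_mul]
    congr 2
    ring
  rw [h4] at h3
  rw [← h2, h3]
  nth_rewrite 1 [h1]
  rw [pow_add, ← pow_mul]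
  ring

end arith

section index

variable {F : Type*} [Field F] [Fintype F] {d : ℕ}
variable {K : Subalgebra F (Matrix (Fin d ⊕ Fin d) (Fin d ⊕ Fin d) F)}

/-- the degree divides half the dimension -/
theorem degree_dvd {k : ℕ} (hk : 1 ≤ k) (hK : Cfsg.Geo.IsFieldSubalgebra k K)
    (h : SAForm K (sympBil d F)) : k ∣ d := by
  have h1 := two_mul_dvd_card hk hK h
  rw [Fintype.card_sum, Fintype.card_fin, ← two_mul] at h1
  exact Nat.dvd_of_mul_dvd_mul_left (by norm_num) h1

/-- primes dividing the index of the normalizer -/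
theorem prime_dvd_relIndex {q : ℕ} (hq : Fintype.card F = q) {k : ℕ} (hk : 1 ≤ k)
    (hK : Cfsg.Geo.IsFieldSubalgebra k K) (h : SAForm K (sympBil d F)) (r : ℕ) (hr : r.Prime)
    (hΩ : r ∣ (Cfsg.Geo.subalgebraNormalizer K).relIndex (Cfsg.spGL d F)) :
    r ∣ q ∨ ∃ j, 1 ≤ j ∧ j ≤ d ∧ ¬ k ∣ j ∧ r ∣ q ^ (2 * j) - 1 := by
  obtain ⟨m, hm⟩ := degree_dvd hk hK h
  obtain ⟨t, ht⟩ := spOrder_dvd_card hq hk hK h m hm
  have h1 : Nat.card ↥(Cfsg.Geo.subalgebraNormalizer K ⊓ Cfsg.spGL d F) *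
      (Cfsg.Geo.subalgebraNormalizer K).relIndex (Cfsg.spGL d F) = Nat.card (Cfsg.spGL d F) := by
    rw [← Subgroup.inf_relIndex_right,
      ← Subgroup.relIndex_bot_left (H := Cfsg.Geo.subalgebraNormalizer K ⊓ Cfsg.spGL d F),
      Subgroup.relIndex_mul_relIndex _ _ _ bot_le inf_le_right, Subgroup.relIndex_bot_left]
  rw [Cfsg.Agent.Helper13.OrthSp.card_spGL, Cfsg.Agent.S0245.result hq d, ht] at h1
  have hq2 : 2 ≤ q := by
    rw [← hq]
    exact Fintype.one_lt_card
  set R := (Cfsg.Geo.subalgebraNormalizer K).relIndex (Cfsg.spGL d F) with hR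
  set A := (q ^ k) ^ (m ^ 2) * ∏ i ∈ Finset.range m, ((q ^ k) ^ (2 * (i + 1)) - 1) with hA
  have hApos : 0 < A := by
    apply Nat.mul_pos
    · exact pow_pos (pow_pos (by omega) _) _
    · apply Finset.prod_pos
      intro i _
      have h3 : 2 ≤ q ^ k := by
        calc 2 ≤ q := hq2
          _ = q ^ 1 := (pow_one q).symm
          _ ≤ q ^ k := Nat.pow_le_pow_right (by omega) hk
      have : 2 ≤ (q ^ k) ^ (2 * (i + 1)) := by
        calc 2 ≤ q ^ k := h3
          _ = (q ^ k) ^ 1 := (pow_one _).symm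
          _ ≤ (q ^ k) ^ (2 * (i + 1)) := Nat.pow_le_pow_right (by omega) (by omega)
      omega
  have h2 := sp_order_split q k m hk
  rw [← hm, ← hA] at h2
  rw [h2, mul_assoc] at h1
  have h3 := Nat.eq_of_mul_eq_mul_left hApos h1
  have h4 : r ∣ q ^ (d ^ 2 - k * m ^ 2) *
      ∏ i ∈ (Finset.range d).filter (fun i => ¬ k ∣ i + 1), (q ^ (2 * (i + 1)) - 1) := by
    rw [← h3]
    exact Dvd.dvd.mul_left hΩ _
  rcases hr.dvd_mul.1 h4 with h5 | h5
  · left
    exact hr.dvd_of_dvd_pow h5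
  · right
    obtain ⟨i, hi, hdvd⟩ := (Prime.dvd_finset_prod_iff hr.prime _).1 h5
    rw [Finset.mem_filter, Finset.mem_range] at hi
    exact ⟨i + 1, by omega, by omega, hi.2, hdvd⟩

end index

end Cfsg.Agent.Helper28.BGS
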