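import Mathlib
import Cfsg.Agent.Lib.Helper28.BGS6

/-!
# Consequences of being conjugate into the normalizer of a field subalgebra
(helper28)
-/

set_option autoImplicit false
set_option linter.style.haveILetI false
set_option linter.unusedSectionVars false

namespace Cfsg.Agent.Helper28.BGS

open Matrix Module Polynomial Cfsg.Agent.Helper28.BGU Cfsg.Agent.Helper28.SympIso
  Cfsg.Agent.Helper28.IsoGrp Cfsg.Agent.Helper13.SS

section transport

variable {F : Type*} [Field F] {ι : Type} [Fintype ι] [DecidableEq ι]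

/-- the linear automorphism of an invertible matrix -/
noncomputable def glEquiv (g : GL ι F) : (ι → F) ≃ₗ[F] (ι → F) :=
  Matrix.toLin'OfInv (gl_inv_mul g) (gl_mul_inv g)

theorem glEquiv_apply (g : GL ι F) (v : ι → F) : glEquiv g v = (g : Matrix ι ι F) *ᵥ v := by
  show Matrix.toLin' (g : Matrix ι ι F) v = _
  rw [Matrix.toLin'_apply]

theorem glEquiv_symm_apply (g : GL ι F) (v : ι → F) :
    (glEquiv g).symm v = ((g⁻¹ : GL ι F) : Matrix ι ι F) *ᵥ v := by
  show Matrix.toLin' ((g⁻¹ : GL ι F) : Matrix ι ι F) v = _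
  rw [Matrix.toLin'_apply]

theorem conj_val (x g : GL ι F) : ((g⁻¹ * x * g : GL ι F) : Matrix ι ι F) =
    ((g⁻¹ : GL ι F) : Matrix ι ι F) * (x : Matrix ι ι F) * (g : Matrix ι ι F) := by
  rw [Units.val_mul, Units.val_mul]

/-- the dimensions of kernels are invariant under conjugation -/
theorem kdim_conj (x g : GL ι F) (P : F[X]) :
    kdim (Matrix.toLin' ((g⁻¹ * x * g : GL ι F) : Matrix ι ι F)) P =
      kdim (Matrix.toLin' (x : Matrix ι ι F)) P := by
  apply kdim_eq_of_equiv (glEquiv g)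
  intro v
  rw [glEquiv_apply, glEquiv_apply, Matrix.toLin'_apply, Matrix.toLin'_apply, conj_val,
    Matrix.mulVec_mulVec, Matrix.mulVec_mulVec]
  congr 1
  calc (g : Matrix ι ι F) * (((g⁻¹ : GL ι F) : Matrix ι ι F) * (x : Matrix ι ι F) *
      (g : Matrix ι ι F)) = ((g : Matrix ι ι F) * ((g⁻¹ : GL ι F) : Matrix ι ι F)) *
        (x : Matrix ι ι F) * (g : Matrix ι ι F) := by simp only [mul_assoc]
    _ = (x : Matrix ι ι F) * (g : Matrix ι ι F) := by rw [gl_mul_inv, one_mul]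

/-- the kernel of a polynomial in a conjugate -/
theorem mem_ker_conj (x g : GL ι F) (P : F[X]) (v : ι → F) :
    v ∈ LinearMap.ker (aeval (Matrix.toLin' ((g⁻¹ * x * g : GL ι F) : Matrix ι ι F)) P) ↔
      (g : Matrix ι ι F) *ᵥ v ∈ LinearMap.ker (aeval (Matrix.toLin' (x : Matrix ι ι F)) P) := by
  rw [LinearMap.mem_ker, LinearMap.mem_ker]
  have h1 := aeval_intertwine ((glEquiv g : (ι → F) ≃ₗ[F] (ι → F)) : (ι → F) →ₗ[F] (ι → F))
    (Matrix.toLin' ((g⁻¹ * x * g : GL ι F) : Matrix ι ι F)) (Matrix.toLin' (x : Matrix ι ι F))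
    (by
      intro v
      rw [LinearEquiv.coe_coe, glEquiv_apply, glEquiv_apply, Matrix.toLin'_apply,
        Matrix.toLin'_apply, conj_val, Matrix.mulVec_mulVec, Matrix.mulVec_mulVec]
      congr 1
      calc (g : Matrix ι ι F) * (((g⁻¹ : GL ι F) : Matrix ι ι F) * (x : Matrix ι ι F) *
          (g : Matrix ι ι F)) = ((g : Matrix ι ι F) * ((g⁻¹ : GL ι F) : Matrix ι ι F)) *
            (x : Matrix ι ι F) * (g : Matrix ι ι F) := by simp only [mul_assoc]
        _ = (x : Matrix ι ι F) * (g : Matrix ι ι F) := by rw [gl_mul_inv, one_mul]) P v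
  rw [LinearEquiv.coe_coe, glEquiv_apply, glEquiv_apply] at h1
  rw [← h1]
  constructor
  · intro h
    rw [h, Matrix.mulVec_zero]
  · intro h
    have h2 : ((g⁻¹ : GL ι F) : Matrix ι ι F) *ᵥ ((g : Matrix ι ι F) *ᵥ
        (aeval (Matrix.toLin' ((g⁻¹ * x * g : GL ι F) : Matrix ι ι F)) P) v) =
        (aeval (Matrix.toLin' ((g⁻¹ * x * g : GL ι F) : Matrix ι ι F)) P) v := by
      rw [Matrix.mulVec_mulVec, gl_inv_mul, Matrix.one_mulVec]
    rw [← h2, h, Matrix.mulVec_zero]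

theorem kdim_X_sub_C (Y : Matrix ι ι F) (l : F) :
    kdim (Matrix.toLin' Y) (X - C l) =
      finrank F (LinearMap.ker (Matrix.toLin' Y - l • 1)) := by
  unfold kdim
  rw [map_sub, aeval_X, aeval_C, Algebra.algebraMap_eq_smul_one]

end transport

section cases

variable {F : Type*} [Field F] [Fintype F] {d : ℕ}
variable {K : Subalgebra F (Matrix (Fin d ⊕ Fin d) (Fin d ⊕ Fin d) F)}

/-- non-degeneracy of the form on a subspace -/
def NondegOn' (W : Submodule F (Fin d ⊕ Fin d → F)) : Prop :=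
  ∀ u ∈ W, (∀ w ∈ W, sympBil d F u w = 0) → u = 0

/-- consequences of being conjugate into the normalizer of the field subalgebra -/
theorem conj_cases {k : ℕ} (hk : k.Prime) (hK : Cfsg.Geo.IsFieldSubalgebra k K)
    (h : SAForm K (sympBil d F)) (x g : GL (Fin d ⊕ Fin d) F) (hg : g ∈ Cfsg.spGL d F)
    (hy : g⁻¹ * x * g ∈ Cfsg.Geo.subalgebraNormalizer K) :
    (∀ P : F[X], k ∣ kdim (Matrix.toLin' (x : Matrix (Fin d ⊕ Fin d) (Fin d ⊕ Fin d) F)) P ∧
      (NondegOn' (LinearMap.ker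
          (aeval (Matrix.toLin' (x : Matrix (Fin d ⊕ Fin d) (Fin d ⊕ Fin d) F)) P)) →
        2 * k ∣ kdim (Matrix.toLin' (x : Matrix (Fin d ⊕ Fin d) (Fin d ⊕ Fin d) F)) P)) ∨
    ((∀ l : F, k * kdim (Matrix.toLin' (x : Matrix (Fin d ⊕ Fin d) (Fin d ⊕ Fin d) F))
        (X - C l) ≤ 2 * d) ∧
      ∀ (r : ℕ) (z : F), r.Prime →
        ((x ^ r : GL (Fin d ⊕ Fin d) F) : Matrix (Fin d ⊕ Fin d) (Fin d ⊕ Fin d) F) =
          z • (1 : Matrix (Fin d ⊕ Fin d) (Fin d ⊕ Fin d) F) → k = r) := by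
  set y : GL (Fin d ⊕ Fin d) F := g⁻¹ * x * g with hydef
  by_cases hcomm : ∀ a ∈ K, (y : Matrix (Fin d ⊕ Fin d) (Fin d ⊕ Fin d) F) * a =
      a * (y : Matrix (Fin d ⊕ Fin d) (Fin d ⊕ Fin d) F)
  · left
    intro P
    rw [← kdim_conj x g P]
    refine ⟨dvd_kdim_of_comm hk.one_le hK _ hcomm P, ?_⟩
    intro hnd
    apply two_mul_dvd_finrank_of_stable hk.one_le hK h _ (ker_aeval_stable _ hcomm P)
    intro u hu hu0
    have hgu := (mem_ker_conj x g P u).1 hu
    have h1 := hnd _ hgu (by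
      intro w hw
      have hw' : ((g⁻¹ : GL (Fin d ⊕ Fin d) F) : Matrix (Fin d ⊕ Fin d) (Fin d ⊕ Fin d) F) *ᵥ w ∈
          LinearMap.ker (aeval (Matrix.toLin'
            ((g⁻¹ * x * g : GL (Fin d ⊕ Fin d) F) :
              Matrix (Fin d ⊕ Fin d) (Fin d ⊕ Fin d) F)) P) := by
        rw [mem_ker_conj, Matrix.mulVec_mulVec, gl_mul_inv, Matrix.one_mulVec]
        exact hw
      have h2 := hu0 _ hw'
      rw [← spGL_apply hg, Matrix.mulVec_mulVec, gl_mul_inv, Matrix.one_mulVec] at h2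
      exact h2)
    have h3 : ((g⁻¹ : GL (Fin d ⊕ Fin d) F) : Matrix (Fin d ⊕ Fin d) (Fin d ⊕ Fin d) F) *ᵥ
        ((g : Matrix (Fin d ⊕ Fin d) (Fin d ⊕ Fin d) F) *ᵥ u) = u := by
      rw [Matrix.mulVec_mulVec, gl_inv_mul, Matrix.one_mulVec]
    rw [← h3, h1, Matrix.mulVec_zero]
  · right
    constructor
    · intro l
      rw [← kdim_conj x g (X - C l), kdim_X_sub_C]
      have := finrank_eigen_le hk hK y hy hcomm l
      rw [Fintype.card_sum, Fintype.card_fin] at this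
      calc _ ≤ d + d := this
        _ = 2 * d := by ring
    · intro r z hr hz
      haveI := isFld_of hk.one_le hK
      have hσ1 : conjAut y hy ≠ 1 := fun h1 => hcomm ((conjAut_eq_one_iff y hy).1 h1)
      apply degree_eq_of_aut hk hK (conjAut y hy) hσ1 r hr
      apply conjAut_pow_eq_one y hy r z
      have h1 : y ^ r = g⁻¹ * x ^ r * g := by
        have h2 := conj_pow (a := g⁻¹) (b := x) (i := r)
        rwa [inv_inv] at h2
      rw [h1, Units.val_mul, Units.val_mul, hz, mul_smul_comm, mul_one, smul_mul_assoc,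
        gl_inv_mul]

end cases

end Cfsg.Agent.Helper28.BGS
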