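import Mathlib
import Cfsg.Prelude.Def_ClassicalGeometry

set_option autoImplicit false

namespace Cfsg.Agent.Helper28

open Matrix Cfsg

section

variable {F : Type*} [Field F] {n k : ℕ}

/-- The subspace of vectors supported on the first `k` coordinates. -/
abbrev firstCoords (F : Type*) [Field F] (n k : ℕ) : Set (Fin n → F) :=
  {v : Fin n → F | ∀ i : Fin n, k ≤ (i : ℕ) → v i = 0}

/-- The splitting of the index set. -/
def splitEquiv (hk : k ≤ n) : Fin k ⊕ Fin (n - k) ≃ Fin n :=
  finSumFinEquiv.trans (finCongr (by omega))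

theorem splitEquiv_inl_val (hk : k ≤ n) (a : Fin k) : ((splitEquiv hk (Sum.inl a) : Fin n) : ℕ) = a := by
  simp [splitEquiv]

theorem splitEquiv_inr_val (hk : k ≤ n) (b : Fin (n - k)) :
    ((splitEquiv hk (Sum.inr b) : Fin n) : ℕ) = k + b := by
  simp [splitEquiv]

theorem exists_inl_of_lt (hk : k ≤ n) (i : Fin n) (hi : (i : ℕ) < k) :
    ∃ a : Fin k, splitEquiv hk (Sum.inl a) = i := by
  obtain ⟨s, rfl⟩ := (splitEquiv hk).surjective i
  cases s with
  | inl a => exact ⟨a, rfl⟩
  | inr b =>
    rw [splitEquiv_inr_val] at hi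
    omega

theorem exists_inr_of_le (hk : k ≤ n) (i : Fin n) (hi : k ≤ (i : ℕ)) :
    ∃ b : Fin (n - k), splitEquiv hk (Sum.inr b) = i := by
  obtain ⟨s, rfl⟩ := (splitEquiv hk).surjective i
  cases s with
  | inl a =>
    rw [splitEquiv_inl_val] at hi
    have := a.2
    omega
  | inr b => exact ⟨b, rfl⟩

/-- The lower-left block of the matrix vanishes. -/
def LowerLeftZero (k : ℕ) (M : Matrix (Fin n) (Fin n) F) : Prop :=
  ∀ i j : Fin n, k ≤ (i : ℕ) → (j : ℕ) < k → M i j = 0

theorem lowerLeftZero_inv (g : GL (Fin n) F) (h : LowerLeftZero k (g : Matrix (Fin n) (Fin n) F)) :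
    LowerLeftZero k ((g⁻¹ : GL (Fin n) F) : Matrix (Fin n) (Fin n) F) := by
  set b : Fin n → ℕ := fun i => if (i : ℕ) < k then 0 else 1 with hb
  have hbt : BlockTriangular (g : Matrix (Fin n) (Fin n) F) b := by
    intro i j hij
    simp only [hb] at hij
    split_ifs at hij with h1 h2 h2
    · exact absurd hij (lt_irrefl _)
    · exact h i j (not_lt.mp h2) h1
    · exact absurd hij (by norm_num)
    · exact absurd hij (lt_irrefl _)
  have : Invertible (g : Matrix (Fin n) (Fin n) F) := g.invertible
  have hinv := blockTriangular_inv_of_blockTriangular hbt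
  rw [Matrix.coe_units_inv]
  intro i j hi hj
  apply hinv
  simp only [hb]
  rw [if_pos hj, if_neg (not_lt.mpr hi)]
  norm_num

theorem mulVec_mem_firstCoords (M : Matrix (Fin n) (Fin n) F) (h : LowerLeftZero k M) (v : Fin n → F)
    (hv : v ∈ firstCoords F n k) : M *ᵥ v ∈ firstCoords F n k := by
  intro i hi
  rw [Matrix.mulVec, dotProduct]
  apply Finset.sum_eq_zero
  intro j _
  by_cases hj : (j : ℕ) < k
  · rw [h i j hi hj, zero_mul]
  · rw [hv j (not_lt.mp hj), mul_zero]

/-- Membership in the parabolic subgroup. -/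
theorem mem_parabolic_iff (g : GL (Fin n) F) :
    g ∈ stabilizing (glToMat (Fin n) F) (firstCoords F n k) ↔
      LowerLeftZero k (g : Matrix (Fin n) (Fin n) F) := by
  constructor
  · intro hg i j hi hj
    have hmem : (Pi.single j (1 : F) : Fin n → F) ∈ firstCoords F n k := by
      intro l hl
      have : l ≠ j := by
        intro h; rw [h] at hl; omega
      rw [Pi.single_apply, if_neg this]
    have := (hg _).mp hmem i hi
    simpa [glToMat] using this
  · intro h v
    constructor
    · exact mulVec_mem_firstCoords _ h v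
    · intro hv
      have h2 := mulVec_mem_firstCoords _ (lowerLeftZero_inv g h) _ hv
      have h3 : ((g⁻¹ : GL (Fin n) F) : Matrix (Fin n) (Fin n) F) *ᵥ (glToMat (Fin n) F g *ᵥ v) = v := by
        rw [Matrix.mulVec_mulVec]
        show (((g⁻¹ : GL (Fin n) F) : Matrix (Fin n) (Fin n) F) * (g : Matrix (Fin n) (Fin n) F)) *ᵥ v = v
        rw [← Units.val_mul, inv_mul_cancel, Units.val_one, Matrix.one_mulVec]
      rwa [h3] at h2

end

end Cfsg.Agent.Helper28
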