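import Mathlib
import Cfsg.Prelude.Def_ClassicalGeometry
import Cfsg.Agent.Lib.Helper28.Parabolic

set_option autoImplicit false

namespace Cfsg.Agent.Helper28

open Matrix Cfsg
open scoped Classical

section

variable {F : Type*} [Field F] {n : ℕ}

theorem vecMulVec_sq_eq_zero (u l : Fin n → F) (h : l ⬝ᵥ u = 0) :
    vecMulVec u l * vecMulVec u l = 0 := by
  rw [vecMulVec_mul_vecMulVec, h, zero_smul, vecMulVec_zero]

/-- The general transvection `x ↦ x + (l ⬝ x) u` as an element of `GL`; the identity when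
`l ⬝ u ≠ 0`. -/
noncomputable def tv (u l : Fin n → F) : GL (Fin n) F :=
  if h : l ⬝ᵥ u = 0 then
    ⟨1 + vecMulVec u l, 1 - vecMulVec u l,
      by
        have hA := vecMulVec_sq_eq_zero u l h
        calc (1 + vecMulVec u l) * (1 - vecMulVec u l) = 1 - vecMulVec u l * vecMulVec u l := by
              noncomm_ring
          _ = 1 := by rw [hA, sub_zero],
      by
        have hA := vecMulVec_sq_eq_zero u l h
        calc (1 - vecMulVec u l) * (1 + vecMulVec u l) = 1 - vecMulVec u l * vecMulVec u l := by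
              noncomm_ring
          _ = 1 := by rw [hA, sub_zero]⟩
  else 1

theorem tv_val (u l : Fin n → F) (h : l ⬝ᵥ u = 0) :
    ((tv u l : GL (Fin n) F) : Matrix (Fin n) (Fin n) F) = 1 + vecMulVec u l := by
  unfold tv
  rw [dif_pos h]

theorem conj_tv (g : GL (Fin n) F) (u l u' l' : Fin n → F) (h : l ⬝ᵥ u = 0)
    (hu : u' = (g : Matrix (Fin n) (Fin n) F) *ᵥ u) (hl : l' ᵥ* (g : Matrix (Fin n) (Fin n) F) = l) :
    l' ⬝ᵥ u' = 0 ∧ g * tv u l * g⁻¹ = tv u' l' := by
  have h' : l' ⬝ᵥ u' = 0 := by rw [hu, Matrix.dotProduct_mulVec, hl, h]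
  refine ⟨h', ?_⟩
  rw [mul_inv_eq_iff_eq_mul]
  apply Units.ext
  rw [Units.val_mul, Units.val_mul, tv_val _ _ h, tv_val _ _ h', mul_add, add_mul, mul_one, one_mul,
    mul_vecMulVec, vecMulVec_mul, ← hu, hl]

theorem tv_smul_left (c : F) (u l : Fin n → F) (h : l ⬝ᵥ u = 0) : tv (c • u) l = tv u (c • l) := by
  have h1 : l ⬝ᵥ (c • u) = 0 := by rw [dotProduct_smul, h, smul_zero]
  have h2 : (c • l) ⬝ᵥ u = 0 := by rw [smul_dotProduct, h, smul_zero]
  apply Units.ext
  rw [tv_val _ _ h1, tv_val _ _ h2, smul_vecMulVec, vecMulVec_smul]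

theorem tv_mem_of_center (k : ℕ) (u l : Fin n → F) (hu : u ∈ firstCoords F n k) :
    tv u l ∈ stabilizing (glToMat (Fin n) F) (firstCoords F n k) := by
  by_cases h : l ⬝ᵥ u = 0
  · rw [mem_parabolic_iff, tv_val _ _ h]
    intro i j hi hj
    have hij : i ≠ j := by
      intro h1; rw [h1] at hi; omega
    rw [Matrix.add_apply, Matrix.one_apply_ne hij, vecMulVec_apply, hu i hi, zero_mul, add_zero]
  · unfold tv
    rw [dif_neg h]
    exact one_mem _

theorem tv_mem_of_axis (k : ℕ) (u l : Fin n → F) (hl : ∀ j : Fin n, (j : ℕ) < k → l j = 0) :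
    tv u l ∈ stabilizing (glToMat (Fin n) F) (firstCoords F n k) := by
  by_cases h : l ⬝ᵥ u = 0
  · rw [mem_parabolic_iff, tv_val _ _ h]
    intro i j hi hj
    have hij : i ≠ j := by
      intro h1; rw [h1] at hi; omega
    rw [Matrix.add_apply, Matrix.one_apply_ne hij, vecMulVec_apply, hl j hj, mul_zero, add_zero]
  · unfold tv
    rw [dif_neg h]
    exact one_mem _

theorem tv_mulVec (u l x : Fin n → F) (h : l ⬝ᵥ u = 0) :
    ((tv u l : GL (Fin n) F) : Matrix (Fin n) (Fin n) F) *ᵥ x = x + (l ⬝ᵥ x) • u := by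
  rw [tv_val _ _ h, Matrix.add_mulVec, Matrix.one_mulVec, vecMulVec_mulVec, op_smul_eq_smul]

theorem vecMul_tv (u l y : Fin n → F) (h : l ⬝ᵥ u = 0) :
    y ᵥ* ((tv u l : GL (Fin n) F) : Matrix (Fin n) (Fin n) F) = y + (y ⬝ᵥ u) • l := by
  rw [tv_val _ _ h, Matrix.vecMul_add, Matrix.vecMul_one, vecMul_vecMulVec]

/-- `Good H u l`: all transvections with centre `u` and axis a multiple of `l` lie in `H`. -/
def Good (H : Subgroup (GL (Fin n) F)) (u l : Fin n → F) : Prop := ∀ s : F, tv u (s • l) ∈ H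

theorem good_conj (H : Subgroup (GL (Fin n) F)) (p : GL (Fin n) F) (hp : p ∈ H) (u l u' l' : Fin n → F)
    (h : l ⬝ᵥ u = 0) (hg : Good H u l)
    (hu : u' = (p : Matrix (Fin n) (Fin n) F) *ᵥ u) (hl : l' ᵥ* (p : Matrix (Fin n) (Fin n) F) = l) :
    l' ⬝ᵥ u' = 0 ∧ Good H u' l' := by
  refine ⟨(conj_tv p u l u' l' h hu hl).1, ?_⟩
  intro s
  have hs : (s • l) ⬝ᵥ u = 0 := by rw [smul_dotProduct, h, smul_zero]
  have hls : (s • l') ᵥ* (p : Matrix (Fin n) (Fin n) F) = s • l := by rw [Matrix.smul_vecMul, hl]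
  rw [← (conj_tv p u (s • l) u' (s • l') hs hu hls).2]
  exact H.mul_mem (H.mul_mem hp (hg s)) (H.inv_mem hp)

theorem good_smul_left (H : Subgroup (GL (Fin n) F)) (c : F) (u l : Fin n → F) (h : l ⬝ᵥ u = 0)
    (hg : Good H (c • u) l) : Good H u (c • l) := by
  intro s
  have hs : (s • l) ⬝ᵥ u = 0 := by rw [smul_dotProduct, h, smul_zero]
  have := hg s
  rwa [tv_smul_left c u (s • l) hs, smul_comm] at this

theorem good_of_smul (H : Subgroup (GL (Fin n) F)) (d : F) (hd : d ≠ 0) (u l : Fin n → F)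
    (hg : Good H u (d • l)) : Good H u l := by
  intro s
  have := hg (s * d⁻¹)
  rwa [smul_smul, mul_assoc, inv_mul_cancel₀ hd, mul_one] at this

end

end Cfsg.Agent.Helper28
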