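import Mathlib
import Cfsg.Prelude.Def_GeometricClasses

set_option autoImplicit false

namespace Cfsg.Agent.Helper28

open scoped Matrix

variable {ι : Type} [Fintype ι] [DecidableEq ι] {F : Type*} [Field F]

/-- A transvection `x ↦ x + φ x • v` with `φ` vanishing on a subspace `M` containing `v`, and `φ u = 1`
for a prescribed `u ∉ M`, realised as an element of `GL ι F` of determinant one. -/
theorem exists_transvection (M : Submodule F (ι → F)) (u v : ι → F) (hv : v ∈ M) (hu : u ∉ M) :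
    ∃ (g : GL ι F) (φ : (ι → F) →ₗ[F] F), Matrix.GeneralLinearGroup.det g = 1 ∧
      (∀ x ∈ M, φ x = 0) ∧ φ u = 1 ∧ ∀ x, (g : Matrix ι ι F) *ᵥ x = x + φ x • v := by
  obtain ⟨f, hfu, hfM⟩ := Submodule.exists_dual_map_eq_bot_of_notMem hu inferInstance
  set φ : (ι → F) →ₗ[F] F := (f u)⁻¹ • f with hφ
  have hφM : ∀ x ∈ M, φ x = 0 := by
    intro x hx
    have : f x ∈ M.map f := Submodule.mem_map_of_mem hx
    rw [hfM, Submodule.mem_bot] at this
    simp [hφ, this]
  have hφu : φ u = 1 := by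
    simp [hφ, hfu]
  set c : ι → F := fun i => φ (fun j => if i = j then 1 else 0) with hc
  have hcφ : ∀ x, c ⬝ᵥ x = φ x := by
    intro x
    rw [LinearMap.pi_apply_eq_sum_univ φ x, dotProduct]
    apply Finset.sum_congr rfl
    intro i _
    rw [smul_eq_mul, mul_comm]
  set A : Matrix ι ι F := 1 + Matrix.vecMulVec v c with hA
  have hAx : ∀ x, A *ᵥ x = x + φ x • v := by
    intro x
    rw [hA, Matrix.add_mulVec, Matrix.one_mulVec, Matrix.vecMulVec_mulVec, hcφ]
    congr 1
    ext i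
    simp [mul_comm]
  have hdet : A.det = 1 := by
    rw [hA, Matrix.vecMulVec_eq Unit, Matrix.det_one_add_replicateCol_mul_replicateRow, hcφ,
      hφM v hv, add_zero]
  have hunit : IsUnit A.det := by rw [hdet]; exact isUnit_one
  refine ⟨Matrix.GeneralLinearGroup.mk'' A hunit, φ, ?_, hφM, hφu, ?_⟩
  · ext
    simp [hdet]
  · intro x
    exact hAx x

/-- An element acting as `x ↦ x + φ x • v`, with `φ` vanishing on `M ∋ v`, stabilises every subspace of `M`. -/
theorem mem_subspaceStabilizer_of_transvection (M W : Submodule F (ι → F)) (hWM : W ≤ M) (v : ι → F)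
    (hv : v ∈ M) (g : GL ι F) (φ : (ι → F) →ₗ[F] F) (hφM : ∀ x ∈ M, φ x = 0)
    (hg : ∀ x, (g : Matrix ι ι F) *ᵥ x = x + φ x • v) : g ∈ Cfsg.Geo.subspaceStabilizer W := by
  intro x
  show x ∈ W ↔ (g : Matrix ι ι F) *ᵥ x ∈ W
  rw [hg x]
  constructor
  · intro hx
    rw [hφM x (hWM hx), zero_smul, add_zero]
    exact hx
  · intro hx
    have h1 : φ (x + φ x • v) = 0 := hφM _ (hWM hx)
    rw [map_add, map_smul, hφM v hv, smul_zero, add_zero] at h1
    rw [h1, zero_smul, add_zero] at hx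
    exact hx

theorem mem_specialLinear_iff (g : GL ι F) :
    g ∈ Cfsg.Geo.specialLinear ι F ↔ Matrix.GeneralLinearGroup.det g = 1 := by
  unfold Cfsg.Geo.specialLinear
  rw [MonoidHom.mem_ker]

/-- For a proper non-zero subspace `W`, some element of the special linear group does not stabilise `W`. -/
theorem exists_specialLinear_not_stabilizer (W : Submodule F (ι → F)) (hW0 : W ≠ ⊥) (hW1 : W ≠ ⊤) :
    ∃ g : GL ι F, g ∈ Cfsg.Geo.specialLinear ι F ∧ g ∉ Cfsg.Geo.subspaceStabilizer W := by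
  obtain ⟨w, hwW, hw0⟩ := (Submodule.ne_bot_iff W).mp hW0
  obtain ⟨v, hvW⟩ : ∃ v, v ∉ W := by
    by_contra h
    push Not at h
    exact hW1 (eq_top_iff.mpr fun x _ => h x)
  have hw : w ∉ Submodule.span F {v} := by
    intro hmem
    obtain ⟨a, rfl⟩ := Submodule.mem_span_singleton.mp hmem
    have ha : a ≠ 0 := by
      rintro rfl
      exact hw0 (zero_smul _ _)
    apply hvW
    have : v = a⁻¹ • (a • v) := by rw [smul_smul, inv_mul_cancel₀ ha, one_smul]
    rw [this]
    exact W.smul_mem _ hwW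
  obtain ⟨g, φ, hdet, hφM, hφu, hg⟩ :=
    exists_transvection (Submodule.span F {v}) w v (Submodule.mem_span_singleton_self v) hw
  refine ⟨g, (mem_specialLinear_iff g).mpr hdet, ?_⟩
  intro hmem
  have h1 : (g : Matrix ι ι F) *ᵥ w ∈ W := (hmem w).mp hwW
  rw [hg, hφu, one_smul] at h1
  exact hvW ((W.add_mem_iff_right hwW).mp h1)

end Cfsg.Agent.Helper28
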