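import Mathlib
import Cfsg.Prelude.Def_GeometricClasses
import Cfsg.Agent.Lib.Helper28.GenTransv
import Cfsg.Agent.Lib.Helper28.Transvec
import Cfsg.Agent.Lib.Helper2.SLPerfect

set_option autoImplicit false

namespace Cfsg.Agent.Helper28.SubspaceMax

open Matrix Cfsg Cfsg.Agent.Helper28
open scoped Classical

variable {F : Type*} [Field F] {n : ℕ}

theorem tv_det (u l : Fin n → F) : Matrix.GeneralLinearGroup.det (tv u l) = 1 := by
  by_cases h : l ⬝ᵥ u = 0
  · apply Units.ext
    rw [Matrix.GeneralLinearGroup.val_det_apply, tv_val _ _ h, Matrix.vecMulVec_eq Unit,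
      Matrix.det_one_add_replicateCol_mul_replicateRow, h, add_zero, Units.val_one]
  · unfold tv
    rw [dif_neg h, map_one]

theorem tv_mem_specialLinear (u l : Fin n → F) : tv u l ∈ Cfsg.Geo.specialLinear (Fin n) F :=
  (mem_specialLinear_iff _).mpr (tv_det u l)

theorem tv_of_not (u l : Fin n → F) (h : ¬ l ⬝ᵥ u = 0) : tv u l = 1 := by
  unfold tv
  rw [dif_neg h]

theorem tv_mem_stab_of_center (W : Submodule F (Fin n → F)) (u l : Fin n → F) (hu : u ∈ W) :
    tv u l ∈ Cfsg.Geo.subspaceStabilizer W := by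
  by_cases h : l ⬝ᵥ u = 0
  · intro x
    show x ∈ W ↔ ((tv u l : GL (Fin n) F) : Matrix (Fin n) (Fin n) F) *ᵥ x ∈ W
    rw [tv_mulVec _ _ _ h]
    exact (W.add_mem_iff_left (W.smul_mem _ hu)).symm
  · rw [tv_of_not _ _ h]
    exact one_mem _

theorem tv_mem_stab_of_axis (W : Submodule F (Fin n → F)) (u l : Fin n → F)
    (hl : ∀ x ∈ W, l ⬝ᵥ x = 0) : tv u l ∈ Cfsg.Geo.subspaceStabilizer W := by
  by_cases h : l ⬝ᵥ u = 0
  · intro x
    show x ∈ W ↔ ((tv u l : GL (Fin n) F) : Matrix (Fin n) (Fin n) F) *ᵥ x ∈ W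
    rw [tv_mulVec _ _ _ h]
    constructor
    · intro hx
      rw [hl x hx, zero_smul, add_zero]
      exact hx
    · intro hx
      have h1 := hl _ hx
      rw [dotProduct_add, dotProduct_smul, h, smul_zero, add_zero] at h1
      rwa [h1, zero_smul, add_zero] at hx
  · rw [tv_of_not _ _ h]
    exact one_mem _

/-- A linear functional, as a vector, vanishing on `W` and taking the value one at `u ∉ W`. -/
theorem exists_dual_vec (W : Submodule F (Fin n → F)) (u : Fin n → F) (hu : u ∉ W) :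
    ∃ l : Fin n → F, (∀ x ∈ W, l ⬝ᵥ x = 0) ∧ l ⬝ᵥ u = 1 := by
  obtain ⟨f, hfu, hfM⟩ := Submodule.exists_dual_map_eq_bot_of_notMem hu inferInstance
  set φ : (Fin n → F) →ₗ[F] F := (f u)⁻¹ • f with hφ
  have hφM : ∀ x ∈ W, φ x = 0 := by
    intro x hx
    have : f x ∈ W.map f := Submodule.mem_map_of_mem hx
    rw [hfM, Submodule.mem_bot] at this
    simp [hφ, this]
  have hφu : φ u = 1 := by
    simp [hφ, hfu]
  set c : Fin n → F := fun i => φ (fun j => if i = j then 1 else 0) with hc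
  have hcφ : ∀ x, c ⬝ᵥ x = φ x := by
    intro x
    rw [LinearMap.pi_apply_eq_sum_univ φ x, dotProduct]
    apply Finset.sum_congr rfl
    intro i _
    rw [smul_eq_mul, mul_comm]
  exact ⟨c, fun x hx => by rw [hcφ, hφM x hx], by rw [hcφ, hφu]⟩

/-- A subgroup of `GL` containing every transvection contains the special linear group. -/
theorem specialLinear_le_of_tv (hn : 2 ≤ n) (M : Subgroup (GL (Fin n) F))
    (hM : ∀ u l : Fin n → F, tv u l ∈ M) : Cfsg.Geo.specialLinear (Fin n) F ≤ M := by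
  haveI : Nontrivial (Fin n) := Fin.nontrivial_iff_two_le.mpr hn
  have key : ∀ s : Matrix.SpecialLinearGroup (Fin n) F, Matrix.SpecialLinearGroup.toGL s ∈ M := by
    intro s
    have htr : ∀ (i j : Fin n) (hij : i ≠ j) (a : F),
        Matrix.SpecialLinearGroup.toGL (Matrix.SpecialLinearGroup.transvection hij a) ∈ M := by
      intro i j hij a
      have h0 : (Pi.single j (1 : F) : Fin n → F) ⬝ᵥ (Pi.single i a : Fin n → F) = 0 := by
        rw [single_dotProduct, one_mul, Pi.single_eq_of_ne hij.symm]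
      have : Matrix.SpecialLinearGroup.toGL (Matrix.SpecialLinearGroup.transvection hij a)
          = tv (Pi.single i a) (Pi.single j 1) := by
        apply Units.ext
        rw [tv_val _ _ h0, Matrix.SpecialLinearGroup.coe_GL_coe_matrix,
          Matrix.SpecialLinearGroup.transvection_coe]
        congr 1
        ext x y
        rw [vecMulVec_apply, Matrix.single_apply]
        by_cases hx : i = x
        · by_cases hy : j = y
          · subst hx; subst hy; simp
          · subst hx; simp [hy, Pi.single_eq_of_ne (Ne.symm hy)]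
        · simp [hx, Pi.single_eq_of_ne (Ne.symm hx)]
      rw [this]
      exact hM _ _
    refine Matrix.SpecialLinearGroup.diagonal_transvection_induction'
      (fun s => Matrix.SpecialLinearGroup.toGL s ∈ M) s ?_ htr ?_
    · intro i j hij c hc
      show Matrix.SpecialLinearGroup.toGL _ ∈ M
      rw [Cfsg.Agent.Helper2.diag2n_eq_transvections hij c hc]
      simp only [map_mul]
      exact mul_mem (mul_mem (mul_mem (htr _ _ _ _) (htr _ _ _ _)) (htr _ _ _ _))
        (mul_mem (mul_mem (htr _ _ _ _) (htr _ _ _ _)) (htr _ _ _ _))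
    · intro A B hA hB
      show Matrix.SpecialLinearGroup.toGL (A * B) ∈ M
      rw [map_mul]
      exact mul_mem hA hB
  intro g hg
  have hdet : (g : Matrix (Fin n) (Fin n) F).det = 1 := by
    have := (mem_specialLinear_iff g).mp hg
    have h2 := congrArg Units.val this
    rwa [Matrix.GeneralLinearGroup.val_det_apply, Units.val_one] at h2
  have : g = Matrix.SpecialLinearGroup.toGL ⟨(g : Matrix (Fin n) (Fin n) F), hdet⟩ := by
    apply Units.ext
    rfl
  rw [this]
  exact key _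

/-- The set of centres all of whose transvections lie in `M`. -/
def Cen (M : Subgroup (GL (Fin n) F)) : Set (Fin n → F) := {u | ∀ l : Fin n → F, tv u l ∈ M}

theorem cen_smul (M : Subgroup (GL (Fin n) F)) (m : GL (Fin n) F) (hm : m ∈ M) (u : Fin n → F)
    (hu : u ∈ Cen M) : (m : Matrix (Fin n) (Fin n) F) *ᵥ u ∈ Cen M := by
  intro l'
  by_cases h' : l' ⬝ᵥ ((m : Matrix (Fin n) (Fin n) F) *ᵥ u) = 0
  · have h : (l' ᵥ* (m : Matrix (Fin n) (Fin n) F)) ⬝ᵥ u = 0 := by
      rw [← Matrix.dotProduct_mulVec]; exact h'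
    rw [← (conj_tv m u (l' ᵥ* (m : Matrix (Fin n) (Fin n) F)) _ l' h rfl rfl).2]
    exact M.mul_mem (M.mul_mem hm (hu _)) (M.inv_mem hm)
  · rw [tv_of_not _ _ h']
    exact one_mem _

theorem cen_scalar (M : Subgroup (GL (Fin n) F)) (c : F) (u : Fin n → F)
    (hu : u ∈ Cen M) : c • u ∈ Cen M := by
  intro l
  by_cases h : l ⬝ᵥ u = 0
  · rw [tv_smul_left c u l h]
    exact hu _
  · by_cases h' : l ⬝ᵥ (c • u) = 0
    · rw [dotProduct_smul, smul_eq_mul] at h'
      have hc : c = 0 := by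
        rcases mul_eq_zero.mp h' with h1 | h1
        · exact h1
        · exact absurd h1 h
      subst hc
      rw [zero_smul]
      have : tv (0 : Fin n → F) l = 1 := by
        apply Units.ext
        rw [tv_val _ _ (dotProduct_zero l), Matrix.zero_vecMulVec, add_zero, Units.val_one]
      rw [this]
      exact one_mem _
    · rw [tv_of_not _ _ h']
      exact one_mem _

/-- Moving a centre along a transvection whose axis contains `W`. -/
theorem cen_move (W : Submodule F (Fin n → F)) (M : Subgroup (GL (Fin n) F))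
    (hPM : Cfsg.Geo.subspaceStabilizer W ⊓ Cfsg.Geo.specialLinear (Fin n) F ≤ M)
    (l a b : Fin n → F) (hl : ∀ x ∈ W, l ⬝ᵥ x = 0) (ha : l ⬝ᵥ a ≠ 0) (hb : l ⬝ᵥ b ≠ 0)
    (haM : a ∈ Cen M) : b ∈ Cen M := by
  -- normalise so that `l ⬝ᵥ a = l ⬝ᵥ b`
  set c := (l ⬝ᵥ a) * (l ⬝ᵥ b)⁻¹ with hc
  have hc0 : c ≠ 0 := mul_ne_zero ha (inv_ne_zero hb)
  set v : Fin n → F := c • b - a with hv
  have hlv : l ⬝ᵥ v = 0 := by
    rw [hv, dotProduct_sub, dotProduct_smul, smul_eq_mul, hc, mul_assoc, inv_mul_cancel₀ hb, mul_one,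
      sub_self]
  set l' : Fin n → F := (l ⬝ᵥ a)⁻¹ • l with hl'
  have hl'v : l' ⬝ᵥ v = 0 := by rw [hl', smul_dotProduct, hlv, smul_zero]
  have hl'W : ∀ x ∈ W, l' ⬝ᵥ x = 0 := by
    intro x hx
    rw [hl', smul_dotProduct, hl x hx, smul_zero]
  have htM : tv v l' ∈ M :=
    hPM ⟨tv_mem_stab_of_axis W v l' hl'W, tv_mem_specialLinear v l'⟩
  have h1 := cen_smul M _ htM a haM
  rw [tv_mulVec _ _ _ hl'v] at h1
  have h2 : l' ⬝ᵥ a = 1 := by
    rw [hl', smul_dotProduct, smul_eq_mul, inv_mul_cancel₀ ha]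
  rw [h2, one_smul, hv, add_sub_cancel] at h1
  have h3 := cen_scalar M c⁻¹ _ h1
  rwa [smul_smul, inv_mul_cancel₀ hc0, one_smul] at h3

theorem maximal_aux (hn : 2 ≤ n) (W : Submodule F (Fin n → F)) (M : Subgroup (GL (Fin n) F))
    (hPM : Cfsg.Geo.subspaceStabilizer W ⊓ Cfsg.Geo.specialLinear (Fin n) F ≤ M)
    (h : GL (Fin n) F) (hhM : h ∈ M) (hhW : h ∉ Cfsg.Geo.subspaceStabilizer W) :
    Cfsg.Geo.specialLinear (Fin n) F ≤ M := by
  -- centres in `W`
  have hW : ∀ w ∈ W, w ∈ Cen M := by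
    intro w hw l
    exact hPM ⟨tv_mem_stab_of_center W w l hw, tv_mem_specialLinear w l⟩
  -- a centre outside `W`
  obtain ⟨u', hu'M, hu'W⟩ : ∃ u', u' ∈ Cen M ∧ u' ∉ W := by
    have : ¬ ∀ v, v ∈ W ↔ (h : Matrix (Fin n) (Fin n) F) *ᵥ v ∈ W := fun hall => hhW hall
    push Not at this
    obtain ⟨v, hv⟩ := this
    rcases hv with ⟨hv1, hv2⟩ | ⟨hv1, hv2⟩
    · exact ⟨_, cen_smul M h hhM v (hW v hv1), hv2⟩
    · refine ⟨v, ?_, hv1⟩
      have := cen_smul M h⁻¹ (M.inv_mem hhM) _ (hW _ hv2)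
      rwa [Matrix.mulVec_mulVec, ← Units.val_mul, inv_mul_cancel, Units.val_one,
        Matrix.one_mulVec] at this
  apply specialLinear_le_of_tv hn M
  intro u l
  by_cases huW : u ∈ W
  · exact hW u huW l
  · obtain ⟨l₁, hl₁W, hl₁⟩ := exists_dual_vec W u' hu'W
    obtain ⟨l₂, hl₂W, hl₂⟩ := exists_dual_vec W u huW
    have hu : u ∈ Cen M := by
      by_cases h1 : l₁ ⬝ᵥ u = 0
      · by_cases h2 : l₂ ⬝ᵥ u' = 0
        · refine cen_move W M hPM (l₁ + l₂) u' u ?_ ?_ ?_ hu'M
          · intro x hx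
            rw [add_dotProduct, hl₁W x hx, hl₂W x hx, add_zero]
          · rw [add_dotProduct, hl₁, h2, add_zero]; exact one_ne_zero
          · rw [add_dotProduct, h1, hl₂, zero_add]; exact one_ne_zero
        · exact cen_move W M hPM l₂ u' u hl₂W h2 (by rw [hl₂]; exact one_ne_zero) hu'M
      · exact cen_move W M hPM l₁ u' u hl₁W (by rw [hl₁]; exact one_ne_zero) h1 hu'M
    exact hu l

end Cfsg.Agent.Helper28.SubspaceMax
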