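import Mathlib
import Cfsg.Prelude.Def_GeometricClasses
import Cfsg.Agent.Lib.Helper28.SubspaceMax
import Cfsg.Agent.Lib.Helper11.UnitaryGen2
import Cfsg.Agent.Lib.Helper11.UnitarySimple

/-!
# Maximality of the stabiliser of a totally singular subspace in the special unitary group (helper28)
-/

set_option autoImplicit false

namespace Cfsg.Agent.Helper28.SuSingMax

open Cfsg Matrix Cfsg.Agent.Helper28 Cfsg.Agent.Helper28.SubspaceMax Cfsg.Agent.Helper11.Herm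
open Cfsg.Agent.Helper11

variable {F : Type*} [Field F] {n : ℕ} (φ : F →+* F)

theorem gl_ext (g h : GL (Fin n) F)
    (H : ∀ x, (g : Matrix (Fin n) (Fin n) F) *ᵥ x = (h : Matrix (Fin n) (Fin n) F) *ᵥ x) : g = h := by
  apply Units.ext
  rw [Matrix.ext_iff_mulVec]
  exact H

theorem dot_comp (x v : Fin n → F) : (φ ∘ v) ⬝ᵥ x = hdot φ x v := by
  rw [dotProduct_comm]; rfl

/-- the unitary transvection `x ↦ x + c h(x,v) v` in `GL` -/
noncomputable def UT (v : Fin n → F) (c : F) : GL (Fin n) F := tv (c • v) (φ ∘ v)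

theorem UT_aux (v : Fin n → F) (hv : hdot φ v v = 0) (c : F) : (φ ∘ v) ⬝ᵥ (c • v) = 0 := by
  rw [dotProduct_smul, dot_comp, hv, smul_zero]

theorem UT_mulVec (v : Fin n → F) (hv : hdot φ v v = 0) (c : F) (x : Fin n → F) :
    ((UT φ v c : GL (Fin n) F) : Matrix (Fin n) (Fin n) F) *ᵥ x = x + (c * hdot φ x v) • v := by
  unfold UT
  rw [tv_mulVec _ _ _ (UT_aux φ v hv c), dot_comp, smul_smul, mul_comm]

theorem UT_val (v : Fin n → F) (hv : hdot φ v v = 0) (c : F) :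
    ((UT φ v c : GL (Fin n) F) : Matrix (Fin n) (Fin n) F) = Herm.tv φ v c := by
  rw [Matrix.ext_iff_mulVec]
  intro x
  rw [UT_mulVec φ v hv, Herm.tv_mulVec]

theorem UT_mem_UG (hφφ : ∀ x, φ (φ x) = x) (v : Fin n → F) (hv : hdot φ v v = 0) (c : F)
    (hc : c + φ c = 0) : UT φ v c ∈ UG (Fin n) φ := by
  rw [mem_UG_iff, UT_val φ v hv]
  apply isU_tv φ hφφ
  rw [hv, mul_zero, add_zero, hc]

theorem UT_mem_SL (v : Fin n → F) (c : F) : UT φ v c ∈ Cfsg.Geo.specialLinear (Fin n) F :=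
  tv_mem_specialLinear _ _

theorem inv_mulVec_mulVec (g : GL (Fin n) F) (x : Fin n → F) :
    (g : Matrix (Fin n) (Fin n) F) *ᵥ (((g⁻¹ : GL (Fin n) F) : Matrix (Fin n) (Fin n) F) *ᵥ x) = x := by
  rw [Matrix.mulVec_mulVec, ← Units.val_mul, mul_inv_cancel, Units.val_one, Matrix.one_mulVec]

theorem mulVec_inv_mulVec (g : GL (Fin n) F) (x : Fin n → F) :
    ((g⁻¹ : GL (Fin n) F) : Matrix (Fin n) (Fin n) F) *ᵥ ((g : Matrix (Fin n) (Fin n) F) *ᵥ x) = x := by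
  rw [Matrix.mulVec_mulVec, ← Units.val_mul, inv_mul_cancel, Units.val_one, Matrix.one_mulVec]

theorem hdot_inv (g : GL (Fin n) F) (hg : g ∈ UG (Fin n) φ) (x v : Fin n → F) :
    hdot φ (((g⁻¹ : GL (Fin n) F) : Matrix (Fin n) (Fin n) F) *ᵥ x) v =
      hdot φ x ((g : Matrix (Fin n) (Fin n) F) *ᵥ v) := by
  have := IsU.hdot_mulVec φ ((mem_UG_iff φ g).mp hg)
    (((g⁻¹ : GL (Fin n) F) : Matrix (Fin n) (Fin n) F) *ᵥ x) v
  rw [inv_mulVec_mulVec] at this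
  exact this.symm

theorem conj_UT (g : GL (Fin n) F) (hg : g ∈ UG (Fin n) φ) (v : Fin n → F) (hv : hdot φ v v = 0)
    (c : F) : g * UT φ v c * g⁻¹ = UT φ ((g : Matrix (Fin n) (Fin n) F) *ᵥ v) c := by
  have hgv : hdot φ ((g : Matrix (Fin n) (Fin n) F) *ᵥ v) ((g : Matrix (Fin n) (Fin n) F) *ᵥ v) = 0 := by
    rw [IsU.hdot_mulVec φ ((mem_UG_iff φ g).mp hg), hv]
  apply gl_ext
  intro x
  rw [Units.val_mul, Units.val_mul, ← Matrix.mulVec_mulVec, ← Matrix.mulVec_mulVec,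
    UT_mulVec φ v hv, UT_mulVec φ _ hgv, Matrix.mulVec_add, inv_mulVec_mulVec, Matrix.mulVec_smul,
    hdot_inv φ g hg]

/-- the isotropic vectors all of whose transvections lie in `M` -/
def Cen (M : Subgroup (GL (Fin n) F)) : Set (Fin n → F) :=
  {v | hdot φ v v = 0 ∧ ∀ c : F, c + φ c = 0 → UT φ v c ∈ M}

theorem cen_smul (M : Subgroup (GL (Fin n) F)) (g : GL (Fin n) F) (hgM : g ∈ M)
    (hg : g ∈ UG (Fin n) φ) (v : Fin n → F) (hv : v ∈ Cen φ M) :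
    (g : Matrix (Fin n) (Fin n) F) *ᵥ v ∈ Cen φ M := by
  refine ⟨by rw [IsU.hdot_mulVec φ ((mem_UG_iff φ g).mp hg), hv.1], fun c hc => ?_⟩
  rw [← conj_UT φ g hg v hv.1]
  exact M.mul_mem (M.mul_mem hgM (hv.2 c hc)) (M.inv_mem hgM)

theorem cen_scalar (hφφ : ∀ x, φ (φ x) = x) (M : Subgroup (GL (Fin n) F)) (b : F) (v : Fin n → F)
    (hv : v ∈ Cen φ M) : b • v ∈ Cen φ M := by
  have hbv : hdot φ (b • v) (b • v) = 0 := by
    rw [hdot_smul_left, hdot_smul_right, hv.1, mul_zero, mul_zero]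
  refine ⟨hbv, fun c hc => ?_⟩
  have : UT φ (b • v) c = UT φ v (b * φ b * c) := by
    apply gl_ext
    intro x
    rw [UT_mulVec φ _ hbv, UT_mulVec φ _ hv.1, hdot_smul_right, smul_smul]
    congr 2
    ring
  rw [this]
  apply hv.2
  rw [map_mul, map_mul, hφφ]
  linear_combination (b * φ b) * hc

theorem stab_of_maps [Finite F] (W : Submodule F (Fin n → F)) (g : GL (Fin n) F)
    (h : ∀ v ∈ W, (g : Matrix (Fin n) (Fin n) F) *ᵥ v ∈ W) : g ∈ Cfsg.Geo.subspaceStabilizer W := by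
  have hpow : ∀ k : ℕ, ∀ v ∈ W, ((g ^ k : GL (Fin n) F) : Matrix (Fin n) (Fin n) F) *ᵥ v ∈ W := by
    intro k
    induction k with
    | zero => intro v hv; rw [pow_zero, Units.val_one, Matrix.one_mulVec]; exact hv
    | succ k ih =>
      intro v hv
      rw [pow_succ, Units.val_mul, ← Matrix.mulVec_mulVec]
      exact ih _ (h v hv)
  have hinv : g⁻¹ = g ^ (orderOf g - 1) := by
    rw [inv_eq_iff_mul_eq_one, ← pow_succ']
    have : 0 < orderOf g := orderOf_pos g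
    rw [show orderOf g - 1 + 1 = orderOf g by omega]
    exact pow_orderOf_eq_one g
  intro v
  constructor
  · exact h v
  · intro hv
    have hv' : (g : Matrix (Fin n) (Fin n) F) *ᵥ v ∈ W := hv
    have := hpow (orderOf g - 1) _ hv'
    rwa [← hinv, mulVec_inv_mulVec] at this

/-- `v` is orthogonal to every member of `W` -/
def Perp (W : Submodule F (Fin n → F)) (v : Fin n → F) : Prop := ∀ w ∈ W, hdot φ w v = 0

theorem UT_stab [Finite F] (W : Submodule F (Fin n → F)) (v : Fin n → F) (hv : hdot φ v v = 0)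
    (hp : Perp φ W v) (c : F) : UT φ v c ∈ Cfsg.Geo.subspaceStabilizer W := by
  apply stab_of_maps
  intro x hx
  rw [UT_mulVec φ v hv, hp x hx, mul_zero, zero_smul, add_zero]
  exact hx

/-- the group in which maximality is claimed -/
abbrev SUg (n : ℕ) (φ : F →+* F) : Subgroup (GL (Fin n) F) :=
  UG (Fin n) φ ⊓ Cfsg.Geo.specialLinear (Fin n) F

theorem perp_mem_cen [Finite F] (hφφ : ∀ x, φ (φ x) = x) (W : Submodule F (Fin n → F))
    (M : Subgroup (GL (Fin n) F))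
    (hPM : Cfsg.Geo.subspaceStabilizer W ⊓ SUg n φ ≤ M)
    (v : Fin n → F) (hv : hdot φ v v = 0) (hp : Perp φ W v) : v ∈ Cen φ M :=
  ⟨hv, fun c hc => hPM ⟨UT_stab φ W v hv hp c, UT_mem_UG φ hφφ v hv c hc, UT_mem_SL φ v c⟩⟩

/-- the Siegel element `x ↦ x + h(x,a) b - h(x,b) a + μ h(x,a) a` -/
noncomputable def EE (a b : Fin n → F) (μ : F) : GL (Fin n) F :=
  tv (b + μ • a) (φ ∘ a) * tv a (-(φ ∘ b))

theorem EE_mulVec (a b : Fin n → F) (μ : F) (ha : hdot φ a a = 0) (hba : hdot φ b a = 0)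
    (hab : hdot φ a b = 0) (x : Fin n → F) :
    ((EE φ a b μ : GL (Fin n) F) : Matrix (Fin n) (Fin n) F) *ᵥ x =
      x + hdot φ x a • b - hdot φ x b • a + (μ * hdot φ x a) • a := by
  have h1 : (φ ∘ a) ⬝ᵥ (b + μ • a) = 0 := by
    rw [dotProduct_add, dotProduct_smul, dot_comp, dot_comp, hba, ha, smul_zero, add_zero]
  have h2 : (-(φ ∘ b)) ⬝ᵥ a = 0 := by
    rw [neg_dotProduct, dot_comp, hab, neg_zero]
  unfold EE
  rw [Units.val_mul, ← Matrix.mulVec_mulVec, tv_mulVec _ _ _ h2, tv_mulVec _ _ _ h1,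
    neg_dotProduct, dot_comp, dotProduct_add, dotProduct_smul, dot_comp, dot_comp, ha]
  module

theorem EE_mem_UG (hφφ : ∀ x, φ (φ x) = x) (a b : Fin n → F) (μ : F) (ha : hdot φ a a = 0)
    (hba : hdot φ b a = 0) (hab : hdot φ a b = 0) (hμ : μ + φ μ + hdot φ b b = 0) :
    EE φ a b μ ∈ UG (Fin n) φ := by
  rw [mem_UG_iff]
  apply isU_of_preserves
  intro x y
  rw [EE_mulVec φ a b μ ha hba hab, EE_mulVec φ a b μ ha hba hab]
  simp only [hdot_add_left, hdot_add_right, hdot_sub_left, hdot_sub_right, hdot_smul_left,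
    hdot_smul_right, ha, hba, hab, map_mul, mul_zero, add_zero, sub_zero]
  rw [← hdot_conj φ hφφ y a, ← hdot_conj φ hφφ y b]
  linear_combination (hdot φ x a * φ (hdot φ y a)) * hμ

theorem EE_mem_SL (a b : Fin n → F) (μ : F) : EE φ a b μ ∈ Cfsg.Geo.specialLinear (Fin n) F :=
  Subgroup.mul_mem _ (tv_mem_specialLinear _ _) (tv_mem_specialLinear _ _)

theorem EE_stab [Finite F] (W : Submodule F (Fin n → F))
    (hW : ∀ u ∈ W, ∀ v ∈ W, hdot φ u v = 0) (a b : Fin n → F) (μ : F) (ha : a ∈ W)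
    (hba : hdot φ b a = 0) (hab : hdot φ a b = 0) :
    EE φ a b μ ∈ Cfsg.Geo.subspaceStabilizer W := by
  apply stab_of_maps
  intro x hx
  rw [EE_mulVec φ a b μ (hW a ha a ha) hba hab, hW x hx a ha, zero_smul, add_zero, mul_zero,
    zero_smul, add_zero]
  exact W.sub_mem hx (W.smul_mem _ ha)

/-- a vector outside `W` is not orthogonal to the whole of the orthogonal of `W` -/
theorem exists_perp_witness (hφφ : ∀ x, φ (φ x) = x) (W : Submodule F (Fin n → F))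
    (x : Fin n → F) (hx : x ∉ W) : ∃ y, Perp φ W y ∧ hdot φ x y = 1 := by
  obtain ⟨l, hlW, hlx⟩ := exists_dual_vec W x hx
  have hcomp : φ ∘ (φ ∘ l) = l := by
    funext i
    simp [hφφ]
  refine ⟨φ ∘ l, fun w hw => ?_, ?_⟩
  · unfold hdot
    rw [hcomp, dotProduct_comm]
    exact hlW w hw
  · unfold hdot
    rw [hcomp, dotProduct_comm]
    exact hlx

theorem exists_outside [Finite F] (hφ : φ ≠ RingHom.id F) (hφφ : ∀ x, φ (φ x) = x)
    (W : Submodule F (Fin n → F)) (hW : ∀ u ∈ W, ∀ v ∈ W, hdot φ u v = 0)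
    (M : Subgroup (GL (Fin n) F)) (hPM : Cfsg.Geo.subspaceStabilizer W ⊓ SUg n φ ≤ M)
    (hMG : M ≤ SUg n φ)
    (h : GL (Fin n) F) (hhM : h ∈ M) (hhW : h ∉ Cfsg.Geo.subspaceStabilizer W) :
    ∃ u', u' ∈ Cen φ M ∧ ¬ Perp φ W u' := by
  obtain ⟨g, hgM, w, hw, hgw⟩ : ∃ g ∈ M, ∃ w ∈ W, (g : Matrix (Fin n) (Fin n) F) *ᵥ w ∉ W := by
    have : ¬ ∀ v, v ∈ W ↔ (h : Matrix (Fin n) (Fin n) F) *ᵥ v ∈ W := fun hall => hhW hall
    push Not at this
    obtain ⟨v, hv⟩ := this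
    rcases hv with ⟨hv1, hv2⟩ | ⟨hv1, hv2⟩
    · exact ⟨h, hhM, v, hv1, hv2⟩
    · refine ⟨h⁻¹, M.inv_mem hhM, _, hv2, ?_⟩
      rwa [mulVec_inv_mulVec]
  have hgU : g ∈ UG (Fin n) φ := (hMG hgM).1
  have hwc : w ∈ Cen φ M := perp_mem_cen φ hφφ W M hPM w (hW w hw w hw) (fun w' hw' => hW w' hw' w hw)
  have hxc := cen_smul φ M g hgM hgU w hwc
  set x := (g : Matrix (Fin n) (Fin n) F) *ᵥ w with hx
  by_cases hxp : Perp φ W x
  · obtain ⟨y₀, hy₀p, hxy₀⟩ := exists_perp_witness φ hφφ W x hgw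
    have hy₀x : hdot φ y₀ x = 1 := by rw [← hdot_conj φ hφφ x y₀, hxy₀, map_one]
    obtain ⟨t, ht⟩ := Witt.exists_trace_eq φ hφ hφφ (-hdot φ y₀ y₀)
      (by rw [map_neg, hdot_conj φ hφφ])
    have hyy : hdot φ (y₀ + t • x) (y₀ + t • x) = 0 := by
      simp only [hdot_add_left, hdot_add_right, hdot_smul_left, hdot_smul_right, hxc.1, hxy₀, hy₀x]
      linear_combination ht
    have hyp : Perp φ W (y₀ + t • x) := by
      intro w' hw'
      rw [hdot_add_right, hdot_smul_right, hy₀p w' hw', hxp w' hw', mul_zero, add_zero]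
    have hxy : hdot φ x (y₀ + t • x) = 1 := by
      rw [hdot_add_right, hdot_smul_right, hxy₀, hxc.1, mul_zero, add_zero]
    have hyc := perp_mem_cen φ hφφ W M hPM _ hyy hyp
    refine ⟨_, cen_smul φ M g⁻¹ (M.inv_mem hgM) (Subgroup.inv_mem _ hgU) _ hyc, ?_⟩
    intro hp
    have h1 := hp w hw
    have h2 := IsU.hdot_mulVec φ ((mem_UG_iff φ g).mp hgU) w
      (((g⁻¹ : GL (Fin n) F) : Matrix (Fin n) (Fin n) F) *ᵥ (y₀ + t • x))
    rw [inv_mulVec_mulVec, ← hx, hxy, h1] at h2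
    exact one_ne_zero h2
  · exact ⟨x, hxc, hxp⟩

theorem exists_avoid (W : Submodule F (Fin n → F)) (u u' : Fin n → F)
    (hu : ¬ Perp φ W u) (hu' : ¬ Perp φ W u') :
    ∃ a ∈ W, hdot φ a u ≠ 0 ∧ hdot φ a u' ≠ 0 := by
  unfold Perp at hu hu'
  push Not at hu hu'
  obtain ⟨a₁, ha₁, h₁⟩ := hu
  obtain ⟨a₂, ha₂, h₂⟩ := hu'
  by_cases h3 : hdot φ a₁ u' = 0
  · by_cases h4 : hdot φ a₂ u = 0
    · refine ⟨a₁ + a₂, W.add_mem ha₁ ha₂, ?_, ?_⟩
      · rw [hdot_add_left, h4, add_zero]; exact h₁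
      · rw [hdot_add_left, h3, zero_add]; exact h₂
    · exact ⟨a₂, ha₂, h4, h₂⟩
  · exact ⟨a₁, ha₁, h₁, h3⟩

theorem all_mem_cen [Finite F] (hφ : φ ≠ RingHom.id F) (hφφ : ∀ x, φ (φ x) = x)
    (W : Submodule F (Fin n → F)) (hW : ∀ u ∈ W, ∀ v ∈ W, hdot φ u v = 0)
    (M : Subgroup (GL (Fin n) F)) (hPM : Cfsg.Geo.subspaceStabilizer W ⊓ SUg n φ ≤ M)
    (hMG : M ≤ SUg n φ)
    (h : GL (Fin n) F) (hhM : h ∈ M) (hhW : h ∉ Cfsg.Geo.subspaceStabilizer W)
    (u : Fin n → F) (hu : hdot φ u u = 0) : u ∈ Cen φ M := by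
  by_cases hup : Perp φ W u
  · exact perp_mem_cen φ hφφ W M hPM u hu hup
  obtain ⟨u', hu'M, hu'p⟩ := exists_outside φ hφ hφφ W hW M hPM hMG h hhM hhW
  obtain ⟨a₀, ha₀, ha₀u, ha₀u'⟩ := exists_avoid φ W u u' hup hu'p
  -- normalise `a`
  obtain ⟨a, ha, hau, hau'⟩ : ∃ a ∈ W, hdot φ a u = 1 ∧ hdot φ a u' ≠ 0 := by
    refine ⟨(hdot φ a₀ u)⁻¹ • a₀, W.smul_mem _ ha₀, ?_, ?_⟩
    · rw [hdot_smul_left, inv_mul_cancel₀ ha₀u]
    · rw [hdot_smul_left]
      exact mul_ne_zero (inv_ne_zero ha₀u) ha₀u'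
  have hua : hdot φ u a = 1 := by rw [← hdot_conj φ hφφ a u, hau, map_one]
  have hu'a : hdot φ u' a ≠ 0 := by
    rw [← hdot_conj φ hφφ a u']
    exact (map_ne_zero φ).mpr hau'
  obtain ⟨u'', hu''M, hu''a⟩ : ∃ u'', u'' ∈ Cen φ M ∧ hdot φ u'' a = 1 :=
    ⟨(hdot φ u' a)⁻¹ • u', cen_scalar φ hφφ M _ u' hu'M, by
      rw [hdot_smul_left, inv_mul_cancel₀ hu'a]⟩
  have haa : hdot φ a a = 0 := hW a ha a ha
  have hba : hdot φ (u - u'') a = 0 := by rw [hdot_sub_left, hua, hu''a, sub_self]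
  have hab : hdot φ a (u - u'') = 0 := hdot_eq_zero_symm φ hφφ _ _ hba
  have hμ : hdot φ u'' (u - u'') + φ (hdot φ u'' (u - u'')) + hdot φ (u - u'') (u - u'') = 0 := by
    rw [hdot_conj φ hφφ]
    have h1 : hdot φ u u = hdot φ (u'' + (u - u'')) (u'' + (u - u'')) := by
      rw [add_sub_cancel]
    rw [hu] at h1
    simp only [hdot_add_left, hdot_add_right, hu''M.1] at h1
    linear_combination -h1
  have hE : EE φ a (u - u'') (hdot φ u'' (u - u'')) ∈ M :=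
    hPM ⟨EE_stab φ W hW a _ _ ha hba hab, EE_mem_UG φ hφφ a _ _ haa hba hab hμ, EE_mem_SL φ _ _ _⟩
  have h1 := cen_smul φ M _ hE (EE_mem_UG φ hφφ a _ _ haa hba hab hμ) u'' hu''M
  rw [EE_mulVec φ a _ _ haa hba hab, hu''a] at h1
  have e : u'' + (1 : F) • (u - u'') - hdot φ u'' (u - u'') • a + (hdot φ u'' (u - u'') * 1) • a = u := by
    module
  rwa [e] at h1

/-- generation: a subgroup containing all unitary transvections contains `SU` -/
theorem sug_le_of_UT [Finite F] (hφ : φ ≠ RingHom.id F) (hφφ : ∀ x, φ (φ x) = x)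
    (hN1 : ∀ c : F, c ≠ 0 → φ c = c → ∃ l : F, l ≠ 0 ∧ l * φ l = c) (hn : 4 ≤ n)
    (M : Subgroup (GL (Fin n) F))
    (hM : ∀ v : Fin n → F, hdot φ v v = 0 → ∀ c : F, c + φ c = 0 → UT φ v c ∈ M) :
    SUg n φ ≤ M := by
  have key : ∀ A : Matrix (Fin n) (Fin n) F, A ∈ TM φ → ∀ g : GL (Fin n) F,
      (g : Matrix (Fin n) (Fin n) F) = A → g ∈ M := by
    intro A hA
    induction hA using Submonoid.closure_induction with
    | mem A hA =>
      obtain ⟨v, c, hv, hc, rfl⟩ := hA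
      intro g hg
      have : g = UT φ v c := by
        apply Units.ext
        rw [hg, UT_val φ v hv]
      rw [this]
      exact hM v hv c hc
    | one =>
      intro g hg
      have : g = 1 := Units.ext hg
      rw [this]
      exact one_mem _
    | mul A B hA hB ihA ihB =>
      intro g hg
      have hdA : IsUnit A.det := by
        rw [(isU_of_mem_TM φ hφφ hA).2]; exact isUnit_one
      have hdB : IsUnit B.det := by
        rw [(isU_of_mem_TM φ hφφ hB).2]; exact isUnit_one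
      have : g = Matrix.GeneralLinearGroup.mk'' A hdA * Matrix.GeneralLinearGroup.mk'' B hdB := by
        apply Units.ext
        rw [hg, Units.val_mul]
        rfl
      rw [this]
      exact M.mul_mem (ihA _ rfl) (ihB _ rfl)
  intro g hg
  have hdet : (g : Matrix (Fin n) (Fin n) F).det = 1 := by
    have := (mem_specialLinear_iff g).mp hg.2
    have h2 := congrArg Units.val this
    rwa [Matrix.GeneralLinearGroup.val_det_apply, Units.val_one] at h2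
  have i0 : Fin n := ⟨0, by omega⟩
  exact key _ (mem_TM_of_isU_of_det φ hφ hφφ hN1 (Or.inl (by rw [Fintype.card_fin]; exact hn)) i0 _
    ((mem_UG_iff φ g).mp hg.1) hdet) g rfl

theorem exists_not_stab (hφ : φ ≠ RingHom.id F) (hφφ : ∀ x, φ (φ x) = x)
    (W : Submodule F (Fin n → F)) (hW : ∀ u ∈ W, ∀ v ∈ W, hdot φ u v = 0) (hW0 : W ≠ ⊥) :
    ∃ g : GL (Fin n) F, g ∈ SUg n φ ∧ g ∉ Cfsg.Geo.subspaceStabilizer W := by
  obtain ⟨w, hwW, hw0⟩ := (Submodule.ne_bot_iff W).mp hW0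
  obtain ⟨s, hss, hws⟩ := exists_partner φ hφ hφφ w (hW w hwW w hwW) hw0
  obtain ⟨τ, hτ0, hτ⟩ := Witt.exists_trace_zero φ hφ hφφ
  refine ⟨UT φ s τ, ⟨UT_mem_UG φ hφφ s hss τ hτ, UT_mem_SL φ s τ⟩, fun hst => ?_⟩
  have h1 : ((UT φ s τ : GL (Fin n) F) : Matrix (Fin n) (Fin n) F) *ᵥ w ∈ W := (hst w).mp hwW
  rw [UT_mulVec φ s hss, hws, mul_one] at h1
  have h2 : τ • s ∈ W := (W.add_mem_iff_right hwW).mp h1
  have h3 : s ∈ W := by
    have := W.smul_mem τ⁻¹ h2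
    rwa [smul_smul, inv_mul_cancel₀ hτ0, one_smul] at this
  have := hW w hwW s h3
  rw [hws] at this
  exact one_ne_zero this

theorem maximal_aux [Finite F] (hφ : φ ≠ RingHom.id F) (hφφ : ∀ x, φ (φ x) = x)
    (hN1 : ∀ c : F, c ≠ 0 → φ c = c → ∃ l : F, l ≠ 0 ∧ l * φ l = c) (hn : 4 ≤ n)
    (W : Submodule F (Fin n → F)) (hW : ∀ u ∈ W, ∀ v ∈ W, hdot φ u v = 0) (hW0 : W ≠ ⊥) :
    Cfsg.Geo.IsMaximalIn (SUg n φ) (Cfsg.Geo.subspaceStabilizer W ⊓ SUg n φ) := by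
  refine ⟨?_, ?_⟩
  · rw [lt_iff_le_and_ne]
    refine ⟨inf_le_right, fun heq => ?_⟩
    obtain ⟨g, hg, hgW⟩ := exists_not_stab φ hφ hφφ W hW hW0
    rw [← heq] at hg
    exact hgW hg.1
  · intro M hPM hMG
    by_cases hMP : M ≤ Cfsg.Geo.subspaceStabilizer W
    · left
      exact le_antisymm (fun x hx => ⟨hMP hx, hMG hx⟩) hPM
    · right
      obtain ⟨h, hhM, hhW⟩ := SetLike.not_le_iff_exists.mp hMP
      apply le_antisymm hMG
      apply sug_le_of_UT φ hφ hφφ hN1 hn M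
      intro v hv c hc
      exact (all_mem_cen φ hφ hφφ W hW M hPM hMG h hhM hhW v hv).2 c hc

end Cfsg.Agent.Helper28.SuSingMax
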