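import Mathlib
import Cfsg.Agent.Lib.Helper28.SuSingMax

set_option autoImplicit false
set_option linter.unusedSectionVars false

/-! The stabiliser in the special unitary group of a pair of complementary totally isotropic
subspaces is maximal (helper28). -/

namespace Cfsg.Agent.Helper28.SuTsPair

open Cfsg Matrix Cfsg.Agent.Helper28 Cfsg.Agent.Helper28.SubspaceMax Cfsg.Agent.Helper11.Herm
  Cfsg.Agent.Helper28.SuSingMax
open Cfsg.Agent.Helper11

/-- the action of invertible matrices on vectors -/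
@[reducible] def glAct (n : ℕ) (F : Type*) [Field F] :
    DistribMulAction (GL (Fin n) F) (Fin n → F) where
  smul g v := (g : Matrix (Fin n) (Fin n) F) *ᵥ v
  one_smul v := Matrix.one_mulVec v
  mul_smul g h v := (Matrix.mulVec_mulVec v (g : Matrix (Fin n) (Fin n) F)
    (h : Matrix (Fin n) (Fin n) F)).symm
  smul_zero _ := Matrix.mulVec_zero _
  smul_add _ u v := Matrix.mulVec_add _ u v

scoped[Cfsg.Agent.Helper28.SuTsPair] attribute [instance] Cfsg.Agent.Helper28.SuTsPair.glAct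

variable {F : Type*} [Field F] {n : ℕ}

theorem smul_def (g : GL (Fin n) F) (v : Fin n → F) :
    g • v = (g : Matrix (Fin n) (Fin n) F) *ᵥ v := rfl

theorem glSMulCommClass (n : ℕ) (F : Type*) [Field F] :
    SMulCommClass (GL (Fin n) F) F (Fin n → F) :=
  ⟨fun g a v => by rw [smul_def g, smul_def g, Matrix.mulVec_smul]⟩

scoped[Cfsg.Agent.Helper28.SuTsPair] attribute [instance]
  Cfsg.Agent.Helper28.SuTsPair.glSMulCommClass

theorem ext_smul {g h : GL (Fin n) F} (H : ∀ x : Fin n → F, g • x = h • x) : g = h :=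
  gl_ext g h H

variable (φ : F →+* F)

section general

theorem hdot_smul_smul (g : GL (Fin n) F) (hg : g ∈ UG (Fin n) φ) (u v : Fin n → F) :
    hdot φ (g • u) (g • v) = hdot φ u v :=
  IsU.hdot_mulVec φ ((mem_UG_iff φ g).mp hg) u v

theorem hdot_inv_smul (g : GL (Fin n) F) (hg : g ∈ UG (Fin n) φ) (x v : Fin n → F) :
    hdot φ (g⁻¹ • x) v = hdot φ x (g • v) := hdot_inv φ g hg x v

theorem hdot_neg_left (x y : Fin n → F) : hdot φ (-x) y = - hdot φ x y := by
  have := hdot_smul_left φ (-1) x y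
  rwa [neg_one_smul, neg_one_mul] at this

theorem hdot_neg_right (x y : Fin n → F) : hdot φ x (-y) = - hdot φ x y := by
  have := hdot_smul_right φ (-1) x y
  rwa [neg_one_smul, map_neg, map_one, neg_one_mul] at this

theorem finrank_span_pair_le (x y : Fin n → F) :
    Module.finrank F (Submodule.span F ({x, y} : Set (Fin n → F))) ≤ 2 := by
  classical
  have := finrank_span_finset_le_card (R := F) ({x, y} : Finset (Fin n → F))
  have h2 : ({x, y} : Finset (Fin n → F)).card ≤ 2 := Finset.card_le_two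
  rw [Finset.coe_insert, Finset.coe_singleton] at this
  exact this.trans h2

theorem exists_not_mem_of_finrank_lt (A B : Submodule F (Fin n → F))
    (h : Module.finrank F B < Module.finrank F A) : ∃ c ∈ A, c ∉ B := by
  by_contra hcon
  push Not at hcon
  have : A ≤ B := hcon
  have := Submodule.finrank_mono this
  omega

theorem exists_perp_not_mem (A B : Submodule F (Fin n → F)) (x y : Fin n → F)
    (h : Module.finrank F B + 2 < Module.finrank F A) :
    ∃ c ∈ A, hdot φ c x = 0 ∧ hdot φ c y = 0 ∧ c ∉ B := by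
  let L : Fin 2 → (Fin n → F) := ![φ ∘ x, φ ∘ y]
  let Φ : (Fin n → F) →ₗ[F] (Fin 2 → F) := Matrix.mulVecLin (Matrix.of L)
  have h1 := LinearMap.finrank_range_add_finrank_ker Φ
  have h2 := Submodule.finrank_le (LinearMap.range Φ)
  rw [Module.finrank_fintype_fun_eq_card, Fintype.card_fin] at h1 h2
  have h3 := Submodule.finrank_sup_add_finrank_inf_eq A (LinearMap.ker Φ)
  have h4 := Submodule.finrank_le (A ⊔ LinearMap.ker Φ)
  rw [Module.finrank_fintype_fun_eq_card, Fintype.card_fin] at h4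
  obtain ⟨c, hc, hcB⟩ := exists_not_mem_of_finrank_lt (A ⊓ LinearMap.ker Φ) B (by omega)
  have hk := LinearMap.mem_ker.mp hc.2
  refine ⟨c, hc.1, ?_, ?_, hcB⟩
  · have := congrFun hk 0
    unfold hdot
    rw [dotProduct_comm]
    exact this
  · have := congrFun hk 1
    unfold hdot
    rw [dotProduct_comm]
    exact this

end general

section siegel

theorem EE_smul (a b : Fin n → F) (μ : F) (ha : hdot φ a a = 0) (hba : hdot φ b a = 0)
    (hab : hdot φ a b = 0) (x : Fin n → F) :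
    EE φ a b μ • x = x + hdot φ x a • b - hdot φ x b • a + (μ * hdot φ x a) • a :=
  EE_mulVec φ a b μ ha hba hab x

theorem UT_smul (v : Fin n → F) (hv : hdot φ v v = 0) (c : F) (x : Fin n → F) :
    UT φ v c • x = x + (c * hdot φ x v) • v := UT_mulVec φ v hv c x

theorem UT_zero (c : F) : UT φ (0 : Fin n → F) c = 1 := by
  apply ext_smul
  intro x
  rw [UT_smul φ 0 (hdot_zero_left φ 0), smul_zero, add_zero, one_smul]

theorem conj_EE (g : GL (Fin n) F) (hg : g ∈ UG (Fin n) φ) (a b : Fin n → F) (μ : F)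
    (ha : hdot φ a a = 0) (hba : hdot φ b a = 0) (hab : hdot φ a b = 0) :
    g * EE φ a b μ * g⁻¹ = EE φ (g • a) (g • b) μ := by
  apply ext_smul
  intro x
  rw [mul_smul, mul_smul, EE_smul φ a b μ ha hba hab,
    EE_smul φ (g • a) (g • b) μ (by rw [hdot_smul_smul φ g hg, ha])
      (by rw [hdot_smul_smul φ g hg, hba]) (by rw [hdot_smul_smul φ g hg, hab]),
    hdot_inv_smul φ g hg, hdot_inv_smul φ g hg, smul_add, smul_sub, smul_add, smul_inv_smul,
    smul_comm g, smul_comm g, smul_comm g]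

/-- the product rule in the Heisenberg group at `c` -/
theorem EE_mul (c b b' : Fin n → F) (μ μ' : F) (hc : hdot φ c c = 0) (hbc : hdot φ b c = 0)
    (hcb : hdot φ c b = 0) (hb'c : hdot φ b' c = 0) (hcb' : hdot φ c b' = 0) :
    EE φ c b μ * EE φ c b' μ' = EE φ c (b + b') (μ + μ' - hdot φ b' b) := by
  apply ext_smul
  intro x
  rw [mul_smul, EE_smul φ c b' μ' hc hb'c hcb', EE_smul φ c b μ hc hbc hcb,
    EE_smul φ c (b + b') _ hc (by rw [hdot_add_left, hbc, hb'c, add_zero])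
      (by rw [hdot_add_right, hcb, hcb', add_zero])]
  simp only [hdot_add_left, hdot_sub_left, hdot_smul_left, hdot_add_right, hc, hb'c, hcb,
    mul_zero, add_zero, sub_zero]
  module

theorem EE_mul_UT (c b : Fin n → F) (μ t : F) (hc : hdot φ c c = 0) (hbc : hdot φ b c = 0)
    (hcb : hdot φ c b = 0) : EE φ c b μ * UT φ c t = EE φ c b (μ + t) := by
  apply ext_smul
  intro x
  rw [mul_smul, UT_smul φ c hc, EE_smul φ c b μ hc hbc hcb, EE_smul φ c b _ hc hbc hcb]
  simp only [hdot_add_left, hdot_smul_left, hc, hcb, mul_zero, add_zero]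
  module

end siegel

section pair

variable [Fintype F] (hφ : φ ≠ RingHom.id F) (hφφ : ∀ x, φ (φ x) = x)
  (U U' : Submodule F (Fin n → F)) (hU : ∀ u ∈ U, ∀ v ∈ U, hdot φ u v = 0)
  (hU' : ∀ u ∈ U', ∀ v ∈ U', hdot φ u v = 0)
  (hdec : ∀ v : Fin n → F, ∃ u ∈ U, ∃ u' ∈ U', v = u + u')

include hU hU' hdec in
theorem inter_zero {x : Fin n → F} (hx : x ∈ U) (hx' : x ∈ U') : x = 0 := by
  apply eq_zero_of_hdot_right φ
  intro v
  obtain ⟨u, hu, u', hu', rfl⟩ := hdec v
  rw [hdot_add_right, hU x hx u hu, hU' x hx' u' hu', add_zero]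

include hφφ hU hdec in
/-- separation inside `U` by a vector of `U'` -/
theorem exists_sepU' (S : Submodule F (Fin n → F)) (hS : S ≤ U)
    {y : Fin n → F} (hy : y ∈ U) (hyS : y ∉ S) :
    ∃ d ∈ U', (∀ s ∈ S, hdot φ s d = 0) ∧ hdot φ y d = 1 := by
  obtain ⟨v, hv, hyv⟩ := exists_perp_witness φ hφφ S y hyS
  obtain ⟨a, ha, a', ha', rfl⟩ := hdec v
  refine ⟨a', ha', fun s hs => ?_, ?_⟩
  · have := hv s hs
    rwa [hdot_add_right, hU s (hS hs) a ha, zero_add] at this
  · rwa [hdot_add_right, hU y hy a ha, zero_add] at hyv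

include hφφ hU hdec in
theorem exists_sep2 {c x : Fin n → F} (hc : c ∈ U) (hx : x ∈ U)
    (hxc : ∀ β : F, x ≠ β • c) : ∃ d ∈ U', hdot φ c d = 0 ∧ hdot φ x d = 1 := by
  obtain ⟨d, hd, hS, hxd⟩ := exists_sepU' φ hφφ U U' hU hdec (Submodule.span F {c})
    (by rw [Submodule.span_le]; intro z hz; rw [Set.mem_singleton_iff] at hz; rw [hz]; exact hc)
    hx (by
      intro h
      obtain ⟨β, hβ⟩ := Submodule.mem_span_singleton.mp h
      exact hxc β hβ.symm)
  exact ⟨d, hd, hS c (Submodule.mem_span_singleton_self c), hxd⟩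

include hφ hφφ hU hU' hdec in
/-- a Heisenberg element at `c` with direction in `U` forces all transvections at `c` -/
theorem cen_of_start (M : Subgroup (GL (Fin n) F))
    (hM : ∀ a ∈ U, ∀ b ∈ U', hdot φ a b = 0 → EE φ a b 0 ∈ M)
    {c x₀ : Fin n → F} (hc : c ∈ U) (hx₀ : x₀ ∈ U) (hx₀c : ∀ β : F, x₀ ≠ β • c) (ν : F)
    (hE : EE φ c x₀ ν ∈ M) : c ∈ Cen φ M := by
  obtain ⟨d, hd, hcd, hx₀d⟩ := exists_sep2 φ hφφ U U' hU hdec hc hx₀ hx₀c
  have hcc : hdot φ c c = 0 := hU c hc c hc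
  have hcx₀ : hdot φ c x₀ = 0 := hU c hc x₀ hx₀
  have hx₀c' : hdot φ x₀ c = 0 := hU x₀ hx₀ c hc
  have hdc : hdot φ d c = 0 := hdot_eq_zero_symm φ hφφ _ _ hcd
  have hdx₀ : hdot φ d x₀ = 1 := by rw [← hdot_conj φ hφφ, hx₀d, map_one]
  refine ⟨hcc, fun t ht => ?_⟩
  obtain ⟨a₁, ha₁⟩ := Witt.exists_trace_eq φ hφ hφφ 1 (map_one φ)
  obtain ⟨l, hl⟩ : ∃ l : F, l = -(a₁ * t) := ⟨_, rfl⟩
  have hcld : hdot φ c (l • d) = 0 := by rw [hdot_smul_right, hcd, mul_zero]
  have hldc : hdot φ (l • d) c = 0 := by rw [hdot_smul_left, hdc, mul_zero]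
  have hB : EE φ c (l • d) 0 ∈ M := hM c hc _ (U'.smul_mem _ hd) hcld
  have e1 : EE φ c x₀ ν * EE φ c (l • d) 0 = EE φ c (x₀ + l • d) (ν - l) := by
    rw [EE_mul φ c x₀ (l • d) ν 0 hcc hx₀c' hcx₀ hldc hcld, hdot_smul_left, hdx₀, mul_one,
      add_zero]
  have e2 : EE φ c (l • d) 0 * EE φ c x₀ ν = EE φ c (x₀ + l • d) (ν - φ l) := by
    rw [EE_mul φ c (l • d) x₀ 0 ν hcc hldc hcld hx₀c' hcx₀, hdot_smul_right, hx₀d, mul_one,
      zero_add, add_comm (l • d) x₀]
  have hφt : φ t = -t := by linear_combination ht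
  have e3 : UT φ c t = (EE φ c (l • d) 0 * EE φ c x₀ ν)⁻¹ *
      (EE φ c x₀ ν * EE φ c (l • d) 0) := by
    rw [eq_inv_mul_iff_mul_eq, e1, e2,
      EE_mul_UT φ c (x₀ + l • d) _ t hcc (by rw [hdot_add_left, hx₀c', hldc, add_zero])
        (by rw [hdot_add_right, hcx₀, hcld, add_zero])]
    congr 1
    rw [hl, map_neg, map_mul, hφt]
    linear_combination (-t) * ha₁
  rw [e3]
  exact M.mul_mem (M.inv_mem (M.mul_mem hB hE)) (M.mul_mem hE hB)

include hφφ hU hU' hdec in
/-- the transvection property spreads over all of `U` -/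
theorem cen_all_U (M : Subgroup (GL (Fin n) F)) (hMU : M ≤ UG (Fin n) φ)
    (hM : ∀ a ∈ U, ∀ b ∈ U', hdot φ a b = 0 → EE φ a b 0 ∈ M)
    {c : Fin n → F} (hc : c ∈ U) (hc0 : c ≠ 0) (hcM : c ∈ Cen φ M)
    {z : Fin n → F} (hz : z ∈ U) (hz0 : z ≠ 0) : z ∈ Cen φ M := by
  by_cases hdep : ∃ β : F, z = β • c
  · obtain ⟨β, rfl⟩ := hdep
    exact cen_scalar φ hφφ M β c hcM
  · push Not at hdep
    have hdep' : ∀ β : F, c ≠ β • z := by
      intro β hβ
      have hβ0 : β ≠ 0 := by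
        intro h
        apply hc0
        rw [hβ, h, zero_smul]
      apply hdep β⁻¹
      rw [hβ, smul_smul, inv_mul_cancel₀ hβ0, one_smul]
    obtain ⟨b₁, hb₁, hcb₁, hzb₁⟩ := exists_sep2 φ hφφ U U' hU hdec hc hz hdep
    obtain ⟨b₂, hb₂, hzb₂, hcb₂⟩ := exists_sep2 φ hφφ U U' hU hdec hz hc hdep'
    have hab : hdot φ (c - z) (b₁ + b₂) = 0 := by
      rw [hdot_sub_left, hdot_add_right, hdot_add_right, hcb₁, hzb₁, hzb₂, hcb₂]
      ring
    have hba : hdot φ (b₁ + b₂) (c - z) = 0 := hdot_eq_zero_symm φ hφφ _ _ hab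
    have haa : hdot φ (c - z) (c - z) = 0 := hU _ (U.sub_mem hc hz) _ (U.sub_mem hc hz)
    have hh : EE φ (c - z) (b₁ + b₂) 0 ∈ M := hM _ (U.sub_mem hc hz) _ (U'.add_mem hb₁ hb₂) hab
    have himg : EE φ (c - z) (b₁ + b₂) 0 • c = z := by
      rw [EE_smul φ _ _ _ haa hba hab, hdot_add_right, hcb₁, hcb₂, hU c hc _ (U.sub_mem hc hz)]
      simp
    rw [← himg]
    exact cen_smul φ M _ hh (hMU hh) c hcM

include hφφ hU hU' hdec in
/-- a Siegel element of `M` on a line missing `U'` gives a Heisenberg element with centre and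
direction in `U` -/
theorem start_of_line (hk : 5 ≤ Module.finrank F U)
    (M : Subgroup (GL (Fin n) F)) (hMU : M ≤ UG (Fin n) φ)
    (hM : ∀ a ∈ U, ∀ b ∈ U', hdot φ a b = 0 → EE φ a b 0 ∈ M)
    {x y x₁ x₁' y₁ y₁' : Fin n → F} (hx₁ : x₁ ∈ U) (hx₁' : x₁' ∈ U') (hy₁ : y₁ ∈ U)
    (hy₁' : y₁' ∈ U') (hx : x = x₁ + x₁') (hy : y = y₁ + y₁') (hxx : hdot φ x x = 0)
    (hxy : hdot φ x y = 0) (μ : F) (hE : EE φ x y μ ∈ M)
    (hind : ∀ α β : F, α • x₁ + β • y₁ = 0 → α = 0 ∧ β = 0) :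
    ∃ c ∈ U, ∃ x₀ ∈ U, ∃ ν : F, c ≠ 0 ∧ (∀ β : F, x₀ ≠ β • c) ∧ EE φ c x₀ ν ∈ M := by
  have hP := finrank_span_pair_le (F := F) x₁ y₁
  obtain ⟨c, hc, hcx, hcy, hcS⟩ := exists_perp_not_mem φ U
    (Submodule.span F ({x₁, y₁} : Set (Fin n → F))) x y (by omega)
  have hc0 : c ≠ 0 := by
    intro h
    apply hcS
    rw [h]
    exact Submodule.zero_mem _
  have hx₁0 : x₁ ≠ 0 := by
    intro h
    have := (hind 1 0 (by rw [h, smul_zero, zero_smul, add_zero])).1
    exact one_ne_zero this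
  have hx₁c : ∀ β : F, -x₁ ≠ β • c := by
    intro β hβ
    have hβ0 : β ≠ 0 := by
      intro h
      apply hx₁0
      rw [h, zero_smul] at hβ
      exact neg_eq_zero.mp hβ
    apply hcS
    have : c = (-β⁻¹) • x₁ := by
      rw [neg_smul, ← smul_neg, hβ, smul_smul, inv_mul_cancel₀ hβ0, one_smul]
    rw [this]
    exact Submodule.smul_mem _ _ (Submodule.subset_span (by simp))
  have hy₁S : y₁ ∉ Submodule.span F ({c, x₁} : Set (Fin n → F)) := by
    intro h
    obtain ⟨α, β, hαβ⟩ := Submodule.mem_span_pair.mp h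
    by_cases hα : α = 0
    · rw [hα, zero_smul, zero_add] at hαβ
      have := (hind β (-1) (by rw [hαβ, neg_smul, one_smul, add_neg_cancel])).2
      exact one_ne_zero (neg_eq_zero.mp this)
    · apply hcS
      have : c = α⁻¹ • (y₁ - β • x₁) := by
        rw [← hαβ, add_sub_cancel_right, smul_smul, inv_mul_cancel₀ hα, one_smul]
      rw [this]
      exact Submodule.smul_mem _ _ (Submodule.sub_mem _ (Submodule.subset_span (by simp))
        (Submodule.smul_mem _ _ (Submodule.subset_span (by simp))))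
  obtain ⟨d, hd, hSd, hy₁d⟩ := exists_sepU' φ hφφ U U' hU hdec
    (Submodule.span F ({c, x₁} : Set (Fin n → F))) (by
      rw [Submodule.span_le]
      intro z hz
      rcases hz with rfl | hz
      · exact hc
      · rw [Set.mem_singleton_iff] at hz
        rw [hz]; exact hx₁) hy₁ hy₁S
  have hcd : hdot φ c d = 0 := hSd c (Submodule.subset_span (by simp))
  have hdc : hdot φ d c = 0 := hdot_eq_zero_symm φ hφφ _ _ hcd
  have hx₁d : hdot φ x₁ d = 0 := hSd x₁ (Submodule.subset_span (by simp))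
  have hxd : hdot φ x d = 0 := by
    rw [hx, hdot_add_left, hx₁d, hU' x₁' hx₁' d hd, add_zero]
  have hdx : hdot φ d x = 0 := hdot_eq_zero_symm φ hφφ _ _ hxd
  have hyd : hdot φ y d = 1 := by
    rw [hy, hdot_add_left, hy₁d, hU' y₁' hy₁' d hd, add_zero]
  have hdy : hdot φ d y = 1 := by rw [← hdot_conj φ hφφ, hyd, map_one]
  have hyx : hdot φ y x = 0 := hdot_eq_zero_symm φ hφφ _ _ hxy
  have hcc : hdot φ c c = 0 := hU c hc c hc
  have hdd : hdot φ d d = 0 := hU' d hd d hd
  have hEc : EE φ x y μ • c = c := by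
    rw [EE_smul φ x y μ hxx hyx hxy, hcx, hcy]
    simp
  have hEd : EE φ x y μ • d = d - x := by
    rw [EE_smul φ x y μ hxx hyx hxy, hdx, hdy]
    simp [sub_eq_add_neg]
  have h1 : EE φ c (d - x) 0 ∈ M := by
    have := conj_EE φ (EE φ x y μ) (hMU hE) c d 0 hcc hdc hcd
    rw [hEc, hEd] at this
    rw [← this]
    exact M.mul_mem (M.mul_mem hE (hM c hc d hd hcd)) (M.inv_mem hE)
  have hxc : hdot φ x c = 0 := hdot_eq_zero_symm φ hφφ _ _ hcx
  have hcnd : hdot φ c (-d) = 0 := by rw [hdot_neg_right, hcd, neg_zero]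
  have hndc : hdot φ (-d) c = 0 := by rw [hdot_neg_left, hdc, neg_zero]
  have h2 : EE φ c (-x) 0 ∈ M := by
    have := EE_mul φ c (-d) (d - x) 0 0 hcc hndc hcnd
      (by rw [hdot_sub_left, hdc, hxc, sub_zero]) (by rw [hdot_sub_right, hcd, hcx, sub_zero])
    have e : -d + (d - x) = -x := by abel
    rw [hdot_neg_right, hdot_sub_left, hdd, hxd, sub_zero, neg_zero, sub_zero, add_zero, e] at this
    rw [← this]
    exact M.mul_mem (hM c hc _ (U'.neg_mem hd) hcnd) h1
  have hcx₁ : hdot φ c x₁ = 0 := hU c hc x₁ hx₁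
  have hcx₁' : hdot φ c x₁' = 0 := by
    rw [hx, hdot_add_right, hcx₁, zero_add] at hcx
    exact hcx
  have hx₁'c : hdot φ x₁' c = 0 := hdot_eq_zero_symm φ hφφ _ _ hcx₁'
  have h3 : EE φ c (-x₁) (0 + 0 - hdot φ x₁' (-x)) ∈ M := by
    have := EE_mul φ c (-x) x₁' 0 0 hcc (by rw [hdot_neg_left, hxc, neg_zero])
      (by rw [hdot_neg_right, hcx, neg_zero]) hx₁'c hcx₁'
    have e : -x + x₁' = -x₁ := by rw [hx]; abel
    rw [e] at this
    rw [← this]
    exact M.mul_mem h2 (hM c hc x₁' hx₁' hcx₁')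
  exact ⟨c, hc, -x₁, U.neg_mem hx₁, _, hc0, hx₁c, h3⟩

theorem maps_union (g : GL (Fin n) F) (W : Submodule F (Fin n → F))
    (h : ∀ p ∈ W, g • p ∈ U ∨ g • p ∈ U') : (∀ p ∈ W, g • p ∈ U) ∨ (∀ p ∈ W, g • p ∈ U') := by
  by_contra hcon
  push Not at hcon
  obtain ⟨⟨p₁, hp₁, hp₁U⟩, ⟨p₂, hp₂, hp₂U'⟩⟩ := hcon
  have h1 : g • p₁ ∈ U' := (h p₁ hp₁).resolve_left hp₁U
  have h2 : g • p₂ ∈ U := (h p₂ hp₂).resolve_right hp₂U'
  rcases h (p₁ + p₂) (W.add_mem hp₁ hp₂) with h3 | h3
  · rw [smul_add] at h3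
    apply hp₁U
    have := U.sub_mem h3 h2
    rwa [add_sub_cancel_right] at this
  · rw [smul_add] at h3
    apply hp₂U'
    have := U'.sub_mem h3 h1
    rwa [add_sub_cancel_left] at this

theorem indep_of_not_dep {a y : Fin n → F} (ha : a ≠ 0) (hdep : ∀ β : F, y ≠ β • a)
    (α β' : F) (h : α • a + β' • y = 0) : α = 0 ∧ β' = 0 := by
  by_cases hβ'0 : β' = 0
  · rw [hβ'0, zero_smul, add_zero] at h
    rcases smul_eq_zero.mp h with h' | h'
    · exact ⟨h', hβ'0⟩
    · exact absurd h' ha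
  · exfalso
    apply hdep (-α / β')
    have : β' • y = -(α • a) := eq_neg_of_add_eq_zero_right h
    calc y = β'⁻¹ • (β' • y) := by rw [smul_smul, inv_mul_cancel₀ hβ'0, one_smul]
      _ = (-α / β') • a := by
          rw [this, smul_neg, smul_smul, ← neg_smul]
          congr 1
          field_simp

/-- a sum of two members of `Cen` with trace-zero product is in `Cen` -/
theorem hyp_mem_cen (M : Subgroup (GL (Fin n) F)) (hMU : M ≤ UG (Fin n) φ)
    (a b : Fin n → F) (ha : a ∈ Cen φ M) (hb : b ∈ Cen φ M) (hab : hdot φ a b ≠ 0)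
    (htr : hdot φ a b + φ (hdot φ a b) = 0) : a + b ∈ Cen φ M := by
  have ht : (hdot φ a b)⁻¹ + φ ((hdot φ a b)⁻¹) = 0 := by
    have hφ0 : φ (hdot φ a b) ≠ 0 := (map_ne_zero φ).mpr hab
    rw [map_inv₀]
    field_simp
    linear_combination htr
  have hmem := hb.2 _ ht
  have := cen_smul φ M _ hmem (hMU hmem) a ha
  have e : ((UT φ b (hdot φ a b)⁻¹ : GL (Fin n) F) : Matrix (Fin n) (Fin n) F) *ᵥ a = a + b := by
    rw [UT_mulVec φ b hb.1, inv_mul_cancel₀ hab, one_smul]
  rwa [e] at this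

include hφ hφφ hU hU' hdec in
/-- **a subgroup of the unitary group containing the Siegel elements of the pair stabiliser, a swap
and an element not stabilising the pair contains the special unitary group** -/
theorem pair_top (hN1 : ∀ c : F, c ≠ 0 → φ c = c → ∃ l : F, l ≠ 0 ∧ l * φ l = c) (hn : 4 ≤ n)
    (hk : 5 ≤ Module.finrank F U) (hk' : 5 ≤ Module.finrank F U')
    (M : Subgroup (GL (Fin n) F)) (hMU : M ≤ UG (Fin n) φ)
    (hM : ∀ a ∈ U, ∀ b ∈ U', hdot φ a b = 0 → EE φ a b 0 ∈ M)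
    (s : GL (Fin n) F) (hsM : s ∈ M) (hsU : ∀ u ∈ U, s • u ∈ U')
    (hsU' : ∀ u' ∈ U', s • u' ∈ U) (g : GL (Fin n) F) (hgM : g ∈ M)
    (hg1 : ¬ ((∀ u ∈ U, g • u ∈ U) ∧ (∀ u' ∈ U', g • u' ∈ U')))
    (hg2 : ¬ ((∀ u ∈ U, g • u ∈ U') ∧ (∀ u' ∈ U', g • u' ∈ U))) : SUg n φ ≤ M := by
  have hUne : ∃ u ∈ U, u ≠ 0 := by
    have hpos : 0 < Module.finrank F U := by omega
    obtain ⟨⟨w, hw⟩, hw0⟩ := Module.finrank_pos_iff_exists_ne_zero.mp hpos
    exact ⟨w, hw, fun h => hw0 (Subtype.ext h)⟩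
  have hU'ne : ∃ u ∈ U', u ≠ 0 := by
    have hpos : 0 < Module.finrank F U' := by omega
    obtain ⟨⟨w, hw⟩, hw0⟩ := Module.finrank_pos_iff_exists_ne_zero.mp hpos
    exact ⟨w, hw, fun h => hw0 (Subtype.ext h)⟩
  -- step A: a point of `U` moved off both subspaces
  obtain ⟨g', hg'M, p, hp, hxU, hxU'⟩ : ∃ g' ∈ M, ∃ p ∈ U, g' • p ∉ U ∧ g' • p ∉ U' := by
    by_contra hcon
    push Not at hcon
    have hA : ∀ p ∈ U, g • p ∈ U ∨ g • p ∈ U' := by
      intro p hp
      by_cases h : g • p ∈ U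
      · left; exact h
      · right; exact hcon g hgM p hp h
    have hB : ∀ p' ∈ U', g • p' ∈ U ∨ g • p' ∈ U' := by
      intro p' hp'
      have e : (g * s⁻¹) • (s • p') = g • p' := by rw [mul_smul, inv_smul_smul]
      by_cases h : g • p' ∈ U
      · left; exact h
      · right
        have := hcon (g * s⁻¹) (M.mul_mem hgM (M.inv_mem hsM)) (s • p') (hsU' p' hp') (by
          rw [e]; exact h)
        rwa [e] at this
    rcases maps_union U U' g U hA with hA1 | hA2
    · rcases maps_union U U' g U' hB with hB1 | hB2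
      · have hst := stab_of_maps U g hA1
        obtain ⟨u', hu', hu'0⟩ := hU'ne
        apply hu'0
        exact inter_zero φ U U' hU hU' hdec ((hst u').mpr (hB1 u' hu')) hu'
      · exact hg1 ⟨hA1, hB2⟩
    · rcases maps_union U U' g U' hB with hB1 | hB2
      · exact hg2 ⟨hA2, hB1⟩
      · have hst := stab_of_maps U' g hB2
        obtain ⟨u, hu, hu0⟩ := hUne
        apply hu0
        exact inter_zero φ U U' hU hU' hdec hu ((hst u).mpr (hA2 u hu))
  -- step B: a Siegel element of `M` on a line missing `U'`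
  obtain ⟨a₀, ha₀, b₀, hb₀, hxdec⟩ := hdec (g' • p)
  have ha₀0 : a₀ ≠ 0 := by
    intro h
    apply hxU'
    rw [hxdec, h, zero_add]
    exact hb₀
  have hb₀0 : b₀ ≠ 0 := by
    intro h
    apply hxU
    rw [hxdec, h, add_zero]
    exact ha₀
  have hP := finrank_span_pair_le (F := F) (g'⁻¹ • a₀) (g'⁻¹ • b₀)
  obtain ⟨b, hb, hbp, -, hbS⟩ := exists_perp_not_mem φ U'
    (Submodule.span F ({g'⁻¹ • a₀, g'⁻¹ • b₀} : Set (Fin n → F))) p p (by omega)
  have hpb : hdot φ p b = 0 := hdot_eq_zero_symm φ hφφ _ _ hbp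
  have hyspan : ∀ α β : F, g' • b ≠ α • a₀ + β • b₀ := by
    intro α β h
    apply hbS
    have : b = α • g'⁻¹ • a₀ + β • g'⁻¹ • b₀ := by
      rw [smul_comm α, smul_comm β, ← smul_add, ← h, inv_smul_smul]
    rw [this]
    exact Submodule.add_mem _ (Submodule.smul_mem _ _ (Submodule.subset_span (by simp)))
      (Submodule.smul_mem _ _ (Submodule.subset_span (by simp)))
  have hpp : hdot φ p p = 0 := hU p hp p hp
  have hg'U : g' ∈ UG (Fin n) φ := hMU hg'M
  have hsUG : s ∈ UG (Fin n) φ := hMU hsM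
  have hExy : EE φ (g' • p) (g' • b) 0 ∈ M := by
    rw [← conj_EE φ g' hg'U p b 0 hpp hbp hpb]
    exact M.mul_mem (M.mul_mem hg'M (hM p hp b hb hpb)) (M.inv_mem hg'M)
  have hxx : hdot φ (g' • p) (g' • p) = 0 := by rw [hdot_smul_smul φ g' hg'U, hpp]
  have hxy : hdot φ (g' • p) (g' • b) = 0 := by rw [hdot_smul_smul φ g' hg'U, hpb]
  have hyx : hdot φ (g' • b) (g' • p) = 0 := by rw [hdot_smul_smul φ g' hg'U, hbp]
  obtain ⟨y₁, hy₁, y₁', hy₁', hydec⟩ := hdec (g' • b)
  obtain ⟨c, hc, x₀, hx₀, ν, hc0, hx₀c, hE'⟩ : ∃ c ∈ U, ∃ x₀ ∈ U, ∃ ν : F, c ≠ 0 ∧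
      (∀ β : F, x₀ ≠ β • c) ∧ EE φ c x₀ ν ∈ M := by
    by_cases hdep : ∃ β : F, y₁ = β • a₀
    · obtain ⟨β, hβ⟩ := hdep
      have hy₁'b₀ : ∀ β' : F, y₁' ≠ β' • b₀ := by
        intro β' hβ'
        apply hyspan β β'
        rw [hydec, hβ, hβ']
      have hEs : EE φ (s • g' • p) (s • g' • b) 0 ∈ M := by
        rw [← conj_EE φ s hsUG _ _ 0 hxx hyx hxy]
        exact M.mul_mem (M.mul_mem hsM hExy) (M.inv_mem hsM)
      refine start_of_line φ hφφ U U' hU hU' hdec hk M hMU hM (hsU' b₀ hb₀) (hsU a₀ ha₀)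
        (hsU' y₁' hy₁') (hsU y₁ hy₁) (by rw [hxdec, smul_add, add_comm])
        (by rw [hydec, smul_add, add_comm]) (by rw [hdot_smul_smul φ s hsUG, hxx])
        (by rw [hdot_smul_smul φ s hsUG, hxy]) 0 hEs ?_
      intro α β' h
      rw [smul_comm α, smul_comm β', ← smul_add, smul_eq_zero_iff_eq] at h
      exact indep_of_not_dep hb₀0 hy₁'b₀ α β' h
    · push Not at hdep
      exact start_of_line φ hφφ U U' hU hU' hdec hk M hMU hM ha₀ hb₀ hy₁ hy₁' hxdec hydec hxx
        hxy 0 hExy (indep_of_not_dep ha₀0 hdep)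
  -- step C: all of `U` and `U'`
  have hcC : c ∈ Cen φ M := cen_of_start φ hφ hφφ U U' hU hU' hdec M hM hc hx₀ hx₀c ν hE'
  have hzero : (0 : Fin n → F) ∈ Cen φ M := by
    refine ⟨hdot_zero_left φ 0, fun t _ => ?_⟩
    rw [UT_zero]
    exact M.one_mem
  have hRU : ∀ z ∈ U, z ∈ Cen φ M := by
    intro z hz
    by_cases hz0 : z = 0
    · rw [hz0]; exact hzero
    · exact cen_all_U φ hφφ U U' hU hU' hdec M hMU hM hc hc0 hcC hz hz0
  have hRU' : ∀ z' ∈ U', z' ∈ Cen φ M := by
    intro z' hz'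
    have h1 : s • z' ∈ Cen φ M := hRU _ (hsU' z' hz')
    have h2 := cen_smul φ M s⁻¹ (M.inv_mem hsM) (hMU (M.inv_mem hsM)) _ h1
    have e : ((s⁻¹ : GL (Fin n) F) : Matrix (Fin n) (Fin n) F) *ᵥ (s • z') = z' :=
      inv_smul_smul s z'
    rwa [e] at h2
  -- step D: all isotropic vectors
  obtain ⟨τ, hτ0, hτ⟩ := Witt.exists_trace_zero φ hφ hφφ
  have hall : ∀ v : Fin n → F, hdot φ v v = 0 → v ∈ Cen φ M := by
    intro v hv
    obtain ⟨u, hu, u', hu', rfl⟩ := hdec v
    have htr : hdot φ u u' + φ (hdot φ u u') = 0 := by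
      rw [hdot_add_left, hdot_add_right, hdot_add_right, hU u hu u hu, hU' u' hu' u' hu',
        ← hdot_conj φ hφφ u u'] at hv
      linear_combination hv
    by_cases hne : hdot φ u u' = 0
    · by_cases hu0 : u = 0
      · rw [hu0, zero_add]
        exact hRU' u' hu'
      · obtain ⟨x, hx⟩ : ∃ x, hdot φ u x ≠ 0 := by
          by_contra hcon
          push Not at hcon
          exact hu0 (eq_zero_of_hdot_right φ u hcon)
        obtain ⟨a, ha, a', ha', rfl⟩ := hdec x
        rw [hdot_add_right, hU u hu a ha, zero_add] at hx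
        obtain ⟨a'', ha'', hρ0, hρ⟩ : ∃ a'' ∈ U', hdot φ u a'' ≠ 0 ∧
            hdot φ u a'' + φ (hdot φ u a'') = 0 := by
          refine ⟨(φ (τ * (hdot φ u a')⁻¹)) • a', U'.smul_mem _ ha', ?_, ?_⟩
          · rw [hdot_smul_right, hφφ, mul_assoc, inv_mul_cancel₀ hx, mul_one]
            exact hτ0
          · rw [hdot_smul_right, hφφ, mul_assoc, inv_mul_cancel₀ hx, mul_one]
            exact hτ
        have h1 : u + a'' ∈ Cen φ M :=
          hyp_mem_cen φ M hMU u a'' (hRU u hu) (hRU' a'' ha'') hρ0 hρ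
        have e3 : hdot φ (u + a'') (u' - a'') = - hdot φ u a'' := by
          rw [hdot_add_left, hdot_sub_right, hdot_sub_right, hne, hU' a'' ha'' u' hu',
            hU' a'' ha'' a'' ha'']
          ring
        have := hyp_mem_cen φ M hMU (u + a'') (u' - a'') h1 (hRU' _ (U'.sub_mem hu' ha''))
          (by rw [e3]; exact neg_ne_zero.mpr hρ0) (by
            rw [e3, map_neg]
            linear_combination -hρ)
        have e : u + a'' + (u' - a'') = u + u' := by abel
        rwa [e] at this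
    · exact hyp_mem_cen φ M hMU u u' (hRU u hu) (hRU' u' hu') hne htr
  apply sug_le_of_UT φ hφ hφφ hN1 hn M
  intro v hv c hc
  exact (hall v hv).2 c hc

end pair

section swap

variable [Fintype F] (hφ : φ ≠ RingHom.id F) (hφφ : ∀ x, φ (φ x) = x)
  (U U' : Submodule F (Fin n → F)) (hU : ∀ u ∈ U, ∀ v ∈ U, hdot φ u v = 0)
  (hU' : ∀ u ∈ U', ∀ v ∈ U', hdot φ u v = 0)
  (hdec : ∀ v : Fin n → F, ∃ u ∈ U, ∃ u' ∈ U', v = u + u')

theorem map_eq_of_maps (h : GL (Fin n) F) (A B : Submodule F (Fin n → F))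
    (hAB : ∀ a ∈ A, h • a ∈ B) (hfr : Module.finrank F A = Module.finrank F B) :
    A.map (Matrix.toLin' (h : Matrix (Fin n) (Fin n) F)) = B := by
  apply Submodule.eq_of_le_of_finrank_eq
  · rintro _ ⟨a, ha, rfl⟩
    rw [Matrix.toLin'_apply]
    exact hAB a ha
  · have hinj : Function.Injective
        ((Matrix.toLin' (h : Matrix (Fin n) (Fin n) F)).domRestrict A) := by
      intro a b hab
      apply Subtype.ext
      have hab' : h • (a : Fin n → F) = h • (b : Fin n → F) := by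
        rw [LinearMap.domRestrict_apply, LinearMap.domRestrict_apply, Matrix.toLin'_apply,
          Matrix.toLin'_apply] at hab
        exact hab
      exact MulAction.injective h hab'
    have := LinearMap.finrank_range_of_inj hinj
    rw [LinearMap.range_domRestrict] at this
    rw [this, hfr]

/-- the element interchanging `e` and `f` up to scalars -/
noncomputable def wv (e f : Fin n → F) (a b : F) : GL (Fin n) F :=
  UT φ e a * UT φ f b * UT φ e a

theorem wv_smul (e f x : Fin n → F) (a b : F) (hab : a * b = -1) (hee : hdot φ e e = 0)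
    (hff : hdot φ f f = 0) (hef : hdot φ e f = 1) (hfe : hdot φ f e = 1) :
    wv φ e f a b • x = x + (a * hdot φ x e - hdot φ x f) • e +
      (b * hdot φ x f - hdot φ x e) • f := by
  unfold wv
  rw [mul_smul, mul_smul, UT_smul φ e hee, UT_smul φ f hff, UT_smul φ e hee]
  simp only [hdot_add_left, hdot_smul_left, hee, hff, hef, hfe, mul_zero, add_zero, mul_one]
  have h1 : b * (hdot φ x f + a * hdot φ x e) = b * hdot φ x f - hdot φ x e := by
    linear_combination hdot φ x e * hab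
  have h2 : a * (hdot φ x e + b * (hdot φ x f + a * hdot φ x e)) = - hdot φ x f := by
    linear_combination (hdot φ x f + a * hdot φ x e) * hab
  rw [h2, h1]
  module

theorem wv_mem (hφφ : ∀ x, φ (φ x) = x) (e f : Fin n → F) (a b : F) (ha : a + φ a = 0)
    (hb : b + φ b = 0) (hee : hdot φ e e = 0) (hff : hdot φ f f = 0) :
    wv φ e f a b ∈ SUg n φ := by
  have h1 : UT φ e a ∈ SUg n φ := ⟨UT_mem_UG φ hφφ e hee a ha, UT_mem_SL φ e a⟩
  have h2 : UT φ f b ∈ SUg n φ := ⟨UT_mem_UG φ hφφ f hff b hb, UT_mem_SL φ f b⟩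
  exact Subgroup.mul_mem _ (Subgroup.mul_mem _ h1 h2) h1

include hφ hφφ hU hU' hdec in
/-- a special unitary element interchanging the two subspaces -/
theorem exists_swap (hfr : Module.finrank F U' = Module.finrank F U) :
    ∃ s : GL (Fin n) F, s ∈ SUg n φ ∧ (∀ u ∈ U, s • u ∈ U') ∧ (∀ u' ∈ U', s • u' ∈ U) := by
  classical
  obtain ⟨a, ha0, ha⟩ := Witt.exists_trace_zero φ hφ hφφ
  obtain ⟨b, hbdef⟩ : ∃ b : F, b = -a⁻¹ := ⟨_, rfl⟩
  have hab : a * b = -1 := by rw [hbdef, mul_neg, mul_inv_cancel₀ ha0]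
  have hb : b + φ b = 0 := by
    have hφ0 : φ a ≠ 0 := (map_ne_zero φ).mpr ha0
    rw [hbdef, map_neg, map_inv₀]
    field_simp
    linear_combination -ha
  let e : Module.Basis (Fin (Module.finrank F U)) F U := Module.finBasis F U
  have hli : LinearIndependent F (fun j => ((e j : U) : Fin n → F)) :=
    e.linearIndependent.map' U.subtype (Submodule.ker_subtype U)
  have hdual : ∀ i, ∃ d ∈ U', (∀ j, j ≠ i → hdot φ ((e j : U) : Fin n → F) d = 0) ∧
      hdot φ ((e i : U) : Fin n → F) d = 1 := by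
    intro i
    have hnot : ((e i : U) : Fin n → F) ∉ Submodule.span F
        ((fun j => ((e j : U) : Fin n → F)) '' {j | j ≠ i}) :=
      hli.notMem_span_image (s := {j | j ≠ i}) (x := i) (by simp)
    obtain ⟨d, hd, hS, hid⟩ := exists_sepU' φ hφφ U U' hU hdec _ (by
      rw [Submodule.span_le]
      rintro _ ⟨j, -, rfl⟩
      exact (e j).2) (e i).2 hnot
    exact ⟨d, hd, fun j hj => hS _ (Submodule.subset_span ⟨j, hj, rfl⟩), hid⟩
  choose f hfU' hf0 hf1 using hdual
  have hef : ∀ i j, hdot φ ((e j : U) : Fin n → F) (f i) = if j = i then 1 else 0 := by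
    intro i j
    by_cases hji : j = i
    · rw [if_pos hji, hji]; exact hf1 i
    · rw [if_neg hji]; exact hf0 i j hji
  have hfe : ∀ i j, hdot φ (f i) ((e j : U) : Fin n → F) = if j = i then 1 else 0 := by
    intro i j
    rw [← hdot_conj φ hφφ, hef]
    by_cases hji : j = i
    · rw [if_pos hji, map_one]
    · rw [if_neg hji, map_zero]
  have hee : ∀ i j, hdot φ ((e i : U) : Fin n → F) ((e j : U) : Fin n → F) = 0 :=
    fun i j => hU _ (e i).2 _ (e j).2
  have hff : ∀ i j, hdot φ (f i) (f j) = 0 := fun i j => hU' _ (hfU' i) _ (hfU' j)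
  have hw : ∀ i x, wv φ ((e i : U) : Fin n → F) (f i) a b • x =
      x + (a * hdot φ x ((e i : U) : Fin n → F) - hdot φ x (f i)) • ((e i : U) : Fin n → F) +
        (b * hdot φ x (f i) - hdot φ x ((e i : U) : Fin n → F)) • f i := fun i x =>
    wv_smul φ _ _ x a b hab (hee i i) (hff i i) (hf1 i) (by rw [hfe, if_pos rfl])
  have hr_e : ∀ i j, wv φ ((e i : U) : Fin n → F) (f i) a b • ((e j : U) : Fin n → F) =
      if j = i then b • f i else ((e j : U) : Fin n → F) := by
    intro i j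
    rw [hw, hee, hef]
    by_cases hji : j = i
    · rw [if_pos hji, if_pos hji, hji]
      simp
    · rw [if_neg hji, if_neg hji]
      simp
  have hr_f : ∀ i j, wv φ ((e i : U) : Fin n → F) (f i) a b • f j =
      if j = i then a • ((e i : U) : Fin n → F) else f j := by
    intro i j
    rw [hw, hff, hfe]
    by_cases hji : j = i
    · rw [if_pos hji.symm, if_pos hji, hji]
      simp
    · rw [if_neg (fun h => hji h.symm), if_neg hji]
      simp
  have hP : ∀ l : List (Fin (Module.finrank F U)), l.Nodup →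
      (∀ j, (l.map (fun i => wv φ ((e i : U) : Fin n → F) (f i) a b)).prod •
          ((e j : U) : Fin n → F) =
        if j ∈ l then b • f j else ((e j : U) : Fin n → F)) ∧
      (∀ j, (l.map (fun i => wv φ ((e i : U) : Fin n → F) (f i) a b)).prod • f j =
        if j ∈ l then a • ((e j : U) : Fin n → F) else f j) := by
    intro l
    induction l with
    | nil =>
      intro _
      refine ⟨fun j => ?_, fun j => ?_⟩ <;> simp
    | cons i l ih =>
      intro hnd
      obtain ⟨hil, hl⟩ := List.nodup_cons.mp hnd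
      obtain ⟨ih1, ih2⟩ := ih hl
      refine ⟨fun j => ?_, fun j => ?_⟩
      · rw [List.map_cons, List.prod_cons, mul_smul, ih1 j]
        by_cases hjl : j ∈ l
        · have hji : j ≠ i := fun h => hil (h ▸ hjl)
          rw [if_pos hjl, smul_comm, hr_f, if_neg hji, if_pos (List.mem_cons_of_mem _ hjl)]
        · rw [if_neg hjl, hr_e]
          by_cases hji : j = i
          · rw [if_pos hji, if_pos (by rw [hji]; exact List.mem_cons_self), hji]
          · rw [if_neg hji, if_neg (by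
              intro h
              rcases List.mem_cons.mp h with h | h
              · exact hji h
              · exact hjl h)]
      · rw [List.map_cons, List.prod_cons, mul_smul, ih2 j]
        by_cases hjl : j ∈ l
        · have hji : j ≠ i := fun h => hil (h ▸ hjl)
          rw [if_pos hjl, smul_comm, hr_e, if_neg hji, if_pos (List.mem_cons_of_mem _ hjl)]
        · rw [if_neg hjl, hr_f]
          by_cases hji : j = i
          · rw [if_pos hji, if_pos (by rw [hji]; exact List.mem_cons_self), hji]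
          · rw [if_neg hji, if_neg (by
              intro h
              rcases List.mem_cons.mp h with h | h
              · exact hji h
              · exact hjl h)]
  obtain ⟨hs1, hs2⟩ := hP (List.finRange _) (List.nodup_finRange _)
  obtain ⟨s, hsdef⟩ : ∃ s, s = ((List.finRange (Module.finrank F U)).map
    (fun i => wv φ ((e i : U) : Fin n → F) (f i) a b)).prod := ⟨_, rfl⟩
  rw [← hsdef] at hs1 hs2
  simp only [List.mem_finRange, if_true] at hs1 hs2
  have hsSU : s ∈ SUg n φ := by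
    rw [hsdef]
    apply Subgroup.list_prod_mem
    intro x hx
    obtain ⟨i, -, rfl⟩ := List.mem_map.mp hx
    exact wv_mem φ hφφ _ _ a b ha hb (hee i i) (hff i i)
  -- the action on `U`
  have hact : ∀ u ∈ U, s • u ∈ U' ∧ s • (s • u) = -u := by
    intro u hu
    have hrep := congrArg (fun z : U => (z : Fin n → F)) (e.sum_repr ⟨u, hu⟩)
    simp only [Submodule.coe_sum, Submodule.coe_smul] at hrep
    generalize e.repr ⟨u, hu⟩ = c at hrep
    have h1 : s • u = ∑ j, (c j) • b • f j := by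
      rw [← hrep, Finset.smul_sum]
      apply Finset.sum_congr rfl
      intro j _
      rw [smul_comm, hs1]
    refine ⟨?_, ?_⟩
    · rw [h1]
      exact Submodule.sum_mem _ (fun j _ => U'.smul_mem _ (U'.smul_mem _ (hfU' j)))
    · rw [h1, Finset.smul_sum]
      conv_rhs => rw [← hrep]
      rw [← Finset.sum_neg_distrib]
      apply Finset.sum_congr rfl
      intro j _
      rw [smul_comm s, smul_comm s, hs2, smul_smul, smul_smul, mul_assoc, mul_comm b a, hab]
      simp
  refine ⟨s, hsSU, fun u hu => (hact u hu).1, fun u' hu' => ?_⟩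
  have hmap := map_eq_of_maps s U U' (fun u hu => (hact u hu).1) hfr.symm
  rw [← hmap] at hu'
  obtain ⟨u, hu, rfl⟩ := hu'
  rw [Matrix.toLin'_apply, ← smul_def, (hact u hu).2]
  exact U.neg_mem hu

end swap

section glue

variable [Fintype F] (hφ : φ ≠ RingHom.id F) (hφφ : ∀ x, φ (φ x) = x)
  (D : Fin 2 → Submodule F (Fin n → F))

theorem mem_decomp_of_fix (h : GL (Fin n) F) (h0 : ∀ u ∈ D 0, h • u ∈ D 0)
    (h1 : ∀ u ∈ D 1, h • u ∈ D 1) : h ∈ Cfsg.Geo.decompositionStabilizer D := by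
  refine ⟨1, fun i => ?_⟩
  fin_cases i
  · exact map_eq_of_maps h (D 0) (D 0) h0 rfl
  · exact map_eq_of_maps h (D 1) (D 1) h1 rfl

theorem mem_decomp_of_swap (h : GL (Fin n) F) (h0 : ∀ u ∈ D 0, h • u ∈ D 1)
    (h1 : ∀ u ∈ D 1, h • u ∈ D 0) (hfr : Module.finrank F (D 1) = Module.finrank F (D 0)) :
    h ∈ Cfsg.Geo.decompositionStabilizer D := by
  refine ⟨Equiv.swap 0 1, fun i => ?_⟩
  fin_cases i
  · exact map_eq_of_maps h (D 0) (D 1) h0 hfr.symm
  · exact map_eq_of_maps h (D 1) (D 0) h1 hfr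

include hφ hφφ in
/-- **the stabiliser in the special unitary group of a pair of complementary totally isotropic
subspaces is maximal** -/
theorem maximal_pair (hN1 : ∀ c : F, c ≠ 0 → φ c = c → ∃ l : F, l ≠ 0 ∧ l * φ l = c) (hn : 4 ≤ n)
    (hU : ∀ u ∈ D 0, ∀ v ∈ D 0, hdot φ u v = 0) (hU' : ∀ u ∈ D 1, ∀ v ∈ D 1, hdot φ u v = 0)
    (hdec : ∀ v : Fin n → F, ∃ u ∈ D 0, ∃ u' ∈ D 1, v = u + u')
    (hk : 5 ≤ Module.finrank F (D 0)) (hfr : Module.finrank F (D 1) = Module.finrank F (D 0)) :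
    Cfsg.Geo.IsMaximalIn (SUg n φ) (Cfsg.Geo.decompositionStabilizer D ⊓ SUg n φ) := by
  have hroot : ∀ a ∈ D 0, ∀ b ∈ D 1, hdot φ a b = 0 →
      EE φ a b 0 ∈ Cfsg.Geo.decompositionStabilizer D ⊓ SUg n φ := by
    intro a ha b hb hab
    have hba : hdot φ b a = 0 := hdot_eq_zero_symm φ hφφ _ _ hab
    have haa : hdot φ a a = 0 := hU a ha a ha
    refine ⟨mem_decomp_of_fix D _ (fun u hu => ?_) (fun u hu => ?_),
      EE_mem_UG φ hφφ a b 0 haa hba hab (by rw [map_zero, hU' b hb b hb]; ring),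
      EE_mem_SL φ a b 0⟩
    · rw [EE_smul φ a b 0 haa hba hab, hU u hu a ha, zero_smul, add_zero, mul_zero, zero_smul,
        add_zero]
      exact (D 0).sub_mem hu ((D 0).smul_mem _ ha)
    · rw [EE_smul φ a b 0 haa hba hab, hU' u hu b hb, zero_smul, sub_zero, zero_mul, zero_smul,
        add_zero]
      exact (D 1).add_mem hu ((D 1).smul_mem _ hb)
  refine ⟨?_, fun M hHM hMG => ?_⟩
  · apply lt_of_le_of_ne inf_le_right
    intro heq
    have hpos : 0 < Module.finrank F (D 0) := by omega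
    obtain ⟨⟨c, hc⟩, hc0'⟩ := Module.finrank_pos_iff_exists_ne_zero.mp hpos
    have hc0 : c ≠ 0 := fun h => hc0' (Subtype.ext h)
    have hfs : Module.finrank F (Submodule.span F {c}) = 1 := finrank_span_singleton hc0
    obtain ⟨x, hx, hxS⟩ := exists_not_mem_of_finrank_lt (D 0) (Submodule.span F {c}) (by omega)
    have hxc : ∀ β : F, x ≠ β • c := by
      intro β hβ
      apply hxS
      rw [hβ]
      exact Submodule.smul_mem _ _ (Submodule.mem_span_singleton_self c)
    obtain ⟨d, hd, hcd, hxd⟩ := exists_sep2 φ hφφ (D 0) (D 1) hU hdec hc hx hxc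
    have hcx : hdot φ c x = 0 := hU c hc x hx
    have hxc' : hdot φ x c = 0 := hU x hx c hc
    have hcc : hdot φ c c = 0 := hU c hc c hc
    have hg : EE φ c x 0 ∈ SUg n φ :=
      ⟨EE_mem_UG φ hφφ c x 0 hcc hxc' hcx (by rw [map_zero, hU x hx x hx]; ring),
        EE_mem_SL φ c x 0⟩
    rw [← heq] at hg
    obtain ⟨σ, hσ⟩ := hg.1
    have hdc : hdot φ d c = 0 := hdot_eq_zero_symm φ hφφ _ _ hcd
    have hdx : hdot φ d x = 1 := by rw [← hdot_conj φ hφφ, hxd, map_one]
    have himg : EE φ c x 0 • d = d - c := by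
      rw [EE_smul φ c x 0 hcc hxc' hcx, hdc, hdx]
      simp
    have hmem : EE φ c x 0 • d ∈ (D 1).map (Matrix.toLin'
        ((EE φ c x 0 : GL (Fin n) F) : Matrix (Fin n) (Fin n) F)) := ⟨d, hd, by
      rw [Matrix.toLin'_apply]; rfl⟩
    have hσ1 := hσ 1
    have hmem' : EE φ c x 0 • d ∈ D (σ 1) := by
      rw [← hσ1]
      exact hmem
    rw [himg] at hmem'
    have hcases : σ 1 = 0 ∨ σ 1 = 1 := by
      generalize σ 1 = j
      fin_cases j
      · left; rfl
      · right; rfl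
    rcases hcases with hc' | hc'
    · rw [hc'] at hmem'
      have hdU : d ∈ D 0 := by
        have := (D 0).add_mem hmem' hc
        rwa [sub_add_cancel] at this
      have hd0 := inter_zero φ (D 0) (D 1) hU hU' hdec hdU hd
      rw [hd0, hdot_zero_right] at hxd
      exact zero_ne_one hxd
    · rw [hc'] at hmem'
      have hcU' : c ∈ D 1 := by
        have := (D 1).sub_mem hd hmem'
        rwa [sub_sub_cancel] at this
      exact hc0 (inter_zero φ (D 0) (D 1) hU hU' hdec hc hcU')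
  · by_cases hMP : M ≤ Cfsg.Geo.decompositionStabilizer D
    · left
      exact le_antisymm (fun x hx => ⟨hMP hx, hMG hx⟩) hHM
    · right
      obtain ⟨g, hgM, hgP⟩ := SetLike.not_le_iff_exists.mp hMP
      obtain ⟨s, hsSU, hsU, hsU'⟩ := exists_swap φ hφ hφφ (D 0) (D 1) hU hU' hdec hfr
      have hsM : s ∈ M := hHM ⟨mem_decomp_of_swap D s hsU hsU' hfr, hsSU⟩
      have hle := pair_top φ hφ hφφ (D 0) (D 1) hU hU' hdec hN1 hn hk (by omega) M
        (fun x hx => (hMG hx).1)
        (fun a ha b hb hab => hHM (hroot a ha b hb hab)) s hsM hsU hsU' g hgM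
        (fun h => hgP (mem_decomp_of_fix D g h.1 h.2))
        (fun h => hgP (mem_decomp_of_swap D g h.1 h.2 hfr))
      exact le_antisymm hMG hle

end glue

end Cfsg.Agent.Helper28.SuTsPair
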