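import Mathlib
import Cfsg.Agent.Lib.Helper28.SuTsPair
import Cfsg.Agent.Lib.Helper28.BGS7

/-!
# Pairs of complementary totally singular subspaces of a hermitian space: eigenspaces of the
unitary elements fixing or interchanging the two subspaces (helper28)
-/

set_option autoImplicit false
set_option linter.style.haveILetI false
set_option linter.unusedSectionVars false
set_option linter.unusedVariables false

namespace Cfsg.Agent.Helper28.BGP

open Matrix Module Cfsg.Agent.Helper11.Herm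

section pairing

variable {F : Type*} [Field F] [Fintype F] {ι : Type*} [Fintype ι] [DecidableEq ι] (φ : F →+* F)

/-- a pairing which is non-degenerate on the left bounds the dimension -/
theorem finrank_le_of_pairing (hφφ : ∀ x, φ (φ x) = x) (P Q : Submodule F (ι → F))
    (h : ∀ p ∈ P, (∀ q ∈ Q, hdot φ p q = 0) → p = 0) : finrank F P ≤ finrank F Q := by
  let Θ : P → Module.Dual F Q := fun p =>
    { toFun := fun q => hdot φ (q : ι → F) (p : ι → F)
      map_add' := fun q q' => by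
        show hdot φ ((q : ι → F) + (q' : ι → F)) _ = _
        rw [hdot_add_left]
      map_smul' := fun c q => by
        show hdot φ (c • (q : ι → F)) _ = _
        rw [hdot_smul_left]
        rfl }
  have hinj : Function.Injective Θ := by
    intro p p' hpp
    have h0 : (p : ι → F) - (p' : ι → F) = 0 := by
      apply h _ (P.sub_mem p.2 p'.2)
      intro q hq
      apply hdot_eq_zero_symm φ hφφ
      rw [hdot_sub_right]
      have h1 := LinearMap.congr_fun hpp ⟨q, hq⟩
      exact sub_eq_zero.2 h1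
    exact Subtype.ext (sub_eq_zero.1 h0)
  haveI : Finite (Module.Dual F Q) := Module.finite_of_finite F
  have hcard := Nat.card_le_card_of_injective Θ hinj
  rw [Module.natCard_eq_pow_finrank (K := F) (V := P),
    Module.natCard_eq_pow_finrank (K := F) (V := Module.Dual F Q),
    Subspace.dual_finrank_eq] at hcard
  have h1 : 1 < Nat.card F := by
    rw [Nat.card_eq_fintype_card]
    exact Fintype.one_lt_card
  exact (Nat.pow_le_pow_iff_right h1).1 hcard

end pairing

section fix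

variable {F : Type*} [Field F] [Fintype F] {n : ℕ} (φ : F →+* F)
  (U W : Submodule F (Fin n → F))

/-- the average of the powers of a matrix of finite order -/
noncomputable def avg (z : Matrix (Fin n) (Fin n) F) (N : ℕ) (w : Fin n → F) : Fin n → F :=
  ((N : F)⁻¹) • ∑ k ∈ Finset.range N, (z ^ k) *ᵥ w

theorem mulVec_avg (z : Matrix (Fin n) (Fin n) F) (N : ℕ) (hzN : z ^ N = 1) (w : Fin n → F) :
    z *ᵥ avg z N w = avg z N w := by
  unfold avg
  rw [Matrix.mulVec_smul, Matrix.mulVec_sum]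
  congr 1
  have h1 : ∀ k, z *ᵥ ((z ^ k) *ᵥ w) = (z ^ (k + 1)) *ᵥ w := by
    intro k
    rw [Matrix.mulVec_mulVec, pow_succ']
  simp only [h1]
  have h2 := Finset.sum_range_succ' (fun k => (z ^ k) *ᵥ w) N
  have h3 := Finset.sum_range_succ (fun k => (z ^ k) *ᵥ w) N
  rw [h3, hzN, pow_zero] at h2
  exact (add_right_cancel h2).symm

theorem isU_pow {z : Matrix (Fin n) (Fin n) F} (hz : IsU φ z) (k : ℕ) : IsU φ (z ^ k) := by
  induction k with
  | zero => rw [pow_zero]; exact isU_one φ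
  | succ k ih => rw [pow_succ]; exact ih.mul φ hz

theorem pow_mulVec_fix {z : Matrix (Fin n) (Fin n) F} {u : Fin n → F} (hu : z *ᵥ u = u) (k : ℕ) :
    (z ^ k) *ᵥ u = u := by
  induction k with
  | zero => rw [pow_zero, Matrix.one_mulVec]
  | succ k ih => rw [pow_succ, ← Matrix.mulVec_mulVec, hu, ih]

theorem pow_mulVec_mem {z : Matrix (Fin n) (Fin n) F} (hzW : ∀ w ∈ W, z *ᵥ w ∈ W)
    {w : Fin n → F} (hw : w ∈ W) (k : ℕ) : (z ^ k) *ᵥ w ∈ W := by
  induction k with
  | zero => rw [pow_zero, Matrix.one_mulVec]; exact hw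
  | succ k ih => rw [pow_succ', ← Matrix.mulVec_mulVec]; exact hzW _ ih

theorem avg_mem {z : Matrix (Fin n) (Fin n) F} (hzW : ∀ w ∈ W, z *ᵥ w ∈ W) (N : ℕ)
    {w : Fin n → F} (hw : w ∈ W) : avg z N w ∈ W := by
  unfold avg
  apply W.smul_mem
  apply W.sum_mem
  intro k _
  exact pow_mulVec_mem W hzW hw k

theorem hdot_avg {z : Matrix (Fin n) (Fin n) F} (hz : IsU φ z) (N : ℕ) (hN : (N : F) ≠ 0)
    {u : Fin n → F} (hu : z *ᵥ u = u) (w : Fin n → F) :
    hdot φ u (avg z N w) = hdot φ u w := by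
  unfold avg
  rw [hdot_smul_right, hdot_sum_right]
  have h1 : ∀ k ∈ Finset.range N, hdot φ u ((z ^ k) *ᵥ w) = hdot φ u w := by
    intro k _
    have h2 := (isU_pow φ hz k).hdot_mulVec φ u w
    rw [pow_mulVec_fix hu k] at h2
    exact h2
  rw [Finset.sum_congr rfl h1, Finset.sum_const, Finset.card_range, nsmul_eq_mul, map_inv₀,
    map_natCast, ← mul_assoc, inv_mul_cancel₀ hN, one_mul]

theorem mem_fix_iff (z : Matrix (Fin n) (Fin n) F) (v : Fin n → F) :
    v ∈ LinearMap.ker (Matrix.toLin' z - 1) ↔ z *ᵥ v = v := by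
  rw [LinearMap.mem_ker, LinearMap.sub_apply, Matrix.toLin'_apply, Module.End.one_apply,
    sub_eq_zero]

/-- one half of the comparison of the fixed spaces on the two subspaces -/
theorem finrank_fix_inf_le (hφφ : ∀ x, φ (φ x) = x) {z : Matrix (Fin n) (Fin n) F}
    (hz : IsU φ z) (N : ℕ) (hN : (N : F) ≠ 0) (hzN : z ^ N = 1)
    (hU : ∀ u ∈ U, ∀ v ∈ U, hdot φ u v = 0)
    (hdec : ∀ v : Fin n → F, ∃ u ∈ U, ∃ w ∈ W, v = u + w)
    (hzW : ∀ w ∈ W, z *ᵥ w ∈ W) :
    finrank F ↥(LinearMap.ker (Matrix.toLin' z - 1) ⊓ U) ≤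
      finrank F ↥(LinearMap.ker (Matrix.toLin' z - 1) ⊓ W) := by
  apply finrank_le_of_pairing φ hφφ
  intro p hp hq
  obtain ⟨hp1, hp2⟩ := Submodule.mem_inf.1 hp
  rw [mem_fix_iff] at hp1
  apply eq_zero_of_hdot_right φ
  intro v
  obtain ⟨u, hu, w, hw, rfl⟩ := hdec v
  rw [hdot_add_right, hU p hp2 u hu, zero_add, ← hdot_avg φ hz N hN hp1 w]
  apply hq
  refine Submodule.mem_inf.2 ⟨?_, avg_mem W hzW N hw⟩
  rw [mem_fix_iff]
  exact mulVec_avg z N hzN w

/-- the fixed space of a unitary element of order prime to the characteristic which fixes both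
members of a pair of complementary totally singular subspaces has even dimension -/
theorem even_finrank_fix (hφφ : ∀ x, φ (φ x) = x) {z : Matrix (Fin n) (Fin n) F}
    (hz : IsU φ z) (N : ℕ) (hN : (N : F) ≠ 0) (hzN : z ^ N = 1)
    (hU : ∀ u ∈ U, ∀ v ∈ U, hdot φ u v = 0) (hW : ∀ u ∈ W, ∀ v ∈ W, hdot φ u v = 0)
    (hdec : ∀ v : Fin n → F, ∃ u ∈ U, ∃ w ∈ W, v = u + w)
    (hzU : ∀ u ∈ U, z *ᵥ u ∈ U) (hzW : ∀ w ∈ W, z *ᵥ w ∈ W) :
    Even (finrank F ↥(LinearMap.ker (Matrix.toLin' z - 1))) := by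
  set E := LinearMap.ker (Matrix.toLin' z - 1) with hE
  have hdec' : ∀ v : Fin n → F, ∃ w ∈ W, ∃ u ∈ U, v = w + u := by
    intro v
    obtain ⟨u, hu, w, hw, rfl⟩ := hdec v
    exact ⟨w, hw, u, hu, add_comm _ _⟩
  have h1 : finrank F ↥(E ⊓ U) ≤ finrank F ↥(E ⊓ W) :=
    finrank_fix_inf_le φ U W hφφ hz N hN hzN hU hdec hzW
  have h2 : finrank F ↥(E ⊓ W) ≤ finrank F ↥(E ⊓ U) :=
    finrank_fix_inf_le φ W U hφφ hz N hN hzN hW hdec' hzU
  have hdisj : (E ⊓ U) ⊓ (E ⊓ W) = ⊥ := by
    rw [eq_bot_iff]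
    intro x hx
    obtain ⟨hx1, hx2⟩ := Submodule.mem_inf.1 hx
    rw [Submodule.mem_bot]
    exact Cfsg.Agent.Helper28.SuTsPair.inter_zero φ U W hU hW hdec
      (Submodule.mem_inf.1 hx1).2 (Submodule.mem_inf.1 hx2).2
  have hsup : (E ⊓ U) ⊔ (E ⊓ W) = E := by
    apply le_antisymm
    · exact sup_le inf_le_left inf_le_left
    · intro v hv
      obtain ⟨u, hu, w, hw, rfl⟩ := hdec v
      have hv' := hv
      rw [hE, mem_fix_iff, Matrix.mulVec_add] at hv'
      have h3 : z *ᵥ u - u = w - z *ᵥ w := by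
        linear_combination (exp := 1) hv'
      have h4 : z *ᵥ u - u ∈ U := U.sub_mem (hzU u hu) hu
      have h5 : z *ᵥ u - u ∈ W := by
        rw [h3]
        exact W.sub_mem hw (hzW w hw)
      have h6 := Cfsg.Agent.Helper28.SuTsPair.inter_zero φ U W hU hW hdec h4 h5
      have h7 : z *ᵥ u = u := sub_eq_zero.1 h6
      have h8 : z *ᵥ w = w := by
        rw [h6] at h3
        exact (sub_eq_zero.1 h3.symm).symm
      apply Submodule.add_mem_sup
      · refine Submodule.mem_inf.2 ⟨?_, hu⟩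
        rw [hE, mem_fix_iff]
        exact h7
      · refine Submodule.mem_inf.2 ⟨?_, hw⟩
        rw [hE, mem_fix_iff]
        exact h8
  have h3 := Submodule.finrank_sup_add_finrank_inf_eq (E ⊓ U) (E ⊓ W)
  rw [hsup, hdisj, finrank_bot, add_zero] at h3
  rw [h3]
  exact ⟨finrank F ↥(E ⊓ U), by omega⟩

/-- an element interchanging the two subspaces whose square is the scalar `μ ^ 2` has a
`-μ`-eigenspace of the dimension of the subspaces -/
theorem finrank_ker_of_swap {y : Matrix (Fin n) (Fin n) F} {μ : F} (hμ : μ ≠ 0)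
    (hy2 : y * y = (μ * μ) • (1 : Matrix (Fin n) (Fin n) F))
    (hU : ∀ u ∈ U, ∀ v ∈ U, hdot φ u v = 0) (hW : ∀ u ∈ W, ∀ v ∈ W, hdot φ u v = 0)
    (hdec : ∀ v : Fin n → F, ∃ u ∈ U, ∃ w ∈ W, v = u + w)
    (hyU : ∀ u ∈ U, y *ᵥ u ∈ W) (hyW : ∀ w ∈ W, y *ᵥ w ∈ U) :
    finrank F ↥(LinearMap.ker (Matrix.toLin' y + μ • 1)) = finrank F U := by
  set f : U →ₗ[F] (Fin n → F) := U.subtype - (μ⁻¹) • ((Matrix.toLin' y).comp U.subtype) with hf
  have hfa : ∀ u : U, f u = (u : Fin n → F) - (μ⁻¹) • (y *ᵥ (u : Fin n → F)) := by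
    intro u
    rw [hf, LinearMap.sub_apply, LinearMap.smul_apply, LinearMap.comp_apply,
      Matrix.toLin'_apply, Submodule.subtype_apply]
  have hyy : ∀ x : Fin n → F, y *ᵥ (y *ᵥ x) = (μ * μ) • x := by
    intro x
    rw [Matrix.mulVec_mulVec, hy2, Matrix.smul_mulVec, Matrix.one_mulVec]
  have hinj : Function.Injective f := by
    rw [← LinearMap.ker_eq_bot, LinearMap.ker_eq_bot']
    intro u hu
    rw [hfa, sub_eq_zero] at hu
    have h1 : (u : Fin n → F) ∈ W := by
      rw [hu]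
      exact W.smul_mem _ (hyU _ u.2)
    exact Subtype.ext (Cfsg.Agent.Helper28.SuTsPair.inter_zero φ U W hU hW hdec u.2 h1)
  have hrange : LinearMap.range f = LinearMap.ker (Matrix.toLin' y + μ • 1) := by
    ext v
    rw [LinearMap.mem_range, LinearMap.mem_ker, LinearMap.add_apply, Matrix.toLin'_apply,
      LinearMap.smul_apply, Module.End.one_apply]
    constructor
    · rintro ⟨u, rfl⟩
      rw [hfa, Matrix.mulVec_sub, Matrix.mulVec_smul, hyy, smul_sub, smul_smul, smul_smul]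
      have h1 : μ⁻¹ * (μ * μ) = μ := by field_simp
      have h2 : μ * μ⁻¹ = 1 := mul_inv_cancel₀ hμ
      rw [h1, h2, one_smul]
      abel
    · intro hv
      obtain ⟨u, hu, w, hw, rfl⟩ := hdec v
      rw [Matrix.mulVec_add, smul_add] at hv
      have h3 : y *ᵥ w + μ • u = -(y *ᵥ u + μ • w) := by
        linear_combination (exp := 1) hv
      have h4 : y *ᵥ w + μ • u ∈ U := U.add_mem (hyW w hw) (U.smul_mem _ hu)
      have h5 : y *ᵥ w + μ • u ∈ W := by
        rw [h3]
        exact W.neg_mem (W.add_mem (hyU u hu) (W.smul_mem _ hw))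
      have h6 := Cfsg.Agent.Helper28.SuTsPair.inter_zero φ U W hU hW hdec h4 h5
      rw [h6] at h3
      have h7 : y *ᵥ u + μ • w = 0 := by
        have := neg_eq_zero.1 h3.symm
        exact this
      refine ⟨⟨u, hu⟩, ?_⟩
      rw [hfa]
      have h8 : w = -(μ⁻¹ • (y *ᵥ u)) := by
        have h9 : μ • w = -(y *ᵥ u) := by
          linear_combination (exp := 1) h7
        calc w = μ⁻¹ • (μ • w) := by rw [smul_smul, inv_mul_cancel₀ hμ, one_smul]
          _ = -(μ⁻¹ • (y *ᵥ u)) := by rw [h9, smul_neg]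
      rw [h8]
      abel
  rw [← hrange]
  exact LinearMap.finrank_range_of_inj hinj

end fix

section transvection

open Cfsg.Agent.Helper28.SuSingMax Cfsg.Agent.Helper28.SuTsPair

variable {F : Type*} [Field F] [Fintype F] {n : ℕ} (φ : F →+* F)
  (U W : Submodule F (Fin n → F))

/-- a unitary transvection does not fix both members of a pair of complementary totally singular
subspaces -/
theorem transvection_not_fix (hφφ : ∀ x, φ (φ x) = x) (v : Fin n → F) (hv0 : v ≠ 0)
    (hv : hdot φ v v = 0) (c : F) (hc : c ≠ 0)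
    (hU : ∀ u ∈ U, ∀ v ∈ U, hdot φ u v = 0) (hW : ∀ u ∈ W, ∀ v ∈ W, hdot φ u v = 0)
    (hdec : ∀ v : Fin n → F, ∃ u ∈ U, ∃ w ∈ W, v = u + w)
    (hfU : ∀ u ∈ U, ((UT φ v c : GL (Fin n) F) : Matrix (Fin n) (Fin n) F) *ᵥ u ∈ U)
    (hfW : ∀ w ∈ W, ((UT φ v c : GL (Fin n) F) : Matrix (Fin n) (Fin n) F) *ᵥ w ∈ W) : False := by
  have key : ∀ S : Submodule F (Fin n → F), (∀ a ∈ S, ∀ b ∈ S, hdot φ a b = 0) →
      (∀ s ∈ S, ((UT φ v c : GL (Fin n) F) : Matrix (Fin n) (Fin n) F) *ᵥ s ∈ S) →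
      ∀ s ∈ S, hdot φ s v = 0 := by
    intro S hS hfS s hs
    by_contra hne
    have h1 := hfS s hs
    rw [UT_mulVec φ v hv] at h1
    have h2 : (c * hdot φ s v) • v ∈ S := by
      have := S.sub_mem h1 hs
      rwa [add_sub_cancel_left] at this
    have h3 : v ∈ S := by
      have := S.smul_mem (c * hdot φ s v)⁻¹ h2
      rwa [smul_smul, inv_mul_cancel₀ (mul_ne_zero hc hne), one_smul] at this
    exact hne (hS s hs v h3)
  apply hv0
  apply eq_zero_of_hdot_right φ
  intro x
  apply hdot_eq_zero_symm φ hφφ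
  obtain ⟨u, hu, w, hw, rfl⟩ := hdec x
  rw [hdot_add_left, key U hU hfU u hu, key W hW hfW w hw, add_zero]

/-- a unitary transvection does not interchange the members of a pair of subspaces of dimension at
least two with trivial intersection -/
theorem transvection_not_swap (v : Fin n → F) (hv : hdot φ v v = 0) (c : F)
    (hUW : ∀ x, x ∈ U → x ∈ W → x = 0) (h2 : 2 ≤ finrank F U)
    (hfU : ∀ u ∈ U, ((UT φ v c : GL (Fin n) F) : Matrix (Fin n) (Fin n) F) *ᵥ u ∈ W) :
    False := by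
  set f : U →ₗ[F] F :=
    { toFun := fun u => hdot φ (u : Fin n → F) v
      map_add' := fun a b => by
        show hdot φ ((a : Fin n → F) + (b : Fin n → F)) v = _
        rw [hdot_add_left]
      map_smul' := fun a b => by
        show hdot φ (a • (b : Fin n → F)) v = _
        rw [hdot_smul_left]
        rfl } with hf
  have h1 := LinearMap.finrank_range_add_finrank_ker f
  have h3 : finrank F ↥(LinearMap.range f) ≤ 1 := by
    have := Submodule.finrank_le (LinearMap.range f)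
    rwa [Module.finrank_self] at this
  have h4 : 0 < finrank F ↥(LinearMap.ker f) := by omega
  have hne : LinearMap.ker f ≠ ⊥ := by
    intro h
    rw [h, finrank_bot] at h4
    omega
  obtain ⟨u, hu, hu0⟩ := Submodule.exists_mem_ne_zero_of_ne_bot hne
  have hfu : hdot φ (u : Fin n → F) v = 0 := LinearMap.mem_ker.1 hu
  have h5 := hfU u u.2
  rw [UT_mulVec φ v hv, hfu, mul_zero, zero_smul, add_zero] at h5
  apply hu0
  apply Subtype.ext
  exact hUW _ u.2 h5

end transvection

end Cfsg.Agent.Helper28.BGP
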