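import Mathlib
import Cfsg.Agent.Lib.Helper28.BGP1

/-!
# Hyperbolic frames of a hermitian space (helper28)

A hyperbolic frame is a basis `u_1, …, u_m, w_1, …, w_m` with `h(u_i, u_j) = h(w_i, w_j) = 0` and
`h(u_i, w_j) = δ_ij`.  A pair of complementary totally singular subspaces carries a frame, and the
unitary group is transitive on frames.
-/

set_option autoImplicit false
set_option linter.style.haveILetI false
set_option linter.unusedSectionVars false
set_option linter.unusedVariables false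

namespace Cfsg.Agent.Helper28.BGP

open Matrix Module Cfsg.Agent.Helper11.Herm

section basis

variable {F : Type*} [Field F] {n : ℕ} (φ : F →+* F) {κ : Type*} [Fintype κ] [DecidableEq κ]

/-- a linear map preserving the form on a basis preserves it -/
theorem preserves_of_basis (b : Basis κ F (Fin n → F))
    (g : (Fin n → F) →ₗ[F] (Fin n → F))
    (h : ∀ i j, hdot φ (g (b i)) (g (b j)) = hdot φ (b i) (b j)) (u v : Fin n → F) :
    hdot φ (g u) (g v) = hdot φ u v := by
  conv_lhs => rw [← b.sum_repr u, ← b.sum_repr v]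
  conv_rhs => rw [← b.sum_repr u, ← b.sum_repr v]
  simp only [map_sum, map_smul, hdot_sum_left, hdot_sum_right, hdot_smul_left, hdot_smul_right, h]

/-- the matrix of a linear automorphism as an invertible matrix -/
noncomputable def glOfEquiv (g : (Fin n → F) ≃ₗ[F] (Fin n → F)) : GL (Fin n) F :=
  ⟨LinearMap.toMatrix' (g : (Fin n → F) →ₗ[F] (Fin n → F)),
    LinearMap.toMatrix' (g.symm : (Fin n → F) →ₗ[F] (Fin n → F)), by
      rw [← LinearMap.toMatrix'_comp, LinearEquiv.comp_coe, LinearEquiv.symm_trans_self,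
        LinearEquiv.refl_toLinearMap, LinearMap.toMatrix'_id], by
      rw [← LinearMap.toMatrix'_comp, LinearEquiv.comp_coe, LinearEquiv.self_trans_symm,
        LinearEquiv.refl_toLinearMap, LinearMap.toMatrix'_id]⟩

theorem glOfEquiv_mulVec (g : (Fin n → F) ≃ₗ[F] (Fin n → F)) (v : Fin n → F) :
    ((glOfEquiv g : GL (Fin n) F) : Matrix (Fin n) (Fin n) F) *ᵥ v = g v := by
  show LinearMap.toMatrix' (g : (Fin n → F) →ₗ[F] (Fin n → F)) *ᵥ v = g v
  rw [LinearMap.toMatrix'_mulVec]
  rfl

end basis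

section frame

variable {F : Type*} [Field F] [Fintype F] {n m : ℕ} (φ : F →+* F)

/-- hyperbolic frames -/
structure IsHFrame (b : Basis (Fin m ⊕ Fin m) F (Fin n → F)) : Prop where
  ll : ∀ i j, hdot φ (b (Sum.inl i)) (b (Sum.inl j)) = 0
  rr : ∀ i j, hdot φ (b (Sum.inr i)) (b (Sum.inr j)) = 0
  lr : ∀ i j, hdot φ (b (Sum.inl i)) (b (Sum.inr j)) = if i = j then 1 else 0

variable {φ}

theorem IsHFrame.rl (hφφ : ∀ x, φ (φ x) = x) {b : Basis (Fin m ⊕ Fin m) F (Fin n → F)}
    (hb : IsHFrame φ b) (i j : Fin m) :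
    hdot φ (b (Sum.inr i)) (b (Sum.inl j)) = if i = j then 1 else 0 := by
  rw [← hdot_conj φ hφφ, hb.lr]
  by_cases h : i = j
  · rw [if_pos h, if_pos h.symm, map_one]
  · rw [if_neg h, if_neg (Ne.symm h), map_zero]

/-- the unitary group is transitive on hyperbolic frames -/
theorem exists_unitary_of_frames (hφφ : ∀ x, φ (φ x) = x)
    {b b' : Basis (Fin m ⊕ Fin m) F (Fin n → F)} (hb : IsHFrame φ b) (hb' : IsHFrame φ b') :
    ∃ g : GL (Fin n) F, g ∈ UG (Fin n) φ ∧
      ∀ k, (g : Matrix (Fin n) (Fin n) F) *ᵥ (b k) = b' k := by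
  set e : (Fin n → F) ≃ₗ[F] (Fin n → F) := b.equiv b' (Equiv.refl _) with he
  have hek : ∀ k, e (b k) = b' k := by
    intro k
    rw [he, Basis.equiv_apply]
    rfl
  refine ⟨glOfEquiv e, ?_, ?_⟩
  · rw [mem_UG_iff, isU_iff_preserves]
    intro u v
    rw [glOfEquiv_mulVec, glOfEquiv_mulVec]
    have h1 := preserves_of_basis φ b (e : (Fin n → F) →ₗ[F] (Fin n → F)) (by
      intro i j
      rw [LinearEquiv.coe_coe, hek, hek]
      rcases i with i | i <;> rcases j with j | j
      · rw [hb.ll, hb'.ll]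
      · rw [hb.lr, hb'.lr]
      · rw [hb.rl hφφ, hb'.rl hφφ]
      · rw [hb.rr, hb'.rr]) u v
    exact h1
  · intro k
    rw [glOfEquiv_mulVec, hek]

/-- a pair of complementary totally singular subspaces carries a hyperbolic frame -/
theorem exists_frame (hφφ : ∀ x, φ (φ x) = x) (U W : Submodule F (Fin n → F))
    (hU : ∀ u ∈ U, ∀ v ∈ U, hdot φ u v = 0) (hW : ∀ u ∈ W, ∀ v ∈ W, hdot φ u v = 0)
    (hdec : ∀ v : Fin n → F, ∃ u ∈ U, ∃ w ∈ W, v = u + w)
    (hfU : finrank F U = m) (hfW : finrank F W = m) :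
    ∃ b : Basis (Fin m ⊕ Fin m) F (Fin n → F), IsHFrame φ b ∧
      (∀ i, b (Sum.inl i) ∈ U) ∧ (∀ i, b (Sum.inr i) ∈ W) := by
  set bU : Basis (Fin m) F U := Module.finBasisOfFinrankEq F U hfU with hbU
  set Ξ : W →ₗ[F] (Fin m → F) :=
    { toFun := fun w => fun j => hdot φ (w : Fin n → F) (bU j : Fin n → F)
      map_add' := fun a c => by
        funext j
        show hdot φ ((a : Fin n → F) + (c : Fin n → F)) _ = _
        rw [hdot_add_left]
        rfl
      map_smul' := fun a c => by
        funext j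
        show hdot φ (a • (c : Fin n → F)) _ = _
        rw [hdot_smul_left]
        rfl } with hΞ
  have hΞa : ∀ (w : W) (j : Fin m), Ξ w j = hdot φ (w : Fin n → F) (bU j : Fin n → F) :=
    fun _ _ => rfl
  have hinj : Function.Injective Ξ := by
    rw [← LinearMap.ker_eq_bot, LinearMap.ker_eq_bot']
    intro w hw
    apply Subtype.ext
    apply eq_zero_of_hdot_right φ
    intro v
    obtain ⟨u, hu, w', hw', rfl⟩ := hdec v
    rw [hdot_add_right, hW w w.2 w' hw', add_zero]
    have h1 := congrArg Subtype.val (bU.sum_repr ⟨u, hu⟩)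
    rw [Submodule.coe_sum] at h1
    simp only [Submodule.coe_smul] at h1
    rw [← h1, hdot_sum_right]
    apply Finset.sum_eq_zero
    intro j _
    rw [hdot_smul_right, ← hΞa, hw]
    simp
  set ΞE : W ≃ₗ[F] (Fin m → F) := LinearMap.linearEquivOfInjective Ξ hinj
    (by rw [hfW, Module.finrank_fin_fun]) with hΞE
  set bW : Basis (Fin m) F W := Basis.ofEquivFun ΞE with hbW
  have hbWa : ∀ i j : Fin m, hdot φ (bW i : Fin n → F) (bU j : Fin n → F) =
      if i = j then 1 else 0 := by
    intro i j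
    rw [← hΞa]
    have h1 : Ξ (bW i) = Pi.single i 1 := by
      have h2 : ΞE (bW i) = Pi.single i 1 := by
        rw [hbW, Basis.coe_ofEquivFun, LinearEquiv.apply_symm_apply]
      rw [← h2, hΞE, LinearMap.linearEquivOfInjective_apply]
    rw [h1, Pi.single_apply]
    by_cases h : i = j
    · rw [if_pos h, if_pos h.symm]
    · rw [if_neg h, if_neg (Ne.symm h)]
  have hc : IsCompl U W := by
    refine ⟨?_, ?_⟩
    · rw [Submodule.disjoint_def]
      intro x hx hx'
      exact Cfsg.Agent.Helper28.SuTsPair.inter_zero φ U W hU hW hdec hx hx'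
    · rw [codisjoint_iff, eq_top_iff]
      intro v _
      obtain ⟨u, hu, w, hw, rfl⟩ := hdec v
      exact Submodule.add_mem_sup hu hw
  set b : Basis (Fin m ⊕ Fin m) F (Fin n → F) :=
    (bU.prod bW).map (U.prodEquivOfIsCompl W hc) with hb
  have hbl : ∀ i, b (Sum.inl i) = (bU i : Fin n → F) := by
    intro i
    rw [hb, Basis.map_apply, Submodule.coe_prodEquivOfIsCompl', Basis.prod_apply_inl_fst,
      Basis.prod_apply_inl_snd, Submodule.coe_zero, add_zero]
  have hbr : ∀ i, b (Sum.inr i) = (bW i : Fin n → F) := by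
    intro i
    rw [hb, Basis.map_apply, Submodule.coe_prodEquivOfIsCompl', Basis.prod_apply_inr_fst,
      Basis.prod_apply_inr_snd, Submodule.coe_zero, zero_add]
  refine ⟨b, ⟨?_, ?_, ?_⟩, ?_, ?_⟩
  · intro i j
    rw [hbl, hbl]
    exact hU _ (bU i).2 _ (bU j).2
  · intro i j
    rw [hbr, hbr]
    exact hW _ (bW i).2 _ (bW j).2
  · intro i j
    rw [hbl, hbr, ← hdot_conj φ hφφ, hbWa]
    by_cases h : i = j
    · rw [if_pos h, if_pos h.symm, map_one]
    · rw [if_neg h, if_neg (Ne.symm h), map_zero]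
  · intro i
    rw [hbl]
    exact (bU i).2
  · intro i
    rw [hbr]
    exact (bW i).2

end frame

end Cfsg.Agent.Helper28.BGP
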