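import Mathlib
import Cfsg.Agent.Lib.Helper28.BGP2

/-!
# The general linear group inside the stabiliser of a pair of complementary totally singular
subspaces of a hermitian space (helper28)
-/

set_option autoImplicit false
set_option linter.style.haveILetI false
set_option linter.unusedSectionVars false
set_option linter.unusedVariables false

namespace Cfsg.Agent.Helper28.BGP

open Matrix Module Cfsg.Agent.Helper11.Herm

section span

variable {F : Type*} [Field F] {n m : ℕ}

theorem span_left_eq (b : Basis (Fin m ⊕ Fin m) F (Fin n → F)) (U : Submodule F (Fin n → F))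
    (hbU : ∀ i, b (Sum.inl i) ∈ U) (hfU : finrank F U = m) :
    Submodule.span F (Set.range (fun i : Fin m => b (Sum.inl i))) = U := by
  apply Submodule.eq_of_le_of_finrank_eq
  · rw [Submodule.span_le]
    rintro _ ⟨i, rfl⟩
    exact hbU i
  · have hli : LinearIndependent F (fun i : Fin m => b (Sum.inl i)) :=
      b.linearIndependent.comp _ Sum.inl_injective
    rw [finrank_span_eq_card hli, Fintype.card_fin, hfU]

theorem span_right_eq (b : Basis (Fin m ⊕ Fin m) F (Fin n → F)) (W : Submodule F (Fin n → F))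
    (hbW : ∀ i, b (Sum.inr i) ∈ W) (hfW : finrank F W = m) :
    Submodule.span F (Set.range (fun i : Fin m => b (Sum.inr i))) = W := by
  apply Submodule.eq_of_le_of_finrank_eq
  · rw [Submodule.span_le]
    rintro _ ⟨i, rfl⟩
    exact hbW i
  · have hli : LinearIndependent F (fun i : Fin m => b (Sum.inr i)) :=
      b.linearIndependent.comp _ Sum.inr_injective
    rw [finrank_span_eq_card hli, Fintype.card_fin, hfW]

theorem maps_of_span {ι : Type*} (x : ι → Fin n → F) (U U' : Submodule F (Fin n → F))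
    (hU : Submodule.span F (Set.range x) = U) (M : Matrix (Fin n) (Fin n) F)
    (h : ∀ i, M *ᵥ x i ∈ U') : ∀ u ∈ U, M *ᵥ u ∈ U' := by
  intro u hu
  rw [← hU] at hu
  induction hu using Submodule.span_induction with
  | mem y hy =>
    obtain ⟨i, rfl⟩ := hy
    exact h i
  | zero => rw [Matrix.mulVec_zero]; exact U'.zero_mem
  | add y z _ _ hy hz => rw [Matrix.mulVec_add]; exact U'.add_mem hy hz
  | smul c y _ hy => rw [Matrix.mulVec_smul]; exact U'.smul_mem c hy

end span

section psi

variable {F : Type*} [Field F] {n : ℕ} {κ : Type*} [Fintype κ] [DecidableEq κ]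

/-- matrices with respect to a basis as matrices in the standard basis -/
noncomputable def Psi (b : Basis κ F (Fin n → F)) :
    Matrix κ κ F ≃ₐ[F] Matrix (Fin n) (Fin n) F :=
  (Matrix.toLinAlgEquiv b).trans LinearMap.toMatrixAlgEquiv'

theorem Psi_mulVec (b : Basis κ F (Fin n → F)) (M : Matrix κ κ F) (v : Fin n → F) :
    Psi b M *ᵥ v = Matrix.toLin b b M v := by
  show LinearMap.toMatrix' (Matrix.toLin b b M) *ᵥ v = _
  rw [LinearMap.toMatrix'_mulVec]

theorem Psi_mulVec_basis (b : Basis κ F (Fin n → F)) (M : Matrix κ κ F) (j : κ) :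
    Psi b M *ᵥ b j = ∑ i, M i j • b i := by
  rw [Psi_mulVec, Matrix.toLin_self]

theorem det_Psi (b : Basis κ F (Fin n → F)) (M : Matrix κ κ F) : (Psi b M).det = M.det := by
  show (LinearMap.toMatrix' (Matrix.toLin b b M)).det = _
  rw [LinearMap.det_toMatrix', LinearMap.det_toLin]

variable (φ : F →+* F)

/-- the Gram matrix criterion for a matrix in a basis to be unitary -/
theorem isU_Psi (b : Basis κ F (Fin n → F)) (M : Matrix κ κ F)
    (hM : Mᵀ * (Matrix.of fun i j => hdot φ (b i) (b j)) * M.map φ =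
      Matrix.of fun i j => hdot φ (b i) (b j)) : IsU φ (Psi b M) := by
  rw [isU_iff_preserves]
  intro u v
  rw [Psi_mulVec, Psi_mulVec]
  apply preserves_of_basis φ b
  intro j l
  rw [Matrix.toLin_self, Matrix.toLin_self, hdot_sum_left]
  simp only [hdot_sum_right, hdot_smul_left, hdot_smul_right]
  have h1 := congrFun (congrFun hM j) l
  rw [Matrix.of_apply] at h1
  rw [← h1, Matrix.mul_apply]
  simp only [Matrix.mul_apply, Matrix.transpose_apply, Matrix.of_apply, Matrix.map_apply,
    Finset.sum_mul]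
  rw [Finset.sum_comm]
  apply Finset.sum_congr rfl
  intro i _
  apply Finset.sum_congr rfl
  intro k _
  ring

end psi

section block

variable {F : Type*} [Field F] {m : ℕ} (φ : F →+* F)

/-- the conjugate inverse transpose -/
def cit (A : GL (Fin m) F) : Matrix (Fin m) (Fin m) F :=
  (((A⁻¹ : GL (Fin m) F) : Matrix (Fin m) (Fin m) F).map φ)ᵀ

theorem cit_mul (A B : GL (Fin m) F) : cit φ (A * B) = cit φ A * cit φ B := by
  unfold cit
  rw [_root_.mul_inv_rev, Units.val_mul, Matrix.map_mul, Matrix.transpose_mul]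

theorem cit_one : cit φ (1 : GL (Fin m) F) = 1 := by
  unfold cit
  rw [inv_one, Units.val_one, Matrix.map_one _ (map_zero φ) (map_one φ), Matrix.transpose_one]

/-- the block diagonal matrix of `A` and its conjugate inverse transpose -/
def blockMat (A : GL (Fin m) F) : Matrix (Fin m ⊕ Fin m) (Fin m ⊕ Fin m) F :=
  fromBlocks (A : Matrix (Fin m) (Fin m) F) 0 0 (cit φ A)

theorem blockMat_mul (A B : GL (Fin m) F) :
    blockMat φ (A * B) = blockMat φ A * blockMat φ B := by
  unfold blockMat
  rw [Matrix.fromBlocks_multiply, cit_mul, Units.val_mul]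
  simp

theorem blockMat_one : blockMat φ (1 : GL (Fin m) F) = 1 := by
  unfold blockMat
  rw [cit_one, Units.val_one, Matrix.fromBlocks_one]

/-- the block diagonal embedding as a homomorphism -/
noncomputable def blockHom : GL (Fin m) F →* GL (Fin m ⊕ Fin m) F :=
  MonoidHom.toHomUnits
    { toFun := blockMat φ
      map_one' := blockMat_one φ
      map_mul' := blockMat_mul φ }

theorem blockHom_val (A : GL (Fin m) F) :
    ((blockHom φ A : GL (Fin m ⊕ Fin m) F) : Matrix (Fin m ⊕ Fin m) (Fin m ⊕ Fin m) F) =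
      blockMat φ A := rfl

theorem blockHom_injective : Function.Injective (blockHom (m := m) φ) := by
  intro A B h
  have h1 := congrArg (fun g : GL (Fin m ⊕ Fin m) F =>
    (g : Matrix (Fin m ⊕ Fin m) (Fin m ⊕ Fin m) F)) h
  simp only [blockHom_val] at h1
  unfold blockMat at h1
  rw [Matrix.fromBlocks_inj] at h1
  exact Units.ext h1.1

theorem blockMat_gram (hφφ : ∀ x, φ (φ x) = x) (A : GL (Fin m) F) :
    (blockMat φ A)ᵀ * (fromBlocks 0 1 1 0 : Matrix (Fin m ⊕ Fin m) (Fin m ⊕ Fin m) F) *
      (blockMat φ A).map φ = fromBlocks 0 1 1 0 := by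
  have h1 : (A : Matrix (Fin m) (Fin m) F)ᵀ * (cit φ A).map φ = 1 := by
    unfold cit
    rw [← Matrix.transpose_map, Matrix.map_map]
    have : (φ ∘ φ : F → F) = id := funext hφφ
    rw [this, Matrix.map_id, ← Matrix.transpose_mul, ← Units.val_mul, inv_mul_cancel,
      Units.val_one, Matrix.transpose_one]
  have h2 : (cit φ A)ᵀ * (A : Matrix (Fin m) (Fin m) F).map φ = 1 := by
    unfold cit
    rw [Matrix.transpose_transpose, ← Matrix.map_mul, ← Units.val_mul, inv_mul_cancel,
      Units.val_one, Matrix.map_one _ (map_zero φ) (map_one φ)]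
  unfold blockMat
  rw [Matrix.fromBlocks_transpose, Matrix.fromBlocks_multiply, Matrix.fromBlocks_map,
    Matrix.fromBlocks_multiply]
  simp only [Matrix.transpose_zero, Matrix.mul_zero, Matrix.zero_mul, Matrix.mul_one, add_zero,
    zero_add]
  have h0 : (0 : Matrix (Fin m) (Fin m) F).map φ = 0 := by
    ext i j
    simp
  rw [h0]
  simp only [Matrix.mul_zero, h1, h2]

end block

section phi

variable {F : Type*} [Field F] [Fintype F] {n m : ℕ} (φ : F →+* F)

/-- the embedding of the general linear group into the stabiliser of the two spans of a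
hyperbolic frame -/
noncomputable def Phi (b : Basis (Fin m ⊕ Fin m) F (Fin n → F)) :
    GL (Fin m) F →* GL (Fin n) F :=
  (Units.mapEquiv (Psi b).toMulEquiv).toMonoidHom.comp (blockHom φ)

theorem Phi_val (b : Basis (Fin m ⊕ Fin m) F (Fin n → F)) (A : GL (Fin m) F) :
    ((Phi φ b A : GL (Fin n) F) : Matrix (Fin n) (Fin n) F) = Psi b (blockMat φ A) := rfl

theorem Phi_injective (b : Basis (Fin m ⊕ Fin m) F (Fin n → F)) :
    Function.Injective (Phi φ b) := by
  intro A B h
  apply blockHom_injective φ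
  exact (Units.mapEquiv (Psi b).toMulEquiv).injective h

variable {φ}

theorem frame_gram (hφφ : ∀ x, φ (φ x) = x) {b : Basis (Fin m ⊕ Fin m) F (Fin n → F)}
    (hb : IsHFrame φ b) :
    (Matrix.of fun i j => hdot φ (b i) (b j)) =
      (fromBlocks 0 1 1 0 : Matrix (Fin m ⊕ Fin m) (Fin m ⊕ Fin m) F) := by
  ext i j
  rcases i with i | i <;> rcases j with j | j
  · rw [Matrix.of_apply, hb.ll, Matrix.fromBlocks_apply₁₁, Matrix.zero_apply]
  · rw [Matrix.of_apply, hb.lr, Matrix.fromBlocks_apply₁₂, Matrix.one_apply]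
  · rw [Matrix.of_apply, hb.rl hφφ, Matrix.fromBlocks_apply₂₁, Matrix.one_apply]
  · rw [Matrix.of_apply, hb.rr, Matrix.fromBlocks_apply₂₂, Matrix.zero_apply]

theorem Phi_mem_UG (hφφ : ∀ x, φ (φ x) = x) {b : Basis (Fin m ⊕ Fin m) F (Fin n → F)}
    (hb : IsHFrame φ b) (A : GL (Fin m) F) : Phi φ b A ∈ UG (Fin n) φ := by
  rw [mem_UG_iff, Phi_val]
  apply isU_Psi
  rw [frame_gram hφφ hb]
  exact blockMat_gram φ hφφ A

theorem Phi_mulVec_inl (b : Basis (Fin m ⊕ Fin m) F (Fin n → F)) (A : GL (Fin m) F)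
    (j : Fin m) :
    ((Phi φ b A : GL (Fin n) F) : Matrix (Fin n) (Fin n) F) *ᵥ b (Sum.inl j) =
      ∑ i, (A : Matrix (Fin m) (Fin m) F) i j • b (Sum.inl i) := by
  rw [Phi_val, Psi_mulVec_basis, Fintype.sum_sum_type]
  unfold blockMat
  simp

theorem Phi_mulVec_inr (b : Basis (Fin m ⊕ Fin m) F (Fin n → F)) (A : GL (Fin m) F)
    (j : Fin m) :
    ((Phi φ b A : GL (Fin n) F) : Matrix (Fin n) (Fin n) F) *ᵥ b (Sum.inr j) =
      ∑ i, (cit φ A) i j • b (Sum.inr i) := by
  rw [Phi_val, Psi_mulVec_basis, Fintype.sum_sum_type]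
  unfold blockMat
  simp

theorem det_Phi (b : Basis (Fin m ⊕ Fin m) F (Fin n → F)) (A : GL (Fin m) F) :
    ((Phi φ b A : GL (Fin n) F) : Matrix (Fin n) (Fin n) F).det =
      (A : Matrix (Fin m) (Fin m) F).det * (φ (A : Matrix (Fin m) (Fin m) F).det)⁻¹ := by
  rw [Phi_val, det_Psi]
  unfold blockMat
  rw [Matrix.det_fromBlocks_zero₂₁]
  congr 1
  unfold cit
  rw [Matrix.det_transpose]
  have h1 : ((A⁻¹ : GL (Fin m) F) : Matrix (Fin m) (Fin m) F).map φ =
      φ.mapMatrix ((A⁻¹ : GL (Fin m) F) : Matrix (Fin m) (Fin m) F) := rfl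
  rw [h1, ← RingHom.map_det, Matrix.coe_units_inv, Matrix.det_nonsing_inv, Ring.inverse_eq_inv',
    map_inv₀]

end phi

end Cfsg.Agent.Helper28.BGP
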