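import Mathlib
import Cfsg.Agent.Lib.Helper28.BGP3
import Cfsg.Agent.Lib.Helper11.Unitary2

/-!
# The index of the stabiliser of a pair of complementary totally singular subspaces in the special
unitary group: arithmetic (helper28)
-/

set_option autoImplicit false
set_option linter.style.haveILetI false
set_option linter.unusedSectionVars false
set_option linter.unusedVariables false

namespace Cfsg.Agent.Helper28.BGP

open Matrix Module Cfsg.Agent.Helper11.Herm

section arith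

/-- the order of the general linear group -/
def glOrd (Q m : ℕ) : ℕ := ∏ i : Fin m, (Q ^ m - Q ^ (i : ℕ))

theorem glOrd_succ (Q m : ℕ) (hQ : 1 ≤ Q) :
    glOrd Q (m + 1) = glOrd Q m * (Q ^ m * (Q ^ (m + 1) - 1)) := by
  unfold glOrd
  rw [Fin.prod_univ_succ]
  have h1 : ∀ i : Fin m, Q ^ (m + 1) - Q ^ ((i.succ : Fin (m + 1)) : ℕ) =
      Q * (Q ^ m - Q ^ (i : ℕ)) := by
    intro i
    rw [Fin.val_succ, Nat.mul_sub, ← pow_succ', ← pow_succ']
  rw [Finset.prod_congr rfl (fun i _ => h1 i), Finset.prod_mul_distrib, Finset.prod_const,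
    Finset.card_univ, Fintype.card_fin, Fin.val_zero, pow_zero]
  ring

theorem glOrd_pos (Q m : ℕ) (hQ : 2 ≤ Q) : 0 < glOrd Q m := by
  unfold glOrd
  apply Finset.prod_pos
  intro i _
  have : Q ^ (i : ℕ) < Q ^ m := Nat.pow_lt_pow_right (by omega) i.2
  omega

/-- the cofactor of the order of the general linear group in the order of the unitary group -/
def pairCof (q m : ℕ) : ℕ := q ^ (m ^ 2) * ∏ j ∈ Finset.range m, (q ^ (2 * j + 1) + 1)

theorem pairCof_succ (q m : ℕ) :
    pairCof q (m + 1) = pairCof q m * (q ^ (2 * m + 1) * (q ^ (2 * m + 1) + 1)) := by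
  unfold pairCof
  rw [Finset.prod_range_succ]
  have : (m + 1) ^ 2 = m ^ 2 + (2 * m + 1) := by ring
  rw [this, pow_add]
  ring

open Cfsg.Agent.Helper11.Herm in
theorem guOrder_two_mul (q m : ℕ) (hq : 1 ≤ q) :
    guOrder q (2 * m) = glOrd (q ^ 2) m * pairCof q m := by
  induction m with
  | zero => simp [guOrder, glOrd, pairCof]
  | succ m ih =>
    have h1 : 2 * (m + 1) = (2 * m + 1) + 1 := by ring
    rw [h1, guOrder_succ, guOrder_succ, ih, glOrd_succ _ _ (Nat.one_le_pow _ _ hq), pairCof_succ]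
    have he1 : Even (2 * m + 1 + 1) := ⟨m + 1, by ring⟩
    have he2 : ¬ Even (2 * m + 1) := by
      rw [Nat.not_even_iff_odd]
      exact ⟨m, rfl⟩
    rw [if_pos he1, if_neg he2]
    have h2 : (q ^ 2) ^ m = q ^ (2 * m) := by rw [← pow_mul]
    have h3 : (q ^ 2) ^ (m + 1) = q ^ (2 * m + 1 + 1) := by
      rw [← pow_mul]
      congr 1
    rw [h2, h3]
    ring

/-- the arithmetic conclusion -/
theorem dvd_pairCof (q m r : ℕ) (hr : r.Prime) (h : r ∣ pairCof q m) :
    r ∣ q ∨ ∃ k, Odd k ∧ k < 2 * m ∧ r ∣ q ^ k + 1 := by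
  unfold pairCof at h
  rcases hr.dvd_mul.1 h with h1 | h1
  · left
    exact hr.dvd_of_dvd_pow h1
  · right
    obtain ⟨j, hj, hdvd⟩ := (Prime.dvd_finsetProd_iff hr.prime _).1 h1
    rw [Finset.mem_range] at hj
    exact ⟨2 * j + 1, ⟨j, rfl⟩, by omega, hdvd⟩

end arith

section index

variable {F : Type*} [Field F] [Fintype F] {q : ℕ}

theorem mem_specialLinear_iff {n : ℕ} (g : GL (Fin n) F) :
    g ∈ Cfsg.Geo.specialLinear (Fin n) F ↔ (g : Matrix (Fin n) (Fin n) F).det = 1 := by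
  unfold Cfsg.Geo.specialLinear
  rw [MonoidHom.mem_ker, Units.ext_iff, Matrix.GeneralLinearGroup.val_det_apply, Units.val_one]

/-- the order of the special unitary group as a subgroup of the general linear group -/
theorem card_GU_inf_SL (hF : Fintype.card F = q ^ 2) (n : ℕ) (hn : 1 ≤ n) :
    (q + 1) * Nat.card ↥(Cfsg.GU n F q ⊓ Cfsg.Geo.specialLinear (Fin n) F) = guOrder q n := by
  obtain ⟨φ, hφ⟩ := exists_frob hF
  have h1 : Nat.card ↥(Cfsg.GU n F q ⊓ Cfsg.Geo.specialLinear (Fin n) F) =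
      Nat.card (Cfsg.SU n F q) := by
    apply Nat.card_congr
    refine
      { toFun := fun g => ⟨mkSL ((g : GL (Fin n) F) : Matrix (Fin n) (Fin n) F)
            ((mem_specialLinear_iff _).1 (Subgroup.mem_inf.1 g.2).2), ?_⟩
        invFun := fun s => ⟨SpecialLinearGroup.toGL s.1, Subgroup.mem_inf.2 ⟨?_, ?_⟩⟩
        left_inv := ?_
        right_inv := ?_ }
    · rw [mem_SU_iff_isU φ hφ]
      exact (mem_GU_iff_isU φ hφ n _).1 (Subgroup.mem_inf.1 g.2).1
    · rw [mem_GU_iff_isU φ hφ]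
      exact (mem_SU_iff_isU φ hφ n s.1).1 s.2
    · rw [mem_specialLinear_iff]
      exact s.1.2
    · intro g
      apply Subtype.ext
      apply Units.ext
      rfl
    · intro s
      apply Subtype.ext
      apply Subtype.ext
      rfl
  rw [h1, card_GU_eq_SU hF n hn, card_GU hF n]

/-- the order of the general linear group -/
theorem card_GL_eq (hF : Fintype.card F = q ^ 2) (m : ℕ) :
    Nat.card (GL (Fin m) F) = glOrd (q ^ 2) m := by
  rw [Matrix.card_GL_field, hF]
  rfl

/-- a subgroup containing the image of the general linear group: divisibility of orders -/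
theorem mul_glOrd_dvd (hF : Fintype.card F = q ^ 2) (φ : F →+* F) (hφ : ∀ x, φ x = x ^ q)
    {n m : ℕ} (hn : 1 ≤ n) (b : Basis (Fin m ⊕ Fin m) F (Fin n → F)) (hb : IsHFrame φ b)
    (S : Subgroup (GL (Fin n) F)) (hS : ∀ A, Phi φ b A ∈ S) (r : ℕ)
    (hr : r ∣ S.relIndex (Cfsg.GU n F q ⊓ Cfsg.Geo.specialLinear (Fin n) F)) :
    r * glOrd (q ^ 2) m ∣ guOrder q n := by
  have hφφ := frob_frob hF φ hφ
  set G := Cfsg.GU n F q ⊓ Cfsg.Geo.specialLinear (Fin n) F with hG
  have h1 : Nat.card ↥(S ⊓ G) * S.relIndex G = Nat.card G := by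
    rw [← Subgroup.inf_relIndex_right, ← Subgroup.relIndex_bot_left (H := S ⊓ G),
      Subgroup.relIndex_mul_relIndex _ _ _ bot_le inf_le_right, Subgroup.relIndex_bot_left]
  have h2 := card_GU_inf_SL hF n hn
  rw [← hG] at h2
  -- the determinant of the image
  set δ : GL (Fin m) F →* Fˣ := Matrix.GeneralLinearGroup.det.comp (Phi φ b) with hδ
  have h3 := Subgroup.card_mul_index δ.ker
  rw [Subgroup.index_ker, card_GL_eq hF] at h3
  have h4 : Nat.card δ.ker ∣ Nat.card ↥(S ⊓ G) := by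
    rw [← Subgroup.card_map_of_injective (K := δ.ker) (f := Phi φ b) (Phi_injective φ b)]
    apply Subgroup.card_dvd_of_le
    rintro _ ⟨A, hA, rfl⟩
    refine Subgroup.mem_inf.2 ⟨hS A, Subgroup.mem_inf.2 ⟨?_, ?_⟩⟩
    · rw [GU_eq_UG φ hφ]
      exact Phi_mem_UG hφφ hb A
    · exact hA
  have h5 : Nat.card δ.range ∣ q + 1 := by
    rw [← IsCyclic.exponent_eq_card]
    apply Monoid.exponent_dvd_of_forall_pow_eq_one
    rintro ⟨c, A, rfl⟩
    apply Subtype.ext
    apply Units.ext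
    rw [Subgroup.coe_pow, Units.val_pow_eq_pow_val, Subgroup.coe_one, Units.val_one]
    have h6 : ((δ A : Fˣ) : F) = ((Phi φ b A : GL (Fin n) F) : Matrix (Fin n) (Fin n) F).det := rfl
    rw [h6]
    have h7 := IsU.det_norm φ ((mem_UG_iff φ _).1 (Phi_mem_UG hφφ hb A))
    rw [hφ] at h7
    rw [pow_succ', h7]
  obtain ⟨t, ht⟩ := h4
  obtain ⟨s, hs⟩ := h5
  refine ⟨(S.relIndex G / r) * t * s, ?_⟩
  obtain ⟨r', hr'⟩ := hr
  have hr0 : r ≠ 0 ∨ r = 0 := (ne_or_eq r 0)
  rcases Nat.eq_zero_or_pos r with h0 | h0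
  · subst h0
    rw [zero_mul] at hr'
    rw [← h2, hs, ← h1, hr', ht]
    simp
  · rw [hr', Nat.mul_div_cancel_left _ h0, ← h2, hs, ← h1, hr', ht, ← h3]
    ring

end index

end Cfsg.Agent.Helper28.BGP
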