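import Mathlib
import Cfsg.Prelude.Def_GeometricClasses
import Cfsg.Agent.Lib.Helper13.SpSim1
import Cfsg.Agent.Lib.Helper13.UnitaryConj
import Cfsg.Agent.Lib.Helper13.HermitianBlock
import Cfsg.Agent.Lib.Helper13.UnitaryForm

/-!
# Unitary forms given by a Gram matrix, and the transport of an arbitrary unitary form to such a
form (helper28)
-/

set_option autoImplicit false
set_option linter.style.haveILetI false
set_option linter.unusedSectionVars false
set_option linter.unusedVariables false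

namespace Cfsg.Agent.Helper28.BGQ

open Matrix Module Cfsg.Agent.Helper11.Herm Cfsg.Agent.Helper13.Uni Cfsg.Agent.Helper13.SpSim
  Cfsg.Agent.Helper13.HermSS

universe u

section gram

variable {K : Type*} [Field K] {κ : Type*} [Fintype κ] [DecidableEq κ] (φ : K →+* K)

/-- the sesquilinear form with Gram matrix `G` -/
def gform (G : Matrix κ κ K) (u v : κ → K) : K := u ⬝ᵥ (G *ᵥ (φ ∘ v))

theorem gform_add_left (G : Matrix κ κ K) (u u' v : κ → K) :
    gform φ G (u + u') v = gform φ G u v + gform φ G u' v := by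
  unfold gform
  rw [add_dotProduct]

theorem gform_smul_left (G : Matrix κ κ K) (c : K) (u v : κ → K) :
    gform φ G (c • u) v = c * gform φ G u v := by
  unfold gform
  rw [smul_dotProduct, smul_eq_mul]

theorem gform_conj (hφφ : ∀ x, φ (φ x) = x) (G : Matrix κ κ K) (hG : Gᵀ = G.map φ)
    (u v : κ → K) : gform φ G v u = φ (gform φ G u v) := by
  unfold gform
  have h1 : φ (u ⬝ᵥ (G *ᵥ (φ ∘ v))) = (φ ∘ u) ⬝ᵥ (φ ∘ (G *ᵥ (φ ∘ v))) :=
    RingHom.map_dotProduct φ u _
  have h2 : φ ∘ (G *ᵥ (φ ∘ v)) = G.map φ *ᵥ (φ ∘ (φ ∘ v)) := by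
    funext i
    exact RingHom.map_mulVec φ G (φ ∘ v) i
  have h3 : φ ∘ (φ ∘ v) = v := by
    funext i
    exact hφφ (v i)
  rw [h1, h2, h3, ← hG, Matrix.mulVec_transpose, Matrix.dotProduct_mulVec, dotProduct_comm]

theorem gform_nondeg (hφφ : ∀ x, φ (φ x) = x) (G : Matrix κ κ K) (hGu : IsUnit G.det)
    (u : κ → K) (hu : ∀ v, gform φ G u v = 0) : u = 0 := by
  have h1 : u ᵥ* G = 0 := by
    funext i
    have h2 := hu (φ ∘ Pi.single i 1)
    unfold gform at h2
    have h3 : φ ∘ (φ ∘ (Pi.single i (1 : K) : κ → K)) = Pi.single i 1 := by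
      funext j
      exact hφφ _
    rw [h3, Matrix.dotProduct_mulVec, dotProduct_single, mul_one] at h2
    exact h2
  have h4 : u ᵥ* (G * G⁻¹) = 0 := by
    rw [← Matrix.vecMul_vecMul, h1, Matrix.zero_vecMul]
  rwa [Matrix.mul_nonsing_inv G hGu, Matrix.vecMul_one] at h4

theorem gform_mulVec (G A : Matrix κ κ K) (u v : κ → K) :
    gform φ G (A *ᵥ u) (A *ᵥ v) = u ⬝ᵥ ((Aᵀ * G * A.map φ) *ᵥ (φ ∘ v)) := by
  have h1 : φ ∘ (A *ᵥ v) = A.map φ *ᵥ (φ ∘ v) := by
    funext i
    exact RingHom.map_mulVec φ A v i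
  unfold gform
  rw [h1, ← Matrix.vecMul_transpose, ← Matrix.dotProduct_mulVec, Matrix.mulVec_mulVec,
    Matrix.mulVec_mulVec, Matrix.mul_assoc]

/-- a matrix identity gives a similarity of the form with Gram matrix `G` -/
theorem gform_sim (G A : Matrix κ κ K) (τ : K) (hA : Aᵀ * G * A.map φ = τ • G) (u v : κ → K) :
    gform φ G (A *ᵥ u) (A *ᵥ v) = τ * gform φ G u v := by
  rw [gform_mulVec, hA, Matrix.smul_mulVec, dotProduct_smul, smul_eq_mul]
  rfl

/-- conversely a similarity satisfies the matrix identity -/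
theorem sim_gform (G A : Matrix κ κ K) (τ : K)
    (h : ∀ u v, gform φ G (A *ᵥ u) (A *ᵥ v) = τ * gform φ G u v) :
    Aᵀ * G * A.map φ = τ • G := by
  ext i j
  have h1 := h (Pi.single i 1) (Pi.single j 1)
  have h2 : φ ∘ (Pi.single j (1 : K) : κ → K) = Pi.single j 1 := by
    funext k
    by_cases hk : k = j
    · subst hk; simp
    · simp [Pi.single_eq_of_ne hk]
  rw [gform_mulVec] at h1
  unfold gform at h1
  rw [h2, Matrix.mulVec_single_one, single_one_dotProduct, Matrix.mulVec_single_one,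
    single_one_dotProduct] at h1
  rw [Matrix.smul_apply, smul_eq_mul]
  exact h1

end gram

section sesq

variable {F₀ : Type*} {K : Type u} [Field F₀] [Field K] [Algebra F₀ K] [Finite K] {q₀ n : ℕ}

theorem isSesq_of_unitary (σ : K →ₐ[F₀] K) (hσ : ∀ x, σ x = x ^ q₀)
    {f : (Fin n → K) → (Fin n → K) → K} (hf : Cfsg.Geo.IsUnitaryFormPow q₀ f) : IsSesq σ f where
  add_left := hf.add_left
  smul_left := hf.smul_left
  conj u v := by rw [hσ]; exact hf.herm v u
  nondeg u hu := by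
    by_contra hne
    obtain ⟨-, x, hx⟩ := hf.nondegenerate u hne
    exact hx (hu x)

theorem isSesq_gform (σ : K →ₐ[F₀] K) (hσ2 : ∀ x, σ (σ x) = x) {κ : Type*} [Fintype κ]
    [DecidableEq κ] (G : Matrix κ κ K) (hG : Gᵀ = G.map (σ : K →+* K)) (hGu : IsUnit G.det) :
    IsSesq σ (gform (σ : K →+* K) G) where
  add_left := gform_add_left _ G
  smul_left := gform_smul_left _ G
  conj u v := gform_conj (σ : K →+* K) hσ2 G hG u v
  nondeg := gform_nondeg (σ : K →+* K) hσ2 G hGu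

/-- any unitary form is equivalent to the form with a given hermitian Gram matrix -/
theorem exists_equiv_gform_aux (σ : K →ₐ[F₀] K) (hσ : ∀ x, σ x = x ^ q₀)
    (hσ2 : ∀ x, σ (σ x) = x) (hσ1 : ∃ c, σ c ≠ c)
    {f : (Fin n → K) → (Fin n → K) → K} (hf : Cfsg.Geo.IsUnitaryFormPow q₀ f)
    {κ : Type} [Fintype κ] [DecidableEq κ] (hκ : Fintype.card κ = n)
    (G : Matrix κ κ K) (hG : Gᵀ = G.map (σ : K →+* K)) (hGu : IsUnit G.det) :
    ∃ e : (Fin n → K) ≃ₗ[K] (κ → K), ∀ u v, gform (σ : K →+* K) G (e u) (e v) = f u v := by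
  haveI : FiniteDimensional F₀ K := Module.Finite.of_finite
  obtain ⟨tr, htr, htrσ⟩ := exists_tr σ hσ2 hσ1
  have h1 : IsSesq σ f := isSesq_of_unitary σ hσ hf
  have h2 : IsSesq σ (gform (σ : K →+* K) G) := isSesq_gform σ hσ2 G hG hGu
  set B := trForm tr f h1 with hB
  set B' := trForm tr (gform (σ : K →+* K) G) h2 with hB'
  have hBi : HInv σ 1 (1 : Module.End K (Fin n → K)) B :=
    trForm_hinv tr htr htrσ hσ2 h1 1 (fun _ _ => rfl)
  have hBi' : HInv σ 1 (1 : Module.End K (κ → K)) B' :=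
    trForm_hinv tr htr htrσ hσ2 h2 1 (fun _ _ => rfl)
  obtain ⟨T, hT⟩ := Cfsg.Agent.Helper13.Herm.exists_isometry σ hσ2 hσ1 1 (Or.inl rfl) n
    (Fin n → K) (κ → K) B B' (Module.finrank_fin_fun K)
    (by rw [Module.finrank_pi, hκ]) ⟨hBi.adj, hBi.symm, hBi.nondeg⟩
    ⟨hBi'.adj, hBi'.symm, hBi'.nondeg⟩
  refine ⟨T, fun u v => ?_⟩
  rw [← sub_eq_zero]
  apply eq_zero_of_tr tr htr
  intro c
  have h3 := hT (c • u) v
  rw [hB, hB', trForm_apply, trForm_apply, map_smul, h2.smul_left, h1.smul_left] at h3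
  rw [mul_sub, map_sub, h3, sub_self]

end sesq

section concrete

variable {K : Type u} [Field K] [Fintype K] {q₀ n : ℕ}

/-- any unitary form is equivalent to the form with a given hermitian Gram matrix -/
theorem exists_equiv_gform (hK : Fintype.card K = q₀ ^ 2) (p : ℕ) [Fact p.Prime] [CharP K p]
    (φ : K →+* K) (hφ : ∀ x, φ x = x ^ q₀)
    {f : (Fin n → K) → (Fin n → K) → K} (hf : Cfsg.Geo.IsUnitaryFormPow q₀ f)
    {κ : Type} [Fintype κ] [DecidableEq κ] (hκ : Fintype.card κ = n)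
    (G : Matrix κ κ K) (hG : Gᵀ = G.map φ) (hGu : IsUnit G.det) :
    ∃ e : (Fin n → K) ≃ₗ[K] (κ → K), ∀ u v, gform φ G (e u) (e v) = f u v := by
  letI := ZMod.algebra K p
  obtain ⟨σ, hσ, hσ2, hσ1⟩ := exists_frobAlg hK p
  have hσφ : (σ : K →+* K) = φ := by
    ext x
    show σ x = φ x
    rw [hσ, hφ]
  have := exists_equiv_gform_aux σ hσ hσ2 hσ1 hf hκ G (by rw [hσφ]; exact hG) hGu
  rwa [hσφ] at this

/-- transport of a similarity of the Gram form to a similarity of `f` -/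
theorem sim_pull_gform (φ : K →+* K) {f : (Fin n → K) → (Fin n → K) → K}
    {κ : Type*} [Fintype κ] [DecidableEq κ] (G : Matrix κ κ K)
    (e : (Fin n → K) ≃ₗ[K] (κ → K)) (he : ∀ u v, gform φ G (e u) (e v) = f u v)
    (A : Matrix κ κ K) (τ : K) (hA : Aᵀ * G * A.map φ = τ • G) (u v : Fin n → K) :
    f (pull e A *ᵥ u) (pull e A *ᵥ v) = τ * f u v := by
  rw [pull_mulVec, pull_mulVec, ← he, LinearEquiv.apply_symm_apply, LinearEquiv.apply_symm_apply,
    gform_sim φ G A τ hA, he]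

/-- transport of a similarity of `f` to a similarity of the Gram form -/
theorem sim_pull_symm (φ : K →+* K) {f : (Fin n → K) → (Fin n → K) → K}
    {κ : Type*} [Fintype κ] [DecidableEq κ] (G : Matrix κ κ K)
    (e : (Fin n → K) ≃ₗ[K] (κ → K)) (he : ∀ u v, gform φ G (e u) (e v) = f u v)
    (Y : Matrix (Fin n) (Fin n) K) (τ : K) (hY : ∀ u v, f (Y *ᵥ u) (Y *ᵥ v) = τ * f u v) :
    (pull e.symm Y)ᵀ * G * (pull e.symm Y).map φ = τ • G := by
  apply sim_gform
  intro u v
  rw [pull_mulVec, pull_mulVec, LinearEquiv.symm_symm, he, hY, ← he,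
    LinearEquiv.apply_symm_apply, LinearEquiv.apply_symm_apply]

end concrete

section mult

variable {K : Type*} [Field K] {q₀ n : ℕ}

/-- the multiplier of a similarity of a unitary form is fixed by the involution -/
theorem mult_fixed (hn : 1 ≤ n) {f : (Fin n → K) → (Fin n → K) → K}
    (hf : Cfsg.Geo.IsUnitaryFormPow q₀ f) (Y : Matrix (Fin n) (Fin n) K) (c : K)
    (hY : ∀ u v, f (Y *ᵥ u) (Y *ᵥ v) = c * f u v) : c ^ q₀ = c := by
  have hu : (Pi.single (⟨0, hn⟩ : Fin n) (1 : K) : Fin n → K) ≠ 0 := by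
    intro h
    have := congrFun h ⟨0, hn⟩
    rw [Pi.single_eq_same, Pi.zero_apply] at this
    exact one_ne_zero this
  obtain ⟨⟨w, hw⟩, -⟩ := hf.nondegenerate _ hu
  set u := (Pi.single (⟨0, hn⟩ : Fin n) (1 : K) : Fin n → K) with hudef
  have h1 := hY u w
  rw [hf.herm (Y *ᵥ u) (Y *ᵥ w), hY, mul_pow, ← hf.herm u w] at h1
  have h2 : f u w ≠ 0 := by
    rw [hf.herm u w]
    exact pow_ne_zero _ hw
  exact mul_right_cancel₀ h2 h1

end mult

end Cfsg.Agent.Helper28.BGQ
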