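import Mathlib
import Cfsg.Agent.Lib.Helper28.BGQ1
import Cfsg.Agent.Lib.Helper28.BGP4
import Cfsg.Agent.Lib.Helper2.CardSL

/-!
# The index of the similarity group of a unitary form in the special linear group: arithmetic
(helper28)
-/

set_option autoImplicit false
set_option linter.style.haveILetI false
set_option linter.unusedSectionVars false
set_option linter.unusedVariables false

namespace Cfsg.Agent.Helper28.BGQ

open Matrix Module Cfsg.Agent.Helper11.Herm Cfsg.Agent.Helper28.BGP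

section arith

/-- the cofactor of the order of the unitary group in the order of the general linear group -/
def ucof (q n : ℕ) : ℕ :=
  q ^ (n * (n - 1) / 2) *
    ∏ i ∈ Finset.range n, (if Even i then q ^ (i + 1) - 1 else q ^ (i + 1) + 1)

theorem ucof_succ (q n : ℕ) :
    ucof q (n + 1) =
      (if Even (n + 1) then q ^ n * (q ^ (n + 1) + 1) else q ^ n * (q ^ (n + 1) - 1)) *
        ucof q n := by
  unfold ucof
  rw [Finset.prod_range_succ]
  have h1 : (n + 1) * (n + 1 - 1) / 2 = n * (n - 1) / 2 + n := by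
    rw [Nat.add_sub_cancel]
    rcases Nat.eq_zero_or_pos n with rfl | hn
    · simp
    · obtain ⟨m, rfl⟩ : ∃ m, n = m + 1 := ⟨n - 1, by omega⟩
      rw [Nat.add_sub_cancel]
      have : (m + 1 + 1) * (m + 1) = (m + 1) * m + (m + 1) * 2 := by ring
      rw [this, Nat.add_mul_div_right _ _ (by norm_num)]
  rw [h1, pow_add]
  by_cases hn : Even n
  · have : ¬ Even (n + 1) := by
      rw [Nat.even_add_one]; exact not_not.2 hn
    rw [if_pos hn, if_neg this]
    ring
  · have : Even (n + 1) := by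
      rw [Nat.even_add_one]; exact hn
    rw [if_neg hn, if_pos this]
    ring

theorem glOrd_sq (q n : ℕ) (hq : 1 ≤ q) : glOrd (q ^ 2) n = guOrder q n * ucof q n := by
  induction n with
  | zero => simp [guOrder, glOrd, ucof]
  | succ n ih =>
    rw [glOrd_succ _ _ (Nat.one_le_pow _ _ hq), ih, guOrder_succ, ucof_succ]
    have h2 : (q ^ 2) ^ n = q ^ n * q ^ n := by rw [← pow_mul, two_mul, pow_add]
    have h3 : (q ^ 2) ^ (n + 1) - 1 = (q ^ (n + 1) + 1) * (q ^ (n + 1) - 1) := by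
      rw [← pow_mul, mul_comm 2, pow_mul]
      exact sq_sub_one _ (Nat.one_le_pow _ _ hq)
    rw [h2, h3]
    by_cases hn : Even (n + 1)
    · rw [if_pos hn, if_pos hn]
      ring
    · rw [if_neg hn, if_neg hn]
      ring

theorem guOrder_pos (q n : ℕ) (hq : 2 ≤ q) : 0 < guOrder q n := by
  unfold guOrder
  apply Nat.mul_pos (pow_pos (by omega) _)
  apply Finset.prod_pos
  intro i _
  have : 1 < q ^ (i + 1) := Nat.one_lt_pow (by omega) (by omega)
  split_ifs <;> omega

/-- the cofactor without its factor `q - 1` -/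
def ucof' (q n : ℕ) : ℕ :=
  q ^ (n * (n - 1) / 2) *
    ∏ i ∈ Finset.range (n - 1), (if Even i then q ^ (i + 2) + 1 else q ^ (i + 2) - 1)

theorem ucof_eq (q n : ℕ) (hn : 1 ≤ n) : ucof q n = (q - 1) * ucof' q n := by
  obtain ⟨m, rfl⟩ : ∃ m, n = m + 1 := ⟨n - 1, by omega⟩
  unfold ucof ucof'
  rw [Finset.prod_range_succ', Nat.add_sub_cancel]
  have h1 : ∀ i ∈ Finset.range m,
      (if Even (i + 1) then q ^ (i + 1 + 1) - 1 else q ^ (i + 1 + 1) + 1) =
        (if Even i then q ^ (i + 2) + 1 else q ^ (i + 2) - 1) := by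
    intro i _
    by_cases hi : Even i
    · have : ¬ Even (i + 1) := by
        rw [Nat.even_add_one]; exact not_not.2 hi
      rw [if_pos hi, if_neg this]
    · have : Even (i + 1) := by
        rw [Nat.even_add_one]; exact hi
      rw [if_neg hi, if_pos this]
  rw [Finset.prod_congr rfl h1]
  simp
  ring

/-- the arithmetic conclusion -/
theorem dvd_ucof' (q n r : ℕ) (hr : r.Prime) (h : r ∣ ucof' q n) :
    r ∣ q ∨ ∃ k, 2 ≤ k ∧ k ≤ n ∧ r ∣ (if Even k then q ^ k + 1 else q ^ k - 1) := by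
  unfold ucof' at h
  rcases hr.dvd_mul.1 h with h1 | h1
  · left
    exact hr.dvd_of_dvd_pow h1
  · right
    obtain ⟨j, hj, hdvd⟩ := (Prime.dvd_finsetProd_iff hr.prime _).1 h1
    rw [Finset.mem_range] at hj
    refine ⟨j + 2, by omega, by omega, ?_⟩
    have : Even (j + 2) ↔ Even j := by
      rw [Nat.even_add]
      simp
    by_cases hj2 : Even j
    · rw [if_pos hj2] at hdvd
      rw [if_pos (this.2 hj2)]
      exact hdvd
    · rw [if_neg hj2] at hdvd
      rw [if_neg (fun h => hj2 (this.1 h))]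
      exact hdvd

end arith

section index

variable {K : Type*} [Field K] [Fintype K] {q₀ n : ℕ}

theorem mem_sl_iff {n : ℕ} (g : GL (Fin n) K) :
    g ∈ Cfsg.Geo.specialLinear (Fin n) K ↔ (g : Matrix (Fin n) (Fin n) K).det = 1 :=
  Cfsg.Agent.Helper28.BGP.mem_specialLinear_iff g

theorem card_specialLinear (n : ℕ) (hn : 1 ≤ n) :
    (Fintype.card K - 1) * Nat.card ↥(Cfsg.Geo.specialLinear (Fin n) K) =
      glOrd (Fintype.card K) n := by
  unfold glOrd
  rw [← Cfsg.Agent.Helper2.card_SL_mul n hn]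
  congr 1
  apply Nat.card_congr
  refine
    { toFun := fun g => ⟨(g : GL (Fin n) K), (mem_sl_iff _).1 g.2⟩
      invFun := fun s => ⟨SpecialLinearGroup.toGL s, (mem_sl_iff _).2 s.2⟩
      left_inv := ?_
      right_inv := ?_ }
  · intro g
    apply Subtype.ext
    apply Units.ext
    rfl
  · intro s
    apply Subtype.ext
    rfl

/-- conjugates of unitary matrices of determinant one are similarities of determinant one -/
theorem map_conj_le (φ : K →+* K) (hφ : ∀ x, φ x = x ^ q₀)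
    {f : (Fin n → K) → (Fin n → K) → K} (E : GL (Fin n) K)
    (hE : ∀ u v, hdot φ ((E : Matrix (Fin n) (Fin n) K) *ᵥ u)
      ((E : Matrix (Fin n) (Fin n) K) *ᵥ v) = f u v) :
    (Cfsg.GU n K q₀ ⊓ Cfsg.Geo.specialLinear (Fin n) K).map (MulAut.conj E⁻¹).toMonoidHom ≤
      Cfsg.Geo.similarityGroup f ⊓ Cfsg.Geo.specialLinear (Fin n) K := by
  rintro _ ⟨A, hA, rfl⟩
  obtain ⟨hA1, hA2⟩ := Subgroup.mem_inf.1 hA
  have hconj : (MulAut.conj E⁻¹).toMonoidHom A = E⁻¹ * A * E := by
    show (MulAut.conj E⁻¹) A = _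
    rw [MulAut.conj_apply, inv_inv]
  rw [hconj]
  refine Subgroup.mem_inf.2 ⟨?_, ?_⟩
  · refine ⟨1, fun u v => ?_⟩
    rw [Units.val_one, one_mul, ← hE, Matrix.mulVec_mulVec, Matrix.mulVec_mulVec,
      ← Units.val_mul]
    have h1 : E * (E⁻¹ * A * E) = A * E := by group
    rw [h1, Units.val_mul, ← Matrix.mulVec_mulVec, ← Matrix.mulVec_mulVec,
      ((mem_GU_iff_isU φ hφ n A).1 hA1).hdot_mulVec, hE]
  · rw [mem_sl_iff] at hA2 ⊢
    rw [Units.val_mul, Units.val_mul, Matrix.det_mul, Matrix.det_mul, hA2, mul_one,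
      ← Matrix.det_mul, ← Units.val_mul, inv_mul_cancel, Units.val_one, Matrix.det_one]

/-- a prime dividing the index of the similarity group of a unitary form in `SL_n(q₀²)` divides
`q₀` or `q₀ ^ k + (-1) ^ k` for some `2 ≤ k ≤ n` -/
theorem prime_dvd_relIndex_cases (hK : Fintype.card K = q₀ ^ 2) (p : ℕ) [Fact p.Prime]
    [CharP K p] (hn : 1 ≤ n) {f : (Fin n → K) → (Fin n → K) → K}
    (hf : Cfsg.Geo.IsUnitaryFormPow q₀ f) (r : ℕ) (hr : r.Prime)
    (hΩ : r ∣ (Cfsg.Geo.similarityGroup f).relIndex (Cfsg.Geo.specialLinear (Fin n) K)) :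
    r ∣ q₀ ∨ ∃ k, 2 ≤ k ∧ k ≤ n ∧ r ∣ (if Even k then q₀ ^ k + 1 else q₀ ^ k - 1) := by
  obtain ⟨φ, hφ⟩ := exists_frob hK
  have hq2 := two_le_q hK
  obtain ⟨e, he⟩ := exists_equiv_gform hK p φ hφ hf (κ := Fin n) (Fintype.card_fin n)
    (1 : Matrix (Fin n) (Fin n) K) (by
      rw [Matrix.transpose_one]
      ext i j
      by_cases hij : i = j
      · subst hij; simp
      · simp [hij]) (by rw [Matrix.det_one]; exact isUnit_one)
  set E : GL (Fin n) K := glOfEquiv e with hEdef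
  have hE : ∀ u v, hdot φ ((E : Matrix (Fin n) (Fin n) K) *ᵥ u)
      ((E : Matrix (Fin n) (Fin n) K) *ᵥ v) = f u v := by
    intro u v
    rw [hEdef, glOfEquiv_mulVec, glOfEquiv_mulVec, ← he]
    unfold gform
    rw [Matrix.one_mulVec]
    rfl
  set S := Cfsg.Geo.similarityGroup f with hS
  set G := Cfsg.Geo.specialLinear (Fin n) K with hG
  set U := Cfsg.GU n K q₀ ⊓ G with hU
  have h1 : Nat.card ↥(S ⊓ G) * S.relIndex G = Nat.card G := by
    rw [← Subgroup.inf_relIndex_right, ← Subgroup.relIndex_bot_left (H := S ⊓ G),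
      Subgroup.relIndex_mul_relIndex _ _ _ bot_le inf_le_right, Subgroup.relIndex_bot_left]
  have h2 : Nat.card U ∣ Nat.card ↥(S ⊓ G) := by
    rw [← Subgroup.card_map_of_injective (K := U) (f := (MulAut.conj E⁻¹).toMonoidHom)
      (MulAut.conj E⁻¹).injective]
    exact Subgroup.card_dvd_of_le (map_conj_le φ hφ E hE)
  have h3 : (q₀ + 1) * Nat.card U = guOrder q₀ n := card_GU_inf_SL hK n hn
  have h4 : (q₀ ^ 2 - 1) * Nat.card G = glOrd (q₀ ^ 2) n := by
    rw [← hK]
    exact card_specialLinear n hn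
  rw [glOrd_sq q₀ n (by omega), ucof_eq q₀ n hn, sq_sub_one q₀ (by omega)] at h4
  apply dvd_ucof' q₀ n r hr
  obtain ⟨t, ht⟩ := h2
  obtain ⟨s, hs⟩ := hΩ
  have hpos : 0 < guOrder q₀ n * ((q₀ + 1) * (q₀ - 1)) :=
    Nat.mul_pos (guOrder_pos q₀ n hq2) (Nat.mul_pos (by omega) (by omega))
  refine ⟨t * s, ?_⟩
  apply Nat.eq_of_mul_eq_mul_left hpos
  have h5 : Nat.card G = Nat.card U * t * (r * s) := by
    rw [← h1, ht, hs]
  calc guOrder q₀ n * ((q₀ + 1) * (q₀ - 1)) * ucof' q₀ n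
      = guOrder q₀ n * ((q₀ - 1) * ucof' q₀ n) * (q₀ + 1) := by ring
    _ = (q₀ + 1) * (q₀ - 1) * Nat.card G * (q₀ + 1) := by rw [← h4]
    _ = (q₀ + 1) * (q₀ - 1) * (Nat.card U * t * (r * s)) * (q₀ + 1) := by rw [h5]
    _ = ((q₀ + 1) * Nat.card U) * ((q₀ + 1) * (q₀ - 1)) * (r * (t * s)) := by ring
    _ = guOrder q₀ n * ((q₀ + 1) * (q₀ - 1)) * (r * (t * s)) := by rw [h3]

end index

end Cfsg.Agent.Helper28.BGQ
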