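import Mathlib
import Cfsg.Agent.Lib.Helper28.BGQ2
import Cfsg.Agent.Lib.Helper13.SemisimpleCharpolyGL

/-!
# Conjugating an element of the special linear group into a subgroup containing a model with the
same characteristic polynomial (helper28)
-/

set_option autoImplicit false
set_option linter.style.haveILetI false
set_option linter.unusedSectionVars false
set_option linter.unusedVariables false

namespace Cfsg.Agent.Helper28.BGQ

open Matrix Module Cfsg.Agent.Helper13.SS

section bridge

variable {K : Type*} [Field K] {n : ℕ}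

/-- an element of the special linear subgroup as an element of the special linear group -/
def toSL (x : GL (Fin n) K) (hx : (x : Matrix (Fin n) (Fin n) K).det = 1) :
    SpecialLinearGroup (Fin n) K := ⟨(x : Matrix (Fin n) (Fin n) K), hx⟩

theorem toGL_toSL (x : GL (Fin n) K) (hx : (x : Matrix (Fin n) (Fin n) K).det = 1) :
    SpecialLinearGroup.toGL (toSL x hx) = x := Units.ext rfl

theorem toSL_val (x : GL (Fin n) K) (hx : (x : Matrix (Fin n) (Fin n) K).det = 1) :
    (toSL x hx).1 = (x : Matrix (Fin n) (Fin n) K) := rfl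

theorem orderOf_toSL (x : GL (Fin n) K) (hx : (x : Matrix (Fin n) (Fin n) K).det = 1) :
    orderOf (toSL x hx) = orderOf x := by
  rw [← orderOf_injective (SpecialLinearGroup.toGL : SpecialLinearGroup (Fin n) K →* GL (Fin n) K)
    Matrix.SpecialLinearGroup.toGL_injective (toSL x hx), toGL_toSL]

theorem toGL_mem_sl [Fintype K] (c : SpecialLinearGroup (Fin n) K) :
    SpecialLinearGroup.toGL c ∈ Cfsg.Geo.specialLinear (Fin n) K :=
  (mem_sl_iff _).2 c.2

end bridge

section conj

variable {K : Type*} [Field K] [Fintype K] {p : ℕ} [Fact p.Prime] [CharP K p] {n : ℕ}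

/-- an element of `SL_n` of order prime to the characteristic is conjugate in `SL_n` into any
subgroup containing all invertible matrices with underlying matrix `Y`, where `Y` has finite order
prime to the characteristic and the same characteristic polynomial -/
theorem conj_into (x : GL (Fin n) K) (hx : x ∈ Cfsg.Geo.specialLinear (Fin n) K)
    (hxo : (orderOf x).Coprime p) (S : Subgroup (GL (Fin n) K))
    (Y : Matrix (Fin n) (Fin n) K) (M : ℕ) (hM : M.Coprime p) (hYM : Y ^ M = 1)
    (hYS : ∀ y : GL (Fin n) K, (y : Matrix (Fin n) (Fin n) K) = Y → y ∈ S)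
    (hchar : Y.charpoly = (x : Matrix (Fin n) (Fin n) K).charpoly) :
    ∃ g ∈ Cfsg.Geo.specialLinear (Fin n) K, g⁻¹ * x * g ∈ S := by
  have hp : p.Prime := Fact.out
  have hxd : (x : Matrix (Fin n) (Fin n) K).det = 1 := (mem_sl_iff x).1 hx
  have hdet : Y.det = 1 := by
    rw [Matrix.det_eq_sign_charpoly_coeff, hchar, ← Matrix.det_eq_sign_charpoly_coeff]
    exact hxd
  set y : SpecialLinearGroup (Fin n) K := ⟨Y, hdet⟩ with hy
  have hyM : y ^ M = 1 := by
    apply Subtype.ext
    rw [Matrix.SpecialLinearGroup.coe_pow, Matrix.SpecialLinearGroup.coe_one]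
    exact hYM
  have hyo : (orderOf y).Coprime p := Nat.Coprime.coprime_dvd_left (orderOf_dvd_of_pow_eq_one hyM) hM
  have hxo' : (orderOf (toSL x hxd)).Coprime p := by rw [orderOf_toSL]; exact hxo
  have hconj := sl_isConj_of_charpoly_eq (p := p) y (toSL x hxd) hyo hxo' (by
    rw [toSL_val]
    exact hchar)
  obtain ⟨c, hc⟩ := isConj_iff.1 hconj
  refine ⟨SpecialLinearGroup.toGL c, toGL_mem_sl c, ?_⟩
  have h1 : (SpecialLinearGroup.toGL c)⁻¹ * x * SpecialLinearGroup.toGL c =
      SpecialLinearGroup.toGL y := by
    rw [← toGL_toSL x hxd, ← hc, ← map_inv, ← map_mul, ← map_mul]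
    congr 1
    group
  rw [h1]
  exact hYS _ rfl

end conj

end Cfsg.Agent.Helper28.BGQ
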