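import Mathlib
import Cfsg.Agent.Lib.Helper28.BGQ3
import Cfsg.Agent.Lib.Helper13.SpSim2
import Cfsg.Agent.Lib.Helper13.FieldNorm8

/-!
# Elements with scalar square and the similarity group of a unitary form, odd characteristic
(helper28)
-/

set_option autoImplicit false
set_option linter.style.haveILetI false
set_option linter.unusedSectionVars false
set_option linter.unusedVariables false

namespace Cfsg.Agent.Helper28.BGQ

open Matrix Module Polynomial Cfsg.Agent.Helper11.Herm Cfsg.Agent.Helper13.SpSim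
  Cfsg.Agent.Helper13.FN Cfsg.Agent.Helper13.SS

section arith

variable {K : Type*} [Field K] [Fintype K]

/-- a nonsquare whose `m`-th power is one: the `2`-part of `q - 1` divides `m` -/
theorem val_le_of_nonsquare_pow (h2 : ringChar K ≠ 2) (w : K) (hw : ¬ IsSquare w) (m : ℕ)
    (hm : 1 ≤ m) (hwm : w ^ m = 1) :
    padicValNat 2 (Fintype.card K - 1) ≤ padicValNat 2 m := by
  by_contra hlt
  rw [not_le] at hlt
  apply hw
  have hw0 : w ≠ 0 := by
    rintro rfl
    exact hw ⟨0, by rw [mul_zero]⟩
  rw [FiniteField.isSquare_iff h2 hw0]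
  have hq1 : 1 < Fintype.card K := Fintype.one_lt_card
  have hodd := FiniteField.odd_card_of_char_ne_two h2
  set d := Nat.gcd m (Fintype.card K - 1) with hd
  have hwd : w ^ d = 1 := pow_gcd_eq_one.2 ⟨hwm, FiniteField.pow_card_sub_one_eq_one w hw0⟩
  obtain ⟨c, hc⟩ : d ∣ Fintype.card K - 1 := Nat.gcd_dvd_right _ _
  have hd0 : d ≠ 0 := by
    intro h0
    rw [h0, zero_mul] at hc
    omega
  have hc0 : c ≠ 0 := by
    intro h0
    rw [h0, mul_zero] at hc
    omega
  have hvd : padicValNat 2 d ≤ padicValNat 2 m := by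
    rw [← padicValNat_dvd_iff_le (by omega)]
    exact dvd_trans pow_padicValNat_dvd (Nat.gcd_dvd_left _ _)
  have hvc : 1 ≤ padicValNat 2 c := by
    rw [hc, padicValNat.mul hd0 hc0] at hlt
    omega
  obtain ⟨c', rfl⟩ := dvd_of_one_le_padicValNat hvc
  have h3 : Fintype.card K / 2 = d * c' := by
    have : Fintype.card K = 2 * (d * c') + 1 := by
      have : d * (2 * c') = 2 * (d * c') := by ring
      omega
    omega
  rw [h3, pow_mul, hwd, one_pow]

end arith

section model

variable {K : Type*} [Field K] {n : ℕ}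

theorem charpoly_smul_diag_sgn (a : K) (t : ℕ) (ht : t ≤ n) :
    (a • Matrix.diagonal (sgn (F := K) n t)).charpoly = (X - C a) ^ (n - t) * (X + C a) ^ t := by
  have h1 : a • Matrix.diagonal (sgn (F := K) n t) =
      Matrix.diagonal (fun j => a * sgn n t j) := by
    ext i j
    by_cases hij : i = j
    · subst hij
      simp
    · simp [hij]
  rw [h1, Matrix.charpoly_diagonal]
  have h3 : ∀ j : Fin n, (X - C (a * sgn n t j) : K[X]) =
      if (j : ℕ) < t then X + C a else X - C a := by
    intro j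
    unfold sgn
    split_ifs
    · rw [mul_neg, mul_one, C_neg, sub_neg_eq_add]
    · rw [mul_one]
  simp only [h3]
  rw [Finset.prod_ite, Finset.prod_const, Finset.prod_const, mul_comm]
  congr 2
  · have h4 := Finset.card_filter_add_card_filter_not (s := (Finset.univ : Finset (Fin n)))
      (fun j : Fin n => (j : ℕ) < t)
    have h5 : (Finset.univ.filter (fun j : Fin n => (j : ℕ) < t)).card = t := by
      rw [Fin.card_filter_val_lt, min_eq_right ht]
    rw [Finset.card_univ, Fintype.card_fin] at h4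
    omega
  · rw [Fin.card_filter_val_lt, min_eq_right ht]

theorem smul_diag_sgn_sim (φ : K →+* K) (a : K) (t : ℕ) :
    (a • Matrix.diagonal (sgn (F := K) n t))ᵀ * (1 : Matrix (Fin n) (Fin n) K) *
      (a • Matrix.diagonal (sgn (F := K) n t)).map φ =
        (a * φ a) • (1 : Matrix (Fin n) (Fin n) K) := by
  have h1 : (a • Matrix.diagonal (sgn (F := K) n t)).map φ =
      φ a • Matrix.diagonal (sgn (F := K) n t) := by
    ext i j
    rw [Matrix.map_apply, Matrix.smul_apply, Matrix.smul_apply, smul_eq_mul, smul_eq_mul, map_mul]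
    congr 1
    by_cases hij : i = j
    · subst hij
      rw [Matrix.diagonal_apply_eq]
      unfold sgn
      split_ifs
      · rw [map_neg, map_one]
      · rw [map_one]
    · rw [Matrix.diagonal_apply_ne _ hij, map_zero]
  rw [h1, Matrix.transpose_smul, Matrix.diagonal_transpose, Matrix.mul_one, Matrix.smul_mul,
    Matrix.mul_smul, smul_smul, diag_sgn_sq]

theorem smul_diag_sgn_sq (a : K) (t : ℕ) :
    (a • Matrix.diagonal (sgn (F := K) n t)) * (a • Matrix.diagonal (sgn (F := K) n t)) =
      (a * a) • (1 : Matrix (Fin n) (Fin n) K) := by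
  rw [Matrix.smul_mul, Matrix.mul_smul, smul_smul, diag_sgn_sq]

end model

section std

variable {K : Type*} [Field K] [Fintype K] {q₀ n : ℕ}

/-- any unitary form is equivalent to the standard one -/
theorem exists_equiv_std (hK : Fintype.card K = q₀ ^ 2) (p : ℕ) [Fact p.Prime] [CharP K p]
    (φ : K →+* K) (hφ : ∀ x, φ x = x ^ q₀)
    {f : (Fin n → K) → (Fin n → K) → K} (hf : Cfsg.Geo.IsUnitaryFormPow q₀ f) :
    ∃ e : (Fin n → K) ≃ₗ[K] (Fin n → K),
      ∀ u v, gform φ (1 : Matrix (Fin n) (Fin n) K) (e u) (e v) = f u v :=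
  exists_equiv_gform hK p φ hφ hf (κ := Fin n) (Fintype.card_fin n)
    (1 : Matrix (Fin n) (Fin n) K) (by
      rw [Matrix.transpose_one]
      ext i j
      by_cases hij : i = j
      · subst hij; simp
      · simp [hij]) (by rw [Matrix.det_one]; exact isUnit_one)

end std

section main

variable {K : Type*} [Field K] [Fintype K] {p : ℕ} [Fact p.Prime] [CharP K p] {q₀ n : ℕ}
  {f : (Fin n → K) → (Fin n → K) → K}

theorem ringChar_ne_two (hp2 : p ≠ 2) : ringChar K ≠ 2 := by
  rw [ringChar.eq K p]
  exact hp2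

theorem sq_scalar_ne_zero (hn : 1 ≤ n) (x : GL (Fin n) K) (z : K)
    (hz : ((x ^ 2 : GL (Fin n) K) : Matrix (Fin n) (Fin n) K) =
      z • (1 : Matrix (Fin n) (Fin n) K)) : z ≠ 0 := by
  rintro rfl
  have h1 := congrArg Matrix.det hz
  haveI : Nonempty (Fin n) := ⟨⟨0, hn⟩⟩
  rw [zero_smul, Matrix.det_zero] at h1
  have h2 : IsUnit ((x ^ 2 : GL (Fin n) K) : Matrix (Fin n) (Fin n) K).det :=
    (Matrix.isUnit_iff_isUnit_det _).1 (x ^ 2).isUnit
  rw [h1] at h2
  exact not_isUnit_zero h2

/-- odd characteristic: every element of `SL_n` with scalar square is conjugate into the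
similarity group of a unitary form, if `(n)_2 ≤ (q - 1)_2` -/
theorem conj_invol_odd (hK : Fintype.card K = q₀ ^ 2) (hp2 : p ≠ 2) (hn : 1 ≤ n)
    (hf : Cfsg.Geo.IsUnitaryFormPow q₀ f)
    (hv : padicValNat 2 n ≤ padicValNat 2 (Fintype.card K - 1))
    (x : GL (Fin n) K) (hx : x ∈ Cfsg.Geo.specialLinear (Fin n) K) (z : K)
    (hz : ((x ^ 2 : GL (Fin n) K) : Matrix (Fin n) (Fin n) K) =
      z • (1 : Matrix (Fin n) (Fin n) K)) :
    ∃ g ∈ Cfsg.Geo.specialLinear (Fin n) K, g⁻¹ * x * g ∈ Cfsg.Geo.similarityGroup f := by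
  have hp : p.Prime := Fact.out
  have h2 : (2 : K) ≠ 0 := two_ne_zero_of_char_ne (p := p) hp2
  have hrc : ringChar K ≠ 2 := ringChar_ne_two (K := K) (p := p) hp2
  have hz0 : z ≠ 0 := sq_scalar_ne_zero hn x z hz
  have hxd : (x : Matrix (Fin n) (Fin n) K).det = 1 := (mem_sl_iff x).1 hx
  have hxM : (x : Matrix (Fin n) (Fin n) K) * (x : Matrix (Fin n) (Fin n) K) =
      z • (1 : Matrix (Fin n) (Fin n) K) := by
    rw [← pow_two, ← Units.val_pow_eq_pow_val]
    exact hz
  have hxo : (orderOf x).Coprime p := by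
    rw [← orderOf_toSL x hxd]
    apply orderOf_coprime_of_sq hp2 (toSL x hxd) z hz0
    rw [Matrix.SpecialLinearGroup.coe_pow, toSL_val, pow_two]
    exact hxM
  obtain ⟨φ, hφ⟩ := exists_frob hK
  obtain ⟨e, he⟩ := exists_equiv_std hK p φ hφ hf
  by_cases hsq : IsSquare z
  · obtain ⟨a, rfl⟩ := hsq
    have ha : a ≠ 0 := fun h => hz0 (by rw [h, mul_zero])
    set t := finrank K (LinearMap.ker (Matrix.toLin'
      ((x : Matrix (Fin n) (Fin n) K) + a • (1 : Matrix (Fin n) (Fin n) K)))) with ht
    have hcx := charpoly_of_sq_split h2 a ha (x : Matrix (Fin n) (Fin n) K) hxM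
    rw [← ht] at hcx
    have htn : t ≤ n := by
      have := Submodule.finrank_le (LinearMap.ker (Matrix.toLin'
        ((x : Matrix (Fin n) (Fin n) K) + a • (1 : Matrix (Fin n) (Fin n) K))))
      rwa [Module.finrank_fin_fun] at this
    set A : Matrix (Fin n) (Fin n) K := a • Matrix.diagonal (sgn (F := K) n t) with hA
    have hYY : pull e A * pull e A = (a * a) • (1 : Matrix (Fin n) (Fin n) K) := by
      rw [← pull_mul, hA, smul_diag_sgn_sq, pull_smul, pull_one]
    have hφa : a * φ a ≠ 0 := by
      rw [hφ]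
      exact mul_ne_zero ha (pow_ne_zero _ ha)
    apply conj_into (p := p) x hx hxo _ (pull e A) (2 * (Fintype.card K - 1))
    · apply Nat.Coprime.mul_left
      · exact (Nat.coprime_primes Nat.prime_two hp).2 (Ne.symm hp2)
      · have := coprime_card_pow_sub_one (F := K) (p := p) rfl 1 (by norm_num)
        rwa [pow_one] at this
    · rw [pow_mul, pow_two, hYY, _root_.smul_pow, one_pow,
        FiniteField.pow_card_sub_one_eq_one (a * a) hz0, one_smul]
    · intro y hy
      apply mem_similarityGroup y (a * φ a) hφa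
      intro u v
      rw [hy]
      exact sim_pull_gform φ 1 e he A (a * φ a) (smul_diag_sgn_sim φ a t) u v
    · rw [charpoly_pull, hA, charpoly_smul_diag_sgn a t htn, hcx]
  · exfalso
    have hcx := charpoly_of_sq_nonsplit z hsq (x : Matrix (Fin n) (Fin n) K) hxM
    have hdeg : n = 2 * (n / 2) := by
      have h3 := congrArg Polynomial.natDegree hcx
      rw [Matrix.charpoly_natDegree_eq_dim, Fintype.card_fin, natDegree_pow,
        natDegree_X_pow_sub_C] at h3
      omega
    have hdet : (-z) ^ (n / 2) = 1 := by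
      have h3 := Matrix.det_eq_sign_charpoly_coeff (x : Matrix (Fin n) (Fin n) K)
      rw [hxd, Fintype.card_fin, hcx, coeff_zero_eq_eval_zero, eval_pow, eval_sub, eval_pow,
        eval_X, eval_C, zero_pow (by norm_num), zero_sub] at h3
      have h4 : Even n := ⟨n / 2, by omega⟩
      rw [h4.neg_one_pow, one_mul] at h3
      exact h3.symm
    have hq4 : Fintype.card K % 4 ≠ 3 := by
      rw [hK]
      have hq0 : q₀ % 2 = 1 := by
        have := FiniteField.odd_card_of_char_ne_two hrc
        rw [hK, Nat.pow_mod] at this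
        rcases Nat.mod_two_eq_zero_or_one q₀ with h | h
        · rw [h] at this
          norm_num at this
        · exact h
      have : q₀ % 4 = 1 ∨ q₀ % 4 = 3 := by omega
      rcases this with h | h <;> rw [Nat.pow_mod, h] <;> norm_num
    obtain ⟨i, hi⟩ := FiniteField.isSquare_neg_one_iff.2 hq4
    have hw : ¬ IsSquare (-z) := by
      rintro ⟨b, hb⟩
      apply hsq
      refine ⟨i * b, ?_⟩
      have : z = -(b * b) := by rw [← hb, neg_neg]
      rw [this]
      linear_combination (b * b) * hi
    have hm1 : 1 ≤ n / 2 := by omega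
    have h5 := val_le_of_nonsquare_pow hrc (-z) hw (n / 2) hm1 hdet
    have h6 : padicValNat 2 (n / 2) = padicValNat 2 n - 1 :=
      padicValNat.div ⟨n / 2, hdeg⟩
    have h7 : 1 ≤ padicValNat 2 n :=
      one_le_padicValNat_of_dvd (by omega) ⟨n / 2, hdeg⟩
    omega

end main

end Cfsg.Agent.Helper28.BGQ
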