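import Mathlib
import Cfsg.Agent.Lib.Helper28.BGQ4

/-!
# An element with nonsquare scalar square without conjugates in the similarity group of a unitary
form (helper28)
-/

set_option autoImplicit false
set_option linter.style.haveILetI false
set_option linter.unusedSectionVars false
set_option linter.unusedVariables false

namespace Cfsg.Agent.Helper28.BGQ

open Matrix Module Polynomial Cfsg.Agent.Helper11.Herm Cfsg.Agent.Helper13.SpSim
  Cfsg.Agent.Helper13.FN Cfsg.Agent.Helper13.SS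

section conjpow

variable {K : Type*} [Field K] {n : ℕ}

theorem conj_pow_val (g x : GL (Fin n) K) (k : ℕ) (z : K)
    (hz : ((x ^ k : GL (Fin n) K) : Matrix (Fin n) (Fin n) K) =
      z • (1 : Matrix (Fin n) (Fin n) K)) :
    (((g⁻¹ * x * g) ^ k : GL (Fin n) K) : Matrix (Fin n) (Fin n) K) =
      z • (1 : Matrix (Fin n) (Fin n) K) := by
  have h1 : g⁻¹ * x * g = g⁻¹ * x * g⁻¹⁻¹ := by rw [inv_inv]
  rw [h1, conj_pow, inv_inv, Units.val_mul, Units.val_mul, hz, Matrix.mul_smul, Matrix.mul_one,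
    Matrix.smul_mul, ← Units.val_mul, inv_mul_cancel, Units.val_one]

theorem conj_not_scalar (g x : GL (Fin n) K)
    (hx : ∀ z : K, (x : Matrix (Fin n) (Fin n) K) ≠ z • (1 : Matrix (Fin n) (Fin n) K)) (z : K) :
    ((g⁻¹ * x * g : GL (Fin n) K) : Matrix (Fin n) (Fin n) K) ≠
      z • (1 : Matrix (Fin n) (Fin n) K) := by
  intro h
  apply hx z
  have h1 : x = g * (g⁻¹ * x * g) * g⁻¹ := by group
  rw [h1, Units.val_mul, Units.val_mul, h, Matrix.mul_smul, Matrix.mul_one, Matrix.smul_mul,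
    ← Units.val_mul, mul_inv_cancel, Units.val_one]

end conjpow

section arith

variable {K : Type*} [Field K] [Fintype K]

theorem exists_nonsquare_pow (hrc : ringChar K ≠ 2) (m : ℕ)
    (hm : 2 ^ padicValNat 2 (Fintype.card K - 1) ∣ m) : ∃ z : K, ¬ IsSquare z ∧ z ^ m = 1 := by
  obtain ⟨z₀, hz₀⟩ := FiniteField.exists_nonsquare hrc
  have hz₀0 : z₀ ≠ 0 := by
    rintro rfl
    exact hz₀ ⟨0, by rw [mul_zero]⟩
  have hq1 : 1 < Fintype.card K := Fintype.one_lt_card
  set s := padicValNat 2 (Fintype.card K - 1) with hs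
  obtain ⟨u, hu⟩ : 2 ^ s ∣ Fintype.card K - 1 := pow_padicValNat_dvd
  have huodd : Odd u := by
    rw [← Nat.not_even_iff_odd]
    rintro ⟨u', hu'⟩
    have h1 : 2 ^ (s + 1) ∣ Fintype.card K - 1 := by
      rw [hu, hu', pow_succ]
      exact ⟨u', by ring⟩
    rw [padicValNat_dvd_iff_le (by omega)] at h1
    omega
  have hodd := FiniteField.odd_card_of_char_ne_two hrc
  have hhalf : z₀ ^ (Fintype.card K / 2) = -1 := by
    rcases FiniteField.pow_dichotomy hrc hz₀0 with h | h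
    · exact absurd ((FiniteField.isSquare_iff hrc hz₀0).2 h) hz₀
    · exact h
  refine ⟨z₀ ^ u, ?_, ?_⟩
  · have hz0 : z₀ ^ u ≠ 0 := pow_ne_zero _ hz₀0
    rw [FiniteField.isSquare_iff hrc hz0, ← pow_mul, mul_comm, pow_mul, hhalf, huodd.neg_one_pow]
    intro h
    have h2 : (2 : K) = 0 := by linear_combination -h
    exact Ring.two_ne_zero hrc h2
  · obtain ⟨c, rfl⟩ := hm
    rw [← pow_mul, ← mul_assoc, mul_comm u, ← hu, pow_mul,
      FiniteField.pow_card_sub_one_eq_one z₀ hz₀0, one_pow]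

end arith

section nonmem

variable {K : Type*} [Field K] [Fintype K] {q₀ n : ℕ} {f : (Fin n → K) → (Fin n → K) → K}

/-- a matrix with nonsquare scalar square is no similarity of a unitary form -/
theorem not_sim_of_sq_nonsquare (hK : Fintype.card K = q₀ ^ 2) (hrc : ringChar K ≠ 2)
    (hn : 1 ≤ n) (hf : Cfsg.Geo.IsUnitaryFormPow q₀ f) (Y : Matrix (Fin n) (Fin n) K) (z : K)
    (hz : ¬ IsSquare z) (hYY : Y * Y = z • (1 : Matrix (Fin n) (Fin n) K)) (c : K) (hc0 : c ≠ 0)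
    (hY : ∀ u v, f (Y *ᵥ u) (Y *ᵥ v) = c * f u v) : False := by
  have hz0 : z ≠ 0 := by
    rintro rfl
    exact hz ⟨0, by rw [mul_zero]⟩
  have hcq : c ^ q₀ = c := mult_fixed hn hf Y c hY
  have hu : (Pi.single (⟨0, hn⟩ : Fin n) (1 : K) : Fin n → K) ≠ 0 := by
    intro h
    have := congrFun h ⟨0, hn⟩
    rw [Pi.single_eq_same, Pi.zero_apply] at this
    exact one_ne_zero this
  obtain ⟨⟨w, hw⟩, -⟩ := hf.nondegenerate _ hu
  set u := (Pi.single (⟨0, hn⟩ : Fin n) (1 : K) : Fin n → K) with hudef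
  have h1 : f (Y *ᵥ (Y *ᵥ w)) (Y *ᵥ (Y *ᵥ u)) = c * c * f w u := by
    rw [hY, hY, mul_assoc]
  have h2 : ∀ v : Fin n → K, Y *ᵥ (Y *ᵥ v) = z • v := by
    intro v
    rw [Matrix.mulVec_mulVec, hYY, Matrix.smul_mulVec, Matrix.one_mulVec]
  rw [h2, h2, hf.smul_left, hf.herm w (z • u), hf.smul_left, mul_pow, ← hf.herm w u,
    ← mul_assoc] at h1
  have h3 : z * z ^ q₀ = c * c := mul_right_cancel₀ hw h1
  apply hz
  rw [FiniteField.isSquare_iff hrc hz0]
  have hodd := FiniteField.odd_card_of_char_ne_two hrc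
  have hq0 : q₀ % 2 = 1 := by
    rw [hK, Nat.pow_mod] at hodd
    rcases Nat.mod_two_eq_zero_or_one q₀ with h | h
    · rw [h] at hodd
      norm_num at hodd
    · exact h
  have hq1 : 1 ≤ q₀ := by omega
  have h4 : Fintype.card K / 2 = (q₀ + 1) * ((q₀ - 1) / 2) := by
    obtain ⟨k, hk⟩ : ∃ k, q₀ = 2 * k + 1 := ⟨q₀ / 2, by omega⟩
    rw [hK, hk]
    have e1 : (2 * k + 1 - 1) / 2 = k := by omega
    have e2 : (2 * k + 1) ^ 2 = 2 * ((2 * k + 1 + 1) * k) + 1 := by ring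
    rw [e1, e2]
    omega
  have h5 : c ^ (q₀ - 1) = 1 := by
    have : c ^ (q₀ - 1) * c = 1 * c := by
      rw [← pow_succ, Nat.sub_add_cancel hq1, hcq, one_mul]
    exact mul_right_cancel₀ hc0 this
  have h6 : (q₀ - 1) / 2 * 2 = q₀ - 1 := by omega
  rw [h4, pow_mul, pow_succ, mul_comm (z ^ q₀) z, h3, ← pow_two, ← pow_mul, mul_comm 2, h6, h5]

end nonmem

section witness

variable {K : Type*} [Field K] [Fintype K] {p : ℕ} [Fact p.Prime] [CharP K p] {q₀ n : ℕ}
  {f : (Fin n → K) → (Fin n → K) → K}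

/-- odd characteristic: if `(q - 1)_2 < (n)_2` some element of `SL_n` with scalar square, not a
scalar, has no conjugate in the similarity group of a unitary form -/
theorem exists_bad_invol (hK : Fintype.card K = q₀ ^ 2) (hp2 : p ≠ 2) (hn : 1 ≤ n)
    (hf : Cfsg.Geo.IsUnitaryFormPow q₀ f)
    (hv : padicValNat 2 (Fintype.card K - 1) < padicValNat 2 n) :
    ∃ x ∈ Cfsg.Geo.specialLinear (Fin n) K,
      (∃ z : K, ((x ^ 2 : GL (Fin n) K) : Matrix (Fin n) (Fin n) K) =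
        z • (1 : Matrix (Fin n) (Fin n) K)) ∧
      (∀ z : K, (x : Matrix (Fin n) (Fin n) K) ≠ z • (1 : Matrix (Fin n) (Fin n) K)) ∧
      ∀ g ∈ Cfsg.Geo.specialLinear (Fin n) K, g⁻¹ * x * g ∉ Cfsg.Geo.similarityGroup f := by
  have hrc : ringChar K ≠ 2 := ringChar_ne_two (K := K) (p := p) hp2
  have hq1 : 1 < Fintype.card K := Fintype.one_lt_card
  have hodd := FiniteField.odd_card_of_char_ne_two hrc
  set s := padicValNat 2 (Fintype.card K - 1) with hs
  have hs1 : 1 ≤ s := one_le_padicValNat_of_dvd (by omega) (by omega)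
  have h2n : 2 ^ (s + 1) ∣ n := by
    rw [padicValNat_dvd_iff_le (by omega)]
    omega
  obtain ⟨m, hm⟩ : 2 ∣ n := dvd_trans (dvd_pow_self 2 (by omega)) h2n
  have hsm : 2 ^ s ∣ m := by
    obtain ⟨c, hc⟩ := h2n
    refine ⟨c, ?_⟩
    rw [pow_succ] at hc
    have : 2 * m = 2 * (2 ^ s * c) := by rw [← hm, hc]; ring
    omega
  have hmeven : Even m := by
    obtain ⟨c, hc⟩ := hsm
    obtain ⟨s', hs'⟩ : ∃ s', s = s' + 1 := ⟨s - 1, by omega⟩
    exact ⟨2 ^ s' * c, by rw [hc, hs', pow_succ]; ring⟩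
  obtain ⟨z, hzns, hzm⟩ := exists_nonsquare_pow hrc m hsm
  have hz0 : z ≠ 0 := by
    rintro rfl
    exact hzns ⟨0, by rw [mul_zero]⟩
  have hfin : finrank K (Fin n → K) = finrank K (Fin m ⊕ Fin m → K) := by
    rw [Module.finrank_fin_fun, Module.finrank_pi, Fintype.card_sum, Fintype.card_fin, hm]
    ring
  set e₀ : (Fin n → K) ≃ₗ[K] (Fin m ⊕ Fin m → K) := LinearEquiv.ofFinrankEq _ _ hfin with he₀
  set X : Matrix (Fin n) (Fin n) K := pull e₀ (Ynon m z) with hX
  have hXX : X * X = z • (1 : Matrix (Fin n) (Fin n) K) := by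
    rw [hX, ← pull_mul, Ynon_sq, pull_smul, pull_one]
  have hXinv : X * (z⁻¹ • X) = 1 := by
    rw [Matrix.mul_smul, hXX, smul_smul, inv_mul_cancel₀ hz0, one_smul]
  have hXinv' : (z⁻¹ • X) * X = 1 := by
    rw [Matrix.smul_mul, hXX, smul_smul, inv_mul_cancel₀ hz0, one_smul]
  set x : GL (Fin n) K := ⟨X, z⁻¹ • X, hXinv, hXinv'⟩ with hx
  have hxv : (x : Matrix (Fin n) (Fin n) K) = X := rfl
  have hx2 : ((x ^ 2 : GL (Fin n) K) : Matrix (Fin n) (Fin n) K) =
      z • (1 : Matrix (Fin n) (Fin n) K) := by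
    rw [Units.val_pow_eq_pow_val, hxv, pow_two, hXX]
  have hdet : X.det = 1 := by
    have hcx := charpoly_of_sq_nonsplit z hzns X hXX
    have h3 := Matrix.det_eq_sign_charpoly_coeff X
    rw [Fintype.card_fin, hcx, coeff_zero_eq_eval_zero, eval_pow, eval_sub, eval_pow,
      eval_X, eval_C, zero_pow (by norm_num), zero_sub] at h3
    have h4 : Even n := ⟨m, by omega⟩
    have h5 : n / 2 = m := by omega
    rw [h4.neg_one_pow, one_mul, h5, neg_pow, hmeven.neg_one_pow, one_mul, hzm] at h3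
    exact h3
  refine ⟨x, (mem_sl_iff x).2 hdet, ⟨z, hx2⟩, ?_, ?_⟩
  · intro c hc
    rw [hxv] at hc
    apply hzns
    refine ⟨c, ?_⟩
    have h3 := hXX
    rw [hc, Matrix.smul_mul, Matrix.mul_smul, Matrix.mul_one, smul_smul] at h3
    have h4 := congrFun (congrFun h3 ⟨0, hn⟩) ⟨0, hn⟩
    rw [Matrix.smul_apply, Matrix.smul_apply, Matrix.one_apply_eq, smul_eq_mul, smul_eq_mul,
      mul_one, mul_one] at h4
    exact h4.symm
  · rintro g - ⟨c, hc⟩
    have h3 := conj_pow_val g x 2 z hx2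
    rw [Units.val_pow_eq_pow_val, pow_two] at h3
    exact not_sim_of_sq_nonsquare hK hrc hn hf _ z hzns h3 (c : K) c.ne_zero hc

end witness

end Cfsg.Agent.Helper28.BGQ
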