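import Mathlib
import Cfsg.Agent.Lib.Helper28.BGQ5
import Cfsg.Agent.Lib.Helper28.BGP2

/-!
# The eigenvalue symmetry of conjugates of diagonal matrices lying in the similarity group of a
unitary form (helper28)
-/

set_option autoImplicit false
set_option linter.style.haveILetI false
set_option linter.unusedSectionVars false
set_option linter.unusedVariables false

namespace Cfsg.Agent.Helper28.BGQ

open Matrix Module Cfsg.Agent.Helper11.Herm Cfsg.Agent.Helper13.SpSim Cfsg.Agent.Helper28.BGP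

section rank

variable {K : Type*} [Field K] {n : ℕ}

theorem rank_conj_sub (S' S X : Matrix (Fin n) (Fin n) K) (hSS : S' * S = 1) (ν : K) :
    (S' * X * S - ν • (1 : Matrix (Fin n) (Fin n) K)).rank =
      (X - ν • (1 : Matrix (Fin n) (Fin n) K)).rank := by
  have hdet : S'.det * S.det = 1 := by rw [← Matrix.det_mul, hSS, Matrix.det_one]
  have hS' : IsUnit S'.det := IsUnit.of_mul_eq_one _ hdet
  have hS : IsUnit S.det := IsUnit.of_mul_eq_one _ (by rw [mul_comm]; exact hdet)
  have h1 : S' * X * S - ν • (1 : Matrix (Fin n) (Fin n) K) =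
      S' * (X - ν • (1 : Matrix (Fin n) (Fin n) K)) * S := by
    rw [Matrix.mul_sub, Matrix.sub_mul, Matrix.mul_smul, Matrix.mul_one, Matrix.smul_mul, hSS]
  rw [h1, Matrix.rank_mul_eq_left_of_isUnit_det _ _ hS,
    Matrix.rank_mul_eq_right_of_isUnit_det _ _ hS']

/-- the eigenvalue symmetry of a similarity of the standard unitary form -/
theorem rank_symm_std (φ : K →+* K) (A : Matrix (Fin n) (Fin n) K) (τ μ : K) (hτ : τ ≠ 0)
    (hμ : μ ≠ 0)
    (hA : Aᵀ * (1 : Matrix (Fin n) (Fin n) K) * A.map φ = τ • (1 : Matrix (Fin n) (Fin n) K)) :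
    (A - μ • (1 : Matrix (Fin n) (Fin n) K)).rank =
      (A.map φ - (τ / μ) • (1 : Matrix (Fin n) (Fin n) K)).rank := by
  rw [Matrix.mul_one] at hA
  have hBdet : IsUnit (A.map φ).det := by
    have h1 := congrArg Matrix.det hA
    rw [Matrix.det_mul, Matrix.det_smul, Matrix.det_one, mul_one] at h1
    rw [isUnit_iff_ne_zero]
    intro h0
    rw [h0, mul_zero] at h1
    exact (pow_ne_zero _ hτ) h1.symm
  have hμ1 : IsUnit ((-μ) • (1 : Matrix (Fin n) (Fin n) K)).det := by
    rw [Matrix.det_smul, Matrix.det_one, mul_one]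
    exact isUnit_iff_ne_zero.2 (pow_ne_zero _ (neg_ne_zero.2 hμ))
  have key : (A - μ • (1 : Matrix (Fin n) (Fin n) K))ᵀ * A.map φ =
      ((-μ) • (1 : Matrix (Fin n) (Fin n) K)) *
        (A.map φ - (τ / μ) • (1 : Matrix (Fin n) (Fin n) K)) := by
    rw [Matrix.transpose_sub, Matrix.transpose_smul, Matrix.transpose_one, Matrix.sub_mul, hA,
      Matrix.mul_sub, Matrix.smul_mul, Matrix.one_mul, Matrix.smul_mul, Matrix.one_mul,
      Matrix.smul_mul, Matrix.one_mul, smul_smul]
    have h1 : -μ * (τ / μ) = -τ := by field_simp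
    rw [h1, neg_smul, neg_smul, sub_neg_eq_add, neg_add_eq_sub]
  rw [← Matrix.rank_transpose (A - μ • (1 : Matrix (Fin n) (Fin n) K)),
    ← Matrix.rank_mul_eq_left_of_isUnit_det _ _ hBdet, key,
    Matrix.rank_mul_eq_right_of_isUnit_det _ _ hμ1]

theorem pull_symm_eq_mul (e : (Fin n → K) ≃ₗ[K] (Fin n → K)) (Y : Matrix (Fin n) (Fin n) K) :
    pull e.symm Y = ((glOfEquiv e : GL (Fin n) K) : Matrix (Fin n) (Fin n) K) * Y *
      (((glOfEquiv e)⁻¹ : GL (Fin n) K) : Matrix (Fin n) (Fin n) K) := by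
  apply Matrix.toLin'.injective
  apply LinearMap.ext
  intro v
  rw [Matrix.toLin'_apply, Matrix.toLin'_apply, pull_mulVec, LinearEquiv.symm_symm,
    ← Matrix.mulVec_mulVec, ← Matrix.mulVec_mulVec, glOfEquiv_mulVec]
  congr 2
  show e.symm v = LinearMap.toMatrix' (e.symm : (Fin n → K) →ₗ[K] (Fin n → K)) *ᵥ v
  rw [LinearMap.toMatrix'_mulVec]
  rfl

end rank

section symm

variable {K : Type*} [Field K] [Fintype K] {q₀ n : ℕ} {f : (Fin n → K) → (Fin n → K) → K}

/-- the eigenvalue symmetry of a matrix with entries in the fixed field having a conjugate in the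
similarity group of a unitary form -/
theorem rank_symm_of_conj_sim (hK : Fintype.card K = q₀ ^ 2) (p : ℕ) [Fact p.Prime] [CharP K p]
    (hf : Cfsg.Geo.IsUnitaryFormPow q₀ f) (φ : K →+* K) (hφ : ∀ x, φ x = x ^ q₀)
    (x g : GL (Fin n) K)
    (hxφ : (x : Matrix (Fin n) (Fin n) K).map φ = (x : Matrix (Fin n) (Fin n) K))
    (c : K) (hc0 : c ≠ 0)
    (hc : ∀ u v, f (((g⁻¹ * x * g : GL (Fin n) K) : Matrix (Fin n) (Fin n) K) *ᵥ u)
      (((g⁻¹ * x * g : GL (Fin n) K) : Matrix (Fin n) (Fin n) K) *ᵥ v) = c * f u v)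
    (μ : K) (hμ : μ ≠ 0) :
    ((x : Matrix (Fin n) (Fin n) K) - μ • (1 : Matrix (Fin n) (Fin n) K)).rank =
      ((x : Matrix (Fin n) (Fin n) K) - (c / μ) • (1 : Matrix (Fin n) (Fin n) K)).rank := by
  obtain ⟨e, he⟩ := exists_equiv_std hK p φ hφ hf
  set Y : Matrix (Fin n) (Fin n) K := ((g⁻¹ * x * g : GL (Fin n) K) : Matrix (Fin n) (Fin n) K)
    with hY
  set A := pull e.symm Y with hA
  have hsim := sim_pull_symm φ 1 e he Y c hc
  rw [← hA] at hsim
  have h1 := rank_symm_std φ A c μ hc0 hμ hsim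
  set T : GL (Fin n) K := g * (glOfEquiv e)⁻¹ with hT
  have hAT : A = ((T⁻¹ : GL (Fin n) K) : Matrix (Fin n) (Fin n) K) *
      (x : Matrix (Fin n) (Fin n) K) * (T : Matrix (Fin n) (Fin n) K) := by
    rw [hA, pull_symm_eq_mul, hY, ← Units.val_mul, ← Units.val_mul, ← Units.val_mul,
      ← Units.val_mul]
    congr 1
    rw [hT]
    group
  have hTT : ((T⁻¹ : GL (Fin n) K) : Matrix (Fin n) (Fin n) K) *
      (T : Matrix (Fin n) (Fin n) K) = 1 := by
    rw [← Units.val_mul, inv_mul_cancel, Units.val_one]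
  have h2 : (A - μ • (1 : Matrix (Fin n) (Fin n) K)).rank =
      ((x : Matrix (Fin n) (Fin n) K) - μ • (1 : Matrix (Fin n) (Fin n) K)).rank := by
    rw [hAT]
    exact rank_conj_sub _ _ _ hTT μ
  have h3 : (A.map φ - (c / μ) • (1 : Matrix (Fin n) (Fin n) K)).rank =
      ((x : Matrix (Fin n) (Fin n) K) - (c / μ) • (1 : Matrix (Fin n) (Fin n) K)).rank := by
    rw [hAT, Matrix.map_mul, Matrix.map_mul, hxφ]
    apply rank_conj_sub
    rw [← Matrix.map_mul, hTT]
    ext i j
    by_cases hij : i = j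
    · subst hij; simp
    · simp [hij]
  rw [← h2, ← h3]
  exact h1

end symm

section count

variable {K : Type*} [Field K] [DecidableEq K] {n : ℕ}

theorem rank_diagonal_sub (d : Fin n → K) (μ : K) :
    (Matrix.diagonal d - μ • (1 : Matrix (Fin n) (Fin n) K)).rank +
      (Finset.univ.filter (fun i => d i = μ)).card = n := by
  have h1 : Matrix.diagonal d - μ • (1 : Matrix (Fin n) (Fin n) K) =
      Matrix.diagonal (fun i => d i - μ) := by
    rw [Matrix.smul_one_eq_diagonal, Matrix.diagonal_sub]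
  rw [h1, Matrix.rank_diagonal, Fintype.card_subtype]
  have h2 := Finset.card_filter_add_card_filter_not (s := (Finset.univ : Finset (Fin n)))
    (fun i => d i = μ)
  rw [Finset.card_univ, Fintype.card_fin] at h2
  have h3 : (Finset.univ.filter (fun i => d i - μ ≠ 0)) =
      (Finset.univ.filter (fun i => ¬ d i = μ)) := by
    ext i
    simp only [Finset.mem_filter, Finset.mem_univ, true_and, sub_ne_zero]
  rw [h3]
  omega

end count

section cntsymm

variable {K : Type*} [Field K] [Fintype K] [DecidableEq K] {q₀ n : ℕ}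
  {f : (Fin n → K) → (Fin n → K) → K}

/-- the multiplicities of the eigenvalues of a diagonal matrix with entries in the fixed field
having a conjugate in the similarity group are symmetric -/
theorem cnt_symm_of_conj_sim (hK : Fintype.card K = q₀ ^ 2) (p : ℕ) [Fact p.Prime] [CharP K p]
    (hf : Cfsg.Geo.IsUnitaryFormPow q₀ f) (φ : K →+* K) (hφ : ∀ x, φ x = x ^ q₀)
    (d : Fin n → K) (hd : ∀ i, φ (d i) = d i) (x g : GL (Fin n) K)
    (hx : (x : Matrix (Fin n) (Fin n) K) = Matrix.diagonal d)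
    (c : K) (hc0 : c ≠ 0)
    (hc : ∀ u v, f (((g⁻¹ * x * g : GL (Fin n) K) : Matrix (Fin n) (Fin n) K) *ᵥ u)
      (((g⁻¹ * x * g : GL (Fin n) K) : Matrix (Fin n) (Fin n) K) *ᵥ v) = c * f u v)
    (μ ν : K) (hμν : μ * ν = c) :
    (Finset.univ.filter (fun i => d i = μ)).card = (Finset.univ.filter (fun i => d i = ν)).card := by
  have hμ0 : μ ≠ 0 := by
    rintro rfl
    rw [zero_mul] at hμν
    exact hc0 hμν.symm
  have hν : ν = c / μ := by
    rw [← hμν]
    field_simp
  have hxφ : (x : Matrix (Fin n) (Fin n) K).map φ = (x : Matrix (Fin n) (Fin n) K) := by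
    rw [hx, Matrix.diagonal_map (map_zero φ)]
    congr 1
    funext i
    exact hd i
  have h1 := rank_symm_of_conj_sim hK p hf φ hφ x g hxφ c hc0 hc μ hμ0
  rw [hx, ← hν] at h1
  have h2 := rank_diagonal_sub d μ
  have h3 := rank_diagonal_sub d ν
  omega

end cntsymm

end Cfsg.Agent.Helper28.BGQ
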