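import Mathlib
import Cfsg.Agent.Lib.Helper28.BGQ8
import Cfsg.Agent.Lib.Helper13.MatQuad
import Cfsg.Agent.Lib.Helper13.QuadFinite

/-!
# Similarities of a quadratic form in odd characteristic: Gram matrices, the eigenvalue symmetry,
and transport from a matrix model (helper28)
-/

set_option autoImplicit false
set_option linter.style.haveILetI false
set_option linter.unusedSectionVars false
set_option linter.unusedVariables false

namespace Cfsg.Agent.Helper28.BGO

open Matrix Module QuadraticMap Cfsg.Agent.Helper13 Cfsg.Agent.Helper13.SpSim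
  Cfsg.Agent.Helper28.BGQ

section gram

variable {K : Type*} [Field K] {n : ℕ} (Q : QuadraticForm K (Fin n → K))

/-- the Gram matrix of the polar form -/
noncomputable def gram : Matrix (Fin n) (Fin n) K := stdGram Q

theorem gram_apply (i j : Fin n) : gram Q i j = polar Q (Pi.single i 1) (Pi.single j 1) := rfl

theorem gram_eq_toMatrix' : gram Q = LinearMap.BilinForm.toMatrix' (polarBilin Q) := by
  ext i j
  rw [gram_apply, LinearMap.BilinForm.toMatrix'_apply]
  rfl

theorem polar_eq_gram (u v : Fin n → K) : polar Q u v = u ⬝ᵥ (gram Q *ᵥ v) := by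
  rw [gram_eq_toMatrix', ← Matrix.toBilin'_apply', Matrix.toBilin'_toMatrix']
  rfl

theorem gram_transpose : (gram Q)ᵀ = gram Q := by
  ext i j
  rw [Matrix.transpose_apply, gram_apply, gram_apply, polar_comm]

theorem gram_det_ne_zero' (hQ : (polarBilin Q).Nondegenerate) : (gram Q).det ≠ 0 := by
  rw [gram_eq_toMatrix']
  exact Matrix.nondegenerate_iff_det_ne_zero.1
    (LinearMap.BilinForm.nondegenerate_toMatrix'_iff.2 hQ)

/-- a similarity satisfies the matrix identity -/
theorem gram_of_sim (Y : Matrix (Fin n) (Fin n) K) (c : K)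
    (h : ∀ v, Q (Y *ᵥ v) = c * Q v) : Yᵀ * gram Q * Y = c • gram Q := by
  have hB : LinearMap.BilinForm.comp (polarBilin Q) (Matrix.toLin' Y) (Matrix.toLin' Y) =
      c • polarBilin Q := by
    apply LinearMap.ext
    intro u
    apply LinearMap.ext
    intro v
    show polar Q (Y *ᵥ u) (Y *ᵥ v) = c * polar Q u v
    unfold polar
    rw [← Matrix.mulVec_add, h, h, h]
    ring
  have h1 := congrArg LinearMap.BilinForm.toMatrix' hB
  rw [LinearMap.BilinForm.toMatrix'_comp, LinearMap.toMatrix'_toLin', map_smul,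
    ← gram_eq_toMatrix'] at h1
  exact h1

end gram

section rank

variable {K : Type*} [Field K] {n : ℕ}

/-- the eigenvalue symmetry of a similarity of a nondegenerate symmetric bilinear form -/
theorem rank_symm_gram (G Y : Matrix (Fin n) (Fin n) K) (hG : G.det ≠ 0) (c μ : K) (hc : c ≠ 0)
    (hμ : μ ≠ 0) (hY : Yᵀ * G * Y = c • G) :
    (Y - μ • (1 : Matrix (Fin n) (Fin n) K)).rank =
      (Y - (c / μ) • (1 : Matrix (Fin n) (Fin n) K)).rank := by
  have hYdet : IsUnit Y.det := by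
    have h1 := congrArg Matrix.det hY
    rw [Matrix.det_mul, Matrix.det_mul, Matrix.det_transpose, Matrix.det_smul] at h1
    rw [isUnit_iff_ne_zero]
    intro h0
    rw [h0, mul_zero] at h1
    exact (mul_ne_zero (pow_ne_zero _ hc) hG) h1.symm
  have hGdet : IsUnit G.det := isUnit_iff_ne_zero.2 hG
  have hμ1 : IsUnit ((-μ) • (1 : Matrix (Fin n) (Fin n) K)).det := by
    rw [Matrix.det_smul, Matrix.det_one, mul_one]
    exact isUnit_iff_ne_zero.2 (pow_ne_zero _ (neg_ne_zero.2 hμ))
  have key : (Y - μ • (1 : Matrix (Fin n) (Fin n) K))ᵀ * G * Y =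
      ((-μ) • (1 : Matrix (Fin n) (Fin n) K)) *
        (G * (Y - (c / μ) • (1 : Matrix (Fin n) (Fin n) K))) := by
    rw [Matrix.transpose_sub, Matrix.transpose_smul, Matrix.transpose_one, Matrix.sub_mul,
      Matrix.sub_mul, hY, Matrix.smul_mul, Matrix.one_mul, Matrix.smul_mul, Matrix.smul_mul,
      Matrix.one_mul, Matrix.mul_sub, Matrix.mul_smul, Matrix.mul_one, smul_sub, smul_smul]
    have h1 : -μ * (c / μ) = -c := by field_simp
    rw [h1, neg_smul, neg_smul, sub_neg_eq_add, neg_add_eq_sub]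
  rw [← Matrix.rank_transpose (Y - μ • (1 : Matrix (Fin n) (Fin n) K)),
    ← Matrix.rank_mul_eq_left_of_isUnit_det _ _ hGdet,
    ← Matrix.rank_mul_eq_left_of_isUnit_det _ _ hYdet, key,
    Matrix.rank_mul_eq_right_of_isUnit_det _ _ hμ1,
    Matrix.rank_mul_eq_right_of_isUnit_det _ _ hGdet]

end rank

section cnt

variable {K : Type*} [Field K] [DecidableEq K] {n : ℕ} (Q : QuadraticForm K (Fin n → K))

/-- the eigenvalue symmetry for conjugates lying in the similarity group -/
theorem rank_symm_of_conj_qsim (hQ : (polarBilin Q).Nondegenerate) (x g : GL (Fin n) K)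
    (c : K) (hc0 : c ≠ 0)
    (hc : ∀ v, Q (((g⁻¹ * x * g : GL (Fin n) K) : Matrix (Fin n) (Fin n) K) *ᵥ v) = c * Q v)
    (μ : K) (hμ : μ ≠ 0) :
    ((x : Matrix (Fin n) (Fin n) K) - μ • (1 : Matrix (Fin n) (Fin n) K)).rank =
      ((x : Matrix (Fin n) (Fin n) K) - (c / μ) • (1 : Matrix (Fin n) (Fin n) K)).rank := by
  set Y : Matrix (Fin n) (Fin n) K := ((g⁻¹ * x * g : GL (Fin n) K) : Matrix (Fin n) (Fin n) K)
    with hY
  have h1 := rank_symm_gram (gram Q) Y (gram_det_ne_zero' Q hQ) c μ hc0 hμ (gram_of_sim Q Y c hc)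
  have hYx : Y = ((g⁻¹ : GL (Fin n) K) : Matrix (Fin n) (Fin n) K) *
      (x : Matrix (Fin n) (Fin n) K) * (g : Matrix (Fin n) (Fin n) K) := by
    rw [hY, Units.val_mul, Units.val_mul]
  have hgg : ((g⁻¹ : GL (Fin n) K) : Matrix (Fin n) (Fin n) K) *
      (g : Matrix (Fin n) (Fin n) K) = 1 := by
    rw [← Units.val_mul, inv_mul_cancel, Units.val_one]
  rw [hYx, rank_conj_sub _ _ _ hgg, rank_conj_sub _ _ _ hgg] at h1
  exact h1

/-- the multiplicities of the eigenvalues of a diagonal matrix having a conjugate in the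
similarity group of a quadratic form are symmetric -/
theorem cnt_symm_of_conj_qsim (hQ : (polarBilin Q).Nondegenerate) (d : Fin n → K)
    (x g : GL (Fin n) K) (hx : (x : Matrix (Fin n) (Fin n) K) = Matrix.diagonal d)
    (c : K) (hc0 : c ≠ 0)
    (hc : ∀ v, Q (((g⁻¹ * x * g : GL (Fin n) K) : Matrix (Fin n) (Fin n) K) *ᵥ v) = c * Q v)
    (μ ν : K) (hμν : μ * ν = c) :
    (Finset.univ.filter (fun i => d i = μ)).card = (Finset.univ.filter (fun i => d i = ν)).card := by
  have hμ0 : μ ≠ 0 := by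
    rintro rfl
    rw [zero_mul] at hμν
    exact hc0 hμν.symm
  have hν : ν = c / μ := by
    rw [← hμν]
    field_simp
  have h1 := rank_symm_of_conj_qsim Q hQ x g c hc0 hc μ hμ0
  rw [hx, ← hν] at h1
  have h2 := rank_diagonal_sub d μ
  have h3 := rank_diagonal_sub d ν
  omega

end cnt

section model

variable {K : Type*} [Field K] {n : ℕ} (Q : QuadraticForm K (Fin n → K))
  {κ : Type*} [Fintype κ] [DecidableEq κ]

theorem matQ_mulVec (M A : Matrix κ κ K) (τ : K) (hA : Aᵀ * M * A = τ • M) (w : κ → K) :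
    matQ M (A *ᵥ w) = τ * matQ M w := by
  have h1 : (A *ᵥ w) ⬝ᵥ (M *ᵥ (A *ᵥ w)) = w ⬝ᵥ ((Aᵀ * M * A) *ᵥ w) := by
    rw [← Matrix.mulVec_mulVec (M := Aᵀ * M) (N := A), ← Matrix.mulVec_mulVec (M := Aᵀ) (N := M),
      Matrix.dotProduct_mulVec w Aᵀ, Matrix.vecMul_transpose]
  rw [matQ_apply, matQ_apply, h1, hA, Matrix.smul_mulVec, dotProduct_smul, smul_eq_mul]

/-- transport of a similarity of the model to the form -/
theorem qsim_pull (M : Matrix κ κ K) (e : (Fin n → K) ≃ₗ[K] (κ → K)) (c₀ : K) (hc₀ : c₀ ≠ 0)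
    (he : ∀ v, matQ M (e v) = c₀ * Q v) (A : Matrix κ κ K) (τ : K)
    (hA : Aᵀ * M * A = τ • M) (v : Fin n → K) : Q (pull e A *ᵥ v) = τ * Q v := by
  have h1 := he (pull e A *ᵥ v)
  rw [pull_mulVec, LinearEquiv.apply_symm_apply, matQ_mulVec M A τ hA, he] at h1
  have h2 : c₀ * Q (e.symm (A *ᵥ e v)) = c₀ * (τ * Q v) := by
    rw [← h1]
    ring
  rw [pull_mulVec]
  exact mul_left_cancel₀ hc₀ h2

end model

end Cfsg.Agent.Helper28.BGO
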