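import Mathlib
import Cfsg.Agent.Lib.Helper28.BGO1

/-!
# Matrix models of a quadratic form over a finite field of odd order, and conjugation into the
similarity group (helper28)
-/

set_option autoImplicit false
set_option linter.style.haveILetI false
set_option linter.unusedSectionVars false
set_option linter.unusedVariables false

namespace Cfsg.Agent.Helper28.BGO

open Matrix Module QuadraticMap Cfsg.Agent.Helper13 Cfsg.Agent.Helper13.SpSim
  Cfsg.Agent.Helper28.BGQ

section scale

variable {K : Type*} [Field K] {n : ℕ} (Q : QuadraticForm K (Fin n → K))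

theorem smul_apply' (c : K) (v : Fin n → K) : (c • Q) v = c * Q v := rfl

theorem polar_smul' (c : K) (u v : Fin n → K) : polar (c • Q) u v = c * polar Q u v := by
  unfold polar
  rw [smul_apply', smul_apply', smul_apply']
  ring

theorem gram_smul (c : K) : gram (c • Q) = c • gram Q := by
  ext i j
  rw [Matrix.smul_apply, gram_apply, gram_apply, polar_smul', smul_eq_mul]

theorem nondeg_smul (c : K) (hc : c ≠ 0) (hQ : (polarBilin Q).Nondegenerate) :
    (polarBilin (c • Q)).Nondegenerate := by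
  constructor
  · intro x hx
    apply hQ.1 x
    intro y
    have h1 : polar (c • Q) x y = 0 := hx y
    rw [polar_smul'] at h1
    exact (mul_eq_zero.1 h1).resolve_left hc
  · intro y hy
    apply hQ.2 y
    intro x
    have h1 : polar (c • Q) x y = 0 := hy x
    rw [polar_smul'] at h1
    exact (mul_eq_zero.1 h1).resolve_left hc

end scale

section equiv

variable {K : Type*} [Field K] [Fintype K] {n : ℕ} (Q : QuadraticForm K (Fin n → K))
  {κ : Type*} [Fintype κ] [DecidableEq κ]

/-- a form is isometric to a matrix model with the same discriminant -/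
theorem exists_equiv_model (h2 : (2 : K) ≠ 0) (hQ : (polarBilin Q).Nondegenerate)
    (M : Matrix κ κ K) (hM : (M + Mᵀ).det ≠ 0) (hcard : Fintype.card κ = n)
    (hsq : IsSquare ((gram Q).det * (M + Mᵀ).det)) :
    ∃ e : (Fin n → K) ≃ₗ[K] (κ → K), ∀ v, matQ M (e v) = Q v := by
  apply equiv_of_disc_idx h2 Q (matQ M) hQ (matQ_nondeg M hM) (Pi.basisFun K (Fin n))
    (Pi.basisFun K κ) (by rw [Fintype.card_fin, hcard])
  rw [gram_matQ, ← stdGram_eq]
  exact hsq

/-- in odd dimension a form is similar to any matrix model -/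
theorem exists_equiv_model_odd (h2 : (2 : K) ≠ 0) (hQ : (polarBilin Q).Nondegenerate)
    (hn : Odd n) (M : Matrix κ κ K) (hM : (M + Mᵀ).det ≠ 0) (hcard : Fintype.card κ = n) :
    ∃ c₀ : K, c₀ ≠ 0 ∧ ∃ e : (Fin n → K) ≃ₗ[K] (κ → K), ∀ v, matQ M (e v) = c₀ * Q v := by
  set δ : K := (gram Q).det * (M + Mᵀ).det with hδ
  have hδ0 : δ ≠ 0 := mul_ne_zero (gram_det_ne_zero' Q hQ) hM
  refine ⟨δ, hδ0, ?_⟩
  obtain ⟨k, hk⟩ := hn
  obtain ⟨e, he⟩ := exists_equiv_model (δ • Q) h2 (nondeg_smul Q δ hδ0 hQ) M hM hcard (by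
    rw [gram_smul, Matrix.det_smul, Fintype.card_fin]
    have hpow : δ ^ n = δ ^ (2 * k + 1) := by rw [hk]
    rw [hpow]
    refine ⟨δ ^ (k + 1), ?_⟩
    rw [hδ]
    ring)
  exact ⟨e, fun v => by rw [he, smul_apply']⟩

end equiv

section conj

variable {K : Type*} [Field K] [Fintype K] {p : ℕ} [Fact p.Prime] [CharP K p] {n : ℕ}
  (Q : QuadraticForm K (Fin n → K)) {κ : Type*} [Fintype κ] [DecidableEq κ]

theorem mem_qsim (Q : (Fin n → K) → K) (y : GL (Fin n) K) (τ : K) (hτ : τ ≠ 0)
    (h : ∀ v, Q ((y : Matrix (Fin n) (Fin n) K) *ᵥ v) = τ * Q v) :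
    y ∈ Cfsg.Geo.quadSimilarityGroup Q :=
  ⟨Units.mk0 τ hτ, h⟩

/-- an element of `SL_n` of order prime to the characteristic is conjugate into the similarity
group if a similarity of a model of the form has the same characteristic polynomial -/
theorem conj_into_qsim (x : GL (Fin n) K) (hx : x ∈ Cfsg.Geo.specialLinear (Fin n) K)
    (hxo : (orderOf x).Coprime p) (M : Matrix κ κ K) (e : (Fin n → K) ≃ₗ[K] (κ → K)) (c₀ : K)
    (hc₀ : c₀ ≠ 0) (he : ∀ v, matQ M (e v) = c₀ * Q v) (A : Matrix κ κ K) (τ : K) (hτ : τ ≠ 0)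
    (hA : Aᵀ * M * A = τ • M) (N : ℕ) (hN : N.Coprime p) (hAN : A ^ N = 1)
    (hchar : A.charpoly = (x : Matrix (Fin n) (Fin n) K).charpoly) :
    ∃ g ∈ Cfsg.Geo.specialLinear (Fin n) K, g⁻¹ * x * g ∈ Cfsg.Geo.quadSimilarityGroup ⇑Q := by
  apply conj_into (p := p) x hx hxo _ (pull e A) N hN
  · have h1 : ∀ k : ℕ, pull e A ^ k = pull e (A ^ k) := by
      intro k
      induction k with
      | zero => rw [pow_zero, pow_zero, pull_one]
      | succ k ih => rw [pow_succ, pow_succ, ih, pull_mul]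
    rw [h1, hAN, pull_one]
  · intro y hy
    apply mem_qsim (⇑Q) y τ hτ
    intro v
    rw [hy]
    exact qsim_pull Q M e c₀ hc₀ he A τ hA v
  · rw [charpoly_pull, hchar]

end conj

end Cfsg.Agent.Helper28.BGO
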