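import Mathlib
import Cfsg.Agent.Lib.Helper28.BGP4

/-!
# The index of the similarity group of a quadratic form in the special linear group: arithmetic
(helper28)
-/

set_option autoImplicit false
set_option linter.style.haveILetI false
set_option linter.unusedSectionVars false
set_option linter.unusedVariables false

namespace Cfsg.Agent.Helper28.BGO

open Cfsg.Agent.Helper28.BGP

section arith

/-- `∏_{j=1}^m (q^{2j} - 1)` -/
def evProd (q m : ℕ) : ℕ := ∏ j ∈ Finset.range m, (q ^ (2 * (j + 1)) - 1)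

/-- `∏_{j=0}^{m-1} (q^{2j+1} - 1)` -/
def oddProd (q m : ℕ) : ℕ := ∏ j ∈ Finset.range m, (q ^ (2 * j + 1) - 1)

theorem evProd_succ (q m : ℕ) : evProd q (m + 1) = evProd q m * (q ^ (2 * (m + 1)) - 1) := by
  unfold evProd
  rw [Finset.prod_range_succ]

theorem oddProd_succ (q m : ℕ) : oddProd q (m + 1) = oddProd q m * (q ^ (2 * m + 1) - 1) := by
  unfold oddProd
  rw [Finset.prod_range_succ]

theorem evProd_pos (q m : ℕ) (hq : 2 ≤ q) : 0 < evProd q m := by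
  unfold evProd
  apply Finset.prod_pos
  intro j _
  have : 1 < q ^ (2 * (j + 1)) := Nat.one_lt_pow (by omega) (by omega)
  omega

theorem pow_tri (q m : ℕ) : q ^ ((m + 1) * m) = q ^ (m * (m - 1)) * q ^ (2 * m) := by
  rw [← pow_add]
  congr 1
  rcases Nat.eq_zero_or_pos m with rfl | hm
  · simp
  · obtain ⟨k, rfl⟩ : ∃ k, m = k + 1 := ⟨m - 1, by omega⟩
    rw [Nat.add_sub_cancel]
    ring

theorem glOrd_even (q m : ℕ) (hq : 1 ≤ q) :
    glOrd q (2 * m) = q ^ (m * (m - 1)) * evProd q m * (q ^ (m ^ 2) * oddProd q m) := by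
  induction m with
  | zero => simp [glOrd, evProd, oddProd]
  | succ m ih =>
    have h1 : 2 * (m + 1) = 2 * m + 1 + 1 := by ring
    rw [h1, glOrd_succ _ _ hq, glOrd_succ _ _ hq, ih, evProd_succ, oddProd_succ,
      Nat.add_sub_cancel, pow_tri]
    have h2 : q ^ ((m + 1) ^ 2) = q ^ (m ^ 2) * q ^ (2 * m + 1) := by
      rw [← pow_add]
      congr 1
      ring
    have h3 : 2 * (m + 1) = 2 * m + 1 + 1 := by ring
    rw [h2, h3]
    ring

theorem glOrd_odd (q m : ℕ) (hq : 1 ≤ q) :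
    glOrd q (2 * m + 1) =
      q ^ (m * (m - 1)) * evProd q m * (q ^ (m ^ 2) * oddProd q m) *
        (q ^ (2 * m) * (q ^ (2 * m + 1) - 1)) := by
  rw [glOrd_succ _ _ hq, glOrd_even q m hq]

theorem dvd_oddProd (q m r : ℕ) (hr : r.Prime) (h : r ∣ oddProd q m) :
    ∃ j, r ∣ q ^ (2 * j + 1) - 1 := by
  unfold oddProd at h
  obtain ⟨j, -, hj⟩ := (Prime.dvd_finsetProd_iff hr.prime _).1 h
  exact ⟨j, hj⟩

/-- odd dimension -/
theorem arith_odd (q m R r : ℕ) (hq : 2 ≤ q) (hr : r.Prime) (hrR : r ∣ R)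
    (h : R * (2 * q ^ (m ^ 2) * evProd q m) * (q - 1) ∣ 2 * glOrd q (2 * m + 1)) :
    r ∣ q ∨ ∃ j, r ∣ q ^ (2 * j + 1) - 1 := by
  set c := 2 * q ^ (m ^ 2) * evProd q m with hc
  have hc0 : 0 < c := Nat.mul_pos (Nat.mul_pos (by norm_num) (pow_pos (by omega) _))
    (evProd_pos q m hq)
  have e1 : R * c * (q - 1) = (R * (q - 1)) * c := by ring
  have e2 : 2 * glOrd q (2 * m + 1) =
      (q ^ (m * (m - 1)) * q ^ (2 * m) * oddProd q (m + 1)) * c := by
    rw [glOrd_odd q m (by omega), oddProd_succ, hc]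
    ring
  rw [e1, e2] at h
  have h1 := Nat.dvd_of_mul_dvd_mul_right hc0 h
  have h2 : r ∣ q ^ (m * (m - 1)) * q ^ (2 * m) * oddProd q (m + 1) :=
    dvd_trans (dvd_mul_of_dvd_left hrR _) h1
  rcases hr.dvd_mul.1 h2 with h3 | h3
  · left
    rcases hr.dvd_mul.1 h3 with h4 | h4
    · exact hr.dvd_of_dvd_pow h4
    · exact hr.dvd_of_dvd_pow h4
  · right
    exact dvd_oddProd q (m + 1) r hr h3

theorem sq_sub_one'' (x : ℕ) (hx : 1 ≤ x) : x ^ 2 - 1 = (x - 1) * (x + 1) := by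
  obtain ⟨y, rfl⟩ : ∃ y, x = y + 1 := ⟨x - 1, by omega⟩
  rw [Nat.add_sub_cancel]
  have : (y + 1) ^ 2 = y * (y + 1 + 1) + 1 := by ring
  rw [this, Nat.add_sub_cancel]

theorem evProd_succ' (q k : ℕ) (hq : 1 ≤ q) :
    evProd q (k + 1) = evProd q k * ((q ^ (k + 1) - 1) * (q ^ (k + 1) + 1)) := by
  rw [evProd_succ, mul_comm 2 (k + 1), pow_mul, sq_sub_one'' _ (Nat.one_le_pow _ _ hq)]

/-- even dimension, plus type -/
theorem arith_plus (q k R r : ℕ) (hq : 2 ≤ q) (hr : r.Prime) (hrR : r ∣ R)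
    (h : R * (2 * q ^ ((k + 1) * k) * (q ^ (k + 1) - 1) * evProd q k) * (q - 1) ∣
      2 * glOrd q (2 * (k + 1))) :
    r ∣ q ∨ r ∣ q ^ (k + 1) + 1 ∨ ∃ j, r ∣ q ^ (2 * j + 1) - 1 := by
  set c := 2 * q ^ ((k + 1) * k) * (q ^ (k + 1) - 1) * evProd q k with hc
  have hpos : 0 < q ^ (k + 1) - 1 := by
    have : 1 < q ^ (k + 1) := Nat.one_lt_pow (by omega) (by omega)
    omega
  have hc0 : 0 < c := Nat.mul_pos (Nat.mul_pos (Nat.mul_pos (by norm_num)
    (pow_pos (by omega) _)) hpos) (evProd_pos q k hq)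
  have e1 : R * c * (q - 1) = (R * (q - 1)) * c := by ring
  have e2 : 2 * glOrd q (2 * (k + 1)) =
      ((q ^ (k + 1) + 1) * q ^ ((k + 1) ^ 2) * oddProd q (k + 1)) * c := by
    rw [glOrd_even q (k + 1) (by omega), evProd_succ' q k (by omega), Nat.add_sub_cancel, hc]
    ring
  rw [e1, e2] at h
  have h1 := Nat.dvd_of_mul_dvd_mul_right hc0 h
  have h2 : r ∣ (q ^ (k + 1) + 1) * q ^ ((k + 1) ^ 2) * oddProd q (k + 1) :=
    dvd_trans (dvd_mul_of_dvd_left hrR _) h1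
  rcases hr.dvd_mul.1 h2 with h3 | h3
  · rcases hr.dvd_mul.1 h3 with h4 | h4
    · exact Or.inr (Or.inl h4)
    · exact Or.inl (hr.dvd_of_dvd_pow h4)
  · exact Or.inr (Or.inr (dvd_oddProd q (k + 1) r hr h3))

/-- even dimension, minus type -/
theorem arith_minus (q k R r : ℕ) (hq : 2 ≤ q) (hr : r.Prime) (hrR : r ∣ R)
    (h : R * (2 * q ^ ((k + 1) * k) * (q ^ (k + 1) + 1) * evProd q k) * (q - 1) ∣
      2 * glOrd q (2 * (k + 1))) :
    r ∣ q ∨ r ∣ q ^ (k + 1) - 1 ∨ ∃ j, r ∣ q ^ (2 * j + 1) - 1 := by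
  set c := 2 * q ^ ((k + 1) * k) * (q ^ (k + 1) + 1) * evProd q k with hc
  have hc0 : 0 < c := Nat.mul_pos (Nat.mul_pos (Nat.mul_pos (by norm_num)
    (pow_pos (by omega) _)) (by omega)) (evProd_pos q k hq)
  have e1 : R * c * (q - 1) = (R * (q - 1)) * c := by ring
  have e2 : 2 * glOrd q (2 * (k + 1)) =
      ((q ^ (k + 1) - 1) * q ^ ((k + 1) ^ 2) * oddProd q (k + 1)) * c := by
    rw [glOrd_even q (k + 1) (by omega), evProd_succ' q k (by omega), Nat.add_sub_cancel, hc]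
    ring
  rw [e1, e2] at h
  have h1 := Nat.dvd_of_mul_dvd_mul_right hc0 h
  have h2 : r ∣ (q ^ (k + 1) - 1) * q ^ ((k + 1) ^ 2) * oddProd q (k + 1) :=
    dvd_trans (dvd_mul_of_dvd_left hrR _) h1
  rcases hr.dvd_mul.1 h2 with h3 | h3
  · rcases hr.dvd_mul.1 h3 with h4 | h4
    · exact Or.inr (Or.inl h4)
    · exact Or.inl (hr.dvd_of_dvd_pow h4)
  · exact Or.inr (Or.inr (dvd_oddProd q (k + 1) r hr h3))

end arith

end Cfsg.Agent.Helper28.BGO
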