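import Mathlib
import Cfsg.Agent.Lib.Helper28.BGO2
import Cfsg.Agent.Lib.Helper28.BGO8
import Cfsg.Agent.Lib.Helper28.BGQ2
import Cfsg.Agent.Lib.Helper13.OrthType3
import Cfsg.Agent.Lib.Helper13.OrthType5
import Cfsg.Agent.Lib.Helper2.OrthOrders
import Cfsg.Agent.Lib.Helper23.OrthIso

/-!
# The index of the similarity group of a quadratic form in the special linear group: the type of
the form from a prime divisor of the index (helper28)
-/

set_option autoImplicit false
set_option linter.style.haveILetI false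
set_option linter.unusedSectionVars false
set_option linter.unusedVariables false

namespace Cfsg.Agent.Helper28.BGO

open Matrix Module QuadraticMap Cfsg.Agent.Helper13 Cfsg.Agent.Helper13.SS
  Cfsg.Agent.Helper13.OrthSS Cfsg.Agent.Helper28.BGQ Cfsg.Agent.Helper28.BGP

universe u

section index

variable {K : Type u} [Field K] [Fintype K] {n : ℕ} (Q : QuadraticForm K (Fin n → K))

theorem isometry_le_qsim :
    Cfsg.isometryGroup K ⇑Q ≤ Cfsg.Geo.quadSimilarityGroup ⇑Q := by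
  intro g hg
  refine ⟨1, fun v => ?_⟩
  rw [Units.val_one, one_mul]
  exact hg v v

theorem det_sq_of_isometry (hQ : (polarBilin Q).Nondegenerate) (g : GL (Fin n) K)
    (hg : g ∈ Cfsg.isometryGroup K ⇑Q) : (g : Matrix (Fin n) (Fin n) K).det ^ 2 = 1 := by
  have h1 := gram_of_sim Q (g : Matrix (Fin n) (Fin n) K) 1 (fun v => by
    rw [one_mul]
    exact hg v v)
  have h2 := congrArg Matrix.det h1
  rw [one_smul, Matrix.det_mul, Matrix.det_mul, Matrix.det_transpose] at h2
  have h3 := gram_det_ne_zero' Q hQ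
  have h4 : ((g : Matrix (Fin n) (Fin n) K).det ^ 2 - 1) * (gram Q).det = 0 := by
    linear_combination h2
  exact sub_eq_zero.1 ((mul_eq_zero.1 h4).resolve_right h3)

theorem relIndex_sl_isometry_dvd_two (hQ : (polarBilin Q).Nondegenerate) :
    (Cfsg.Geo.specialLinear (Fin n) K).relIndex (Cfsg.isometryGroup K ⇑Q) ∣ 2 := by
  have h1 : (Cfsg.Geo.specialLinear (Fin n) K).relIndex (Cfsg.isometryGroup K ⇑Q) =
      Nat.card ((Cfsg.isometryGroup K ⇑Q).map
        (Matrix.GeneralLinearGroup.det : GL (Fin n) K →* Kˣ)) :=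
    Subgroup.relIndex_ker (Cfsg.isometryGroup K ⇑Q) _
  rw [h1]
  have hle : (Cfsg.isometryGroup K ⇑Q).map
      (Matrix.GeneralLinearGroup.det : GL (Fin n) K →* Kˣ) ≤ Subgroup.zpowers (-1 : Kˣ) := by
    rintro _ ⟨g, hg, rfl⟩
    have h3 := det_sq_of_isometry Q hQ g hg
    have h4 : ((Matrix.GeneralLinearGroup.det g : Kˣ) : K) =
        (g : Matrix (Fin n) (Fin n) K).det := rfl
    have h5 : ((Matrix.GeneralLinearGroup.det g : Kˣ) : K) = 1 ∨
        ((Matrix.GeneralLinearGroup.det g : Kˣ) : K) = -1 := by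
      rw [h4]
      rw [pow_two] at h3
      exact mul_self_eq_one_iff.1 h3
    rcases h5 with h | h
    · have : Matrix.GeneralLinearGroup.det g = 1 := Units.ext h
      rw [this]
      exact Subgroup.one_mem _
    · have : Matrix.GeneralLinearGroup.det g = -1 := Units.ext (by rw [h]; simp)
      rw [this]
      exact Subgroup.mem_zpowers _
  have h6 := Subgroup.card_dvd_of_le hle
  have h7 : Nat.card (Subgroup.zpowers (-1 : Kˣ)) ∣ 2 := by
    rw [Nat.card_zpowers]
    apply orderOf_dvd_of_pow_eq_one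
    simp
  exact dvd_trans h6 h7

theorem relIndex_mul_card_dvd (hQ : (polarBilin Q).Nondegenerate) :
    (Cfsg.Geo.quadSimilarityGroup ⇑Q).relIndex (Cfsg.Geo.specialLinear (Fin n) K) *
      Nat.card (Cfsg.isometryGroup K ⇑Q) ∣ 2 * Nat.card (Cfsg.Geo.specialLinear (Fin n) K) := by
  set H := Cfsg.Geo.quadSimilarityGroup ⇑Q with hH
  set S := Cfsg.Geo.specialLinear (Fin n) K with hS
  set O := Cfsg.isometryGroup K ⇑Q with hO
  have hOH : O ≤ H := isometry_le_qsim Q
  have h1 : Nat.card ↥(O ⊓ S) * (O ⊓ S).relIndex S = Nat.card S := by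
    have := Subgroup.relIndex_mul_relIndex ⊥ (O ⊓ S) S bot_le inf_le_right
    rwa [Subgroup.relIndex_bot_left, Subgroup.relIndex_bot_left] at this
  have h2 : (O ⊓ S).relIndex (H ⊓ S) * (H ⊓ S).relIndex S = (O ⊓ S).relIndex S :=
    Subgroup.relIndex_mul_relIndex _ _ _ (inf_le_inf_right S hOH) inf_le_right
  have h3 : (H ⊓ S).relIndex S = H.relIndex S := Subgroup.inf_relIndex_right H S
  have h4 : Nat.card ↥(O ⊓ S) * (O ⊓ S).relIndex O = Nat.card O := by
    have := Subgroup.relIndex_mul_relIndex ⊥ (O ⊓ S) O bot_le inf_le_left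
    rwa [Subgroup.relIndex_bot_left, Subgroup.relIndex_bot_left] at this
  have h5 : (O ⊓ S).relIndex O = S.relIndex O := by
    rw [inf_comm]
    exact Subgroup.inf_relIndex_right S O
  obtain ⟨j', hj'⟩ := relIndex_sl_isometry_dvd_two Q hQ
  rw [← h4, ← h1, ← h2, h3, h5]
  refine ⟨(O ⊓ S).relIndex (H ⊓ S) * j', ?_⟩
  have e1 : 2 * (Nat.card ↥(O ⊓ S) * ((O ⊓ S).relIndex (H ⊓ S) * H.relIndex S)) =
      (S.relIndex O * j') * (Nat.card ↥(O ⊓ S) * ((O ⊓ S).relIndex (H ⊓ S) * H.relIndex S)) := by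
    rw [← hj']
  rw [e1]
  ring

end index

section cards

variable {K : Type u} [Field K] [Fintype K] {n : ℕ} (Q : QuadraticForm K (Fin n → K))

theorem card_isom_plus (hQ : (polarBilin Q).Nondegenerate) (k : ℕ) (hn : n = 2 * (k + 1))
    (hh : IsHyp Q) :
    Nat.card (Cfsg.isometryGroup K ⇑Q) =
      2 * Fintype.card K ^ ((k + 1) * k) * (Fintype.card K ^ (k + 1) - 1) *
        evProd (Fintype.card K) k := by
  obtain ⟨e, he⟩ := equiv_of_type Q (matQ (plusMat (k + 1) K)) hQ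
    (Cfsg.Agent.Helper2.Orth.nondeg_plus (k + 1))
    (by
      rw [Module.finrank_fintype_fun_eq_card, Module.finrank_fintype_fun_eq_card,
        Fintype.card_sum, Fintype.card_fin, Fintype.card_fin]
      omega)
    (by
      rw [Module.finrank_fintype_fun_eq_card, Fintype.card_fin]
      exact ⟨k + 1, by omega⟩)
    (iff_of_true hh (isHyp_plusMat (k + 1)))
  obtain ⟨φ⟩ := Cfsg.Agent.Helper23.Orth.nonempty_iso_of_equiv (⇑Q)
    (⇑(matQ (plusMat (k + 1) K))) e he
  have hcard := Nat.card_congr φ.toEquiv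
  rw [← Cfsg.Agent.Helper2.Orth.quadFormPlus_eq, Cfsg.Agent.Helper2.Orth.card_plus_succ] at hcard
  rw [hcard]
  rfl

theorem card_isom_minus (hQ : (polarBilin Q).Nondegenerate) (k : ℕ) (hn : n = 2 * (k + 1))
    (hh : ¬ IsHyp Q) :
    Nat.card (Cfsg.isometryGroup K ⇑Q) =
      2 * Fintype.card K ^ ((k + 1) * k) * (Fintype.card K ^ (k + 1) + 1) *
        evProd (Fintype.card K) k := by
  obtain ⟨ζ, hζ⟩ := exists_rootless (F := K)
  have hab := aniso_of_rootless ζ hζ
  obtain ⟨e, he⟩ := equiv_of_type Q (matQ (minusMat k 1 ζ)) hQ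
    (Cfsg.Agent.Helper2.Orth.nondeg_minus k 1 ζ hab)
    (by
      rw [Module.finrank_fintype_fun_eq_card, Module.finrank_fintype_fun_eq_card,
        Fintype.card_sum, Fintype.card_sum, Fintype.card_fin, Fintype.card_fin,
        Fintype.card_fin]
      omega)
    (by
      rw [Module.finrank_fintype_fun_eq_card, Fintype.card_fin]
      exact ⟨k + 1, by omega⟩)
    (iff_of_false hh (not_isHyp_minusMat k 1 ζ hab))
  obtain ⟨φ⟩ := Cfsg.Agent.Helper23.Orth.nonempty_iso_of_equiv (⇑Q)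
    (⇑(matQ (minusMat k 1 ζ))) e he
  have hcard := Nat.card_congr φ.toEquiv
  rw [← Cfsg.Agent.Helper2.Orth.quadFormMinus_eq, Cfsg.Agent.Helper2.Orth.card_minus 1 ζ hab]
    at hcard
  rw [hcard]
  rfl

theorem isometryGroup_smul (c : K) (hc : c ≠ 0) :
    Cfsg.isometryGroup K ⇑(c • Q) = Cfsg.isometryGroup K ⇑Q := by
  ext g
  constructor
  · intro hg u v
    have h1 : c * Q ((g : Matrix (Fin n) (Fin n) K) *ᵥ u) = c * Q u := hg u v
    exact mul_left_cancel₀ hc h1
  · intro hg u v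
    have h1 : Q ((g : Matrix (Fin n) (Fin n) K) *ᵥ u) = Q u := hg u v
    show c * Q ((g : Matrix (Fin n) (Fin n) K) *ᵥ u) = c * Q u
    rw [h1]

theorem card_isom_odd (h2 : (2 : K) ≠ 0) (hQ : (polarBilin Q).Nondegenerate) (m : ℕ)
    (hn : n = 2 * m + 1) :
    Nat.card (Cfsg.isometryGroup K ⇑Q) =
      2 * Fintype.card K ^ (m ^ 2) * evProd (Fintype.card K) m := by
  have hM : (Cfsg.Agent.Helper2.Orth.oddMat m K + (Cfsg.Agent.Helper2.Orth.oddMat m K)ᵀ).det ≠
      0 := by
    rw [Cfsg.Agent.Helper2.Orth.oddMat_det]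
    exact mul_ne_zero h2 (pow_ne_zero _ (neg_ne_zero.2 one_ne_zero))
  obtain ⟨c₀, hc₀, e, he⟩ := exists_equiv_model_odd Q h2 hQ ⟨m, hn⟩
    (Cfsg.Agent.Helper2.Orth.oddMat m K) hM (by
      rw [Fintype.card_sum, Fintype.card_sum, Fintype.card_fin, Fintype.card_unique]
      omega)
  obtain ⟨φ⟩ := Cfsg.Agent.Helper23.Orth.nonempty_iso_of_equiv (⇑(c₀ • Q))
    (⇑(matQ (Cfsg.Agent.Helper2.Orth.oddMat m K))) e (fun v => by rw [he, smul_apply'])
  have hcard := Nat.card_congr φ.toEquiv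
  rw [← Cfsg.Agent.Helper2.Orth.quadFormOdd_eq, Cfsg.Agent.Helper2.Orth.card_odd h2,
    isometryGroup_smul Q c₀ hc₀] at hcard
  rw [hcard]
  rfl

end cards

end Cfsg.Agent.Helper28.BGO
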