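import Mathlib
import Cfsg.Agent.Lib.Helper28.BGS12

/-!
# Frames adapted to symplectic matrices with scalar square (helper28)
-/

set_option autoImplicit false
set_option linter.style.haveILetI false
set_option linter.unusedSectionVars false
set_option linter.unusedVariables false

namespace Cfsg.Agent.Helper28.BGS

open Matrix Module Cfsg.Agent.Helper13.SympFrame Cfsg.Agent.Helper13.LagCount
  Cfsg.Agent.Helper28.SympIso Cfsg.Agent.Helper2.Symp Cfsg.Agent.Helper28.BGU

section frames

variable {F : Type*} [Field F] [Fintype F] {d : ℕ}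

/-- a frame of eigenvectors of an involution -/
theorem exists_L1_frame (h2 : (2 : F) ≠ 0)
    (X : Matrix (Fin d ⊕ Fin d) (Fin d ⊕ Fin d) F)
    (hX : ∀ u v, sympBil d F (X *ᵥ u) (X *ᵥ v) = sympBil d F u v)
    (hXX : X * X = 1) :
    ∃ (e f : Fin d → (Fin d ⊕ Fin d → F)) (l : Fin d → F), IsFrame (sympBil d F) ⊤ e f ∧
      ∀ i, l i * l i = 1 ∧ X *ᵥ e i = l i • e i ∧ X *ᵥ f i = l i • f i := by
  have hgg : ∀ v, Matrix.toLin' X (Matrix.toLin' X v) = v := by
    intro v
    rw [Matrix.toLin'_apply, Matrix.toLin'_apply, Matrix.mulVec_mulVec, hXX, Matrix.one_mulVec]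
  have hg : ∀ u v, sympBil d F (Matrix.toLin' X u) (Matrix.toLin' X v) = sympBil d F u v := by
    intro u v
    rw [Matrix.toLin'_apply, Matrix.toLin'_apply]
    exact hX u v
  obtain ⟨e, f, hfr, hR⟩ := exists_fin_frame _
    (hasFrame_L1 (sympBil d F) (sympBil_self d) h2 (Matrix.toLin' X) hg hgg nondegOn_top_sympBil)
  have hev : ∀ i, ∃ l : F, l * l = 1 ∧ X *ᵥ e i = l • e i ∧ X *ᵥ f i = l • f i := by
    intro i
    obtain ⟨h1, h3⟩ := hR i
    rw [Matrix.toLin'_apply] at h1 h3
    obtain ⟨l, hl⟩ := Submodule.mem_span_singleton.1 h1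
    obtain ⟨m, hm⟩ := Submodule.mem_span_singleton.1 h3
    have hll : l * l = 1 := by
      have h4 : X *ᵥ (X *ᵥ e i) = e i := by
        rw [Matrix.mulVec_mulVec, hXX, Matrix.one_mulVec]
      rw [← hl, Matrix.mulVec_smul, ← hl, smul_smul] at h4
      have h5 : (l * l - 1) • e i = 0 := by rw [sub_smul, h4, one_smul, sub_self]
      rcases smul_eq_zero.1 h5 with h6 | h6
      · exact sub_eq_zero.1 h6
      · exact absurd h6 (frame_ne_zero hfr i).1
    have hlm : l * m = 1 := by
      have h4 := hX (e i) (f i)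
      rw [← hl, ← hm, map_smul, map_smul, LinearMap.smul_apply, hfr.ef_self, smul_eq_mul,
        smul_eq_mul, mul_one] at h4
      rw [mul_comm]
      exact h4
    have hml : m = l := by
      calc m = (l * l) * m := by rw [hll, one_mul]
        _ = l * (l * m) := by ring
        _ = l := by rw [hlm, mul_one]
    exact ⟨l, hll, hl.symm, by rw [← hm, hml]⟩
  choose l hl using hev
  exact ⟨e, f, l, hfr, hl⟩

/-- a frame of pairs exchanged by a matrix of square `-1` -/
theorem exists_L2_frame (h2 : (2 : F) ≠ 0)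
    (X : Matrix (Fin d ⊕ Fin d) (Fin d ⊕ Fin d) F)
    (hX : ∀ u v, sympBil d F (X *ᵥ u) (X *ᵥ v) = sympBil d F u v)
    (hXX : X * X = -1) :
    ∃ (e f : Fin d → (Fin d ⊕ Fin d → F)) (c c' : Fin d → F), IsFrame (sympBil d F) ⊤ e f ∧
      ∀ i, X *ᵥ e i = c i • f i ∧ X *ᵥ f i = c' i • e i ∧ c i * c' i = -1 := by
  have hgg : ∀ v, Matrix.toLin' X (Matrix.toLin' X v) = -v := by
    intro v
    rw [Matrix.toLin'_apply, Matrix.toLin'_apply, Matrix.mulVec_mulVec, hXX, Matrix.neg_mulVec,
      Matrix.one_mulVec]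
  have hg : ∀ u v, sympBil d F (Matrix.toLin' X u) (Matrix.toLin' X v) = sympBil d F u v := by
    intro u v
    rw [Matrix.toLin'_apply, Matrix.toLin'_apply]
    exact hX u v
  obtain ⟨e, f, hfr, hR⟩ := exists_fin_frame _
    (hasFrame_L2 (sympBil d F) (sympBil_self d) h2 (Matrix.toLin' X) hg hgg nondegOn_top_sympBil)
  have hc : ∀ i, ∃ c c' : F, X *ᵥ e i = c • f i ∧ X *ᵥ f i = c' • e i ∧ c * c' = -1 := by
    intro i
    obtain ⟨h1, h3⟩ := hR i
    rw [Matrix.toLin'_apply] at h1 h3
    obtain ⟨c, hc⟩ := Submodule.mem_span_singleton.1 h1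
    obtain ⟨c', hc'⟩ := Submodule.mem_span_singleton.1 h3
    refine ⟨c, c', hc.symm, hc'.symm, ?_⟩
    have h4 : X *ᵥ (X *ᵥ e i) = -e i := by
      rw [Matrix.mulVec_mulVec, hXX, Matrix.neg_mulVec, Matrix.one_mulVec]
    rw [← hc, Matrix.mulVec_smul, ← hc', smul_smul] at h4
    have h5 : (c * c' + 1) • e i = 0 := by rw [add_smul, h4, one_smul, neg_add_cancel]
    rcases smul_eq_zero.1 h5 with h6 | h6
    · linear_combination h6
    · exact absurd h6 (frame_ne_zero hfr i).1
  choose c c' hcc using hc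
  exact ⟨e, f, c, c', hfr, hcc⟩

/-- a frame of eigenvectors of a matrix of square `-1`, when `-1` is a square -/
theorem exists_eigen_frame (h2 : (2 : F) ≠ 0) (ι₀ : F) (hι : ι₀ * ι₀ = -1)
    (X : Matrix (Fin d ⊕ Fin d) (Fin d ⊕ Fin d) F)
    (hX : ∀ u v, sympBil d F (X *ᵥ u) (X *ᵥ v) = sympBil d F u v)
    (hXX : X * X = -1) :
    ∃ (e f : Fin d → (Fin d ⊕ Fin d → F)), IsFrame (sympBil d F) ⊤ e f ∧
      ∀ i, X *ᵥ e i = ι₀ • e i ∧ X *ᵥ f i = (-ι₀) • f i := by
  classical
  have hι0 : ι₀ ≠ 0 := by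
    rintro rfl
    rw [mul_zero] at hι
    exact one_ne_zero (neg_eq_zero.1 hι.symm)
  obtain ⟨e, f, c, c', hfr, hall⟩ := exists_L2_frame h2 X hX hXX
  have hce : ∀ i, X *ᵥ e i = c i • f i := fun i => (hall i).1
  have hcf : ∀ i, X *ᵥ f i = c' i • e i := fun i => (hall i).2.1
  have hcc : ∀ i, c i * c' i = -1 := fun i => (hall i).2.2
  have hc0 : ∀ i, c i ≠ 0 := by
    intro i h0
    have := hcc i
    rw [h0, zero_mul] at this
    exact one_ne_zero (neg_eq_zero.1 this.symm)
  set a : Fin d → F := fun i => ι₀ * c i with ha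
  have ha0 : ∀ i, a i ≠ 0 := fun i => mul_ne_zero hι0 (hc0 i)
  have hef : ∀ i j, sympBil d F (e i) (f j) = if i = j then 1 else 0 := by
    intro i j
    split_ifs with hij
    · subst hij; exact hfr.ef_self i
    · exact hfr.ef_ne i j hij
  have hfe : ∀ i j, sympBil d F (f i) (e j) = if i = j then -1 else 0 := by
    intro i j
    split_ifs with hij
    · subst hij; exact hfr.fe_self (sympBil d F) (sympBil_self d) i
    · exact hfr.fe_ne (sympBil d F) (sympBil_self d) i j hij
  set e' : Fin d → (Fin d ⊕ Fin d → F) := fun i => e i - a i • f i with he'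
  set f' : Fin d → (Fin d ⊕ Fin d → F) := fun i => (2 * a i)⁻¹ • (e i + a i • f i) with hf'
  have hfr' : IsFrame (sympBil d F) ⊤ e' f' := by
    apply isFrame_top_of_gram (sympBil d F) (sympBil_self d)
    · intro i
      simp only [he', hf', map_sub, map_add, map_smul, LinearMap.sub_apply, LinearMap.add_apply,
        LinearMap.smul_apply, smul_eq_mul, hef, hfe, hfr.ee, hfr.ff, if_true]
      have := ha0 i
      field_simp
      ring
    · intro i j hij
      have hji : ¬ j = i := fun h => hij h.symm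
      simp only [he', hf', map_sub, map_add, map_smul, LinearMap.sub_apply, LinearMap.add_apply,
        LinearMap.smul_apply, smul_eq_mul, hef, hfe, hfr.ee, hfr.ff, if_neg hij]
      ring
    · intro i j
      simp only [he', map_sub, map_smul, LinearMap.sub_apply,
        LinearMap.smul_apply, smul_eq_mul, hef, hfe, hfr.ee, hfr.ff]
      split_ifs with hij
      · subst hij; ring
      · ring
    · intro i j
      simp only [hf', map_add, map_smul, LinearMap.add_apply,
        LinearMap.smul_apply, smul_eq_mul, hef, hfe, hfr.ee, hfr.ff]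
      split_ifs with hij
      · subst hij; ring
      · ring
    · rw [finrank_std, Fintype.card_fin]
  have hXe' : ∀ i, X *ᵥ e' i = ι₀ • e' i := by
    intro i
    simp only [he', ha, Matrix.mulVec_sub, Matrix.mulVec_smul, hce, hcf, smul_sub, smul_smul]
    have h1 : ι₀ * c i * c' i = -ι₀ := by rw [mul_assoc, hcc]; ring
    have h3 : ι₀ * (ι₀ * c i) = -c i := by rw [← mul_assoc, hι]; ring
    rw [h1, h3, neg_smul, neg_smul]
    abel
  have hXf' : ∀ i, X *ᵥ f' i = (-ι₀) • f' i := by
    intro i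
    simp only [hf', ha, Matrix.mulVec_add, Matrix.mulVec_smul, hce, hcf, smul_add, smul_smul]
    have h1 : ι₀ * c i * c' i = -ι₀ := by rw [mul_assoc, hcc]; ring
    rw [add_comm]
    congr 1
    · congr 1
      rw [mul_assoc, h1]
      ring
    · congr 1
      linear_combination ((2 * (ι₀ * c i))⁻¹ * c i) * hι
  exact ⟨e', f', hfr', fun i => ⟨hXe' i, hXf' i⟩⟩

end frames

end Cfsg.Agent.Helper28.BGS
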