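import Mathlib
import Cfsg.Agent.Lib.Helper28.BGS13

/-!
# Symplectic matrices of dimension four with scalar square (anti)commute with a self-adjoint
root (helper28)
-/

set_option autoImplicit false
set_option linter.style.haveILetI false
set_option linter.unusedSectionVars false
set_option linter.unusedVariables false

namespace Cfsg.Agent.Helper28.BGS

open Matrix Module Cfsg.Agent.Helper13.SympFrame Cfsg.Agent.Helper13.LagCount
  Cfsg.Agent.Helper28.SympIso Cfsg.Agent.Helper2.Symp Cfsg.Agent.Helper28.BGU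

section cases

variable {F : Type*} [Field F] [Fintype F]

/-- non-scalar involutions anticommute with a self-adjoint root -/
theorem exists_saroot_of_sq_one (h2 : (2 : F) ≠ 0) (δ : F)
    (X : Matrix (Fin 2 ⊕ Fin 2) (Fin 2 ⊕ Fin 2) F)
    (hX : ∀ u v, sympBil 2 F (X *ᵥ u) (X *ᵥ v) = sympBil 2 F u v)
    (hXX : X * X = 1)
    (hns : ∀ z : F, X ≠ z • (1 : Matrix (Fin 2 ⊕ Fin 2) (Fin 2 ⊕ Fin 2) F)) :
    ∃ α' : Matrix (Fin 2 ⊕ Fin 2) (Fin 2 ⊕ Fin 2) F, IsSARoot (sympBil 2 F) δ α' ∧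
      X * α' = -(α' * X) := by
  obtain ⟨e, f, l, hfr, hl⟩ := exists_L1_frame h2 X hX hXX
  obtain ⟨α', hα', hα1, hα2, hα3, hα4, huniq⟩ := exists_saroot_of_frame δ hfr
  have hle : ∀ i, X *ᵥ e i = l i • e i := fun i => (hl i).2.1
  have hlf : ∀ i, X *ᵥ f i = l i • f i := fun i => (hl i).2.2
  have hl01 : l 0 ≠ l 1 := by
    intro h
    apply hns (l 0)
    apply huniq
    · intro i
      rw [hle, Matrix.smul_mulVec, Matrix.one_mulVec]
      fin_cases i
      · rfl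
      · show l 1 • e 1 = l 0 • e 1
        rw [h]
    · intro i
      rw [hlf, Matrix.smul_mulVec, Matrix.one_mulVec]
      fin_cases i
      · rfl
      · show l 1 • f 1 = l 0 • f 1
        rw [h]
  have hl1 : l 1 = -l 0 := by
    have h0 := (hl 0).1
    have h1 := (hl 1).1
    have h3 : (l 0 - l 1) * (l 0 + l 1) = 0 := by linear_combination h0 - h1
    rcases mul_eq_zero.1 h3 with h | h
    · exact absurd (sub_eq_zero.1 h) hl01
    · linear_combination h
  refine ⟨α', hα', ?_⟩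
  apply huniq
  · intro i
    fin_cases i
    · show (X * α') *ᵥ e 0 = (-(α' * X)) *ᵥ e 0
      rw [← Matrix.mulVec_mulVec, Matrix.neg_mulVec, ← Matrix.mulVec_mulVec, hα1, hle, hle,
        Matrix.mulVec_smul, hα1, hl1]
      module
    · show (X * α') *ᵥ e 1 = (-(α' * X)) *ᵥ e 1
      rw [← Matrix.mulVec_mulVec, Matrix.neg_mulVec, ← Matrix.mulVec_mulVec, hα2, hle,
        Matrix.mulVec_smul, hle, Matrix.mulVec_smul, hα2, hl1]
      module
  · intro i
    fin_cases i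
    · show (X * α') *ᵥ f 0 = (-(α' * X)) *ᵥ f 0
      rw [← Matrix.mulVec_mulVec, Matrix.neg_mulVec, ← Matrix.mulVec_mulVec, hα4, hlf,
        Matrix.mulVec_smul, hlf, Matrix.mulVec_smul, hα4, hl1]
      module
    · show (X * α') *ᵥ f 1 = (-(α' * X)) *ᵥ f 1
      rw [← Matrix.mulVec_mulVec, Matrix.neg_mulVec, ← Matrix.mulVec_mulVec, hα3, hlf, hlf,
        Matrix.mulVec_smul, hα3, hl1]
      module

/-- square `-1` with `-1` a square: the matrix commutes with a self-adjoint root -/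
theorem exists_saroot_of_sq_neg_one_split (h2 : (2 : F) ≠ 0) (δ : F) (ι₀ : F)
    (hι : ι₀ * ι₀ = -1) (X : Matrix (Fin 2 ⊕ Fin 2) (Fin 2 ⊕ Fin 2) F)
    (hX : ∀ u v, sympBil 2 F (X *ᵥ u) (X *ᵥ v) = sympBil 2 F u v)
    (hXX : X * X = -1) :
    ∃ α' : Matrix (Fin 2 ⊕ Fin 2) (Fin 2 ⊕ Fin 2) F, IsSARoot (sympBil 2 F) δ α' ∧
      X * α' = α' * X := by
  obtain ⟨e, f, hfr, hef⟩ := exists_eigen_frame h2 ι₀ hι X hX hXX
  obtain ⟨α', hα', hα1, hα2, hα3, hα4, huniq⟩ := exists_saroot_of_frame δ hfr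
  have hle : ∀ i, X *ᵥ e i = ι₀ • e i := fun i => (hef i).1
  have hlf : ∀ i, X *ᵥ f i = (-ι₀) • f i := fun i => (hef i).2
  refine ⟨α', hα', ?_⟩
  apply huniq
  · intro i
    fin_cases i
    · show (X * α') *ᵥ e 0 = (α' * X) *ᵥ e 0
      rw [← Matrix.mulVec_mulVec, ← Matrix.mulVec_mulVec, hα1, hle, hle, Matrix.mulVec_smul, hα1]
    · show (X * α') *ᵥ e 1 = (α' * X) *ᵥ e 1
      rw [← Matrix.mulVec_mulVec, ← Matrix.mulVec_mulVec, hα2, hle, Matrix.mulVec_smul, hle,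
        Matrix.mulVec_smul, hα2]
      module
  · intro i
    fin_cases i
    · show (X * α') *ᵥ f 0 = (α' * X) *ᵥ f 0
      rw [← Matrix.mulVec_mulVec, ← Matrix.mulVec_mulVec, hα4, hlf, Matrix.mulVec_smul, hlf,
        Matrix.mulVec_smul, hα4]
      module
    · show (X * α') *ᵥ f 1 = (α' * X) *ᵥ f 1
      rw [← Matrix.mulVec_mulVec, ← Matrix.mulVec_mulVec, hα3, hlf, hlf, Matrix.mulVec_smul, hα3]

/-- square `-1` with `-1` a non-square: the matrix commutes or anticommutes with a self-adjoint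
root -/
theorem exists_saroot_of_sq_neg_one_nonsplit (hodd : Odd (Fintype.card F)) (δ : F)
    (hδ : ¬ IsSquare δ) (hm1 : ¬ IsSquare (-1 : F))
    (X : Matrix (Fin 2 ⊕ Fin 2) (Fin 2 ⊕ Fin 2) F)
    (hX : ∀ u v, sympBil 2 F (X *ᵥ u) (X *ᵥ v) = sympBil 2 F u v)
    (hXX : X * X = -1) :
    ∃ α' : Matrix (Fin 2 ⊕ Fin 2) (Fin 2 ⊕ Fin 2) F, IsSARoot (sympBil 2 F) δ α' ∧
      ∃ ε : F, (ε = 1 ∨ ε = -1) ∧ X * α' = ε • (α' * X) := by
  have h2 : (2 : F) ≠ 0 := two_ne_zero_of_odd hodd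
  have hδ0 : δ ≠ 0 := by
    rintro rfl
    exact hδ ⟨0, by simp⟩
  obtain ⟨e, f, c, c', hfr, hall⟩ := exists_L2_frame h2 X hX hXX
  have hce : ∀ i, X *ᵥ e i = c i • f i := fun i => (hall i).1
  have hcf : ∀ i, X *ᵥ f i = c' i • e i := fun i => (hall i).2.1
  have hcc : ∀ i, c i * c' i = -1 := fun i => (hall i).2.2
  have hc0 : ∀ i, c i ≠ 0 := by
    intro i h0
    have := hcc i
    rw [h0, zero_mul] at this
    exact one_ne_zero (neg_eq_zero.1 this.symm)
  -- the scaling factor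
  obtain ⟨s, ε, hs0, hε, hs⟩ : ∃ s ε : F, s ≠ 0 ∧ (ε = 1 ∨ ε = -1) ∧
      s * s * c 1 = ε * δ * c 0 := by
    set t := δ * c 0 / c 1 with ht
    have ht0 : t ≠ 0 := div_ne_zero (mul_ne_zero hδ0 (hc0 0)) (hc0 1)
    by_cases hsq : IsSquare t
    · obtain ⟨s, hs⟩ := hsq
      have hs0 : s ≠ 0 := by
        rintro rfl
        rw [mul_zero] at hs
        exact ht0 hs
      refine ⟨s, 1, hs0, Or.inl rfl, ?_⟩
      rw [← hs, ht, div_mul_cancel₀ _ (hc0 1), one_mul]
    · obtain ⟨s, hs0, hs⟩ := exists_sq_mul_of_not_isSquare hodd hsq hm1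
      refine ⟨s, -1, hs0, Or.inr rfl, ?_⟩
      have h1 : s * s = -t := by rw [hs]; ring
      rw [h1, ht, neg_mul, div_mul_cancel₀ _ (hc0 1)]
      ring
  have hεε : ε * ε = 1 := by rcases hε with rfl | rfl <;> ring
  have hs' : δ * c' 1 = ε * c' 0 * (s * s) := by
    have h0 := hcc 0
    have h1 := hcc 1
    apply mul_left_cancel₀ (mul_ne_zero (hc0 0) (hc0 1))
    linear_combination (δ * c 0) * h1 - (ε * s * s * c 1) * h0 + ε * hs + (δ * c 0) * hεε
  set a1 : F := s * s * c 1 with ha1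
  set b1 : F := c' 1 * (s⁻¹ * s⁻¹) with hb1
  have hb : δ * b1 = ε * c' 0 := by
    rw [hb1, ← mul_assoc, hs']
    field_simp
  set e' : Fin 2 → (Fin 2 ⊕ Fin 2 → F) := ![e 0, s • e 1] with he'
  set f' : Fin 2 → (Fin 2 ⊕ Fin 2 → F) := ![f 0, s⁻¹ • f 1] with hf'
  have he'0 : e' 0 = e 0 := rfl
  have he'1 : e' 1 = s • e 1 := rfl
  have hf'0 : f' 0 = f 0 := rfl
  have hf'1 : f' 1 = s⁻¹ • f 1 := rfl
  have h01 : (0 : Fin 2) ≠ 1 := by decide
  have h10 : (1 : Fin 2) ≠ 0 := by decide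
  have hfr' : IsFrame (sympBil 2 F) ⊤ e' f' := by
    apply isFrame_top_of_gram (sympBil 2 F) (sympBil_self 2)
    · intro i
      fin_cases i
      · exact hfr.ef_self 0
      · show sympBil 2 F (s • e 1) (s⁻¹ • f 1) = 1
        rw [map_smul, map_smul, LinearMap.smul_apply, hfr.ef_self, smul_eq_mul, smul_eq_mul,
          mul_one, inv_mul_cancel₀ hs0]
    · intro i j hij
      fin_cases i <;> fin_cases j
      · exact absurd rfl hij
      · show sympBil 2 F (e 0) (s⁻¹ • f 1) = 0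
        rw [map_smul, hfr.ef_ne 0 1 h01, smul_zero]
      · show sympBil 2 F (s • e 1) (f 0) = 0
        rw [map_smul, LinearMap.smul_apply, hfr.ef_ne 1 0 h10, smul_zero]
      · exact absurd rfl hij
    · intro i j
      fin_cases i <;> fin_cases j
      · exact hfr.ee 0 0
      · show sympBil 2 F (e 0) (s • e 1) = 0
        rw [map_smul, hfr.ee, smul_zero]
      · show sympBil 2 F (s • e 1) (e 0) = 0
        rw [map_smul, LinearMap.smul_apply, hfr.ee, smul_zero]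
      · show sympBil 2 F (s • e 1) (s • e 1) = 0
        exact sympBil_self 2 _
    · intro i j
      fin_cases i <;> fin_cases j
      · exact hfr.ff 0 0
      · show sympBil 2 F (f 0) (s⁻¹ • f 1) = 0
        rw [map_smul, hfr.ff, smul_zero]
      · show sympBil 2 F (s⁻¹ • f 1) (f 0) = 0
        rw [map_smul, LinearMap.smul_apply, hfr.ff, smul_zero]
      · show sympBil 2 F (s⁻¹ • f 1) (s⁻¹ • f 1) = 0
        exact sympBil_self 2 _
    · rw [finrank_std, Fintype.card_fin]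
  obtain ⟨α', hα', hα1, hα2, hα3, hα4, huniq⟩ := exists_saroot_of_frame δ hfr'
  -- the action of `X` on the new frame
  have hXe0 : X *ᵥ e' 0 = c 0 • f' 0 := by rw [he'0, hf'0, hce]
  have hXf0 : X *ᵥ f' 0 = c' 0 • e' 0 := by rw [he'0, hf'0, hcf]
  have hXe1 : X *ᵥ e' 1 = a1 • f' 1 := by
    rw [he'1, hf'1, Matrix.mulVec_smul, hce, smul_smul, smul_smul, ha1]
    congr 1
    field_simp
  have hXf1 : X *ᵥ f' 1 = b1 • e' 1 := by
    rw [he'1, hf'1, Matrix.mulVec_smul, hcf, smul_smul, smul_smul, hb1]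
    congr 1
    field_simp
  have hsa : a1 = ε * δ * c 0 := hs
  refine ⟨α', hα', ε, hε, ?_⟩
  apply huniq
  · intro i
    fin_cases i
    · show (X * α') *ᵥ e' 0 = (ε • (α' * X)) *ᵥ e' 0
      rw [← Matrix.mulVec_mulVec, Matrix.smul_mulVec, ← Matrix.mulVec_mulVec, hα1, hXe1, hXe0,
        Matrix.mulVec_smul, hα4, hsa]
      module
    · show (X * α') *ᵥ e' 1 = (ε • (α' * X)) *ᵥ e' 1
      rw [← Matrix.mulVec_mulVec, Matrix.smul_mulVec, ← Matrix.mulVec_mulVec, hα2,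
        Matrix.mulVec_smul, hXe0, hXe1, Matrix.mulVec_smul, hα3, hsa]
      match_scalars
      linear_combination (-(δ * c 0)) * hεε
  · intro i
    fin_cases i
    · show (X * α') *ᵥ f' 0 = (ε • (α' * X)) *ᵥ f' 0
      rw [← Matrix.mulVec_mulVec, Matrix.smul_mulVec, ← Matrix.mulVec_mulVec, hα4,
        Matrix.mulVec_smul, hXf1, hXf0, Matrix.mulVec_smul, hα1]
      match_scalars
      linear_combination hb
    · show (X * α') *ᵥ f' 1 = (ε • (α' * X)) *ᵥ f' 1
      rw [← Matrix.mulVec_mulVec, Matrix.smul_mulVec, ← Matrix.mulVec_mulVec, hα3, hXf0, hXf1,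
        Matrix.mulVec_smul, hα2]
      match_scalars
      linear_combination (-ε) * hb + (- c' 0) * hεε

end cases

end Cfsg.Agent.Helper28.BGS
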