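import Mathlib
import Cfsg.Agent.Lib.Helper28.BGS14

/-!
# Involutions of `PSp_4(q)`, `q` odd, are conjugate into the subgroup of type `Sp_2(q^2)`
(helper28)
-/

set_option autoImplicit false
set_option linter.style.haveILetI false
set_option linter.unusedSectionVars false
set_option linter.unusedVariables false

namespace Cfsg.Agent.Helper28.BGS

open Matrix Module Cfsg.Agent.Helper13.SympFrame Cfsg.Agent.Helper13.LagCount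
  Cfsg.Agent.Helper28.SympIso Cfsg.Agent.Helper2.Symp Cfsg.Agent.Helper28.BGU

section gen

variable {F : Type*} [Field F] [Fintype F] {ι : Type} [Fintype ι] [DecidableEq ι]

/-- a quadratic field subalgebra is generated by a square root of any given non-square -/
theorem exists_quadGen (hodd : Odd (Fintype.card F))
    (K : Subalgebra F (Matrix ι ι F)) (hK : Cfsg.Geo.IsFieldSubalgebra 2 K)
    (δ : F) (hδ : ¬ IsSquare δ) : ∃ α, IsQuadGen K δ α := by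
  have h2 : (2 : F) ≠ 0 := two_ne_zero_of_odd hodd
  have h10 := one_ne_zero_of_finrank hK.finrank_eq
  obtain ⟨β, hβK, hβ, hgen⟩ := exists_gen hK.finrank_eq
  obtain ⟨a, b, hab⟩ := hgen (β * β) (K.mul_mem hβK hβK)
  obtain ⟨c, hc⟩ : ∃ c : F, b = c + c := ⟨b / 2, by field_simp; ring⟩
  set β₁ : Matrix ι ι F := β - c • (1 : Matrix ι ι F) with hβ₁
  have hβ₁K : β₁ ∈ K := K.sub_mem hβK (K.smul_mem K.one_mem c)
  have hββ₁ : β = β₁ + c • (1 : Matrix ι ι F) := by rw [hβ₁]; abel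
  have hβ₁ns : ∀ t : F, β₁ ≠ t • (1 : Matrix ι ι F) := by
    intro t ht
    apply hβ (t + c)
    rw [hββ₁, ht, add_smul]
  set δ₁ : F := a + c * c with hδ₁
  have hsq₁ : β₁ * β₁ = δ₁ • (1 : Matrix ι ι F) := by
    rw [hβ₁, sub_smul_one_mul_self, hab, hc, hδ₁, add_sub_cancel_right, ← add_smul]
  have hδ₁ns : ¬ IsSquare δ₁ := by
    rintro ⟨c', hc'⟩
    have hne : β₁ - c' • (1 : Matrix ι ι F) ≠ 0 := by
      intro h
      exact hβ₁ns c' (sub_eq_zero.1 h)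
    obtain ⟨y, hyK, hy⟩ := hK.inv _ (K.sub_mem hβ₁K (K.smul_mem K.one_mem c')) hne
    have hz : (β₁ - c' • (1 : Matrix ι ι F)) * (β₁ + c' • (1 : Matrix ι ι F)) = 0 := by
      rw [sub_mul_add_smul_one, hsq₁, hc', sub_self]
    have hcomm := hK.comm _ (K.sub_mem hβ₁K (K.smul_mem K.one_mem c')) y hyK
    have h3 : β₁ + c' • (1 : Matrix ι ι F) = 0 := by
      calc β₁ + c' • (1 : Matrix ι ι F)
          = ((β₁ - c' • (1 : Matrix ι ι F)) * y) * (β₁ + c' • (1 : Matrix ι ι F)) := by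
            rw [hy, one_mul]
        _ = y * ((β₁ - c' • (1 : Matrix ι ι F)) * (β₁ + c' • (1 : Matrix ι ι F))) := by
            rw [hcomm, mul_assoc]
        _ = 0 := by rw [hz, mul_zero]
    apply hβ₁ns (-c')
    rw [neg_smul]
    exact eq_neg_of_add_eq_zero_left h3
  obtain ⟨e, he0, he⟩ := exists_sq_mul_of_not_isSquare hodd hδ hδ₁ns
  set α : Matrix ι ι F := e • β₁ with hα
  have hαK : α ∈ K := K.smul_mem hβ₁K e
  have hαsq : α * α = δ • (1 : Matrix ι ι F) := by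
    rw [hα, smul_mul_assoc, mul_smul_comm, hsq₁, smul_smul, smul_smul, he]
  have hαns : ∀ t : F, α ≠ t • (1 : Matrix ι ι F) := by
    intro t ht
    apply hβ₁ns (e⁻¹ * t)
    rw [← smul_smul, ← ht, hα, smul_smul, inv_mul_cancel₀ he0, one_smul]
  have hgenα : ∀ k ∈ K, ∃ x y : F, k = x • (1 : Matrix ι ι F) + y • α := by
    intro k hk
    obtain ⟨x, y, rfl⟩ := hgen k hk
    refine ⟨x + y * c, y * e⁻¹, ?_⟩
    rw [hββ₁, hα, smul_smul, mul_assoc, inv_mul_cancel₀ he0, mul_one, smul_add, smul_smul,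
      add_smul]
    abel
  exact ⟨α, hαK, hαsq, hαns, hgenα, hδ, h10⟩

end gen

section symp

variable {F : Type*} [Field F] [Fintype F]

/-- every self-adjoint square root of a non-square is symplectically conjugate to the model -/
theorem exists_symp_conj_sa (h2 : (2 : F) ≠ 0) (δ : F) (hδ : ¬ IsSquare δ)
    (α : Matrix (Fin 2 ⊕ Fin 2) (Fin 2 ⊕ Fin 2) F) (hα : IsSARoot (sympBil 2 F) δ α) :
    ∃ g : Matrix.symplecticGroup (Fin 2) F,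
      (g : Matrix (Fin 2 ⊕ Fin 2) (Fin 2 ⊕ Fin 2) F) * alpha1 δ =
        α * (g : Matrix (Fin 2 ⊕ Fin 2) (Fin 2 ⊕ Fin 2) F) := by
  obtain ⟨e, f, hfr, h1, h3, h4, h5⟩ := exists_frame_of_saroot h2 δ hδ α hα
  obtain ⟨g, hg⟩ := (frameOfSp_bijective (F := F) 2).2 ⟨(e, f), hfr⟩
  have hg1 : ∀ i, (g : Matrix (Fin 2 ⊕ Fin 2) (Fin 2 ⊕ Fin 2) F) *ᵥ fV i = e i := by
    intro i
    have := congrArg (fun s : Frames (sympBil 2 F) 2 => s.1.1 i) hg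
    exact this
  have hg2 : ∀ i, (g : Matrix (Fin 2 ⊕ Fin 2) (Fin 2 ⊕ Fin 2) F) *ᵥ eV i = f i := by
    intro i
    have := congrArg (fun s : Frames (sympBil 2 F) 2 => s.1.2 i) hg
    exact this
  refine ⟨g, ?_⟩
  apply matrix_eq_of_eV_fV
  · intro i
    fin_cases i
    · show ((g : Matrix (Fin 2 ⊕ Fin 2) (Fin 2 ⊕ Fin 2) F) * alpha1 δ) *ᵥ eV 0 =
        (α * (g : Matrix (Fin 2 ⊕ Fin 2) (Fin 2 ⊕ Fin 2) F)) *ᵥ eV 0
      rw [← Matrix.mulVec_mulVec, alpha1_eV0, Matrix.mulVec_smul, hg2, ← Matrix.mulVec_mulVec,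
        hg2, h5]
    · show ((g : Matrix (Fin 2 ⊕ Fin 2) (Fin 2 ⊕ Fin 2) F) * alpha1 δ) *ᵥ eV 1 =
        (α * (g : Matrix (Fin 2 ⊕ Fin 2) (Fin 2 ⊕ Fin 2) F)) *ᵥ eV 1
      rw [← Matrix.mulVec_mulVec, alpha1_eV1, hg2, ← Matrix.mulVec_mulVec, hg2, h4]
  · intro i
    fin_cases i
    · show ((g : Matrix (Fin 2 ⊕ Fin 2) (Fin 2 ⊕ Fin 2) F) * alpha1 δ) *ᵥ fV 0 =
        (α * (g : Matrix (Fin 2 ⊕ Fin 2) (Fin 2 ⊕ Fin 2) F)) *ᵥ fV 0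
      rw [← Matrix.mulVec_mulVec, alpha1_fV0, hg1, ← Matrix.mulVec_mulVec, hg1, h1]
    · show ((g : Matrix (Fin 2 ⊕ Fin 2) (Fin 2 ⊕ Fin 2) F) * alpha1 δ) *ᵥ fV 1 =
        (α * (g : Matrix (Fin 2 ⊕ Fin 2) (Fin 2 ⊕ Fin 2) F)) *ᵥ fV 1
      rw [← Matrix.mulVec_mulVec, alpha1_fV1, Matrix.mulVec_smul, hg1, ← Matrix.mulVec_mulVec,
        hg1, h3]

/-- (anti)commuting with a self-adjoint root suffices for being conjugate into the normalizer -/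
theorem conj_mem_normalizer_of_saroot (h2 : (2 : F) ≠ 0)
    {K : Subalgebra F (Matrix (Fin 2 ⊕ Fin 2) (Fin 2 ⊕ Fin 2) F)} {δ : F}
    {α : Matrix (Fin 2 ⊕ Fin 2) (Fin 2 ⊕ Fin 2) F} (h : IsQuadGen K δ α)
    (hα : IsSARoot (sympBil 2 F) δ α) (x : GL (Fin 2 ⊕ Fin 2) F)
    (α' : Matrix (Fin 2 ⊕ Fin 2) (Fin 2 ⊕ Fin 2) F) (hα' : IsSARoot (sympBil 2 F) δ α')
    (hx : ∃ ε : F, (ε = 1 ∨ ε = -1) ∧ (x : Matrix (Fin 2 ⊕ Fin 2) (Fin 2 ⊕ Fin 2) F) * α' =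
      ε • (α' * (x : Matrix (Fin 2 ⊕ Fin 2) (Fin 2 ⊕ Fin 2) F))) :
    ∃ g ∈ Cfsg.spGL 2 F, g⁻¹ * x * g ∈ Cfsg.Geo.subalgebraNormalizer K := by
  obtain ⟨G₁, hG₁⟩ := exists_symp_conj_sa h2 δ h.nonsq α' hα'
  obtain ⟨G₂, hG₂⟩ := exists_symp_conj_sa h2 δ h.nonsq α hα
  set A : GL (Fin 2 ⊕ Fin 2) F := Cfsg.Agent.Helper28.SpSingMax.toGLHom 2 F G₁ with hA
  set C : GL (Fin 2 ⊕ Fin 2) F := Cfsg.Agent.Helper28.SpSingMax.toGLHom 2 F G₂ with hC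
  have hAs : A ∈ Cfsg.spGL 2 F := Cfsg.Agent.Helper28.SpSingMax.toGLHom_mem_spGL G₁
  have hCs : C ∈ Cfsg.spGL 2 F := Cfsg.Agent.Helper28.SpSingMax.toGLHom_mem_spGL G₂
  have hA1 : (A : Matrix (Fin 2 ⊕ Fin 2) (Fin 2 ⊕ Fin 2) F) * alpha1 δ =
      α' * (A : Matrix (Fin 2 ⊕ Fin 2) (Fin 2 ⊕ Fin 2) F) := hG₁
  have hC1 : (C : Matrix (Fin 2 ⊕ Fin 2) (Fin 2 ⊕ Fin 2) F) * alpha1 δ =
      α * (C : Matrix (Fin 2 ⊕ Fin 2) (Fin 2 ⊕ Fin 2) F) := hG₂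
  refine ⟨A * C⁻¹, (Cfsg.spGL 2 F).mul_mem hAs ((Cfsg.spGL 2 F).inv_mem hCs), ?_⟩
  apply h.mem_normalizer
  rw [comm_or_anti_iff]
  obtain ⟨ε, hε, h3⟩ := hx
  refine ⟨ε, hε, ?_⟩
  set g : GL (Fin 2 ⊕ Fin 2) F := A * C⁻¹ with hg
  rw [Units.val_mul, Units.val_mul]
  set P := (g : Matrix (Fin 2 ⊕ Fin 2) (Fin 2 ⊕ Fin 2) F) with hP
  set Q := ((g⁻¹ : GL (Fin 2 ⊕ Fin 2) F) : Matrix (Fin 2 ⊕ Fin 2) (Fin 2 ⊕ Fin 2) F) with hQ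
  set X := (x : Matrix (Fin 2 ⊕ Fin 2) (Fin 2 ⊕ Fin 2) F) with hX
  have hPQ : P * Q = 1 := gl_mul_inv g
  have hQP : Q * P = 1 := gl_inv_mul g
  have h4 := conj_rel Q P X α' hPQ ε h3
  have hPe : P = (A : Matrix (Fin 2 ⊕ Fin 2) (Fin 2 ⊕ Fin 2) F) *
      ((C⁻¹ : GL (Fin 2 ⊕ Fin 2) F) : Matrix (Fin 2 ⊕ Fin 2) (Fin 2 ⊕ Fin 2) F) := by
    rw [hP, hg, Units.val_mul]
  have hQe : Q = (C : Matrix (Fin 2 ⊕ Fin 2) (Fin 2 ⊕ Fin 2) F) *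
      ((A⁻¹ : GL (Fin 2 ⊕ Fin 2) F) : Matrix (Fin 2 ⊕ Fin 2) (Fin 2 ⊕ Fin 2) F) := by
    rw [hQ, hg, _root_.mul_inv_rev, inv_inv, Units.val_mul]
  have h5 : Q * α' * P = α := by
    rw [hPe, hQe]
    calc (C : Matrix (Fin 2 ⊕ Fin 2) (Fin 2 ⊕ Fin 2) F) *
          ((A⁻¹ : GL (Fin 2 ⊕ Fin 2) F) : Matrix (Fin 2 ⊕ Fin 2) (Fin 2 ⊕ Fin 2) F) * α' *
          ((A : Matrix (Fin 2 ⊕ Fin 2) (Fin 2 ⊕ Fin 2) F) *
          ((C⁻¹ : GL (Fin 2 ⊕ Fin 2) F) : Matrix (Fin 2 ⊕ Fin 2) (Fin 2 ⊕ Fin 2) F))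
        = (C : Matrix (Fin 2 ⊕ Fin 2) (Fin 2 ⊕ Fin 2) F) *
          ((A⁻¹ : GL (Fin 2 ⊕ Fin 2) F) : Matrix (Fin 2 ⊕ Fin 2) (Fin 2 ⊕ Fin 2) F) *
          (α' * (A : Matrix (Fin 2 ⊕ Fin 2) (Fin 2 ⊕ Fin 2) F)) *
          ((C⁻¹ : GL (Fin 2 ⊕ Fin 2) F) : Matrix (Fin 2 ⊕ Fin 2) (Fin 2 ⊕ Fin 2) F) := by
          simp only [mul_assoc]
      _ = (C : Matrix (Fin 2 ⊕ Fin 2) (Fin 2 ⊕ Fin 2) F) *
          (((A⁻¹ : GL (Fin 2 ⊕ Fin 2) F) : Matrix (Fin 2 ⊕ Fin 2) (Fin 2 ⊕ Fin 2) F) *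
          (A : Matrix (Fin 2 ⊕ Fin 2) (Fin 2 ⊕ Fin 2) F)) * alpha1 δ *
          ((C⁻¹ : GL (Fin 2 ⊕ Fin 2) F) : Matrix (Fin 2 ⊕ Fin 2) (Fin 2 ⊕ Fin 2) F) := by
          rw [← hA1]; simp only [mul_assoc]
      _ = α * ((C : Matrix (Fin 2 ⊕ Fin 2) (Fin 2 ⊕ Fin 2) F) *
          ((C⁻¹ : GL (Fin 2 ⊕ Fin 2) F) : Matrix (Fin 2 ⊕ Fin 2) (Fin 2 ⊕ Fin 2) F)) := by
          rw [gl_inv_mul, mul_one, hC1]; simp only [mul_assoc]
      _ = α := by rw [gl_mul_inv, mul_one]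
  rw [h5] at h4
  exact h4

/-- every non-scalar element of `Sp_4(q)`, `q` odd, with scalar square is conjugate into the
normalizer of a self-adjoint quadratic field subalgebra -/
theorem sufficient (hodd : Odd (Fintype.card F))
    (K : Subalgebra F (Matrix (Fin 2 ⊕ Fin 2) (Fin 2 ⊕ Fin 2) F))
    (hK : Cfsg.Geo.IsFieldSubalgebra 2 K)
    (hKf : Cfsg.Geo.IsSelfAdjointFor (Cfsg.sympForm 2 F) K)
    (x : GL (Fin 2 ⊕ Fin 2) F) (hx : x ∈ Cfsg.spGL 2 F)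
    (hx2 : ∃ z : F, ((x ^ 2 : GL (Fin 2 ⊕ Fin 2) F) : Matrix (Fin 2 ⊕ Fin 2) (Fin 2 ⊕ Fin 2) F) =
      z • (1 : Matrix (Fin 2 ⊕ Fin 2) (Fin 2 ⊕ Fin 2) F))
    (hns : ∀ z : F, (x : Matrix (Fin 2 ⊕ Fin 2) (Fin 2 ⊕ Fin 2) F) ≠
      z • (1 : Matrix (Fin 2 ⊕ Fin 2) (Fin 2 ⊕ Fin 2) F)) :
    ∃ g ∈ Cfsg.spGL 2 F, g⁻¹ * x * g ∈ Cfsg.Geo.subalgebraNormalizer K := by
  have h2 : (2 : F) ≠ 0 := two_ne_zero_of_odd hodd
  -- a non-square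
  obtain ⟨δ, hδ⟩ : ∃ δ : F, ¬ IsSquare δ :=
    FiniteField.exists_nonsquare (ringChar_ne_two_of_odd hodd)
  obtain ⟨α, hα⟩ := exists_quadGen hodd K hK δ hδ
  have hαsa : IsSARoot (sympBil 2 F) δ α := by
    refine ⟨hα.sq, ?_⟩
    intro u v
    rw [sympBil_apply, sympBil_apply]
    exact hKf α hα.mem u v
  set X := (x : Matrix (Fin 2 ⊕ Fin 2) (Fin 2 ⊕ Fin 2) F) with hX
  have hXiso : ∀ u v, sympBil 2 F (X *ᵥ u) (X *ᵥ v) = sympBil 2 F u v := spGL_apply hx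
  obtain ⟨z, hz⟩ := hx2
  have hXX : X * X = z • (1 : Matrix (Fin 2 ⊕ Fin 2) (Fin 2 ⊕ Fin 2) F) := by
    rw [← hz, Units.val_pow_eq_pow_val, sq]
  -- `z = ± 1`
  have hzz : z * z = 1 := by
    obtain ⟨u, v, huv⟩ := exists_sympBil_ne_zero (F := F) 2 (by norm_num)
    have h1 := hXiso (X *ᵥ u) (X *ᵥ v)
    rw [Matrix.mulVec_mulVec, Matrix.mulVec_mulVec, hXX, Matrix.smul_mulVec, Matrix.smul_mulVec,
      Matrix.one_mulVec, Matrix.one_mulVec, map_smul, map_smul, LinearMap.smul_apply, hXiso,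
      smul_eq_mul, smul_eq_mul, ← mul_assoc] at h1
    have h3 : (z * z - 1) * sympBil 2 F u v = 0 := by linear_combination h1
    rcases mul_eq_zero.1 h3 with h | h
    · linear_combination h
    · exact absurd h huv
  have hz1 : z = 1 ∨ z = -1 := by
    have : (z - 1) * (z + 1) = 0 := by linear_combination hzz
    rcases mul_eq_zero.1 this with h | h
    · left; linear_combination h
    · right; linear_combination h
  rcases hz1 with rfl | rfl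
  · rw [one_smul] at hXX
    obtain ⟨α', hα', hc⟩ := exists_saroot_of_sq_one h2 δ X hXiso hXX hns
    exact conj_mem_normalizer_of_saroot h2 hα hαsa x α' hα'
      ⟨-1, Or.inr rfl, by rw [neg_smul, one_smul]; exact hc⟩
  · rw [neg_smul, one_smul] at hXX
    by_cases hm1 : IsSquare (-1 : F)
    · obtain ⟨ι₀, hι⟩ := hm1
      obtain ⟨α', hα', hc⟩ := exists_saroot_of_sq_neg_one_split h2 δ ι₀ hι.symm X hXiso hXX
      exact conj_mem_normalizer_of_saroot h2 hα hαsa x α' hα'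
        ⟨1, Or.inl rfl, by rw [one_smul]; exact hc⟩
    · obtain ⟨α', hα', hc⟩ := exists_saroot_of_sq_neg_one_nonsplit hodd δ hδ hm1 X hXiso hXX
      exact conj_mem_normalizer_of_saroot h2 hα hαsa x α' hα' hc

end symp

end Cfsg.Agent.Helper28.BGS
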