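import Mathlib
import Cfsg.Agent.Lib.Helper28.SqWQ
import Cfsg.Agent.Lib.Helper13.StBN1

/-!
# The unitriangular subgroup of the twisted orthogonal group is generated by root elements (helper28)
-/

set_option autoImplicit false
set_option linter.unusedSectionVars false
set_option linter.unusedVariables false

namespace Cfsg.Agent.Helper28.SqW

open Matrix Cfsg.Agent.Helper13.SuBN Cfsg.Agent.Helper13.SuP Cfsg.Agent.Helper13.SdBN
  Cfsg.Agent.Helper13.StBN

variable {n : ℕ} {K : Type*} [Field K]

/-- the root elements of the twisted unitriangular subgroup -/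
def rootSetT (n : ℕ) {K : Type*} [Field K] (φ : K →+* K) : Set (WSU n (RingHom.id K)) :=
  {g | ∃ (a b : Fin n) (t : K), a < b ∧ a ≠ Fin.rev b ∧ tauP n a = a ∧ tauP n b = b ∧ φ t = t ∧
    g = Tm (RingHom.id K) a b t} ∪
  {g | ∃ (a c : Fin n) (u : K), a < c ∧ a < Fin.rev c ∧ tauP n a = a ∧ tauP n c = Fin.rev c ∧
    g = xG φ a c u}

theorem ne_rev_of_even (hn : n % 2 = 0) (a : Fin n) : a ≠ Fin.rev a := by
  intro e
  have := congrArg Fin.val e
  rw [Fin.val_rev] at this
  omega

theorem tauP_eq_self {x : Fin n} (h1 : x.val + 1 ≠ n / 2) (h2 : x.val ≠ n / 2) : tauP n x = x := by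
  apply Fin.ext
  rw [tauP_val, if_neg h1, if_neg (fun h => h2 h.1)]

section

variable (hn : n % 2 = 0) {φ : K →+* K} (hφφ : ∀ x, φ (φ x) = x)
include hn hφφ

/-- the root elements lie in `unipT` -/
theorem rootSetT_subset : rootSetT n φ ⊆ unipT n φ := by
  rintro g (⟨a, b, t, hab, hab', hτa, hτb, ht, rfl⟩ | ⟨a, c, u, hac, hac', hτa, hτc, rfl⟩)
  · have ha := ne_rev_of_even hn a
    have hb := ne_rev_of_even hn b
    exact ⟨⟨Tm_mem_unip hidQ hab ha hb t, Tm_mem_soq (ne_of_lt hab) hab' ha hb hn t⟩,
      Tm_mem_twG hn φ (ne_of_lt hab) ha hb hτa hτb ht⟩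
  · have ha := ne_rev_of_even hn a
    have hc := ne_rev_of_even hn c
    have hc' := ne_rev_of_even hn (Fin.rev c)
    refine ⟨⟨?_, xG_mem_soq (ne_of_lt hac) (ne_of_lt hac') ha hc hn φ u⟩,
      xG_mem_twG (ne_of_lt hac) (ne_of_lt hac') ha hc hn hφφ hτa hτc u⟩
    unfold xG
    exact (unip n (RingHom.id K)).mul_mem (Tm_mem_unip hidQ hac ha hc u)
      (Tm_mem_unip hidQ hac' ha hc' _)

/-- in characteristic `2` the root elements are involutions -/
theorem rootSetT_sq (h2 : (2 : K) = 0) : ∀ s ∈ rootSetT n φ, s * s = 1 := by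
  rintro g (⟨a, b, t, hab, hab', hτa, hτb, ht, rfl⟩ | ⟨a, c, u, hac, hac', hτa, hτc, rfl⟩)
  · have ha := ne_rev_of_even hn a
    have hb := ne_rev_of_even hn b
    rw [Tm_add hidQ (ne_of_lt hab) ha hb, ← two_mul, h2, zero_mul, Tm_zero hidQ (ne_of_lt hab) ha hb]
  · have ha := ne_rev_of_even hn a
    have hc := ne_rev_of_even hn c
    rw [xG_add (ne_of_lt hac) (ne_of_lt hac') ha hc, ← two_mul, h2, zero_mul,
      xG_zero (ne_of_lt hac) (ne_of_lt hac') ha hc]

theorem clear_rowT {k : ℕ} (hk : 2 * k + 1 < n)
    (ih : ∀ g ∈ unipT n φ, Triv (k + 1) g → g ∈ Subgroup.closure (rootSetT n φ)) :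
    ∀ m : ℕ, ∀ g ∈ unipT n φ, Triv k g →
      (∀ b : Fin n, k + 1 + m ≤ b.val → b.val < n - 1 - k → mt g ⟨k, by omega⟩ b = 0) →
      g ∈ Subgroup.closure (rootSetT n φ) := by
  have hkn : k < n := by omega
  set kk : Fin n := ⟨k, hkn⟩ with hkkdef
  have hkkv : kk.val = k := rfl
  have hrev : (Fin.rev kk).val = n - 1 - k := by rw [Fin.val_rev]; omega
  have hkc : kk < Fin.rev kk := by rw [Fin.lt_def, hrev, hkkv]; omega
  have hka : kk ≠ Fin.rev kk := ne_of_lt hkc
  intro m
  induction m with
  | zero =>
    intro g hg hT h0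
    have h0' : ∀ j : Fin n, kk < j → j < Fin.rev kk → mt g kk j = 0 := by
      intro j hj1 hj2
      apply h0 j
      · have : kk.val < j.val := hj1
        omega
      · have : j.val < (Fin.rev kk).val := hj2
        omega
    have hlast := last_zero hn hg.1 hT hkkv hkc h0'
    apply ih g hg
    intro i j hi
    by_cases hik : i.val < k
    · exact hT i j hik
    have hik' : i = kk := Fin.ext (by rw [hkkv]; omega)
    rw [hik']
    rcases lt_trichotomy j kk with h | h | h
    · rw [hg.1.1.1 kk j h, Matrix.one_apply_ne (ne_of_gt h)]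
    · rw [h, hg.1.1.2 kk, Matrix.one_apply_eq]
    · rw [Matrix.one_apply_ne (ne_of_lt h)]
      rcases lt_trichotomy j (Fin.rev kk) with h' | h' | h'
      · exact h0' j h h'
      · rw [h', hlast]
      · rw [hT.col kk j (by
          have := Fin.rev_lt_rev.2 h'
          rw [Fin.rev_rev] at this
          rw [← hkkv]
          exact this), Matrix.one_apply_ne (ne_of_lt h)]
  | succ m ihm =>
    intro g hg hT h0
    by_cases hb0 : k + 1 + m < n - 1 - k
    · have hb0n : k + 1 + m < n := by omega
      have hk1 : k + 1 < n / 2 := by omega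
      have hτk : tauP n kk = kk := tauP_eq_self (by rw [hkkv]; omega) (by rw [hkkv]; omega)
      set b0 : Fin n := ⟨k + 1 + m, hb0n⟩ with hb0def
      have hb0v : b0.val = k + 1 + m := rfl
      have hkb : kk < b0 := by rw [Fin.lt_def, hkkv, hb0v]; omega
      have hbc : b0 < Fin.rev kk := by rw [Fin.lt_def, hrev, hb0v]; exact hb0
      have hmid : b0 ≠ Fin.rev b0 := ne_rev_of_even hn b0
      have hkrb : kk ≠ Fin.rev b0 := by
        intro e
        have := congrArg Fin.rev e
        rw [Fin.rev_rev] at this
        exact (ne_of_lt hbc) this.symm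
      -- the two middle indices
      have hm1n : n / 2 - 1 < n := by omega
      have hm2n : n / 2 < n := by omega
      set m1 : Fin n := ⟨n / 2 - 1, hm1n⟩ with hm1def
      set m2 : Fin n := ⟨n / 2, hm2n⟩ with hm2def
      have hrm1 : Fin.rev m1 = m2 := by
        apply Fin.ext
        rw [Fin.val_rev]
        show n - (n / 2 - 1 + 1) = n / 2
        omega
      have hτm1 : tauP n m1 = m2 := by
        apply Fin.ext
        rw [tauP_val, if_pos]
        show n / 2 - 1 + 1 = n / 2
        omega
      have hτm2 : tauP n m2 = m1 := by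
        rw [← hτm1, tauP_tauP]
      by_cases hc1 : b0.val + 1 = n / 2
      · -- `b0` is the first middle index: its entry vanishes
        have hb0m1 : b0 = m1 := Fin.ext (by show b0.val = n / 2 - 1; omega)
        have hz : mt g kk b0 = 0 := by
          have h1 := twG_apply hg.2 kk b0
          rw [hτk, hb0m1, hτm1] at h1
          rw [hb0m1, ← h1, h0 m2 (by show k + 1 + (m + 1) ≤ n / 2; omega)
            (by show n / 2 < n - 1 - k; omega), map_zero]
        apply ihm g hg hT
        intro b hb1 hb2
        by_cases hbb : b = b0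
        · rw [hbb, hz]
        · apply h0 b _ hb2
          have : b.val ≠ k + 1 + m := fun e => hbb (Fin.ext e)
          omega
      by_cases hc2 : b0.val = n / 2
      · -- `b0` is the second middle index: clear both middle entries
        have hb0m2 : b0 = m2 := Fin.ext hc2
        have hkm1 : kk < m1 := by rw [Fin.lt_def, hkkv]; show k < n / 2 - 1; omega
        have hm1c : m1 < Fin.rev kk := by rw [Fin.lt_def, hrev]; show n / 2 - 1 < n - 1 - k; omega
        have hm1mid : m1 ≠ Fin.rev m1 := ne_rev_of_even hn m1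
        have hkrm1 : kk < Fin.rev m1 := by rw [hrm1, ← hb0m2]; exact hkb
        have hrel : mt g kk m2 = φ (mt g kk m1) := by
          have h1 := twG_apply hg.2 kk m2
          rw [hτk, hτm2] at h1
          exact h1.symm
        obtain ⟨p1, p2, p3, p4⟩ := step_Tm hidQ hg.1.1 hT hkkv hkm1 hm1c hm1mid (-(mt g kk m1))
        have hm2c : m2 < Fin.rev kk := by rw [← hb0m2]; exact hbc
        have hkm2 : kk < m2 := by rw [← hb0m2]; exact hkb
        obtain ⟨q1, q2, q3, q4⟩ := step_Tm hidQ p1 p2 hkkv hkm2 hm2c (ne_rev_of_even hn m2)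
          (φ (-(mt g kk m1)))
        have hx : g * Tm (RingHom.id K) kk m1 (-(mt g kk m1)) *
            Tm (RingHom.id K) kk m2 (φ (-(mt g kk m1))) = g * xG φ kk m1 (-(mt g kk m1)) := by
          unfold xG
          rw [hrm1, mul_assoc]
        rw [hx] at q1 q2 q3 q4
        have hxm : xG φ kk m1 (-(mt g kk m1)) ∈ rootSetT n φ :=
          Or.inr ⟨kk, m1, _, hkm1, hkrm1, hτk, by rw [hτm1, hrm1], rfl⟩
        have hxT := rootSetT_subset hn hφφ hxm
        have hgx : g * xG φ kk m1 (-(mt g kk m1)) ∈ unipT n φ := (unipT n φ).mul_mem hg hxT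
        have h5 := ihm _ hgx q2 (by
          intro b hb1 hb2
          by_cases hbb : b = m2
          · rw [hbb, q4, p3 m2 (fun e => by
              have := congrArg Fin.val e
              simp only [m1, m2] at this
              omega) (ne_of_lt hm2c), hrel, map_neg, add_neg_cancel]
          · have hbr : b ≠ Fin.rev kk := by
              intro e
              rw [e, hrev] at hb2
              exact lt_irrefl _ hb2
            have hbm1 : b ≠ m1 := by
              intro e
              rw [e] at hb1
              have : m1.val = n / 2 - 1 := rfl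
              omega
            rw [q3 b hbb hbr, p3 b hbm1 hbr]
            apply h0 b _ hb2
            have : b.val ≠ n / 2 := fun e => hbb (Fin.ext e)
            omega)
        have hL : xG φ kk m1 (-(mt g kk m1)) ∈ Subgroup.closure (rootSetT n φ) :=
          Subgroup.subset_closure hxm
        have e : g = (g * xG φ kk m1 (-(mt g kk m1))) * (xG φ kk m1 (-(mt g kk m1)))⁻¹ := by
          group
        rw [e]
        exact mul_mem h5 (inv_mem hL)
      · -- `b0` is not a middle index
        have hτb : tauP n b0 = b0 := tauP_eq_self hc1 hc2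
        have hfix : φ (-(mt g kk b0)) = -(mt g kk b0) := by
          have h1 := twG_apply hg.2 kk b0
          rw [hτk, hτb] at h1
          rw [map_neg, h1]
        obtain ⟨h1, h2', h3, h4⟩ := step_Tm hidQ hg.1.1 hT hkkv hkb hbc hmid (-(mt g kk b0))
        have hxm : Tm (RingHom.id K) kk b0 (-(mt g kk b0)) ∈ rootSetT n φ :=
          Or.inl ⟨kk, b0, _, hkb, hkrb, hτk, hτb, hfix, rfl⟩
        have hxT := rootSetT_subset hn hφφ hxm
        have hgx : g * Tm (RingHom.id K) kk b0 (-(mt g kk b0)) ∈ unipT n φ :=
          (unipT n φ).mul_mem hg hxT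
        have h5 := ihm _ hgx h2' (by
          intro b hb1 hb2
          by_cases hbb : b = b0
          · rw [hbb, h4, add_neg_cancel]
          · rw [h3 b hbb (by
              intro e
              rw [e, hrev] at hb2
              exact lt_irrefl _ hb2)]
            apply h0 b _ hb2
            have : b.val ≠ k + 1 + m := fun e => hbb (Fin.ext e)
            omega)
        have hL : Tm (RingHom.id K) kk b0 (-(mt g kk b0)) ∈ Subgroup.closure (rootSetT n φ) :=
          Subgroup.subset_closure hxm
        have e : g = (g * Tm (RingHom.id K) kk b0 (-(mt g kk b0))) *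
            (Tm (RingHom.id K) kk b0 (-(mt g kk b0)))⁻¹ := by
          group
        rw [e]
        exact mul_mem h5 (inv_mem hL)
    · apply ihm g hg hT
      intro b hb1 hb2
      omega

theorem mem_closure_of_trivT : ∀ d k : ℕ, n ≤ k + d → ∀ g ∈ unipT n φ, Triv k g →
    g ∈ Subgroup.closure (rootSetT n φ) := by
  intro d
  induction d with
  | zero =>
    intro k hk g hg hT
    rw [eq_one_of_triv hg.1.1 hT (by omega)]
    exact one_mem _
  | succ d ih =>
    intro k hk g hg hT
    by_cases hk2 : n ≤ 2 * k + 1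
    · rw [eq_one_of_triv hg.1.1 hT hk2]
      exact one_mem _
    · have hk3 : 2 * k + 1 < n := by omega
      apply clear_rowT hn hφφ hk3 (ih (k + 1) (by omega)) n g hg hT
      intro b hb1 hb2
      have := b.2
      omega

/-- **the twisted unitriangular subgroup is generated by the root elements** -/
theorem unipT_le_closure : unipT n φ ≤ Subgroup.closure (rootSetT n φ) := fun g hg =>
  mem_closure_of_trivT hn hφφ n 0 (by omega) g hg (triv_zero g)

/-- **`unipT` is generated by its involutions in characteristic `2`** -/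
theorem unipT_le_closure_invol (h2 : (2 : K) = 0) :
    unipT n φ ≤ Subgroup.closure {g | g ∈ unipT n φ ∧ g * g = 1} := by
  refine le_trans (unipT_le_closure hn hφφ) (Subgroup.closure_mono ?_)
  intro g hg
  exact ⟨rootSetT_subset hn hφφ hg, rootSetT_sq hn hφφ h2 g hg⟩

end

end Cfsg.Agent.Helper28.SqW
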