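import Mathlib
import Cfsg.Agent.Lib.Helper18.WCDefs

/-!
# S2244, piece WC-COMMNS (table): all roots occurring in the commutator formula of two distinct positive
roots are non-fundamental.  Checked by `decide +kernel` on the root tables (chunked for E7, E8).
-/

set_option autoImplicit false
set_option Elab.async false
set_option linter.unusedSectionVars false
set_option linter.unusedVariables false

namespace Cfsg.Agent.Helper18.WC

open Cfsg Cfsg.Lie Cfsg.Agent.Lead.Chev Cfsg.Agent.Helper6.ChevL

/-- table check for the root `a`: for every positive `s ≠ a`, every term of `commTerms a s` is non-fundamental -/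
def wc_commns_chk (D : ChevalleyDatum) (a : ℕ) : Bool :=
  !decide (D.IsPosRoot a) || (List.range D.nroots).all fun s =>
    !decide (D.IsPosRoot s) || decide (s = a) ||
      (D.commTerms a s).all fun c => (List.range D.rank).all fun i => decide (c.1 ≠ D.simple i)

theorem wc_commns_of_chk (D : ChevalleyDatum) (h : ∀ a < D.nroots, wc_commns_chk D a = true) :
    CommNS D := by
  intro a s ha hs hsa c hc
  have h1 := h a ha.1
  unfold wc_commns_chk at h1
  simp only [Bool.or_eq_true, Bool.not_eq_true', decide_eq_false_iff_not, List.all_eq_true,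
    List.mem_range, decide_eq_true_eq] at h1
  rcases h1 with h1 | h1
  · exact absurd ha h1
  · rcases h1 s hs.1 with (h2 | h2) | h2
    · exact absurd hs h2
    · exact absurd h2 hsa
    · intro i hi
      exact h2 c hc i hi

theorem wc_commns_all_extend (f : ℕ → Bool) (m k : ℕ) (h1 : ∀ a < m, f a = true)
    (h2 : (List.range' m k).all f = true) : ∀ a < m + k, f a = true := by
  intro a ha
  by_cases h : a < m
  · exact h1 a h
  · exact List.all_eq_true.1 h2 a (List.mem_range'_1.2 ⟨by omega, by omega⟩)

theorem wc_commns_G2 : (List.range 12).all (wc_commns_chk chevG2) = true := by decide +kernel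
theorem wc_commns_B2 : (List.range 8).all (wc_commns_chk chevB2) = true := by decide +kernel
theorem wc_commns_D4 : (List.range 24).all (wc_commns_chk chevD4) = true := by decide +kernel
theorem wc_commns_F4 : (List.range 48).all (wc_commns_chk chevF4) = true := by decide +kernel
theorem wc_commns_E6 : (List.range 72).all (wc_commns_chk chevE6) = true := by decide +kernel

theorem wc_commns_E7_neg : (List.range' 0 63).all (wc_commns_chk chevE7) = true := by decide +kernel
theorem wc_commns_E7_0 : (List.range' 63 21).all (wc_commns_chk chevE7) = true := by decide +kernel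
theorem wc_commns_E7_1 : (List.range' 84 21).all (wc_commns_chk chevE7) = true := by decide +kernel
theorem wc_commns_E7_2 : (List.range' 105 21).all (wc_commns_chk chevE7) = true := by decide +kernel
theorem wc_commns_E7 : ∀ a < 126, wc_commns_chk chevE7 a = true := by
  have h0 : ∀ a < 0 + 63, wc_commns_chk chevE7 a = true :=
    wc_commns_all_extend _ 0 63 (fun a ha => absurd ha (Nat.not_lt_zero a)) wc_commns_E7_neg
  have h1 : ∀ a < 63 + 21, wc_commns_chk chevE7 a = true := wc_commns_all_extend _ 63 21 h0 wc_commns_E7_0
  have h2 : ∀ a < 84 + 21, wc_commns_chk chevE7 a = true := wc_commns_all_extend _ 84 21 h1 wc_commns_E7_1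
  have h3 : ∀ a < 105 + 21, wc_commns_chk chevE7 a = true := wc_commns_all_extend _ 105 21 h2 wc_commns_E7_2
  exact h3

theorem wc_commns_E8_neg : (List.range' 0 120).all (wc_commns_chk chevE8) = true := by decide +kernel
theorem wc_commns_E8_0 : (List.range' 120 20).all (wc_commns_chk chevE8) = true := by decide +kernel
theorem wc_commns_E8_1 : (List.range' 140 20).all (wc_commns_chk chevE8) = true := by decide +kernel
theorem wc_commns_E8_2 : (List.range' 160 20).all (wc_commns_chk chevE8) = true := by decide +kernel
theorem wc_commns_E8_3 : (List.range' 180 20).all (wc_commns_chk chevE8) = true := by decide +kernel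
theorem wc_commns_E8_4 : (List.range' 200 20).all (wc_commns_chk chevE8) = true := by decide +kernel
theorem wc_commns_E8_5 : (List.range' 220 20).all (wc_commns_chk chevE8) = true := by decide +kernel
theorem wc_commns_E8 : ∀ a < 240, wc_commns_chk chevE8 a = true := by
  have h0 : ∀ a < 0 + 120, wc_commns_chk chevE8 a = true :=
    wc_commns_all_extend _ 0 120 (fun a ha => absurd ha (Nat.not_lt_zero a)) wc_commns_E8_neg
  have h1 : ∀ a < 120 + 20, wc_commns_chk chevE8 a = true := wc_commns_all_extend _ 120 20 h0 wc_commns_E8_0
  have h2 : ∀ a < 140 + 20, wc_commns_chk chevE8 a = true := wc_commns_all_extend _ 140 20 h1 wc_commns_E8_1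
  have h3 : ∀ a < 160 + 20, wc_commns_chk chevE8 a = true := wc_commns_all_extend _ 160 20 h2 wc_commns_E8_2
  have h4 : ∀ a < 180 + 20, wc_commns_chk chevE8 a = true := wc_commns_all_extend _ 180 20 h3 wc_commns_E8_3
  have h5 : ∀ a < 200 + 20, wc_commns_chk chevE8 a = true := wc_commns_all_extend _ 200 20 h4 wc_commns_E8_4
  have h6 : ∀ a < 220 + 20, wc_commns_chk chevE8 a = true := wc_commns_all_extend _ 220 20 h5 wc_commns_E8_5
  exact h6

/-- WC-COMMNS (table) -/
theorem commNS_of_mem (D : ChevalleyDatum)
    (hD : D ∈ [chevG2, chevB2, chevD4, chevF4, chevE6, chevE7, chevE8]) : CommNS D := by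
  simp only [List.mem_cons, List.mem_nil_iff, or_false] at hD
  rcases hD with rfl | rfl | rfl | rfl | rfl | rfl | rfl
  · exact wc_commns_of_chk _ fun a ha => List.all_eq_true.1 wc_commns_G2 a (List.mem_range.2 ha)
  · exact wc_commns_of_chk _ fun a ha => List.all_eq_true.1 wc_commns_B2 a (List.mem_range.2 ha)
  · exact wc_commns_of_chk _ fun a ha => List.all_eq_true.1 wc_commns_D4 a (List.mem_range.2 ha)
  · exact wc_commns_of_chk _ fun a ha => List.all_eq_true.1 wc_commns_F4 a (List.mem_range.2 ha)
  · exact wc_commns_of_chk _ fun a ha => List.all_eq_true.1 wc_commns_E6 a (List.mem_range.2 ha)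
  · exact wc_commns_of_chk _ wc_commns_E7
  · exact wc_commns_of_chk _ wc_commns_E8

end Cfsg.Agent.Helper18.WC
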