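import Mathlib

/-!
# S2916 piece D4 (helper28): `|SL(3,3)| = 5616` and `PSL(3,3) ≃* SL(3,3)`.
-/

set_option autoImplicit false

namespace Cfsg.Agent.Helper26.L33

open Matrix

universe u v

namespace D4

theorem d4_card_units : Nat.card (ZMod 3)ˣ = 2 := by
  rw [Nat.card_eq_fintype_card, ZMod.card_units_eq_totient]
  decide

theorem d4_card_gl : Nat.card (GL (Fin 3) (ZMod 3)) = 11232 := by
  haveI : Fact (Nat.Prime 3) := ⟨by norm_num⟩
  rw [Matrix.card_GL_field, ZMod.card, Fin.prod_univ_three]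
  norm_num

theorem d4_card_center :
    Nat.card (Subgroup.center (Matrix.SpecialLinearGroup (Fin 3) (ZMod 3))) = 1 := by
  haveI : Fact (Nat.Prime 3) := ⟨by norm_num⟩
  have e := SpecialLinearGroup.center_equiv_rootsOfUnity' (n := Fin 3) (R := ZMod 3) (0 : Fin 3)
  rw [Nat.card_congr e.toEquiv, Fintype.card_fin]
  have h : (rootsOfUnity 3 (ZMod 3) : Subgroup (ZMod 3)ˣ) =
      (powMonoidHom 3 : (ZMod 3)ˣ →* (ZMod 3)ˣ).ker := by
    ext x
    simp [mem_rootsOfUnity, MonoidHom.mem_ker]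
  rw [h, IsCyclic.card_powMonoidHom_ker, d4_card_units]
  rfl

end D4

theorem card_sl3 : Nat.card (Matrix.SpecialLinearGroup (Fin 3) (ZMod 3)) = 5616 := by
  let d : GL (Fin 3) (ZMod 3) →* (ZMod 3)ˣ := GeneralLinearGroup.det
  have h1 : Nat.card d.ker * d.ker.index = Nat.card (GL (Fin 3) (ZMod 3)) :=
    Subgroup.card_mul_index d.ker
  have h2 : d.ker.index = 2 := by
    rw [Subgroup.index_ker, MonoidHom.range_eq_top.mpr GeneralLinearGroup.det_surjective,
      Subgroup.card_top, D4.d4_card_units]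
  have h3 : Nat.card (Matrix.SpecialLinearGroup (Fin 3) (ZMod 3)) = Nat.card d.ker := by
    apply Nat.card_congr
    refine Equiv.ofBijective (fun g => ⟨SpecialLinearGroup.toGL g, ?_⟩) ⟨?_, ?_⟩
    · rw [MonoidHom.mem_ker]
      ext
      simp [d]
    · intro a b h
      simp only [Subtype.mk.injEq] at h
      exact SpecialLinearGroup.toGL_injective h
    · rintro ⟨g, hg⟩
      rw [MonoidHom.mem_ker] at hg
      have hdet : (g : Matrix (Fin 3) (Fin 3) (ZMod 3)).det = 1 := by
        have := congrArg Units.val hg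
        simpa [d] using this
      refine ⟨⟨(g : Matrix (Fin 3) (Fin 3) (ZMod 3)), hdet⟩, ?_⟩
      ext
      rfl
  rw [h2, D4.d4_card_gl, ← h3] at h1
  omega

theorem psl3_equiv : Nonempty (Matrix.ProjectiveSpecialLinearGroup (Fin 3) (ZMod 3) ≃*
    Matrix.SpecialLinearGroup (Fin 3) (ZMod 3)) := by
  have hbot : Subgroup.center (Matrix.SpecialLinearGroup (Fin 3) (ZMod 3)) = ⊥ :=
    Subgroup.card_eq_one.mp D4.d4_card_center
  exact ⟨(QuotientGroup.quotientMulEquivOfEq hbot).trans QuotientGroup.quotientBot⟩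

end Cfsg.Agent.Helper26.L33
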