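import Mathlib
import Cfsg.Agent.Lib.Lead.NC2Defs

/-!
# S3894 (n = 2), piece N2-F3, core: for good `x`, if `pr g` and `pr x` commute then `g` and `x` commute.
The statement of `pr_eq_pr_iff` (piece N2-K1) is a hypothesis here.
-/

set_option autoImplicit false

namespace Cfsg.Agent.Lead.NC2

open Matrix

variable {F : Type*} [Field F]

/-- Cayley–Hamilton for `2 × 2` matrices. -/
theorem nc2_f3_cayley (X : Matrix (Fin 2) (Fin 2) F) :
    X * X = X.trace • X - X.det • (1 : Matrix (Fin 2) (Fin 2) F) := by
  ext i j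
  fin_cases i <;> fin_cases j <;>
    simp [Matrix.mul_apply, Fin.sum_univ_two, Matrix.trace_fin_two, Matrix.det_fin_two] <;> ring

theorem nc2_f3_core
    (hpr : ∀ g h : GL (Fin 2) F, pr g = pr h ↔ ∃ c : F, c ≠ 0 ∧
      (g : Matrix (Fin 2) (Fin 2) F) = c • (h : Matrix (Fin 2) (Fin 2) F))
    {x g : GL (Fin 2) F} (hx : Good x)
    (h : pr g * pr x = pr x * pr g) : g * x = x * g := by
  rw [← map_mul, ← map_mul] at h
  obtain ⟨l, hl0, hl⟩ := (hpr _ _).1 h
  set G : Matrix (Fin 2) (Fin 2) F := (g : Matrix (Fin 2) (Fin 2) F) with hG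
  set X : Matrix (Fin 2) (Fin 2) F := (x : Matrix (Fin 2) (Fin 2) F) with hX
  have hl' : G * X = l • (X * G) := by
    have := hl
    simpa [Units.val_mul] using this
  have hGdet : G.det ≠ 0 := by
    have := (g : GL (Fin 2) F).isUnit
    exact (Matrix.isUnit_iff_isUnit_det _).1 ((Units.isUnit g)) |>.ne_zero
  have hXdet : X.det ≠ 0 :=
    ((Matrix.isUnit_iff_isUnit_det _).1 (Units.isUnit x)).ne_zero
  -- determinant: `l ^ 2 = 1`
  have hl2 : l * l = 1 := by
    have := congrArg Matrix.det hl'
    rw [Matrix.det_mul, Matrix.det_smul, Matrix.det_mul, Fintype.card_fin] at this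
    have h1 : G.det * X.det * 1 = G.det * X.det * (l ^ 2) := by
      rw [mul_one]; linear_combination this
    have h2 := mul_left_cancel₀ (mul_ne_zero hGdet hXdet) h1
    rw [pow_two] at h2
    exact h2.symm
  by_cases hl1 : l = 1
  · apply Units.ext
    rw [Units.val_mul, Units.val_mul]
    rw [hl1, one_smul] at hl'
    exact hl'
  · exfalso
    have hlm : l = -1 := by
      rcases mul_self_eq_one_iff.1 hl2 with h | h
      · exact absurd h hl1
      · exact h
    have h2 : (2 : F) ≠ 0 := by
      intro h2
      apply hl1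
      rw [hlm]
      have : (1 : F) + 1 = 0 := by rw [one_add_one_eq_two]; exact h2
      exact neg_eq_of_add_eq_zero_left this
    -- trace of `X` vanishes
    have htr : X.trace = 0 := by
      have hGinv : G * ((g⁻¹ : GL (Fin 2) F) : Matrix (Fin 2) (Fin 2) F) = 1 := by
        rw [hG, ← Units.val_mul, mul_inv_cancel, Units.val_one]
      have h1 : (G * X * ((g⁻¹ : GL (Fin 2) F) : Matrix (Fin 2) (Fin 2) F)).trace = X.trace := by
        rw [Matrix.trace_mul_comm, ← Matrix.mul_assoc]
        have hGinv' : ((g⁻¹ : GL (Fin 2) F) : Matrix (Fin 2) (Fin 2) F) * G = 1 := by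
          rw [hG, ← Units.val_mul, inv_mul_cancel, Units.val_one]
        rw [hGinv', Matrix.one_mul]
      have h3 : (G * X * ((g⁻¹ : GL (Fin 2) F) : Matrix (Fin 2) (Fin 2) F)).trace = l * X.trace := by
        rw [hl', Matrix.smul_mul, Matrix.mul_assoc, hGinv, Matrix.mul_one, Matrix.trace_smul,
          smul_eq_mul]
      rw [h3, hlm] at h1
      have : (2 : F) * X.trace = 0 := by linear_combination -h1
      rcases mul_eq_zero.1 this with h | h
      · exact absurd h h2
      · exact h
    have hXX : X * X = (-X.det) • (1 : Matrix (Fin 2) (Fin 2) F) := by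
      rw [nc2_f3_cayley, htr, zero_smul, zero_sub, neg_smul]
    rcases hx with hx | ⟨c, N, hN0, hNN, hxN⟩
    · exact hx ⟨_, hXX⟩
    · -- unipotent type: `X = c (1 + N)`
      have hXN : X = c • (1 + N) := hxN
      have hc : c ≠ 0 := by
        intro hc
        rw [hc, zero_smul] at hXN
        rw [hXN] at hXdet
        apply hXdet
        simp
      have hsq : X * X = (c * c) • (1 + (2 : F) • N) := by
        rw [hXN, Matrix.smul_mul, Matrix.mul_smul, smul_smul]
        congr 1
        simp only [Matrix.add_mul, Matrix.mul_add, Matrix.one_mul, Matrix.mul_one, hNN, add_zero]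
        rw [two_smul]
        abel
      rw [hsq] at hXX
      -- `N` is scalar
      have hNs : N = ((-X.det - c * c) / (2 * (c * c))) • (1 : Matrix (Fin 2) (Fin 2) F) := by
        have hcc : (2 : F) * (c * c) ≠ 0 := mul_ne_zero h2 (mul_ne_zero hc hc)
        have h5 : (2 * (c * c)) • N = (-X.det - c * c) • (1 : Matrix (Fin 2) (Fin 2) F) := by
          have h6 : (c * c) • (1 : Matrix (Fin 2) (Fin 2) F) + (2 * (c * c)) • N =
              (-X.det) • (1 : Matrix (Fin 2) (Fin 2) F) := by
            rw [← hXX, smul_add, smul_smul, mul_comm (c * c) 2]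
          rw [sub_smul, ← h6]
          abel
        rw [div_eq_inv_mul, ← smul_smul, ← h5, smul_smul, inv_mul_cancel₀ hcc, one_smul]
      set t := (-X.det - c * c) / (2 * (c * c)) with ht
      have ht0 : t = 0 := by
        have h7 : N * N = (t * t) • (1 : Matrix (Fin 2) (Fin 2) F) := by
          rw [hNs, Matrix.smul_mul, Matrix.mul_smul, Matrix.mul_one, smul_smul]
        rw [hNN] at h7
        have h8 := congrFun (congrFun h7 0) 0
        simp at h8
        exact h8
      apply hN0
      rw [hNs, ht0, zero_smul]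

end Cfsg.Agent.Lead.NC2
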