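import Mathlib
import Cfsg.Agent.Lib.Lead.NC2Defs
import Cfsg.Agent.Lib.Helper1.NC2CEN
import Cfsg.Agent.Lib.Helper28.NC2F3Core

/-!
# S3894 (n = 2), piece N2-F3: for good `x`, if `pr g` and `pr x` commute then `g` and `x` commute.
-/

set_option autoImplicit false

namespace Cfsg.Agent.Lead.NC2

open Matrix

variable {F : Type*} [Field F]

/-! ### N2-F3 -/

theorem commute_of_pr_commute {x g : GL (Fin 2) F} (hx : Good x)
    (h : pr g * pr x = pr x * pr g) : g * x = x * g :=
  nc2_f3_core pr_eq_pr_iff hx h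

end Cfsg.Agent.Lead.NC2
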