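import Mathlib
import Cfsg.Agent.Lib.Helper20.CSDefs
import Cfsg.Agent.Lib.Helper2.CSDIH

set_option autoImplicit false

/-!
# S4016, piece V4SQ
-/

universe u

namespace Cfsg.Agent.Helper20.CS

open Subgroup

variable {G : Type u} [Group G] [Finite G]

/-- every `2`-element squares to one when a Sylow `2`-subgroup is a Klein four group -/
theorem v4sq_sq_eq_one (S : Sylow 2 G) (hS : IsKleinFour ↥(S : Subgroup G)) (t : G) (k : ℕ)
    (ht : orderOf t = 2 ^ k) : t ^ 2 = 1 := by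
  have hpg : IsPGroup 2 (zpowers t) := by
    apply IsPGroup.of_card (n := k)
    rw [Nat.card_zpowers, ht]
  obtain ⟨Q, hQ⟩ := hpg.exists_le_sylow
  have htQ : t ∈ (Q : Subgroup G) := hQ (mem_zpowers t)
  let e : ↥(Q : Subgroup G) ≃* ↥(S : Subgroup G) := Sylow.equiv Q S
  have h1 : (e ⟨t, htQ⟩) ^ 2 = 1 := by
    have := Monoid.pow_exponent_eq_one (e ⟨t, htQ⟩)
    rwa [hS.exponent_two] at this
  have h2 : e (⟨t, htQ⟩ ^ 2) = e 1 := by
    rw [map_pow, h1, map_one]
  have h3 : (⟨t, htQ⟩ : ↥(Q : Subgroup G)) ^ 2 = 1 := e.injective h2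
  have := congrArg Subtype.val h3
  simpa using this

theorem v4sq_pow3 (o : ℕ) (ho : 0 < o) (h4 : ¬ 4 ∣ o)
    (hr : ∀ r : ℕ, r.Prime → r ∣ o → r = 2 ∨ r = 3) (m : ℕ) (hm : m ∣ o)
    (hm2 : 2 ∣ o → m = o / 2) : ∃ k : ℕ, m = 3 ^ k := by
  have hm0 : m ≠ 0 := by
    rintro rfl
    rw [zero_dvd_iff] at hm
    omega
  refine ⟨_, Nat.eq_prime_pow_of_unique_prime_dvd hm0 ?_⟩
  intro d hd hdm
  rcases hr d hd (hdm.trans hm) with h2 | h3
  · exfalso
    subst h2
    have h2o : 2 ∣ o := hdm.trans hm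
    have h5 := hm2 h2o
    apply h4
    obtain ⟨j, hj⟩ := hdm
    obtain ⟨i, hi⟩ := h2o
    have : m = i := by rw [h5, hi]; simp
    exact ⟨j, by omega⟩
  · exact h3

theorem v4_sq (c : V4Cfg G) (s : G) (hs : orderOf s = 2) :
    ∃ g : G, g * (c.y * s) ^ 2 * g⁻¹ ∈ (c.P : Subgroup G) := by
  set z := c.y * s with hz
  have hy2 : c.y * c.y = 1 := by
    rw [← pow_two, ← c.y_ord, pow_orderOf_eq_one]
  have hs2 : s * s = 1 := by
    rw [← pow_two, ← hs, pow_orderOf_eq_one]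
  have hyinv : c.y⁻¹ = c.y := inv_eq_of_mul_eq_one_right hy2
  have hsinv : s⁻¹ = s := inv_eq_of_mul_eq_one_right hs2
  have hinv : c.y * z * c.y⁻¹ = z⁻¹ := by
    rw [hz, mul_inv_rev, hyinv, hsinv, ← mul_assoc, hy2, one_mul]
  have hinvpow : ∀ n : ℕ, c.y * z ^ n * c.y⁻¹ = (z ^ n)⁻¹ := by
    intro n
    rw [← conj_pow, hinv, inv_pow]
  set o := orderOf z with ho
  have ho0 : 0 < o := orderOf_pos z
  -- Step A
  have h4 : ¬ 4 ∣ o := by
    intro h4
    have h1 : orderOf (z ^ (o / 4)) = 4 := by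
      have hne : o / 4 ≠ 0 := by
        obtain ⟨j, hj⟩ := h4
        omega
      rw [orderOf_pow_of_dvd hne (Nat.div_dvd_of_dvd h4), ← ho]
      obtain ⟨j, hj⟩ := h4
      have hj0 : 0 < j := by omega
      rw [hj, Nat.mul_div_cancel_left j (by norm_num), Nat.mul_div_cancel _ hj0]
    have h2 := v4sq_sq_eq_one c.S c.klein (z ^ (o / 4)) 2 (by rw [h1]; norm_num)
    have h3 := orderOf_dvd_of_pow_eq_one h2
    rw [h1] at h3
    omega
  -- Step B
  have hB : ∀ r : ℕ, r.Prime → r ∣ o → r = 2 ∨ r = 3 := by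
    intro r hr hro
    by_contra hne
    push Not at hne
    obtain ⟨hr2, hr3⟩ := hne
    set z' := z ^ (o / r) with hz'
    have h1 : orderOf z' = r := by
      have hne : o / r ≠ 0 := by
        obtain ⟨j, hj⟩ := hro
        have := hr.pos
        rw [hj, Nat.mul_div_cancel_left j this]
        rintro rfl
        omega
      rw [hz', orderOf_pow_of_dvd hne (Nat.div_dvd_of_dvd hro), ← ho]
      obtain ⟨j, hj⟩ := hro
      have hj0 : 0 < j := by
        rcases Nat.eq_zero_or_pos j with h | h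
        · subst h; omega
        · exact h
      rw [hj, Nat.mul_div_cancel_left j hr.pos, Nat.mul_div_cancel _ hj0]
    have h2 : z' ^ r = 1 := by rw [← h1, pow_orderOf_eq_one]
    have h3 := card_closure_pair_dvd z' c.y r hr.pos h2 hy2 (hinvpow _)
    have h5 : ¬ 3 ∣ Nat.card ↥(closure ({z', c.y} : Set G)) := by
      intro h
      have h6 : 3 ∣ 2 * r := h.trans h3
      rcases (Nat.Prime.dvd_mul Nat.prime_three).mp h6 with h7 | h7
      · omega
      · exact hr3 ((Nat.prime_dvd_prime_iff_eq Nat.prime_three hr).mp h7).symm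
    have h6 := c.hyp.2 _ h5 c.y (subset_closure (by simp)) z' (subset_closure (by simp))
    have h7 : z'⁻¹ = z' := by
      rw [← hinvpow, h6, mul_inv_cancel_right]
    have h8 : z' ^ 2 = 1 := by
      rw [pow_two]
      nth_rewrite 1 [← h7]
      exact inv_mul_cancel z'
    have h9 := orderOf_dvd_of_pow_eq_one h8
    rw [h1] at h9
    exact hr2 ((Nat.prime_dvd_prime_iff_eq hr Nat.prime_two).mp h9)
  -- Step C
  obtain ⟨k, hk⟩ := v4sq_pow3 o ho0 h4 hB (orderOf (z ^ 2)) (orderOf_pow_dvd 2) (by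
    intro h2
    exact orderOf_pow_of_dvd (by norm_num) h2)
  -- Step D
  have hpg : IsPGroup 3 (zpowers (z ^ 2)) := by
    apply IsPGroup.of_card (n := k)
    rw [Nat.card_zpowers, hk]
  obtain ⟨Q, hQ⟩ := hpg.exists_le_sylow
  obtain ⟨g, hg⟩ := MulAction.exists_smul_eq G Q c.P
  refine ⟨g, ?_⟩
  rw [← hg, Sylow.coe_subgroup_smul]
  have h1 : z ^ 2 ∈ (Q : Subgroup G) := hQ (mem_zpowers _)
  have h2 := Subgroup.smul_mem_pointwise_smul (z ^ 2) (MulAut.conj g) (Q : Subgroup G) h1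
  simpa [MulAut.smul_def] using h2
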