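import Mathlib
import Cfsg.Agent.Lib.Helper20.CSDefs
import Cfsg.Agent.Lib.Helper20.CyclicSylowAut

set_option autoImplicit false

/-!
# S4016, piece V4TI
-/

universe u

namespace Cfsg.Agent.Helper20.CS

open Subgroup

variable {G : Type u} [Group G] [Finite G]

omit [Finite G] in
theorem v4ti_conj_mem {H : Subgroup G} {x g : G}
    (h1 : normalizer ((zpowers x : Subgroup G) : Set G) = H)
    (h2 : normalizer ((zpowers (g * x * g⁻¹) : Subgroup G) : Set G) = H) :
    ∀ m ∈ H, g * m * g⁻¹ ∈ H := by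
  intro m hm
  have h3 : (zpowers x).map (MulAut.conj g).toMonoidHom = zpowers (g * x * g⁻¹) := by
    rw [MonoidHom.map_zpowers]
    rfl
  have h4 := Subgroup.map_equiv_normalizer_eq (zpowers x) (MulAut.conj g)
  rw [h3, h1, h2] at h4
  have h5 : (MulAut.conj g).toMonoidHom m ∈ H.map (MulAut.conj g).toMonoidHom :=
    Subgroup.mem_map_of_mem _ hm
  rw [h4] at h5
  exact h5

theorem v4_ti (c : V4Cfg G) (g : G)
    (h : ∃ x ∈ (c.P : Subgroup G), x ≠ 1 ∧ g * x * g⁻¹ ∈ (c.P : Subgroup G)) :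
    g ∈ centralizer ({c.y} : Set G) := by
  obtain ⟨x, hxP, hx1, hgx⟩ := h
  have h1 : normalizer ((zpowers x : Subgroup G) : Set G) =
      normalizer ((c.P : Subgroup G) : Set G) :=
    c.norm_eq _ (zpowers_le.mpr hxP) (by
      intro hb
      exact hx1 (zpowers_eq_bot.mp hb))
  have h2 : normalizer ((zpowers (g * x * g⁻¹) : Subgroup G) : Set G) =
      normalizer ((c.P : Subgroup G) : Set G) :=
    c.norm_eq _ (zpowers_le.mpr hgx) (by
      intro hb
      have h3 : g * x * g⁻¹ = 1 := zpowers_eq_bot.mp hb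
      apply hx1
      have : x = g⁻¹ * (g * x * g⁻¹) * g := by group
      rw [this, h3]
      group)
  have hconj := v4ti_conj_mem h1 h2
  -- g P g⁻¹ ≤ P
  have hle : ∀ u ∈ (c.P : Subgroup G), g * u * g⁻¹ ∈ (c.P : Subgroup G) := by
    intro u hu
    have hM : g * u * g⁻¹ ∈ normalizer ((c.P : Subgroup G) : Set G) :=
      hconj u (Subgroup.le_normalizer hu)
    obtain ⟨k, hk⟩ := Cfsg.Agent.Helper20.exists_orderOf_eq_of_mem_isPGroup c.P.isPGroup' hu
    refine Cfsg.Agent.Helper20.mem_sylow_of_mem_normalizer_of_orderOf_csa c.P hM ⟨k, ?_⟩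
    rw [← hk]
    exact (MulAut.conj g).orderOf_eq u
  rw [c.cent_y]
  -- g ∈ N(P)
  have hmap : (c.P : Subgroup G).map (MulAut.conj g).toMonoidHom ≤ (c.P : Subgroup G) := by
    rintro _ ⟨u, hu, rfl⟩
    exact hle u hu
  have hcard : Nat.card ↥((c.P : Subgroup G).map (MulAut.conj g).toMonoidHom) =
      Nat.card ↥(c.P : Subgroup G) :=
    Subgroup.card_map_of_injective (MulAut.conj g).injective
  have heq : (c.P : Subgroup G).map (MulAut.conj g).toMonoidHom = (c.P : Subgroup G) :=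
    Subgroup.eq_of_le_of_card_ge hmap hcard.ge
  exact Subgroup.mem_normalizer_iff_map_conj_eq.mpr heq
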