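import Mathlib
import Cfsg.Agent.Lib.Helper20.CSDefs
import Cfsg.Agent.Lib.Helper20.CSFACTS1
import Cfsg.Agent.Lib.Helper20.CyclicSylowAut

set_option autoImplicit false

/-!
# S4016, piece CA
-/

universe u

namespace Cfsg.Agent.Helper20.CS

open Subgroup

variable {p : ℕ} [Fact p.Prime] {G : Type u} [Group G] [Finite G]

/-- a `p`-element is conjugate into a given Sylow `p`-subgroup -/
theorem ca_conj_mem (P : Sylow p G) (t : G) (k : ℕ) (ht : orderOf t = p ^ k) :
    ∃ g : G, g * t * g⁻¹ ∈ (P : Subgroup G) := by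
  have hpg : IsPGroup p (zpowers t) := by
    apply IsPGroup.of_card (n := k)
    rw [Nat.card_zpowers, ht]
  obtain ⟨Q, hQ⟩ := hpg.exists_le_sylow
  obtain ⟨g, hg⟩ := MulAction.exists_smul_eq G Q P
  refine ⟨g, ?_⟩
  rw [← hg, Sylow.coe_subgroup_smul]
  have h1 : t ∈ (Q : Subgroup G) := hQ (mem_zpowers _)
  have h2 := Subgroup.smul_mem_pointwise_smul t (MulAut.conj g) (Q : Subgroup G) h1
  simpa [MulAut.smul_def] using h2

omit [Fact p.Prime] [Finite G] in
theorem ca_centralizer_le (c : Cfg p G) {u : G} (hu : u ∈ (c.P : Subgroup G)) (hu1 : u ≠ 1) :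
    centralizer ({u} : Set G) ≤ c.M := by
  have h1 : normalizer ((zpowers u : Subgroup G) : Set G) =
      normalizer ((c.P : Subgroup G) : Set G) :=
    c.norm_eq _ (zpowers_le.mpr hu) (by
      intro hb
      exact hu1 (zpowers_eq_bot.mp hb))
  unfold Cfg.M
  rw [← h1]
  intro a ha
  rw [mem_centralizer_singleton_iff] at ha
  rw [Subgroup.mem_normalizer_iff]
  have hc : ∀ i : ℤ, a * u ^ i = u ^ i * a := fun i => (show Commute a u from ha).zpow_right i
  intro h
  constructor
  · intro hh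
    obtain ⟨i, rfl⟩ := mem_zpowers_iff.mp hh
    rw [hc i, mul_inv_cancel_right]
    exact zpow_mem_zpowers u i
  · intro hh
    obtain ⟨i, hi⟩ := mem_zpowers_iff.mp hh
    have h2 : h = u ^ i := by
      have h3 : a * h = a * u ^ i := by
        rw [hc i, hi, inv_mul_cancel_right]
      exact mul_left_cancel h3
    rw [h2]
    exact zpow_mem_zpowers u i

omit [Fact p.Prime] [Finite G] in
theorem ca_mem_L0 (c : Cfg p G) {x : G} (hx : x ∈ c.L)
    (h : ∀ v ∈ (c.P : Subgroup G), x * v = v * x) : x ∈ c.L0 := by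
  unfold Cfg.L0
  refine mem_inf.mpr ⟨hx, ?_⟩
  rw [mem_centralizer_iff]
  intro v hv
  exact (h v hv).symm

theorem ca_fpf (c : Cfg p G) {x : G} (hx : x ∈ c.M) {u : G} (hu : u ∈ (c.P : Subgroup G))
    (hu1 : u ≠ 1) (hxu : x * u = u * x) : ∀ v ∈ (c.P : Subgroup G), x * v = v * x :=
  Cfsg.Agent.Helper20.commute_of_normalizes_cyclic_sylow c.P (c.hyp.1 c.P) hx hu hu1 hxu

omit [Fact p.Prime] [Finite G] in
/-- an element of `M` centralizing `P` lies in `P` when `L0 = ⊥` -/
theorem ca_mem_P (c : Cfg p G) (h0 : c.L0 = ⊥) {a : G} (ha : a ∈ c.M)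
    (hc : ∀ v ∈ (c.P : Subgroup G), a * v = v * a) : a ∈ (c.P : Subgroup G) := by
  obtain ⟨u, hu, l, hl, rfl⟩ := (c.mem_M_iff a).mp ha
  have hl0 : l ∈ c.L0 := by
    refine ca_mem_L0 c hl ?_
    intro v hv
    have h1 := hc v hv
    have h2 := c.P_comm u hu v hv
    -- u l v = v u l = u v l
    have h3 : u * (l * v) = u * (v * l) := by
      rw [← mul_assoc, h1, ← mul_assoc, ← mul_assoc, h2]
    exact mul_left_cancel h3
  rw [h0, mem_bot] at hl0
  rw [hl0, mul_one]
  exact hu

/-- the centralizer of a nonidentity element of `P` lies in `P` when `L0 = ⊥` -/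
theorem ca_cent_le_P (c : Cfg p G) (h0 : c.L0 = ⊥) {t : G} (ht : t ∈ (c.P : Subgroup G))
    (ht1 : t ≠ 1) : centralizer ({t} : Set G) ≤ (c.P : Subgroup G) := by
  intro a ha
  have haM : a ∈ c.M := ca_centralizer_le c ht ht1 ha
  rw [mem_centralizer_singleton_iff] at ha
  exact ca_mem_P c h0 haM (ca_fpf c haM ht ht1 ha)

omit [Fact p.Prime] [Finite G] in
/-- conjugating a centralizer -/
theorem ca_conj_cent {t g a : G} (ha : a ∈ centralizer ({t} : Set G)) :
    g * a * g⁻¹ ∈ centralizer ({g * t * g⁻¹} : Set G) := by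
  rw [mem_centralizer_singleton_iff] at ha ⊢
  calc g * a * g⁻¹ * (g * t * g⁻¹) = g * (a * t) * g⁻¹ := by group
    _ = g * (t * a) * g⁻¹ := by rw [ha]
    _ = g * t * g⁻¹ * (g * a * g⁻¹) := by group

theorem caseA_CA (c : Cfg p G) (h0 : c.L0 = ⊥) : ∀ x : G, x ≠ 1 →
    ∀ a ∈ centralizer ({x} : Set G), ∀ b ∈ centralizer ({x} : Set G), a * b = b * a := by
  have hp : p.Prime := Fact.out
  intro x hx1
  -- a power of prime order
  set o := orderOf x with ho
  have ho0 : 0 < o := orderOf_pos x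
  have ho1 : o ≠ 1 := by
    intro h
    exact hx1 (orderOf_eq_one_iff.mp h)
  set r := o.minFac with hr
  have hrp : r.Prime := Nat.minFac_prime ho1
  have hro : r ∣ o := Nat.minFac_dvd o
  set t := x ^ (o / r) with ht
  have hto : orderOf t = r := by
    obtain ⟨j, hj⟩ := hro
    have hj0 : 0 < j := by
      rcases Nat.eq_zero_or_pos j with h | h
      · subst h; omega
      · exact h
    have hne : o / r ≠ 0 := by
      rw [hj, Nat.mul_div_cancel_left j hrp.pos]
      omega
    rw [ht, orderOf_pow_of_dvd hne (Nat.div_dvd_of_dvd ⟨j, hj⟩), ← ho]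
    rw [hj, Nat.mul_div_cancel_left j hrp.pos, Nat.mul_div_cancel _ hj0]
  have ht1 : t ≠ 1 := by
    intro h
    rw [h, orderOf_one] at hto
    exact hrp.one_lt.ne hto
  have hle : centralizer ({x} : Set G) ≤ centralizer ({t} : Set G) := by
    intro a ha
    rw [mem_centralizer_singleton_iff] at ha ⊢
    have : Commute a x := ha
    exact this.pow_right _
  suffices hsuff : ∀ a ∈ centralizer ({t} : Set G), ∀ b ∈ centralizer ({t} : Set G),
      a * b = b * a by
    intro a ha b hb
    exact hsuff a (hle ha) b (hle hb)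
  by_cases hrp' : r = p
  · -- `t` has order `p`
    obtain ⟨g, hg⟩ := ca_conj_mem c.P t 1 (by rw [hto, hrp', pow_one])
    have hg1 : g * t * g⁻¹ ≠ 1 := by
      intro h
      apply ht1
      have : t = g⁻¹ * (g * t * g⁻¹) * g := by group
      rw [this, h]
      group
    have hP := ca_cent_le_P c h0 hg hg1
    intro a ha b hb
    have h1 := c.P_comm _ (hP (ca_conj_cent (g := g) ha)) _ (hP (ca_conj_cent (g := g) hb))
    have h2 : g * (a * b) * g⁻¹ = g * (b * a) * g⁻¹ := by
      calc g * (a * b) * g⁻¹ = g * a * g⁻¹ * (g * b * g⁻¹) := by group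
        _ = g * b * g⁻¹ * (g * a * g⁻¹) := h1
        _ = g * (b * a) * g⁻¹ := by group
    exact mul_left_cancel (mul_right_cancel h2)
  · -- `t` has prime order `r ≠ p`
    apply c.hyp.2
    intro hdvd
    obtain ⟨⟨u, huC⟩, hu⟩ := exists_prime_orderOf_dvd_card' p hdvd
    rw [← Subgroup.orderOf_coe] at hu
    simp only at hu
    obtain ⟨g, hg⟩ := ca_conj_mem c.P u 1 (by rw [hu, pow_one])
    have hu1 : u ≠ 1 := by
      intro h
      rw [h, orderOf_one] at hu
      exact hp.one_lt.ne hu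
    have hg1 : g * u * g⁻¹ ≠ 1 := by
      intro h
      apply hu1
      have : u = g⁻¹ * (g * u * g⁻¹) * g := by group
      rw [this, h]
      group
    -- `t' = g t g⁻¹` centralizes `g u g⁻¹`
    have htu : t * u = u * t := by
      rw [mem_centralizer_singleton_iff] at huC
      exact huC.symm
    have h1 : g * t * g⁻¹ ∈ centralizer ({g * u * g⁻¹} : Set G) :=
      ca_conj_cent (mem_centralizer_singleton_iff.mpr htu)
    have h2 := ca_cent_le_P c h0 hg hg1 h1
    obtain ⟨k, hk⟩ := Cfsg.Agent.Helper20.exists_orderOf_eq_of_mem_isPGroup c.P.isPGroup' h2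
    have h3 : orderOf (g * t * g⁻¹) = r := by
      rw [← hto]
      exact (MulAut.conj g).orderOf_eq t
    rw [h3] at hk
    have h4 : p ∣ r := by
      rcases Nat.eq_zero_or_pos k with hk0 | hk0
      · subst hk0
        rw [pow_zero] at hk
        exact absurd hk hrp.one_lt.ne'
      · rw [hk]
        exact dvd_pow_self p hk0.ne'
    exact hrp' ((Nat.prime_dvd_prime_iff_eq hp hrp).mp h4).symm
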