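import Mathlib
import Cfsg.Prelude.Def_Transfer
import Cfsg.Agent.Lib.Helper20.SchDefs
import Cfsg.Agent.Lib.Helper20.SchG0LIFT
import Cfsg.Agent.Lib.Lead.SchG0CARD

/-!
# S4395 piece SCH-G0MIN (core): the hypotheses of SCH-CRIT hold in `G0`

`sch_g0min_facts` produces `P = range inl`, `y = inr (ofAdd 1)` with all hypotheses of
`minNonPNilp_of_struct` (SCH-CRIT); `sch_g0min_core` takes SCH-CRIT (for `G0`) as a hypothesis.
-/

set_option autoImplicit false

namespace Cfsg.Agent.Helper20.Sch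

universe u

variable {p q : ℕ} [Fact p.Prime] [Fact q.Prime]

section G0

variable {V C : Type*} [AddCommGroup V] [AddCommGroup C]
  (β : V →+ V →+ C) (m : V ≃+ V) (hm : ∀ x y, β (m x) (m y) = β x y)

/-- the commutator in `Heis β` -/
theorem sch_g0min_comm (a b : Heis β) :
    a * b * a⁻¹ * b⁻¹ = ⟨0, β a.fst b.fst - β b.fst a.fst⟩ := by
  ext
  · simp
  · simp only [Heis.mul_snd, Heis.mul_fst, Heis.inv_snd, Heis.inv_fst, map_add, map_neg,
      AddMonoidHom.add_apply, AddMonoidHom.neg_apply]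
    abel

/-- a subgroup of `Heis β` projecting onto `V` is everything, if the commutators fill `C` -/
theorem sch_g0min_top (hgen : ∀ c : C, ∃ x x', c = β x x' - β x' x) (H : Subgroup (Heis β))
    (hH : ∀ v : V, ∃ a ∈ H, a.fst = v) : H = ⊤ := by
  have hc : ∀ c : C, (⟨0, c⟩ : Heis β) ∈ H := by
    intro c
    obtain ⟨x, x', rfl⟩ := hgen c
    obtain ⟨a, ha, rfl⟩ := hH x
    obtain ⟨b, hb, rfl⟩ := hH x'
    rw [← sch_g0min_comm]
    exact H.mul_mem (H.mul_mem (H.mul_mem ha hb) (H.inv_mem ha)) (H.inv_mem hb)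
  rw [eq_top_iff]
  intro g _
  obtain ⟨a, ha, hav⟩ := hH g.fst
  have : g = a * ⟨0, g.snd - a.snd⟩ := by
    ext
    · simp [hav]
    · simp
  rw [this]
  exact H.mul_mem ha (hc _)

/-- an invariant proper subgroup of `Heis β` lies over `0` -/
theorem sch_g0min_fst_zero
    (hirr : ∀ S : AddSubgroup V, (∀ x ∈ S, m x ∈ S) → S = ⊥ ∨ S = ⊤)
    (hgen : ∀ c : C, ∃ x x', c = β x x' - β x' x) (H : Subgroup (Heis β)) (hH : H ≠ ⊤)
    (hinv : ∀ a ∈ H, Heis.aut β m hm a ∈ H) : ∀ a ∈ H, a.fst = 0 := by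
  let S : AddSubgroup V :=
    { carrier := {v | ∃ a ∈ H, a.fst = v}
      zero_mem' := ⟨1, H.one_mem, rfl⟩
      add_mem' := by
        rintro _ _ ⟨a, ha, rfl⟩ ⟨b, hb, rfl⟩
        exact ⟨a * b, H.mul_mem ha hb, rfl⟩
      neg_mem' := by
        rintro _ ⟨a, ha, rfl⟩
        exact ⟨a⁻¹, H.inv_mem ha, rfl⟩ }
  have hS : ∀ x ∈ S, m x ∈ S := by
    rintro _ ⟨a, ha, rfl⟩
    exact ⟨Heis.aut β m hm a, hinv a ha, rfl⟩
  rcases hirr S hS with h | h
  · intro a ha
    have : a.fst ∈ S := ⟨a, ha, rfl⟩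
    rw [h, AddSubgroup.mem_bot] at this
    exact this
  · exfalso
    apply hH
    apply sch_g0min_top β hgen H
    intro v
    have : v ∈ S := by rw [h]; trivial
    exact this

variable (n : ℕ) (hn : Heis.aut β m hm ^ n = 1)

/-- the generator of the complement -/
def sch_g0min_y : G0 β m hm n hn := SemidirectProduct.inr (Multiplicative.ofAdd (1 : ZMod n))

theorem sch_g0min_act_one (h : Heis β) :
    actHom β m hm n hn (Multiplicative.ofAdd (1 : ZMod n)) h = Heis.aut β m hm h := by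
  unfold actHom
  rw [cycHom_one]

theorem sch_g0min_conj (h : Heis β) :
    sch_g0min_y β m hm n hn * SemidirectProduct.inl h * (sch_g0min_y β m hm n hn)⁻¹ =
      SemidirectProduct.inl (Heis.aut β m hm h) := by
  unfold sch_g0min_y
  rw [← map_inv, ← SemidirectProduct.inl_aut, sch_g0min_act_one]

theorem sch_g0min_y_pow (k : ℕ) :
    sch_g0min_y β m hm n hn ^ k = SemidirectProduct.inr (Multiplicative.ofAdd ((k : ℕ) : ZMod n)) := by
  unfold sch_g0min_y
  rw [← map_pow, ← ofAdd_nsmul]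
  simp

theorem sch_g0min_orderOf [NeZero n] : orderOf (sch_g0min_y β m hm n hn) = n := by
  unfold sch_g0min_y
  rw [orderOf_injective _ SemidirectProduct.inr_injective, orderOf_ofAdd_eq_addOrderOf,
    ZMod.addOrderOf_one]

theorem sch_g0min_inr_mem [NeZero n] (g : Multiplicative (ZMod n)) :
    (SemidirectProduct.inr g : G0 β m hm n hn) ∈ Subgroup.zpowers (sch_g0min_y β m hm n hn) := by
  obtain ⟨k, _, rfl⟩ := sch_g0lift_exists_nat n g
  rw [← sch_g0min_y_pow]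
  exact Subgroup.pow_mem _ (Subgroup.mem_zpowers _) k

theorem sch_g0min_sup [NeZero n] :
    (SemidirectProduct.inl : Heis β →* G0 β m hm n hn).range ⊔
      Subgroup.zpowers (sch_g0min_y β m hm n hn) = ⊤ := by
  rw [eq_top_iff]
  intro x _
  rw [← SemidirectProduct.inl_left_mul_inr_right x]
  exact Subgroup.mul_mem_sup ⟨x.left, rfl⟩ (sch_g0min_inr_mem β m hm n hn x.right)

/-- `y ^ q` is central when `m ^ q = 1` -/
theorem sch_g0min_center [NeZero n] (hmq : ∀ x, m^[q] x = x) :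
    sch_g0min_y β m hm n hn ^ q ∈ Subgroup.center (G0 β m hm n hn) := by
  rw [Subgroup.mem_center_iff]
  intro g
  rw [sch_g0min_y_pow]
  apply SemidirectProduct.ext
  · simp only [SemidirectProduct.mul_left, SemidirectProduct.left_inr, SemidirectProduct.right_inr,
      one_mul]
    rw [sch_g0lift_actHom_natCast, hmq, map_one, mul_one]
  · simp only [SemidirectProduct.mul_right, SemidirectProduct.right_inr]
    exact mul_comm _ _

end G0

section G0fin

variable {V C : Type*} [AddCommGroup V] [AddCommGroup C] [Finite V] [Finite C]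
  (β : V →+ V →+ C) (m : V ≃+ V) (hm : ∀ x y, β (m x) (m y) = β x y)

theorem sch_g0min_isPGroup (hVp : ∃ k, Nat.card V = p ^ k) (hCp : ∃ k, Nat.card C = p ^ k)
    (n : ℕ) (hn : Heis.aut β m hm ^ n = 1) :
    IsPGroup p ↥(SemidirectProduct.inl : Heis β →* G0 β m hm n hn).range := by
  obtain ⟨k, hk⟩ := hVp
  obtain ⟨k', hk'⟩ := hCp
  have hcard : Nat.card (Heis β) = p ^ (k + k') := by
    rw [Nat.card_congr (sch_g0card_equiv β), Nat.card_prod, hk, hk', pow_add]
  have h1 : IsPGroup p (Heis β) := IsPGroup.of_card hcard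
  exact h1.of_surjective (SemidirectProduct.inl : Heis β →* G0 β m hm n hn).rangeRestrict
    (SemidirectProduct.inl : Heis β →* G0 β m hm n hn).rangeRestrict_surjective

/-- all the hypotheses of SCH-CRIT for `G0` -/
theorem sch_g0min_facts {r : ℕ}
    (hVp : ∃ k, Nat.card V = p ^ k) (hCp : ∃ k, Nat.card C = p ^ k)
    (hirr : ∀ S : AddSubgroup V, (∀ x ∈ S, m x ∈ S) → S = ⊥ ∨ S = ⊤)
    (hmq : ∀ x, m^[q] x = x) (hm1 : ∃ x, m x ≠ x)
    (hgen : ∀ c : C, ∃ x x', c = β x x' - β x' x)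
    (hn : Heis.aut β m hm ^ (q ^ r) = 1) :
    ∃ (P : Subgroup (G0 β m hm (q ^ r) hn)) (_ : P.Normal) (y : G0 β m hm (q ^ r) hn),
      IsPGroup p P ∧ orderOf y = q ^ r ∧ y ^ q ∈ Subgroup.center (G0 β m hm (q ^ r) hn) ∧
      P ⊔ Subgroup.zpowers y = ⊤ ∧
      (∀ H : Subgroup (G0 β m hm (q ^ r) hn), H ≤ P → H ≠ P → (∀ x ∈ H, y * x * y⁻¹ ∈ H) →
        ∀ x ∈ H, y * x * y⁻¹ = x) ∧
      (∃ u ∈ P, y * u * y⁻¹ ≠ u) := by
  have hq : q.Prime := Fact.out
  haveI : NeZero (q ^ r) := ⟨pow_ne_zero r hq.ne_zero⟩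
  have hPn : (SemidirectProduct.inl : Heis β →* G0 β m hm (q ^ r) hn).range.Normal := by
    rw [SemidirectProduct.range_inl_eq_ker_rightHom]
    infer_instance
  refine ⟨(SemidirectProduct.inl : Heis β →* G0 β m hm (q ^ r) hn).range, hPn,
    sch_g0min_y β m hm (q ^ r) hn, sch_g0min_isPGroup β m hm hVp hCp (q ^ r) hn,
    sch_g0min_orderOf β m hm (q ^ r) hn, sch_g0min_center β m hm (q ^ r) hn hmq,
    sch_g0min_sup β m hm (q ^ r) hn, ?_, ?_⟩
  · intro H hHP hne hinv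
    -- the corresponding subgroup of `Heis β`
    set H₀ : Subgroup (Heis β) :=
      H.comap (SemidirectProduct.inl : Heis β →* G0 β m hm (q ^ r) hn) with hH₀
    have hH₀ne : H₀ ≠ ⊤ := by
      intro htop
      apply hne
      apply le_antisymm hHP
      rintro _ ⟨a, rfl⟩
      have : a ∈ H₀ := by rw [htop]; trivial
      exact this
    have hH₀inv : ∀ a ∈ H₀, Heis.aut β m hm a ∈ H₀ := by
      intro a ha
      show SemidirectProduct.inl (Heis.aut β m hm a) ∈ H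
      rw [← sch_g0min_conj]
      exact hinv _ ha
    have hz := sch_g0min_fst_zero β m hm hirr hgen H₀ hH₀ne hH₀inv
    intro x hx
    obtain ⟨a, rfl⟩ := hHP hx
    rw [sch_g0min_conj]
    congr 1
    have ha0 : a.fst = 0 := hz a hx
    ext
    · simp [ha0]
    · simp
  · obtain ⟨x, hx⟩ := hm1
    refine ⟨SemidirectProduct.inl ⟨x, 0⟩, ⟨_, rfl⟩, ?_⟩
    rw [sch_g0min_conj]
    intro h
    have h2 := SemidirectProduct.inl_injective h
    apply hx
    have := congrArg Heis.fst h2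
    simpa using this

/-- SCH-G0MIN with SCH-CRIT (for `G0`) as a hypothesis -/
theorem sch_g0min_core {r : ℕ}
    (hVp : ∃ k, Nat.card V = p ^ k) (hCp : ∃ k, Nat.card C = p ^ k)
    (hirr : ∀ S : AddSubgroup V, (∀ x ∈ S, m x ∈ S) → S = ⊥ ∨ S = ⊤)
    (hmq : ∀ x, m^[q] x = x) (hm1 : ∃ x, m x ≠ x)
    (hgen : ∀ c : C, ∃ x x', c = β x x' - β x' x)
    (hn : Heis.aut β m hm ^ (q ^ r) = 1)
    (hcrit : ∀ (P : Subgroup (G0 β m hm (q ^ r) hn)) [P.Normal], IsPGroup p P →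
      ∀ y : G0 β m hm (q ^ r) hn, orderOf y = q ^ r →
      y ^ q ∈ Subgroup.center (G0 β m hm (q ^ r) hn) →
      P ⊔ Subgroup.zpowers y = ⊤ →
      (∀ H : Subgroup (G0 β m hm (q ^ r) hn), H ≤ P → H ≠ P → (∀ x ∈ H, y * x * y⁻¹ ∈ H) →
        ∀ x ∈ H, y * x * y⁻¹ = x) →
      (∃ u ∈ P, y * u * y⁻¹ ≠ u) → MinNonPNilp p (G0 β m hm (q ^ r) hn)) :
    MinNonPNilp p (G0 β m hm (q ^ r) hn) := by
  obtain ⟨P, hPn, y, h1, h2, h3, h4, h5, h6⟩ :=
    sch_g0min_facts (p := p) (q := q) β m hm hVp hCp hirr hmq hm1 hgen hn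
  haveI := hPn
  exact hcrit P h1 y h2 h3 h4 h5 h6

end G0fin

end Cfsg.Agent.Helper20.Sch
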