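import Mathlib
import Cfsg.Prelude.Def_Transfer
import Cfsg.Agent.Lib.Helper20.SchDefs
import Cfsg.Agent.Lib.Helper28.SchG0MINCore
import Cfsg.Agent.Lib.Helper19.SchCRIT

/-!
# S4395 piece SCH-G0MIN: `G0` is minimal non-`p`-nilpotent (via SCH-CRIT)
-/

set_option autoImplicit false

namespace Cfsg.Agent.Helper20.Sch

universe u

variable {p q : ℕ} [Fact p.Prime] [Fact q.Prime]

section G0

variable {V C : Type*} [AddCommGroup V] [AddCommGroup C] [Finite V] [Finite C]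
  (β : V →+ V →+ C) (m : V ≃+ V) (hm : ∀ x y, β (m x) (m y) = β x y)

theorem sch_g0min_finite (n : ℕ) [NeZero n] (hn : Heis.aut β m hm ^ n = 1) :
    Finite (G0 β m hm n hn) := by
  haveI : Finite (Heis β) := Finite.of_equiv _ (sch_g0card_equiv β).symm
  haveI : Finite (Multiplicative (ZMod n)) :=
    Finite.of_equiv (ZMod n) Multiplicative.ofAdd
  exact Finite.of_equiv _ (SemidirectProduct.equivProd).symm

/-- SCH-G0MIN : `G0` is minimal non-`p`-nilpotent (via SCH-CRIT). -/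
theorem G0_minNonPNilp (hpq : p ≠ q) {r : ℕ} (hr : 1 ≤ r)
    (hVp : ∃ k, Nat.card V = p ^ k) (hCp : ∃ k, Nat.card C = p ^ k)
    (hirr : ∀ S : AddSubgroup V, (∀ x ∈ S, m x ∈ S) → S = ⊥ ∨ S = ⊤)
    (hmq : ∀ x, m^[q] x = x) (hm1 : ∃ x, m x ≠ x)
    (hgen : ∀ c : C, ∃ x x', c = β x x' - β x' x)
    (hn : Heis.aut β m hm ^ (q ^ r) = 1) : MinNonPNilp p (G0 β m hm (q ^ r) hn) := by
  have hq : q.Prime := Fact.out
  haveI : NeZero (q ^ r) := ⟨pow_ne_zero r hq.ne_zero⟩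
  haveI : Finite (G0 β m hm (q ^ r) hn) := sch_g0min_finite β m hm (q ^ r) hn
  apply sch_g0min_core (p := p) (q := q) β m hm hVp hCp hirr hmq hm1 hgen hn
  intro P _ hPp y hy hyq hsup hfix hne
  exact minNonPNilp_of_struct hpq P hPp y hy hyq hsup hfix hne

end G0

end Cfsg.Agent.Helper20.Sch
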