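import Mathlib
import Cfsg.Prelude.Def_Transfer
import Cfsg.Agent.Lib.Helper20.SchDefs
import Cfsg.Agent.Lib.Helper10.Frobenius2
import Cfsg.Agent.Lib.Helper22.Burnside

/-!
# S4395 piece SCH-Q: a minimal central cover of a minimal non-`p`-nilpotent group is one

Self-contained: the two ingredients (`sch_q_npc_of_surjective`: images of `p`-nilpotent groups,
`sch_q_npc_of_central`: central extensions of `p`-nilpotent groups) are proved here.
-/

set_option autoImplicit false

namespace Cfsg.Agent.Helper20.Sch

open Cfsg.Agent.Helper10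

variable {p : ℕ} [Fact p.Prime]

/-- images of `p`-nilpotent groups are `p`-nilpotent (in the `NPC` form) -/
theorem sch_q_npc_of_surjective {G H : Type*} [Group G] [Group H] [Finite G] (f : G →* H)
    (hf : Function.Surjective f) (h : NPC p G) : NPC p H := by
  have hp : p.Prime := Fact.out
  obtain ⟨N, hN, hc, k, hk⟩ := h
  refine ⟨N.map f, Subgroup.Normal.map hN f hf, ?_, ?_⟩
  · have hdvd : Nat.card (N.map f) ∣ Nat.card N := Subgroup.card_map_dvd N f
    exact Nat.Coprime.coprime_dvd_left hdvd hc
  · have h1 : (N.map f).index ∣ N.index := Subgroup.index_map_dvd N hf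
    rw [hk] at h1
    obtain ⟨j, -, hj⟩ := (Nat.dvd_prime_pow hp).mp h1
    exact ⟨j, hj⟩

/-- a central extension of a `p`-nilpotent group is `p`-nilpotent -/
theorem sch_q_npc_of_central {K Q : Type*} [Group K] [Group Q] [Finite K] (g : K →* Q)
    (hg : Function.Surjective g) (hker : g.ker ≤ Subgroup.center K) (h : NPC p Q) : NPC p K := by
  have hp : p.Prime := Fact.out
  haveI : Finite Q := Finite.of_surjective g hg
  obtain ⟨N, hN, hc, k, hk⟩ := h
  -- the preimage `M` of the normal `p`-complement
  set M : Subgroup K := N.comap g with hM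
  haveI hMn : M.Normal := Subgroup.Normal.comap hN g
  have hMidx : M.index = p ^ k := by
    rw [hM, Subgroup.index_comap_of_surjective N hg, hk]
  -- a Sylow `p`-subgroup of `M` lies in the kernel of `g`, hence is central
  have hkerP : ∀ (P₀ : Sylow p ↥M) (x : ↥M), x ∈ (P₀ : Subgroup ↥M) → (x : K) ∈ g.ker := by
    intro P₀ x hx
    rw [MonoidHom.mem_ker]
    obtain ⟨j, hj⟩ := P₀.2 ⟨x, hx⟩
    have hj' : (x : K) ^ p ^ j = 1 := by
      have := congrArg (fun z : (P₀ : Subgroup ↥M) => ((z : ↥M) : K)) hj
      simpa using this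
    have h1 : orderOf (g (x : K)) ∣ p ^ j := by
      apply orderOf_dvd_of_pow_eq_one
      rw [← map_pow, hj', map_one]
    have hxN : g (x : K) ∈ N := x.2
    have h2 : orderOf (g (x : K)) ∣ Nat.card N := by
      have := orderOf_dvd_natCard (⟨g (x : K), hxN⟩ : N)
      rwa [Subgroup.orderOf_mk] at this
    have hcop : Nat.Coprime (p ^ j) (Nat.card N) := (Nat.Coprime.pow_right j hc).symm
    exact orderOf_eq_one_iff.1 (Nat.eq_one_of_dvd_coprimes hcop h1 h2)
  have hMnpc : NPC p ↥M := by
    apply npc_of_hasNormalPComplement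
    have P₀ : Sylow p ↥M := default
    apply Cfsg.Agent.Helper22.hasNormalPComplement_of_normalizer_le_centralizer P₀
    intro y _
    rw [Subgroup.mem_centralizer_iff]
    intro x hx
    have hxc : (x : K) ∈ Subgroup.center K := hker (hkerP P₀ x hx)
    rw [Subgroup.mem_center_iff] at hxc
    apply Subtype.ext
    have := hxc (y : K)
    simpa using this.symm
  obtain ⟨H, hHn, hHc, j, hHj⟩ := hMnpc
  haveI := hHn
  -- the image of `H` in `K`
  have hcardH' : Nat.card (H.map M.subtype) = Nat.card H :=
    Subgroup.card_map_of_injective M.subtype_injective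
  refine ⟨H.map M.subtype, ⟨?_⟩, ?_, k + j, ?_⟩
  · -- normality
    intro n hn x
    obtain ⟨h₀, hh₀, rfl⟩ := hn
    -- conjugation by `x` as an automorphism of `M`
    have hxm : ∀ z : ↥M, x * (z : K) * x⁻¹ ∈ M := fun z => hMn.conj_mem _ z.2 x
    let c : ↥M →* ↥M :=
      { toFun := fun z => ⟨x * (z : K) * x⁻¹, hxm z⟩
        map_one' := by apply Subtype.ext; simp
        map_mul' := by
          intro a b
          apply Subtype.ext
          simp only [Subgroup.coe_mul]
          group }
    have hcinj : Function.Injective c := by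
      intro a b hab
      have h1 : x * (a : K) * x⁻¹ = x * (b : K) * x⁻¹ := congrArg Subtype.val hab
      apply Subtype.ext
      have h2 : x * (a : K) = x * (b : K) := mul_right_cancel h1
      exact mul_left_cancel h2
    have hcardL : Nat.card (H.map c) = Nat.card H := Subgroup.card_map_of_injective hcinj
    have hL : H.map c ≤ H := by
      apply le_of_coprime_of_index_pow ⟨j, hHj⟩
      rw [hcardL]; exact hHc
    have hmem : c h₀ ∈ H := hL ⟨h₀, hh₀, rfl⟩
    exact ⟨c h₀, hmem, rfl⟩
  · rw [hcardH']; exact hHc
  · rw [Subgroup.index_map_subtype, hHj, hMidx, pow_add, mul_comm]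

/-- SCH-Q : a minimal central cover of a minimal non-`p`-nilpotent group is one. -/
theorem minNonPNilp_of_cover {Y G : Type*} [Group Y] [Group G] [Finite Y] (f : Y →* G)
    (hf : Function.Surjective f) (hker : f.ker ≤ Subgroup.center Y) (hG : MinNonPNilp p G)
    (hmin : ∀ K : Subgroup Y, K.map f = ⊤ → K = ⊤) : MinNonPNilp p Y := by
  haveI : Finite G := Finite.of_surjective f hf
  refine ⟨?_, ?_⟩
  · intro h
    apply hG.1
    exact (sch_q_npc_of_surjective f hf (npc_of_hasNormalPComplement h)).hasNormalPComplement
  · intro K hK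
    have hKf : K.map f ≠ ⊤ := fun h => hK (hmin K h)
    have h1 : NPC p ↥(K.map f) := npc_of_hasNormalPComplement (hG.2 (K.map f) hKf)
    have hsurj : Function.Surjective (f.subgroupMap K) := f.subgroupMap_surjective K
    have hk : (f.subgroupMap K).ker ≤ Subgroup.center ↥K := by
      intro x hx
      rw [MonoidHom.mem_ker] at hx
      have hx' : f (x : Y) = 1 := by
        have := congrArg Subtype.val hx
        simpa using this
      have hxc : (x : Y) ∈ Subgroup.center Y := hker ((MonoidHom.mem_ker).2 hx')
      rw [Subgroup.mem_center_iff] at hxc ⊢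
      intro y
      apply Subtype.ext
      have := hxc (y : Y)
      simpa using this
    exact (sch_q_npc_of_central (f.subgroupMap K) hsurj hk h1).hasNormalPComplement

end Cfsg.Agent.Helper20.Sch
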