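import Mathlib
import Cfsg.Agent.Lib.Helper20.TCDefs

/-!
# S3104 piece CENT (helper28): centralizers in `Perm (Fin 8)` of elements of order 3, 5, 7 that are
not 3-cycles have fewer than 60 elements
-/

set_option autoImplicit false

namespace Cfsg.Agent.Helper20.TC

open Cfsg

namespace CENT

open Nat in
/-- the centralizer order for cycle type `replicate (n+1) p` in degree 8 -/
theorem card_of_cycleType (x : Equiv.Perm (Fin 8)) (m : Multiset ℕ) (h : x.cycleType = m) :
    Nat.card (Subgroup.centralizer ({x} : Set (Equiv.Perm (Fin 8)))) =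
      (8 - m.sum)! * m.prod * (∏ n ∈ m.toFinset, (m.count n)!) := by
  rw [Equiv.Perm.nat_card_centralizer, h, Fintype.card_fin]

theorem sum_le (x : Equiv.Perm (Fin 8)) : x.cycleType.sum ≤ 8 := by
  rw [Equiv.Perm.sum_cycleType]
  exact (Finset.card_le_univ _).trans (by simp)

end CENT

theorem centSmall : CentSmall := by
  intro x p hp hord h3
  have hprime : (orderOf x).Prime := by
    rw [hord]
    rcases hp with rfl | rfl | rfl <;> norm_num
  obtain ⟨n, hn⟩ := Equiv.Perm.cycleType_prime_order hprime
  rw [hord] at hn
  have hle := CENT.sum_le x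
  rw [hn, Multiset.sum_replicate, smul_eq_mul] at hle
  rcases hp with rfl | rfl | rfl
  · -- p = 3
    have hn2 : n ≤ 1 := by omega
    interval_cases n
    · exfalso
      apply h3
      unfold Equiv.Perm.IsThreeCycle
      rw [hn]
      rfl
    · rw [CENT.card_of_cycleType x _ hn]
      decide
  · -- p = 5
    have hn2 : n = 0 := by omega
    subst hn2
    rw [CENT.card_of_cycleType x _ hn]
    decide
  · -- p = 7
    have hn2 : n = 0 := by omega
    subst hn2
    rw [CENT.card_of_cycleType x _ hn]
    decide

end Cfsg.Agent.Helper20.TC
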