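import Mathlib
import Cfsg.Agent.Lib.Helper20.TCDefs

/-!
# S3104 piece EFORM (helper28): the closure of three commuting involutions consists of the 8 products
-/

set_option autoImplicit false

namespace Cfsg.Agent.Helper20.TC

open Cfsg

namespace EFORM

/-- the product attached to `e` -/
def prod {M : Type*} [Monoid M] (a : Fin 3 → M) (e : Fin 3 → Bool) : M :=
  (if e 0 then a 0 else 1) * (if e 1 then a 1 else 1) * (if e 2 then a 2 else 1)

/-- flip the `i`-th coordinate -/
def flip (e : Fin 3 → Bool) (i : Fin 3) : Fin 3 → Bool := Function.update e i (!e i)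

theorem gen_mul {M : Type*} [Monoid M] (a : Fin 3 → M) (sq : ∀ i, a i * a i = 1)
    (comm : ∀ i j, a i * a j = a j * a i) (i : Fin 3) (e : Fin 3 → Bool) :
    a i * prod a e = prod a (flip e i) := by
  have s0 := sq 0
  have s1 := sq 1
  have s2 := sq 2
  have c10 : a 1 * a 0 = a 0 * a 1 := comm 1 0
  have c20 : a 2 * a 0 = a 0 * a 2 := comm 2 0
  have c21 : a 2 * a 1 = a 1 * a 2 := comm 2 1
  have s0' : ∀ t, a 0 * (a 0 * t) = t := fun t => by rw [← mul_assoc, s0, one_mul]
  have s1' : ∀ t, a 1 * (a 1 * t) = t := fun t => by rw [← mul_assoc, s1, one_mul]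
  have s2' : ∀ t, a 2 * (a 2 * t) = t := fun t => by rw [← mul_assoc, s2, one_mul]
  have c10' : ∀ t, a 1 * (a 0 * t) = a 0 * (a 1 * t) := fun t => by
    rw [← mul_assoc, c10, mul_assoc]
  have c20' : ∀ t, a 2 * (a 0 * t) = a 0 * (a 2 * t) := fun t => by
    rw [← mul_assoc, c20, mul_assoc]
  have c21' : ∀ t, a 2 * (a 1 * t) = a 1 * (a 2 * t) := fun t => by
    rw [← mul_assoc, c21, mul_assoc]
  unfold prod flip
  fin_cases i <;> cases h0 : e 0 <;> cases h1 : e 1 <;> cases h2 : e 2 <;>
    simp [Function.update_apply, h0, h1, h2, mul_assoc, s0, s1, s2, s0', s1', s2', c10, c20, c21,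
      c10', c20', c21']

theorem prod_false {M : Type*} [Monoid M] (a : Fin 3 → M) : prod a (fun _ => false) = 1 := by
  simp [prod]

end EFORM

theorem closure_form {V : Type*} [Group V] (a : Fin 3 → MulAut V) (sq : ∀ i, a i * a i = 1)
    (comm : ∀ i j, a i * a j = a j * a i) :
    ∀ g ∈ Subgroup.closure (Set.range a), ∃ e : Fin 3 → Bool,
      g = (if e 0 then a 0 else 1) * (if e 1 then a 1 else 1) * (if e 2 then a 2 else 1) := by
  intro g hg
  induction hg using Subgroup.closure_induction_left with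
  | one => exact ⟨fun _ => false, (EFORM.prod_false a).symm⟩
  | mul_left x hx y _ ih =>
    obtain ⟨i, rfl⟩ := hx
    obtain ⟨e, rfl⟩ := ih
    exact ⟨EFORM.flip e i, EFORM.gen_mul a sq comm i e⟩
  | inv_mul_cancel x hx y _ ih =>
    obtain ⟨i, rfl⟩ := hx
    obtain ⟨e, rfl⟩ := ih
    have hinv : (a i)⁻¹ = a i := inv_eq_of_mul_eq_one_right (sq i)
    rw [hinv]
    exact ⟨EFORM.flip e i, EFORM.gen_mul a sq comm i e⟩

end Cfsg.Agent.Helper20.TC
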