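import Mathlib
import Cfsg.Agent.Lib.Helper20.TCDefs
import Cfsg.Agent.Lib.Helper10.Cores

/-!
# S3104 piece FINISH (helper28): `π : Q → S₅` with kernel of order 3 and range `S₅` or `A₅`
gives `|O₃(Q)| = 3` and `Q / O₃(Q) ≃ A₅` or `S₅`
-/

set_option autoImplicit false

namespace Cfsg.Agent.Helper20.TC

open Cfsg

namespace FINISH

/-- an element of 3-power order of a symmetric group is even -/
theorem sign_eq_one_of_pow {n : ℕ} (t : Equiv.Perm (Fin n)) (k : ℕ) (h : t ^ (3 ^ k) = 1) :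
    Equiv.Perm.sign t = 1 := by
  have h1 : Equiv.Perm.sign t ^ (3 ^ k) = 1 := by rw [← map_pow, h, map_one]
  rcases Int.units_eq_one_or (Equiv.Perm.sign t) with h2 | h2
  · exact h2
  · exfalso
    rw [h2] at h1
    have hodd : Odd (3 ^ k) := Odd.pow (by decide)
    rw [hodd.neg_one_pow] at h1
    exact absurd h1 (by decide)

/-- the alternating group of degree 5 is not a 3-group -/
theorem not_le_of_isPGroup (T : Subgroup (Equiv.Perm (Fin 5))) (hT : IsPGroup 3 T)
    (h : alternatingGroup (Fin 5) ≤ T) : False := by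
  set g : Equiv.Perm (Fin 5) := Equiv.swap 0 1 * Equiv.swap 2 3 with hg
  have hgA : g ∈ alternatingGroup (Fin 5) := by
    rw [Equiv.Perm.mem_alternatingGroup]
    decide
  have hg2 : g ^ 2 = 1 := by decide
  have hg1 : g ≠ 1 := by decide
  obtain ⟨k, hk⟩ := hT ⟨g, h hgA⟩
  have hk' : g ^ (3 ^ k) = 1 := by
    have := congrArg Subtype.val hk
    simpa using this
  have hodd : Odd (3 ^ k) := Odd.pow (by decide)
  obtain ⟨m, hm⟩ := hodd
  rw [hm, pow_succ, pow_mul, hg2, one_pow, one_mul] at hk'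
  exact hg1 hk'

end FINISH

theorem finish {Q : Type*} [Group Q] [Finite Q] (π : Q →* Equiv.Perm (Fin 5))
    (hker : Nat.card π.ker = 3)
    (hrange : π.range = ⊤ ∨ π.range = alternatingGroup (Fin 5)) :
    Nat.card ↥(Cfsg.pCore 3 Q) = 3 ∧
      (Nonempty (Q ⧸ Cfsg.pCore 3 Q ≃* ↥(alternatingGroup (Fin 5))) ∨
        Nonempty (Q ⧸ Cfsg.pCore 3 Q ≃* Equiv.Perm (Fin 5))) := by
  haveI : Fact (Nat.Prime 3) := ⟨by norm_num⟩
  haveI hOn : (Cfsg.pCore 3 Q).Normal := Cfsg.Agent.Helper10.pCore_normal 3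
  have hOp : IsPGroup 3 (Cfsg.pCore 3 Q) := Cfsg.Agent.Helper10.pCore_isPGroup 3
  -- the kernel is inside `O₃(Q)`
  have hKp : IsPGroup 3 π.ker := IsPGroup.of_card (n := 1) (by rw [hker]; norm_num)
  have hKO : π.ker ≤ Cfsg.pCore 3 Q := le_sSup ⟨inferInstance, hKp⟩
  -- the image of `O₃(Q)`
  set T : Subgroup (Equiv.Perm (Fin 5)) := (Cfsg.pCore 3 Q).map π with hT
  have hTp : IsPGroup 3 T := hOp.map π
  have hA_le_range : alternatingGroup (Fin 5) ≤ π.range := by
    rcases hrange with h | h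
    · rw [h]; exact le_top
    · rw [h]
  have hTA : T ≤ alternatingGroup (Fin 5) := by
    intro t ht
    obtain ⟨k, hk⟩ := hTp ⟨t, ht⟩
    have hk' : t ^ (3 ^ k) = 1 := by
      have := congrArg Subtype.val hk
      simpa using this
    rw [Equiv.Perm.mem_alternatingGroup]
    exact FINISH.sign_eq_one_of_pow t k hk'
  -- `T` is normalized by the range of `π`
  have hTnorm : ∀ g ∈ π.range, ∀ t ∈ T, g * t * g⁻¹ ∈ T := by
    rintro g ⟨q, rfl⟩ t ⟨o, ho, rfl⟩
    refine ⟨q * o * q⁻¹, hOn.conj_mem o ho q, ?_⟩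
    simp
  -- so `T` (inside `A₅`) is normal in the simple group `A₅`
  haveI hsimple : IsSimpleGroup ↥(alternatingGroup (Fin 5)) := alternatingGroup.isSimpleGroup_five
  have hTsn : (T.subgroupOf (alternatingGroup (Fin 5))).Normal := by
    constructor
    intro n hn g
    rw [Subgroup.mem_subgroupOf] at hn ⊢
    have := hTnorm (g : Equiv.Perm (Fin 5)) (hA_le_range g.2) _ hn
    simpa using this
  have hTbot : T = ⊥ := by
    rcases hTsn.eq_bot_or_eq_top with h | h
    · rw [Subgroup.subgroupOf_eq_bot] at h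
      rw [disjoint_iff, inf_eq_left.2 hTA] at h
      exact h
    · exfalso
      rw [Subgroup.subgroupOf_eq_top] at h
      exact FINISH.not_le_of_isPGroup T hTp h
  have hOK : Cfsg.pCore 3 Q ≤ π.ker := by
    intro o ho
    rw [MonoidHom.mem_ker]
    have : π o ∈ T := ⟨o, ho, rfl⟩
    rw [hTbot, Subgroup.mem_bot] at this
    exact this
  have heq : Cfsg.pCore 3 Q = π.ker := le_antisymm hOK hKO
  refine ⟨by rw [heq, hker], ?_⟩
  have e1 : Q ⧸ Cfsg.pCore 3 Q ≃* Q ⧸ π.ker := QuotientGroup.quotientMulEquivOfEq heq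
  have e2 : Q ⧸ π.ker ≃* ↥π.range := QuotientGroup.quotientKerEquivRange π
  rcases hrange with h | h
  · right
    exact ⟨(e1.trans e2).trans ((MulEquiv.subgroupCongr h).trans Subgroup.topEquiv)⟩
  · left
    exact ⟨(e1.trans e2).trans (MulEquiv.subgroupCongr h)⟩

end Cfsg.Agent.Helper20.TC
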