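import Mathlib
import Cfsg.Agent.Lib.Helper20.TCDefs

/-!
# S3104 piece PIHOM (helper28): the normalizer of a 3-cycle acts on its 5 fixed points with kernel
of order 3
-/

set_option autoImplicit false

namespace Cfsg.Agent.Helper20.TC

open Cfsg Cfsg.Agent.Helper20.GL4Sub

namespace PIHOM

theorem pinv_apply (f : Equiv.Perm (Fin 8)) (i : Fin 8) : f⁻¹ (f i) = i := f.symm_apply_apply i

variable (σ : Equiv.Perm (Fin 8))

/-- the permutations fixing every fixed point of `σ` -/
def B : Subgroup (Equiv.Perm (Fin 8)) where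
  carrier := {g | ∀ i, σ i = i → g i = i}
  mul_mem' := by
    intro a b ha hb i hi
    rw [Equiv.Perm.mul_apply, hb i hi, ha i hi]
  one_mem' := by
    intro i _
    rfl
  inv_mem' := by
    intro a ha i hi
    rw [Equiv.Perm.inv_eq_iff_eq]
    exact (ha i hi).symm

theorem mem_B (g : Equiv.Perm (Fin 8)) : g ∈ B σ ↔ ∀ i, σ i = i → g i = i := Iff.rfl

/-- elements of `B` preserve the support of `σ` -/
theorem B_iff (g : Equiv.Perm (Fin 8)) (hg : g ∈ B σ) (i : Fin 8) : σ (g i) ≠ g i ↔ σ i ≠ i := by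
  constructor
  · intro h hi
    apply h
    rw [hg i hi, hi]
  · intro h hgi
    apply h
    have h1 : g⁻¹ (g i) = g i := (B σ).inv_mem hg (g i) hgi
    rw [pinv_apply] at h1
    rw [← h1] at hgi
    exact hgi

/-- restriction of `B` to the support of `σ` -/
def rho : ↥(B σ) →* Equiv.Perm {i : Fin 8 // σ i ≠ i} where
  toFun g := Equiv.Perm.subtypePerm (g : Equiv.Perm (Fin 8)) (fun i => B_iff σ g g.2 i)
  map_one' := by
    ext i
    simp
  map_mul' a b := rfl

theorem rho_injective : Function.Injective (rho σ) := by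
  rw [injective_iff_map_eq_one]
  intro g hg
  apply Subtype.ext
  apply Equiv.ext
  intro i
  by_cases hi : σ i = i
  · exact g.2 i hi
  · have h := congrArg (fun f : Equiv.Perm {i : Fin 8 // σ i ≠ i} => ((f ⟨i, hi⟩ : {i : Fin 8 // σ i ≠ i}) : Fin 8)) hg
    exact h

theorem card_support_subtype (h3 : σ.IsThreeCycle) : Fintype.card {i : Fin 8 // σ i ≠ i} = 3 := by
  rw [Fintype.card_subtype]
  exact h3.card_support

theorem card_B_dvd (h3 : σ.IsThreeCycle) : Nat.card ↥(B σ) ∣ 6 := by
  have h := Subgroup.card_dvd_of_injective (rho σ) (rho_injective σ)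
  rw [Nat.card_eq_fintype_card (α := Equiv.Perm _), Fintype.card_perm, card_support_subtype σ h3] at h
  exact h

/-- the even elements of `B` -/
def E : Subgroup (Equiv.Perm (Fin 8)) := B σ ⊓ alternatingGroup (Fin 8)

theorem zpowers_le_E (h3 : σ.IsThreeCycle) : Subgroup.zpowers σ ≤ E σ := by
  rw [Subgroup.zpowers_le]
  refine ⟨fun i hi => hi, ?_⟩
  exact Equiv.Perm.mem_alternatingGroup.2 h3.sign

theorem card_zpowers (h3 : σ.IsThreeCycle) : Nat.card ↥(Subgroup.zpowers σ) = 3 := by
  rw [Nat.card_zpowers, h3.orderOf]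

theorem E_ne_B (h3 : σ.IsThreeCycle) : E σ ≠ B σ := by
  intro h
  have hne : σ ≠ 1 := by
    intro h1
    have := h3.orderOf
    rw [h1, orderOf_one] at this
    exact absurd this (by norm_num)
  obtain ⟨a, ha⟩ : ∃ a, σ a ≠ a := by
    by_contra hcon
    push Not at hcon
    exact hne (Equiv.ext hcon)
  set t : Equiv.Perm (Fin 8) := Equiv.swap a (σ a) with ht
  have htB : t ∈ B σ := by
    intro i hi
    have h1 : i ≠ a := fun e => ha (e ▸ hi)
    have h2 : i ≠ σ a := by
      intro e
      apply ha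
      have : σ (σ a) = σ a := by rw [← e]; exact hi
      exact σ.injective this
    exact Equiv.swap_apply_of_ne_of_ne h1 h2
  have htE : t ∈ E σ := h ▸ htB
  have hsign : Equiv.Perm.sign t = 1 := Equiv.Perm.mem_alternatingGroup.1 htE.2
  rw [ht, Equiv.Perm.sign_swap (Ne.symm ha)] at hsign
  exact absurd hsign (by decide)

theorem card_E (h3 : σ.IsThreeCycle) : Nat.card ↥(E σ) = 3 := by
  have hB6 := card_B_dvd σ h3
  have hEB : Nat.card ↥(E σ) ∣ Nat.card ↥(B σ) := Subgroup.card_dvd_of_le inf_le_left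
  have h3E : 3 ∣ Nat.card ↥(E σ) := by
    rw [← card_zpowers σ h3]
    exact Subgroup.card_dvd_of_le (zpowers_le_E σ h3)
  have hne : Nat.card ↥(E σ) ≠ Nat.card ↥(B σ) := by
    intro h
    exact E_ne_B σ h3 (Subgroup.eq_of_le_of_card_ge inf_le_left h.ge)
  have hBpos : 0 < Nat.card ↥(B σ) := Nat.card_pos
  have hBle : Nat.card ↥(B σ) ≤ 6 := Nat.le_of_dvd (by norm_num) hB6
  have hEle : Nat.card ↥(E σ) ≤ Nat.card ↥(B σ) := Nat.le_of_dvd hBpos hEB
  have hEpos : 0 < Nat.card ↥(E σ) := Nat.card_pos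
  generalize Nat.card ↥(B σ) = b at *
  generalize Nat.card ↥(E σ) = e at *
  interval_cases b <;> interval_cases e <;> omega

theorem E_eq_zpowers (h3 : σ.IsThreeCycle) : E σ = Subgroup.zpowers σ := by
  symm
  apply Subgroup.eq_of_le_of_card_ge (zpowers_le_E σ h3)
  rw [card_E σ h3, card_zpowers σ h3]

end PIHOM

open PIHOM in
theorem exists_pi (K : Subgroup A8) (x : A8) (hxK : x ∈ K)
    (h3 : ((x : A8) : Equiv.Perm (Fin 8)).IsThreeCycle)
    (hnorm : K ≤ Subgroup.normalizer ((Subgroup.zpowers x : Subgroup A8) : Set A8)) :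
    ∃ π : ↥K →* Equiv.Perm (Fin 5), Nat.card π.ker = 3 := by
  classical
  set σ : Equiv.Perm (Fin 8) := ((x : A8) : Equiv.Perm (Fin 8)) with hσ
  -- the inclusion of `K` in the symmetric group
  set ι : ↥K →* Equiv.Perm (Fin 8) := (alternatingGroup (Fin 8)).subtype.comp K.subtype with hι
  have hιinj : Function.Injective ι := by
    intro a b hab
    exact Subtype.ext (Subtype.ext hab)
  -- elements of `K` map the support of `σ` into itself
  have hstep : ∀ k : ↥K, ∀ i : Fin 8, σ i ≠ i → σ (ι k i) ≠ ι k i := by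
    intro k i hi hcon
    have hmem : (k : A8) * x * (k : A8)⁻¹ ∈ Subgroup.zpowers x :=
      (Subgroup.mem_normalizer_iff.1 (hnorm k.2) x).1 (Subgroup.mem_zpowers x)
    obtain ⟨j, hj⟩ := Subgroup.mem_zpowers_iff.1 hmem
    have hj' : σ ^ j = ι k * σ * (ι k)⁻¹ := by
      have := congrArg (fun y : A8 => (y : Equiv.Perm (Fin 8))) hj
      simpa [hσ, hι] using this
    have h1 : (σ ^ j) (ι k i) = ι k i := Equiv.Perm.zpow_apply_eq_self_of_apply_eq_self hcon j
    rw [hj'] at h1
    simp only [Equiv.Perm.mul_apply, pinv_apply] at h1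
    exact hi ((ι k).injective h1)
  have hiff : ∀ k : ↥K, ∀ i : Fin 8, σ (ι k i) = ι k i ↔ σ i = i := by
    intro k i
    constructor
    · intro h
      by_contra hi
      exact hstep k i hi h
    · intro h
      by_contra hi
      have := hstep k⁻¹ (ι k i) hi
      rw [map_inv, pinv_apply] at this
      exact this h
  -- the action on the fixed points
  let π0 : ↥K →* Equiv.Perm {i : Fin 8 // σ i = i} :=
    { toFun := fun k => Equiv.Perm.subtypePerm (ι k) (hiff k)
      map_one' := by
        ext i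
        simp
      map_mul' := fun a b => rfl }
  have hcardF : Fintype.card {i : Fin 8 // σ i = i} = 5 := by
    have h1 : Fintype.card {i : Fin 8 // σ i ≠ i} = 3 := card_support_subtype σ h3
    have h2 := Fintype.card_subtype_compl (fun i : Fin 8 => σ i = i)
    rw [Fintype.card_fin] at h2
    have h3' : Fintype.card {i : Fin 8 // ¬ σ i = i} = 3 := h1
    omega
  let e : {i : Fin 8 // σ i = i} ≃ Fin 5 := Fintype.equivFinOfCardEq hcardF
  refine ⟨(Equiv.permCongrHom e).toMonoidHom.comp π0, ?_⟩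
  have hker1 : ((Equiv.permCongrHom e).toMonoidHom.comp π0).ker = π0.ker := by
    ext k
    simp only [MonoidHom.mem_ker, MonoidHom.comp_apply, MulEquiv.coe_toMonoidHom]
    exact MulEquiv.map_eq_one_iff _
  have hker2 : π0.ker = (E σ).comap ι := by
    ext k
    rw [MonoidHom.mem_ker, Subgroup.mem_comap]
    constructor
    · intro h
      refine ⟨?_, ?_⟩
      · intro i hi
        have := congrArg (fun f : Equiv.Perm {i : Fin 8 // σ i = i} =>
          ((f ⟨i, hi⟩ : {i : Fin 8 // σ i = i}) : Fin 8)) h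
        exact this
      · exact (k : A8).2
    · intro h
      apply Equiv.ext
      intro i
      apply Subtype.ext
      exact h.1 i.1 i.2
  have hle : E σ ≤ ι.range := by
    rw [E_eq_zpowers σ h3, Subgroup.zpowers_le]
    exact ⟨⟨x, hxK⟩, rfl⟩
  rw [hker1, hker2, ← Subgroup.card_map_of_injective hιinj, Subgroup.map_comap_eq_self hle,
    card_E σ h3]

end Cfsg.Agent.Helper20.TC
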