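import Mathlib
import Cfsg.Agent.Lib.Lead.TwCard

/-!
# Fixed points of a twist on `U` are generated by involutions (helper28)

For orthogonal class data in characteristic `2`: `U ∩ G¹` is generated by its involutions.
-/

set_option autoImplicit false
set_option linter.unusedSectionVars false
set_option linter.unusedVariables false

namespace Cfsg.Agent.Helper28.SqTw

open Cfsg Cfsg.Lie Cfsg.Agent.Lead.Chev Cfsg.Agent.Lead.Tw

variable {K : Type*} [Field K]

section chain

variable {D : ChevalleyDatum} (hF : ChevFacts D K) (T : Twist D K hF.xadd)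
include hF

/-- the good elements of `U_w⁻`: fixed involutions -/
def invSet (w : List ℕ) : Set (GL D.Idx K) :=
  {g | g ∈ negPart D hF.xadd w ∧ T.σ g = g ∧ g * g = 1}

/-- fixed points of `U_w⁻` along a reduced chain are products of fixed involutions of `U_w⁻` -/
theorem fixed_mem_closure_of_chain [Fintype K] (hS : CorSize D) (hC : CorComb D) (S : List (List ℕ))
    (hv : ∀ w ∈ S, ∀ i ∈ w, i < D.rank) (hc : ∀ w ∈ S, RhoComm D T.ρ w)
    (hn : ∀ w ∈ S, T.σ (nWordGL D hF.xadd w) = nWordGL D hF.xadd w)
    (hX : ∀ w ∈ S, ∀ b ∈ negPart D hF.xadd w, b * b = 1)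
    (l : List (List ℕ)) (hl : ∀ v ∈ l, v ∈ S) (hred : RedChain D l) :
    ∀ u ∈ negPart D hF.xadd (wordOf l), T.σ u = u → u ∈ Subgroup.closure (invSet hF T (wordOf l)) := by
  induction l with
  | nil =>
    intro u hu _
    have : negPart D hF.xadd (wordOf []) = ⊥ := by
      unfold Cfsg.Agent.Lead.Chev.negPart
      rw [Subgroup.closure_eq_bot_iff]
      rintro g ⟨r, t, hr1, hr2, rfl⟩
      exact absurd hr2 (hF.sign.not_both _ hr1)
    rw [this, Subgroup.mem_bot] at hu
    rw [hu]
    exact one_mem _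
  | cons v l ih =>
    intro u hu hfix
    have hl' : ∀ x ∈ l, x ∈ S := fun x hx => hl x (List.mem_cons_of_mem _ hx)
    have hvS := hl v List.mem_cons_self
    have hvv := hv v hvS
    have hxv := wordOf_valid S l hv hl'
    simp only [wordOf] at hu ⊢
    have hyJ := ChevFacts'.wordIn_letters hF v hvv
    obtain ⟨a, ha, b, hb, rfl⟩ := ChevFacts'.exists_decomp hF hS hC (letters v) (wordOf l) v hxv hred.1
      hyJ u hu
    obtain ⟨fa, fb⟩ := T.fixed_decomp hF v hvv (wordOf l) hxv (T.rhoComm_wordOf hF S l hv hc hl')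
      (hc v hvS) (hn v hvS) a b ha hb hfix
    have h1 := ih hl' hred.2 a ha fa
    have hnG := nWordGL_mem_group D hF.xadd v
    -- the conjugate of the closure
    have hle : Subgroup.closure (invSet hF T (wordOf l)) ≤
        (Subgroup.closure (invSet hF T (wordOf l ++ v))).comap
          (MulAut.conj (nWordGL D hF.xadd v)⁻¹).toMonoidHom := by
      rw [Subgroup.closure_le]
      rintro g ⟨hg1, hg2, hg3⟩
      rw [SetLike.mem_coe, Subgroup.mem_comap, MulEquiv.coe_toMonoidHom, MulAut.conj_apply, inv_inv]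
      apply Subgroup.subset_closure
      refine ⟨ChevFacts'.conj_inv_negPart_mem hF hS (letters v) (wordOf l) v hxv hred.1 hyJ g hg1, ?_, ?_⟩
      · have hgG := hF.posUnipotent_le_group (hF.negPart_le_posUnipotent (wordOf l) hg1)
        rw [T.map_mul _ _ (mul_mem (inv_mem hnG) hgG) hnG, T.map_mul _ _ (inv_mem hnG) hgG,
          T.map_inv hF _ hnG, hn v hvS, hg2]
      · calc (nWordGL D hF.xadd v)⁻¹ * g * nWordGL D hF.xadd v *
              ((nWordGL D hF.xadd v)⁻¹ * g * nWordGL D hF.xadd v)
            = (nWordGL D hF.xadd v)⁻¹ * (g * g) * nWordGL D hF.xadd v := by group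
          _ = 1 := by rw [hg3]; group
    have h2 := hle h1
    rw [Subgroup.mem_comap, MulEquiv.coe_toMonoidHom, MulAut.conj_apply, inv_inv] at h2
    have h3 : b ∈ Subgroup.closure (invSet hF T (wordOf l ++ v)) := by
      apply Subgroup.subset_closure
      exact ⟨ChevFacts'.negPart_le_append hF hS (letters v) (wordOf l) v hxv hred.1 hyJ hb, fb,
        hX v hvS b hb⟩
    exact mul_mem h2 h3

end chain

section orth

variable {D : ChevalleyDatum} {hF : ChevFacts D K} {T : Twist D K hF.xadd}
  {π' : ℕ → ℕ} {S l₀ : List (List ℕ)} (h : OrthData hF T π' S l₀)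
include h

/-- in characteristic `2` the elements of an orthogonal class subgroup are involutions -/
theorem class_sq (h2 : (2 : K) = 0) (w : List ℕ) (hw : w ∈ S) (b : GL D.Idx K)
    (hb : b ∈ negPart D hF.xadd w) : b * b = 1 := by
  obtain ⟨f, rfl⟩ := exists_xs_of_mem_negPart hF (h.cls w hw) b hb
  rw [← xs_add hF (h.cls w hw)]
  have : (fun i => f i + f i) = fun _ => (0 : K) := by
    funext i
    rw [← two_mul, h2, zero_mul]
  rw [this, xs_zero]

/-- **`U ∩ G¹` is generated by its involutions** (characteristic `2`) -/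
theorem posU_le_closure_invol [Fintype K] (hS : CorSize D) (hC : CorComb D) (h2 : (2 : K) = 0) :
    D.posUnipotent K ⊓ orthGroup hF T S ≤
      Subgroup.closure {g | g ∈ D.posUnipotent K ⊓ orthGroup hF T S ∧ g * g = 1} := by
  have hG := h.twGroup hS hC
  rintro u ⟨hu1, hu2⟩
  have hfix := h.fixed u hu2
  have hlong := Twist.negPart_eq_posUnipotent hF _ h.chain_long
  have hu1' : u ∈ negPart D hF.xadd (wordOf l₀) := by rw [hlong]; exact hu1
  have key := fixed_mem_closure_of_chain hF T hS hC S h.gen.valid h.gen.comm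
    (fun w hw => h.fixed _ (h.s_mem w hw)) (fun w hw b hb => class_sq h h2 w hw b hb)
    l₀ h.chain_mem h.chain_red u hu1' hfix
  refine Subgroup.closure_mono ?_ key
  rintro g ⟨hg1, hg2, hg3⟩
  rw [hlong] at hg1
  exact ⟨⟨hg1, hG.U_le g hg1 hg2⟩, hg3⟩

end orth

end Cfsg.Agent.Helper28.SqTw
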