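import Mathlib
import Cfsg.Agent.Lib.Helper28.SqTw
import Cfsg.Agent.Lib.Lead.TwE6Grp
import Cfsg.Agent.Lib.Lead.TwD4Grp

/-!
# `U ∩ ²E₆(q)` and `U ∩ ³D₄(q)` are generated by involutions in characteristic `2` (helper28)
-/

set_option autoImplicit false
set_option linter.unusedSectionVars false
set_option linter.unusedVariables false

namespace Cfsg.Agent.Helper28.SqTw

open Cfsg Cfsg.Lie Cfsg.Agent.Lead.Chev Cfsg.Agent.Lead.Tw

/-- `U ∩ ²E₆(q)` is generated by its involutions -/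
theorem twistedE6_posU_le_closure_invol {K : Type*} [Field K] [Fintype K] {q : ℕ}
    (hK : Fintype.card K = q ^ 2) (f : K ≃+* K) (hf : ∀ t, f t = t ^ q) (h2 : (2 : K) = 0) :
    chevE6.posUnipotent K ⊓ twistedE6 K q ≤
      Subgroup.closure {g | g ∈ chevE6.posUnipotent K ⊓ twistedE6 K q ∧ g * g = 1} := by
  rw [E6.twisted_eq hK f hf]
  exact posU_le_closure_invol (E6.orthData f) (corSize_of_mem _ E6.hmem) (corComb_of_mem _ E6.hmem) h2

/-- `U ∩ ³D₄(q)` is generated by its involutions -/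
theorem twistedD4_posU_le_closure_invol {K : Type*} [Field K] [Fintype K] {q : ℕ}
    (hK : Fintype.card K = q ^ 3) (f : K ≃+* K) (hf : ∀ t, f t = t ^ q) (h2 : (2 : K) = 0) :
    chevD4.posUnipotent K ⊓ twistedD4 K q ≤
      Subgroup.closure {g | g ∈ chevD4.posUnipotent K ⊓ twistedD4 K q ∧ g * g = 1} := by
  rw [D4.twisted_eq hK f hf]
  exact posU_le_closure_invol (D4.orthData f) (corSize_of_mem _ D4.hmem) (corComb_of_mem _ D4.hmem) h2

end Cfsg.Agent.Helper28.SqTw
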