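import Mathlib
import Cfsg.Agent.Lib.Helper26.L33Defs

/-!
# S2916 piece C2 (helper28): a nontrivial 3-element commuting with an involution is conjugate to `u`.
-/

set_option autoImplicit false

namespace Cfsg.Agent.Helper26.L33

universe u v

namespace C2

/-- conjugation preserves the order -/
theorem c2_orderOf_conj {G : Type u} [Group G] (g x : G) : orderOf (g * x * g⁻¹) = orderOf x := by
  have := MulEquiv.orderOf_eq (MulAut.conj g) x
  rwa [MulAut.conj_apply] at this

end C2

section C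

variable {G : Type u} [Group G] [Finite G] [IsSimpleGroup G]

theorem atype {t u s : G} (h : Cfg G t u s) (x τ : G) (hτ : orderOf τ = 2) (hc : τ * x = x * τ)
    (hx : ∃ k : ℕ, orderOf x = 3 ^ k) (hx1 : x ≠ 1) : IsConj u x := by
  obtain ⟨g, hg⟩ := isConj_iff.mp (h.one_class τ hτ)
  obtain ⟨k, hk⟩ := hx
  -- the conjugate `x' = g⁻¹ x g` commutes with `t`
  set x' : G := g⁻¹ * x * g with hx'
  have hcomm : t * x' = x' * t := by
    have h2 : g * t * g⁻¹ * x = x * (g * t * g⁻¹) := by rw [hg]; exact hc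
    have h3 : t * (g⁻¹ * x * g) = g⁻¹ * (g * t * g⁻¹ * x) * g := by group
    have h4 : g⁻¹ * x * g * t = g⁻¹ * (x * (g * t * g⁻¹)) * g := by group
    rw [hx', h3, h4, h2]
  have hord : orderOf x' = 3 ^ k := by
    have := C2.c2_orderOf_conj g⁻¹ x
    rw [inv_inv] at this
    rw [hx', this, hk]
  have hmem : x' ∈ Subgroup.centralizer ({t} : Set G) := by
    rw [Subgroup.mem_centralizer_singleton_iff]
    exact hcomm.symm
  have hdvd : 3 ^ k ∣ 48 := by
    have h1 := orderOf_dvd_natCard (⟨x', hmem⟩ : Subgroup.centralizer ({t} : Set G))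
    rw [Subgroup.orderOf_mk, hord, h.cardC] at h1
    exact h1
  have hk1 : k ≤ 1 := by
    by_contra hlt
    have hlt' : 2 ≤ k := by omega
    have h9 : 3 ^ 2 ∣ 48 := dvd_trans (pow_dvd_pow 3 hlt') hdvd
    norm_num at h9
  have hk0 : k ≠ 0 := by
    intro h0
    rw [h0, pow_zero, orderOf_eq_one_iff] at hk
    exact hx1 hk
  have hk' : k = 1 := by omega
  rw [hk', pow_one] at hord
  obtain ⟨c, hct, hcu⟩ := h.three x' hord hcomm
  rw [isConj_iff]
  refine ⟨g * c, ?_⟩
  have : g * c * u * (g * c)⁻¹ = g * (c * u * c⁻¹) * g⁻¹ := by group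
  rw [this, hcu, hx']
  group

end C

end Cfsg.Agent.Helper26.L33
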