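import Mathlib

/-!
# S2916 sub-piece C4B-CEN (helper28): a nontrivial central element of a group of order 27.
-/

set_option autoImplicit false

namespace Cfsg.Agent.Helper26.L33

universe u

section SubPieces

variable {G : Type u} [Group G] [Finite G]

theorem c4b_center (P0 : Subgroup G) (hP : Nat.card P0 = 27) :
    ∃ z ∈ P0, z ≠ 1 ∧ ∀ x ∈ P0, x * z = z * x := by
  have : Fact (Nat.Prime 3) := ⟨by norm_num⟩
  have : Nontrivial P0 := by
    rw [← Finite.one_lt_card_iff_nontrivial, hP]; norm_num
  have hpg : IsPGroup 3 P0 := IsPGroup.of_card (n := 3) (by rw [hP]; norm_num)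
  have hcn : Nontrivial (Subgroup.center P0) := hpg.center_nontrivial
  obtain ⟨z', hz'⟩ := exists_ne (1 : Subgroup.center P0)
  refine ⟨((z' : P0) : G), (z' : P0).2, ?_, ?_⟩
  · intro h
    apply hz'
    apply Subtype.ext
    apply Subtype.ext
    simpa using h
  · intro x hx
    have h1 := Subgroup.mem_center_iff.mp z'.2 ⟨x, hx⟩
    exact congrArg Subtype.val h1

end SubPieces

end Cfsg.Agent.Helper26.L33
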