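import Mathlib

/-!
# S2916 sub-piece C4B-COMM (helper28): a group of order 9 is abelian.
-/

set_option autoImplicit false

namespace Cfsg.Agent.Helper26.L33

universe u

section SubPieces

variable {G : Type u} [Group G] [Finite G]

theorem c4b_comm (K : Subgroup G) (h9 : Nat.card K = 9) : ∀ a ∈ K, ∀ b ∈ K, a * b = b * a := by
  have : Fact (Nat.Prime 3) := ⟨by norm_num⟩
  have hc : IsMulCommutative K :=
    IsPGroup.isMulCommutative_of_card_eq_prime_sq (p := 3) (by rw [h9]; norm_num)
  intro a ha b hb
  have := hc.is_comm.comm (⟨a, ha⟩ : K) ⟨b, hb⟩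
  exact congrArg Subtype.val this

end SubPieces

end Cfsg.Agent.Helper26.L33
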