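import Mathlib

/-!
# S2916 sub-piece C4B-GEN (helper28): in a group `K` of order 9 with `u, z ∈ K` of order 3 and `z ∉ ⟨u⟩`,
every element is `u^a z^b` with `a, b < 3`.
-/

set_option autoImplicit false

namespace Cfsg.Agent.Helper26.L33

universe u

section SubPieces

variable {G : Type u} [Group G] [Finite G]

theorem c4b_gen (K : Subgroup G) (h9 : Nat.card K = 9) (hab : ∀ a ∈ K, ∀ b ∈ K, a * b = b * a) (u z : G)
    (hu : u ∈ K) (hz : z ∈ K) (ou : orderOf u = 3) (oz : orderOf z = 3) (hzu : z ∉ Subgroup.zpowers u) :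
    ∀ k ∈ K, ∃ a b : ℕ, a < 3 ∧ b < 3 ∧ k = u ^ a * z ^ b := by
  have hz3 : z ^ 3 = 1 := by rw [← oz]; exact pow_orderOf_eq_one z
  let f : Fin 3 × Fin 3 → K := fun p =>
    ⟨u ^ (p.1 : ℕ) * z ^ (p.2 : ℕ), K.mul_mem (K.pow_mem hu _) (K.pow_mem hz _)⟩
  have hinj : Function.Injective f := by
    rintro ⟨a, b⟩ ⟨a', b'⟩ h
    have h' : u ^ (a : ℕ) * z ^ (b : ℕ) = u ^ (a' : ℕ) * z ^ (b' : ℕ) := congrArg Subtype.val h
    have hb : b = b' := by
      by_contra hne
      apply hzu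
      have h1 : z ^ (b : ℕ) * (z ^ (b' : ℕ))⁻¹ = (u ^ (a : ℕ))⁻¹ * u ^ (a' : ℕ) := by
        have h2 : z ^ (b : ℕ) = (u ^ (a : ℕ))⁻¹ * (u ^ (a' : ℕ) * z ^ (b' : ℕ)) := by
          rw [← h']; group
        rw [h2]; group
      have hm : z ^ (b : ℕ) * (z ^ (b' : ℕ))⁻¹ ∈ Subgroup.zpowers u := by
        rw [h1]
        exact Subgroup.mul_mem _ (Subgroup.inv_mem _ (Subgroup.pow_mem _ (Subgroup.mem_zpowers u) _))
          (Subgroup.pow_mem _ (Subgroup.mem_zpowers u) _)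
      set e : ℤ := ((b : ℕ) : ℤ) - ((b' : ℕ) : ℤ) with he
      have hw : z ^ e ∈ Subgroup.zpowers u := by
        have : z ^ e = z ^ (b : ℕ) * (z ^ (b' : ℕ))⁻¹ := by
          rw [he, zpow_sub, zpow_natCast, zpow_natCast]
        rw [this]; exact hm
      have hbb : (b : ℕ) ≠ (b' : ℕ) := fun hh => hne (Fin.ext hh)
      have hb3 := b.2
      have hb3' := b'.2
      have hcases : e = 1 ∨ e = -1 ∨ e = 2 ∨ e = -2 := by omega
      have hz4' : z ^ (4 : ℕ) = z := by
        rw [show 4 = 3 + 1 by norm_num, pow_add, hz3, one_mul, pow_one]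
      have hz4 : z ^ (4 : ℤ) = z := by
        rw [show (4 : ℤ) = ((4 : ℕ) : ℤ) by norm_num, zpow_natCast, hz4']
      have hzz : z = (z ^ e) ^ e := by
        rw [← zpow_mul]
        rcases hcases with h | h | h | h <;> rw [h] <;> norm_num <;>
          first | exact hz4.symm | exact hz4'.symm
      rw [hzz]
      exact Subgroup.zpow_mem _ hw e
    subst hb
    have ha : u ^ (a : ℕ) = u ^ (a' : ℕ) := mul_right_cancel h'
    rw [pow_inj_mod, ou] at ha
    have ha3 := a.2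
    have ha3' := a'.2
    have : (a : ℕ) = (a' : ℕ) := by omega
    rw [Fin.ext this]
  have hbij : Function.Bijective f := by
    apply hinj.bijective_of_nat_card_le
    rw [h9, Nat.card_prod, Nat.card_fin]
  intro k hk
  obtain ⟨⟨a, b⟩, hfk⟩ := hbij.2 ⟨k, hk⟩
  refine ⟨(a : ℕ), (b : ℕ), a.2, b.2, ?_⟩
  exact (congrArg Subtype.val hfk).symm

end SubPieces

end Cfsg.Agent.Helper26.L33
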