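import Mathlib

/-!
# S2916 sub-piece C4B-NOR (helper28): a subgroup of index 3 in a group of order 27 is normal.
-/

set_option autoImplicit false

namespace Cfsg.Agent.Helper26.L33

universe u

section SubPieces

variable {G : Type u} [Group G] [Finite G]

theorem c4b_normal (K P0 : Subgroup G) (h9 : Nat.card K = 9) (hP : Nat.card P0 = 27) (hKP : K ≤ P0) :
    ∀ x ∈ P0, ∀ k ∈ K, x * k * x⁻¹ ∈ K := by
  have hcardsub : Nat.card (K.subgroupOf P0) = 9 := by
    rw [Nat.card_congr (Subgroup.subgroupOfEquivOfLe hKP).toEquiv, h9]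
  have hidx : (K.subgroupOf P0).index = 3 := by
    have h1 := Subgroup.card_mul_index (K.subgroupOf P0)
    rw [hcardsub, hP] at h1
    omega
  have hmin : (Nat.card P0).minFac = 3 := by
    rw [hP]
    norm_num
  have hnor : (K.subgroupOf P0).Normal :=
    Subgroup.normal_of_index_eq_minFac_card (by rw [hidx, hmin])
  intro x hx k hk
  have hk' : (⟨k, hKP hk⟩ : P0) ∈ K.subgroupOf P0 := by
    rw [Subgroup.mem_subgroupOf]
    exact hk
  have h2 := hnor.conj_mem _ hk' ⟨x, hx⟩
  rw [Subgroup.mem_subgroupOf] at h2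
  simpa using h2

end SubPieces

end Cfsg.Agent.Helper26.L33
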