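import Mathlib
import Cfsg.Agent.Lib.Helper26.L33Defs

/-!
# S2916 piece C4A (helper28): `|K| ≠ 3`: `u` lies in a Sylow 3-subgroup `P0` of order 27 and
`|C_{P0}(u)| ≥ 9`, but `|C(u)| = 2 |K|`.
-/

set_option autoImplicit false

namespace Cfsg.Agent.Helper26.L33

universe u v

namespace C4A

/-- In a group `P` of order 27, the centralizer of an element has more than 3 elements. -/
theorem c4a_card_centralizer {P : Type u} [Group P] (hP : Nat.card P = 27) (x : P) :
    3 < Nat.card (Subgroup.centralizer ({x} : Set P)) := by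
  haveI : Fact (Nat.Prime 3) := ⟨by norm_num⟩
  haveI : Finite P := Nat.finite_of_card_ne_zero (by rw [hP]; norm_num)
  haveI : Nontrivial P := by
    rw [← Finite.one_lt_card_iff_nontrivial, hP]; norm_num
  have hpg : IsPGroup 3 P := IsPGroup.of_card (n := 3) (by rw [hP]; norm_num)
  by_contra hle
  have hle' : Nat.card (Subgroup.centralizer ({x} : Set P)) ≤ 3 := by omega
  have hcn : Nontrivial (Subgroup.center P) := hpg.center_nontrivial
  have hc1 : 1 < Nat.card (Subgroup.center P) := Finite.one_lt_card
  have hcd : Nat.card (Subgroup.center P) ∣ 27 := by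
    rw [← hP]; exact Subgroup.card_subgroup_dvd_card _
  have hc3 : 3 ≤ Nat.card (Subgroup.center P) := by
    have : Nat.card (Subgroup.center P) ∈ Nat.divisors 27 := by
      rw [Nat.mem_divisors]; exact ⟨hcd, by norm_num⟩
    have hdiv : Nat.divisors 27 = {1, 3, 9, 27} := by decide
    rw [hdiv] at this
    simp only [Finset.mem_insert, Finset.mem_singleton] at this
    omega
  have heq : Subgroup.center P = Subgroup.centralizer ({x} : Set P) :=
    Subgroup.eq_of_le_of_card_ge (Subgroup.center_le_centralizer _) (by omega)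
  have hx : x ∈ Subgroup.center P := by
    rw [heq, Subgroup.mem_centralizer_singleton_iff]
  have htop : Subgroup.centralizer ({x} : Set P) = ⊤ := by
    rw [Subgroup.centralizer_eq_top_iff_subset]
    intro y hy
    rw [Set.mem_singleton_iff] at hy
    rw [hy]; exact hx
  rw [htop, Subgroup.card_top, hP] at hle'
  omega

end C4A

section C

variable {G : Type u} [Group G] [Finite G] [IsSimpleGroup G]

theorem K_ne_three {t u s : G} {K : Subgroup G} (h : Cfg1 G t u s K) : Nat.card K ≠ 3 := by
  intro hK
  have hCu : Nat.card (Subgroup.centralizer ({u} : Set G)) = 6 := by rw [h.cardCentU, hK]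
  haveI : Fact (Nat.Prime 3) := ⟨by norm_num⟩
  have hpz : IsPGroup 3 (Subgroup.zpowers u) :=
    IsPGroup.of_card (n := 1) (by rw [Nat.card_zpowers, h.ou, pow_one])
  obtain ⟨P0, hP0⟩ := hpz.exists_le_sylow
  have huP : u ∈ (P0 : Subgroup G) := hP0 (Subgroup.mem_zpowers u)
  -- `|P0| = 27`
  have hcardP : Nat.card (P0 : Subgroup G) = 27 := by
    obtain ⟨k, hk⟩ := IsPGroup.iff_card.mp P0.isPGroup'
    have hidx : ¬ 3 ∣ (P0 : Subgroup G).index := P0.not_dvd_index
    have hmul := Subgroup.card_mul_index (P0 : Subgroup G)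
    rw [h.card, hk] at hmul
    have hk3 : k ≤ 3 := by
      by_contra hlt
      have hlt' : 4 ≤ k := by omega
      have h81 : 3 ^ 4 ∣ 5616 := dvd_trans (pow_dvd_pow 3 hlt') ⟨_, hmul.symm⟩
      norm_num at h81
    rw [hk]
    interval_cases k
    · exfalso; apply hidx; omega
    · exfalso; apply hidx; omega
    · exfalso; apply hidx; omega
    · norm_num
  -- the centralizer of `u` inside `P0`
  set u' : (P0 : Subgroup G) := ⟨u, huP⟩ with hu'
  set D : Subgroup (P0 : Subgroup G) := Subgroup.centralizer ({u'} : Set (P0 : Subgroup G)) with hD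
  have h3D : 3 < Nat.card D := C4A.c4a_card_centralizer hcardP u'
  have hDdvd27 : Nat.card D ∣ 27 := by
    rw [← hcardP]; exact Subgroup.card_subgroup_dvd_card _
  have hmap : D.map (P0 : Subgroup G).subtype ≤ Subgroup.centralizer ({u} : Set G) := by
    rintro _ ⟨d, hd, rfl⟩
    rw [SetLike.mem_coe, hD, Subgroup.mem_centralizer_singleton_iff] at hd
    rw [Subgroup.mem_centralizer_singleton_iff]
    have := congrArg Subtype.val hd
    simpa [hu'] using this
  have hDdvd6 : Nat.card D ∣ 6 := by
    have h1 := Subgroup.card_dvd_of_le hmap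
    rw [Subgroup.card_map_of_injective (Subgroup.subtype_injective _), hCu] at h1
    exact h1
  have hDdvd3 : Nat.card D ∣ 3 := by
    have := Nat.dvd_gcd hDdvd27 hDdvd6
    norm_num at this
    exact this
  have := Nat.le_of_dvd (by norm_num) hDdvd3
  omega

end C

end Cfsg.Agent.Helper26.L33
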