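import Mathlib
import Cfsg.Agent.Lib.Helper26.L33Defs

/-!
# S2916 piece C4C (helper28): `|K| = 3^j`, `K ≤ G` of order `5616`, `u ∈ K` of order 3,
`|K| ≠ 3, 9`  ⟹  `|K| = 27`.
-/

set_option autoImplicit false

namespace Cfsg.Agent.Helper26.L33

universe u v

section C

variable {G : Type u} [Group G] [Finite G] [IsSimpleGroup G]

theorem cfg2_of_cfg1 {t u s : G} {K : Subgroup G} (h : Cfg1 G t u s K) (h3 : Nat.card K ≠ 3)
    (h9 : Nat.card K ≠ 9) : Cfg2 G t u s K := by
  obtain ⟨j, hj⟩ := h.cardK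
  have hdvd : Nat.card K ∣ Nat.card G := Subgroup.card_subgroup_dvd_card K
  rw [h.card, hj] at hdvd
  have hj3 : j ≤ 3 := by
    by_contra hlt
    have hlt' : 4 ≤ j := by omega
    have h81 : 3 ^ 4 ∣ 5616 := dvd_trans (pow_dvd_pow 3 hlt') hdvd
    norm_num at h81
  have h3dvd : 3 ∣ Nat.card K := by
    have h1 := orderOf_dvd_natCard (⟨u, h.uK⟩ : K)
    rw [Subgroup.orderOf_mk, h.ou] at h1
    exact h1
  have h27 : Nat.card K = 27 := by
    interval_cases j
    · rw [hj] at h3dvd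
      norm_num at h3dvd
    · exact absurd hj (by simpa using h3)
    · exact absurd hj (by simpa using h9)
    · rw [hj]; norm_num
  exact ⟨h, h27⟩

end C

end Cfsg.Agent.Helper26.L33
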