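import Mathlib
import Cfsg.Agent.Lib.Helper26.L33Defs
import Cfsg.Agent.Lib.Helper15.GL23Defs

/-!
# S2916 piece C0 (helper28): unpack `HFacts.three` inside `C(t)` into `Cfg G t u s`.
-/

set_option autoImplicit false

namespace Cfsg.Agent.Helper26.L33

open Cfsg Cfsg.Agent.Helper15.GL23

universe u v

section C

variable {G : Type u} [Group G] [Finite G] [IsSimpleGroup G]

theorem exists_cfg (hcard : Nat.card G = 5616) (t : G) (ht : orderOf t = 2)
    (hL : Like (Subgroup.centralizer ({t} : Set G)) (tC t))
    (hF : HFacts (Subgroup.centralizer ({t} : Set G)))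
    (h1 : ∀ x : G, orderOf x = 2 → IsConj t x) : ∃ u s : G, Cfg G t u s := by
  obtain ⟨u, hu, hconj, hcent, s, hs, hsu⟩ := hF.three
  have hut : t * (u : G) = (u : G) * t := by
    have := u.2
    rw [Subgroup.mem_centralizer_singleton_iff] at this
    exact this.symm
  have hst : t * (s : G) = (s : G) * t := by
    have := s.2
    rw [Subgroup.mem_centralizer_singleton_iff] at this
    exact this.symm
  refine ⟨(u : G), (s : G), ?_⟩
  refine
    { card := hcard
      ot := ht
      ou := by rw [Subgroup.orderOf_coe]; exact hu
      os := by rw [Subgroup.orderOf_coe]; exact hs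
      tu := hut
      ts := hst
      su := ?_
      cardC := hL.card
      cardCu := ?_
      one_class := h1
      three := ?_ }
  · have := congrArg Subtype.val hsu
    simpa using this
  · rw [← hcent]
    refine Nat.card_congr ?_
    refine
      { toFun := fun x => ⟨⟨x.1, (Subgroup.mem_inf.mp x.2).1⟩, ?_⟩
        invFun := fun y => ⟨y.1.1, ?_⟩
        left_inv := ?_
        right_inv := ?_ }
    · have hx := (Subgroup.mem_inf.mp x.2).2
      rw [Subgroup.mem_centralizer_singleton_iff] at hx ⊢
      apply Subtype.ext
      simpa using hx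
    · refine Subgroup.mem_inf.mpr ⟨y.1.2, ?_⟩
      have hy := y.2
      rw [Subgroup.mem_centralizer_singleton_iff] at hy ⊢
      have := congrArg Subtype.val hy
      simpa using this
    · intro x
      rfl
    · intro y
      rfl
  · intro x hx hxt
    have hxC : x ∈ Subgroup.centralizer ({t} : Set G) := by
      rw [Subgroup.mem_centralizer_singleton_iff]
      exact hxt.symm
    have hx' : orderOf (⟨x, hxC⟩ : Subgroup.centralizer ({t} : Set G)) = 3 := by
      rw [← Subgroup.orderOf_coe]
      exact hx
    obtain ⟨c, hc⟩ := isConj_iff.mp (hconj _ hx')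
    refine ⟨(c : G), ?_, ?_⟩
    · have := c.2
      rw [Subgroup.mem_centralizer_singleton_iff] at this
      exact this
    · have := congrArg Subtype.val hc
      simpa using this

end C

end Cfsg.Agent.Helper26.L33
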