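import Mathlib
import Cfsg.Agent.Lib.Helper26.L33Defs

/-!
# S2916 piece HF2 (helper28): transport of `HFacts` along a group isomorphism.
-/

set_option autoImplicit false

namespace Cfsg.Agent.Helper26.L33

universe u v

namespace HF2

/-- the centralizers of `u` and of `e u` are in bijection -/
theorem hf2_card_centralizer {H : Type u} {H' : Type v} [Group H] [Group H'] (e : H ≃* H') (u : H) :
    Nat.card (Subgroup.centralizer ({e u} : Set H')) = Nat.card (Subgroup.centralizer ({u} : Set H)) := by
  refine Nat.card_congr ?_
  refine
    { toFun := fun x => ⟨e.symm x.1, ?_⟩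
      invFun := fun y => ⟨e y.1, ?_⟩
      left_inv := ?_
      right_inv := ?_ }
  · have hx := x.2
    rw [Subgroup.mem_centralizer_iff] at hx ⊢
    intro y hy
    rw [Set.mem_singleton_iff] at hy
    subst hy
    have h1 := hx (e y) (Set.mem_singleton _)
    have h2 := congrArg e.symm h1
    simpa using h2
  · have hy := y.2
    rw [Subgroup.mem_centralizer_iff] at hy ⊢
    intro z hz
    rw [Set.mem_singleton_iff] at hz
    subst hz
    have h1 := hy u (Set.mem_singleton _)
    have h2 := congrArg e h1
    simpa using h2
  · intro x
    apply Subtype.ext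
    simp
  · intro y
    apply Subtype.ext
    simp

end HF2

theorem HFacts.of_equiv {H : Type u} {H' : Type v} [Group H] [Group H'] (e : H ≃* H') (h : HFacts H) :
    HFacts H' := by
  refine ⟨?_, ?_, ?_, ?_⟩
  · obtain ⟨M, hMn, hMi⟩ := h.index_two
    refine ⟨M.map e.toMonoidHom, hMn.map _ e.surjective, ?_⟩
    rw [Subgroup.index_map_of_bijective e.bijective]
    exact hMi
  · intro M' hM' hodd
    have hcard : Nat.card (M'.comap e.toMonoidHom) = Nat.card M' := by
      refine Nat.card_congr ?_
      refine
        { toFun := fun x => ⟨e x.1, x.2⟩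
          invFun := fun y => ⟨e.symm y.1, ?_⟩
          left_inv := ?_
          right_inv := ?_ }
      · rw [Subgroup.mem_comap]
        simpa using y.2
      · intro x
        apply Subtype.ext
        simp
      · intro y
        apply Subtype.ext
        simp
    have hbot := h.odd_normal (M'.comap e.toMonoidHom) (hM'.comap _) (by rw [hcard]; exact hodd)
    rw [Subgroup.eq_bot_iff_forall]
    intro x hx
    have hmem : e.symm x ∈ M'.comap e.toMonoidHom := by
      rw [Subgroup.mem_comap]
      simpa using hx
    rw [hbot, Subgroup.mem_bot] at hmem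
    have := congrArg e hmem
    simpa using this
  · have h1 := h.gen_invol
    have h2 : (Subgroup.closure {x : H | orderOf x = 2}).map e.toMonoidHom = ⊤ := by
      rw [h1]
      exact Subgroup.map_top_of_surjective _ e.surjective
    rw [MonoidHom.map_closure] at h2
    rw [← h2]
    congr 1
    ext x'
    constructor
    · intro hx'
      refine ⟨e.symm x', ?_, by simp⟩
      show orderOf (e.symm x') = 2
      rw [MulEquiv.orderOf_eq]
      exact hx'
    · rintro ⟨x, hx, rfl⟩
      show orderOf (e x) = 2
      rw [MulEquiv.orderOf_eq]
      exact hx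
  · obtain ⟨u, hu, hconj, hcard, s, hs, hsu⟩ := h.three
    refine ⟨e u, ?_, ?_, ?_, e s, ?_, ?_⟩
    · rw [MulEquiv.orderOf_eq]; exact hu
    · intro x' hx'
      have hx : orderOf (e.symm x') = 3 := by rw [MulEquiv.orderOf_eq]; exact hx'
      have hc := hconj _ hx
      have hc' := (e.toMonoidHom).map_isConj hc
      simpa using hc'
    · rw [HF2.hf2_card_centralizer]; exact hcard
    · rw [MulEquiv.orderOf_eq]; exact hs
    · rw [← map_inv, ← map_mul, ← map_mul, hsu, map_inv]

end Cfsg.Agent.Helper26.L33
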