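import Mathlib

/-!
# S3431 piece NSE0A6 (helper28): the set of order-class sizes of `A₆` is `{1, 45, 80, 90, 144}`.
-/

set_option autoImplicit false

namespace Cfsg.Agent.Helper26.NSE

namespace NSE0A6

/-- counting the elements of order `m` of `A₆` through a decidable description of "order `m`" -/
theorem card_eq (m : ℕ) (P : Equiv.Perm (Fin 6) → Prop) [DecidablePred P]
    (hP : ∀ g : Equiv.Perm (Fin 6), orderOf g = m ↔ P g) :
    Nat.card {g : ↥(alternatingGroup (Fin 6)) // orderOf g = m} =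
      (Finset.univ.filter (fun g : Equiv.Perm (Fin 6) => Equiv.Perm.sign g = 1 ∧ P g)).card := by
  classical
  rw [← Fintype.card_coe, ← Nat.card_eq_fintype_card]
  apply Nat.card_congr
  refine ⟨fun g => ⟨g.1.1, ?_⟩, fun g => ⟨⟨g.1, ?_⟩, ?_⟩, ?_, ?_⟩
  · rw [Finset.mem_filter]
    refine ⟨Finset.mem_univ _, Equiv.Perm.mem_alternatingGroup.mp g.1.2, (hP _).mp ?_⟩
    rw [Subgroup.orderOf_coe]
    exact g.2
  · exact Equiv.Perm.mem_alternatingGroup.mpr (Finset.mem_filter.mp g.2).2.1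
  · rw [← Subgroup.orderOf_coe]
    exact (hP _).mpr (Finset.mem_filter.mp g.2).2.2
  · intro g
    rfl
  · intro g
    rfl

theorem order_one (g : Equiv.Perm (Fin 6)) : orderOf g = 1 ↔ g = 1 := orderOf_eq_one_iff

theorem order_prime (p : ℕ) (hp : p.Prime) (g : Equiv.Perm (Fin 6)) :
    orderOf g = p ↔ (g ^ p = 1 ∧ g ≠ 1) := by
  constructor
  · intro h
    refine ⟨by rw [← h]; exact pow_orderOf_eq_one g, ?_⟩
    rintro rfl
    rw [orderOf_one] at h
    exact hp.one_lt.ne h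
  · rintro ⟨h1, h2⟩
    haveI := Fact.mk hp
    exact orderOf_eq_prime h1 h2

theorem order_four (g : Equiv.Perm (Fin 6)) : orderOf g = 4 ↔ (g ^ 4 = 1 ∧ g ^ 2 ≠ 1) := by
  constructor
  · intro h
    refine ⟨by rw [← h]; exact pow_orderOf_eq_one g, ?_⟩
    intro h2
    have := orderOf_dvd_of_pow_eq_one h2
    rw [h] at this
    omega
  · rintro ⟨h1, h2⟩
    have := orderOf_eq_prime_pow (x := g) (p := 2) (n := 1) (by simpa using h2) (by simpa using h1)
    simpa using this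

set_option maxRecDepth 100000 in
theorem all_orders : ∀ g : Equiv.Perm (Fin 6), Equiv.Perm.sign g = 1 →
    g = 1 ∨ (g ^ 2 = 1 ∧ g ≠ 1) ∨ (g ^ 3 = 1 ∧ g ≠ 1) ∨ (g ^ 4 = 1 ∧ g ^ 2 ≠ 1) ∨
      (g ^ 5 = 1 ∧ g ≠ 1) := by
  decide +kernel

set_option maxRecDepth 100000 in
theorem c1 : (Finset.univ.filter (fun g : Equiv.Perm (Fin 6) =>
    Equiv.Perm.sign g = 1 ∧ g = 1)).card = 1 := by
  decide +kernel

set_option maxRecDepth 100000 in
theorem c2 : (Finset.univ.filter (fun g : Equiv.Perm (Fin 6) =>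
    Equiv.Perm.sign g = 1 ∧ (g ^ 2 = 1 ∧ g ≠ 1))).card = 45 := by
  decide +kernel

set_option maxRecDepth 100000 in
theorem c3 : (Finset.univ.filter (fun g : Equiv.Perm (Fin 6) =>
    Equiv.Perm.sign g = 1 ∧ (g ^ 3 = 1 ∧ g ≠ 1))).card = 80 := by
  decide +kernel

set_option maxRecDepth 100000 in
theorem c4 : (Finset.univ.filter (fun g : Equiv.Perm (Fin 6) =>
    Equiv.Perm.sign g = 1 ∧ (g ^ 4 = 1 ∧ g ^ 2 ≠ 1))).card = 90 := by
  decide +kernel

set_option maxRecDepth 100000 in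
theorem c5 : (Finset.univ.filter (fun g : Equiv.Perm (Fin 6) =>
    Equiv.Perm.sign g = 1 ∧ (g ^ 5 = 1 ∧ g ≠ 1))).card = 144 := by
  decide +kernel

/-- the number of elements of order `m` of `A₆` -/
noncomputable abbrev cnt (m : ℕ) : ℕ := Nat.card {g : ↥(alternatingGroup (Fin 6)) // orderOf g = m}

theorem cnt1 : cnt 1 = 1 := (card_eq 1 _ order_one).trans c1
theorem cnt2 : cnt 2 = 45 := (card_eq 2 _ (order_prime 2 Nat.prime_two)).trans c2
theorem cnt3 : cnt 3 = 80 := (card_eq 3 _ (order_prime 3 Nat.prime_three)).trans c3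
theorem cnt4 : cnt 4 = 90 := (card_eq 4 _ order_four).trans c4
theorem cnt5 : cnt 5 = 144 := (card_eq 5 _ (order_prime 5 Nat.prime_five)).trans c5

/-- every element of `A₆` has order `1, 2, 3, 4` or `5` -/
theorem order_mem (g : ↥(alternatingGroup (Fin 6))) :
    orderOf g = 1 ∨ orderOf g = 2 ∨ orderOf g = 3 ∨ orderOf g = 4 ∨ orderOf g = 5 := by
  rw [← Subgroup.orderOf_coe]
  rcases all_orders g.1 (Equiv.Perm.mem_alternatingGroup.mp g.2) with h | h | h | h | h
  · exact Or.inl ((order_one _).mpr h)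
  · exact Or.inr (Or.inl ((order_prime 2 Nat.prime_two _).mpr h))
  · exact Or.inr (Or.inr (Or.inl ((order_prime 3 Nat.prime_three _).mpr h)))
  · exact Or.inr (Or.inr (Or.inr (Or.inl ((order_four _).mpr h))))
  · exact Or.inr (Or.inr (Or.inr (Or.inr ((order_prime 5 Nat.prime_five _).mpr h))))

/-- an order that is attained: a positive count gives an element -/
theorem exists_of_cnt (m : ℕ) (h : cnt m ≠ 0) :
    m ∈ Set.range (orderOf : ↥(alternatingGroup (Fin 6)) → ℕ) := by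
  have h' : Nat.card {g : ↥(alternatingGroup (Fin 6)) // orderOf g = m} ≠ 0 := h
  have hne : Nonempty {g : ↥(alternatingGroup (Fin 6)) // orderOf g = m} := by
    by_contra hcon
    rw [not_nonempty_iff] at hcon
    exact h' Nat.card_of_isEmpty
  obtain ⟨g, hg⟩ := hne
  exact ⟨g, hg⟩

end NSE0A6

open NSE0A6 in
/-- PIECE NSE0A6. -/
theorem nse_A6 : ((fun m : ℕ => Nat.card {g : ↥(alternatingGroup (Fin 6)) // orderOf g = m}) ''
    Set.range (orderOf : ↥(alternatingGroup (Fin 6)) → ℕ)) = {1, 45, 80, 90, 144} := by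
  ext v
  simp only [Set.mem_image, Set.mem_range, Set.mem_insert_iff, Set.mem_singleton_iff]
  constructor
  · rintro ⟨m, ⟨g, rfl⟩, rfl⟩
    rcases order_mem g with h | h | h | h | h <;> rw [h]
    · exact Or.inl cnt1
    · exact Or.inr (Or.inl cnt2)
    · exact Or.inr (Or.inr (Or.inl cnt3))
    · exact Or.inr (Or.inr (Or.inr (Or.inl cnt4)))
    · exact Or.inr (Or.inr (Or.inr (Or.inr cnt5)))
  · rintro (rfl | rfl | rfl | rfl | rfl)
    · exact ⟨1, exists_of_cnt 1 (by rw [cnt1]; norm_num), cnt1⟩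
    · exact ⟨2, exists_of_cnt 2 (by rw [cnt2]; norm_num), cnt2⟩
    · exact ⟨3, exists_of_cnt 3 (by rw [cnt3]; norm_num), cnt3⟩
    · exact ⟨4, exists_of_cnt 4 (by rw [cnt4]; norm_num), cnt4⟩
    · exact ⟨5, exists_of_cnt 5 (by rw [cnt5]; norm_num), cnt5⟩

end Cfsg.Agent.Helper26.NSE
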