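import Mathlib
import Cfsg.Prelude.Def_Local
import Cfsg.Prelude.Def_Transfer
import Cfsg.Agent.Lib.Helper26.TIDefs2
import Cfsg.Agent.Lib.Helper26.TIDefs3
import Cfsg.Agent.Lib.Helper7.FStar

/-!
# S1786, piece TI-LOCS (proof doc G2e): `C_{C(V)}(P) ≤ V` from `F*(M) = Q`.

`tilocs_core` is the statement of `locS_self` with the skeleton abbreviations `Qs V`, `Ps V` written out
(`Q = (pCore 2 ↥N(V)).map N(V).subtype`, `P = Q ⊓ C(V)`).
-/

set_option autoImplicit false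

namespace Cfsg.Agent.Helper26.TI

variable {G : Type*} [Group G]

/-- `y x y⁻¹ = v x`, `y` commutes with `v` ⟹ `y^n x y^{-n} = v^n x`. -/
theorem tilocs_pow_conj {y x v : G} (hyx : y * x * y⁻¹ = v * x) (hyv : y * v = v * y) (n : ℕ) :
    y ^ n * x * (y ^ n)⁻¹ = v ^ n * x := by
  induction n with
  | zero => simp
  | succ n ih =>
    have hc : y * v ^ n = v ^ n * y := (Commute.pow_right (show Commute y v from hyv) n).eq
    calc y ^ (n + 1) * x * (y ^ (n + 1))⁻¹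
        = y * (y ^ n * x * (y ^ n)⁻¹) * y⁻¹ := by
          rw [pow_succ']; simp [mul_assoc]
      _ = y * (v ^ n * x) * y⁻¹ := by rw [ih]
      _ = (y * v ^ n) * x * y⁻¹ := by simp [mul_assoc]
      _ = v ^ n * (y * x * y⁻¹) := by rw [hc]; simp [mul_assoc]
      _ = v ^ n * (v * x) := by rw [hyx]
      _ = v ^ (n + 1) * x := by rw [pow_succ]; simp [mul_assoc]

/-- an element of exponent 2 killed by an odd power is trivial. -/
theorem tilocs_eq_one_of_odd {v : G} (h2 : v ^ 2 = 1) {k : ℕ} (hk : Odd k) (hvk : v ^ k = 1) : v = 1 := by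
  obtain ⟨m, rfl⟩ := hk
  rw [pow_succ, pow_mul, h2, one_pow, one_mul] at hvk
  exact hvk

theorem tilocs_core [Finite G] (V : Subgroup G) (hV : Cfsg.IsElementaryAbelian 2 V)
    (h1 : (Cfsg.generalizedFittingSubgroup ↥(Subgroup.normalizer (V : Set G))).map
        (Subgroup.normalizer (V : Set G)).subtype =
      (Cfsg.pCore 2 ↥(Subgroup.normalizer (V : Set G))).map (Subgroup.normalizer (V : Set G)).subtype)
    (hZ : ∀ x ∈ ((Cfsg.pCore 2 ↥(Subgroup.normalizer (V : Set G))).map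
          (Subgroup.normalizer (V : Set G)).subtype) ⊓ Subgroup.centralizer (V : Set G),
      (∀ y ∈ ((Cfsg.pCore 2 ↥(Subgroup.normalizer (V : Set G))).map
          (Subgroup.normalizer (V : Set G)).subtype) ⊓ Subgroup.centralizer (V : Set G),
        x * y = y * x) → x ∈ V) :
    ∀ c : G, (∀ v ∈ V, c * v = v * c) →
      (∀ x ∈ ((Cfsg.pCore 2 ↥(Subgroup.normalizer (V : Set G))).map
          (Subgroup.normalizer (V : Set G)).subtype) ⊓ Subgroup.centralizer (V : Set G),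
        c * x = x * c) → c ∈ V := by
  classical
  set M : Subgroup G := Subgroup.normalizer (V : Set G) with hM
  set Q0 : Subgroup ↥M := Cfsg.pCore 2 ↥M with hQ0
  set Q : Subgroup G := Q0.map M.subtype with hQ
  set P : Subgroup G := Q ⊓ Subgroup.centralizer (V : Set G) with hP
  -- basic facts on `Q0`
  have hQ0n : Q0.Normal := Subgroup.sSup_normal _ (fun K hK => hK.1)
  have hQ0p : IsPGroup 2 Q0 := Sylow.sSup_of_normal _ (fun _ h => h.2) (fun _ h => h.1)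
  have hFQ : Cfsg.generalizedFittingSubgroup ↥M = Q0 :=
    Subgroup.map_injective M.subtype_injective h1
  -- membership in `M`
  have hMmem : ∀ m : G, m ∈ M ↔ ∀ v : G, v ∈ V ↔ m * v * m⁻¹ ∈ V := fun m =>
    Subgroup.mem_normalizer_iff
  have hMV : ∀ m ∈ M, ∀ v ∈ V, m * v * m⁻¹ ∈ V := fun m hm v hv => ((hMmem m).1 hm v).1 hv
  have hMV' : ∀ m ∈ M, ∀ v ∈ V, m⁻¹ * v * m ∈ V := fun m hm v hv => by
    have := hMV m⁻¹ (M.inv_mem hm) v hv
    simpa using this
  -- membership in `Q`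
  have hQmem : ∀ x : G, x ∈ Q ↔ ∃ hx : x ∈ M, (⟨x, hx⟩ : ↥M) ∈ Q0 := by
    intro x
    constructor
    · rintro ⟨z, hz, rfl⟩
      exact ⟨z.2, hz⟩
    · rintro ⟨hx, hz⟩
      exact ⟨⟨x, hx⟩, hz, rfl⟩
  have hQM : Q ≤ M := fun x hx => ((hQmem x).1 hx).1
  -- centralizer of `V`
  have hCmem : ∀ x : G, x ∈ Subgroup.centralizer (V : Set G) ↔ ∀ v ∈ V, x * v = v * x := by
    intro x
    rw [Subgroup.mem_centralizer_iff]
    constructor
    · intro h v hv; exact (h v hv).symm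
    · intro h v hv; exact (h v hv).symm
  have hCM : ∀ x : G, (∀ v ∈ V, x * v = v * x) → x ∈ M := by
    intro x hx
    exact Subgroup.centralizer_le_normalizer (V : Set G) ((hCmem x).2 hx)
  -- normalisation facts
  have N1 : ∀ m ∈ M, ∀ x ∈ Q, m * x * m⁻¹ ∈ Q := by
    intro m hm x hx
    obtain ⟨hxM, hx0⟩ := (hQmem x).1 hx
    rw [hQmem]
    refine ⟨M.mul_mem (M.mul_mem hm hxM) (M.inv_mem hm), ?_⟩
    have := hQ0n.conj_mem ⟨x, hxM⟩ hx0 ⟨m, hm⟩
    exact this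
  have N2 : ∀ m ∈ M, ∀ x : G, (∀ v ∈ V, x * v = v * x) → ∀ v ∈ V, (m * x * m⁻¹) * v = v * (m * x * m⁻¹) := by
    intro m hm x hx v hv
    have hw := hMV' m hm v hv
    have e := hx _ hw
    calc m * x * m⁻¹ * v = m * (x * (m⁻¹ * v * m)) * m⁻¹ := by simp [mul_assoc]
      _ = m * ((m⁻¹ * v * m) * x) * m⁻¹ := by rw [e]
      _ = v * (m * x * m⁻¹) := by simp [mul_assoc]
  have N3 : ∀ m ∈ M, ∀ x ∈ P, m * x * m⁻¹ ∈ P := by
    intro m hm x hx
    refine ⟨N1 m hm x hx.1, ?_⟩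
    exact (hCmem _).2 (N2 m hm x ((hCmem x).1 hx.2))
  -- the predicate `Y`
  let Yp : G → Prop := fun y => (∀ v ∈ V, y * v = v * y) ∧ (∀ x ∈ P, y * x = x * y)
  have hYM : ∀ y, Yp y → y ∈ M := fun y hy => hCM y hy.1
  have hY1 : Yp 1 := ⟨fun v _ => by simp, fun x _ => by simp⟩
  have hYmul : ∀ a b, Yp a → Yp b → Yp (a * b) := by
    intro a b ha hb
    refine ⟨fun v hv => ?_, fun x hx => ?_⟩
    · rw [mul_assoc, hb.1 v hv, ← mul_assoc, ha.1 v hv, mul_assoc]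
    · rw [mul_assoc, hb.2 x hx, ← mul_assoc, ha.2 x hx, mul_assoc]
  have hYinv : ∀ a, Yp a → Yp a⁻¹ := by
    intro a ha
    refine ⟨fun v hv => ?_, fun x hx => ?_⟩
    · have := ha.1 v hv
      calc a⁻¹ * v = a⁻¹ * (v * a) * a⁻¹ := by simp [mul_assoc]
        _ = a⁻¹ * (a * v) * a⁻¹ := by rw [this]
        _ = v * a⁻¹ := by simp
    · have := ha.2 x hx
      calc a⁻¹ * x = a⁻¹ * (x * a) * a⁻¹ := by simp [mul_assoc]
        _ = a⁻¹ * (a * x) * a⁻¹ := by rw [this]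
        _ = x * a⁻¹ := by simp
  have hYpow : ∀ a, Yp a → ∀ n : ℕ, Yp (a ^ n) := by
    intro a ha n
    induction n with
    | zero => simpa using hY1
    | succ n ih => rw [pow_succ]; exact hYmul _ _ ih ha
  have hYconj : ∀ m ∈ M, ∀ y, Yp y → Yp (m * y * m⁻¹) := by
    intro m hm y hy
    refine ⟨N2 m hm y hy.1, ?_⟩
    intro x hx
    have hw : m⁻¹ * x * m ∈ P := by
      have := N3 m⁻¹ (M.inv_mem hm) x hx
      simpa using this
    have e := hy.2 _ hw
    calc m * y * m⁻¹ * x = m * (y * (m⁻¹ * x * m)) * m⁻¹ := by simp [mul_assoc]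
      _ = m * ((m⁻¹ * x * m) * y) * m⁻¹ := by rw [e]
      _ = x * (m * y * m⁻¹) := by simp [mul_assoc]
  -- (b) `Y ∩ Q ≤ V`
  have hB : ∀ y, Yp y → y ∈ Q → y ∈ V := by
    intro y hy hyQ
    have hyP : y ∈ P := ⟨hyQ, (hCmem y).2 hy.1⟩
    exact hZ y hyP (fun z hz => hy.2 z hz)
  -- (c) commutators of `Y` with `Q` lie in `V`
  have hC : ∀ y, Yp y → ∀ x ∈ Q, y * x * y⁻¹ * x⁻¹ ∈ V := by
    intro y hy x hx
    apply hB
    · have h2 : Yp (x * y⁻¹ * x⁻¹) := hYconj x (hQM hx) _ (hYinv y hy)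
      have := hYmul _ _ hy h2
      have e : y * (x * y⁻¹ * x⁻¹) = y * x * y⁻¹ * x⁻¹ := by simp [mul_assoc]
      rwa [e] at this
    · exact Q.mul_mem (N1 y (hYM y hy) x hx) (Q.inv_mem hx)
  -- (d) odd elements of `Y` centralize `Q`
  have hD : ∀ y, Yp y → ∀ k : ℕ, Odd k → y ^ k = 1 → ∀ x ∈ Q, y * x = x * y := by
    intro y hy k hk hyk x hx
    set v := y * x * y⁻¹ * x⁻¹ with hv
    have hvV : v ∈ V := hC y hy x hx
    have hyx : y * x * y⁻¹ = v * x := by rw [hv]; simp [mul_assoc]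
    have hyv : y * v = v * y := hy.1 v hvV
    have h := tilocs_pow_conj hyx hyv k
    rw [hyk] at h
    have hvk : v ^ k = 1 := by
      have : v ^ k * x = 1 * x := by rw [← h]; simp
      exact mul_right_cancel this
    have hv1 : v = 1 := tilocs_eq_one_of_odd (hV.2 v hvV) hk hvk
    rw [hv1, one_mul] at hyx
    calc y * x = y * x * y⁻¹ * y := by simp [mul_assoc]
      _ = x * y := by rw [hyx]
  -- (e) odd elements of `Y` are trivial
  have hE : ∀ y, Yp y → ∀ k : ℕ, Odd k → y ^ k = 1 → y = 1 := by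
    intro y hy k hk hyk
    have hyM : y ∈ M := hYM y hy
    have hcent : (⟨y, hyM⟩ : ↥M) ∈ Subgroup.centralizer
        ((Cfsg.generalizedFittingSubgroup ↥M : Subgroup ↥M) : Set ↥M) := by
      rw [Subgroup.mem_centralizer_iff]
      intro z hz
      rw [SetLike.mem_coe, hFQ] at hz
      have hzQ : (z : G) ∈ Q := ⟨z, hz, rfl⟩
      have := hD y hy k hk hyk (z : G) hzQ
      exact Subtype.ext this.symm
    have hyF := Cfsg.Agent.Helper7.centralizer_generalizedFittingSubgroup_le hcent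
    rw [hFQ] at hyF
    obtain ⟨b, hb⟩ := hQ0p ⟨⟨y, hyM⟩, hyF⟩
    have hb' : y ^ (2 ^ b) = 1 := by
      have := congrArg (fun z : ↥Q0 => ((z : ↥M) : G)) hb
      simpa using this
    have hco : Nat.Coprime (2 ^ b) k := by
      apply Nat.Coprime.pow_left
      rcases hk with ⟨m, rfl⟩
      simp
    have h1' := orderOf_dvd_of_pow_eq_one hb'
    have h2' := orderOf_dvd_of_pow_eq_one hyk
    have h3 : orderOf y ∣ 1 := by
      have := Nat.dvd_gcd h1' h2'
      rwa [hco] at this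
    exact orderOf_eq_one_iff.mp (Nat.dvd_one.mp h3)
  -- (f) `Y` is a 2-group, hence inside `Q`
  let Y0 : Subgroup ↥M :=
    { carrier := {y | Yp (y : G)}
      one_mem' := hY1
      mul_mem' := fun {a b} ha hb => hYmul _ _ ha hb
      inv_mem' := fun {a} ha => hYinv _ ha }
  have hY0n : Y0.Normal := ⟨fun y hy m => hYconj (m : G) m.2 (y : G) hy⟩
  have hY0p : IsPGroup 2 Y0 := by
    rintro ⟨⟨y, hyM⟩, hy⟩
    have hy' : Yp y := hy
    have hpos : 0 < orderOf y := orderOf_pos y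
    obtain ⟨a, k, hk, hak⟩ := Nat.exists_eq_two_pow_mul_odd hpos.ne'
    refine ⟨a, ?_⟩
    have hz : Yp (y ^ (2 ^ a)) := hYpow y hy' _
    have hzk : (y ^ (2 ^ a)) ^ k = 1 := by
      rw [← pow_mul, ← hak, pow_orderOf_eq_one]
    have := hE _ hz k hk hzk
    apply Subtype.ext
    apply Subtype.ext
    simpa using this
  have hY0Q : Y0 ≤ Q0 := le_sSup ⟨hY0n, hY0p⟩
  -- conclusion
  intro c hcV hcP
  have hcY : Yp c := ⟨hcV, hcP⟩
  have hcM : c ∈ M := hYM c hcY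
  have hcQ0 : (⟨c, hcM⟩ : ↥M) ∈ Q0 := hY0Q (show (⟨c, hcM⟩ : ↥M) ∈ Y0 from hcY)
  exact hB c hcY ⟨⟨c, hcM⟩, hcQ0, rfl⟩

/-- TI-LOCS: `C_{C(V)}(P) ≤ V` from `F*(M) = Q` (h1). -/
theorem locS_self [Finite G] (V : Subgroup G) (hV : Cfsg.IsElementaryAbelian 2 V)
    (h1 : (Cfsg.generalizedFittingSubgroup ↥(Subgroup.normalizer (V : Set G))).map
        (Subgroup.normalizer (V : Set G)).subtype =
      (Cfsg.pCore 2 ↥(Subgroup.normalizer (V : Set G))).map (Subgroup.normalizer (V : Set G)).subtype)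
    (hZ : ∀ x ∈ Ps V, (∀ y ∈ Ps V, x * y = y * x) → x ∈ V) :
    ∀ c : G, (∀ v ∈ V, c * v = v * c) → (∀ x ∈ Ps V, c * x = x * c) → c ∈ V :=
  tilocs_core V hV h1 hZ

end Cfsg.Agent.Helper26.TI
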