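import Mathlib
import Cfsg.Agent.Lib.Helper9.FrattiniElem
import Cfsg.Agent.S0012

/-!
# S1786, piece TI-QSTRUCT, core: `Phi(Q) = Z(Q) = [Q,Q] = V` for a finite 2-group `Q ≥ V` with
`V` central, `Z(Q) ≤ V`, commutators and squares of `Q` in `V`, and every element of `V` a commutator.
-/

set_option autoImplicit false

namespace Cfsg.Agent.Helper26.TI

open scoped commutatorElement

variable {G : Type*} [Group G]

theorem tiqstruct_center (V Q : Subgroup G) (hVQ : V ≤ Q)
    (hcent : ∀ x ∈ Q, ∀ v ∈ V, x * v = v * x)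
    (hcenter : ∀ x ∈ Q, (∀ y ∈ Q, x * y = y * x) → x ∈ V) :
    (Subgroup.center ↥Q).map Q.subtype = V := by
  ext z
  constructor
  · rintro ⟨w, hw, rfl⟩
    apply hcenter _ w.2
    intro y hy
    have := (Subgroup.mem_center_iff.1 hw) ⟨y, hy⟩
    exact (congrArg Subtype.val this).symm
  · intro hz
    refine ⟨⟨z, hVQ hz⟩, ?_, rfl⟩
    rw [SetLike.mem_coe, Subgroup.mem_center_iff]
    intro g
    exact Subtype.ext (hcent g g.2 z hz)

theorem tiqstruct_commutator (V Q : Subgroup G)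
    (hcomm : ∀ x ∈ Q, ∀ y ∈ Q, x * y * x⁻¹ * y⁻¹ ∈ V)
    (hsurj : ∀ v ∈ V, ∃ x ∈ Q, ∃ y ∈ Q, x * y * x⁻¹ * y⁻¹ = v) :
    (commutator ↥Q).map Q.subtype = V := by
  apply le_antisymm
  · rw [Subgroup.map_le_iff_le_comap, commutator_def, Subgroup.commutator_le]
    intro a _ b _
    rw [Subgroup.mem_comap, commutatorElement_def]
    simpa using hcomm a a.2 b b.2
  · intro v hv
    obtain ⟨x, hx, y, hy, rfl⟩ := hsurj v hv
    refine ⟨⁅(⟨x, hx⟩ : ↥Q), (⟨y, hy⟩ : ↥Q)⁆, ?_, ?_⟩
    · rw [commutator_def]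
      exact Subgroup.commutator_mem_commutator (Subgroup.mem_top _) (Subgroup.mem_top _)
    · rw [commutatorElement_def]; simp

theorem tiqstruct_frattini [Finite G] (V Q : Subgroup G) (hQp : IsPGroup 2 Q)
    (hcent : ∀ x ∈ Q, ∀ v ∈ V, x * v = v * x)
    (hcomm : ∀ x ∈ Q, ∀ y ∈ Q, x * y * x⁻¹ * y⁻¹ ∈ V)
    (hsq : ∀ x ∈ Q, x * x ∈ V)
    (hsurj : ∀ v ∈ V, ∃ x ∈ Q, ∃ y ∈ Q, x * y * x⁻¹ * y⁻¹ = v) :
    (frattini ↥Q).map Q.subtype = V := by
  have : Fact (Nat.Prime 2) := ⟨Nat.prime_two⟩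
  apply le_antisymm
  · -- `Q / V` is elementary abelian
    have hn : (V.subgroupOf Q).Normal := by
      refine ⟨fun n hn g => ?_⟩
      rw [Subgroup.mem_subgroupOf] at hn ⊢
      have e : ((g * n * g⁻¹ : ↥Q) : G) = (n : G) := by
        have := hcent g g.2 n hn
        simp only [Subgroup.coe_mul, Subgroup.coe_inv]
        rw [this]; simp
      rw [e]; exact hn
    have hker : frattini ↥Q ≤ (QuotientGroup.mk' (V.subgroupOf Q)).ker := by
      apply Cfsg.Agent.Helper9.frattini_le_ker_of_elementary (p := 2)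
      · intro a b
        induction a using QuotientGroup.induction_on with
        | H a =>
          induction b using QuotientGroup.induction_on with
          | H b =>
            rw [← QuotientGroup.mk_mul, ← QuotientGroup.mk_mul, QuotientGroup.eq]
            rw [Subgroup.mem_subgroupOf]
            have h1 := hcomm (b⁻¹ : ↥Q) (b⁻¹ : ↥Q).2 (a⁻¹ : ↥Q) (a⁻¹ : ↥Q).2
            have e : (((a * b)⁻¹ * (b * a) : ↥Q) : G)
                = ((b⁻¹ : ↥Q) : G) * ((a⁻¹ : ↥Q) : G) * ((b⁻¹ : ↥Q) : G)⁻¹ * ((a⁻¹ : ↥Q) : G)⁻¹ := by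
              simp only [Subgroup.coe_mul, Subgroup.coe_inv]
              group
            rw [e]
            exact h1
      · intro a
        induction a using QuotientGroup.induction_on with
        | H a =>
          rw [← QuotientGroup.mk_pow, QuotientGroup.eq_one_iff, Subgroup.mem_subgroupOf]
          have := hsq a a.2
          simpa [pow_two] using this
    rw [QuotientGroup.ker_mk'] at hker
    rintro _ ⟨w, hw, rfl⟩
    exact Subgroup.mem_subgroupOf.1 (hker hw)
  · rw [← tiqstruct_commutator V Q hcomm hsurj]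
    exact Subgroup.map_mono (Cfsg.Agent.S0012.result 2 hQp).1

end Cfsg.Agent.Helper26.TI
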