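import Mathlib
import Cfsg.Prelude.Def_Local
import Cfsg.Prelude.Def_Transfer
import Cfsg.Agent.Lib.Helper26.TIDefs2
import Cfsg.Agent.Lib.Helper26.TIDefs3
import Cfsg.Agent.Lib.Helper27.TIPHI2
import Cfsg.Agent.Lib.Helper28.TIQSTRUCTCore

/-!
# S1786, piece TI-QSTRUCT: `Phi(Q) = Z(Q) = [Q,Q] = V` (proof doc G8, second half).
-/

set_option autoImplicit false

namespace Cfsg.Agent.Helper26.TI

variable {G : Type*} [Group G]

section QP
variable {A PA U U' : Subgroup G}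

/-- a conjugate `U ≠ V` of `V` has a nontrivial element. -/
theorem tiqstruct_exists_ne_one {V P : Subgroup G} (h : Cfg1 V P A PA U) : ∃ u ∈ U, u ≠ 1 := by
  by_contra hcon
  push Not at hcon
  have hU : U = ⊥ := (Subgroup.eq_bot_iff_forall U).2 hcon
  obtain ⟨k, hk⟩ := h.conjU
  have hV : V = ⊥ := by
    have h1 : cj k⁻¹ (cj k V) = cj k⁻¹ ⊥ := by rw [← hk, hU]
    rwa [cj_inv_cj, cj_bot] at h1
  exact h.U_ne (hU.trans hV.symm)

/-- TI-QSTRUCT: `Phi(Q) = Z(Q) = [Q,Q] = V`. -/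
theorem Q_struct [Finite G] (V : Subgroup G) (hV : Cfsg.IsElementaryAbelian 2 V)
    (h : Cfg8 V (Ps V) A PA U U') (hQ : Ps V = Qs V) :
    (frattini ↥(Qs V)).map (Qs V).subtype = V ∧ (Subgroup.center ↥(Qs V)).map (Qs V).subtype = V ∧
      (commutator ↥(Qs V)).map (Qs V).subtype = V := by
  have hL : Loc V (Qs V) := by rw [← hQ]; exact h.left.loc
  have hUQ : U ≤ Qs V := by rw [← hQ]; exact h.left.U_le
  have hAQ : A ≤ Qs V := by rw [← hQ]; exact h.left.le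
  obtain ⟨u, hu, hu1⟩ := tiqstruct_exists_ne_one h.left
  have hsurj : ∀ v ∈ V, ∃ x ∈ Qs V, ∃ y ∈ Qs V, x * y * x⁻¹ * y⁻¹ = v := by
    intro v hv
    obtain ⟨a, ha, e⟩ := h.left.surjA hu hu1 hv
    exact ⟨u, hUQ hu, a, hAQ ha, e⟩
  exact ⟨tiqstruct_frattini V (Qs V) hL.pgrp hL.cent hL.comm hL.sq hsurj,
    tiqstruct_center V (Qs V) hL.V_le hL.cent hL.center,
    tiqstruct_commutator V (Qs V) hL.comm hsurj⟩
end QP

end Cfsg.Agent.Helper26.TI
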