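import Mathlib
import Cfsg.Prelude.Def_JComponents
import Cfsg.Agent.Lib.Helper27.KVDefs
import Cfsg.Agent.Lib.Helper2.KWPGRPA
import Cfsg.Agent.Lib.Helper14.Ambient

/-!
# KS12c / S2953' (helper27's farm-out), PIECE PGRPB  (helper28)

`relIndex_pCoreOf_eq_two` : for a `J(T)`-component `K` normalized by the 2-group `T`, with `T` a Sylow 2-subgroup of
`P = K ⊔ T`, the 2-core of `P` has index 2 in `T`.

Proof: `|P : T| = 3`, so the kernel of the action of `P` on the three cosets of `T` (the normal core of `T` in `P`) has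
index dividing `6`; that kernel is the 2-core of `P`, and it is not `T` because `K` does not normalize `T`.
-/

set_option autoImplicit false
set_option linter.unusedVariables false
set_option linter.unusedSectionVars false

namespace Cfsg.Agent.Helper27.KV

open Cfsg

universe u

variable {G : Type u} [Group G] [Finite G]

/-- the normal core of a subgroup of index 3 has index dividing 6 -/
theorem pgrpb_index_normalCore_dvd {H : Type*} [Group H] [Finite H] (T : Subgroup H)
    (h3 : T.index = 3) : T.normalCore.index ∣ 6 := by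
  classical
  rw [Subgroup.normalCore_eq_ker, Subgroup.index_ker]
  have h6 : Nat.card (Equiv.Perm (H ⧸ T)) = 6 := by
    rw [Nat.card_perm, ← Subgroup.index_eq_card, h3]
    rfl
  rw [← h6]
  exact Subgroup.card_subgroup_dvd_card _

/-- PGRP (5) -/
theorem relIndex_pCoreOf_eq_two {T K : Subgroup G} (hT2 : IsPGroup 2 ↥T) (hK : IsJComponent T K)
    (hTN : T ≤ Subgroup.normalizer (K : Set G)) (hsyl : IsSylowTwoIn T (K ⊔ T)) :
    (pCoreOf 2 (K ⊔ T)).relIndex T = 2 := by
  have h3 : T.relIndex (K ⊔ T) = 3 := relIndex_sup_eq_three hT2 hK hTN hsyl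
  obtain ⟨-, hQT⟩ := pCoreOf_comp_le hTN hsyl
  have hTP : T ≤ K ⊔ T := le_sup_right
  have hKP : K ≤ K ⊔ T := le_sup_left
  generalize K ⊔ T = P at *
  have hQP : pCoreOf 2 P ≤ P := Cfsg.Agent.Helper14.pCoreOf_le 2 P
  have hQn : P ≤ Subgroup.normalizer ((pCoreOf 2 P : Subgroup G) : Set G) :=
    Cfsg.Agent.Helper14.le_normalizer_pCoreOf 2 P
  have h6 := pgrpb_index_normalCore_dvd (T.subgroupOf P) h3
  -- the 2-core is inside the normal core of `T`
  have hQC : (pCoreOf 2 P).subgroupOf P ≤ (T.subgroupOf P).normalCore := by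
    have : ((pCoreOf 2 P).subgroupOf P).Normal :=
      (Subgroup.normal_subgroupOf_iff_le_normalizer hQP).2 hQn
    rw [Subgroup.normal_le_normalCore]
    exact Subgroup.subgroupOf_mono P hQT
  -- the normal core of `T` is a normal 2-subgroup
  have hCQ : (T.subgroupOf P).normalCore ≤ (pCoreOf 2 P).subgroupOf P := by
    have hCT : ((T.subgroupOf P).normalCore).map P.subtype ≤ T := by
      refine (Subgroup.map_mono (Subgroup.normalCore_le _)).trans ?_
      rw [Subgroup.subgroupOf_map_subtype]
      exact inf_le_left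
    have hCP : ((T.subgroupOf P).normalCore).map P.subtype ≤ P := Subgroup.map_subtype_le _
    have hCn : P ≤ Subgroup.normalizer ((((T.subgroupOf P).normalCore).map P.subtype : Subgroup G) : Set G) := by
      rw [← Subgroup.normal_subgroupOf_iff_le_normalizer hCP]
      have : (((T.subgroupOf P).normalCore).map P.subtype).subgroupOf P = (T.subgroupOf P).normalCore := by
        ext x
        simp [Subgroup.mem_subgroupOf]
      rw [this]
      infer_instance
    have hle := Cfsg.Agent.Helper14.le_pCoreOf hCP hCn (hT2.to_le hCT)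
    intro x hx
    rw [Subgroup.mem_subgroupOf]
    exact hle (Subgroup.mem_map_of_mem _ hx)
  have hEq : (T.subgroupOf P).normalCore = (pCoreOf 2 P).subgroupOf P := le_antisymm hCQ hQC
  have h6' : (pCoreOf 2 P).relIndex P ∣ 6 := by
    rw [Subgroup.relIndex, ← hEq]; exact h6
  have hmul := Subgroup.relIndex_mul_relIndex (pCoreOf 2 P) T P hQT hTP
  rw [h3] at hmul
  have h2 : (pCoreOf 2 P).relIndex T ∣ 2 := by
    have : (pCoreOf 2 P).relIndex T * 3 ∣ 2 * 3 := by rw [hmul]; exact h6'
    exact Nat.dvd_of_mul_dvd_mul_right (by norm_num) this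
  have hne : (pCoreOf 2 P).relIndex T ≠ 1 := by
    intro h1
    have hTQ : T ≤ pCoreOf 2 P := Subgroup.relIndex_eq_one.mp h1
    have hTeq : T = pCoreOf 2 P := le_antisymm hTQ hQT
    apply not_le_normalizer_of_comp hT2 hK
    rw [hTeq]
    exact hKP.trans hQn
  rcases (Nat.dvd_prime Nat.prime_two).mp h2 with h | h
  · exact absurd h hne
  · exact h

end Cfsg.Agent.Helper27.KV
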