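import Mathlib
import Cfsg.Prelude.Def_JComponents
import Cfsg.Agent.Lib.Helper27.KUASM
import Cfsg.Agent.Lib.Helper27.KVDefs
import Cfsg.Agent.Lib.Helper27.KVDefs2
import Cfsg.Agent.Lib.Helper27.KVASM
import Cfsg.Agent.Lib.Helper15.KVBAS
import Cfsg.Agent.Lib.Helper15.KVMAXS
import Cfsg.Agent.Lib.Helper19.KVSYL
import Cfsg.Agent.Lib.Helper2.KWPGRPA
import Cfsg.Agent.Lib.Helper8.KWPCMP

/-!
# KS12c / S2953' (helper27's farm-out), PIECE PTWO  (helper28)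

A second component `K₂` whose maximal 2-local differs from `L₁`:
* `two_of_normalizer` : `K₂ = K₁^x` for `x ∈ N_G(T)` outside `L₁`;
* `two_not_sylow` : `T` not a Sylow 2-subgroup of `G`;
* `two_sylow` : `T` Sylow with a second maximal 2-local over it.
-/

set_option autoImplicit false
set_option linter.unusedVariables false
set_option linter.unusedSectionVars false

namespace Cfsg.Agent.Helper27.KV

open Cfsg Cfsg.Agent.Helper13.JCFF Cfsg.Agent.Helper27.KU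

universe u

variable {G : Type u} [Group G] [Finite G]

section ctx2

open Cfsg.Agent.Helper7.JC48 Cfsg.Agent.Helper15

variable (hL : IsCharacteristicTwoType G)
  (hN : ∀ N : Subgroup G, IsTwoLocal N → Group.IsSolvable ↥N)
  (hZ : ∀ S : Sylow 2 G, Subgroup.centralizer (omegaCenterOf (S : Subgroup G) : Set G) ≤
      Subgroup.normalizer ((S : Subgroup G) : Set G))
  (S : Sylow 2 G) {M : Subgroup G}
  (hMJ : Subgroup.normalizer (thompsonSubgroupOf 2 (S : Subgroup G) : Set G) ≤ M)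
  {T : Subgroup G} (hT : T ∈ maxStraddlingTwoSubgroups M)

include hL hN hZ hMJ hT

/-- PTWO (1) -/
theorem two_of_normalizer {K₁ : Subgroup G} (hK₁ : K₁ ∈ jComponentsOutside M T) {L₁ : Subgroup G}
    (hL₁ : IsMaximalTwoLocal L₁) (hKL₁ : K₁ ⊔ thompsonSubgroupOf 2 T ≤ L₁) {x : G}
    (hx : x ∈ Subgroup.normalizer (T : Set G)) (hxL : x ∉ L₁) :
    ∃ K₂ L₂ : Subgroup G, Good T K₂ ∧ IsMaximalTwoLocal L₂ ∧ K₂ ⊔ thompsonSubgroupOf 2 T ≤ L₂ ∧ L₂ ≠ L₁ := by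
  refine ⟨K₁.map (MulAut.conj x).toMonoidHom, L₁.map (MulAut.conj x).toMonoidHom,
    ⟨S, M, hMJ, hT, conj_mem_jComponentsOutside hL hN hZ S hMJ hT hK₁ hx⟩,
    isMaximalTwoLocal_map_conj x hL₁, ?_, ?_⟩
  · have hxJ : x ∈ Subgroup.normalizer (thompsonSubgroupOf 2 T : Set G) :=
      normalizer_le_normalizer_J T hx
    have hJ : (thompsonSubgroupOf 2 T).map (MulAut.conj x).toMonoidHom = thompsonSubgroupOf 2 T :=
      map_conj_eq_of_mem_normalizer hxJ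
    rw [sup_le_iff]
    constructor
    · exact map_conj_mono (le_sup_left.trans hKL₁) x
    · rw [← hJ]
      exact map_conj_mono (le_sup_right.trans hKL₁) x
  · intro h
    exact hxL (normalizer_le_of_max hL₁ (mem_normalizer_of_map_conj_eq h))

/-- `T` is a Sylow 2-subgroup of the given maximal 2-local over `K₁ J(T)` -/
theorem ptwo_isSylowTwoIn {K₁ : Subgroup G} (hK₁ : K₁ ∈ jComponentsOutside M T) {L₁ : Subgroup G}
    (hL₁ : IsMaximalTwoLocal L₁) (hKL₁ : K₁ ⊔ thompsonSubgroupOf 2 T ≤ L₁) : IsSylowTwoIn T L₁ := by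
  obtain ⟨L, hLmax, hKL, huniq, -, hTL⟩ := main_S2950 hL hN hZ S hMJ hT hK₁.1.1 hK₁.2.1 hK₁.2.2
  rw [huniq L₁ hL₁ hKL₁]
  exact hTL

/-- PTWO (2) -/
theorem two_not_sylow (hns : ∀ S' : Sylow 2 G, (S' : Subgroup G) ≠ T) {K₁ : Subgroup G}
    (hK₁ : K₁ ∈ jComponentsOutside M T) {L₁ : Subgroup G}
    (hL₁ : IsMaximalTwoLocal L₁) (hKL₁ : K₁ ⊔ thompsonSubgroupOf 2 T ≤ L₁) :
    ∃ K₂ L₂ : Subgroup G, Good T K₂ ∧ IsMaximalTwoLocal L₂ ∧ K₂ ⊔ thompsonSubgroupOf 2 T ≤ L₂ ∧ L₂ ≠ L₁ := by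
  have hT2 : IsPGroup 2 ↥T := hT.1.1
  obtain ⟨S', hTS'⟩ := hT2.exists_le_sylow
  obtain ⟨s, hsS', hsN, hsT⟩ := exists_mem_normalizer_not_mem S'.isPGroup' hTS' (hns S').symm
  have hs2 : IsPGroup 2 ↥(Subgroup.zpowers s) :=
    S'.isPGroup'.to_le ((Subgroup.zpowers_le).2 hsS')
  have hTL₁ : IsSylowTwoIn T L₁ := ptwo_isSylowTwoIn hL hN hZ S hMJ hT hK₁ hL₁ hKL₁
  have hsL : s ∉ L₁ := not_mem_of_isSylowTwoIn hTL₁ hsN hs2 hsT
  exact two_of_normalizer hL hN hZ S hMJ hT hK₁ hL₁ hKL₁ hsN hsL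

/-- PTWO (3) -/
theorem two_sylow (hNO : NonOpen T) (S' : Sylow 2 G) (hS' : (S' : Subgroup G) = T) {K₁ : Subgroup G}
    (hK₁ : K₁ ∈ jComponentsOutside M T) {L₁ : Subgroup G}
    (hL₁ : IsMaximalTwoLocal L₁) (hKL₁ : K₁ ⊔ thompsonSubgroupOf 2 T ≤ L₁)
    {L' : Subgroup G} (hL' : IsMaximalTwoLocal L') (hne : L' ≠ L₁) (hTL' : T ≤ L') :
    ∃ K₂ L₂ : Subgroup G, Good T K₂ ∧ IsMaximalTwoLocal L₂ ∧ K₂ ⊔ thompsonSubgroupOf 2 T ≤ L₂ ∧ L₂ ≠ L₁ := by
  have hT2 : IsPGroup 2 ↥T := hT.1.1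
  have hT1 : T ≠ ⊥ := hT.1.2.1
  have hTL₁ : IsSylowTwoIn T L₁ := ptwo_isSylowTwoIn hL hN hZ S hMJ hT hK₁ hL₁ hKL₁
  have hK₁M₀ : ¬ K₁ ≤ Subgroup.normalizer (thompsonSubgroupOf 2 T : Set G) :=
    comp_not_le_normalizer_J hT2 hK₁.1.1
  have hL₁M₀ : ¬ L₁ ≤ Subgroup.normalizer (thompsonSubgroupOf 2 T : Set G) :=
    fun h => hK₁M₀ ((le_sup_left.trans hKL₁).trans h)
  -- `M₀ := N_G(J(T))`, written with `S'`
  have hMJ₀ : Subgroup.normalizer (thompsonSubgroupOf 2 (S' : Subgroup G) : Set G) ≤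
      Subgroup.normalizer (thompsonSubgroupOf 2 T : Set G) := by rw [hS']
  have hT₀ : T ∈ maxStraddlingTwoSubgroups (Subgroup.normalizer (thompsonSubgroupOf 2 T : Set G)) := by
    have := sylow_mem_maxStraddling S' (by rw [hS']; exact hT1) hL₁.1 (by rw [hS']; exact hTL₁.1)
      (by rw [hS']; exact hL₁M₀)
    rwa [hS'] at this
  have hK₁₀ : K₁ ∈ jComponentsOutside (Subgroup.normalizer (thompsonSubgroupOf 2 T : Set G)) T :=
    ⟨hK₁.1, hK₁M₀, hK₁.2.2⟩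
  have hJT : thompsonSubgroupOf 2 T ≤ T := Cfsg.Agent.Helper4.ZJ.thompsonSubgroupOf_le_self T
  by_cases hJO : thompsonSubgroupOf 2 T ≤ pCoreOf 2 L'
  · -- case (ii): `L' = M₀`
    have hTsyl' : IsSylowIn 2 T L' := by
      have := isSylowIn_of_sylow_le S' (K := L') (by rw [hS']; exact hTL')
      rwa [hS'] at this
    have hOT : pCoreOf 2 L' ≤ T := Cfsg.Agent.Helper7.Glaub.pCoreOf_le_of_isSylowIn hTsyl'
    have hJeq : thompsonSubgroupOf 2 (pCoreOf 2 L') = thompsonSubgroupOf 2 T := J_eq_of_between hJO hOT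
    have hL'M₀ : L' ≤ Subgroup.normalizer (thompsonSubgroupOf 2 T : Set G) := by
      rw [← hJeq]
      exact (Cfsg.Agent.Helper14.le_normalizer_pCoreOf 2 L').trans (normalizer_le_normalizer_J _)
    have hM₀loc : IsTwoLocal (Subgroup.normalizer (thompsonSubgroupOf 2 T : Set G)) :=
      ⟨_, isPGroup_J hT2, J_ne_bot hT2 hT1, rfl⟩
    have hM₀eq : Subgroup.normalizer (thompsonSubgroupOf 2 T : Set G) = L' := hL'.2 _ hM₀loc hL'M₀
    -- some `x ∈ N_G(T)` is outside `L₁`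
    have hex : ∃ x ∈ Subgroup.normalizer (T : Set G), x ∉ L₁ := by
      by_contra hcon
      push Not at hcon
      have hNT : Subgroup.normalizer (T : Set G) ≤ L₁ := hcon
      obtain ⟨-, hcases⟩ := s2951' hL hN hZ S' hMJ₀ hT₀ hNO hS'.ge hK₁₀ hL₁ hKL₁
      have hZ0 : omegaCenterOf (S' : Subgroup G) = Z0 T := by
        rcases hcases with ⟨h, -⟩ | ⟨h, -, -⟩ | ⟨h, -, -⟩
        · exact h
        · exact h
        · rw [hS']; exact h
      have h1 : Subgroup.normalizer (thompsonSubgroupOf 2 T : Set G) ≤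
          Subgroup.normalizer (Z0 T : Set G) := by
        intro g hg
        exact mem_normalizer_of_map_conj_eq (z0_map_conj hg)
      have h2 : Subgroup.normalizer (Z0 T : Set G) ≤ Subgroup.normalizer (T : Set G) := by
        have := normalizer_omegaCenterOf_le S' (hZ S')
        rwa [hZ0, hS'] at this
      have hle : L' ≤ L₁ := by
        rw [← hM₀eq]
        exact (h1.trans h2).trans hNT
      exact hne (hL'.2 L₁ hL₁.1 hle).symm
    obtain ⟨x, hx, hxL⟩ := hex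
    exact two_of_normalizer hL hN hZ S hMJ hT hK₁ hL₁ hKL₁ hx hxL
  · -- case (i): a component of `L'`
    have hL'M₀ : ¬ L' ≤ Subgroup.normalizer (thompsonSubgroupOf 2 T : Set G) := by
      intro hle
      exact hJO (Cfsg.Agent.Helper14.le_pCoreOf (hJT.trans hTL') hle (isPGroup_J hT2))
    have hLT' : L' ∈ jOvergroups T := mem_jOvergroups_self_of_max hL S' hMJ₀ hT₀ hL'.1 hL'M₀ hTL'
    obtain ⟨K₂, hK₂, hK₂L'⟩ := exists_comp hN hZ T hT1 L' hLT'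
    have hK₂M₀ : ¬ K₂ ≤ Subgroup.normalizer (thompsonSubgroupOf 2 T : Set G) :=
      comp_not_le_normalizer_J hT2 hK₂
    have hK₂mem := mem_jComponentsOutside_of_le hL hN hZ S' hMJ₀ hT₀ hL'.1 hTL' hK₂ hK₂L' hK₂M₀
    exact ⟨K₂, L', ⟨S', _, hMJ₀, hT₀, hK₂mem⟩, hL', sup_le hK₂L' (hJT.trans hTL'), hne⟩

end ctx2

end Cfsg.Agent.Helper27.KV
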