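import Mathlib

set_option autoImplicit false

namespace Cfsg.Agent.Helper28

/-- The support of a binary word. -/
def bsupp {n : ℕ} (v : Fin n → ZMod 2) : Finset (Fin n) := Finset.univ.filter (fun i => v i ≠ 0)

theorem mem_bsupp {n : ℕ} (v : Fin n → ZMod 2) (i : Fin n) : i ∈ bsupp v ↔ v i ≠ 0 := by
  simp [bsupp]

theorem hammingNorm_eq_card_bsupp {n : ℕ} (v : Fin n → ZMod 2) : hammingNorm v = (bsupp v).card := rfl

theorem zmod2_ne_zero_iff (a : ZMod 2) : a ≠ 0 ↔ a = 1 := by
  revert a; decide

theorem zmod2_add_ne_zero_iff (a b : ZMod 2) : a + b ≠ 0 ↔ ((a ≠ 0 ∧ b = 0) ∨ (a = 0 ∧ b ≠ 0)) := by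
  revert a b; decide

theorem zmod2_mul_eq (a b : ZMod 2) : a * b = if (a ≠ 0 ∧ b ≠ 0) then 1 else 0 := by
  revert a b; decide

theorem bsub_eq_add {n : ℕ} (u v : Fin n → ZMod 2) : u - v = u + v := by
  ext i
  have : ∀ a b : ZMod 2, a - b = a + b := by decide
  exact this (u i) (v i)

theorem bsupp_add {n : ℕ} (u v : Fin n → ZMod 2) :
    bsupp (u + v) = (bsupp u \ bsupp v) ∪ (bsupp v \ bsupp u) := by
  ext i
  simp only [mem_bsupp, Pi.add_apply, Finset.mem_union, Finset.mem_sdiff, not_not]
  rw [zmod2_add_ne_zero_iff]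
  tauto

theorem card_sdiff_union_sdiff {α : Type*} [DecidableEq α] (A B : Finset α) :
    ((A \ B) ∪ (B \ A)).card + 2 * (A ∩ B).card = A.card + B.card := by
  have hdisj : Disjoint (A \ B) (B \ A) := by
    rw [Finset.disjoint_left]
    intro x hx hx'
    exact (Finset.mem_sdiff.mp hx).2 (Finset.mem_sdiff.mp hx').1
  rw [Finset.card_union_of_disjoint hdisj]
  have h1 := Finset.card_sdiff_add_card_inter A B
  have h2 := Finset.card_sdiff_add_card_inter B A
  rw [Finset.inter_comm B A] at h2
  omega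

theorem wt_add {n : ℕ} (u v : Fin n → ZMod 2) :
    hammingNorm (u + v) + 2 * (bsupp u ∩ bsupp v).card = hammingNorm u + hammingNorm v := by
  rw [hammingNorm_eq_card_bsupp, hammingNorm_eq_card_bsupp, hammingNorm_eq_card_bsupp, bsupp_add]
  exact card_sdiff_union_sdiff _ _

theorem dot_eq_card_inter {n : ℕ} (u v : Fin n → ZMod 2) :
    ∑ i, u i * v i = ((bsupp u ∩ bsupp v).card : ZMod 2) := by
  simp_rw [zmod2_mul_eq]
  rw [Finset.sum_ite, Finset.sum_const_zero, add_zero, Finset.sum_const, nsmul_eq_mul, mul_one]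
  congr 2
  ext i
  simp [mem_bsupp]

/-- The indicator word of a set of coordinates. -/
def bword {n : ℕ} (s : Finset (Fin n)) : Fin n → ZMod 2 := fun i => if i ∈ s then 1 else 0

theorem bsupp_bword {n : ℕ} (s : Finset (Fin n)) : bsupp (bword s) = s := by
  ext i
  simp [mem_bsupp, bword]

theorem bword_bsupp {n : ℕ} (v : Fin n → ZMod 2) : bword (bsupp v) = v := by
  ext i
  simp only [bword, mem_bsupp]
  by_cases h : v i = 0
  · simp [h]
  · simp [(zmod2_ne_zero_iff _).mp h]

theorem bsupp_injective {n : ℕ} : Function.Injective (bsupp (n := n)) := by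
  intro u v h
  rw [← bword_bsupp u, ← bword_bsupp v, h]

theorem card_filter_wt_eq (n k : ℕ) :
    (Finset.univ.filter (fun v : Fin n → ZMod 2 => hammingNorm v = k)).card = n.choose k := by
  have h : (Finset.univ.filter (fun v : Fin n → ZMod 2 => hammingNorm v = k)).card
      = (Finset.powersetCard k (Finset.univ : Finset (Fin n))).card := by
    apply Finset.card_bij (fun v _ => bsupp v)
    · intro v hv
      rw [Finset.mem_filter] at hv
      rw [Finset.mem_powersetCard]
      exact ⟨Finset.subset_univ _, hv.2⟩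
    · intro u _ v _ h
      exact bsupp_injective h
    · intro s hs
      rw [Finset.mem_powersetCard] at hs
      refine ⟨bword s, ?_, bsupp_bword s⟩
      rw [Finset.mem_filter]
      refine ⟨Finset.mem_univ _, ?_⟩
      rw [hammingNorm_eq_card_bsupp, bsupp_bword]
      exact hs.2
  rw [h, Finset.card_powersetCard, Finset.card_univ, Fintype.card_fin]

end Cfsg.Agent.Helper28
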