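import Mathlib
import Cfsg.Agent.Lib.Helper28.Binary

set_option autoImplicit false

namespace Cfsg.Agent.Helper28

/-- The hypotheses on an abstract extended binary Golay code. -/
structure IsAbstractGolay (C : Submodule (ZMod 2) (Fin 24 → ZMod 2)) : Prop where
  hdim : Module.finrank (ZMod 2) C = 12
  horth : ∀ v ∈ C, ∀ w ∈ C, ∑ i, v i * w i = 0
  hmin : ∀ w ∈ C, w ≠ 0 → 8 ≤ hammingNorm w

theorem card_wt_le_three :
    (Finset.univ.filter (fun v : Fin 24 → ZMod 2 => hammingNorm v ≤ 3)).card = 2325 := by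
  classical
  have h := Finset.card_eq_sum_card_fiberwise (f := fun v : Fin 24 → ZMod 2 => hammingNorm v)
    (s := Finset.univ.filter (fun v : Fin 24 → ZMod 2 => hammingNorm v ≤ 3)) (t := Finset.range 4)
    (by
      intro v hv
      have := (Finset.mem_filter.mp hv).2
      apply Finset.mem_coe.mpr
      apply Finset.mem_range.mpr
      show hammingNorm v < 4
      omega)
  rw [h]
  have h2 : ∀ k ∈ Finset.range 4,
      ((Finset.univ.filter (fun v : Fin 24 → ZMod 2 => hammingNorm v ≤ 3)).filter
        (fun v => hammingNorm v = k)).card = Nat.choose 24 k := by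
    intro k hk
    rw [Finset.filter_filter, ← card_filter_wt_eq 24 k]
    congr 1
    ext v
    simp only [Finset.mem_filter, Finset.mem_univ, true_and]
    have := Finset.mem_range.mp hk
    constructor
    · rintro ⟨_, h⟩; exact h
    · intro h; exact ⟨by omega, h⟩
  rw [Finset.sum_congr rfl h2]
  decide

open Classical in
/-- The number of words of weight at most 3 in a coset. -/
noncomputable def n3 (C : Submodule (ZMod 2) (Fin 24 → ZMod 2)) (q : (Fin 24 → ZMod 2) ⧸ C) : ℕ :=
  (Finset.univ.filter (fun u : Fin 24 → ZMod 2 => hammingNorm u ≤ 3 ∧ Submodule.Quotient.mk u = q)).card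

open Classical in
/-- The number of words of weight 4 in a coset. -/
noncomputable def n4 (C : Submodule (ZMod 2) (Fin 24 → ZMod 2)) (q : (Fin 24 → ZMod 2) ⧸ C) : ℕ :=
  (Finset.univ.filter (fun u : Fin 24 → ZMod 2 => hammingNorm u = 4 ∧ Submodule.Quotient.mk u = q)).card

theorem add_mem_of_mk_eq {C : Submodule (ZMod 2) (Fin 24 → ZMod 2)} {u u' : Fin 24 → ZMod 2}
    (h : (Submodule.Quotient.mk u : (Fin 24 → ZMod 2) ⧸ C) = Submodule.Quotient.mk u') : u + u' ∈ C := by
  rw [← bsub_eq_add]
  exact (Submodule.Quotient.eq C).mp h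

open Classical in
theorem sum_n3 (C : Submodule (ZMod 2) (Fin 24 → ZMod 2)) :
    ∑ q : (Fin 24 → ZMod 2) ⧸ C, n3 C q = 2325 := by
  have h := Finset.card_eq_sum_card_fiberwise
    (f := fun v : Fin 24 → ZMod 2 => (Submodule.Quotient.mk v : (Fin 24 → ZMod 2) ⧸ C))
    (s := Finset.univ.filter (fun v : Fin 24 → ZMod 2 => hammingNorm v ≤ 3)) (t := Finset.univ)
    (by intro v _; exact Finset.mem_coe.mpr (Finset.mem_univ _))
  rw [card_wt_le_three] at h
  rw [h]
  apply Finset.sum_congr rfl
  intro q _
  unfold n3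
  rw [Finset.filter_filter]

open Classical in
theorem sum_n4 (C : Submodule (ZMod 2) (Fin 24 → ZMod 2)) :
    ∑ q : (Fin 24 → ZMod 2) ⧸ C, n4 C q = 10626 := by
  have h := Finset.card_eq_sum_card_fiberwise
    (f := fun v : Fin 24 → ZMod 2 => (Submodule.Quotient.mk v : (Fin 24 → ZMod 2) ⧸ C))
    (s := Finset.univ.filter (fun v : Fin 24 → ZMod 2 => hammingNorm v = 4)) (t := Finset.univ)
    (by intro v _; exact Finset.mem_coe.mpr (Finset.mem_univ _))
  rw [card_filter_wt_eq 24 4] at h
  have h' : Nat.choose 24 4 = 10626 := by decide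
  rw [h'] at h
  rw [h]
  apply Finset.sum_congr rfl
  intro q _
  unfold n4
  rw [Finset.filter_filter]

namespace IsAbstractGolay

variable {C : Submodule (ZMod 2) (Fin 24 → ZMod 2)} (hC : IsAbstractGolay C)

include hC

/-- Two distinct words of weight at most 4 in the same coset have weight exactly 4 and disjoint supports. -/
theorem light_pair (u u' : Fin 24 → ZMod 2) (hmem : u + u' ∈ C) (hne : u ≠ u')
    (hu : hammingNorm u ≤ 4) (hu' : hammingNorm u' ≤ 4) :
    hammingNorm u = 4 ∧ hammingNorm u' = 4 ∧ Disjoint (bsupp u) (bsupp u') := by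
  have hne0 : u + u' ≠ 0 := by
    intro h
    apply hne
    have : u = u - (u + u') := by rw [h, sub_zero]
    rw [this, bsub_eq_add]
    ext i
    have : ∀ a b : ZMod 2, a + (a + b) = b := by decide
    exact this (u i) (u' i)
  have h8 := hC.hmin _ hmem hne0
  have hw := wt_add u u'
  have hcard : (bsupp u ∩ bsupp u').card = 0 := by omega
  refine ⟨by omega, by omega, ?_⟩
  rw [Finset.disjoint_iff_inter_eq_empty]
  exact Finset.card_eq_zero.mp hcard

theorem card_code : Nat.card C = 2 ^ 12 := by
  have := Module.natCard_eq_pow_finrank (K := ZMod 2) (V := C)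
  rw [this, hC.hdim, Nat.card_eq_fintype_card, ZMod.card]

theorem card_quotient : Nat.card ((Fin 24 → ZMod 2) ⧸ C) = 2 ^ 12 := by
  have h1 : Nat.card (Fin 24 → ZMod 2) = 2 ^ 24 := by
    rw [Nat.card_eq_fintype_card, Fintype.card_fun, ZMod.card, Fintype.card_fin]
  have h2 := Submodule.card_eq_card_quotient_mul_card C
  rw [h1, hC.card_code] at h2
  have : (2 : ℕ) ^ 24 = 2 ^ 12 * 2 ^ 12 := by norm_num
  rw [this] at h2
  exact (Nat.eq_of_mul_eq_mul_left (by norm_num : 0 < 2 ^ 12) h2).symm

theorem n3_le_one (q : (Fin 24 → ZMod 2) ⧸ C) : n3 C q ≤ 1 := by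
  classical
  unfold n3
  rw [Finset.card_le_one]
  intro u hu u' hu'
  rw [Finset.mem_filter] at hu hu'
  by_contra hne
  have hmem : u + u' ∈ C := add_mem_of_mk_eq (hu.2.2.trans hu'.2.2.symm)
  have := hC.light_pair u u' hmem hne (by omega) (by omega)
  omega

theorem n4_eq_zero_of_n3 (q : (Fin 24 → ZMod 2) ⧸ C) (h : n3 C q ≠ 0) : n4 C q = 0 := by
  classical
  unfold n3 at h
  unfold n4
  obtain ⟨u, hu⟩ := Finset.card_pos.mp (Nat.pos_of_ne_zero h)
  rw [Finset.mem_filter] at hu
  rw [Finset.card_eq_zero, Finset.filter_eq_empty_iff]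
  rintro u' - ⟨h4, hq⟩
  have hne : u ≠ u' := by
    rintro rfl
    omega
  have hmem : u + u' ∈ C := add_mem_of_mk_eq (hu.2.2.trans hq.symm)
  have := hC.light_pair u u' hmem hne (by omega) (by omega)
  omega

theorem n4_le_six (q : (Fin 24 → ZMod 2) ⧸ C) : n4 C q ≤ 6 := by
  classical
  unfold n4
  set S := Finset.univ.filter
    (fun u : Fin 24 → ZMod 2 => hammingNorm u = 4 ∧ Submodule.Quotient.mk u = q) with hS
  have hdisj : ∀ u ∈ S, ∀ u' ∈ S, u ≠ u' → Disjoint (bsupp u) (bsupp u') := by
    intro u hu u' hu' hne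
    rw [hS, Finset.mem_filter] at hu hu'
    have hmem : u + u' ∈ C := add_mem_of_mk_eq (hu.2.2.trans hu'.2.2.symm)
    exact (hC.light_pair u u' hmem hne (by omega) (by omega)).2.2
  have h1 := Finset.card_biUnion hdisj
  have h2 : ∀ u ∈ S, (bsupp u).card = 4 := by
    intro u hu
    rw [hS, Finset.mem_filter] at hu
    exact hu.2.1
  rw [Finset.sum_congr rfl h2, Finset.sum_const, smul_eq_mul] at h1
  have h3 : (S.biUnion bsupp).card ≤ 24 := by
    have := Finset.card_le_univ (S.biUnion bsupp)
    simpa using this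
  omega

open Classical in
/-- Every coset contains either exactly one word of weight at most 3 and none of weight 4, or no word of
weight at most 3 and exactly six words of weight 4. -/
theorem coset_dichotomy (q : (Fin 24 → ZMod 2) ⧸ C) :
    (n3 C q = 1 ∧ n4 C q = 0) ∨ (n3 C q = 0 ∧ n4 C q = 6) := by
  have hcardQ : Fintype.card ((Fin 24 → ZMod 2) ⧸ C) = 4096 := by
    rw [← Nat.card_eq_fintype_card, hC.card_quotient]
    norm_num
  have hle : ∀ q ∈ (Finset.univ : Finset ((Fin 24 → ZMod 2) ⧸ C)), 6 * n3 C q + n4 C q ≤ 6 := by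
    intro q _
    have h1 := hC.n3_le_one q
    have h2 := hC.n4_le_six q
    by_cases h : n3 C q = 0
    · omega
    · have := hC.n4_eq_zero_of_n3 q h
      omega
  have hsum : ∑ q : (Fin 24 → ZMod 2) ⧸ C, (6 * n3 C q + n4 C q)
      = ∑ _q : (Fin 24 → ZMod 2) ⧸ C, 6 := by
    rw [Finset.sum_add_distrib, ← Finset.mul_sum, sum_n3, sum_n4, Finset.sum_const,
      Finset.card_univ, hcardQ]
    rfl
  have heq := (Finset.sum_eq_sum_iff_of_le hle).mp hsum q (Finset.mem_univ q)
  have h1 := hC.n3_le_one q
  by_cases h : n3 C q = 0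
  · right; omega
  · left
    have := hC.n4_eq_zero_of_n3 q h
    omega

/-- Every set of five coordinates lies in the support of a code word of weight 8. -/
theorem exists_octad_through (s : Finset (Fin 24)) (hs : s.card = 5) :
    ∃ c ∈ C, hammingNorm c = 8 ∧ s ⊆ bsupp c := by
  classical
  have hne : s.Nonempty := Finset.card_pos.mp (by omega)
  obtain ⟨p, hp⟩ := hne
  set T := s.erase p with hT
  have hTcard : T.card = 4 := by rw [hT, Finset.card_erase_of_mem hp, hs]
  set w := bword T with hw
  have hwsupp : bsupp w = T := bsupp_bword T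
  have hwwt : hammingNorm w = 4 := by rw [hammingNorm_eq_card_bsupp, hwsupp, hTcard]
  set q : (Fin 24 → ZMod 2) ⧸ C := Submodule.Quotient.mk w with hq
  have hwmem : w ∈ Finset.univ.filter
      (fun u : Fin 24 → ZMod 2 => hammingNorm u = 4 ∧ Submodule.Quotient.mk u = q) := by
    rw [Finset.mem_filter]
    exact ⟨Finset.mem_univ _, hwwt, rfl⟩
  rcases hC.coset_dichotomy q with ⟨h3, h4⟩ | ⟨h3, h4⟩
  · exfalso
    unfold n4 at h4
    rw [Finset.card_eq_zero.mp h4] at hwmem
    exact Finset.notMem_empty _ hwmem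
  · unfold n4 at h4
    set S := Finset.univ.filter
      (fun u : Fin 24 → ZMod 2 => hammingNorm u = 4 ∧ Submodule.Quotient.mk u = q) with hS
    have hdisj : ∀ u ∈ S, ∀ u' ∈ S, u ≠ u' → Disjoint (bsupp u) (bsupp u') := by
      intro u hu u' hu' hne
      rw [hS, Finset.mem_filter] at hu hu'
      have hmem : u + u' ∈ C := add_mem_of_mk_eq (hu.2.2.trans hu'.2.2.symm)
      exact (hC.light_pair u u' hmem hne (by omega) (by omega)).2.2
    have h1 := Finset.card_biUnion hdisj
    have h2 : ∀ u ∈ S, (bsupp u).card = 4 := by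
      intro u hu
      rw [hS, Finset.mem_filter] at hu
      exact hu.2.1
    rw [Finset.sum_congr rfl h2, Finset.sum_const, smul_eq_mul, h4] at h1
    have huniv : S.biUnion bsupp = Finset.univ := by
      apply Finset.eq_univ_of_card
      rw [h1, Fintype.card_fin]
    have hpmem : p ∈ S.biUnion bsupp := by rw [huniv]; exact Finset.mem_univ p
    obtain ⟨u', hu'S, hpu'⟩ := Finset.mem_biUnion.mp hpmem
    have hne : w ≠ u' := by
      rintro rfl
      rw [hwsupp, hT] at hpu'
      exact Finset.notMem_erase p s hpu'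
    have hd := hdisj w hwmem u' hu'S hne
    have hu'S' := hu'S
    rw [hS, Finset.mem_filter] at hu'S'
    have hmem : w + u' ∈ C := add_mem_of_mk_eq (hu'S'.2.2.symm ▸ rfl)
    refine ⟨w + u', hmem, ?_, ?_⟩
    · have := wt_add w u'
      rw [Finset.disjoint_iff_inter_eq_empty.mp hd, Finset.card_empty] at this
      omega
    · rw [bsupp_add, Finset.sdiff_eq_self_of_disjoint hd, Finset.sdiff_eq_self_of_disjoint hd.symm]
      intro x hx
      rw [Finset.mem_union]
      by_cases hxp : x = p
      · right; rw [hxp]; exact hpu'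
      · left
        rw [hwsupp, hT]
        exact Finset.mem_erase.mpr ⟨hxp, hx⟩

/-- Two code words of weight 8 whose supports share five coordinates are equal. -/
theorem octad_unique (c c' : Fin 24 → ZMod 2) (hc : c ∈ C) (hc' : c' ∈ C)
    (hw : hammingNorm c = 8) (hw' : hammingNorm c' = 8) (s : Finset (Fin 24)) (hs : 5 ≤ s.card)
    (hsc : s ⊆ bsupp c) (hsc' : s ⊆ bsupp c') : c = c' := by
  by_contra hne
  have hne0 : c + c' ≠ 0 := by
    intro h
    apply hne
    have : c = c - (c + c') := by rw [h, sub_zero]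
    rw [this, bsub_eq_add]
    ext i
    have : ∀ a b : ZMod 2, a + (a + b) = b := by decide
    exact this (c i) (c' i)
  have h8 := hC.hmin _ (C.add_mem hc hc') hne0
  have hwt := wt_add c c'
  have hsub : s ⊆ bsupp c ∩ bsupp c' := Finset.subset_inter hsc hsc'
  have := Finset.card_le_card hsub
  omega

/-- Every code word is a sum of code words of weight 8. -/
theorem mem_span_octads (c : Fin 24 → ZMod 2) (hc : c ∈ C) :
    c ∈ Submodule.span (ZMod 2) {w : Fin 24 → ZMod 2 | w ∈ C ∧ hammingNorm w = 8} := by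
  classical
  suffices h : ∀ n : ℕ, ∀ c : Fin 24 → ZMod 2, c ∈ C → hammingNorm c = n →
      c ∈ Submodule.span (ZMod 2) {w : Fin 24 → ZMod 2 | w ∈ C ∧ hammingNorm w = 8} from
    h _ c hc rfl
  intro n
  induction n using Nat.strong_induction_on with
  | _ n ih =>
    intro c hc hn
    by_cases h0 : c = 0
    · rw [h0]; exact Submodule.zero_mem _
    · have h8 := hC.hmin c hc h0
      have hcard : 5 ≤ (bsupp c).card := by rw [← hammingNorm_eq_card_bsupp]; omega
      obtain ⟨s, hsc, hs⟩ := Finset.exists_subset_card_eq hcard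
      obtain ⟨o, ho, hwo, hso⟩ := hC.exists_octad_through s hs
      have hwt := wt_add c o
      have hsub : s ⊆ bsupp c ∩ bsupp o := Finset.subset_inter hsc hso
      have hle := Finset.card_le_card hsub
      have hlt : hammingNorm (c + o) < n := by omega
      have hmem := ih _ hlt (c + o) (C.add_mem hc ho) rfl
      have hco : c = (c + o) + o := by
        ext i
        have : ∀ a b : ZMod 2, a = (a + b) + b := by decide
        exact this (c i) (o i)
      rw [hco]
      exact Submodule.add_mem _ hmem (Submodule.subset_span ⟨ho, hwo⟩)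

/-- The code is doubly even. -/
theorem doubly_even (c : Fin 24 → ZMod 2) (hc : c ∈ C) : 4 ∣ hammingNorm c := by
  have hspan := hC.mem_span_octads c hc
  have key : ∀ x : Fin 24 → ZMod 2,
      x ∈ Submodule.span (ZMod 2) {w : Fin 24 → ZMod 2 | w ∈ C ∧ hammingNorm w = 8} →
      x ∈ C ∧ 4 ∣ hammingNorm x := by
    intro x hx
    induction hx using Submodule.span_induction with
    | mem x hx => exact ⟨hx.1, by rw [hx.2]; norm_num⟩
    | zero => exact ⟨C.zero_mem, by simp⟩
    | add x y _ _ ihx ihy =>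
      refine ⟨C.add_mem ihx.1 ihy.1, ?_⟩
      have hwt := wt_add x y
      have hdot := hC.horth x ihx.1 y ihy.1
      rw [dot_eq_card_inter] at hdot
      have h2 : 2 ∣ (bsupp x ∩ bsupp y).card := (ZMod.natCast_eq_zero_iff _ 2).mp hdot
      obtain ⟨a, ha⟩ := ihx.2
      obtain ⟨b, hb⟩ := ihy.2
      obtain ⟨k, hk⟩ := h2
      omega
    | smul a x _ ih =>
      have ha : a = 0 ∨ a = 1 := by revert a; decide
      rcases ha with rfl | rfl
      · rw [zero_smul]; exact ⟨C.zero_mem, by simp⟩
      · rw [one_smul]; exact ih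
  exact (key c hspan).2

end IsAbstractGolay

end Cfsg.Agent.Helper28
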