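import Mathlib
import Cfsg.Prelude.Def_Transfer
import Cfsg.Prelude.Def_Solvable
import Cfsg.Prelude.Def_Amalgam
import Cfsg.Agent.Lib.Helper14.Ambient

set_option autoImplicit false

namespace Cfsg.Agent.Helper28.LargeExtra

open Cfsg Cfsg.Agent.Helper14
open scoped commutatorElement

variable {G : Type*} [Group G]

/-! ### Conjugation-equivariance of `x ↦ O_2(C_G(x))` -/

theorem centralizer_conj (h a : G) :
    (Subgroup.centralizer ({a} : Set G)).map (MulAut.conj h).toMonoidHom
      = Subgroup.centralizer ({h * a * h⁻¹} : Set G) := by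
  ext y
  constructor
  · rintro ⟨w, hw, rfl⟩
    rw [SetLike.mem_coe, Subgroup.mem_centralizer_singleton_iff] at hw
    rw [Subgroup.mem_centralizer_singleton_iff]
    simp only [MulEquiv.coe_toMonoidHom, MulAut.conj_apply]
    calc h * w * h⁻¹ * (h * a * h⁻¹) = h * (w * a) * h⁻¹ := by group
      _ = h * (a * w) * h⁻¹ := by rw [hw]
      _ = h * a * h⁻¹ * (h * w * h⁻¹) := by group
  · intro hy
    rw [Subgroup.mem_centralizer_singleton_iff] at hy
    refine ⟨h⁻¹ * y * h, ?_, ?_⟩
    · rw [SetLike.mem_coe, Subgroup.mem_centralizer_singleton_iff]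
      calc h⁻¹ * y * h * a = h⁻¹ * (y * (h * a * h⁻¹)) * h := by group
        _ = h⁻¹ * ((h * a * h⁻¹) * y) * h := by rw [hy]
        _ = a * (h⁻¹ * y * h) := by group
    · simp only [MulEquiv.coe_toMonoidHom, MulAut.conj_apply]
      group

section Qfacts

variable (Q : G → Subgroup G)
  (hQ : ∀ x : G, Q x = (Cfsg.pCore 2 ↥(Subgroup.centralizer ({x} : Set G))).map
    (Subgroup.centralizer ({x} : Set G)).subtype)

include hQ

theorem Q_eq (x : G) : Q x = pCoreOf 2 (Subgroup.centralizer ({x} : Set G)) := hQ x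

theorem Q_le_cent (x : G) : Q x ≤ Subgroup.centralizer ({x} : Set G) := by
  rw [Q_eq Q hQ]; exact pCoreOf_le _ _

theorem Q_comm {x a : G} (ha : a ∈ Q x) : a * x = x * a :=
  Subgroup.mem_centralizer_singleton_iff.mp (Q_le_cent Q hQ x ha)

theorem Q_isPGroup (x : G) : IsPGroup 2 (Q x) := by
  rw [Q_eq Q hQ]; exact pCoreOf_isPGroup _ _

theorem cent_le_normalizer_Q (x : G) :
    Subgroup.centralizer ({x} : Set G) ≤ Subgroup.normalizer ((Q x : Subgroup G) : Set G) := by
  rw [Q_eq Q hQ]; exact le_normalizer_pCoreOf _ _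

theorem conj_mem_Q {x c a : G} (hc : c * x = x * c) (ha : a ∈ Q x) : c * a * c⁻¹ ∈ Q x := by
  have h1 : c ∈ Subgroup.normalizer ((Q x : Subgroup G) : Set G) :=
    cent_le_normalizer_Q Q hQ x (Subgroup.mem_centralizer_singleton_iff.mpr hc)
  exact (Subgroup.mem_normalizer_iff.mp h1 a).mp ha

theorem le_Q {x : G} {N : Subgroup G} (hN : N ≤ Subgroup.centralizer ({x} : Set G))
    (hnorm : Subgroup.centralizer ({x} : Set G) ≤ Subgroup.normalizer (N : Set G))
    (hp : IsPGroup 2 N) : N ≤ Q x := by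
  rw [Q_eq Q hQ]; exact le_pCoreOf hN hnorm hp

theorem Q_conj (h a : G) : Q (h * a * h⁻¹) = (Q a).map (MulAut.conj h).toMonoidHom := by
  rw [Q_eq Q hQ, Q_eq Q hQ, ← centralizer_conj, pCoreOf_map_equiv]

theorem mem_Q_conj {h a y : G} : y ∈ Q (h * a * h⁻¹) ↔ h⁻¹ * y * h ∈ Q a := by
  rw [Q_conj Q hQ]
  constructor
  · rintro ⟨w, hw, rfl⟩
    simp only [MulEquiv.coe_toMonoidHom, MulAut.conj_apply]
    have : h⁻¹ * (h * w * h⁻¹) * h = w := by group
    rw [this]; exact hw
  · intro hy
    refine ⟨h⁻¹ * y * h, hy, ?_⟩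
    simp only [MulEquiv.coe_toMonoidHom, MulAut.conj_apply]
    group

theorem conj_mem_Q_conj {h a w : G} (hw : w ∈ Q a) : h * w * h⁻¹ ∈ Q (h * a * h⁻¹) := by
  rw [mem_Q_conj Q hQ]
  have : h⁻¹ * (h * w * h⁻¹) * h = w := by group
  rw [this]; exact hw

end Qfacts

/-! ### An abstract class-two group with centre `{1, z}` containing its centralizer -/

/-- `E` is a subgroup of `G` whose commutators lie in `{1, z}`, with `z` a central involution
of `E` and `C_G(E) = {1, z}`. -/
structure ExtraLike (E : Subgroup G) (z : G) : Prop where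
  mem : z ∈ E
  ne_one : z ≠ 1
  sq : z * z = 1
  comm : ∀ a ∈ E, ∀ b ∈ E, a * b * a⁻¹ * b⁻¹ = 1 ∨ a * b * a⁻¹ * b⁻¹ = z
  cent : ∀ c : G, (∀ b ∈ E, c * b = b * c) → c = 1 ∨ c = z
  central : ∀ b ∈ E, z * b = b * z

namespace ExtraLike

variable {E : Subgroup G} {z : G}

theorem inv_eq (h : ExtraLike E z) : z⁻¹ = z := inv_eq_of_mul_eq_one_right h.sq

theorem conj_eq (h : ExtraLike E z) {a b : G} (ha : a ∈ E) (hb : b ∈ E) :
    a * b * a⁻¹ = b ∨ a * b * a⁻¹ = z * b := by
  rcases h.comm a ha b hb with h1 | h1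
  · left
    calc a * b * a⁻¹ = (a * b * a⁻¹ * b⁻¹) * b := by group
      _ = b := by rw [h1, one_mul]
  · right
    calc a * b * a⁻¹ = (a * b * a⁻¹ * b⁻¹) * b := by group
      _ = z * b := by rw [h1]

/-- transport along conjugation -/
theorem conj (h : ExtraLike E z) (g : G) :
    ExtraLike (E.map (MulAut.conj g).toMonoidHom) (g * z * g⁻¹) := by
  have hmem : ∀ {y : G}, y ∈ E.map (MulAut.conj g).toMonoidHom ↔ g⁻¹ * y * g ∈ E := by
    intro y
    constructor
    · rintro ⟨w, hw, rfl⟩
      simp only [MulEquiv.coe_toMonoidHom, MulAut.conj_apply]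
      have : g⁻¹ * (g * w * g⁻¹) * g = w := by group
      rw [this]; exact hw
    · intro hy
      refine ⟨g⁻¹ * y * g, hy, ?_⟩
      simp only [MulEquiv.coe_toMonoidHom, MulAut.conj_apply]
      group
  refine ⟨?_, ?_, ?_, ?_, ?_, ?_⟩
  · rw [hmem]
    have : g⁻¹ * (g * z * g⁻¹) * g = z := by group
    rw [this]; exact h.mem
  · intro h1
    apply h.ne_one
    calc z = g⁻¹ * (g * z * g⁻¹) * g := by group
      _ = 1 := by rw [h1]; group
  · calc g * z * g⁻¹ * (g * z * g⁻¹) = g * (z * z) * g⁻¹ := by group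
      _ = 1 := by rw [h.sq]; group
  · intro a ha b hb
    rw [hmem] at ha hb
    rcases h.comm _ ha _ hb with h1 | h1
    · left
      calc a * b * a⁻¹ * b⁻¹
          = g * ((g⁻¹ * a * g) * (g⁻¹ * b * g) * (g⁻¹ * a * g)⁻¹ * (g⁻¹ * b * g)⁻¹) * g⁻¹ := by
            group
        _ = 1 := by rw [h1]; group
    · right
      calc a * b * a⁻¹ * b⁻¹
          = g * ((g⁻¹ * a * g) * (g⁻¹ * b * g) * (g⁻¹ * a * g)⁻¹ * (g⁻¹ * b * g)⁻¹) * g⁻¹ := by
            group
        _ = g * z * g⁻¹ := by rw [h1]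
  · intro c hc
    have h2 : ∀ b ∈ E, (g⁻¹ * c * g) * b = b * (g⁻¹ * c * g) := by
      intro b hb
      have hb' : g * b * g⁻¹ ∈ E.map (MulAut.conj g).toMonoidHom := by
        rw [hmem]
        have : g⁻¹ * (g * b * g⁻¹) * g = b := by group
        rw [this]; exact hb
      have h3 := hc _ hb'
      calc g⁻¹ * c * g * b = g⁻¹ * (c * (g * b * g⁻¹)) * g := by group
        _ = g⁻¹ * ((g * b * g⁻¹) * c) * g := by rw [h3]
        _ = b * (g⁻¹ * c * g) := by group
    rcases h.cent _ h2 with h3 | h3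
    · left
      calc c = g * (g⁻¹ * c * g) * g⁻¹ := by group
        _ = 1 := by rw [h3]; group
    · right
      calc c = g * (g⁻¹ * c * g) * g⁻¹ := by group
        _ = g * z * g⁻¹ := by rw [h3]
  · intro b hb
    rw [hmem] at hb
    have h3 := h.central _ hb
    calc g * z * g⁻¹ * b = g * (z * (g⁻¹ * b * g)) * g⁻¹ := by group
      _ = g * ((g⁻¹ * b * g) * z) * g⁻¹ := by rw [h3]
      _ = b * (g * z * g⁻¹) := by group

/-- a non-central element of `E` has a conjugate by `z`. -/
theorem exists_noncomm (h : ExtraLike E z) {x : G} (hx : x ∈ E) (hx1 : x ≠ 1) (hxz : x ≠ z) :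
    ∃ q ∈ E, q * x * q⁻¹ = z * x := by
  by_contra hcon
  push Not at hcon
  have h1 : ∀ b ∈ E, x * b = b * x := by
    intro b hb
    rcases h.conj_eq hb hx with h2 | h2
    · calc x * b = (b * x * b⁻¹) * b := by rw [h2]
        _ = b * x := by group
    · exact absurd h2 (hcon b hb)
  rcases h.cent x h1 with h2 | h2
  · exact hx1 h2
  · exact hxz h2

/-- an element commuting with `q` and with `C_E(x)` centralizes `E`. -/
theorem comm_all (h : ExtraLike E z) {x q w : G} (hx : x ∈ E) (hq : q ∈ E)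
    (hqx : q * x * q⁻¹ = z * x)
    (hwq : w * q = q * w) (hwR : ∀ r ∈ E, r * x = x * r → w * r = r * w) : w = 1 ∨ w = z := by
  apply h.cent
  intro b hb
  rcases h.conj_eq hb hx with h1 | h1
  · apply hwR b hb
    calc b * x = (b * x * b⁻¹) * b := by group
      _ = x * b := by rw [h1]
  · have hr : q⁻¹ * b ∈ E := E.mul_mem (E.inv_mem hq) hb
    have hrx : (q⁻¹ * b) * x = x * (q⁻¹ * b) := by
      have e1 : b * x = z * x * b := by
        calc b * x = (b * x * b⁻¹) * b := by group
          _ = z * x * b := by rw [h1]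
      have e2 : q * x = z * x * q := by
        calc q * x = (q * x * q⁻¹) * q := by group
          _ = z * x * q := by rw [hqx]
      have e3 : q⁻¹ * (z * x) = x * q⁻¹ := by
        calc q⁻¹ * (z * x) = q⁻¹ * (z * x * q) * q⁻¹ := by group
          _ = q⁻¹ * (q * x) * q⁻¹ := by rw [e2]
          _ = x * q⁻¹ := by group
      calc q⁻¹ * b * x = q⁻¹ * (b * x) := by group
        _ = q⁻¹ * (z * x * b) := by rw [e1]
        _ = (q⁻¹ * (z * x)) * b := by group
        _ = x * q⁻¹ * b := by rw [e3]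
        _ = x * (q⁻¹ * b) := by group
    have h2 := hwR _ hr hrx
    calc w * b = (w * q) * (q⁻¹ * b) := by group
      _ = q * w * (q⁻¹ * b) := by rw [hwq]
      _ = q * (w * (q⁻¹ * b)) := by group
      _ = q * ((q⁻¹ * b) * w) := by rw [h2]
      _ = b * w := by group

/-- An element of `G` sending `q` into `E` and centralizing the hyperplane `C_E(x)` of `E`
lies in `⟨x, z⟩`. -/
theorem hyperplane_cent (h : ExtraLike E z) {x q y : G} (hx : x ∈ E) (hx2 : x * x = 1)
    (hq : q ∈ E) (hqx : q * x * q⁻¹ = z * x)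
    (hyq : y * q * y⁻¹ ∈ E) (hyR : ∀ r ∈ E, r * x = x * r → y * r = r * y) :
    y = 1 ∨ y = z ∨ y = x ∨ y = z * x := by
  have hzx : z * x = x * z := h.central x hx
  have hzq : z * q = q * z := h.central q hq
  have hxinv : x⁻¹ = x := inv_eq_of_mul_eq_one_right hx2
  have hzinv : z⁻¹ = z := h.inv_eq
  have e2 : q * x = z * x * q := by
    calc q * x = (q * x * q⁻¹) * q := by group
      _ = z * x * q := by rw [hqx]
  -- `x q x = z q`
  have hxq : x * q * x = z * q := by
    calc x * q * x = x * (q * x) := by group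
      _ = x * (z * x * q) := by rw [e2]
      _ = (x * z) * x * q := by group
      _ = (z * x) * x * q := by rw [hzx]
      _ = z * (x * x) * q := by group
      _ = z * q := by rw [hx2, mul_one]
  -- `q⁻¹ x q = z x`
  have hb : q⁻¹ * x * q = z * x := by
    calc q⁻¹ * x * q = q⁻¹ * ((z * z) * x * q) := by rw [h.sq, one_mul, mul_assoc]
      _ = q⁻¹ * (z * (z * x * q)) := by group
      _ = q⁻¹ * (z * (q * x)) := by rw [e2]
      _ = q⁻¹ * ((z * q) * x) := by group
      _ = q⁻¹ * ((q * z) * x) := by rw [hzq]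
      _ = z * x := by group
  -- conjugating `C_E(x)` by `q` stays inside
  have hd : ∀ r ∈ E, r * x = x * r → (q * r * q⁻¹) * x = x * (q * r * q⁻¹) := by
    intro r hr hrx
    have hrz : r * (z * x) = (z * x) * r := by
      calc r * (z * x) = (r * z) * x := by group
        _ = (z * r) * x := by rw [h.central r hr]
        _ = z * (r * x) := by group
        _ = z * (x * r) := by rw [hrx]
        _ = z * x * r := by group
    calc (q * r * q⁻¹) * x = q * (r * (q⁻¹ * x * q)) * q⁻¹ := by group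
      _ = q * (r * (z * x)) * q⁻¹ := by rw [hb]
      _ = q * ((z * x) * r) * q⁻¹ := by rw [hrz]
      _ = q * ((q⁻¹ * x * q) * r) * q⁻¹ := by rw [hb]
      _ = x * (q * r * q⁻¹) := by group
  set c : G := q⁻¹ * (y * q * y⁻¹) with hc
  have hcE : c ∈ E := E.mul_mem (E.inv_mem hq) hyq
  have hq' : y * q * y⁻¹ = q * c := by rw [hc]; group
  -- `c` commutes with `C_E(x)`
  have hcR : ∀ r ∈ E, r * x = x * r → c * r = r * c := by
    intro r hr hrx
    have h1 : y * (q * r * q⁻¹) = (q * r * q⁻¹) * y :=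
      hyR _ (E.mul_mem (E.mul_mem hq hr) (E.inv_mem hq)) (hd r hr hrx)
    have h2 : y * r = r * y := hyR r hr hrx
    have h3 : (q * c) * r * (q * c)⁻¹ = q * r * q⁻¹ := by
      rw [← hq']
      calc y * q * y⁻¹ * r * (y * q * y⁻¹)⁻¹ = y * q * (y⁻¹ * (r * y)) * q⁻¹ * y⁻¹ := by group
        _ = y * q * (y⁻¹ * (y * r)) * q⁻¹ * y⁻¹ := by rw [h2]
        _ = (y * (q * r * q⁻¹)) * y⁻¹ := by group
        _ = (q * r * q⁻¹) * y * y⁻¹ := by rw [h1]
        _ = q * r * q⁻¹ := by group
    calc c * r = q⁻¹ * ((q * c) * r * (q * c)⁻¹) * q * c := by group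
      _ = q⁻¹ * (q * r * q⁻¹) * q * c := by rw [h3]
      _ = r * c := by group
  -- `q q` lies in `C_E(x)`
  have hqq : (q * q) * x = x * (q * q) := by
    calc (q * q) * x = q * (q * x) := by group
      _ = q * (z * x * q) := by rw [e2]
      _ = (q * z) * x * q := by group
      _ = (z * q) * x * q := by rw [hzq]
      _ = z * (q * x) * q := by group
      _ = z * (z * x * q) * q := by rw [e2]
      _ = (z * z) * x * (q * q) := by group
      _ = x * (q * q) := by rw [h.sq, one_mul]
  have hsq : c * q * c = q := by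
    have h1 : y * (q * q) = (q * q) * y := hyR _ (E.mul_mem hq hq) hqq
    have h2 : (q * c) * (q * c) = q * q := by
      rw [← hq']
      calc y * q * y⁻¹ * (y * q * y⁻¹) = (y * (q * q)) * y⁻¹ := by group
        _ = (q * q) * y * y⁻¹ := by rw [h1]
        _ = q * q := by group
    calc c * q * c = q⁻¹ * ((q * c) * (q * c)) := by group
      _ = q⁻¹ * (q * q) := by rw [h2]
      _ = q := by group
  have hxR : ∀ r ∈ E, r * x = x * r → x * r = r * x := fun r _ hrx => hrx.symm
  rcases h.conj_eq hcE hq with hcq | hcq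
  · -- `c` commutes with `q`
    have hcq' : c * q = q * c := by
      calc c * q = (c * q * c⁻¹) * c := by group
        _ = q * c := by rw [hcq]
    rcases h.comm_all hx hq hqx hcq' hcR with hc1 | hc1
    · -- `c = 1`
      have hyq' : y * q = q * y := by
        calc y * q = (y * q * y⁻¹) * y := by group
          _ = q * c * y := by rw [hq']
          _ = q * y := by rw [hc1, mul_one]
      rcases h.comm_all hx hq hqx hyq' hyR with h1 | h1
      · left; exact h1
      · right; left; exact h1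
    · -- `c = z`
      have hyq' : y * q = q * z * y := by
        calc y * q = (y * q * y⁻¹) * y := by group
          _ = q * c * y := by rw [hq']
          _ = q * z * y := by rw [hc1]
      have hwq : (x * y) * q = q * (x * y) := by
        have e5 : x * q = z * q * x := by
          calc x * q = (x * q * x) * x⁻¹ := by group
            _ = z * q * x := by rw [hxq, hxinv]
        calc (x * y) * q = x * (y * q) := by group
          _ = x * (q * z * y) := by rw [hyq']
          _ = (x * q) * z * y := by group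
          _ = (z * q * x) * z * y := by rw [e5]
          _ = z * q * (x * z) * y := by group
          _ = z * q * (z * x) * y := by rw [hzx]
          _ = (z * q) * z * x * y := by group
          _ = (q * z) * z * x * y := by rw [hzq]
          _ = q * (z * z) * (x * y) := by group
          _ = q * (x * y) := by rw [h.sq, mul_one]
      have hwR : ∀ r ∈ E, r * x = x * r → (x * y) * r = r * (x * y) := by
        intro r hr hrx
        calc (x * y) * r = x * (y * r) := by group
          _ = x * (r * y) := by rw [hyR r hr hrx]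
          _ = (x * r) * y := by group
          _ = (r * x) * y := by rw [hrx]
          _ = r * (x * y) := by group
      rcases h.comm_all hx hq hqx hwq hwR with h1 | h1
      · right; right; left
        calc y = x⁻¹ * (x * y) := by group
          _ = x := by rw [h1, mul_one, hxinv]
      · right; right; right
        calc y = x⁻¹ * (x * y) := by group
          _ = x * z := by rw [h1, hxinv]
          _ = z * x := hzx.symm
  · -- `c q c⁻¹ = z q`: impossible
    exfalso
    have hcq' : c * q = z * q * c := by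
      calc c * q = (c * q * c⁻¹) * c := by group
        _ = z * q * c := by rw [hcq]
    have hwq : (x * c) * q = q * (x * c) := by
      have e5 : x * q = z * q * x := by
        calc x * q = (x * q * x) * x⁻¹ := by group
          _ = z * q * x := by rw [hxq, hxinv]
      calc (x * c) * q = x * (c * q) := by group
        _ = x * (z * q * c) := by rw [hcq']
        _ = (x * z) * q * c := by group
        _ = (z * x) * q * c := by rw [hzx]
        _ = z * (x * q) * c := by group
        _ = z * (z * q * x) * c := by rw [e5]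
        _ = (z * z) * q * (x * c) := by group
        _ = q * (x * c) := by rw [h.sq, one_mul]
    have hwR : ∀ r ∈ E, r * x = x * r → (x * c) * r = r * (x * c) := by
      intro r hr hrx
      calc (x * c) * r = x * (c * r) := by group
        _ = x * (r * c) := by rw [hcR r hr hrx]
        _ = (x * r) * c := by group
        _ = (r * x) * c := by rw [hrx]
        _ = r * (x * c) := by group
    have hne : z * q ≠ q := by
      intro h1
      apply h.ne_one
      calc z = (z * q) * q⁻¹ := by group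
        _ = 1 := by rw [h1]; group
    rcases h.comm_all hx hq hqx hwq hwR with h1 | h1
    · have hcx : c = x := by
        calc c = x⁻¹ * (x * c) := by group
          _ = x := by rw [h1, mul_one, hxinv]
      rw [hcx, hxq] at hsq
      exact hne hsq
    · have hcx : c = x * z := by
        calc c = x⁻¹ * (x * c) := by group
          _ = x * z := by rw [h1, hxinv]
      apply hne
      calc z * q = x * q * x := hxq.symm
        _ = x * ((z * q) * z) * x := by
            rw [hzq]
            have : q * z * z = q := by rw [mul_assoc, h.sq, mul_one]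
            rw [this]
        _ = (x * z) * q * (z * x) := by group
        _ = (x * z) * q * (x * z) := by rw [hzx]
        _ = q := by rw [← hcx]; exact hsq

theorem conj_z (h : ExtraLike E z) {a : G} (ha : a ∈ E) : a * z * a⁻¹ = z := by
  calc a * z * a⁻¹ = (z * a) * a⁻¹ := by rw [h.central a ha]
    _ = z := by group

/-- If the subgroup generated by `z` and a finite subset `S` of `E` misses `y ∈ E`, then some
element of `E` centralizes `S` but not `y` (non-degeneracy of the commutator form). -/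
theorem exists_cent_noncomm (h : ExtraLike E z) (S : Finset G) :
    (∀ s ∈ S, s ∈ E) → ∀ y ∈ E, y ∉ Subgroup.closure (insert z (S : Set G)) →
      ∃ g ∈ E, (∀ s ∈ S, g * s = s * g) ∧ g * y * g⁻¹ = z * y := by
  classical
  induction S using Finset.induction_on with
  | empty =>
    intro _ y hy hyn
    have hy1 : y ≠ 1 := by
      intro h1; apply hyn; rw [h1]; exact Subgroup.one_mem _
    have hyz : y ≠ z := by
      intro h1; apply hyn; rw [h1]
      exact Subgroup.subset_closure (Set.mem_insert _ _)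
    obtain ⟨q, hq, hqy⟩ := h.exists_noncomm hy hy1 hyz
    exact ⟨q, hq, by simp, hqy⟩
  | insert v S hvS ih =>
    intro hS y hy hyn
    have hvE : v ∈ E := hS v (Finset.mem_insert_self v S)
    have hS' : ∀ s ∈ S, s ∈ E := fun s hs => hS s (Finset.mem_insert_of_mem hs)
    have hAB : Subgroup.closure (insert z (S : Set G)) ≤
        Subgroup.closure (insert z ((insert v S : Finset G) : Set G)) := by
      apply Subgroup.closure_mono
      apply Set.insert_subset_insert
      rw [Finset.coe_insert]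
      exact Set.subset_insert _ _
    have hvB : v ∈ Subgroup.closure (insert z ((insert v S : Finset G) : Set G)) := by
      apply Subgroup.subset_closure
      apply Set.mem_insert_of_mem
      rw [Finset.coe_insert]
      exact Set.mem_insert _ _
    have hyA : y ∉ Subgroup.closure (insert z (S : Set G)) := fun h1 => hyn (hAB h1)
    obtain ⟨g₁, hg₁, hg₁S, hg₁y⟩ := ih hS' y hy hyA
    rcases h.conj_eq hg₁ hvE with h1 | h1
    · refine ⟨g₁, hg₁, ?_, hg₁y⟩
      intro s hs
      rcases Finset.mem_insert.mp hs with rfl | hs'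
      · calc g₁ * s = (g₁ * s * g₁⁻¹) * g₁ := by group
          _ = s * g₁ := by rw [h1]
      · exact hg₁S s hs'
    · have hyvA : y * v ∉ Subgroup.closure (insert z (S : Set G)) := by
        intro h2
        apply hyn
        have h3 : y = (y * v) * v⁻¹ := by group
        rw [h3]
        exact Subgroup.mul_mem _ (hAB h2) (Subgroup.inv_mem _ hvB)
      obtain ⟨g₂, hg₂, hg₂S, hg₂y⟩ := ih hS' (y * v) (E.mul_mem hy hvE) hyvA
      rcases h.conj_eq hg₂ hvE with h2 | h2
      · refine ⟨g₂, hg₂, ?_, ?_⟩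
        · intro s hs
          rcases Finset.mem_insert.mp hs with rfl | hs'
          · calc g₂ * s = (g₂ * s * g₂⁻¹) * g₂ := by group
              _ = s * g₂ := by rw [h2]
          · exact hg₂S s hs'
        · calc g₂ * y * g₂⁻¹ = (g₂ * (y * v) * g₂⁻¹) * (g₂ * v * g₂⁻¹)⁻¹ := by group
            _ = (z * (y * v)) * v⁻¹ := by rw [hg₂y, h2]
            _ = z * y := by group
      · -- `g₂` commutes with `y`; use `g₁ g₂`
        have hzy : z * y = y * z := h.central y hy
        have hg₂y' : g₂ * y * g₂⁻¹ = y := by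
          calc g₂ * y * g₂⁻¹ = (g₂ * (y * v) * g₂⁻¹) * (g₂ * v * g₂⁻¹)⁻¹ := by group
            _ = (z * (y * v)) * (z * v)⁻¹ := by rw [hg₂y, h2]
            _ = (z * y) * z⁻¹ := by group
            _ = (y * z) * z⁻¹ := by rw [hzy]
            _ = y := by group
        refine ⟨g₁ * g₂, E.mul_mem hg₁ hg₂, ?_, ?_⟩
        · intro s hs
          rcases Finset.mem_insert.mp hs with rfl | hs'
          · have e1 : (g₁ * g₂) * s * (g₁ * g₂)⁻¹ = s := by
              calc (g₁ * g₂) * s * (g₁ * g₂)⁻¹ = g₁ * (g₂ * s * g₂⁻¹) * g₁⁻¹ := by group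
                _ = g₁ * (z * s) * g₁⁻¹ := by rw [h2]
                _ = (g₁ * z * g₁⁻¹) * (g₁ * s * g₁⁻¹) := by group
                _ = z * (z * s) := by rw [h.conj_z hg₁, h1]
                _ = (z * z) * s := by group
                _ = s := by rw [h.sq, one_mul]
            calc g₁ * g₂ * s = ((g₁ * g₂) * s * (g₁ * g₂)⁻¹) * (g₁ * g₂) := by group
              _ = s * (g₁ * g₂) := by rw [e1]
          · calc g₁ * g₂ * s = g₁ * (g₂ * s) := by group
              _ = g₁ * (s * g₂) := by rw [hg₂S s hs']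
              _ = (g₁ * s) * g₂ := by group
              _ = (s * g₁) * g₂ := by rw [hg₁S s hs']
              _ = s * (g₁ * g₂) := by group
        · calc (g₁ * g₂) * y * (g₁ * g₂)⁻¹ = g₁ * (g₂ * y * g₂⁻¹) * g₁⁻¹ := by group
            _ = g₁ * y * g₁⁻¹ := by rw [hg₂y']
            _ = z * y := hg₁y

end ExtraLike

/-! ### Maximal `p`-subgroups of a subgroup, and normalizers grow -/

theorem exists_max_pSub {p : ℕ} (D P : Subgroup G) (hP : IsPGroup p P) (hPD : P ≤ D) :
    ∃ T : Subgroup G, P ≤ T ∧ T ≤ D ∧ IsPGroup p T ∧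
      ∀ T' : Subgroup G, T ≤ T' → T' ≤ D → IsPGroup p T' → T' ≤ T := by
  have hP' : IsPGroup p (P.subgroupOf D) :=
    hP.comap_of_injective D.subtype (Subgroup.subtype_injective D)
  obtain ⟨S, hS⟩ := hP'.exists_le_sylow
  refine ⟨(S : Subgroup D).map D.subtype, ?_, Subgroup.map_subtype_le _, S.isPGroup'.map _, ?_⟩
  · intro a ha
    have h1 : (⟨a, hPD ha⟩ : D) ∈ P.subgroupOf D := by
      rw [Subgroup.mem_subgroupOf]; exact ha
    exact ⟨⟨a, hPD ha⟩, hS h1, rfl⟩
  · intro T' hTT' hT'D hT'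
    have h1 : IsPGroup p (T'.subgroupOf D) :=
      hT'.comap_of_injective D.subtype (Subgroup.subtype_injective D)
    have h2 : (S : Subgroup D) ≤ T'.subgroupOf D := by
      intro s hs
      rw [Subgroup.mem_subgroupOf]
      exact hTT' ⟨s, hs, rfl⟩
    have h3 := S.is_maximal' h1 h2
    intro a ha
    have h4 : (⟨a, hT'D ha⟩ : D) ∈ T'.subgroupOf D := by
      rw [Subgroup.mem_subgroupOf]; exact ha
    rw [h3] at h4
    exact ⟨⟨a, hT'D ha⟩, h4, rfl⟩

theorem exists_normalizing [Finite G] {p : ℕ} (hp : p.Prime) {T Tx : Subgroup G}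
    (hTx : IsPGroup p Tx) (hle : T ≤ Tx) (hne : ¬ Tx ≤ T) :
    ∃ t ∈ Tx, t ∉ T ∧ (∀ y ∈ T, t * y * t⁻¹ ∈ T) ∧ (∀ y ∈ T, t⁻¹ * y * t ∈ T) := by
  haveI : Fact p.Prime := ⟨hp⟩
  haveI : Group.IsNilpotent ↥Tx := hTx.isNilpotent
  have hnc : NormalizerCondition ↥Tx := Group.normalizerCondition_of_isNilpotent
  have hlt : T.subgroupOf Tx < ⊤ := by
    rw [lt_top_iff_ne_top]
    intro h
    exact hne (Subgroup.subgroupOf_eq_top.mp h)
  have h1 := hnc _ hlt
  obtain ⟨t, htn, htT⟩ := SetLike.exists_of_lt h1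
  refine ⟨t.1, t.2, ?_, ?_, ?_⟩
  · intro h
    apply htT
    rw [Subgroup.mem_subgroupOf]; exact h
  · intro y hy
    have h2 : (⟨y, hle hy⟩ : Tx) ∈ T.subgroupOf Tx := by
      rw [Subgroup.mem_subgroupOf]; exact hy
    have h3 := (Subgroup.mem_normalizer_iff.mp htn _).mp h2
    rw [Subgroup.mem_subgroupOf] at h3
    exact h3
  · intro y hy
    have h2 : (⟨y, hle hy⟩ : Tx) ∈ T.subgroupOf Tx := by
      rw [Subgroup.mem_subgroupOf]; exact hy
    have htn' := Subgroup.inv_mem _ htn
    have h3 := (Subgroup.mem_normalizer_iff.mp htn' _).mp h2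
    rw [Subgroup.mem_subgroupOf] at h3
    simpa using h3

/-- Abstract core of the symmetry of orthogonality: two "extraspecial-like" normal 2-subgroups
`Qz ⊴ C(z)`, `Qx ⊴ C(x)` with `x ∈ Qz`, `x ≠ z` yield elements inducing the symmetric group on
`{z, x, z x}`. -/
theorem exists_S3 [Finite G] {Qz Qx : Subgroup G} {z x : G}
    (hEz : ExtraLike Qz z) (hEx : ExtraLike Qx x)
    (hpz : IsPGroup 2 Qz) (hpx : IsPGroup 2 Qx)
    (hNz : Subgroup.centralizer ({z} : Set G) ≤ Subgroup.normalizer (Qz : Set G))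
    (hNx : Subgroup.centralizer ({x} : Set G) ≤ Subgroup.normalizer (Qx : Set G))
    (hx : x ∈ Qz) (hxz : x ≠ z) :
    ∃ t q : G, q ∈ Qz ∧ q * x * q⁻¹ = z * x ∧ t * x = x * t ∧ t * z * t⁻¹ = z * x := by
  have hx1 : x ≠ 1 := hEx.ne_one
  have hx2 : x * x = 1 := hEx.sq
  have hzx : z * x = x * z := hEz.central x hx
  have hQzC : Qz ≤ Subgroup.centralizer ({z} : Set G) := by
    intro b hb
    exact Subgroup.mem_centralizer_singleton_iff.mpr (hEz.central b hb).symm
  have hQxC : Qx ≤ Subgroup.centralizer ({x} : Set G) := by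
    intro b hb
    exact Subgroup.mem_centralizer_singleton_iff.mpr (hEx.central b hb).symm
  obtain ⟨q, hqQ, hqx⟩ := hEz.exists_noncomm hx hx1 hxz
  have hRD : Qz ⊓ Subgroup.centralizer ({x} : Set G) ≤
      Subgroup.centralizer ({x} : Set G) ⊓ Subgroup.centralizer ({z} : Set G) := by
    intro r hr
    exact ⟨hr.2, hQzC hr.1⟩
  have hRp : IsPGroup 2 (Qz ⊓ Subgroup.centralizer ({x} : Set G) : Subgroup G) :=
    hpz.to_le inf_le_left
  obtain ⟨T, hRT, hTD, hTp, hTmax⟩ := exists_max_pSub _ _ hRp hRD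
  have hTCx : T ≤ Subgroup.centralizer ({x} : Set G) := hTD.trans inf_le_left
  have hTCz : T ≤ Subgroup.centralizer ({z} : Set G) := hTD.trans inf_le_right
  obtain ⟨Tx, hTTx, hTxC, hTxp, hTxmax⟩ := exists_max_pSub _ T hTp hTCx
  have hQxTx : Qx ≤ Tx := by
    have h1 : IsPGroup 2 (Tx ⊔ Qx : Subgroup G) :=
      IsPGroup.to_sup_of_normal_right' hTxp hpx (hTxC.trans hNx)
    have h2 := hTxmax (Tx ⊔ Qx) le_sup_left (sup_le hTxC hQxC) h1
    exact le_sup_right.trans h2
  have hne : ¬ Tx ≤ T := by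
    intro h
    have h1 : ∀ b ∈ Qx, z * b = b * z := by
      intro b hb
      have : b ∈ Subgroup.centralizer ({z} : Set G) := hTCz (h (hQxTx hb))
      exact (Subgroup.mem_centralizer_singleton_iff.mp this).symm
    rcases hEx.cent z h1 with h2 | h2
    · exact hEz.ne_one h2
    · exact hxz h2.symm
  obtain ⟨t, htTx, htT, htn, htn'⟩ := exists_normalizing Nat.prime_two hTxp hTTx hne
  have htx : t * x = x * t := Subgroup.mem_centralizer_singleton_iff.mp (hTxC htTx)
  have htz : t * z ≠ z * t := by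
    intro h
    apply htT
    have h1 : T ⊔ Subgroup.zpowers t ≤ Tx :=
      sup_le hTTx (by rw [Subgroup.zpowers_le]; exact htTx)
    have h2 : IsPGroup 2 (T ⊔ Subgroup.zpowers t : Subgroup G) := hTxp.to_le h1
    have h3 : T ⊔ Subgroup.zpowers t ≤
        Subgroup.centralizer ({x} : Set G) ⊓ Subgroup.centralizer ({z} : Set G) := by
      apply sup_le hTD
      rw [Subgroup.zpowers_le]
      exact ⟨hTxC htTx, Subgroup.mem_centralizer_singleton_iff.mpr h⟩
    have h4 := hTmax _ le_sup_left h3 h2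
    have h5 : t ∈ T ⊔ Subgroup.zpowers t :=
      (le_sup_right : Subgroup.zpowers t ≤ T ⊔ Subgroup.zpowers t) (Subgroup.mem_zpowers t)
    exact h4 h5
  obtain ⟨z', hz'def⟩ : ∃ z', z' = t * z * t⁻¹ := ⟨_, rfl⟩
  have hzT : z ∈ T := hRT ⟨hEz.mem, Subgroup.mem_centralizer_singleton_iff.mpr hzx⟩
  have hz'T : z' ∈ T := by rw [hz'def]; exact htn z hzT
  have hz'ne : z' ≠ z := by
    intro h
    apply htz
    calc t * z = (t * z * t⁻¹) * t := by group
      _ = z * t := by rw [← hz'def, h]
  have hz'c : ∀ y ∈ T, z' * y = y * z' := by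
    intro y hy
    have h1 : t⁻¹ * y * t ∈ T := htn' y hy
    have h2 : (t⁻¹ * y * t) * z = z * (t⁻¹ * y * t) :=
      Subgroup.mem_centralizer_singleton_iff.mp (hTCz h1)
    rw [hz'def]
    calc t * z * t⁻¹ * y = t * (z * (t⁻¹ * y * t)) * t⁻¹ := by group
      _ = t * ((t⁻¹ * y * t) * z) * t⁻¹ := by rw [h2]
      _ = y * (t * z * t⁻¹) := by group
  have hyq : z' * q * z'⁻¹ ∈ Qz :=
    (Subgroup.mem_normalizer_iff.mp (hNz (hTCz hz'T)) q).mp hqQ
  have hyR : ∀ r ∈ Qz, r * x = x * r → z' * r = r * z' := by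
    intro r hr hrx
    exact hz'c r (hRT ⟨hr, Subgroup.mem_centralizer_singleton_iff.mpr hrx⟩)
  have h4 := hEz.hyperplane_cent hx hx2 hqQ hqx hyq hyR
  have hz'1 : z' ≠ 1 := by
    intro h
    apply hEz.ne_one
    calc z = t⁻¹ * (t * z * t⁻¹) * t := by group
      _ = 1 := by rw [← hz'def, h]; group
  have hz'x : z' ≠ x := by
    intro h
    apply hxz
    calc x = t⁻¹ * (t * x) := by group
      _ = t⁻¹ * (x * t) := by rw [htx]
      _ = t⁻¹ * ((t * z * t⁻¹) * t) := by rw [← hz'def, h]
      _ = z := by group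
  have hz'zx : z' = z * x := by
    rcases h4 with h | h | h | h
    · exact absurd h hz'1
    · exact absurd h hz'ne
    · exact absurd h hz'x
    · exact h
  exact ⟨t, q, hqQ, hqx, htx, by rw [← hz'def]; exact hz'zx⟩

/-- an element of a `2`-subgroup lying in a subgroup of odd order is trivial. -/
theorem eq_one_of_mem_two_of_mem_odd {Q K : Subgroup G} (hQ : IsPGroup 2 Q)
    (hK : Odd (Nat.card K)) {a : G} (haQ : a ∈ Q) (haK : a ∈ K) : a = 1 := by
  obtain ⟨m, hm⟩ := hQ ⟨a, haQ⟩
  have h1 : a ^ (2 ^ m) = 1 := by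
    have := congrArg Subtype.val hm
    simpa using this
  have h2 : a ^ (Nat.card K) = 1 := by
    have h3 : (⟨a, haK⟩ : K) ^ (Nat.card K) = 1 := pow_card_eq_one'
    have h4 := congrArg Subtype.val h3
    rw [Subgroup.coe_pow, Subgroup.coe_one] at h4
    exact h4
  have hcop : Nat.Coprime (2 ^ m) (Nat.card K) := by
    apply Nat.Coprime.pow_left
    rw [Nat.coprime_two_left]
    exact hK
  exact eq_one_of_pow_eq_one_of_coprime h1 h2 hcop

/-- A subgroup of odd order normalized by a four-group `{1, a, b, ab}` all of whose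
involutions act fixed-point-freely is trivial. -/
theorem odd_eq_bot_of_fpf_four [Finite G] (K : Subgroup G) (hK : Odd (Nat.card K)) (a b : G)
    (ha2 : a * a = 1) (hb2 : b * b = 1) (hab : a * b = b * a)
    (hNa : ∀ k ∈ K, a * k * a⁻¹ ∈ K) (hNb : ∀ k ∈ K, b * k * b⁻¹ ∈ K)
    (hCa : ∀ k ∈ K, k * a = a * k → k = 1) (hCb : ∀ k ∈ K, k * b = b * k → k = 1)
    (hCab : ∀ k ∈ K, k * (a * b) = (a * b) * k → k = 1) : K = ⊥ := by
  -- conjugation by an involution `c` normalizing `K` inverts `K` if fixed-point-free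
  have key : ∀ c : G, c * c = 1 → (∀ k ∈ K, c * k * c⁻¹ ∈ K) →
      (∀ k ∈ K, k * c = c * k → k = 1) → ∀ k ∈ K, c * k * c⁻¹ = k⁻¹ := by
    intro c hc2 hNc hCc k hk
    have hcinv : c⁻¹ = c := inv_eq_of_mul_eq_one_right hc2
    let φ : ↥K →* ↥K :=
      { toFun := fun k => ⟨c * (k : G) * c⁻¹, hNc k k.2⟩
        map_one' := by
          apply Subtype.ext
          simp
        map_mul' := by
          intro u v
          apply Subtype.ext
          simp }
    have hfpf : MonoidHom.FixedPointFree φ := by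
      intro k hk'
      have h1 : c * (k : G) * c⁻¹ = (k : G) := congrArg Subtype.val hk'
      apply Subtype.ext
      apply hCc k k.2
      calc (k : G) * c = (c * (k : G) * c⁻¹) * c := by rw [h1]
        _ = c * k := by group
    have hinv : Function.Involutive φ := by
      intro k
      apply Subtype.ext
      change c * (c * (k : G) * c⁻¹) * c⁻¹ = (k : G)
      calc c * (c * (k : G) * c⁻¹) * c⁻¹ = (c * c) * (k : G) * (c * c)⁻¹ := by group
        _ = k := by rw [hc2]; group
    have h3 := hfpf.coe_eq_inv_of_involutive hinv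
    have h4 := congrFun h3 ⟨k, hk⟩
    exact congrArg Subtype.val h4
  have hab2 : (a * b) * (a * b) = 1 := by
    calc (a * b) * (a * b) = a * (b * a) * b := by group
      _ = a * (a * b) * b := by rw [hab]
      _ = (a * a) * (b * b) := by group
      _ = 1 := by rw [ha2, hb2, one_mul]
  have hNab : ∀ k ∈ K, (a * b) * k * (a * b)⁻¹ ∈ K := by
    intro k hk
    have h1 := hNa _ (hNb k hk)
    have h2 : (a * b) * k * (a * b)⁻¹ = a * (b * k * b⁻¹) * a⁻¹ := by group
    rw [h2]; exact h1
  rw [Subgroup.eq_bot_iff_forall]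
  intro k hk
  have h1 := key a ha2 hNa hCa
  have h2 := key b hb2 hNb hCb k hk
  have h3 := key (a * b) hab2 hNab hCab k hk
  have h4 : (a * b) * k * (a * b)⁻¹ = k := by
    calc (a * b) * k * (a * b)⁻¹ = a * (b * k * b⁻¹) * a⁻¹ := by group
      _ = a * k⁻¹ * a⁻¹ := by rw [h2]
      _ = (k⁻¹)⁻¹ := h1 _ (K.inv_mem hk)
      _ = k := inv_inv k
  have h5 : k = k⁻¹ := h4.symm.trans h3
  have h6 : k ^ 2 = 1 := by
    rw [pow_two]
    calc k * k = k * k⁻¹ := by rw [← h5]
      _ = 1 := mul_inv_cancel k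
  have h7 : k ^ (Nat.card K) = 1 := by
    have h8 : (⟨k, hk⟩ : K) ^ (Nat.card K) = 1 := pow_card_eq_one'
    have h9 := congrArg Subtype.val h8
    rw [Subgroup.coe_pow, Subgroup.coe_one] at h9
    exact h9
  have hcop : Nat.Coprime 2 (Nat.card K) := by
    rw [Nat.coprime_two_left]; exact hK
  exact eq_one_of_pow_eq_one_of_coprime h6 h7 hcop

theorem mem_map_conj {E : Subgroup G} {g y : G} :
    y ∈ E.map (MulAut.conj g).toMonoidHom ↔ g⁻¹ * y * g ∈ E := by
  constructor
  · rintro ⟨w, hw, rfl⟩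
    simp only [MulEquiv.coe_toMonoidHom, MulAut.conj_apply]
    have : g⁻¹ * (g * w * g⁻¹) * g = w := by group
    rw [this]; exact hw
  · intro hy
    refine ⟨g⁻¹ * y * g, hy, ?_⟩
    simp only [MulEquiv.coe_toMonoidHom, MulAut.conj_apply]
    group

/-- in a finite group, an element conjugating `V` into itself normalizes `V`. -/
theorem mem_normalizer_of_conj_mem [Finite G] {V : Subgroup G} {n : G}
    (h : ∀ v ∈ V, n * v * n⁻¹ ∈ V) : n ∈ Subgroup.normalizer (V : Set G) := by
  rw [Subgroup.mem_normalizer_iff]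
  intro a
  constructor
  · exact h a
  · intro ha
    let f : ↥V → ↥V := fun v => ⟨n * (v : G) * n⁻¹, h v v.2⟩
    have hinj : Function.Injective f := by
      intro u v huv
      have h1 : n * (u : G) * n⁻¹ = n * (v : G) * n⁻¹ := congrArg Subtype.val huv
      apply Subtype.ext
      calc (u : G) = n⁻¹ * (n * (u : G) * n⁻¹) * n := by group
        _ = n⁻¹ * (n * (v : G) * n⁻¹) * n := by rw [h1]
        _ = v := by group
    have hsurj := Finite.surjective_of_injective hinj
    obtain ⟨v, hv⟩ := hsurj ⟨n * a * n⁻¹, ha⟩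
    have h1 : n * (v : G) * n⁻¹ = n * a * n⁻¹ := congrArg Subtype.val hv
    have h2 : a = v := by
      calc a = n⁻¹ * (n * a * n⁻¹) * n := by group
        _ = n⁻¹ * (n * (v : G) * n⁻¹) * n := by rw [h1]
        _ = v := by group
    rw [h2]; exact v.2

/-- An extraspecial `2`-subgroup whose centralizer is its centre is `ExtraLike`. -/
theorem exists_extraLike (Q : Subgroup G) (hL1 : Cfsg.IsExtraspecial 2 ↥Q)
    (hL2 : Subgroup.centralizer (Q : Set G) = (Subgroup.center ↥Q).map Q.subtype) :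
    ∃ z : G, ExtraLike Q z ∧
      ∀ a : G, a ∈ (Subgroup.center ↥Q).map Q.subtype ↔ a = 1 ∨ a = z := by
  have hcard : Nat.card (Subgroup.center ↥Q) = 2 := hL1.2
  obtain ⟨y, hy1, hy2⟩ := (Nat.card_eq_two_iff' (1 : Subgroup.center ↥Q)).mp hcard
  have hyv : ((y : ↥Q) : G) ≠ 1 := by
    intro h
    apply hy1
    apply Subtype.ext
    apply Subtype.ext
    exact h
  have hcen : ∀ c : ↥Q, c ∈ Subgroup.center ↥Q → c = 1 ∨ c = (y : ↥Q) := by
    intro c hc
    by_cases hc1 : c = 1
    · left; exact hc1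
    · right
      have e1 : (⟨c, hc⟩ : Subgroup.center ↥Q) = y := by
        apply hy2
        intro h
        apply hc1
        exact congrArg Subtype.val h
      exact congrArg Subtype.val e1
  have hZ : ∀ a : G, a ∈ (Subgroup.center ↥Q).map Q.subtype ↔ a = 1 ∨ a = ((y : ↥Q) : G) := by
    intro a
    constructor
    · rintro ⟨c, hc, rfl⟩
      rcases hcen c hc with h | h
      · left; rw [h]; rfl
      · right; rw [h]; rfl
    · rintro (h | h)
      · rw [h]; exact Subgroup.one_mem _
      · rw [h]; exact ⟨(y : ↥Q), y.2, rfl⟩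
  have hycomm : ∀ b ∈ Q, ((y : ↥Q) : G) * b = b * ((y : ↥Q) : G) := by
    intro b hb
    have h1 := Subgroup.mem_center_iff.mp y.2 ⟨b, hb⟩
    exact (congrArg Subtype.val h1).symm
  refine ⟨((y : ↥Q) : G), ⟨(y : ↥Q).2, hyv, ?_, ?_, ?_, hycomm⟩, hZ⟩
  · -- `y * y = 1`
    have h1 : (y : ↥Q) * (y : ↥Q) ∈ Subgroup.center ↥Q := Subgroup.mul_mem _ y.2 y.2
    rcases hcen _ h1 with h | h
    · exact congrArg Subtype.val h
    · exfalso
      apply hyv
      have h2 : ((y : ↥Q) : G) * ((y : ↥Q) : G) = ((y : ↥Q) : G) := congrArg Subtype.val h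
      calc ((y : ↥Q) : G) = (((y : ↥Q) : G) * ((y : ↥Q) : G)) * ((y : ↥Q) : G)⁻¹ := by group
        _ = 1 := by rw [h2]; group
  · intro a ha b hb
    have h1 : ⁅(⟨a, ha⟩ : ↥Q), (⟨b, hb⟩ : ↥Q)⁆ ∈ Subgroup.center ↥Q := by
      rw [← hL1.1.2.2, commutator_def]
      exact Subgroup.commutator_mem_commutator (Subgroup.mem_top _) (Subgroup.mem_top _)
    rcases hcen _ h1 with h2 | h2
    · left
      have := congrArg Subtype.val h2
      simpa [commutatorElement_def] using this
    · right
      have := congrArg Subtype.val h2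
      simpa [commutatorElement_def] using this
  · intro c hc
    have hcC : c ∈ Subgroup.centralizer (Q : Set G) := by
      rw [Subgroup.mem_centralizer_iff]
      intro b hb
      exact (hc b hb).symm
    rw [hL2] at hcC
    exact (hZ c).mp hcC

section Large

variable (Q : G → Subgroup G)
  (hQ : ∀ x : G, Q x = (Cfsg.pCore 2 ↥(Subgroup.centralizer ({x} : Set G))).map
    (Subgroup.centralizer ({x} : Set G)).subtype)
  (z : G) (hz : orderOf z = 2) (hE : Cfsg.IsExtraspecial 2 ↥(Q z))
  (hC : Subgroup.centralizer ((Q z : Subgroup G) : Set G) ≤ Q z)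

include hQ hz hE hC

theorem extraLike_base : ExtraLike (Q z) z := by
  have hz1 : z ≠ 1 := by
    intro h
    rw [h, orderOf_one] at hz
    omega
  have hzsq : z * z = 1 := by
    have := pow_orderOf_eq_one z
    rw [hz, pow_two] at this
    exact this
  have hzmem : z ∈ Q z := by
    apply hC
    rw [Subgroup.mem_centralizer_iff]
    intro b hb
    exact Q_comm Q hQ hb
  have hzc : (⟨z, hzmem⟩ : ↥(Q z)) ∈ Subgroup.center ↥(Q z) := by
    rw [Subgroup.mem_center_iff]
    intro b
    apply Subtype.ext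
    exact Q_comm Q hQ b.2
  have hcard : Nat.card (Subgroup.center ↥(Q z)) = 2 := hE.2
  have hcen : ∀ c : ↥(Q z), c ∈ Subgroup.center ↥(Q z) → c = 1 ∨ c = ⟨z, hzmem⟩ := by
    intro c hc
    obtain ⟨y, hy1, hy2⟩ := (Nat.card_eq_two_iff' (1 : Subgroup.center ↥(Q z))).mp hcard
    by_cases hc1 : c = 1
    · left; exact hc1
    · right
      have e1 : (⟨c, hc⟩ : Subgroup.center ↥(Q z)) = y := by
        apply hy2
        intro h
        apply hc1
        exact congrArg Subtype.val h
      have e2 : (⟨⟨z, hzmem⟩, hzc⟩ : Subgroup.center ↥(Q z)) = y := by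
        apply hy2
        intro h
        apply hz1
        exact congrArg (fun t : Subgroup.center ↥(Q z) => ((t : ↥(Q z)) : G)) h
      have e3 := e1.trans e2.symm
      exact congrArg Subtype.val e3
  refine ⟨hzmem, hz1, hzsq, ?_, ?_, ?_⟩
  · intro a ha b hb
    have h1 : ⁅(⟨a, ha⟩ : ↥(Q z)), (⟨b, hb⟩ : ↥(Q z))⁆ ∈ Subgroup.center ↥(Q z) := by
      rw [← hE.1.2.2, commutator_def]
      exact Subgroup.commutator_mem_commutator (Subgroup.mem_top _) (Subgroup.mem_top _)
    rcases hcen _ h1 with h2 | h2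
    · left
      have := congrArg Subtype.val h2
      simpa [commutatorElement_def] using this
    · right
      have := congrArg Subtype.val h2
      simpa [commutatorElement_def] using this
  · intro c hc
    have hcQ : c ∈ Q z := by
      apply hC
      rw [Subgroup.mem_centralizer_iff]
      intro b hb
      exact (hc b hb).symm
    have h1 : (⟨c, hcQ⟩ : ↥(Q z)) ∈ Subgroup.center ↥(Q z) := by
      rw [Subgroup.mem_center_iff]
      intro b
      apply Subtype.ext
      exact (hc b b.2).symm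
    rcases hcen _ h1 with h2 | h2
    · left; exact congrArg Subtype.val h2
    · right; exact congrArg Subtype.val h2
  · intro b hb
    exact (Q_comm Q hQ hb).symm

theorem extraLike_conj (g : G) : ExtraLike (Q (g * z * g⁻¹)) (g * z * g⁻¹) := by
  rw [Q_conj Q hQ]
  exact (extraLike_base Q hQ z hz hE hC).conj g

/-- Orthogonality of singular involutions is symmetric. -/
theorem orth_symm [Finite G] (g : G) (hx : g * z * g⁻¹ ∈ Q z) : z ∈ Q (g * z * g⁻¹) := by
  have hEz := extraLike_base Q hQ z hz hE hC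
  have hEx := extraLike_conj Q hQ z hz hE hC g
  generalize hxdef : g * z * g⁻¹ = x at hx hEx ⊢
  by_cases hxz : x = z
  · rw [hxz]; exact hEz.mem
  have hx1 : x ≠ 1 := hEx.ne_one
  have hx2 : x * x = 1 := hEx.sq
  have hzx : z * x = x * z := hEz.central x hx
  obtain ⟨q, hqQ, hqx⟩ := hEz.exists_noncomm hx hx1 hxz
  have hRD : Q z ⊓ Subgroup.centralizer ({x} : Set G) ≤
      Subgroup.centralizer ({x} : Set G) ⊓ Subgroup.centralizer ({z} : Set G) := by
    intro r hr
    exact ⟨hr.2, Q_le_cent Q hQ z hr.1⟩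
  have hRp : IsPGroup 2 (Q z ⊓ Subgroup.centralizer ({x} : Set G) : Subgroup G) :=
    (Q_isPGroup Q hQ z).to_le inf_le_left
  obtain ⟨T, hRT, hTD, hTp, hTmax⟩ := exists_max_pSub _ _ hRp hRD
  have hTCx : T ≤ Subgroup.centralizer ({x} : Set G) := hTD.trans inf_le_left
  have hTCz : T ≤ Subgroup.centralizer ({z} : Set G) := hTD.trans inf_le_right
  obtain ⟨Tx, hTTx, hTxC, hTxp, hTxmax⟩ := exists_max_pSub _ T hTp hTCx
  have hQxTx : Q x ≤ Tx := by
    have h1 : IsPGroup 2 (Tx ⊔ Q x : Subgroup G) :=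
      IsPGroup.to_sup_of_normal_right' hTxp (Q_isPGroup Q hQ x)
        (hTxC.trans (cent_le_normalizer_Q Q hQ x))
    have h2 := hTxmax (Tx ⊔ Q x) le_sup_left (sup_le hTxC (Q_le_cent Q hQ x)) h1
    exact le_sup_right.trans h2
  have hne : ¬ Tx ≤ T := by
    intro h
    have h1 : ∀ b ∈ Q x, z * b = b * z := by
      intro b hb
      have : b ∈ Subgroup.centralizer ({z} : Set G) := hTCz (h (hQxTx hb))
      exact (Subgroup.mem_centralizer_singleton_iff.mp this).symm
    rcases hEx.cent z h1 with h2 | h2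
    · exact hEz.ne_one h2
    · exact hxz h2.symm
  obtain ⟨t, htTx, htT, htn, htn'⟩ := exists_normalizing Nat.prime_two hTxp hTTx hne
  have htx : t * x = x * t := Subgroup.mem_centralizer_singleton_iff.mp (hTxC htTx)
  have htz : t * z ≠ z * t := by
    intro h
    apply htT
    have h1 : T ⊔ Subgroup.zpowers t ≤ Tx :=
      sup_le hTTx (by rw [Subgroup.zpowers_le]; exact htTx)
    have h2 : IsPGroup 2 (T ⊔ Subgroup.zpowers t : Subgroup G) := hTxp.to_le h1
    have h3 : T ⊔ Subgroup.zpowers t ≤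
        Subgroup.centralizer ({x} : Set G) ⊓ Subgroup.centralizer ({z} : Set G) := by
      apply sup_le hTD
      rw [Subgroup.zpowers_le]
      exact ⟨hTxC htTx, Subgroup.mem_centralizer_singleton_iff.mpr h⟩
    have h4 := hTmax _ le_sup_left h3 h2
    have h5 : t ∈ T ⊔ Subgroup.zpowers t :=
      (le_sup_right : Subgroup.zpowers t ≤ T ⊔ Subgroup.zpowers t) (Subgroup.mem_zpowers t)
    exact h4 h5
  obtain ⟨z', hz'def⟩ : ∃ z', z' = t * z * t⁻¹ := ⟨_, rfl⟩
  have hzT : z ∈ T := hRT ⟨hEz.mem, Subgroup.mem_centralizer_singleton_iff.mpr hzx⟩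
  have hz'T : z' ∈ T := by rw [hz'def]; exact htn z hzT
  have hz'ne : z' ≠ z := by
    intro h
    apply htz
    calc t * z = (t * z * t⁻¹) * t := by group
      _ = z * t := by rw [← hz'def, h]
  have hz'c : ∀ y ∈ T, z' * y = y * z' := by
    intro y hy
    have h1 : t⁻¹ * y * t ∈ T := htn' y hy
    have h2 : (t⁻¹ * y * t) * z = z * (t⁻¹ * y * t) :=
      Subgroup.mem_centralizer_singleton_iff.mp (hTCz h1)
    rw [hz'def]
    calc t * z * t⁻¹ * y = t * (z * (t⁻¹ * y * t)) * t⁻¹ := by group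
      _ = t * ((t⁻¹ * y * t) * z) * t⁻¹ := by rw [h2]
      _ = y * (t * z * t⁻¹) := by group
  have hz'z : z' * z = z * z' := Subgroup.mem_centralizer_singleton_iff.mp (hTCz hz'T)
  have hyq : z' * q * z'⁻¹ ∈ Q z := conj_mem_Q Q hQ hz'z hqQ
  have hyR : ∀ r ∈ Q z, r * x = x * r → z' * r = r * z' := by
    intro r hr hrx
    exact hz'c r (hRT ⟨hr, Subgroup.mem_centralizer_singleton_iff.mpr hrx⟩)
  have h4 := hEz.hyperplane_cent hx hx2 hqQ hqx hyq hyR
  have hz'1 : z' ≠ 1 := by
    intro h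
    apply hEz.ne_one
    calc z = t⁻¹ * (t * z * t⁻¹) * t := by group
      _ = 1 := by rw [← hz'def, h]; group
  have hz'x : z' ≠ x := by
    intro h
    apply hxz
    calc x = t⁻¹ * (t * x) := by group
      _ = t⁻¹ * (x * t) := by rw [htx]
      _ = t⁻¹ * ((t * z * t⁻¹) * t) := by rw [← hz'def, h]
      _ = z := by group
  have hz'zx : z' = z * x := by
    rcases h4 with h | h | h | h
    · exact absurd h hz'1
    · exact absurd h hz'ne
    · exact absurd h hz'x
    · exact h
  -- `w = t⁻¹ q` conjugates `x` to `z` and `z` to `z x`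
  have hw1 : (t⁻¹ * q) * x * (t⁻¹ * q)⁻¹ = z := by
    calc (t⁻¹ * q) * x * (t⁻¹ * q)⁻¹ = t⁻¹ * (q * x * q⁻¹) * t := by group
      _ = t⁻¹ * (z * x) * t := by rw [hqx]
      _ = t⁻¹ * (t * z * t⁻¹) * t := by rw [← hz'zx, hz'def]
      _ = z := by group
  have hqz : q * z = z * q := (hEz.central q hqQ).symm
  have hw2 : (t⁻¹ * q) * z * (t⁻¹ * q)⁻¹ = z * x := by
    have e1 : t⁻¹ * z * t = z * x := by
      -- from `t z t⁻¹ = z x` and `t x = x t`
      have e2 : t⁻¹ * (z * x) * t = z := by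
        calc t⁻¹ * (z * x) * t = t⁻¹ * (t * z * t⁻¹) * t := by rw [← hz'zx, hz'def]
          _ = z := by group
      have hxinv : x⁻¹ = x := inv_eq_of_mul_eq_one_right hx2
      calc t⁻¹ * z * t = t⁻¹ * z * (t * x) * x⁻¹ := by group
        _ = t⁻¹ * z * (x * t) * x⁻¹ := by rw [htx]
        _ = (t⁻¹ * (z * x) * t) * x⁻¹ := by group
        _ = z * x := by rw [e2, hxinv]
    calc (t⁻¹ * q) * z * (t⁻¹ * q)⁻¹ = t⁻¹ * ((q * z) * q⁻¹) * t := by group
      _ = t⁻¹ * ((z * q) * q⁻¹) * t := by rw [hqz]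
      _ = t⁻¹ * z * t := by group
      _ = z * x := e1
  have h6 : (t⁻¹ * q) * z * (t⁻¹ * q)⁻¹ ∈ Q ((t⁻¹ * q) * x * (t⁻¹ * q)⁻¹) := by
    rw [hw1, hw2]
    exact (Q z).mul_mem hEz.mem hx
  have h7 := (mem_Q_conj Q hQ).mp h6
  have h8 : (t⁻¹ * q)⁻¹ * ((t⁻¹ * q) * z * (t⁻¹ * q)⁻¹) * (t⁻¹ * q) = z := by group
  rw [h8] at h7
  exact h7

section Singular

variable (U : Subgroup G) (hU2 : ∀ u ∈ U, u * u = 1)
  (hS : ∀ u ∈ U, u ≠ 1 → ∃ g : G, g * z * g⁻¹ = u)
  (hO : ∀ u ∈ U, ∀ v ∈ U, u ≠ 1 → v ≠ 1 → v ∈ Q u)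

include hS in
theorem extraLike_sing {u : G} (hu : u ∈ U) (hu1 : u ≠ 1) : ExtraLike (Q u) u := by
  obtain ⟨g, hg⟩ := hS u hu hu1
  rw [← hg]
  exact extraLike_conj Q hQ z hz hE hC g

include hU2 in
theorem sing_mul_ne_one {u v : G} (hu : u ∈ U) (huv : u ≠ v) : u * v ≠ 1 := by
  intro h
  apply huv
  calc u = u * (u * v) := by rw [h, mul_one]
    _ = (u * u) * v := by group
    _ = v := by rw [hU2 u hu, one_mul]

include hU2 hS hO in
/-- `Q u ∩ Q v ≤ Q (u v)` for distinct non-identity `u, v` in a singular subgroup. -/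
theorem inter_le_Q_mul {u v : G} (hu : u ∈ U) (hv : v ∈ U) (hu1 : u ≠ 1) (hv1 : v ≠ 1)
    (huv : u ≠ v) : Q u ⊓ Q v ≤ Q (u * v) := by
  have hEu := extraLike_sing Q hQ z hz hE hC U hS hu hu1
  have hvQ : v ∈ Q u := hO u hu v hv hu1 hv1
  obtain ⟨q, hq, hqv⟩ := hEu.exists_noncomm hvQ hv1 (Ne.symm huv)
  have huv1 : u * v ≠ 1 := sing_mul_ne_one Q hQ z hz hE hC U hU2 hu huv
  have huQ : u ∈ Q (u * v) := hO (u * v) (U.mul_mem hu hv) u hu huv1 hu1
  intro a ha
  have h1 : q * a * q⁻¹ ∈ Q (u * v) := by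
    rw [← hqv]
    exact conj_mem_Q_conj Q hQ ha.2
  rcases hEu.conj_eq hq ha.1 with h2 | h2
  · rw [h2] at h1; exact h1
  · rw [h2] at h1
    have h3 : a = u⁻¹ * (u * a) := by group
    rw [h3]
    exact (Q (u * v)).mul_mem ((Q (u * v)).inv_mem huQ) h1

include hS hO in
/-- the join of the `Q u` normalizes a singular subgroup. -/
theorem LU_conj_mem (LU : Subgroup G) (hLU : LU = ⨆ u ∈ ((U : Set G) \ {1}), Q u) :
    ∀ g ∈ LU, ∀ u ∈ U, g * u * g⁻¹ ∈ U := by
  intro g hg
  rw [hLU, iSup_subtype'] at hg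
  refine Subgroup.iSup_induction _ (C := fun g => ∀ u ∈ U, g * u * g⁻¹ ∈ U) hg ?_ ?_ ?_
  · intro i x hx u hu
    obtain ⟨u₀, hu₀, hu₀1⟩ := i
    have hu₀1' : u₀ ≠ 1 := hu₀1
    have hE₀ := extraLike_sing Q hQ z hz hE hC U hS hu₀ hu₀1'
    have hx' : x ∈ Q u₀ := hx
    have huQ : u ∈ Q u₀ := by
      by_cases hu1 : u = 1
      · rw [hu1]; exact Subgroup.one_mem _
      · exact hO u₀ hu₀ u hu hu₀1' hu1
    rcases hE₀.conj_eq hx' huQ with h1 | h1
    · rw [h1]; exact hu
    · rw [h1]; exact U.mul_mem hu₀ hu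
  · intro u hu; simpa using hu
  · intro g₁ g₂ ih₁ ih₂ u hu
    have h1 := ih₁ _ (ih₂ u hu)
    have h2 : g₁ * g₂ * u * (g₁ * g₂)⁻¹ = g₁ * (g₂ * u * g₂⁻¹) * g₁⁻¹ := by group
    rw [h2]; exact h1

end Singular

end Large

end Cfsg.Agent.Helper28.LargeExtra
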