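import Mathlib
import Cfsg.Prelude.Def_MonsterType
import Cfsg.Agent.Lib.Helper28.LargeExtra
import Cfsg.Agent.Lib.Helper8.PGroup
import Cfsg.Agent.Lib.Helper9.Extraspecial
import Cfsg.Agent.Lib.Helper7.FStar

set_option autoImplicit false

namespace Cfsg.Agent.Helper28.FStarExtra

open Cfsg Cfsg.Agent.Helper28.LargeExtra Cfsg.Agent.Helper14

variable {G : Type*} [Group G]

/-- `C(g z g⁻¹)` normalizes `g Q g⁻¹` if `C(z)` normalizes `Q`. -/
theorem normalizer_conj [Finite G] {Q : Subgroup G} {z : G}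
    (hNz : Subgroup.centralizer ({z} : Set G) ≤ Subgroup.normalizer (Q : Set G)) (g : G) :
    Subgroup.centralizer ({g * z * g⁻¹} : Set G) ≤
      Subgroup.normalizer ((Q.map (MulAut.conj g).toMonoidHom : Subgroup G) : Set G) := by
  intro c hc
  have hc' : c * (g * z * g⁻¹) = (g * z * g⁻¹) * c :=
    Subgroup.mem_centralizer_singleton_iff.mp hc
  have h1 : g⁻¹ * c * g ∈ Subgroup.centralizer ({z} : Set G) := by
    rw [Subgroup.mem_centralizer_singleton_iff]
    calc g⁻¹ * c * g * z = g⁻¹ * (c * (g * z * g⁻¹)) * g := by group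
      _ = g⁻¹ * ((g * z * g⁻¹) * c) * g := by rw [hc']
      _ = z * (g⁻¹ * c * g) := by group
  have h2 := hNz h1
  apply mem_normalizer_of_conj_mem
  intro v hv
  rw [mem_map_conj] at hv ⊢
  have h3 := (Subgroup.mem_normalizer_iff.mp h2 _).mp hv
  have h4 : g⁻¹ * (c * v * c⁻¹) * g = g⁻¹ * c * g * (g⁻¹ * v * g) * (g⁻¹ * c * g)⁻¹ := by group
  rw [h4]; exact h3

/-- symmetry of orthogonality in the abstract setting. -/
theorem z_mem_conj [Finite G] {Q : Subgroup G} {z : G} (hEz : ExtraLike Q z)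
    (hpz : IsPGroup 2 Q)
    (hNz : Subgroup.centralizer ({z} : Set G) ≤ Subgroup.normalizer (Q : Set G))
    (g : G) (hxQ : g * z * g⁻¹ ∈ Q) (hxz : g * z * g⁻¹ ≠ z) :
    z ∈ Q.map (MulAut.conj g).toMonoidHom := by
  have hEx := hEz.conj g
  have hpx : IsPGroup 2 ↥(Q.map (MulAut.conj g).toMonoidHom) := hpz.map _
  have hNx := normalizer_conj hNz g
  obtain ⟨t, q, hqQ, hqx, htx, htz⟩ := exists_S3 hEz hEx hpz hpx hNz hNx hxQ hxz
  generalize hxdef : g * z * g⁻¹ = x at hxQ hxz hEx hNx hqx htx htz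
  have hx2 : x * x = 1 := hEx.sq
  have hqz : q * z = z * q := (hEz.central q hqQ).symm
  have hxinv : x⁻¹ = x := inv_eq_of_mul_eq_one_right hx2
  have hw1 : (t⁻¹ * q) * x * (t⁻¹ * q)⁻¹ = z := by
    calc (t⁻¹ * q) * x * (t⁻¹ * q)⁻¹ = t⁻¹ * (q * x * q⁻¹) * t := by group
      _ = t⁻¹ * (t * z * t⁻¹) * t := by rw [hqx, htz]
      _ = z := by group
  have hw2 : (t⁻¹ * q) * z * (t⁻¹ * q)⁻¹ = z * x := by
    have e2 : t⁻¹ * (z * x) * t = z := by
      calc t⁻¹ * (z * x) * t = t⁻¹ * (t * z * t⁻¹) * t := by rw [htz]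
        _ = z := by group
    have e1 : t⁻¹ * z * t = z * x := by
      calc t⁻¹ * z * t = t⁻¹ * z * (t * x) * x⁻¹ := by group
        _ = t⁻¹ * z * (x * t) * x⁻¹ := by rw [htx]
        _ = (t⁻¹ * (z * x) * t) * x⁻¹ := by group
        _ = z * x := by rw [e2, hxinv]
    calc (t⁻¹ * q) * z * (t⁻¹ * q)⁻¹ = t⁻¹ * ((q * z) * q⁻¹) * t := by group
      _ = t⁻¹ * ((z * q) * q⁻¹) * t := by rw [hqz]
      _ = t⁻¹ * z * t := by group
      _ = z * x := e1
  rw [mem_map_conj]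
  have h1 : (t⁻¹ * q * g) ∈ Subgroup.centralizer ({z} : Set G) := by
    rw [Subgroup.mem_centralizer_singleton_iff]
    have h2 : (t⁻¹ * q * g) * z * (t⁻¹ * q * g)⁻¹ = z := by
      calc (t⁻¹ * q * g) * z * (t⁻¹ * q * g)⁻¹
          = (t⁻¹ * q) * (g * z * g⁻¹) * (t⁻¹ * q)⁻¹ := by group
        _ = z := by rw [hxdef, hw1]
    calc (t⁻¹ * q * g) * z = ((t⁻¹ * q * g) * z * (t⁻¹ * q * g)⁻¹) * (t⁻¹ * q * g) := by group
      _ = z * (t⁻¹ * q * g) := by rw [h2]
  have h3 := Subgroup.inv_mem _ (hNz h1)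
  have h4 : z * x ∈ Q := Q.mul_mem hEz.mem hxQ
  have h5 := (Subgroup.mem_normalizer_iff.mp h3 _).mp h4
  have h6 : (t⁻¹ * q * g)⁻¹ * (z * x) * (t⁻¹ * q * g)⁻¹⁻¹ = g⁻¹ * z * g := by
    rw [← hw2]; group
  rw [h6] at h5
  exact h5

/-- `Q` normalizes no non-trivial subgroup of odd order, given an element `x ∈ Q − ⟨z⟩` of order
two and a `2`-subgroup `P ∋ z` normalized by `C(x)`. -/
theorem large_of_orth [Finite G] {Q P : Subgroup G} {z x : G} (hEz : ExtraLike Q z)
    (hpz : IsPGroup 2 Q)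
    (hNz : Subgroup.centralizer ({z} : Set G) ≤ Subgroup.normalizer (Q : Set G))
    (hxQ : x ∈ Q) (hx1 : x ≠ 1) (hxz : x ≠ z) (hx2 : x * x = 1)
    (hP : IsPGroup 2 P) (hzP : z ∈ P)
    (hNP : Subgroup.centralizer ({x} : Set G) ≤ Subgroup.normalizer (P : Set G)) :
    ∀ K : Subgroup G, Odd (Nat.card K) → Q ≤ Subgroup.normalizer (K : Set G) → K = ⊥ := by
  intro K hK hQK
  have hz2 : z * z = 1 := hEz.sq
  have hz1 : z ≠ 1 := hEz.ne_one
  have hzx : z * x = x * z := hEz.central x hxQ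
  obtain ⟨q, hqQ, hqx⟩ := hEz.exists_noncomm hxQ hx1 hxz
  have hQn : ∀ a ∈ Q, ∀ k ∈ K, a * k * a⁻¹ ∈ K := by
    intro a ha k hk
    exact (Subgroup.mem_normalizer_iff.mp (hQK ha) k).mp hk
  have hQn' : ∀ a ∈ Q, ∀ k ∈ K, a⁻¹ * k * a ∈ K := by
    intro a ha k hk
    have := hQn a⁻¹ (Q.inv_mem ha) k hk
    simpa using this
  have hA : ∀ k ∈ K, k * z = z * k → k = 1 := by
    intro k hk hkz
    have hkN : k ∈ Subgroup.normalizer (Q : Set G) :=
      hNz (Subgroup.mem_centralizer_singleton_iff.mpr hkz)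
    have hcomm : ∀ b ∈ Q, k * b = b * k := by
      intro b hb
      have h1 : k * b * k⁻¹ * b⁻¹ ∈ Q :=
        Q.mul_mem ((Subgroup.mem_normalizer_iff.mp hkN b).mp hb) (Q.inv_mem hb)
      have h2 : k * b * k⁻¹ * b⁻¹ ∈ K := by
        have : k * b * k⁻¹ * b⁻¹ = k * (b * k⁻¹ * b⁻¹) := by group
        rw [this]
        exact K.mul_mem hk (hQn b hb _ (K.inv_mem hk))
      have h3 := eq_one_of_mem_two_of_mem_odd hpz hK h1 h2
      calc k * b = (k * b * k⁻¹ * b⁻¹) * (b * k) := by group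
        _ = b * k := by rw [h3, one_mul]
    rcases hEz.cent k hcomm with h | h
    · exact h
    · exfalso
      apply hz1
      exact eq_one_of_mem_two_of_mem_odd hpz hK hEz.mem (h ▸ hk)
  have hB : ∀ k ∈ K, k * x = x * k → k = 1 := by
    intro k hk hkx
    have hkN := hNP (Subgroup.mem_centralizer_singleton_iff.mpr hkx)
    apply hA k hk
    have h1 : k * z * k⁻¹ * z⁻¹ ∈ P :=
      Subgroup.mul_mem _ ((Subgroup.mem_normalizer_iff.mp hkN z).mp hzP)
        (Subgroup.inv_mem _ hzP)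
    have h2 : k * z * k⁻¹ * z⁻¹ ∈ K := by
      have : k * z * k⁻¹ * z⁻¹ = k * (z * k⁻¹ * z⁻¹) := by group
      rw [this]
      exact K.mul_mem hk (hQn z hEz.mem _ (K.inv_mem hk))
    have h3 := eq_one_of_mem_two_of_mem_odd hP hK h1 h2
    calc k * z = (k * z * k⁻¹ * z⁻¹) * (z * k) := by group
      _ = z * k := by rw [h3, one_mul]
  have hCc : ∀ k ∈ K, k * (z * x) = (z * x) * k → k = 1 := by
    intro k hk hkzx
    have h1 : q⁻¹ * k * q ∈ K := hQn' q hqQ k hk
    have h2 : (q⁻¹ * k * q) * x = x * (q⁻¹ * k * q) := by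
      have e1 : x = q⁻¹ * (z * x) * q := by rw [← hqx]; group
      calc (q⁻¹ * k * q) * x = (q⁻¹ * k * q) * (q⁻¹ * (z * x) * q) := by rw [← e1]
        _ = q⁻¹ * (k * (z * x)) * q := by group
        _ = q⁻¹ * ((z * x) * k) * q := by rw [hkzx]
        _ = (q⁻¹ * (z * x) * q) * (q⁻¹ * k * q) := by group
        _ = x * (q⁻¹ * k * q) := by rw [← e1]
    have h3 := hB _ h1 h2
    calc k = q * (q⁻¹ * k * q) * q⁻¹ := by group
      _ = 1 := by rw [h3]; group
  exact odd_eq_bot_of_fpf_four K hK z x hz2 hx2 hzx (hQn z hEz.mem) (hQn x hxQ) hA hB hCc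

/-- largeness from a conjugate of `z` in `Q − ⟨z⟩`. -/
theorem large_of_conj [Finite G] {Q : Subgroup G} {z : G} (hEz : ExtraLike Q z)
    (hpz : IsPGroup 2 Q)
    (hNz : Subgroup.centralizer ({z} : Set G) ≤ Subgroup.normalizer (Q : Set G))
    (g : G) (hxQ : g * z * g⁻¹ ∈ Q) (hxz : g * z * g⁻¹ ≠ z) :
    ∀ K : Subgroup G, Odd (Nat.card K) → Q ≤ Subgroup.normalizer (K : Set G) → K = ⊥ :=
  large_of_orth hEz hpz hNz hxQ (hEz.conj g).ne_one hxz (hEz.conj g).sq (hpz.map _)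
    (z_mem_conj hEz hpz hNz g hxQ hxz) (normalizer_conj hNz g)

/-- a non-trivial normal subgroup contains `z` when `Q` is large. -/
theorem z_mem_normal [Finite G] {Q : Subgroup G} {z : G} (hEz : ExtraLike Q z)
    (hpz : IsPGroup 2 Q)
    (hlarge : ∀ K : Subgroup G, Odd (Nat.card K) → Q ≤ Subgroup.normalizer (K : Set G) → K = ⊥)
    (M : Subgroup G) [hMn : M.Normal] (hM : M ≠ ⊥) : z ∈ M := by
  haveI : Fact (Nat.Prime 2) := ⟨Nat.prime_two⟩
  have heven : 2 ∣ Nat.card M := by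
    by_contra h
    apply hM
    apply hlarge M (Nat.odd_iff.mpr (Nat.two_dvd_ne_zero.mp h))
    rw [Subgroup.normalizer_eq_top]
    exact le_top
  obtain ⟨m, hm⟩ := exists_prime_orderOf_dvd_card' (G := ↥M) 2 heven
  have hm1 : (m : G) ≠ 1 := by
    intro h
    have : m = 1 := Subtype.ext h
    rw [this, orderOf_one] at hm
    omega
  obtain ⟨T, hQT⟩ := hpz.exists_le_sylow
  have hmp : IsPGroup 2 (Subgroup.zpowers (m : G)) := by
    rw [IsPGroup.iff_card]
    refine ⟨1, ?_⟩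
    rw [Nat.card_zpowers, Subgroup.orderOf_coe, hm, pow_one]
  obtain ⟨P, hP⟩ := hmp.exists_le_sylow
  obtain ⟨h, hh⟩ := MulAction.exists_smul_eq G P T
  have hmT : h * (m : G) * h⁻¹ ∈ (T : Subgroup G) := by
    have h1 : (m : G) ∈ (P : Subgroup G) := hP (Subgroup.mem_zpowers _)
    rw [← hh, Sylow.coe_subgroup_smul, Subgroup.mem_pointwise_smul_iff_inv_smul_mem]
    simp only [MulAut.smul_def, map_inv, MulAut.inv_apply, MulAut.conj_symm_apply]
    have : h⁻¹ * (h * (m : G) * h⁻¹) * h = (m : G) := by group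
    rw [this]; exact h1
  have hmM : h * (m : G) * h⁻¹ ∈ M := hMn.conj_mem _ m.2 h
  have hm1' : h * (m : G) * h⁻¹ ≠ 1 := by
    intro h1
    apply hm1
    calc (m : G) = h⁻¹ * (h * (m : G) * h⁻¹) * h := by group
      _ = 1 := by rw [h1]; group
  -- the normal subgroup `M ∩ T` of `T`
  haveI : (M.subgroupOf (T : Subgroup G)).Normal := Subgroup.normal_subgroupOf
  have hne : M.subgroupOf (T : Subgroup G) ≠ ⊥ := by
    intro h1
    apply hm1'
    have h2 : (⟨h * (m : G) * h⁻¹, hmT⟩ : (T : Subgroup G)) ∈ M.subgroupOf (T : Subgroup G) := by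
      rw [Subgroup.mem_subgroupOf]; exact hmM
    rw [h1, Subgroup.mem_bot] at h2
    exact congrArg Subtype.val h2
  obtain ⟨c, hcM, hcc, hc1⟩ :=
    Cfsg.Agent.Helper8.exists_mem_center_of_normal_ne_bot T.isPGroup' _ hne
  rw [Subgroup.mem_subgroupOf] at hcM
  have hcomm : ∀ b ∈ Q, (c : G) * b = b * (c : G) := by
    intro b hb
    have h1 := Subgroup.mem_center_iff.mp hcc ⟨b, hQT hb⟩
    exact (congrArg Subtype.val h1).symm
  rcases hEz.cent _ hcomm with h1 | h1
  · exfalso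
    apply hc1
    exact Subtype.ext h1
  · rw [← h1]; exact hcM

/-- a normal subgroup containing `C(z)` is the whole group (Frattini argument). -/
theorem eq_top_of_cent_le [Finite G] {Q : Subgroup G} {z : G} (hEz : ExtraLike Q z)
    (hpz : IsPGroup 2 Q) (M : Subgroup G) [hMn : M.Normal]
    (hCM : Subgroup.centralizer ({z} : Set G) ≤ M) : M = ⊤ := by
  haveI : Fact (Nat.Prime 2) := ⟨Nat.prime_two⟩
  obtain ⟨T, hQT⟩ := hpz.exists_le_sylow
  haveI : Nontrivial ↥(T : Subgroup G) := by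
    refine ⟨⟨⟨z, hQT hEz.mem⟩, 1, ?_⟩⟩
    intro h
    exact hEz.ne_one (congrArg Subtype.val h)
  haveI := T.isPGroup'.center_nontrivial
  obtain ⟨c, hc1⟩ := exists_ne (1 : Subgroup.center ↥(T : Subgroup G))
  have hcz : ((c : ↥(T : Subgroup G)) : G) = z := by
    have hcomm : ∀ b ∈ Q, ((c : ↥(T : Subgroup G)) : G) * b = b * ((c : ↥(T : Subgroup G)) : G) := by
      intro b hb
      have h1 := Subgroup.mem_center_iff.mp c.2 ⟨b, hQT hb⟩
      exact (congrArg Subtype.val h1).symm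
    rcases hEz.cent _ hcomm with h1 | h1
    · exfalso
      apply hc1
      apply Subtype.ext
      apply Subtype.ext
      exact h1
    · exact h1
  -- `z` is central in `T`
  have hzT : ∀ b ∈ (T : Subgroup G), b * z = z * b := by
    intro b hb
    have h1 := Subgroup.mem_center_iff.mp c.2 ⟨b, hb⟩
    have h2 := congrArg Subtype.val h1
    rw [← hcz]
    exact h2
  have hTM : (T : Subgroup G) ≤ M := by
    intro b hb
    exact hCM (Subgroup.mem_centralizer_singleton_iff.mpr (hzT b hb))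
  have hNT : Subgroup.normalizer ((T : Subgroup G) : Set G) ≤ M := by
    intro n hn
    apply hCM
    rw [Subgroup.mem_centralizer_singleton_iff]
    have hzmem : z ∈ (T : Subgroup G) := hQT hEz.mem
    have h1 : n * z * n⁻¹ ∈ (T : Subgroup G) := (Subgroup.mem_normalizer_iff.mp hn z).mp hzmem
    have hcomm : ∀ b ∈ Q, (n * z * n⁻¹) * b = b * (n * z * n⁻¹) := by
      intro b hb
      have hn' := Subgroup.inv_mem _ hn
      have h2 : n⁻¹ * b * n⁻¹⁻¹ ∈ (T : Subgroup G) :=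
        (Subgroup.mem_normalizer_iff.mp hn' b).mp (hQT hb)
      have h3 := hzT _ h2
      calc (n * z * n⁻¹) * b = n * (z * (n⁻¹ * b * n⁻¹⁻¹)) * n⁻¹ := by group
        _ = n * ((n⁻¹ * b * n⁻¹⁻¹) * z) * n⁻¹ := by rw [h3]
        _ = b * (n * z * n⁻¹) := by group
    rcases hEz.cent _ hcomm with h2 | h2
    · exfalso
      apply hEz.ne_one
      calc z = n⁻¹ * (n * z * n⁻¹) * n := by group
        _ = 1 := by rw [h2]; group
    · calc n * z = (n * z * n⁻¹) * n := by group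
        _ = z * n := by rw [h2]
  have hfr := Sylow.normalizer_sup_eq_top (T.subtype hTM)
  rw [Sylow.coe_subtype, Subgroup.map_subgroupOf_eq_of_le hTM] at hfr
  rw [eq_top_iff, ← hfr]
  exact sup_le hNT le_rfl

/-- the internal data of an extraspecial `2`-group, transported along an injective
homomorphism into `G`. -/
theorem data_of_injective {P : Type*} [Group P] (hP : Cfsg.IsExtraspecial 2 P) (ι : P →* G)
    (hι : Function.Injective ι) :
    IsPGroup 2 ι.range ∧ ∃ z₀ ∈ ι.range, z₀ ≠ 1 ∧ z₀ * z₀ = 1 ∧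
      (∀ a ∈ ι.range, z₀ * a = a * z₀) ∧
      (∀ a ∈ ι.range, ∀ b ∈ ι.range, a * b * a⁻¹ * b⁻¹ = 1 ∨ a * b * a⁻¹ * b⁻¹ = z₀) ∧
      (∀ c ∈ ι.range, (∀ b ∈ ι.range, c * b = b * c) → c = 1 ∨ c = z₀) := by
  constructor
  · exact hP.1.1.of_surjective ι.rangeRestrict ι.rangeRestrict_surjective
  obtain ⟨w, hwc, hw2, hw1, hwcomm, hwcen⟩ := Cfsg.Agent.Helper9.extraspecial_two_data hP
  refine ⟨ι w, ⟨w, rfl⟩, ?_, ?_, ?_, ?_, ?_⟩
  · intro h
    apply hw1
    apply hι
    rw [h, map_one]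
  · rw [← map_mul, hw2, map_one]
  · rintro _ ⟨a, rfl⟩
    rw [← map_mul, ← map_mul, hwc a]
  · rintro _ ⟨a, rfl⟩ _ ⟨b, rfl⟩
    rcases hwcomm a b with h | h
    · left
      rw [← map_mul, h, map_mul]
      group
    · right
      rw [← map_mul, h]
      simp only [map_mul]
      group
  · rintro _ ⟨c, rfl⟩ hc
    have h1 : ∀ a : P, a * c = c * a := by
      intro a
      apply hι
      rw [map_mul, map_mul]
      exact (hc (ι a) ⟨a, rfl⟩).symm
    rcases hwcen c h1 with h | h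
    · left; rw [h, map_one]
    · right; rw [h]

/-- the set-up `F*(C_G(z)) = Q` with `Q` extraspecial-like. -/
theorem fstar_setup [Finite G] (z : G) (hz : orderOf z = 2) (Q : Subgroup G)
    (hF : (Cfsg.generalizedFittingSubgroup ↥(Subgroup.centralizer ({z} : Set G))).map
      (Subgroup.centralizer ({z} : Set G)).subtype = Q)
    (z₀ : G) (hz₀1 : z₀ ≠ 1) (hz₀2 : z₀ * z₀ = 1)
    (hcomm : ∀ a ∈ Q, ∀ b ∈ Q, a * b * a⁻¹ * b⁻¹ = 1 ∨ a * b * a⁻¹ * b⁻¹ = z₀)
    (hcen : ∀ c ∈ Q, (∀ b ∈ Q, c * b = b * c) → c = 1 ∨ c = z₀) :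
    ExtraLike Q z ∧
      Subgroup.centralizer ({z} : Set G) ≤ Subgroup.normalizer (Q : Set G) := by
  have hz1 : z ≠ 1 := by
    intro h
    rw [h, orderOf_one] at hz
    omega
  have hzsq : z * z = 1 := by
    have := pow_orderOf_eq_one z
    rw [hz, pow_two] at this
    exact this
  have hQC : Q ≤ Subgroup.centralizer ({z} : Set G) := by
    rw [← hF]; exact Subgroup.map_subtype_le _
  have hQz : ∀ b ∈ Q, z * b = b * z := by
    intro b hb
    exact (Subgroup.mem_centralizer_singleton_iff.mp (hQC hb)).symm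
  have hcent := Cfsg.Agent.Helper7.centralizer_generalizedFittingSubgroup_le
    (G := ↥(Subgroup.centralizer ({z} : Set G)))
  have hmemQ : ∀ c : G, (∀ b ∈ Q, c * b = b * c) → c * z = z * c → c ∈ Q := by
    intro c hc hcz
    have hcC : c ∈ Subgroup.centralizer ({z} : Set G) :=
      Subgroup.mem_centralizer_singleton_iff.mpr hcz
    have h1 : (⟨c, hcC⟩ : ↥(Subgroup.centralizer ({z} : Set G))) ∈
        Subgroup.centralizer ((Cfsg.generalizedFittingSubgroup
          ↥(Subgroup.centralizer ({z} : Set G)) : Subgroup _) : Set _) := by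
      rw [Subgroup.mem_centralizer_iff]
      intro f hf
      apply Subtype.ext
      have hfQ : (f : G) ∈ Q := by rw [← hF]; exact ⟨f, hf, rfl⟩
      exact (hc _ hfQ).symm
    rw [← hF]
    exact ⟨_, hcent h1, rfl⟩
  have hzQ : z ∈ Q := hmemQ z hQz rfl
  have hzz₀ : z = z₀ := by
    rcases hcen z hzQ hQz with h | h
    · exact absurd h hz1
    · exact h
  constructor
  · refine ⟨hzQ, hz1, hzsq, ?_, ?_, hQz⟩
    · rw [hzz₀]; exact hcomm
    · intro c hc
      have hcz : c * z = z * c := hc z hzQ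
      rw [hzz₀]
      exact hcen c (hmemQ c hc hcz) hc
  · intro c hc
    apply mem_normalizer_of_conj_mem
    intro a ha
    rw [← hF] at ha ⊢
    obtain ⟨f, hf, rfl⟩ := ha
    have hn : (Cfsg.generalizedFittingSubgroup ↥(Subgroup.centralizer ({z} : Set G))).Normal :=
      inferInstance
    exact ⟨_, hn.conj_mem f hf ⟨c, hc⟩, rfl⟩

end Cfsg.Agent.Helper28.FStarExtra
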