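import Mathlib
import Cfsg.Agent.Lib.Helper27.Tw6Defs
import Cfsg.Agent.Lib.Helper13.InvNAsmA
import Cfsg.Agent.Lib.Lead.TwE6Grp
import Cfsg.Agent.Lib.Lead.TwAutWords

/-!
# S2182 piece TW6-NVW (helper28 for helper27): `n_w⁻¹ n_v n_w = n_v k` when `w` permutes the roots of the class `v`.
-/

set_option autoImplicit false
set_option linter.unusedSectionVars false
set_option linter.unusedVariables false

namespace Cfsg.Agent.Helper27.Tw6

open Cfsg Cfsg.Lie Cfsg.Agent.Lead.Chev Cfsg.Agent.Lead.Tw Cfsg.Agent.Helper13.InvN Cfsg.Agent.Helper6.ChevL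

section ambient

variable {K : Type*} [Field K] {D : ChevalleyDatum} (hF : ChevFacts D K)

/-- `n_w⁻¹ n_i n_w = n_j k` with `k ∈ H`, when `w⁻¹ α_i = α_j` -/
theorem tw6nvw_conj_simple (hS : CorSize D) (hI : CorInj D) (w : List ℕ) (hw : WOK D w) (i j : ℕ) (hi : i < D.rank)
    (hj : j < D.rank) (hrev : reflWord D w.reverse (D.simple i) = D.simple j) :
    ∃ k ∈ D.diagonalSubgroup K,
      (nWordGL D hF.xadd w)⁻¹ * nGL D hF.xadd (D.simple i) * nWordGL D hF.xadd w =
        nGL D hF.xadd (D.simple j) * k := by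
  have hsl := hF.simple_lt i hi
  have hslj := hF.simple_lt j hj
  obtain ⟨k0, hk0, e0⟩ := nWordGL_inv D hF.xadd (etaOf D) hF.nsimple hF.simple_lt w hw
  have h1 := nWordGL_conj_nGLt D hF.xadd (etaOf D) hF.nsimple w.reverse hw.reverse (D.simple i) hsl 1
  rw [hrev, ← nGL_eq_nGLt] at h1
  have hsign : ∃ k1 ∈ D.diagonalSubgroup K,
      nGLt D hF.xadd (D.simple j) (((signWord D (etaOf D) w.reverse (D.simple i) : ℤ) : K) * 1) =
        nGL D hF.xadd (D.simple j) * k1 := by
    rcases signWord_sq D (etaOf D) w.reverse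
      (fun l hl s => (hF.nsimple l (hw.reverse l hl)).sign s) (D.simple i) with h2 | h2
    · refine ⟨1, one_mem _, ?_⟩
      rw [h2, nGL_eq_nGLt]
      simp
    · obtain ⟨h0, hh0, e1⟩ := nGL_inv_eq D hF.xadd (D.simple j) hslj
      refine ⟨h0, hh0, ?_⟩
      rw [h2, ← e1, nGL_eq_nGLt, nGLt_inv]
      simp
  obtain ⟨k1, hk1, e1⟩ := hsign
  rw [e1] at h1
  have hn : nWordGL D hF.xadd w = (nWordGL D hF.xadd w.reverse)⁻¹ * k0⁻¹ := by
    have : nWordGL D hF.xadd w = ((nWordGL D hF.xadd w)⁻¹)⁻¹ := (inv_inv _).symm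
    rw [this, e0]
    group
  have hk2 := step3_inv_conj_diag hF hS hI j hj k0 hk0
  refine ⟨((nGL D hF.xadd (D.simple j))⁻¹ * k0 * nGL D hF.xadd (D.simple j)) * k1 * k0⁻¹,
    mul_mem (mul_mem hk2 hk1) (inv_mem hk0), ?_⟩
  calc (nWordGL D hF.xadd w)⁻¹ * nGL D hF.xadd (D.simple i) * nWordGL D hF.xadd w
      = (k0 * nWordGL D hF.xadd w.reverse) * nGL D hF.xadd (D.simple i) *
          ((nWordGL D hF.xadd w.reverse)⁻¹ * k0⁻¹) := by rw [← e0, ← hn]
    _ = k0 * (nWordGL D hF.xadd w.reverse * nGL D hF.xadd (D.simple i) *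
          (nWordGL D hF.xadd w.reverse)⁻¹) * k0⁻¹ := by group
    _ = k0 * (nGL D hF.xadd (D.simple j) * k1) * k0⁻¹ := by rw [h1]
    _ = _ := by group

/-- the `n_i` of a class commute -/
theorem tw6nvw_nGL_commute {v : List ℕ} (hv : OrthClass D v) (i j : ℕ) (hi : i ∈ v) (hj : j ∈ v) (hij : i ≠ j) :
    Commute (nGL D hF.xadd (D.simple i)) (nGL D hF.xadd (D.simple j)) := by
  have hn : ∀ i, nGL D hF.xadd (D.simple i) =
      xGL D hF.xadd (D.simple i) 1 * xGL D hF.xadd (D.neg (D.simple i)) (-1) * xGL D hF.xadd (D.simple i) 1 := by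
    intro i
    rw [nGL_eq_nGLt, nGLt_eq, inv_one]
  have h := hv.orth i hi j hj hij
  have hi' := hv.valid i hi
  have hj' := hv.valid j hj
  rw [hn i, hn j]
  have c1 := xGL_commute hF _ _ (hF.simple_lt i hi') (hF.simple_lt j hj') h.1
  have c2 := xGL_commute hF _ _ (hF.simple_lt i hi') (hF.neg_simple_lt j hj') h.2.1
  have c3 := xGL_commute hF _ _ (hF.neg_simple_lt i hi') (hF.simple_lt j hj') h.2.2.1
  have c4 := xGL_commute hF _ _ (hF.neg_simple_lt i hi') (hF.neg_simple_lt j hj') h.2.2.2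
  exact Commute.mul_left
    (Commute.mul_left (((c1 _ _).mul_right (c2 _ _)).mul_right (c1 _ _))
      (((c3 _ _).mul_right (c4 _ _)).mul_right (c3 _ _)))
    (((c1 _ _).mul_right (c2 _ _)).mul_right (c1 _ _))

end ambient

variable {K : Type*} [Field K] [Fintype K] [CharP K 2] {D : ChevalleyDatum} {hF : ChevFacts D K}
  {T : Twist D K hF.xadd} {π' : ℕ → ℕ} {S l₀ : List (List ℕ)} {f : K ≃+* K} (hX : Ctx hF T π' S l₀ f)
include hX

/-- PIECE NVW: `n_w⁻¹ n_v n_w = n_v k` when `w` permutes the roots of the class -/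
theorem conj_class_word (v : List ℕ) (hv : v ∈ S) (w : List ℕ) (hw : WOK D w) (hp : PermV D v w) :
    ∃ k ∈ D.diagonalSubgroup K,
      (nWordGL D hF.xadd w)⁻¹ * nWordGL D hF.xadd v * nWordGL D hF.xadd w = nWordGL D hF.xadd v * k := by
  have hcls := hX.orth.cls v hv
  have hval := hX.valid v hv
  have hlen := hX.len2 v hv
  -- `w⁻¹ α_i = α_j` from `w α_j = α_i`
  have hrev : ∀ i j : ℕ, j < D.rank → reflWord D w (D.simple j) = D.simple i →
      reflWord D w.reverse (D.simple i) = D.simple j := by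
    intro i j hj h
    have := reflWord_reverse_cancel' D (etaOf D) hF.facts w hw (D.simple j) (hF.simple_lt j hj)
    rwa [h] at this
  match v, hv, hcls, hval, hlen, hp with
  | [], _, _, _, _, _ =>
    refine ⟨1, one_mem _, ?_⟩
    rw [nWordGL_nil]
    group
  | [a], _, hcls, hval, _, hp =>
    have ha : a < D.rank := hval a (by simp)
    obtain ⟨j, hj, h1, h2⟩ := hp a (by simp)
    rw [List.mem_singleton] at hj
    subst hj
    obtain ⟨k, hk, e⟩ := tw6nvw_conj_simple hF hX.corS hX.corI w hw j j ha ha (hrev j j ha h1)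
    refine ⟨k, hk, ?_⟩
    rw [nWordGL_cons, nWordGL_nil, mul_one]
    exact e
  | [a, b], _, hcls, hval, _, hp =>
    have ha : a < D.rank := hval a (by simp)
    have hb : b < D.rank := hval b (by simp)
    have hab : a ≠ b := by
      have := hcls.nodup
      simp only [List.nodup_cons, List.mem_singleton, List.not_mem_nil, not_false_eq_true, List.nodup_nil,
        and_true] at this
      exact this
    have hcomm := tw6nvw_nGL_commute hF hcls a b (by simp) (by simp) hab
    set na := nGL D hF.xadd (D.simple a) with hna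
    set nb := nGL D hF.xadd (D.simple b) with hnb
    set n := nWordGL D hF.xadd w with hn
    have hnv : nWordGL D hF.xadd [a, b] = na * nb := by
      rw [nWordGL_cons, nWordGL_cons, nWordGL_nil, mul_one]
    rw [hnv]
    obtain ⟨j, hj, h1, h2⟩ := hp a (by simp)
    simp only [List.mem_cons, List.not_mem_nil, or_false] at hj
    rcases hj with rfl | rfl
    · -- `w` fixes `α_a`, hence `α_b`
      obtain ⟨j', hj', h1', h2'⟩ := hp b (by simp)
      simp only [List.mem_cons, List.not_mem_nil, or_false] at hj'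
      have hbb : reflWord D w (D.simple b) = D.simple b := by
        rcases hj' with rfl | rfl
        · -- `w α_b = α_a = w α_a`: impossible
          exfalso
          have e1 := reflWord_reverse_cancel' D (etaOf D) hF.facts w hw (D.simple b) (hF.simple_lt b hb)
          have e2 := reflWord_reverse_cancel' D (etaOf D) hF.facts w hw (D.simple j') (hF.simple_lt j' ha)
          rw [h1'] at e1
          rw [h1] at e2
          have e3 : D.simple b = D.simple j' := e1.symm.trans e2
          have hO := (hcls.orth j' (by simp) b (by simp) hab).1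
          exact hO.1 e3
        · exact h1'
      obtain ⟨ka, hka, ea⟩ := tw6nvw_conj_simple hF hX.corS hX.corI w hw j j ha ha (hrev j j ha h1)
      obtain ⟨kb, hkb, eb⟩ := tw6nvw_conj_simple hF hX.corS hX.corI w hw b b hb hb (hrev b b hb hbb)
      have hk2 := step3_inv_conj_diag hF hX.corS hX.corI b hb ka hka
      refine ⟨(nb⁻¹ * ka * nb) * kb, mul_mem hk2 hkb, ?_⟩
      calc n⁻¹ * (na * nb) * n = (n⁻¹ * na * n) * (n⁻¹ * nb * n) := by group
        _ = (na * ka) * (nb * kb) := by rw [ea, eb]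
        _ = _ := by group
    · -- `w` swaps `α_a` and `α_j`
      obtain ⟨ka, hka, ea⟩ := tw6nvw_conj_simple hF hX.corS hX.corI w hw a j ha hb (hrev a j hb h2)
      obtain ⟨kb, hkb, eb⟩ := tw6nvw_conj_simple hF hX.corS hX.corI w hw j a hb ha (hrev j a ha h1)
      have hk2 := step3_inv_conj_diag hF hX.corS hX.corI a ha ka hka
      refine ⟨(na⁻¹ * ka * na) * kb, mul_mem hk2 hkb, ?_⟩
      calc n⁻¹ * (na * nb) * n = (n⁻¹ * na * n) * (n⁻¹ * nb * n) := by group
        _ = (nb * ka) * (na * kb) := by rw [ea, eb]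
        _ = (nb * na) * ((na⁻¹ * ka * na) * kb) := by group
        _ = (na * nb) * ((na⁻¹ * ka * na) * kb) := by rw [hcomm.eq]
  | a :: b :: c :: l, _, _, _, hlen, _ =>
    simp at hlen

end Cfsg.Agent.Helper27.Tw6
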