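import Mathlib
import Cfsg.Agent.Lib.Helper27.Tw6Defs
import Cfsg.Agent.Lib.Helper28.Tw6UVA
import Cfsg.Agent.Lib.Helper28.Tw6NVW

/-!
# S2182 piece TW6-OSTEP1, core (helper28 for helper27): a permuted class with non-zero coordinates moves `t` into the
longer cell.  The core takes the statement of the piece CELLV (`cell_of_ys`) as a hypothesis.
-/

set_option autoImplicit false
set_option linter.unusedSectionVars false
set_option linter.unusedVariables false

namespace Cfsg.Agent.Helper27.Tw6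

open Cfsg Cfsg.Lie Cfsg.Agent.Lead.Chev Cfsg.Agent.Lead.Tw Cfsg.Agent.Helper13.InvN Cfsg.Agent.Helper6.ChevL

variable {K : Type*} [Field K] [Fintype K] [CharP K 2] {D : ChevalleyDatum} {hF : ChevFacts D K}
  {T : Twist D K hF.xadd} {π' : ℕ → ℕ} {S l₀ : List (List ℕ)} {f : K ≃+* K} (hX : Ctx hF T π' S l₀ f)
include hX

/-- the core of OSTEP1, with the statement of CELLV for `v`, `w` as a hypothesis -/
theorem tw6ostep1_core (v : List ℕ) (hv : v ∈ S) (t : GL D.Idx K) (w : List ℕ) (hw : WOK D w)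
    (hCELL : ∀ (b : GL D.Idx K), b ∈ D.borelSubgroup K → ∀ (χ : ℕ → K), (∀ i ∈ v, χ i ≠ 0) →
      ∀ (h : GL D.Idx K), h ∈ D.diagonalSubgroup K →
      InCell hF (b * ys hF v χ * h * nWordGL D hF.xadd w) (v ++ w))
    (a h : GL D.Idx K) (hG : Good hF t w a h) (hp : PermV D v w)
    (a' : GL D.Idx K) (ha' : a' ∈ UV D K v) (φ : ℕ → K) (hφ : ∀ i ∈ v, φ i ≠ 0) (ha : a = a' * xs hF v φ) :
    InCell hF (nWordGL D hF.xadd v * t * (nWordGL D hF.xadd v)⁻¹) (v ++ w) := by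
  obtain ⟨et, haU, hh, haU'⟩ := hG
  obtain ⟨k2, hk2, e2⟩ := conj_class_word hX v hv w hw hp
  have hvv := hX.valid v hv
  have hys := nWordGL_conj_xs hF (hX.orth.cls v hv) φ
  set nv := nWordGL D hF.xadd v with hnv
  set n := nWordGL D hF.xadd w with hn
  have hk3 : nv * k2 * nv⁻¹ ∈ D.diagonalSubgroup K :=
    nWordGL_conj_mem_diagonal D hF.xadd (etaOf D) hF.nsimple v hvv k2 hk2
  have hk : n * (nv * k2 * nv⁻¹) * n⁻¹ ∈ D.diagonalSubgroup K :=
    nWordGL_conj_mem_diagonal D hF.xadd (etaOf D) hF.nsimple w hw _ hk3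
  have e3 : nv * n * nv⁻¹ = (n * (nv * k2 * nv⁻¹) * n⁻¹) * n := by
    have : nv * n = n * (nv * k2) := by
      rw [← e2]; group
    calc nv * n * nv⁻¹ = n * (nv * k2) * nv⁻¹ := by rw [this]
      _ = _ := by group
  have hhc : nv * h * nv⁻¹ ∈ D.diagonalSubgroup K :=
    nWordGL_conj_mem_diagonal D hF.xadd (etaOf D) hF.nsimple v hvv h hh
  have hnvP : nv ∈ PV D K v := par_nWord hX v hv
  have hb : nv * a' * nv⁻¹ ∈ D.borelSubgroup K :=
    posUnipotent_le_borel D (uv_le hX v (uv_conj hX v nv hnvP a' ha'))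
  have key : nv * t * nv⁻¹ = (nv * a' * nv⁻¹) * ys hF v (fun i => -φ i) *
      ((nv * h * nv⁻¹) * (n * (nv * k2 * nv⁻¹) * n⁻¹)) * n := by
    calc nv * t * nv⁻¹ = (nv * a' * nv⁻¹) * (nv * xs hF v φ * nv⁻¹) * (nv * h * nv⁻¹) * (nv * n * nv⁻¹) := by
          rw [et, ha]; group
      _ = _ := by rw [e3, hys]; group
  rw [key]
  exact hCELL _ hb _ (fun i hi => neg_ne_zero.2 (hφ i hi)) _ (mul_mem hhc hk)

end Cfsg.Agent.Helper27.Tw6
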