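import Mathlib
import Cfsg.Agent.Lib.Helper27.Tw6Defs
import Cfsg.Agent.Lib.Helper28.Tw6OSTEP1Core
import Cfsg.Agent.Lib.Helper11.Tw6CELLV

/-!
# S2182 piece TW6-OSTEP1 (helper28 for helper27): a permuted class with non-zero coordinates moves `t` into the
longer cell.
-/

set_option autoImplicit false
set_option linter.unusedSectionVars false
set_option linter.unusedVariables false

namespace Cfsg.Agent.Helper27.Tw6

open Cfsg Cfsg.Lie Cfsg.Agent.Lead.Chev Cfsg.Agent.Lead.Tw Cfsg.Agent.Helper13.InvN Cfsg.Agent.Helper6.ChevL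

variable {K : Type*} [Field K] [Fintype K] [CharP K 2] {D : ChevalleyDatum} {hF : ChevFacts D K}
  {T : Twist D K hF.xadd} {π' : ℕ → ℕ} {S l₀ : List (List ℕ)} {f : K ≃+* K} (hX : Ctx hF T π' S l₀ f)
include hX

/-- PIECE OSTEP1 (needs UVA, NVW, CELLV): a permuted class with non-zero coordinates moves `t` into the longer cell -/
theorem step_cellT (v : List ℕ) (hv : v ∈ S) (t : GL D.Idx K) (w : List ℕ) (hw : WOK D w)
    (a h : GL D.Idx K) (hG : Good hF t w a h) (hp : PermV D v w)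
    (a' : GL D.Idx K) (ha' : a' ∈ UV D K v) (φ : ℕ → K) (hφ : ∀ i ∈ v, φ i ≠ 0) (ha : a = a' * xs hF v φ) :
    InCell hF (nWordGL D hF.xadd v * t * (nWordGL D hF.xadd v)⁻¹) (v ++ w) :=
  tw6ostep1_core hX v hv t w hw (fun b hb χ hχ h hh => cell_of_ys hX v hv w hw hp b hb χ hχ h hh)
    a h hG hp a' ha' φ hφ ha

end Cfsg.Agent.Helper27.Tw6
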