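import Mathlib
import Cfsg.Agent.Lib.Helper27.Tw6Defs
import Cfsg.Agent.Lib.Helper28.Tw6UVA
import Cfsg.Agent.Lib.Helper28.Tw6NVW

/-!
# S2182 piece TW6-OSTEP3 (helper28 for helper27): conjugation by `n_v` keeps the form `t = a h n_w` when `w` fixes
the roots of the class `v` and the coordinates of `a` on the class vanish.
-/

set_option autoImplicit false
set_option linter.unusedSectionVars false
set_option linter.unusedVariables false

namespace Cfsg.Agent.Helper27.Tw6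

open Cfsg Cfsg.Lie Cfsg.Agent.Lead.Chev Cfsg.Agent.Lead.Tw Cfsg.Agent.Helper13.InvN Cfsg.Agent.Helper6.ChevL

variable {K : Type*} [Field K] [Fintype K] [CharP K 2] {D : ChevalleyDatum} {hF : ChevFacts D K}
  {T : Twist D K hF.xadd} {π' : ℕ → ℕ} {S l₀ : List (List ℕ)} {f : K ≃+* K} (hX : Ctx hF T π' S l₀ f)
include hX

/-- PIECE OSTEP3 (needs UVA, NVW): conjugation by `n_v` keeps the form when `w` fixes the class and the
coordinates vanish -/
theorem good_conjT (t : GL D.Idx K) (w : List ℕ) (hw : WOK D w) (a h : GL D.Idx K) (hG : Good hF t w a h)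
    (v : List ℕ) (hv : v ∈ S) (hfix : ∀ i ∈ v, reflWord D w (D.simple i) = D.simple i)
    (ha : a ∈ UV D K v) (ha' : (nWordGL D hF.xadd w)⁻¹ * a * nWordGL D hF.xadd w ∈ UV D K v) :
    ∃ h', Good hF (nWordGL D hF.xadd v * t * (nWordGL D hF.xadd v)⁻¹) w
      (nWordGL D hF.xadd v * a * (nWordGL D hF.xadd v)⁻¹) h' := by
  obtain ⟨et, haU, hh, haU'⟩ := hG
  obtain ⟨k2, hk2, e2⟩ := conj_class_word hX v hv w hw (PermV.of_fix hfix)
  have hvv := hX.valid v hv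
  set nv := nWordGL D hF.xadd v with hnv
  set n := nWordGL D hF.xadd w with hn
  have hk3 : nv * k2 * nv⁻¹ ∈ D.diagonalSubgroup K :=
    nWordGL_conj_mem_diagonal D hF.xadd (etaOf D) hF.nsimple v hvv k2 hk2
  have hk : n * (nv * k2 * nv⁻¹) * n⁻¹ ∈ D.diagonalSubgroup K :=
    nWordGL_conj_mem_diagonal D hF.xadd (etaOf D) hF.nsimple w hw _ hk3
  have e3 : nv * n * nv⁻¹ = (n * (nv * k2 * nv⁻¹) * n⁻¹) * n := by
    have : nv * n = n * (nv * k2) := by
      rw [← e2]; group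
    calc nv * n * nv⁻¹ = n * (nv * k2) * nv⁻¹ := by rw [this]
      _ = _ := by group
  have hhc : nv * h * nv⁻¹ ∈ D.diagonalSubgroup K :=
    nWordGL_conj_mem_diagonal D hF.xadd (etaOf D) hF.nsimple v hvv h hh
  have hnvP : nv ∈ PV D K v := par_nWord hX v hv
  refine ⟨(nv * h * nv⁻¹) * (n * (nv * k2 * nv⁻¹) * n⁻¹), ?_, ?_, mul_mem hhc hk, ?_⟩
  · show nv * t * nv⁻¹ = (nv * a * nv⁻¹) * ((nv * h * nv⁻¹) * (n * (nv * k2 * nv⁻¹) * n⁻¹)) * n
    calc nv * t * nv⁻¹ = (nv * a * nv⁻¹) * (nv * h * nv⁻¹) * (nv * n * nv⁻¹) := by rw [et]; group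
      _ = _ := by rw [e3]; group
  · exact uv_le hX v (uv_conj hX v nv hnvP a ha)
  · show n⁻¹ * (nv * a * nv⁻¹) * n ∈ D.posUnipotent K
    have e4 : n⁻¹ * (nv * a * nv⁻¹) * n = (nv * k2) * (n⁻¹ * a * n) * (nv * k2)⁻¹ := by
      calc n⁻¹ * (nv * a * nv⁻¹) * n = (n⁻¹ * nv * n) * (n⁻¹ * a * n) * (n⁻¹ * nv * n)⁻¹ := by group
        _ = _ := by rw [e2]
    rw [e4]
    have hpk : nv * k2 ∈ PV D K v :=
      mul_mem hnvP (par_borel hX v (diagonal_le_borel D hk2))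
    exact uv_le hX v (uv_conj hX v _ hpk _ ha')

end Cfsg.Agent.Helper27.Tw6
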