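import Mathlib
import Cfsg.Prelude.Def_Blocks
import Cfsg.Agent.Lib.Helper24.CharLinear
import Cfsg.Agent.Lib.Helper17.M11Defs

/-!
# Simple groups of order 2520 (S0984): definitions (helper28)

Paper proof: `plans/S0984_proof.md`.  Skeleton with all piece statements: `plans/S0984_Skel.lean.txt`.
The structures are modelled on helper17's `B11` / `CT` (simple groups of order 7920).
-/

set_option autoImplicit false

namespace Cfsg.Agent.Helper28.A7U

open Cfsg Cfsg.Agent.Helper24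

universe u

instance fact7 : Fact (Nat.Prime 7) := ⟨by norm_num⟩

instance fact3 : Fact (Nat.Prime 3) := ⟨by norm_num⟩

variable {G : Type u} [Group G] [Fintype G]

/-- The shape of the characters of positive `7`-defect when a Sylow `7`-subgroup `P` (of order `7`) is
self-centralizing with `|N_G(P) : P| = 3`:  the nonexceptional characters are `1, χ1, χ2`
(`χi` of degree `di`, constant `si = ±1` on `P ∖ 1`), the two exceptional ones are `θ, θ'` (degree `D`,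
sign `s0 = δ₀ = ±1`), all the other irreducible characters vanish on `P ∖ 1`. -/
structure B7 (P : Subgroup G) (d1 d2 D : ℕ) (s1 s2 s0 : ℤ) where
  χ1 : IrrCharacter G
  χ2 : IrrCharacter G
  θ : IrrCharacter G
  θ' : IrrCharacter G
  nodup : [principalChar G, χ1, χ2, θ, θ'].Nodup
  deg1 : charDegree (χ1 : G → ℂ) = d1
  deg2 : charDegree (χ2 : G → ℂ) = d2
  degθ : charDegree (θ : G → ℂ) = D
  degθ' : charDegree (θ' : G → ℂ) = D
  val1 : ∀ a ∈ P, a ≠ 1 → (χ1 : G → ℂ) a = (s1 : ℂ)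
  val2 : ∀ a ∈ P, a ≠ 1 → (χ2 : G → ℂ) a = (s2 : ℂ)
  sumY : ∀ a ∈ P, a ≠ 1 → (θ : G → ℂ) a + (θ' : G → ℂ) a = (s0 : ℂ)
  regY : ∀ g : G, ¬ 7 ∣ orderOf g → (θ : G → ℂ) g = (θ' : G → ℂ) g
  rel : ∀ g : G, ¬ 7 ∣ orderOf g →
    (s0 : ℂ) * (θ : G → ℂ) g + 1 + (s1 : ℂ) * (χ1 : G → ℂ) g + (s2 : ℂ) * (χ2 : G → ℂ) g = 0
  rest : ∀ χ : IrrCharacter G, χ ∉ [principalChar G, χ1, χ2, θ, θ'] →
    ∀ a ∈ P, a ≠ 1 → (χ : G → ℂ) a = 0

/-- Case (I): degrees `1, 15, 6 | 10, 10`  (the alternating group of degree 7). -/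
abbrev B7I (P : Subgroup G) : Type u := B7 P 15 6 10 1 (-1) (-1)

/-- Case (II): degrees `1, 8, 6 | 3, 3`  (the pattern of `PSL(2,7)`; to be excluded). -/
abbrev B7II (P : Subgroup G) : Type u := B7 P 8 6 3 1 (-1) (-1)

/-- Case (III): degrees `1, 15, 8 | 24, 24`  (to be excluded). -/
abbrev B7III (P : Subgroup G) : Type u := B7 P 15 8 24 1 1 (-1)

/-- Case (IV): degrees `1, 15, 20 | 4, 4`  (to be excluded). -/
abbrev B7IV (P : Subgroup G) : Type u := B7 P 15 20 4 1 (-1) 1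

/-- The complete list of the irreducible characters of a simple group of order `2520`, with the
information coming from the primes `7` (`P`) and `5` (`Q`):
`1, χ15 = b.χ1, χ6 = b.χ2, θ, θ' (10), α, α' (14), β (21), γ (35)`. -/
structure CT7 (P Q : Subgroup G) where
  b : B7I P
  α : IrrCharacter G
  α' : IrrCharacter G
  β : IrrCharacter G
  γ : IrrCharacter G
  nodup : [principalChar G, b.χ1, b.χ2, b.θ, b.θ', α, α', β, γ].Nodup
  all : ∀ χ : IrrCharacter G, χ ∈ [principalChar G, b.χ1, b.χ2, b.θ, b.θ', α, α', β, γ]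
  degα : charDegree (α : G → ℂ) = 14
  degα' : charDegree (α' : G → ℂ) = 14
  degβ : charDegree (β : G → ℂ) = 21
  degγ : charDegree (γ : G → ℂ) = 35
  val6 : ∀ a ∈ Q, a ≠ 1 → (b.χ2 : G → ℂ) a = 1
  valα : ∀ a ∈ Q, a ≠ 1 → (α : G → ℂ) a = -1
  valα' : ∀ a ∈ Q, a ≠ 1 → (α' : G → ℂ) a = -1
  valβ : ∀ a ∈ Q, a ≠ 1 → (β : G → ℂ) a = 1
  val0 : ∀ χ : IrrCharacter G, χ ∈ [b.χ1, b.θ, b.θ', γ] → ∀ a ∈ Q, a ≠ 1 → (χ : G → ℂ) a = 0
  rel5 : ∀ g : G, ¬ 5 ∣ orderOf g →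
    1 + (b.χ2 : G → ℂ) g - (α : G → ℂ) g - (α' : G → ℂ) g + (β : G → ℂ) g = 0

end Cfsg.Agent.Helper28.A7U
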