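import Mathlib
import Cfsg.Agent.Lib.Helper28.A7Defs
import Cfsg.Agent.Lib.Helper18.O2520SYL7

/-!
# S0984, piece S1: the Sylow 7-subgroups (wrapper around helper18's elementary `O2520.syl7`)
-/

set_option autoImplicit false
set_option linter.unusedSectionVars false

namespace Cfsg.Agent.Helper28.A7U

universe u

variable {G : Type u} [Group G] [Fintype G]

/-- a Sylow `7`-subgroup is self-centralizing of order `7` with `|N(P) : P| = 3`. -/
theorem syl7 (hs : IsSimpleGroup G) (hG : Nat.card G = 2520) (P : Sylow 7 G) :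
    Nat.card (P : Subgroup G) = 7 ∧
    Subgroup.centralizer ((P : Subgroup G) : Set G) = (P : Subgroup G) ∧
    (Subgroup.centralizer ((P : Subgroup G) : Set G)).relIndex
      (Subgroup.normalizer ((P : Subgroup G) : Set G)) = 3 := by
  haveI := hs
  obtain ⟨-, hP, hN, hCc, hC⟩ := Cfsg.Agent.Helper18.O2520.syl7 hG P
  refine ⟨hP, hC, ?_⟩
  have h1 := Subgroup.relIndex_mul_relIndex (⊥ : Subgroup G)
    (Subgroup.centralizer ((P : Subgroup G) : Set G))
    (Subgroup.normalizer ((P : Subgroup G) : Set G)) bot_le (Subgroup.centralizer_le_normalizer ..)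
  rw [Subgroup.relIndex_bot_left, Subgroup.relIndex_bot_left, hN, hCc] at h1
  omega

end Cfsg.Agent.Helper28.A7U
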