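import Mathlib
import Cfsg.Agent.S0999

/-!
# S0984: basic facts on a simple group of order 2520 (helper28): perfect
-/

set_option autoImplicit false
set_option linter.unusedSectionVars false
set_option linter.unusedVariables false

namespace Cfsg.Agent.Helper28.A7U

universe u

variable {G : Type u} [Group G] [Fintype G]

/-- a simple group of order `2520` is perfect -/
theorem perfect (hs : IsSimpleGroup G) (hG : Nat.card G = 2520) : commutator G = ⊤ := by
  haveI := hs
  apply Cfsg.Agent.S0999.perfect_of_simple
  intro hcyc
  haveI := hcyc
  have hcomm : ∀ a b : G, a * b = b * a := fun a b => by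
    obtain ⟨g, hg⟩ := hcyc.exists_generator
    obtain ⟨m, rfl⟩ := hg a
    obtain ⟨k, rfl⟩ := hg b
    exact (Commute.zpow_zpow_self g m k).eq
  letI : CommGroup G := { (inferInstance : Group G) with mul_comm := hcomm }
  have hprime : (Nat.card G).Prime := IsSimpleGroup.prime_card
  rw [hG] at hprime
  norm_num at hprime

end Cfsg.Agent.Helper28.A7U
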