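import Mathlib
import Cfsg.Prelude.Def_Blocks
import Cfsg.Agent.Lib.Helper28.A7Defs
import Cfsg.Agent.Lib.Helper28.A7UBasic
import Cfsg.Agent.Lib.Helper17.BRRedMain
import Cfsg.Agent.Lib.Helper5.BRP0
import Cfsg.Agent.Lib.Helper24.CharIntegral

/-!
# S0984, piece S2 (helper28): the degrees in the principal `7`-block  (port of helper17's `M11.exists_b11`)
-/

set_option autoImplicit false
set_option linter.unusedSectionVars false
set_option linter.unusedVariables false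

namespace Cfsg.Agent.Helper28.A7U

open scoped ComplexConjugate
open Cfsg Cfsg.Agent.Helper24

universe u

namespace S2

/-- the possible degrees of the nonexceptional characters -/
theorem deg_cases (d : ℕ) (hd : d ∣ 2520) (hd1 : d ≠ 1) (hsq : d * d < 2520) (ε : ℤ)
    (hε : ε = 1 ∨ ε = -1) (hmod : (d : ℤ) ≡ ε [ZMOD 7]) :
    (d = 6 ∧ ε = -1) ∨ (d = 20 ∧ ε = -1) ∨ (d = 8 ∧ ε = 1) ∨ (d = 15 ∧ ε = 1) ∨
      (d = 36 ∧ ε = 1) := by
  have hle : d ≤ 50 := by nlinarith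
  unfold Int.ModEq at hmod
  rcases hε with rfl | rfl <;> interval_cases d <;> omega

set_option maxHeartbeats 1600000 in
/-- the numerical core -/
theorem num_sorted {d1 d2 D : ℕ} {s1 s2 δ₀ : ℤ}
    (h1 : (d1 = 6 ∧ s1 = -1) ∨ (d1 = 20 ∧ s1 = -1) ∨ (d1 = 8 ∧ s1 = 1) ∨ (d1 = 15 ∧ s1 = 1) ∨
      (d1 = 36 ∧ s1 = 1))
    (h2 : (d2 = 6 ∧ s2 = -1) ∨ (d2 = 20 ∧ s2 = -1) ∨ (d2 = 8 ∧ s2 = 1) ∨ (d2 = 15 ∧ s2 = 1) ∨
      (d2 = 36 ∧ s2 = 1))
    (h12 : d2 ≤ d1) (hδ₀ : δ₀ = 1 ∨ δ₀ = -1) (hD : D ∣ 2520)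
    (hDmod : (D : ℤ) ≡ -δ₀ * 3 [ZMOD 7])
    (hrel : δ₀ * D + 1 + s1 * d1 + s2 * d2 = 0)
    (hsq : 1 + d1 ^ 2 + d2 ^ 2 + 2 * D ^ 2 ≤ 2520) :
    (δ₀ = -1 ∧ D = 10 ∧ d1 = 15 ∧ d2 = 6 ∧ s1 = 1 ∧ s2 = -1) ∨
    (δ₀ = -1 ∧ D = 3 ∧ d1 = 8 ∧ d2 = 6 ∧ s1 = 1 ∧ s2 = -1) ∨
    (δ₀ = -1 ∧ D = 24 ∧ d1 = 15 ∧ d2 = 8 ∧ s1 = 1 ∧ s2 = 1) ∨
    (δ₀ = 1 ∧ D = 4 ∧ d1 = 20 ∧ d2 = 15 ∧ s1 = -1 ∧ s2 = 1) := by
  have hD35 : D ≤ 35 := by nlinarith
  unfold Int.ModEq at hDmod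
  rcases h1 with ⟨rfl, rfl⟩ | ⟨rfl, rfl⟩ | ⟨rfl, rfl⟩ | ⟨rfl, rfl⟩ | ⟨rfl, rfl⟩ <;>
  rcases h2 with ⟨rfl, rfl⟩ | ⟨rfl, rfl⟩ | ⟨rfl, rfl⟩ | ⟨rfl, rfl⟩ | ⟨rfl, rfl⟩ <;>
  (try omega) <;>
  rcases hδ₀ with rfl | rfl <;>
  (try omega) <;>
  interval_cases D <;> omega

end S2

variable {G : Type u} [Group G] [Fintype G]

set_option maxHeartbeats 1600000 in
/-- PIECE S2. -/
theorem exists_b7 (hs : IsSimpleGroup G) (hG : Nat.card G = 2520) (P : Sylow 7 G)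
    (hP : Nat.card (P : Subgroup G) = 7)
    (hC : Subgroup.centralizer ((P : Subgroup G) : Set G) = (P : Subgroup G))
    (hw : (Subgroup.centralizer ((P : Subgroup G) : Set G)).relIndex
      (Subgroup.normalizer ((P : Subgroup G) : Set G)) = 3) :
    Nonempty (B7I (P : Subgroup G)) ∨ Nonempty (B7II (P : Subgroup G)) ∨
      Nonempty (B7III (P : Subgroup G)) ∨ Nonempty (B7IV (P : Subgroup G)) := by
  classical
  have hperf := perfect hs hG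
  letI : Fintype (IrrCharacter G) := irrFintype
  obtain ⟨-, -, X, Y, δ, δ₀, O, hdisj, hXc, hYc, hX, h1X, hrest, hδ₀, hY, -, -, hYsum, hYreg, hrel⟩ :=
    Cfsg.Agent.Helper5.BRP0.brauer_interface 7 P hP hC 3 hw
  set χ₀ := principalChar G with hχ₀
  have hχ₀X : χ₀ ∈ X := h1X (by norm_num)
  have hYc2 : Y.card = 2 := by rw [hYc]
  obtain ⟨θ, θ', hθne, hYeq⟩ := Finset.card_eq_two.mp hYc2
  -- the two other members of `X`
  have hX'c : (X.erase χ₀).card = 2 := by rw [Finset.card_erase_of_mem hχ₀X, hXc]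
  obtain ⟨a, b, hab, hX'eq⟩ := Finset.card_eq_two.mp hX'c
  -- sort by degree
  obtain ⟨χ1, χ2, h12, hX'eq', h21⟩ : ∃ χ1 χ2 : IrrCharacter G, χ1 ≠ χ2 ∧
      X.erase χ₀ = {χ1, χ2} ∧ charDegree (χ2 : G → ℂ) ≤ charDegree (χ1 : G → ℂ) := by
    rcases le_total (charDegree (b : G → ℂ)) (charDegree (a : G → ℂ)) with h | h
    · exact ⟨a, b, hab, hX'eq, h⟩
    · exact ⟨b, a, hab.symm, by rw [hX'eq, Finset.pair_comm], h⟩
  have hmemX' : ∀ χ : IrrCharacter G, χ ∈ X.erase χ₀ ↔ χ = χ1 ∨ χ = χ2 := by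
    intro χ
    rw [hX'eq']
    simp only [Finset.mem_insert, Finset.mem_singleton]
  have hXeq : X = insert χ₀ ({χ1, χ2} : Finset (IrrCharacter G)) := by
    ext χ
    by_cases hχ : χ = χ₀
    · subst hχ; simp [hχ₀X]
    · have := hmemX' χ
      rw [Finset.mem_erase] at this
      simp only [Finset.mem_insert, Finset.mem_singleton]
      tauto
  have hmemX : ∀ i : IrrCharacter G, i = χ1 ∨ i = χ2 → i ∈ X ∧ i ≠ χ₀ := by
    intro i hi
    have := (hmemX' i).mpr hi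
    rw [Finset.mem_erase] at this
    exact ⟨this.2, this.1⟩
  have hχ1 := hmemX χ1 (Or.inl rfl)
  have hχ2 := hmemX χ2 (Or.inr rfl)
  have hθY : θ ∈ Y := by rw [hYeq]; simp
  have hθ'Y : θ' ∈ Y := by rw [hYeq]; simp
  have hone_reg : ¬ 7 ∣ orderOf (1 : G) := by rw [orderOf_one]; norm_num
  -- sum of squares
  have hsumsq := sum_charDegree_sq (G := G)
  rw [hG] at hsumsq
  have hnotY : ∀ χ ∈ X, χ ∉ Y := fun χ hχ hY' => (Finset.disjoint_left.mp hdisj) hχ hY'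
  have hsq5 : ∑ χ ∈ ({χ₀, χ1, χ2, θ, θ'} : Finset (IrrCharacter G)),
      charDegree (χ : G → ℂ) ^ 2 ≤ 2520 := by
    rw [← hsumsq]
    exact Finset.sum_le_sum_of_subset (Finset.subset_univ _)
  have hθX : θ ∉ X := fun h => hnotY θ h hθY
  have hθ'X : θ' ∉ X := fun h => hnotY θ' h hθ'Y
  have hne : ∀ χ ∈ X, χ ≠ θ ∧ χ ≠ θ' := fun χ hχ =>
    ⟨fun h => hθX (h ▸ hχ), fun h => hθ'X (h ▸ hχ)⟩
  rw [Finset.sum_insert (by
      simp only [Finset.mem_insert, Finset.mem_singleton, not_or]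
      exact ⟨hχ1.2.symm, hχ2.2.symm, (hne χ₀ hχ₀X).1, (hne χ₀ hχ₀X).2⟩),
    Finset.sum_insert (by
      simp only [Finset.mem_insert, Finset.mem_singleton, not_or]
      exact ⟨h12, (hne χ1 hχ1.1).1, (hne χ1 hχ1.1).2⟩),
    Finset.sum_insert (by
      simp only [Finset.mem_insert, Finset.mem_singleton, not_or]
      exact ⟨(hne χ2 hχ2.1).1, (hne χ2 hχ2.1).2⟩),
    Finset.sum_insert (by simpa using hθne), Finset.sum_singleton] at hsq5
  have hdeg₀ : charDegree (χ₀ : G → ℂ) = 1 := by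
    apply charDegree_natCast 1
    simp [hχ₀, principalChar]
  rw [hdeg₀] at hsq5
  -- degrees of the members of `X`
  have hdegX : ∀ χ ∈ X, χ ≠ χ₀ →
      (charDegree (χ : G → ℂ) = 6 ∧ δ χ = -1) ∨ (charDegree (χ : G → ℂ) = 20 ∧ δ χ = -1) ∨
      (charDegree (χ : G → ℂ) = 8 ∧ δ χ = 1) ∨ (charDegree (χ : G → ℂ) = 15 ∧ δ χ = 1) ∨
        (charDegree (χ : G → ℂ) = 36 ∧ δ χ = 1) := by
    intro χ hχ hχne
    obtain ⟨hδ, -, hmod⟩ := hX χ hχ
    apply S2.deg_cases _ _ _ _ _ hδ hmod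
    · have := charDegree_dvd_card χ.2
      rwa [hG] at this
    · intro h1
      apply hχne
      apply Cfsg.Agent.Helper17.BRRed.eq_principal_of_degree_one hperf χ
      rw [irr_one_eq_charDegree χ.2, h1]; simp
    · have h2 : ∑ ψ ∈ ({χ₀, χ} : Finset (IrrCharacter G)), charDegree (ψ : G → ℂ) ^ 2 ≤ 2520 := by
        rw [← hsumsq]
        exact Finset.sum_le_sum_of_subset (Finset.subset_univ _)
      rw [Finset.sum_insert (by simpa using hχne.symm), Finset.sum_singleton, hdeg₀] at h2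
      nlinarith
  have hd1 := hdegX χ1 hχ1.1 hχ1.2
  have hd2 := hdegX χ2 hχ2.1 hχ2.2
  -- the exceptional degree
  obtain ⟨-, -, -, hDmod⟩ := hY θ hθY
  have hDD : charDegree (θ' : G → ℂ) = charDegree (θ : G → ℂ) := by
    have h := hYreg θ hθY θ' hθ'Y 1 hone_reg
    rw [irr_one_eq_charDegree θ.2, irr_one_eq_charDegree θ'.2] at h
    exact_mod_cast h.symm
  have hDdvd : charDegree (θ : G → ℂ) ∣ 2520 := by
    have := charDegree_dvd_card θ.2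
    rwa [hG] at this
  -- `δ χ₀ = 1`
  have hδχ₀ : δ χ₀ = 1 := by
    obtain ⟨hδ, -, hmod⟩ := hX χ₀ hχ₀X
    rw [hdeg₀] at hmod
    unfold Int.ModEq at hmod
    rcases hδ with h | h
    · exact h
    · rw [h] at hmod; omega
  -- the relation at `1`
  have hrel1 := hrel 1 hone_reg θ hθY
  rw [hXeq, Finset.sum_insert (by
      simp only [Finset.mem_insert, Finset.mem_singleton, not_or]
      exact ⟨hχ1.2.symm, hχ2.2.symm⟩),
    Finset.sum_insert (by simpa using h12), Finset.sum_singleton] at hrel1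
  rw [irr_one_eq_charDegree θ.2, irr_one_eq_charDegree χ₀.2, irr_one_eq_charDegree χ1.2,
    irr_one_eq_charDegree χ2.2, hdeg₀, hδχ₀] at hrel1
  have hrelZ : δ₀ * (charDegree (θ : G → ℂ) : ℤ) + 1 + δ χ1 * (charDegree (χ1 : G → ℂ) : ℤ) +
      δ χ2 * (charDegree (χ2 : G → ℂ) : ℤ) = 0 := by
    have : ((δ₀ * (charDegree (θ : G → ℂ) : ℤ) + 1 + δ χ1 * (charDegree (χ1 : G → ℂ) : ℤ) +
      δ χ2 * (charDegree (χ2 : G → ℂ) : ℤ) : ℤ) : ℂ) = 0 := by
      push_cast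
      linear_combination hrel1
    exact_mod_cast this
  rw [hDD] at hsq5
  have hmain := S2.num_sorted hd1 hd2 h21 hδ₀ hDdvd (by simpa using hDmod) hrelZ (by linarith)
  -- common fields
  have hval : ∀ χ ∈ X, ∀ a ∈ (P : Subgroup G), a ≠ 1 → (χ : G → ℂ) a = (δ χ : ℂ) :=
    fun χ hχ => (hX χ hχ).2.1
  have hsumY : ∀ a ∈ (P : Subgroup G), a ≠ 1 → (θ : G → ℂ) a + (θ' : G → ℂ) a = (δ₀ : ℂ) := by
    intro a ha ha1
    have := hYsum a ha ha1
    rw [hYeq, Finset.sum_insert (by simpa using hθne), Finset.sum_singleton] at this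
    exact this
  have hregY : ∀ g : G, ¬ 7 ∣ orderOf g → (θ : G → ℂ) g = (θ' : G → ℂ) g :=
    fun g hg => hYreg θ hθY θ' hθ'Y g hg
  have hrelg : ∀ g : G, ¬ 7 ∣ orderOf g →
      (δ₀ : ℂ) * (θ : G → ℂ) g + 1 + (δ χ1 : ℂ) * (χ1 : G → ℂ) g +
        (δ χ2 : ℂ) * (χ2 : G → ℂ) g = 0 := by
    intro g hg
    have h := hrel g hg θ hθY
    rw [hXeq, Finset.sum_insert (by
        simp only [Finset.mem_insert, Finset.mem_singleton, not_or]
        exact ⟨hχ1.2.symm, hχ2.2.symm⟩),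
      Finset.sum_insert (by simpa using h12), Finset.sum_singleton, hδχ₀] at h
    have h0 : (χ₀ : G → ℂ) g = 1 := rfl
    rw [h0] at h
    push_cast at h
    linear_combination h
  have hrestg : ∀ χ : IrrCharacter G, χ ∉ [χ₀, χ1, χ2, θ, θ'] →
      ∀ a ∈ (P : Subgroup G), a ≠ 1 → (χ : G → ℂ) a = 0 := by
    intro χ hχ
    simp only [List.mem_cons, List.not_mem_nil, or_false, not_or] at hχ
    apply hrest χ
    · rw [hXeq]
      simp only [Finset.mem_insert, Finset.mem_singleton, not_or]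
      exact ⟨hχ.1, hχ.2.1, hχ.2.2.1⟩
    · rw [hYeq]
      simp only [Finset.mem_insert, Finset.mem_singleton, not_or]
      exact ⟨hχ.2.2.2.1, hχ.2.2.2.2⟩
  have hnodup : [χ₀, χ1, χ2, θ, θ'].Nodup := by
    simp only [List.nodup_cons, List.mem_cons, List.not_mem_nil, or_false, not_or, List.nodup_nil,
      and_true, not_false_eq_true]
    exact ⟨⟨hχ1.2.symm, hχ2.2.symm, (hne χ₀ hχ₀X).1, (hne χ₀ hχ₀X).2⟩,
      ⟨h12, (hne χ1 hχ1.1).1, (hne χ1 hχ1.1).2⟩,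
      ⟨(hne χ2 hχ2.1).1, (hne χ2 hχ2.1).2⟩, hθne⟩
  have hnodup' : [χ₀, χ2, χ1, θ, θ'].Nodup := by
    simp only [List.nodup_cons, List.mem_cons, List.not_mem_nil, or_false, not_or, List.nodup_nil,
      and_true, not_false_eq_true]
    exact ⟨⟨hχ2.2.symm, hχ1.2.symm, (hne χ₀ hχ₀X).1, (hne χ₀ hχ₀X).2⟩,
      ⟨h12.symm, (hne χ2 hχ2.1).1, (hne χ2 hχ2.1).2⟩,
      ⟨(hne χ1 hχ1.1).1, (hne χ1 hχ1.1).2⟩, hθne⟩
  rcases hmain with ⟨hd0, hD, e1, e2, f1, f2⟩ | ⟨hd0, hD, e1, e2, f1, f2⟩ |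
      ⟨hd0, hD, e1, e2, f1, f2⟩ | ⟨hd0, hD, e1, e2, f1, f2⟩
  · left
    exact ⟨⟨χ1, χ2, θ, θ', hnodup, e1, e2, hD, by rw [hDD, hD],
      by have := hval χ1 hχ1.1; rw [f1] at this; exact this,
      by have := hval χ2 hχ2.1; rw [f2] at this; exact this,
      by rw [hd0] at hsumY; exact hsumY, hregY,
      by rw [f1, f2, hd0] at hrelg; exact hrelg, hrestg⟩⟩
  · right; left
    exact ⟨⟨χ1, χ2, θ, θ', hnodup, e1, e2, hD, by rw [hDD, hD],
      by have := hval χ1 hχ1.1; rw [f1] at this; exact this,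
      by have := hval χ2 hχ2.1; rw [f2] at this; exact this,
      by rw [hd0] at hsumY; exact hsumY, hregY,
      by rw [f1, f2, hd0] at hrelg; exact hrelg, hrestg⟩⟩
  · right; right; left
    exact ⟨⟨χ1, χ2, θ, θ', hnodup, e1, e2, hD, by rw [hDD, hD],
      by have := hval χ1 hχ1.1; rw [f1] at this; exact this,
      by have := hval χ2 hχ2.1; rw [f2] at this; exact this,
      by rw [hd0] at hsumY; exact hsumY, hregY,
      by rw [f1, f2, hd0] at hrelg; exact hrelg, hrestg⟩⟩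
  · right; right; right
    refine ⟨⟨χ2, χ1, θ, θ', hnodup', e2, e1, hD, by rw [hDD, hD],
      by have := hval χ2 hχ2.1; rw [f2] at this; exact this,
      by have := hval χ1 hχ1.1; rw [f1] at this; exact this,
      by rw [hd0] at hsumY; exact hsumY, hregY, ?_, ?_⟩⟩
    · intro g hg
      have := hrelg g hg
      rw [f1, f2, hd0] at this
      linear_combination this
    · intro χ hχ
      apply hrestg χ
      simp only [List.mem_cons, List.not_mem_nil, or_false, not_or] at hχ ⊢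
      exact ⟨hχ.1, hχ.2.2.1, hχ.2.1, hχ.2.2.2.1, hχ.2.2.2.2⟩

end Cfsg.Agent.Helper28.A7U
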