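import Mathlib
import Cfsg.Prelude.Def_Blocks
import Cfsg.Agent.Lib.Helper24.CharLinear
import Cfsg.Agent.Lib.Helper24.CharComplete
import Cfsg.Agent.Lib.Helper24.CharHom
import Cfsg.Agent.Lib.Helper24.CharCodegree
import Cfsg.Agent.Lib.Helper16.ITODefs
import Cfsg.Agent.Lib.Helper28.A7Defs
import Cfsg.Agent.Lib.Helper12.NPCPSL
import Cfsg.Agent.S4504

/-! # S0984, piece S2B: case (II) (degrees `1, 8, 6 | 3, 3`) is impossible (helper18) -/

set_option autoImplicit false
set_option linter.unusedSectionVars false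
set_option linter.unusedVariables false

namespace Cfsg.Agent.Helper28.A7U

open scoped ComplexConjugate
open Cfsg Cfsg.Agent.Helper24

universe u

variable {G : Type u} [Group G] [Fintype G]

/-- PIECE S2B: case (II) is impossible: `θ` is a faithful character of degree `3 = (7-1)/2`, so by S4504
`G/Z(G) ≅ PSL(2,7)`; but `|G/Z(G)| ∈ {1, 2520}` and `|PSL(2,7)| = 168`. -/
theorem not_b7II (hs : IsSimpleGroup G) (hG : Nat.card G = 2520) (P : Subgroup G) (B : B7II P) :
    False := by
  have hirr : IsIrrCharacter G (B.θ : G → ℂ) := B.θ.2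
  have hch : IsCharacter G (B.θ : G → ℂ) := isCharacter_of_isIrrCharacter hirr
  have hdeg : charDegree (B.θ : G → ℂ) = 3 := B.degθ
  have hfaith : ∀ g : G, (B.θ : G → ℂ) g = (B.θ : G → ℂ) 1 → g = 1 := by
    intro g hg
    have hn := charKer_normal hch
    rcases hs.eq_bot_or_eq_top_of_normal _ hn with hb | ht
    · have hmem : g ∈ charKer hch := hg
      rw [hb] at hmem
      exact Subgroup.mem_bot.1 hmem
    · exfalso
      have hconst : ∀ g, (B.θ : G → ℂ) g = (B.θ : G → ℂ) 1 := fun g => by
        have hmem : g ∈ charKer hch := by rw [ht]; trivial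
        exact hmem
      have h1 := eq_one_of_const hirr hconst
      have h2 : B.θ = principalChar G := Subtype.ext h1
      have hnd := B.nodup
      rw [h2] at hnd
      simp at hnd
  have hnn : ∀ H : Subgroup G, H.Normal → Nat.card H ≠ 7 := by
    intro H hH
    rcases hs.eq_bot_or_eq_top_of_normal H hH with hb | ht
    · rw [hb, Subgroup.card_bot]; norm_num
    · rw [ht, Subgroup.card_top, hG]; norm_num
  obtain ⟨e⟩ := Cfsg.Agent.S4504.result (G := G) 7 (by norm_num) (by rw [hG]; norm_num)
    (by rw [hG]; norm_num) hnn (B.θ : G → ℂ) hch hfaith (by rw [hdeg])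
  have hcard := Nat.card_congr e.toEquiv
  have hpsl := Cfsg.Agent.Helper15.NPC.PSL.card_psl 7 (by norm_num)
  have h168 : Nat.card (Matrix.ProjectiveSpecialLinearGroup (Fin 2) (ZMod 7)) = 168 := by
    have h336 : (7 : ℕ) * (7 ^ 2 - 1) = 336 := by norm_num
    rw [h336] at hpsl
    omega
  rw [h168] at hcard
  have hci := (Subgroup.center G).card_mul_index
  rw [Subgroup.index_eq_card, hcard, hG] at hci
  rcases hs.eq_bot_or_eq_top_of_normal (Subgroup.center G) inferInstance with hb | ht
  · rw [hb, Subgroup.card_bot] at hci; omega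
  · rw [ht, Subgroup.card_top, hG] at hci; omega

end Cfsg.Agent.Helper28.A7U
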