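import Mathlib
import Cfsg.Agent.Lib.Helper15.M11S3

/-!
# S0984 piece S3 (helper6 for helper28): `no_invol_inverts7`
-/

set_option autoImplicit false

namespace Cfsg.Agent.Helper28.A7U

open Subgroup

universe u

variable {G : Type u} [Group G] [Fintype G]

/-- PIECE S3: no involution inverts a nontrivial element of `P`. -/
theorem no_invol_inverts7 (P : Sylow 7 G) (hP : Nat.card (P : Subgroup G) = 7)
    (hC : Subgroup.centralizer ((P : Subgroup G) : Set G) = (P : Subgroup G))
    (hw : (Subgroup.centralizer ((P : Subgroup G) : Set G)).relIndex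
      (Subgroup.normalizer ((P : Subgroup G) : Set G)) = 3) {x : G} (hx : x ∈ (P : Subgroup G))
    (hx1 : x ≠ 1) : ∀ s : G, s * s = 1 → s ≠ 1 → s * x * s⁻¹ ≠ x⁻¹ := by
  intro s hs hs1 hsx
  have : Fact (Nat.Prime 7) := ⟨by norm_num⟩
  have hsN : s ∈ normalizer ((P : Subgroup G) : Set G) :=
    Cfsg.Agent.Helper17.M11.S3.mem_normalizer_of_conj_mem (p := 7) (P : Subgroup G) hP hx hx1 hs
      (by rw [hsx]; exact (P : Subgroup G).inv_mem hx)
  have hcard : Nat.card (normalizer ((P : Subgroup G) : Set G)) = 21 := by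
    have := Subgroup.relIndex_mul_relIndex (H := (⊥ : Subgroup G))
      (K := centralizer ((P : Subgroup G) : Set G)) (L := normalizer ((P : Subgroup G) : Set G))
      bot_le (Subgroup.centralizer_le_normalizer _)
    rw [Subgroup.relIndex_bot_left, Subgroup.relIndex_bot_left, hw, hC, hP] at this
    omega
  have hord : orderOf s = 2 := orderOf_eq_prime (by rw [pow_two]; exact hs) hs1
  have hdvd : orderOf (⟨s, hsN⟩ : normalizer ((P : Subgroup G) : Set G)) ∣
      Nat.card (normalizer ((P : Subgroup G) : Set G)) := orderOf_dvd_natCard _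
  rw [← Subgroup.orderOf_coe, hcard] at hdvd
  simp only [hord] at hdvd
  omega

end Cfsg.Agent.Helper28.A7U
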