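import Mathlib
import Cfsg.Prelude.Def_Blocks
import Cfsg.Agent.Lib.Helper24.CharLinear
import Cfsg.Agent.Lib.Helper24.CharComplete
import Cfsg.Agent.Lib.Helper28.A7Defs
import Cfsg.Agent.Lib.Helper17.M11S4

/-!
# S0984 piece S4 (helper6 for helper28): `invol_eq7`
(port of helper17's `Helper17.M11.invol_eq11`)
-/

set_option autoImplicit false
set_option linter.unusedSectionVars false
set_option linter.unusedVariables false
set_option linter.style.haveILetI false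

namespace Cfsg.Agent.Helper28.A7U

open scoped ComplexConjugate
open Cfsg Cfsg.Agent.Helper24

universe u

variable {G : Type u} [Group G] [Fintype G]

/-- PIECE S4. -/
theorem invol_eq7 {P : Subgroup G} {d1 d2 D : ℕ} {s1 s2 s0 : ℤ}
    (B : B7 P d1 d2 D s1 s2 s0) {x : G} (hx : x ∈ P) (hx1 : x ≠ 1)
    (hno : ∀ s : G, s * s = 1 → s ≠ 1 → s * x * s⁻¹ ≠ x⁻¹) {t : G} (ht : t * t = 1) (ht1 : t ≠ 1)
    {v1 v2 c : ℤ} (h1 : (B.χ1 : G → ℂ) t = (v1 : ℂ)) (h2 : (B.χ2 : G → ℂ) t = (v2 : ℂ))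
    (hc : (B.θ : G → ℂ) t = (c : ℂ)) :
    s0 * c + 1 + s1 * v1 + s2 * v2 = 0 ∧
    (1 : ℚ) + s1 * v1 ^ 2 / d1 + s2 * v2 ^ 2 / d2 + s0 * c ^ 2 / D = 0 := by
  classical
  have hot : orderOf t = 2 := orderOf_eq_prime (by rw [sq]; exact ht) ht1
  have hreg : ¬ 7 ∣ orderOf t := by rw [hot]; norm_num
  have R1c := B.rel t hreg
  rw [h1, h2, hc] at R1c
  have R1 : s0 * c + 1 + s1 * v1 + s2 * v2 = 0 := by exact_mod_cast R1c
  refine ⟨R1, ?_⟩
  letI : Fintype (IrrCharacter G) := irrFintype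
  have key := Cfsg.Agent.Helper17.M11.cc_invol_zero (G := G) ht ht1 hno
  rw [Cfsg.Agent.Helper17.M11.S4.sum_split _ B.nodup _ ?_] at key
  · have hc' : (B.θ' : G → ℂ) t = (c : ℂ) := by rw [← B.regY t hreg, hc]
    have e1 : (B.χ1 : G → ℂ) 1 = (d1 : ℂ) := by
      rw [irr_one_eq_charDegree B.χ1.2, B.deg1]
    have e2 : (B.χ2 : G → ℂ) 1 = (d2 : ℂ) := by
      rw [irr_one_eq_charDegree B.χ2.2, B.deg2]
    have e5 : (B.θ : G → ℂ) 1 = (D : ℂ) := by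
      rw [irr_one_eq_charDegree B.θ.2, B.degθ]
    have e6 : (B.θ' : G → ℂ) 1 = (D : ℂ) := by
      rw [irr_one_eq_charDegree B.θ'.2, B.degθ']
    have e0 : ∀ g : G, (principalChar G : G → ℂ) g = 1 := fun g => rfl
    have hs : conj ((B.θ : G → ℂ) x) + conj ((B.θ' : G → ℂ) x) = (s0 : ℂ) := by
      rw [← map_add, B.sumY x hx hx1]; simp
    simp only [List.map_cons, List.map_nil, List.sum_cons, List.sum_nil, e0, e1, e2, e5, e6,
      h1, h2, hc, hc', B.val1 x hx hx1, B.val2 x hx hx1, map_intCast, map_one] at key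
    have key2 : (1 : ℂ) + (s1 : ℂ) * (v1 : ℂ) ^ 2 / (d1 : ℂ) + (s2 : ℂ) * (v2 : ℂ) ^ 2 / (d2 : ℂ)
        + (s0 : ℂ) * (c : ℂ) ^ 2 / (D : ℂ) = 0 := by
      have h5 : (c : ℂ) * (c : ℂ) * conj ((B.θ : G → ℂ) x) / (D : ℂ)
          + (c : ℂ) * (c : ℂ) * conj ((B.θ' : G → ℂ) x) / (D : ℂ) =
            (s0 : ℂ) * (c : ℂ) ^ 2 / (D : ℂ) := by
        rw [← add_div, ← mul_add, hs]; ring
      linear_combination key - h5
    exact_mod_cast key2
  · intro χ hχ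
    rw [B.rest χ hχ x hx hx1]
    simp

end Cfsg.Agent.Helper28.A7U
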