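import Mathlib
import Cfsg.Prelude.Def_Blocks
import Cfsg.Agent.Lib.Helper24.CharLinear
import Cfsg.Agent.Lib.Helper24.CharComplete
import Cfsg.Agent.Lib.Helper24.CharHom
import Cfsg.Agent.Lib.Helper17.BRRedGrp
import Cfsg.Agent.Lib.Helper28.A7Defs
import Cfsg.Agent.Lib.Helper24.M11T1
import Cfsg.Agent.Lib.Helper17.M11T3
import Cfsg.Agent.Lib.Helper25.M11T4
import Cfsg.Agent.Lib.Helper24.O5040DET2
import Cfsg.Agent.Lib.Helper17.M11S5
import Cfsg.Agent.Lib.Helper26.O2520N134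
import Cfsg.Agent.Lib.Helper28.A7US3
import Cfsg.Agent.Lib.Helper28.A7US4
import Cfsg.Agent.Lib.Helper28.A7US6

/-!
# S0984 piece S5 (helper6 for helper28): `not_commute_invol_five`
(port of helper17's `Helper17.M11.not_commute_invol_five`)
-/

set_option autoImplicit false
set_option linter.unusedSectionVars false
set_option linter.unusedVariables false
set_option linter.style.haveILetI false

namespace Cfsg.Agent.Helper28.A7U

open scoped ComplexConjugate
open Cfsg Cfsg.Agent.Helper24 Cfsg.Agent.Helper17.M11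

universe u

variable {G : Type u} [Group G] [Fintype G]

namespace S5

/-- A character of `5`-defect zero: `10 ∣ χ(1) + χ(t)` when the involution `t` commutes with an
element of order `5`. -/
theorem dvd_of_dz (hG : Nat.card G = 2520) (χ : IrrCharacter G) {d : ℕ}
    (hd : charDegree (χ : G → ℂ) = d) (h5 : ¬ 5 ∣ 2520 / d) {t u : G} (ht : orderOf t = 2)
    (hu : orderOf u = 5) (hc : Commute t u) {a : ℤ} (ha : (χ : G → ℂ) t = (a : ℂ)) :
    (10 : ℤ) ∣ (d : ℤ) + a := by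
  have hv := dz_vanish 5 χ (by rw [hG, hd]; exact h5)
  obtain ⟨m, hm⟩ := dvd_add_of_commute (isCharacter_of_isIrrCharacter χ.2) 5 (by norm_num) hv ht hu hc
  rw [irr_one_eq_charDegree χ.2, hd, ha] at hm
  have h1 : (d : ℤ) + a = ((2 * 5 * m : ℕ) : ℤ) := by exact_mod_cast hm
  exact ⟨m, by rw [h1]; push_cast; ring⟩

/-- `4 ∣ χ(1) - χ(t)` for an involution `t` of a perfect group. -/
theorem dvd_four (hperf : commutator G = ⊤) (χ : IrrCharacter G) {d : ℕ}
    (hd : charDegree (χ : G → ℂ) = d) {t : G} (ht : t * t = 1) {a : ℤ}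
    (ha : (χ : G → ℂ) t = (a : ℂ)) : (4 : ℤ) ∣ (d : ℤ) - a := by
  obtain ⟨m, hm⟩ := Cfsg.Agent.Helper28.Ord5040.inv_value_mod_four hperf
    (isCharacter_of_isIrrCharacter χ.2) t (by rw [sq]; exact ht)
  rw [irr_one_eq_charDegree χ.2, hd, ha] at hm
  have h1 : (a : ℤ) = (d : ℤ) - 4 * (m : ℤ) := by exact_mod_cast hm
  exact ⟨m, by rw [h1]; ring⟩

end S5

/-- PIECE S5. -/
theorem not_commute_invol_five (hs : IsSimpleGroup G) (hG : Nat.card G = 2520) (P : Sylow 7 G)
    (hP : Nat.card (P : Subgroup G) = 7)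
    (hC : Subgroup.centralizer ((P : Subgroup G) : Set G) = (P : Subgroup G))
    (hw : (Subgroup.centralizer ((P : Subgroup G) : Set G)).relIndex
      (Subgroup.normalizer ((P : Subgroup G) : Set G)) = 3)
    (hB : Nonempty (B7I (P : Subgroup G)) ∨ Nonempty (B7III (P : Subgroup G)) ∨
      Nonempty (B7IV (P : Subgroup G)))
    {t u : G} (ht : orderOf t = 2) (hu : orderOf u = 5) : ¬ Commute t u := by
  classical
  intro hcomm
  have hperf := S6.perfect hs hG
  have ht2 : t * t = 1 := by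
    have := pow_orderOf_eq_one t
    rw [ht, sq] at this
    exact this
  have ht1 : t ≠ 1 := by
    intro h
    rw [h, orderOf_one] at ht
    omega
  obtain ⟨x, hx, hxo, -, -⟩ := Cfsg.Agent.Helper17.BRRed.exists_generator P hP
  have hx1 : x ≠ 1 := by
    intro h
    rw [h, orderOf_one] at hxo
    omega
  have hno := no_invol_inverts7 P hP hC hw hx hx1
  rcases hB with ⟨⟨B⟩⟩ | ⟨⟨B⟩⟩ | ⟨⟨B⟩⟩
  · -- case (I)
    obtain ⟨a, ha, hab⟩ := invol_value (isCharacter_of_isIrrCharacter B.χ1.2) ht2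
    obtain ⟨b, hb, hbb⟩ := invol_value (isCharacter_of_isIrrCharacter B.χ2.2) ht2
    obtain ⟨c, hc, hcb⟩ := invol_value (isCharacter_of_isIrrCharacter B.θ.2) ht2
    rw [B.deg1] at hab
    rw [B.deg2] at hbb
    rw [B.degθ] at hcb
    obtain ⟨R1, R2⟩ := invol_eq7 B hx hx1 hno ht2 ht1 ha hb hc
    have R1' : -c + 1 + a - b = 0 := by rw [← R1]; ring
    have R2' : 30 + 2 * a ^ 2 - 5 * b ^ 2 - 3 * c ^ 2 = 0 := by
      have : (30 : ℚ) + 2 * (a : ℚ) ^ 2 - 5 * (b : ℚ) ^ 2 - 3 * (c : ℚ) ^ 2 = 0 := by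
        push_cast at R2
        linear_combination 30 * R2
      exact_mod_cast this
    have d1 := S5.dvd_of_dz hG B.χ1 B.deg1 (by norm_num) ht hu hcomm ha
    have d3 := S5.dvd_of_dz hG B.θ B.degθ (by norm_num) ht hu hcomm hc
    have f1 := S5.dvd_four hperf B.χ1 B.deg1 ht2 ha
    have f2 := S5.dvd_four hperf B.χ2 B.deg2 ht2 hb
    have f3 := S5.dvd_four hperf B.θ B.degθ ht2 hc
    have ha15 : a = 15 := num_inv5_I R1' R2' (by exact_mod_cast hab) (by exact_mod_cast hbb)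
      (by exact_mod_cast hcb) (by exact_mod_cast f1) (by exact_mod_cast f2)
      (by exact_mod_cast f3) (by exact_mod_cast d1) (by exact_mod_cast d3)
    have e1 : (B.χ1 : G → ℂ) 1 = 15 := by
      rw [irr_one_eq_charDegree B.χ1.2, B.deg1]; norm_num
    apply ht1
    apply Cfsg.Agent.Helper17.M11.S5.eq_one_of_value hs B.χ1 (x := x)
    · rw [B.val1 x hx hx1, e1]; norm_num
    · rw [ha, e1, ha15]; norm_num
  · -- case (III)
    obtain ⟨a, ha, hab⟩ := invol_value (isCharacter_of_isIrrCharacter B.χ1.2) ht2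
    obtain ⟨b, hb, hbb⟩ := invol_value (isCharacter_of_isIrrCharacter B.χ2.2) ht2
    obtain ⟨c, hc, hcb⟩ := invol_value (isCharacter_of_isIrrCharacter B.θ.2) ht2
    rw [B.deg1] at hab
    rw [B.deg2] at hbb
    rw [B.degθ] at hcb
    obtain ⟨R1, R2⟩ := invol_eq7 B hx hx1 hno ht2 ht1 ha hb hc
    have R1' : -c + 1 + a + b = 0 := by rw [← R1]; ring
    have R2' : 120 + 8 * a ^ 2 + 15 * b ^ 2 - 5 * c ^ 2 = 0 := by
      have : (120 : ℚ) + 8 * (a : ℚ) ^ 2 + 15 * (b : ℚ) ^ 2 - 5 * (c : ℚ) ^ 2 = 0 := by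
        push_cast at R2
        linear_combination 120 * R2
      exact_mod_cast this
    have d1 := S5.dvd_of_dz hG B.χ1 B.deg1 (by norm_num) ht hu hcomm ha
    have f1 := S5.dvd_four hperf B.χ1 B.deg1 ht2 ha
    have f2 := S5.dvd_four hperf B.χ2 B.deg2 ht2 hb
    have f3 := S5.dvd_four hperf B.θ B.degθ ht2 hc
    have ha15 : a = 15 := num_inv5_III R1' R2' (by exact_mod_cast hab) (by exact_mod_cast hbb)
      (by exact_mod_cast hcb) (by exact_mod_cast f1) (by exact_mod_cast f2)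
      (by exact_mod_cast f3) (by exact_mod_cast d1)
    have e1 : (B.χ1 : G → ℂ) 1 = 15 := by
      rw [irr_one_eq_charDegree B.χ1.2, B.deg1]; norm_num
    apply ht1
    apply Cfsg.Agent.Helper17.M11.S5.eq_one_of_value hs B.χ1 (x := x)
    · rw [B.val1 x hx hx1, e1]; norm_num
    · rw [ha, e1, ha15]; norm_num
  · -- case (IV)
    obtain ⟨a, ha, hab⟩ := invol_value (isCharacter_of_isIrrCharacter B.χ1.2) ht2
    obtain ⟨b, hb, hbb⟩ := invol_value (isCharacter_of_isIrrCharacter B.χ2.2) ht2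
    obtain ⟨c, hc, hcb⟩ := invol_value (isCharacter_of_isIrrCharacter B.θ.2) ht2
    rw [B.deg1] at hab
    rw [B.deg2] at hbb
    rw [B.degθ] at hcb
    obtain ⟨R1, R2⟩ := invol_eq7 B hx hx1 hno ht2 ht1 ha hb hc
    have R1' : c + 1 + a - b = 0 := by rw [← R1]; ring
    have R2' : 60 + 4 * a ^ 2 - 3 * b ^ 2 + 15 * c ^ 2 = 0 := by
      have : (60 : ℚ) + 4 * (a : ℚ) ^ 2 - 3 * (b : ℚ) ^ 2 + 15 * (c : ℚ) ^ 2 = 0 := by
        push_cast at R2
        linear_combination 60 * R2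
      exact_mod_cast this
    have d1 := S5.dvd_of_dz hG B.χ1 B.deg1 (by norm_num) ht hu hcomm ha
    have d2 := S5.dvd_of_dz hG B.χ2 B.deg2 (by norm_num) ht hu hcomm hb
    have f1 := S5.dvd_four hperf B.χ1 B.deg1 ht2 ha
    have f2 := S5.dvd_four hperf B.χ2 B.deg2 ht2 hb
    have f3 := S5.dvd_four hperf B.θ B.degθ ht2 hc
    have ha15 : a = 15 := num_inv5_IV R1' R2' (by exact_mod_cast hab) (by exact_mod_cast hbb)
      (by exact_mod_cast hcb) (by exact_mod_cast f1) (by exact_mod_cast f2)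
      (by exact_mod_cast f3) (by exact_mod_cast d1) (by exact_mod_cast d2)
    have e1 : (B.χ1 : G → ℂ) 1 = 15 := by
      rw [irr_one_eq_charDegree B.χ1.2, B.deg1]; norm_num
    apply ht1
    apply Cfsg.Agent.Helper17.M11.S5.eq_one_of_value hs B.χ1 (x := x)
    · rw [B.val1 x hx hx1, e1]; norm_num
    · rw [ha, e1, ha15]; norm_num

end Cfsg.Agent.Helper28.A7U
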