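import Mathlib
import Cfsg.Prelude.Def_Blocks
import Cfsg.Agent.Lib.Helper24.CharLinear
import Cfsg.Agent.Lib.Helper24.CharComplete
import Cfsg.Agent.Lib.Helper16.ITODefs
import Cfsg.Agent.Lib.Helper28.A7Defs
import Cfsg.Agent.Lib.Helper27.M11S7

/-! # S0984, piece S7A: case (III) (degrees `1, 15, 8 | 24, 24`) is impossible (helper18) -/

set_option autoImplicit false
set_option linter.unusedSectionVars false
set_option linter.unusedVariables false

namespace Cfsg.Agent.Helper28.A7U

open scoped ComplexConjugate
open Cfsg Cfsg.Agent.Helper24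

universe u

variable {G : Type u} [Group G] [Fintype G]

/-- PIECE S7A: case (III) is impossible  (`brauer_interface` for `p = 5`, `w = 4`: the characters outside `X₅ ∪ Y₅` vanish on `Q ∖ 1`, hence have
degree divisible by `5`; those inside have degree `≡ ±1 (mod 5)`; `χ2` has degree `8`). -/
theorem not_b7III (P : Subgroup G) (B : B7III P) (Q : Sylow 5 G)
    (hQ : Nat.card (Q : Subgroup G) = 5)
    (hCQ : Subgroup.centralizer ((Q : Subgroup G) : Set G) = (Q : Subgroup G))
    (hwQ : (Subgroup.centralizer ((Q : Subgroup G) : Set G)).relIndex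
      (Subgroup.normalizer ((Q : Subgroup G) : Set G)) = 4) : False := by
  classical
  obtain ⟨Z, σ, -, hZ, hvan, -⟩ := Cfsg.Agent.Helper17.M11.S7.five_interface Q hQ hCQ hwQ
  by_cases h : B.χ2 ∈ Z
  · have h2 := (hZ _ h).2.2
    rw [B.deg2] at h2
    rcases (hZ _ h).1 with hs | hs
    · rw [hs] at h2
      have := Int.modEq_iff_dvd.1 h2
      norm_num at this
    · rw [hs] at h2
      have := Int.modEq_iff_dvd.1 h2
      norm_num at this
  · have := Cfsg.Agent.Helper17.M11.S7.dvd_of_vanish (Q : Subgroup G) hQ B.χ2 (hvan _ h)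
    rw [B.deg2] at this
    norm_num at this

end Cfsg.Agent.Helper28.A7U
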