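import Mathlib
import Cfsg.Prelude.Def_Blocks
import Cfsg.Agent.Lib.Helper24.CharLinear
import Cfsg.Agent.Lib.Helper24.CharComplete
import Cfsg.Agent.Lib.Helper24.ITOLAM2NAT
import Cfsg.Agent.Lib.Helper23.B2SYM2NAT
import Cfsg.Agent.Lib.Helper12.ITOPDVD
import Cfsg.Agent.Lib.Helper16.ITODefs
import Cfsg.Agent.Lib.Helper28.A7Defs

/-!
# S0984 piece S7B (`not_b7IV`): the degree pattern `1, 15, 20 | 4, 4` is impossible (helper22 for helper28's skeleton)

`Λ = Λ²θ` has degree `6 = m_1 + 4 (m_θ + m_θ')` with `m_1 ≤ 1`.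
-/

set_option autoImplicit false
set_option linter.unusedSectionVars false
set_option linter.unusedVariables false
set_option linter.unusedSimpArgs false
set_option linter.style.haveILetI false

namespace Cfsg.Agent.Helper28.A7U

open scoped ComplexConjugate
open Cfsg Cfsg.Agent.Helper24

universe u

variable {G : Type u} [Group G] [Fintype G]

namespace S7B

open Cfsg.Agent.Helper16.ITO Cfsg.Agent.Helper23.B2

theorem lam2_cf {ζ : G → ℂ} (hζ : IsClassFunction G ζ) : IsClassFunction G (lam2 ζ) := by
  intro g h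
  have e : h * g * h⁻¹ * (h * g * h⁻¹) = h * (g * g) * h⁻¹ := by group
  simp only [lam2]
  rw [e, hζ g h, hζ (g * g) h]

/-- the multiplicity of the principal character in `Λ²θ` is at most `1` -/
theorem mult_one_le {θ : G → ℂ} (hθ : IsIrrCharacter G θ) {m s : ℕ}
    (hm : classInner (lam2 θ) (fun _ => (1 : ℂ)) = (m : ℂ))
    (hs : classInner (sym2 θ) (fun _ => (1 : ℂ)) = (s : ℂ)) : m + s ≤ 1 := by
  classical
  letI : Fintype (IrrCharacter G) := irrFintype
  have hadd : classInner (lam2 θ) (fun _ => (1 : ℂ)) + classInner (sym2 θ) (fun _ => (1 : ℂ)) =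
      classInner θ (fun g => conj (θ g)) := by
    rw [← classInner_add_left]
    unfold classInner
    congr 1
    refine Finset.sum_congr rfl fun g _ => ?_
    simp only [Pi.add_apply, lam2, sym2, map_one, mul_one, Complex.conj_conj]
    ring
  have horth := irr_orthogonality hθ (isIrrCharacter_conj hθ)
  rw [hm, hs, horth] at hadd
  by_cases h : θ = fun g => conj (θ g)
  · rw [if_pos h] at hadd
    have : ((m + s : ℕ) : ℂ) = ((1 : ℕ) : ℂ) := by push_cast; exact hadd
    have := Nat.cast_injective this
    omega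
  · rw [if_neg h] at hadd
    have : ((m + s : ℕ) : ℂ) = ((0 : ℕ) : ℂ) := by push_cast; exact hadd
    have := Nat.cast_injective this
    omega

end S7B

open Cfsg.Agent.Helper16.ITO Cfsg.Agent.Helper23.B2 in
/-- PIECE S7B: case (IV) is impossible. -/
theorem not_b7IV (hG : Nat.card G = 2520) (P : Sylow 7 G) (hP : Nat.card (P : Subgroup G) = 7)
    (B : B7IV (P : Subgroup G)) : False := by
  classical
  letI : Fintype (IrrCharacter G) := irrFintype
  have hθirr : IsIrrCharacter G (B.θ : G → ℂ) := B.θ.2
  have hθch : IsCharacter G (B.θ : G → ℂ) := isCharacter_of_isIrrCharacter hθirr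
  have hθcf : IsClassFunction G (B.θ : G → ℂ) := isClassFunction_of_isIrrCharacter hθirr
  -- multiplicities
  have hmult : ∀ χ : IrrCharacter G, ∃ s : ℕ, classInner (lam2 (B.θ : G → ℂ)) (χ : G → ℂ) = (s : ℂ) :=
    fun χ => lam2_inner_nat hθch χ.2
  choose m hm using hmult
  -- the degree of Λ
  have hθ1 : (B.θ : G → ℂ) 1 = 4 := by
    rw [irr_one_eq_charDegree hθirr, B.degθ]; norm_num
  have hΛ1 : lam2 (B.θ : G → ℂ) 1 = 6 := by
    simp only [lam2, mul_one, hθ1]; norm_num
  -- expansion at 1
  have hexp := classFunction_expansion (S7B.lam2_cf hθcf)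
  have hexp1 := congrFun hexp 1
  rw [hΛ1] at hexp1
  simp only [Finset.sum_apply, Pi.smul_apply, smul_eq_mul] at hexp1
  have hsum : ∑ χ : IrrCharacter G, m χ * charDegree (χ : G → ℂ) = 6 := by
    have : ((∑ χ : IrrCharacter G, m χ * charDegree (χ : G → ℂ) : ℕ) : ℂ) = ((6 : ℕ) : ℂ) := by
      push_cast
      rw [hexp1]
      refine Finset.sum_congr rfl fun χ _ => ?_
      rw [hm χ, irr_one_eq_charDegree χ.2]
    exact Nat.cast_injective this
  have hterm : ∀ χ : IrrCharacter G, m χ * charDegree (χ : G → ℂ) ≤ 6 := by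
    intro χ
    rw [← hsum]
    exact Finset.single_le_sum (f := fun χ : IrrCharacter G => m χ * charDegree (χ : G → ℂ))
      (fun _ _ => Nat.zero_le _) (Finset.mem_univ χ)
  -- the characters of large degree do not occur
  have hbig : ∀ χ : IrrCharacter G, χ ∉ [principalChar G, B.θ, B.θ'] → m χ = 0 := by
    intro χ hχ
    have h7 : 7 ≤ charDegree (χ : G → ℂ) := by
      by_cases h1 : χ = B.χ1
      · rw [h1, B.deg1]; norm_num
      by_cases h2 : χ = B.χ2
      · rw [h2, B.deg2]; norm_num
      have hnot : χ ∉ [principalChar G, B.χ1, B.χ2, B.θ, B.θ'] := by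
        simp only [List.mem_cons, List.not_mem_nil, or_false, not_or] at hχ ⊢
        exact ⟨hχ.1, h1, h2, hχ.2.1, hχ.2.2⟩
      obtain ⟨k, hk⟩ := dvd_degree_of_vanish 7 (P : Subgroup G) hP
        (isCharacter_of_isIrrCharacter χ.2) (B.rest χ hnot)
      rw [irr_one_eq_charDegree χ.2] at hk
      have hk' : charDegree (χ : G → ℂ) = 7 * k := Nat.cast_injective hk
      have hpos := charDegree_pos χ.2
      rw [hk'] at hpos ⊢
      omega
    have := hterm χ
    by_contra h0
    have : 1 ≤ m χ := Nat.one_le_iff_ne_zero.2 h0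
    nlinarith
  -- the remaining three terms
  have hnd := B.nodup
  simp only [List.nodup_cons, List.mem_cons, List.not_mem_nil, or_false, not_or, List.nodup_nil,
    and_true] at hnd
  obtain ⟨⟨-, -, h1θ, h1θ'⟩, -, -, hθθ', -⟩ := hnd
  have hsum3 : ∑ χ : IrrCharacter G, m χ * charDegree (χ : G → ℂ) =
      m (principalChar G) * 1 + m B.θ * 4 + m B.θ' * 4 := by
    have hsub : ∑ χ ∈ ({principalChar G, B.θ, B.θ'} : Finset (IrrCharacter G)),
        m χ * charDegree (χ : G → ℂ) = ∑ χ : IrrCharacter G, m χ * charDegree (χ : G → ℂ) := by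
      apply Finset.sum_subset (Finset.subset_univ _)
      intro χ _ hχ
      have : χ ∉ [principalChar G, B.θ, B.θ'] := by
        simp only [Finset.mem_insert, Finset.mem_singleton, not_or] at hχ
        simp only [List.mem_cons, List.not_mem_nil, or_false, not_or]
        exact hχ
      rw [hbig χ this, zero_mul]
    rw [← hsub, Finset.sum_insert (by simp [h1θ, h1θ']), Finset.sum_insert (by simp [hθθ']),
      Finset.sum_singleton, B.degθ, B.degθ']
    have : charDegree ((principalChar G : IrrCharacter G) : G → ℂ) = 1 := by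
      have h := irr_one_eq_charDegree (principalChar G : IrrCharacter G).2
      have h1 : ((principalChar G : IrrCharacter G) : G → ℂ) 1 = 1 := rfl
      rw [h1] at h
      exact (Nat.cast_injective (R := ℂ) (by push_cast; exact h)).symm
    rw [this]; ring
  -- the multiplicity of the principal character
  obtain ⟨s, hs⟩ := sym2_inner_nat hθch (principalChar G).2
  have hm1 := S7B.mult_one_le hθirr (hm (principalChar G)) hs
  rw [hsum3] at hsum
  omega

end Cfsg.Agent.Helper28.A7U
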