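import Mathlib
import Cfsg.Prelude.Def_Blocks
import Cfsg.Agent.Lib.Helper24.CharLinear
import Cfsg.Agent.Lib.Helper24.CharComplete
import Cfsg.Agent.Lib.Helper28.A7Defs
import Cfsg.Agent.Lib.Helper27.M11S7
import Cfsg.Agent.Lib.Helper27.M11S8

/-!
# S0984 piece S8 (helper6 for helper28): `exists_ct7`, the complete list of characters in case (I)
(port of helper27's `Helper17.M11.exists_ct`)
-/

set_option autoImplicit false
set_option linter.unusedSectionVars false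
set_option linter.unusedVariables false
set_option linter.style.haveILetI false

namespace Cfsg.Agent.Helper28.A7U

open scoped ComplexConjugate
open Cfsg Cfsg.Agent.Helper24 Cfsg.Agent.Helper17.M11

universe u

variable {G : Type u} [Group G] [Fintype G]

namespace S8

theorem deg_cases {a : ℕ} {s : ℤ} (ha : 0 < a) (ha6 : a ≤ 6) (hs : s = 1 ∨ s = -1)
    (h5 : ((7 * a : ℕ) : ℤ) ≡ s [ZMOD 5]) : (a = 3 ∧ s = 1) ∨ (a = 2 ∧ s = -1) := by
  rw [Int.modEq_iff_dvd] at h5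
  push_cast at h5
  rcases hs with rfl | rfl <;> interval_cases a <;> omega

theorem arith {a b c : ℕ} {sa sb sc : ℤ} (ha : 0 < a) (hb : 0 < b) (hc : 0 < c)
    (hsa : sa = 1 ∨ sa = -1) (hsb : sb = 1 ∨ sb = -1) (hsc : sc = 1 ∨ sc = -1)
    (h5a : ((7 * a : ℕ) : ℤ) ≡ sa [ZMOD 5]) (h5b : ((7 * b : ℕ) : ℤ) ≡ sb [ZMOD 5])
    (h5c : ((7 * c : ℕ) : ℤ) ≡ sc [ZMOD 5])
    (hrel : (1 : ℤ) + 6 + sa * ((7 * a : ℕ) : ℤ) + sb * ((7 * b : ℕ) : ℤ)
      + sc * ((7 * c : ℕ) : ℤ) = 0)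
    (hsq : a ^ 2 + b ^ 2 + c ^ 2 ≤ 42) :
    (a = 2 ∧ b = 2 ∧ c = 3) ∨ (a = 2 ∧ b = 3 ∧ c = 2) ∨ (a = 3 ∧ b = 2 ∧ c = 2) := by
  have ha6 : a ≤ 6 := by nlinarith
  have hb6 : b ≤ 6 := by nlinarith
  have hc6 : c ≤ 6 := by nlinarith
  push_cast at hrel
  rcases deg_cases ha ha6 hsa h5a with ⟨rfl, rfl⟩ | ⟨rfl, rfl⟩ <;>
  rcases deg_cases hb hb6 hsb h5b with ⟨rfl, rfl⟩ | ⟨rfl, rfl⟩ <;>
  rcases deg_cases hc hc6 hsc h5c with ⟨rfl, rfl⟩ | ⟨rfl, rfl⟩ <;> omega

theorem dvd7 {P : Subgroup G} (hP : Nat.card P = 7) (B : B7I P) (χ : IrrCharacter G)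
    (h : χ ∉ [principalChar G, B.χ1, B.χ2, B.θ, B.θ']) :
    7 ∣ charDegree (χ : G → ℂ) := by
  obtain ⟨m, hm⟩ := Cfsg.Agent.Helper16.ITO.dvd_degree_of_vanish 7 P hP
    (isCharacter_of_isIrrCharacter χ.2) (B.rest χ h)
  rw [irr_one_eq_charDegree χ.2] at hm
  have : charDegree (χ : G → ℂ) = 7 * m := by exact_mod_cast hm
  exact ⟨m, this⟩

/-- the sum of the squares of the degrees over the eight known characters. -/
theorem sum_eight {P : Subgroup G} (B : B7I P) (α α' β : IrrCharacter G)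
    (hnd : [principalChar G, B.χ1, B.χ2, B.θ, B.θ', α, α', β].Nodup) :
    ∑ χ ∈ [principalChar G, B.χ1, B.χ2, B.θ, B.θ', α, α', β].toFinset,
      charDegree (χ : G → ℂ) ^ 2 =
      462 + charDegree (α : G → ℂ) ^ 2 + charDegree (α' : G → ℂ) ^ 2
        + charDegree (β : G → ℂ) ^ 2 := by
  classical
  have hd1 : charDegree ((principalChar G : IrrCharacter G) : G → ℂ) = 1 :=
    charDegree_natCast 1 (by simp [principalChar])
  rw [List.sum_toFinset _ hnd]
  simp only [List.map_cons, List.map_nil, List.sum_cons, List.sum_nil, hd1, B.deg1, B.deg2,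
    B.degθ, B.degθ']
  ring

/-- appending three new distinct elements to a duplicate-free list. -/
theorem nodup_append_three {ι : Type*} {L : List ι} (hL : L.Nodup) {a b c : ι} (ha : a ∉ L)
    (hb : b ∉ L) (hc : c ∉ L) (hab : a ≠ b) (hac : a ≠ c) (hbc : b ≠ c) :
    (L ++ [a, b, c]).Nodup := by
  refine List.Nodup.append hL (by simp [hab, hac, hbc]) ?_
  intro x hx hx'
  simp only [List.mem_cons, List.mem_nil_iff, or_false] at hx'
  rcases hx' with rfl | rfl | rfl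
  · exact ha hx
  · exact hb hx
  · exact hc hx

theorem finish (hG : Nat.card G = 2520) {P : Subgroup G} (hP : Nat.card P = 7) (B : B7I P)
    (Q : Subgroup G) (hQ : Nat.card Q = 5) (Z : Finset (IrrCharacter G)) (hZcard : Z.card = 5)
    (σ : IrrCharacter G → ℤ)
    (hZ : ∀ χ ∈ Z, (σ χ = 1 ∨ σ χ = -1) ∧
        (∀ a : G, a ∈ Q → a ≠ 1 → (χ : G → ℂ) a = (σ χ : ℂ)) ∧
        ((charDegree (χ : G → ℂ) : ℤ) ≡ σ χ [ZMOD 5]))
    (hvan : ∀ χ : IrrCharacter G, χ ∉ Z → ∀ a : G, a ∈ Q → a ≠ 1 → (χ : G → ℂ) a = 0)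
    (hrel : ∀ g : G, ¬ 5 ∣ orderOf g → ∑ χ ∈ Z, (σ χ : ℂ) * (χ : G → ℂ) g = 0)
    (h1Z : principalChar G ∈ Z) (h2Z : B.χ2 ∈ Z)
    (α α' β : IrrCharacter G) (hαZ : α ∈ Z) (hα'Z : α' ∈ Z) (hβZ : β ∈ Z)
    (hαL : α ∉ [principalChar G, B.χ1, B.χ2, B.θ, B.θ'])
    (hα'L : α' ∉ [principalChar G, B.χ1, B.χ2, B.θ, B.θ'])
    (hβL : β ∉ [principalChar G, B.χ1, B.χ2, B.θ, B.θ'])
    (hαα' : α ≠ α') (hαβ : α ≠ β) (hα'β : α' ≠ β)
    (hdα : charDegree (α : G → ℂ) = 14) (hdα' : charDegree (α' : G → ℂ) = 14)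
    (hdβ : charDegree (β : G → ℂ) = 21) :
    Nonempty (CT7 P Q) := by
  classical
  let _ : Fintype (IrrCharacter G) := irrFintype
  have hd1 : charDegree ((principalChar G : IrrCharacter G) : G → ℂ) = 1 :=
    charDegree_natCast 1 (by simp [principalChar])
  have hnd : [principalChar G, B.χ1, B.χ2, B.θ, B.θ', α, α', β].Nodup := by
    have : [principalChar G, B.χ1, B.χ2, B.θ, B.θ', α, α', β] =
        [principalChar G, B.χ1, B.χ2, B.θ, B.θ'] ++ [α, α', β] := rfl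
    rw [this]
    exact nodup_append_three B.nodup hαL hα'L hβL hαα' hαβ hα'β
  -- the five-list
  have hnd5 : [principalChar G, B.χ2, α, α', β].Nodup :=
    hnd.sublist (List.Sublist.cons_cons _ (List.Sublist.cons _ (List.Sublist.cons_cons _
      (List.Sublist.cons _ (List.Sublist.cons _ (List.Sublist.refl _))))))
  have hZeq : Z = {principalChar G, B.χ2, α, α', β} := by
    have hsub : [principalChar G, B.χ2, α, α', β].toFinset ⊆ Z := by
      intro χ hχ
      rw [List.mem_toFinset] at hχ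
      simp only [List.mem_cons, List.mem_nil_iff, or_false] at hχ
      rcases hχ with rfl | rfl | rfl | rfl | rfl <;> assumption
    have hcard5 : [principalChar G, B.χ2, α, α', β].toFinset.card = 5 := by
      rw [List.toFinset_card_of_nodup hnd5]; rfl
    have := Finset.eq_of_subset_of_card_le hsub (by rw [hZcard, hcard5])
    rw [← this]
    simp
  have hnotZ : ∀ χ ∈ Z, ¬ 5 ∣ charDegree (χ : G → ℂ) :=
    fun χ h => S7.not_dvd_of_modEq (hZ χ h).1 (hZ χ h).2.2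
  -- signs
  have hs1 : σ (principalChar G) = 1 :=
    Cfsg.Agent.Helper17.M11.S8.sign_pos (hZ _ h1Z).1 (hZ _ h1Z).2.2 (by rw [hd1])
  have hs2 : σ B.χ2 = 1 :=
    Cfsg.Agent.Helper17.M11.S8.sign_pos (hZ _ h2Z).1 (hZ _ h2Z).2.2 (by rw [B.deg2])
  have hsα : σ α = -1 :=
    Cfsg.Agent.Helper17.M11.S8.sign_neg (hZ _ hαZ).1 (hZ _ hαZ).2.2 (by rw [hdα])
  have hsα' : σ α' = -1 :=
    Cfsg.Agent.Helper17.M11.S8.sign_neg (hZ _ hα'Z).1 (hZ _ hα'Z).2.2 (by rw [hdα'])
  have hsβ : σ β = 1 :=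
    Cfsg.Agent.Helper17.M11.S8.sign_pos (hZ _ hβZ).1 (hZ _ hβZ).2.2 (by rw [hdβ])
  -- the relation
  have hrel5 : ∀ g : G, ¬ 5 ∣ orderOf g →
      1 + (B.χ2 : G → ℂ) g - (α : G → ℂ) g - (α' : G → ℂ) g + (β : G → ℂ) g = 0 := by
    intro g hg
    have h := hrel g hg
    rw [hZeq, Cfsg.Agent.Helper17.M11.S8.sum_five _ hnd5, hs1, hs2, hsα, hsα', hsβ] at h
    have hp : ((principalChar G : IrrCharacter G) : G → ℂ) g = 1 := rfl
    rw [hp] at h
    push_cast at h
    linear_combination h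
  -- sum of squares
  have hsum := sum_charDegree_sq (G := G)
  rw [hG] at hsum
  set S9 : Finset (IrrCharacter G) :=
    [principalChar G, B.χ1, B.χ2, B.θ, B.θ', α, α', β].toFinset with hS9
  have h9 := sum_eight B α α' β hnd
  rw [hdα, hdα', hdβ] at h9
  have hsplit := Finset.sum_add_sum_compl S9 (fun χ : IrrCharacter G => charDegree (χ : G → ℂ) ^ 2)
  rw [hsum, h9] at hsplit
  have hR : ∑ χ ∈ S9ᶜ, charDegree (χ : G → ℂ) ^ 2 = 1225 := by omega
  -- members of the complement have degree divisible by 35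
  have hmem9 : ∀ χ : IrrCharacter G, χ ∈ S9 ↔
      χ ∈ [principalChar G, B.χ1, B.χ2, B.θ, B.θ', α, α', β] := fun χ => List.mem_toFinset
  have h35 : ∀ χ ∈ S9ᶜ, 35 ∣ charDegree (χ : G → ℂ) := by
    intro χ hχ
    have hχ9 : χ ∉ [principalChar G, B.χ1, B.χ2, B.θ, B.θ', α, α', β] := by
      rw [← hmem9]; exact Finset.mem_compl.1 hχ
    have h7 : 7 ∣ charDegree (χ : G → ℂ) := by
      apply dvd7 hP B χ
      intro h
      apply hχ9
      show χ ∈ [principalChar G, B.χ1, B.χ2, B.θ, B.θ'] ++ [α, α', β]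
      exact List.mem_append_left _ h
    have h5 : 5 ∣ charDegree (χ : G → ℂ) := by
      apply S7.dvd_of_vanish Q hQ χ
      apply hvan
      intro h
      apply hχ9
      rw [hZeq] at h
      simp only [Finset.mem_insert, Finset.mem_singleton] at h
      rcases h with rfl | rfl | rfl | rfl | rfl <;> simp
    exact Nat.Coprime.mul_dvd_of_dvd_of_dvd (by norm_num : Nat.Coprime 5 7) h5 h7
  have hge : ∀ χ ∈ S9ᶜ, 1225 ≤ charDegree (χ : G → ℂ) ^ 2 := by
    intro χ hχ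
    have hpos := charDegree_pos χ.2
    have := Nat.le_of_dvd hpos (h35 χ hχ)
    nlinarith
  have hcard := Finset.card_nsmul_le_sum S9ᶜ _ 1225 hge
  rw [hR, smul_eq_mul] at hcard
  have hcard1 : S9ᶜ.card = 1 := by
    have h0 : S9ᶜ.card ≠ 0 := by
      intro h0
      rw [Finset.card_eq_zero] at h0
      rw [h0, Finset.sum_empty] at hR
      omega
    omega
  obtain ⟨γ, hγ⟩ := Finset.card_eq_one.1 hcard1
  have hγmem : γ ∈ S9ᶜ := by rw [hγ]; exact Finset.mem_singleton_self _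
  have hdγ : charDegree (γ : G → ℂ) = 35 := by
    rw [hγ, Finset.sum_singleton] at hR
    exact Nat.pow_left_injective (by norm_num : 2 ≠ 0) (by simpa using hR)
  have hγ9 : γ ∉ [principalChar G, B.χ1, B.χ2, B.θ, B.θ', α, α', β] := by
    rw [← hmem9]; exact Finset.mem_compl.1 hγmem
  -- vanishing on `Q`
  have hvan' : ∀ χ : IrrCharacter G, 5 ∣ charDegree (χ : G → ℂ) →
      ∀ a : G, a ∈ Q → a ≠ 1 → (χ : G → ℂ) a = 0 :=
    fun χ h => hvan χ (fun hZ' => hnotZ χ hZ' h)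
  refine ⟨{ b := B, α := α, α' := α', β := β, γ := γ, nodup := ?_, all := ?_, degα := hdα,
            degα' := hdα', degβ := hdβ, degγ := hdγ, val6 := ?_, valα := ?_, valα' := ?_,
            valβ := ?_, val0 := ?_, rel5 := hrel5 }⟩
  · have : [principalChar G, B.χ1, B.χ2, B.θ, B.θ', α, α', β, γ] =
        [principalChar G, B.χ1, B.χ2, B.θ, B.θ', α, α', β] ++ [γ] := rfl
    rw [this]
    refine List.Nodup.append hnd (List.nodup_singleton γ) ?_
    intro x hx hx'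
    rw [List.mem_singleton] at hx'
    rw [hx'] at hx
    exact hγ9 hx
  · intro χ
    by_cases h : χ ∈ S9
    · have := (hmem9 χ).1 h
      show χ ∈ [principalChar G, B.χ1, B.χ2, B.θ, B.θ', α, α', β] ++ [γ]
      exact List.mem_append_left _ this
    · have : χ ∈ S9ᶜ := Finset.mem_compl.2 h
      rw [hγ, Finset.mem_singleton] at this
      rw [this]
      simp
  · intro a ha ha1
    have := (hZ _ h2Z).2.1 a ha ha1
    rw [this, hs2]; simp
  · intro a ha ha1
    have := (hZ _ hαZ).2.1 a ha ha1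
    rw [this, hsα]; simp
  · intro a ha ha1
    have := (hZ _ hα'Z).2.1 a ha ha1
    rw [this, hsα']; simp
  · intro a ha ha1
    have := (hZ _ hβZ).2.1 a ha ha1
    rw [this, hsβ]; simp
  · intro χ hχ
    simp only [List.mem_cons, List.mem_nil_iff, or_false] at hχ
    rcases hχ with rfl | rfl | rfl | rfl
    · exact hvan' _ (by rw [B.deg1]; norm_num)
    · exact hvan' _ (by rw [B.degθ]; norm_num)
    · exact hvan' _ (by rw [B.degθ']; norm_num)
    · exact hvan' _ (by rw [hdγ]; norm_num)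

end S8

/-- PIECE S8: in case (I) the character table data is complete. -/
theorem exists_ct7 (hG : Nat.card G = 2520) (P : Sylow 7 G) (hP : Nat.card (P : Subgroup G) = 7)
    (B : B7I (P : Subgroup G))
    (Q : Sylow 5 G) (hQ : Nat.card (Q : Subgroup G) = 5)
    (hCQ : Subgroup.centralizer ((Q : Subgroup G) : Set G) = (Q : Subgroup G))
    (hwQ : (Subgroup.centralizer ((Q : Subgroup G) : Set G)).relIndex
      (Subgroup.normalizer ((Q : Subgroup G) : Set G)) = 4) :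
    Nonempty (CT7 (P : Subgroup G) (Q : Subgroup G)) := by
  classical
  let _ : Fintype (IrrCharacter G) := irrFintype
  obtain ⟨Z, σ, hZcard, hZ, hvan, hrel⟩ := S7.five_interface Q hQ hCQ hwQ
  have hd1 : charDegree ((principalChar G : IrrCharacter G) : G → ℂ) = 1 :=
    charDegree_natCast 1 (by simp [principalChar])
  have hmemZ : ∀ χ : IrrCharacter G, ¬ 5 ∣ charDegree (χ : G → ℂ) → χ ∈ Z := by
    intro χ h
    by_contra hc
    exact h (S7.dvd_of_vanish _ hQ χ (hvan χ hc))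
  have hnotZ : ∀ χ ∈ Z, ¬ 5 ∣ charDegree (χ : G → ℂ) :=
    fun χ h => S7.not_dvd_of_modEq (hZ χ h).1 (hZ χ h).2.2
  have h1Z : principalChar G ∈ Z := hmemZ _ (by rw [hd1]; norm_num)
  have h2Z : B.χ2 ∈ Z := hmemZ _ (by rw [B.deg2]; norm_num)
  have hχ1Z : B.χ1 ∉ Z := fun h => hnotZ _ h (by rw [B.deg1]; norm_num)
  have hθZ : B.θ ∉ Z := fun h => hnotZ _ h (by rw [B.degθ]; norm_num)
  have hθ'Z : B.θ' ∉ Z := fun h => hnotZ _ h (by rw [B.degθ']; norm_num)
  -- distinctness of `1, χ2`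
  have hnd2 : [principalChar G, B.χ2].Nodup :=
    B.nodup.sublist (List.Sublist.cons_cons _ (List.Sublist.cons _ (List.Sublist.cons_cons _
      (List.Sublist.cons _ (List.Sublist.cons _ (List.Sublist.refl _))))))
  have h12 : principalChar G ≠ B.χ2 := by
    intro h; rw [h] at hnd2; simp at hnd2
  -- the three remaining members of `Z`
  have hc1 : (Z.erase (principalChar G)).card = 4 := by
    rw [Finset.card_erase_of_mem h1Z, hZcard]
  have h21 : B.χ2 ∈ Z.erase (principalChar G) := Finset.mem_erase.2 ⟨fun h => h12 h.symm, h2Z⟩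
  have hc2 : ((Z.erase (principalChar G)).erase B.χ2).card = 3 := by
    rw [Finset.card_erase_of_mem h21, hc1]
  obtain ⟨x, y, z, hxy, hxz, hyz, hZ'⟩ := Finset.card_eq_three.1 hc2
  have hmemZ' : ∀ χ : IrrCharacter G,
      χ ∈ (Z.erase (principalChar G)).erase B.χ2 ↔
        χ ≠ B.χ2 ∧ χ ≠ principalChar G ∧ χ ∈ Z := by
    intro χ
    simp only [Finset.mem_erase]
  have hx' := (hmemZ' x).1 (by rw [hZ']; simp)
  have hy' := (hmemZ' y).1 (by rw [hZ']; simp)
  have hz' := (hmemZ' z).1 (by rw [hZ']; simp)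
  -- members of `Z` other than `1, χ2` are not in the list of `B`
  have hnotL : ∀ χ : IrrCharacter G, χ ≠ B.χ2 ∧ χ ≠ principalChar G ∧ χ ∈ Z →
      χ ∉ [principalChar G, B.χ1, B.χ2, B.θ, B.θ'] := by
    intro χ hχ h
    simp only [List.mem_cons, List.mem_nil_iff, or_false] at h
    rcases h with h | h | h | h | h
    · exact hχ.2.1 h
    · exact hχ1Z (h ▸ hχ.2.2)
    · exact hχ.1 h
    · exact hθZ (h ▸ hχ.2.2)
    · exact hθ'Z (h ▸ hχ.2.2)
  have hxL := hnotL x hx'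
  have hyL := hnotL y hy'
  have hzL := hnotL z hz'
  -- degrees `7 a`, `7 b`, `7 c`
  obtain ⟨a, ha⟩ := S8.dvd7 hP B x hxL
  obtain ⟨b, hb⟩ := S8.dvd7 hP B y hyL
  obtain ⟨c, hc⟩ := S8.dvd7 hP B z hzL
  have hapos : 0 < a := by
    have := charDegree_pos x.2
    rw [ha] at this
    omega
  have hbpos : 0 < b := by
    have := charDegree_pos y.2
    rw [hb] at this
    omega
  have hcpos : 0 < c := by
    have := charDegree_pos z.2
    rw [hc] at this
    omega
  have h5a := (hZ x hx'.2.2).2.2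
  have h5b := (hZ y hy'.2.2).2.2
  have h5c := (hZ z hz'.2.2).2.2
  rw [ha] at h5a
  rw [hb] at h5b
  rw [hc] at h5c
  -- signs of `1, χ2`
  have hs1 : σ (principalChar G) = 1 :=
    Cfsg.Agent.Helper17.M11.S8.sign_pos (hZ _ h1Z).1 (hZ _ h1Z).2.2 (by rw [hd1])
  have hs2 : σ B.χ2 = 1 :=
    Cfsg.Agent.Helper17.M11.S8.sign_pos (hZ _ h2Z).1 (hZ _ h2Z).2.2 (by rw [B.deg2])
  -- `Z = {1, χ2, x, y, z}`
  have hnd8 : [principalChar G, B.χ1, B.χ2, B.θ, B.θ', x, y, z].Nodup := by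
    have : [principalChar G, B.χ1, B.χ2, B.θ, B.θ', x, y, z] =
        [principalChar G, B.χ1, B.χ2, B.θ, B.θ'] ++ [x, y, z] := rfl
    rw [this]
    exact S8.nodup_append_three B.nodup hxL hyL hzL hxy hxz hyz
  have hnd5 : [principalChar G, B.χ2, x, y, z].Nodup :=
    hnd8.sublist (List.Sublist.cons_cons _ (List.Sublist.cons _ (List.Sublist.cons_cons _
      (List.Sublist.cons _ (List.Sublist.cons _ (List.Sublist.refl _))))))
  have hZeq : Z = {principalChar G, B.χ2, x, y, z} := by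
    ext χ
    simp only [Finset.mem_insert, Finset.mem_singleton]
    constructor
    · intro h
      by_cases h1 : χ = principalChar G
      · exact Or.inl h1
      by_cases h2 : χ = B.χ2
      · exact Or.inr (Or.inl h2)
      have := (hmemZ' χ).2 ⟨h2, h1, h⟩
      rw [hZ'] at this
      simp only [Finset.mem_insert, Finset.mem_singleton] at this
      exact Or.inr (Or.inr this)
    · rintro (rfl | rfl | rfl | rfl | rfl)
      · exact h1Z
      · exact h2Z
      · exact hx'.2.2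
      · exact hy'.2.2
      · exact hz'.2.2
  -- the relation at `1`
  have hrel1 : (1 : ℤ) + 6 + σ x * ((7 * a : ℕ) : ℤ) + σ y * ((7 * b : ℕ) : ℤ)
      + σ z * ((7 * c : ℕ) : ℤ) = 0 := by
    have h := hrel 1 (by rw [orderOf_one]; norm_num)
    rw [hZeq, Cfsg.Agent.Helper17.M11.S8.sum_five _ hnd5, hs1, hs2, irr_one_eq_charDegree B.χ2.2,
      irr_one_eq_charDegree x.2, irr_one_eq_charDegree y.2, irr_one_eq_charDegree z.2,
      B.deg2, ha, hb, hc] at h
    have hp : ((principalChar G : IrrCharacter G) : G → ℂ) 1 = 1 := rfl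
    rw [hp] at h
    have h' : (((1 : ℤ) + 6 + σ x * ((7 * a : ℕ) : ℤ) + σ y * ((7 * b : ℕ) : ℤ)
        + σ z * ((7 * c : ℕ) : ℤ) : ℤ) : ℂ) = 0 := by
      push_cast at h ⊢
      linear_combination h
    exact_mod_cast h'
  -- sum of squares
  have hsq : a ^ 2 + b ^ 2 + c ^ 2 ≤ 42 := by
    have hsum := sum_charDegree_sq (G := G)
    rw [hG] at hsum
    have h9 := S8.sum_eight B x y z hnd8
    rw [ha, hb, hc] at h9
    have hle : ∑ χ ∈ [principalChar G, B.χ1, B.χ2, B.θ, B.θ', x, y, z].toFinset,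
        charDegree (χ : G → ℂ) ^ 2 ≤ ∑ χ : IrrCharacter G, charDegree (χ : G → ℂ) ^ 2 :=
      Finset.sum_le_sum_of_subset (Finset.subset_univ _)
    rw [hsum, h9] at hle
    nlinarith
  rcases S8.arith hapos hbpos hcpos (hZ x hx'.2.2).1 (hZ y hy'.2.2).1 (hZ z hz'.2.2).1
      h5a h5b h5c hrel1 hsq with ⟨ha2, hb2, hc3⟩ | ⟨ha2, hb3, hc2⟩ | ⟨ha3, hb2, hc2⟩
  · exact S8.finish hG hP B (Q : Subgroup G) hQ Z hZcard σ hZ hvan hrel h1Z h2Z x y z
      hx'.2.2 hy'.2.2 hz'.2.2 hxL hyL hzL hxy hxz hyz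
      (by rw [ha, ha2]) (by rw [hb, hb2]) (by rw [hc, hc3])
  · exact S8.finish hG hP B (Q : Subgroup G) hQ Z hZcard σ hZ hvan hrel h1Z h2Z x z y
      hx'.2.2 hz'.2.2 hy'.2.2 hxL hzL hyL hxz hxy hyz.symm
      (by rw [ha, ha2]) (by rw [hc, hc2]) (by rw [hb, hb3])
  · exact S8.finish hG hP B (Q : Subgroup G) hQ Z hZcard σ hZ hvan hrel h1Z h2Z y z x
      hy'.2.2 hz'.2.2 hx'.2.2 hyL hzL hxL hyz hxy.symm hxz.symm
      (by rw [hb, hb2]) (by rw [hc, hc2]) (by rw [ha, ha3])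

end Cfsg.Agent.Helper28.A7U
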