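import Mathlib
import Cfsg.Agent.Lib.Helper28.A7Defs
import Cfsg.Agent.Lib.Helper28.A7US1
import Cfsg.Agent.Lib.Helper28.A7US2
import Cfsg.Agent.Lib.Helper28.A7US2B
import Cfsg.Agent.Lib.Helper28.A7US5
import Cfsg.Agent.Lib.Helper28.A7US6
import Cfsg.Agent.Lib.Helper28.A7US7A
import Cfsg.Agent.Lib.Helper28.A7US7B
import Cfsg.Agent.Lib.Helper28.A7US8

/-!
# S0984: assembly of Part I (helper28): the Sylow 5-subgroups and the character table data
-/

set_option autoImplicit false
set_option linter.unusedSectionVars false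
set_option linter.unusedVariables false

namespace Cfsg.Agent.Helper28.A7U

open scoped ComplexConjugate
open Cfsg Cfsg.Agent.Helper24

universe u

variable {G : Type u} [Group G] [Fintype G]

/-- ASSEMBLY of Part I, first half (helper28): the Sylow `5`-subgroups, by the character route (pieces S2, S2B, S3, S4, N134, S5, S6).
[ALTERNATIVE: helper18's elementary `SYL5` piece.] -/
theorem syl5_main (hs : IsSimpleGroup G) (hG : Nat.card G = 2520) (Q : Sylow 5 G) :
    Nat.card (Q : Subgroup G) = 5 ∧
    Subgroup.centralizer ((Q : Subgroup G) : Set G) = (Q : Subgroup G) ∧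
    (Subgroup.centralizer ((Q : Subgroup G) : Set G)).relIndex
      (Subgroup.normalizer ((Q : Subgroup G) : Set G)) = 4 := by
  have P : Sylow 7 G := default
  have h7 := fun P : Sylow 7 G => syl7 hs hG P
  obtain ⟨hP, hC, hw⟩ := h7 P
  have hB := exists_b7 hs hG P hP hC hw
  have hB' : Nonempty (B7I (P : Subgroup G)) ∨ Nonempty (B7III (P : Subgroup G)) ∨
      Nonempty (B7IV (P : Subgroup G)) := by
    rcases hB with h | h | h | h
    · exact Or.inl h
    · exact (not_b7II hs hG _ h.some).elim
    · exact Or.inr (Or.inl h)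
    · exact Or.inr (Or.inr h)
  have hinv : ∀ t u : G, orderOf t = 2 → orderOf u = 5 → ¬ Commute t u :=
    fun t u ht hu => not_commute_invol_five hs hG P hP hC hw hB' ht hu
  exact syl5 hs hG hinv (fun P => (h7 P).2.1) Q

/-- ASSEMBLY of Part I, second half (helper28): the character table data, given the Sylow `5`-subgroups. -/
theorem main_ct7 (hs : IsSimpleGroup G) (hG : Nat.card G = 2520)
    (h5 : ∀ Q : Sylow 5 G, Nat.card (Q : Subgroup G) = 5 ∧
      Subgroup.centralizer ((Q : Subgroup G) : Set G) = (Q : Subgroup G) ∧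
      (Subgroup.centralizer ((Q : Subgroup G) : Set G)).relIndex
        (Subgroup.normalizer ((Q : Subgroup G) : Set G)) = 4)
    (P : Sylow 7 G) (Q : Sylow 5 G) :
    Nonempty (CT7 (P : Subgroup G) (Q : Subgroup G)) := by
  obtain ⟨hP, hC, hw⟩ := syl7 hs hG P
  obtain ⟨hQ, hCQ, hwQ⟩ := h5 Q
  rcases exists_b7 hs hG P hP hC hw with h | h | h | h
  · exact exists_ct7 hG P hP h.some Q hQ hCQ hwQ
  · exact (not_b7II hs hG _ h.some).elim
  · exact (not_b7III _ h.some Q hQ hCQ hwQ).elim
  · exact (not_b7IV hG P hP h.some).elim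

end Cfsg.Agent.Helper28.A7U
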