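import Mathlib
import Cfsg.Prelude.Def_Blocks
import Cfsg.Agent.Lib.Helper24.CharLinear
import Cfsg.Agent.Lib.Helper24.CharComplete
import Cfsg.Agent.Lib.Helper16.ITODefs
import Cfsg.Agent.Lib.Helper28.A7Defs

/-! # S0984, piece F0: the sum of a function over a subgroup with element orders `1, 2, 3, 5`
(helper18) -/

set_option autoImplicit false
set_option linter.unusedSectionVars false
set_option linter.unusedVariables false

namespace Cfsg.Agent.Helper28.A7U

open scoped ComplexConjugate
open Cfsg Cfsg.Agent.Helper24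

universe u

variable {G : Type u} [Group G] [Fintype G]

/-- PIECE F0 (pure combinatorics): the sum of a function over a subgroup all of whose elements have order `1, 2, 3, 5`, the function being
constant on the elements of each order. -/
theorem sum_by_orders (H : Subgroup G) (χ : G → ℂ)
    (hord : ∀ h ∈ H, orderOf h = 1 ∨ orderOf h = 2 ∨ orderOf h = 3 ∨ orderOf h = 5)
    {n2 n3 n5 : ℕ}
    (h2 : Nat.card {h : G // h ∈ H ∧ orderOf h = 2} = n2)
    (h3 : Nat.card {h : G // h ∈ H ∧ orderOf h = 3} = n3)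
    (h5 : Nat.card {h : G // h ∈ H ∧ orderOf h = 5} = n5)
    {v1 v2 v3 v5 : ℂ} (hv1 : χ 1 = v1) (hv2 : ∀ h ∈ H, orderOf h = 2 → χ h = v2)
    (hv3 : ∀ h ∈ H, orderOf h = 3 → χ h = v3) (hv5 : ∀ h ∈ H, orderOf h = 5 → χ h = v5) :
    ∑ᶠ h ∈ (H : Set G), χ h = v1 + n2 * v2 + n3 * v3 + n5 * v5 := by
  classical
  rw [finsum_mem_eq_finite_toFinset_sum _ (Set.toFinite _)]
  set S : Finset G := (Set.toFinite (H : Set G)).toFinset with hS
  have hmem : ∀ x, x ∈ S ↔ x ∈ H := by
    intro x; simp [hS]
  have hmaps : ∀ x ∈ S, orderOf x ∈ ({1, 2, 3, 5} : Finset ℕ) := by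
    intro x hx
    rcases hord x ((hmem x).1 hx) with h | h | h | h <;> simp [h]
  rw [← Finset.sum_fiberwise_of_maps_to hmaps]
  rw [Finset.sum_insert (by decide), Finset.sum_insert (by decide), Finset.sum_insert (by decide),
    Finset.sum_singleton]
  have key : ∀ (k n : ℕ) (v : ℂ), Nat.card {h : G // h ∈ H ∧ orderOf h = k} = n →
      (∀ h ∈ H, orderOf h = k → χ h = v) →
      ∑ x ∈ S with orderOf x = k, χ x = n * v := by
    intro k n v hn hv
    rw [Finset.sum_congr rfl (fun x hx =>
      hv x ((hmem x).1 (Finset.mem_filter.1 hx).1) (Finset.mem_filter.1 hx).2)]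
    rw [Finset.sum_const, nsmul_eq_mul]
    congr 2
    rw [← hn, Nat.card_eq_fintype_card, Fintype.card_subtype]
    congr 1
    ext x
    simp [hmem]
  have h1 : ∑ x ∈ S with orderOf x = 1, χ x = v1 := by
    have : S.filter (fun x => orderOf x = 1) = {1} := by
      ext x
      simp only [Finset.mem_filter, hmem, orderOf_eq_one_iff, Finset.mem_singleton]
      constructor
      · exact fun h => h.2
      · rintro rfl; exact ⟨H.one_mem, rfl⟩
    rw [this, Finset.sum_singleton, hv1]
  rw [h1, key 2 n2 v2 h2 hv2, key 3 n3 v3 h3 hv3, key 5 n5 v5 h5 hv5]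
  ring

end Cfsg.Agent.Helper28.A7U
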