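import Mathlib
import Cfsg.Prelude.Def_Blocks
import Cfsg.Agent.Lib.Helper24.CharLinear
import Cfsg.Agent.Lib.Helper24.CharComplete
import Cfsg.Agent.Lib.Helper16.ITODefs
import Cfsg.Agent.Lib.Helper28.A7Defs

/-! # S0984, piece F1: a proper subgroup containing an `A5`-sized subgroup and a subgroup of order `9`
has index `7` (helper18) -/

set_option autoImplicit false
set_option linter.unusedSectionVars false
set_option linter.unusedVariables false

namespace Cfsg.Agent.Helper28.A7U

open scoped ComplexConjugate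
open Cfsg Cfsg.Agent.Helper24

universe u

variable {G : Type u} [Group G] [Fintype G]

namespace F1

theorem fact180 : (180 : ℕ).factorization 5 = 1 := by
  have h : (180 : ℕ) = 5 ^ 1 * 36 := by norm_num
  rw [h, Nat.factorization_mul (by norm_num) (by norm_num),
    Nat.Prime.factorization_pow (by norm_num), Finsupp.add_apply, Finsupp.single_eq_same,
    Nat.factorization_eq_zero_of_not_dvd (by norm_num)]

/-- the order of `N.subgroupOf K` -/
theorem card_subgroupOf (N K : Subgroup G) :
    Nat.card (N.subgroupOf K) = Nat.card (N ⊓ K : Subgroup G) := by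
  rw [← Subgroup.inf_subgroupOf_right N K]
  exact Nat.card_congr (Subgroup.subgroupOfEquivOfLe inf_le_right).toEquiv

/-- the case `|K| = 180` is impossible -/
theorem not_card_180 (K H : Subgroup G) (hHK : H ≤ K) (hH : Nat.card H = 60)
    (hK180 : Nat.card K = 180)
    (hN5 : ∀ R : Subgroup G, Nat.card R = 5 → Nat.card (Subgroup.normalizer (R : Set G)) = 20)
    (hNH : ∀ R : Subgroup G, R ≤ H → Nat.card R = 5 →
        10 ∣ Nat.card ((Subgroup.normalizer (R : Set G) ⊓ H : Subgroup G))) : False := by
  have : Fact (Nat.Prime 5) := ⟨by norm_num⟩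
  -- a subgroup of order 5 in H
  obtain ⟨R0, hR0⟩ := Sylow.exists_subgroup_card_pow_prime (G := H) 5 (n := 1)
    (by rw [hH]; norm_num)
  set R : Subgroup G := R0.map H.subtype with hRdef
  have hRH : R ≤ H := Subgroup.map_subtype_le R0
  have hRK : R ≤ K := hRH.trans hHK
  have hR5 : Nat.card R = 5 := by
    rw [hRdef, Subgroup.card_map_of_injective (Subgroup.subtype_injective H), hR0]; norm_num
  set N : Subgroup G := Subgroup.normalizer (R : Set G) with hNdef
  have hN20 : Nat.card N = 20 := hN5 R hR5
  have h10 : 10 ∣ Nat.card (N ⊓ H : Subgroup G) := hNH R hRH hR5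
  have hle1 : (N ⊓ H : Subgroup G) ≤ N ⊓ K := inf_le_inf_left N hHK
  have hd1 : Nat.card (N ⊓ H : Subgroup G) ∣ Nat.card (N ⊓ K : Subgroup G) :=
    Subgroup.card_dvd_of_le hle1
  have hd2 : Nat.card (N ⊓ K : Subgroup G) ∣ 20 := by
    rw [← hN20]; exact Subgroup.card_dvd_of_le inf_le_left
  have h10' : 10 ∣ Nat.card (N ⊓ K : Subgroup G) := h10.trans hd1
  -- the Sylow 5-subgroup of K
  have hRK5 : Nat.card (R.subgroupOf K) = 5 := by
    rw [card_subgroupOf, inf_of_le_left hRK, hR5]
  let P : Sylow 5 K := Sylow.ofCard (R.subgroupOf K) (by rw [hRK5, hK180, fact180]; norm_num)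
  have hP : (P : Subgroup K) = R.subgroupOf K := rfl
  have hn5 := Sylow.card_eq_index_normalizer P
  have hmod := card_sylow_modEq_one 5 K
  have hnorm : Subgroup.normalizer ((P : Subgroup K) : Set K) = N.subgroupOf K := by
    rw [hP, hNdef, Subgroup.subgroupOf_normalizer_eq hRK]
  replace hn5 : Nat.card (Sylow 5 K) = (N.subgroupOf K).index := by
    rw [hn5]; exact congrArg Subgroup.index hnorm
  have hci := (N.subgroupOf K).card_mul_index
  rw [card_subgroupOf, hK180, ← hn5] at hci
  -- |N ⊓ K| ∈ {10, 20}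
  have hpos : 0 < Nat.card (N ⊓ K : Subgroup G) := Nat.card_pos
  have hle : Nat.card (N ⊓ K : Subgroup G) ≤ 20 := Nat.le_of_dvd (by norm_num) hd2
  have hcases : Nat.card (N ⊓ K : Subgroup G) = 10 ∨ Nat.card (N ⊓ K : Subgroup G) = 20 := by
    generalize Nat.card (N ⊓ K : Subgroup G) = c at *
    interval_cases c <;> omega
  unfold Nat.ModEq at hmod
  rcases hcases with hc | hc
  · rw [hc] at hci
    have : Nat.card (Sylow 5 K) = 18 := by omega
    rw [this] at hmod; norm_num at hmod
  · rw [hc] at hci
    have : Nat.card (Sylow 5 K) = 9 := by omega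
    rw [this] at hmod; norm_num at hmod

end F1

/-- PIECE F1 (pure group theory): a proper subgroup `K` of the simple group `G` of order `2520` containing a subgroup `H` of order `60` and a subgroup `S` of
order `9` has index `7`, provided `|N_G(R)| = 20` for the subgroups `R` of order `5` and `10 ∣ |N_H(R)|` for `R ≤ H`. -/
theorem index_seven (hs : IsSimpleGroup G) (hG : Nat.card G = 2520) (K H S : Subgroup G)
    (hK : K ≠ ⊤) (hHK : H ≤ K) (hSK : S ≤ K) (hH : Nat.card H = 60) (hS : Nat.card S = 9)
    (hN5 : ∀ R : Subgroup G, Nat.card R = 5 → Nat.card (Subgroup.normalizer (R : Set G)) = 20)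
    (hNH : ∀ R : Subgroup G, R ≤ H → Nat.card R = 5 →
        10 ∣ Nat.card ((Subgroup.normalizer (R : Set G) ⊓ H : Subgroup G))) :
    K.index = 7 := by
  have h60 : 60 ∣ Nat.card K := hH ▸ Subgroup.card_dvd_of_le hHK
  have h9 : 9 ∣ Nat.card K := hS ▸ Subgroup.card_dvd_of_le hSK
  have h180 : 180 ∣ Nat.card K := by
    have h := Nat.lcm_dvd h60 h9
    have e : Nat.lcm 60 9 = 180 := by decide
    rwa [e] at h
  have hci := K.card_mul_index
  rw [hG] at hci
  obtain ⟨m, hm⟩ := h180
  have hmi : m * K.index = 14 := by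
    rw [hm] at hci
    have : 180 * (m * K.index) = 180 * 14 := by rw [← mul_assoc]; omega
    exact Nat.eq_of_mul_eq_mul_left (by norm_num) this
  have hidx : K.index ∣ 14 := ⟨m, by rw [← hmi, mul_comm]⟩
  have hipos : 0 < K.index := Nat.pos_of_ne_zero (by intro h0; rw [h0] at hmi; omega)
  have hile : K.index ≤ 14 := Nat.le_of_dvd (by norm_num) hidx
  have hcases : K.index = 1 ∨ K.index = 2 ∨ K.index = 7 ∨ K.index = 14 := by
    generalize K.index = i at *
    interval_cases i <;> omega
  rcases hcases with h1 | h2 | h7 | h14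
  · exact absurd (Subgroup.index_eq_one.1 h1) hK
  · exfalso
    have : K.Normal := Subgroup.normal_of_index_eq_two h2
    rcases hs.eq_bot_or_eq_top_of_normal K this with hb | ht
    · rw [hb, Subgroup.index_bot, hG] at h2; omega
    · exact hK ht
  · exact h7
  · exfalso
    have hm1 : m = 1 := by rw [h14] at hmi; omega
    have hK180 : Nat.card K = 180 := by rw [hm, hm1]
    exact F1.not_card_180 K H hHK hH hK180 hN5 hNH

end Cfsg.Agent.Helper28.A7U
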