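import Mathlib
import Cfsg.Prelude.Def_Blocks
import Cfsg.Agent.Lib.Helper24.CharLinear
import Cfsg.Agent.Lib.Helper24.CharComplete
import Cfsg.Agent.Lib.Helper28.A7Defs

/-!
# S0984, piece F3 (helper25): the elements of order `5` of a simple group of order `2520`:
`χ6 = 1` there, and the normalizer of every subgroup of order `5` has order `20`.
-/

set_option autoImplicit false
set_option linter.unusedSectionVars false
set_option linter.unusedVariables false

namespace Cfsg.Agent.Helper28.A7U

open scoped ComplexConjugate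
open Cfsg Cfsg.Agent.Helper24

universe u

variable {G : Type u} [Group G] [Fintype G]

namespace F3

open scoped Pointwise

/-- a subgroup of order `5` is a Sylow `5`-subgroup when all Sylow `5`-subgroups have order `5` -/
theorem eq_sylow_of_card {G : Type*} [Group G] [Finite G] (p : ℕ) [Fact p.Prime]
    (hS : ∀ Q : Sylow p G, Nat.card (Q : Subgroup G) = p) (R : Subgroup G) (hR : Nat.card R = p) :
    ∃ Q : Sylow p G, (Q : Subgroup G) = R := by
  have hp : IsPGroup p R := by
    apply IsPGroup.of_card (n := 1)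
    rw [hR, pow_one]
  obtain ⟨Q, hQ⟩ := hp.exists_le_sylow
  refine ⟨Q, ?_⟩
  symm
  apply Subgroup.eq_of_le_of_card_ge hQ
  rw [hS Q, hR]

/-- an element of order `p` is conjugate into any given Sylow `p`-subgroup -/
theorem exists_conj_mem {G : Type*} [Group G] [Finite G] (p : ℕ) [Fact p.Prime]
    (Q : Sylow p G) (u : G) (hu : orderOf u = p) :
    ∃ g : G, g * u * g⁻¹ ∈ (Q : Subgroup G) := by
  have hp : IsPGroup p (Subgroup.zpowers u) := by
    apply IsPGroup.of_card (n := 1)
    rw [Nat.card_zpowers, hu, pow_one]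
  obtain ⟨Q', hQ'⟩ := hp.exists_le_sylow
  obtain ⟨g, hg⟩ := MulAction.exists_smul_eq G Q' Q
  refine ⟨g, ?_⟩
  have h1 : u ∈ (Q' : Subgroup G) := hQ' (Subgroup.mem_zpowers u)
  have h2 : MulAut.conj g • u ∈ MulAut.conj g • (Q' : Subgroup G) :=
    Subgroup.smul_mem_pointwise_smul _ _ _ h1
  rw [← hg, Sylow.coe_subgroup_smul]
  exact h2

end F3

/-- PIECE F3: the elements of order `5`: `χ6 = 1` there [conjugate into `Q` by Sylow; `T.val6`; class function], and `|N_G(R)| = 20` for every subgroup `R` of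
order `5` [`R` is a Sylow `5`-subgroup: `Sylow.ofCard`; `|N| = |C| · relIndex = 5 · 4`]. -/
theorem ord5_facts (hG : Nat.card G = 2520)
    (h5 : ∀ Q : Sylow 5 G, Nat.card (Q : Subgroup G) = 5 ∧
      Subgroup.centralizer ((Q : Subgroup G) : Set G) = (Q : Subgroup G) ∧
      (Subgroup.centralizer ((Q : Subgroup G) : Set G)).relIndex
        (Subgroup.normalizer ((Q : Subgroup G) : Set G)) = 4)
    {P : Subgroup G} (Q : Sylow 5 G) (T : CT7 P (Q : Subgroup G)) :
    (∀ u : G, orderOf u = 5 → (T.b.χ2 : G → ℂ) u = 1) ∧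
    (∀ R : Subgroup G, Nat.card R = 5 → Nat.card (Subgroup.normalizer (R : Set G)) = 20) := by
  haveI : Fact (Nat.Prime 5) := ⟨by norm_num⟩
  refine ⟨?_, ?_⟩
  · intro u hu
    obtain ⟨g, hg⟩ := F3.exists_conj_mem 5 Q u hu
    have hcl : IsClassFunction G (T.b.χ2 : G → ℂ) := isClassFunction_of_isIrrCharacter T.b.χ2.2
    have hne : g * u * g⁻¹ ≠ 1 := by
      intro h
      have : u = 1 := by
        have h' : g * u * g⁻¹ = g * 1 * g⁻¹ := by rw [h]; group
        exact mul_left_cancel (mul_right_cancel h')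
      rw [this, orderOf_one] at hu
      omega
    rw [← hcl u g]
    exact T.val6 _ hg hne
  · intro R hR
    obtain ⟨Q', hQ'⟩ := F3.eq_sylow_of_card 5 (fun Q => (h5 Q).1) R hR
    obtain ⟨hc, hC, hrel⟩ := h5 Q'
    rw [← hQ']
    have h1 := Subgroup.relIndex_mul_relIndex (⊥ : Subgroup G)
      (Subgroup.centralizer ((Q' : Subgroup G) : Set G))
      (Subgroup.normalizer ((Q' : Subgroup G) : Set G)) bot_le
      (Subgroup.centralizer_le_normalizer ..)
    rw [Subgroup.relIndex_bot_left, Subgroup.relIndex_bot_left, hrel, hC, hc] at h1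
    omega

end Cfsg.Agent.Helper28.A7U
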