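import Mathlib
import Cfsg.Agent.Lib.Helper28.A7Defs

/-!
# S0984, piece F4: an element of order `3` of a group of order `2520` lies in a Sylow `3`-subgroup of order `9` (helper12)
-/

set_option autoImplicit false
set_option linter.unusedSectionVars false
set_option linter.unusedVariables false

namespace Cfsg.Agent.Helper28.A7U

open scoped ComplexConjugate
open Cfsg Cfsg.Agent.Helper24

universe u

variable {G : Type u} [Group G] [Fintype G]

namespace F4

theorem fact2520 : (2520 : ℕ).factorization 3 = 2 := by
  have h : (2520 : ℕ) = 3 ^ 2 * 280 := by norm_num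
  rw [h, Nat.factorization_mul (by norm_num) (by norm_num)]
  simp only [Finsupp.coe_add, Pi.add_apply]
  rw [Nat.factorization_pow, Finsupp.smul_apply, Nat.Prime.factorization_self (by norm_num),
    Nat.factorization_eq_zero_of_not_dvd (by norm_num)]
  rfl

end F4

/-- PIECE F4: an element of order `3` lies in a Sylow `3`-subgroup, of order `9`. -/
theorem exists_sylow3 (hG : Nat.card G = 2520) {z : G} (hz : orderOf z = 3) :
    ∃ S : Sylow 3 G, z ∈ (S : Subgroup G) ∧ Nat.card (S : Subgroup G) = 9 := by
  have hp : IsPGroup 3 (Subgroup.zpowers z) := by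
    apply IsPGroup.of_card (n := 1)
    rw [Nat.card_zpowers, hz, pow_one]
  obtain ⟨S, hS⟩ := hp.exists_le_sylow
  refine ⟨S, hS (Subgroup.mem_zpowers z), ?_⟩
  rw [Sylow.card_eq_multiplicity, hG, F4.fact2520]
  norm_num

end Cfsg.Agent.Helper28.A7U
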