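import Mathlib
import Cfsg.Agent.Lib.Helper28.A7Defs

/-!
# S0984, piece F5: the sum of a character of degree `6` over `⟨z⟩`, `z` of order `3` with `χ(z) = 0` (helper12)
-/

set_option autoImplicit false
set_option linter.unusedSectionVars false
set_option linter.unusedVariables false

namespace Cfsg.Agent.Helper28.A7U

open scoped ComplexConjugate
open Cfsg Cfsg.Agent.Helper24

universe u

variable {G : Type u} [Group G] [Fintype G]

/-- PIECE F5: the sum of `χ6` over `⟨z⟩`, `z` of order `3` with `χ6(z) = 0`, is `6`  (`χ6(z²) = χ6(z⁻¹) = conj 0`). -/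
theorem sum_zpowers {χ : G → ℂ} (hχ : IsCharacter G χ) (h1 : χ 1 = 6) {z : G} (hz : orderOf z = 3)
    (hz0 : χ z = 0) : ∑ᶠ x ∈ ((Subgroup.zpowers z : Subgroup G) : Set G), χ x = 6 := by
  classical
  have hz3 : z ^ 3 = 1 := by rw [← hz]; exact pow_orderOf_eq_one z
  have hz1 : z ≠ 1 := by
    intro h
    rw [h, orderOf_one] at hz
    norm_num at hz
  have hzi : z⁻¹ = z ^ 2 := by
    rw [inv_eq_iff_mul_eq_one, ← pow_succ']
    exact hz3
  have hzz : z ≠ z⁻¹ := by
    intro h
    apply hz1
    have h2 : z * z = 1 := by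
      nth_rewrite 2 [h]
      exact mul_inv_cancel z
    have h3 : z ^ 3 = z := by rw [pow_succ', pow_two, h2, mul_one]
    rw [← h3, hz3]
  have hset : ((Subgroup.zpowers z : Subgroup G) : Set G) = ↑({1, z, z⁻¹} : Finset G) := by
    ext x
    simp only [SetLike.mem_coe, Finset.coe_insert, Finset.coe_singleton, Set.mem_insert_iff,
      Set.mem_singleton_iff]
    constructor
    · intro hx
      rw [mem_zpowers_iff_mem_range_orderOf, hz] at hx
      simp only [Finset.mem_image, Finset.mem_range] at hx
      obtain ⟨k, hk, rfl⟩ := hx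
      interval_cases k
      · left; simp
      · right; left; simp
      · right; right; exact hzi.symm
    · rintro (rfl | rfl | rfl)
      · exact one_mem _
      · exact Subgroup.mem_zpowers _
      · exact inv_mem (Subgroup.mem_zpowers _)
  rw [hset, finsum_mem_coe_finset]
  have hinv : χ z⁻¹ = 0 := by rw [irr_inv hχ, hz0, map_zero]
  rw [Finset.sum_insert (by
      simp only [Finset.mem_insert, Finset.mem_singleton, not_or]
      exact ⟨fun h => hz1 h.symm, fun h => hz1 (inv_eq_one.mp h.symm)⟩),
    Finset.sum_insert (by simpa using hzz), Finset.sum_singleton, h1, hz0, hinv]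
  norm_num

end Cfsg.Agent.Helper28.A7U
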