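import Mathlib
import Cfsg.Prelude.Def_Blocks
import Cfsg.Agent.Lib.Helper1.M11UFIXVEC

/-!
# S0984, piece G1 (helper25): fixed vectors and character sums for subgroups `U ≤ B`.
-/

set_option autoImplicit false
set_option linter.unusedSectionVars false
set_option linter.unusedVariables false
set_option linter.style.haveILetI false

namespace Cfsg.Agent.Helper28.A7U

open Module

universe u

namespace G1

variable {G : Type u} [Group G] [Fintype G]

/-- the restriction of a representation to a subgroup -/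
noncomputable def res {n : ℕ} (ρ : Representation ℂ G (Fin n → ℂ)) (S : Subgroup G) :
    Representation ℂ S (Fin n → ℂ) :=
  ρ.comp S.subtype

theorem res_apply {n : ℕ} (ρ : Representation ℂ G (Fin n → ℂ)) (S : Subgroup G) (g : S) :
    res ρ S g = ρ (g : G) := rfl

/-- the fixed space of a subgroup -/
noncomputable def fixSpace {n : ℕ} (ρ : Representation ℂ G (Fin n → ℂ)) (S : Subgroup G) :
    Submodule ℂ (Fin n → ℂ) :=
  Representation.invariants (res ρ S)

theorem mem_fixSpace {n : ℕ} (ρ : Representation ℂ G (Fin n → ℂ)) (S : Subgroup G)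
    (v : Fin n → ℂ) : v ∈ fixSpace ρ S ↔ ∀ s ∈ S, ρ s v = v := by
  unfold fixSpace
  rw [Representation.mem_invariants]
  constructor
  · intro h s hs
    exact h ⟨s, hs⟩
  · intro h g
    rw [res_apply]
    exact h g.1 g.2

theorem fixSpace_mono {n : ℕ} (ρ : Representation ℂ G (Fin n → ℂ)) {U B : Subgroup G}
    (hUB : U ≤ B) : fixSpace ρ B ≤ fixSpace ρ U := by
  intro v hv
  rw [mem_fixSpace] at hv ⊢
  exact fun s hs => hv s (hUB hs)

/-- the sum of the traces over a subgroup is `dim Fix(S) · |S|` -/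
theorem sum_trace {n : ℕ} (ρ : Representation ℂ G (Fin n → ℂ)) (S : Subgroup G) :
    ∑ᶠ s ∈ (S : Set G), LinearMap.trace ℂ (Fin n → ℂ) (ρ s) =
      (finrank ℂ (fixSpace ρ S) : ℂ) * (Nat.card S : ℂ) := by
  classical
  haveI : Fintype S := Fintype.ofFinite S
  have hcard : (Fintype.card S : ℂ) ≠ 0 := by
    have : 0 < Fintype.card S := Fintype.card_pos
    exact_mod_cast this.ne'
  haveI : Invertible (Fintype.card S : ℂ) := invertibleOfNonzero hcard
  have hfin := Cfsg.Agent.Helper27.M11U.FIXVEC.finrank_invariants (res ρ S)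
  have h1 : ∑ᶠ s ∈ (S : Set G), LinearMap.trace ℂ (Fin n → ℂ) (ρ s) =
      ∑ g : S, LinearMap.trace ℂ (Fin n → ℂ) (res ρ S g) := by
    rw [← finsum_set_coe_eq_finsum_mem (S : Set G)]
    rw [← finsum_eq_sum_of_fintype]
    rfl
  rw [h1]
  unfold fixSpace
  rw [hfin, Nat.card_eq_fintype_card]
  rw [mul_comm (⅟(Fintype.card S : ℂ)), mul_assoc, invOf_mul_self, mul_one]

end G1

section Generic

variable {G : Type u} [Group G] [Fintype G]

/-- PIECE G1: fixed vectors and character sums (representation level; see helper1's `FIXVEC.finrank_invariants`,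
Lib/Helper1/M11UFIXVEC.lean, applied to `ρ.comp U.subtype`).  For subgroups `U ≤ B`: there are natural numbers `mU, mB`
(the dimensions of the fixed spaces) with `Σ_{u ∈ U} tr ρ(u) = mU |U|`, `Σ_{b ∈ B} tr ρ(b) = mB |B|`, `mB ≤ mU`;
if `mU ≠ 0` there is a nonzero `U`-fixed vector; if `mB = mU` every `U`-fixed vector is `B`-fixed
[`invariants (ρ|_B) ≤ invariants (ρ|_U)`, equal `finrank`: `Submodule.eq_of_le_of_finrank_eq`]. -/
theorem fix_sub {n : ℕ} (ρ : Representation ℂ G (Fin n → ℂ)) (U B : Subgroup G) (hUB : U ≤ B) :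
    ∃ mU mB : ℕ,
      (∑ᶠ u ∈ (U : Set G), LinearMap.trace ℂ (Fin n → ℂ) (ρ u) = (mU : ℂ) * (Nat.card U : ℂ)) ∧
      (∑ᶠ b ∈ (B : Set G), LinearMap.trace ℂ (Fin n → ℂ) (ρ b) = (mB : ℂ) * (Nat.card B : ℂ)) ∧
      mB ≤ mU ∧
      (mU ≠ 0 → ∃ v : Fin n → ℂ, v ≠ 0 ∧ ∀ u ∈ U, ρ u v = v) ∧
      (mB = mU → ∀ v : Fin n → ℂ, (∀ u ∈ U, ρ u v = v) → ∀ b ∈ B, ρ b v = v) := by
  refine ⟨finrank ℂ (G1.fixSpace ρ U), finrank ℂ (G1.fixSpace ρ B), G1.sum_trace ρ U,
    G1.sum_trace ρ B, Submodule.finrank_mono (G1.fixSpace_mono ρ hUB), ?_, ?_⟩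
  · intro h
    have hne : G1.fixSpace ρ U ≠ ⊥ := fun hb => h (Submodule.finrank_eq_zero.2 hb)
    obtain ⟨v, hv, hv0⟩ := Submodule.exists_mem_ne_zero_of_ne_bot hne
    exact ⟨v, hv0, (G1.mem_fixSpace ρ U v).1 hv⟩
  · intro h v hv
    have heq : G1.fixSpace ρ B = G1.fixSpace ρ U :=
      Submodule.eq_of_le_of_finrank_eq (G1.fixSpace_mono ρ hUB) h
    have : v ∈ G1.fixSpace ρ B := by
      rw [heq]
      exact (G1.mem_fixSpace ρ U v).2 hv
    exact (G1.mem_fixSpace ρ B v).1 this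

end Generic

end Cfsg.Agent.Helper28.A7U
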