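import Mathlib

/-!
# S0984, piece G2 (helper25): an irreducible representation of degree `n ≥ 2` has no nonzero vector
fixed by the whole group (helper4's `Helper27.M11U.not_all_fix`, generalized from `11` to `n ≥ 2`).
-/

set_option autoImplicit false
set_option linter.unusedSectionVars false
set_option linter.unusedVariables false

namespace Cfsg.Agent.Helper28.A7U

universe u

section Generic

variable {G : Type u} [Group G] [Fintype G]

/-- PIECE G2: a nonzero vector of an irreducible representation of dimension `≥ 2` is not fixed by the whole group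
(helper4's `Helper27.M11U.not_all_fix`, Lib/Helper4/M11USTABNE.lean, generalized from `11` to `n ≥ 2`). -/
theorem not_all_fix' {n : ℕ} (hn : 2 ≤ n) (ρ : Representation ℂ G (Fin n → ℂ)) (hρ : ρ.IsIrreducible)
    (v : Fin n → ℂ) (hv : v ≠ 0) : ¬ ∀ g : G, ρ g v = v := by
  intro h
  -- the line through `v` as a subrepresentation
  let W : Subrepresentation ρ :=
    { toSubmodule := Submodule.span ℂ {v}
      apply_mem_toSubmodule := by
        intro g w hw
        obtain ⟨c, rfl⟩ := Submodule.mem_span_singleton.1 hw
        rw [map_smul, h g]
        exact Submodule.mem_span_singleton.2 ⟨c, rfl⟩ }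
  have : IsSimpleOrder (Subrepresentation ρ) := hρ
  rcases eq_bot_or_eq_top W with hW | hW
  · have h1 : W.toSubmodule = (⊥ : Subrepresentation ρ).toSubmodule := by rw [hW]
    have h2 : v ∈ (⊥ : Submodule ℂ (Fin n → ℂ)) := by
      have : v ∈ W.toSubmodule := Submodule.mem_span_singleton_self v
      rw [h1] at this
      exact this
    exact hv ((Submodule.mem_bot ℂ).1 h2)
  · have h1 : W.toSubmodule = (⊤ : Subrepresentation ρ).toSubmodule := by rw [hW]
    have h2 : Submodule.span ℂ {v} = (⊤ : Submodule ℂ (Fin n → ℂ)) := h1
    have h3 : Module.finrank ℂ (Submodule.span ℂ {v}) = n := by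
      rw [h2, finrank_top]
      simp
    have h4 : Module.finrank ℂ (Submodule.span ℂ {v}) ≤ 1 := by
      have := finrank_span_le_card (R := ℂ) ({v} : Set (Fin n → ℂ))
      simpa using this
    omega

end Generic

end Cfsg.Agent.Helper28.A7U
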