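import Mathlib
import Cfsg.Agent.Lib.Helper28.A7Defs
import Cfsg.Agent.Lib.Helper12.Icosa3

/-!
# S0984, piece G3: a `(2,3,5)`-generated subgroup is a copy of `A₅`, with its class structure (helper12)

Transport from `alternatingGroup (Fin 5)` along the injective homomorphism `Dyck → G` of `Lib/Helper12/Icosa3.lean`.
-/

set_option autoImplicit false
set_option linter.unusedSectionVars false
set_option linter.unusedVariables false

namespace Cfsg.Agent.Helper28.A7U

open scoped ComplexConjugate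
open Cfsg Cfsg.Agent.Helper24

universe u

namespace G3

open Equiv Equiv.Perm Cfsg.Agent.Helper12.Ico

/-- the alternating group of degree five -/
abbrev A5 : Type := alternatingGroup (Fin 5)

theorem ord_cases : ∀ σ : Perm (Fin 5), sign σ = 1 → σ = 1 ∨ σ ^ 2 = 1 ∨ σ ^ 3 = 1 ∨ σ ^ 5 = 1 := by
  decide +kernel

theorem count2 :
    (Finset.univ.filter (fun σ : Perm (Fin 5) => sign σ = 1 ∧ σ ≠ 1 ∧ σ ^ 2 = 1)).card = 15 := by
  decide +kernel

theorem count3 :
    (Finset.univ.filter (fun σ : Perm (Fin 5) => sign σ = 1 ∧ σ ≠ 1 ∧ σ ^ 3 = 1)).card = 20 := by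
  decide +kernel

theorem count5 :
    (Finset.univ.filter (fun σ : Perm (Fin 5) => sign σ = 1 ∧ σ ≠ 1 ∧ σ ^ 5 = 1)).card = 24 := by
  decide +kernel

theorem conj2 : ∀ σ : Perm (Fin 5), sign σ = 1 → σ ≠ 1 → σ ^ 2 = 1 →
    ∃ τ : Perm (Fin 5), sign τ = 1 ∧ τ * σ * τ⁻¹ = pa := by
  decide +kernel

theorem conj3 : ∀ σ : Perm (Fin 5), sign σ = 1 → σ ≠ 1 → σ ^ 3 = 1 →
    ∃ τ : Perm (Fin 5), sign τ = 1 ∧ τ * σ * τ⁻¹ = pb := by
  decide +kernel

theorem card_A5 : Nat.card A5 = 60 := by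
  rw [Nat.card_eq_fintype_card]
  decide

theorem fact60 : (60 : ℕ).factorization 5 = 1 := by
  have h : (60 : ℕ) = 5 * 12 := by norm_num
  rw [h, Nat.factorization_mul (by norm_num) (by norm_num)]
  simp only [Finsupp.coe_add, Pi.add_apply]
  rw [Nat.Prime.factorization_self (by norm_num),
    Nat.factorization_eq_zero_of_not_dvd (by norm_num)]

/-- in a group of order `60` the normalizer of a subgroup of order `5` has order divisible by `10` -/
theorem ten_dvd_normalizer {A : Type*} [Group A] [Finite A] (hA : Nat.card A = 60) (R : Subgroup A)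
    (hR : Nat.card R = 5) : 10 ∣ Nat.card (Subgroup.normalizer (R : Set A)) := by
  haveI : Fact (Nat.Prime 5) := ⟨by norm_num⟩
  have hc : Nat.card R = 5 ^ (Nat.card A).factorization 5 := by rw [hR, hA, fact60, pow_one]
  obtain ⟨P, hP⟩ : ∃ P : Sylow 5 A, (P : Subgroup A) = R := ⟨Sylow.ofCard R hc, Sylow.coe_ofCard R hc⟩
  have hidx : R.index = 12 := by
    have := Subgroup.card_mul_index R
    rw [hR, hA] at this
    omega
  have hdvd : Nat.card (Sylow 5 A) ∣ 12 := by
    have := Sylow.card_dvd_index P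
    rw [hP, hidx] at this
    exact this
  have hmod := card_sylow_modEq_one 5 A
  have hn : Nat.card (Sylow 5 A) = (Subgroup.normalizer (R : Set A)).index := by
    rw [← hP]
    exact Sylow.card_eq_index_normalizer P
  have hmul := Subgroup.card_mul_index (Subgroup.normalizer (R : Set A))
  rw [hA, ← hn] at hmul
  have hle : Nat.card (Sylow 5 A) ≤ 12 := Nat.le_of_dvd (by norm_num) hdvd
  unfold Nat.ModEq at hmod
  obtain ⟨n, hn'⟩ : ∃ n, n = Nat.card (Sylow 5 A) := ⟨_, rfl⟩
  rw [← hn'] at hdvd hmod hle hmul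
  have h16 : n = 1 ∨ n = 6 := by
    interval_cases n <;> omega
  rcases h16 with h1 | h6
  · rw [h1, mul_one] at hmul
    rw [hmul]
    norm_num
  · rw [h6] at hmul
    have : Nat.card (Subgroup.normalizer (R : Set A)) = 10 := by omega
    rw [this]

theorem mem_alt (a : A5) : sign (a : Perm (Fin 5)) = 1 := Equiv.Perm.mem_alternatingGroup.mp a.2

theorem order_iff (p : ℕ) [hp : Fact p.Prime] (a : A5) :
    orderOf a = p ↔ (a : Perm (Fin 5)) ≠ 1 ∧ (a : Perm (Fin 5)) ^ p = 1 := by
  rw [orderOf_eq_prime_iff]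
  constructor
  · rintro ⟨h1, h2⟩
    refine ⟨fun h => h2 (Subtype.ext h), ?_⟩
    have := congrArg Subtype.val h1
    simpa using this
  · rintro ⟨h1, h2⟩
    refine ⟨Subtype.ext (by simpa using h2), fun h => h1 ?_⟩
    rw [h]
    rfl

/-- transport of the number of elements of prime order -/
theorem card_order {G : Type*} [Group G] (ψ : A5 →* G) (hψ : Function.Injective ψ) (p : ℕ) [hp : Fact p.Prime]
    (n : ℕ)
    (hn : (Finset.univ.filter (fun σ : Perm (Fin 5) => sign σ = 1 ∧ σ ≠ 1 ∧ σ ^ p = 1)).card = n) :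
    Nat.card {h : G // h ∈ ψ.range ∧ orderOf h = p} = n := by
  rw [← hn, ← Fintype.card_subtype, ← Nat.card_eq_fintype_card]
  symm
  refine Nat.card_eq_of_bijective
    (fun σ : {σ : Perm (Fin 5) // sign σ = 1 ∧ σ ≠ 1 ∧ σ ^ p = 1} =>
      (⟨ψ ⟨σ.1, Equiv.Perm.mem_alternatingGroup.mpr σ.2.1⟩, ⟨_, rfl⟩, by
        rw [orderOf_injective ψ hψ, order_iff]
        exact ⟨σ.2.2.1, σ.2.2.2⟩⟩ : {h : G // h ∈ ψ.range ∧ orderOf h = p})) ⟨?_, ?_⟩
  · intro σ τ h
    have h1 := congrArg Subtype.val h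
    simp only at h1
    have h2 := hψ h1
    exact Subtype.ext (congrArg (fun a : A5 => (a : Perm (Fin 5))) h2)
  · rintro ⟨h, ⟨a, rfl⟩, ho⟩
    rw [orderOf_injective ψ hψ, order_iff] at ho
    exact ⟨⟨a.1, mem_alt a, ho.1, ho.2⟩, rfl⟩

/-- the structure of the image of an injective homomorphism from `A₅` -/
theorem transport {G : Type*} [Group G] (ψ : A5 →* G) (hψ : Function.Injective ψ) :
    Nat.card ψ.range = 60 ∧
      (∀ h ∈ ψ.range, orderOf h = 1 ∨ orderOf h = 2 ∨ orderOf h = 3 ∨ orderOf h = 5) ∧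
      Nat.card {h : G // h ∈ ψ.range ∧ orderOf h = 2} = 15 ∧
      Nat.card {h : G // h ∈ ψ.range ∧ orderOf h = 3} = 20 ∧
      Nat.card {h : G // h ∈ ψ.range ∧ orderOf h = 5} = 24 ∧
      (∀ h ∈ ψ.range, orderOf h = 2 → IsConj h (ψ qa)) ∧ (∀ h ∈ ψ.range, orderOf h = 3 → IsConj h (ψ qb)) ∧
      (∀ R : Subgroup G, R ≤ ψ.range → Nat.card R = 5 →
        10 ∣ Nat.card ((Subgroup.normalizer (R : Set G) ⊓ ψ.range : Subgroup G))) := by
  haveI : Fact (Nat.Prime 2) := ⟨Nat.prime_two⟩
  haveI : Fact (Nat.Prime 3) := ⟨Nat.prime_three⟩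
  haveI : Fact (Nat.Prime 5) := ⟨by norm_num⟩
  refine ⟨?_, ?_, card_order ψ hψ 2 15 count2, card_order ψ hψ 3 20 count3, card_order ψ hψ 5 24 count5,
    ?_, ?_, ?_⟩
  · rw [← card_A5]
    exact Nat.card_congr (MonoidHom.ofInjective hψ).toEquiv.symm
  · rintro h ⟨a, rfl⟩
    rw [orderOf_injective ψ hψ]
    rcases ord_cases a.1 (mem_alt a) with h1 | h2 | h3 | h5
    · left
      have : a = 1 := Subtype.ext h1
      rw [this, orderOf_one]
    · have hd : orderOf a ∣ 2 := orderOf_dvd_of_pow_eq_one (Subtype.ext (by simpa using h2))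
      rcases (Nat.dvd_prime Nat.prime_two).mp hd with h | h
      · exact Or.inl h
      · exact Or.inr (Or.inl h)
    · have hd : orderOf a ∣ 3 := orderOf_dvd_of_pow_eq_one (Subtype.ext (by simpa using h3))
      rcases (Nat.dvd_prime Nat.prime_three).mp hd with h | h
      · exact Or.inl h
      · exact Or.inr (Or.inr (Or.inl h))
    · have hd : orderOf a ∣ 5 := orderOf_dvd_of_pow_eq_one (Subtype.ext (by simpa using h5))
      rcases (Nat.dvd_prime (by norm_num : Nat.Prime 5)).mp hd with h | h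
      · exact Or.inl h
      · exact Or.inr (Or.inr (Or.inr h))
  · rintro h ⟨a, rfl⟩ ho
    rw [orderOf_injective ψ hψ, order_iff] at ho
    obtain ⟨τ, hτ, e⟩ := conj2 a.1 (mem_alt a) ho.1 ho.2
    rw [isConj_iff]
    refine ⟨ψ ⟨τ, Equiv.Perm.mem_alternatingGroup.mpr hτ⟩, ?_⟩
    rw [← map_inv, ← map_mul, ← map_mul]
    congr 1
    exact Subtype.ext e
  · rintro h ⟨a, rfl⟩ ho
    rw [orderOf_injective ψ hψ, order_iff] at ho
    obtain ⟨τ, hτ, e⟩ := conj3 a.1 (mem_alt a) ho.1 ho.2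
    rw [isConj_iff]
    refine ⟨ψ ⟨τ, Equiv.Perm.mem_alternatingGroup.mpr hτ⟩, ?_⟩
    rw [← map_inv, ← map_mul, ← map_mul]
    congr 1
    exact Subtype.ext e
  · intro R hR hR5
    have hmap : (R.comap ψ).map ψ = R := Subgroup.map_comap_eq_self hR
    have hc : Nat.card (R.comap ψ) = 5 := by
      calc Nat.card (R.comap ψ) = Nat.card ((R.comap ψ).map ψ) :=
            Nat.card_congr ((R.comap ψ).equivMapOfInjective ψ hψ).toEquiv
        _ = Nat.card R := by rw [hmap]
        _ = 5 := hR5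
    have h10 := ten_dvd_normalizer card_A5 (R.comap ψ) hc
    have hle : (Subgroup.normalizer ((R.comap ψ : Subgroup A5) : Set A5)).map ψ ≤
        Subgroup.normalizer (R : Set G) ⊓ ψ.range := by
      refine le_inf ?_ (Subgroup.map_le_range ψ _)
      have := Subgroup.le_normalizer_map (H := R.comap ψ) ψ
      rwa [hmap] at this
    have hcard : Nat.card ((Subgroup.normalizer ((R.comap ψ : Subgroup A5) : Set A5)).map ψ) =
        Nat.card (Subgroup.normalizer ((R.comap ψ : Subgroup A5) : Set A5)) :=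
      (Nat.card_congr ((Subgroup.normalizer ((R.comap ψ : Subgroup A5) : Set A5)).equivMapOfInjective ψ
        hψ).toEquiv).symm
    exact (hcard ▸ h10).trans (Subgroup.card_dvd_of_le hle)

/-- the homomorphism from `A₅` attached to a `(2,3,5)`-pair -/
theorem exists_hom {G : Type*} [Group G] {x y : G} (hx : x * x = 1) (hy : y * y * y = 1)
    (hxy : (x * y) ^ 5 = 1) (hne : x ≠ 1) :
    ∃ ψ : A5 →* G, Function.Injective ψ ∧ ψ qa = x ∧ ψ qb = y := by
  let φ : Dyck →* G :=
    PresentedGroup.toGroup (f := fun b => cond b y x) (by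
      intro r hr
      simp only [rels, Set.mem_insert_iff, Set.mem_singleton_iff] at hr
      rcases hr with rfl | rfl | rfl
      · simp only [map_mul, FreeGroup.lift_apply_of, cond_false]
        exact hx
      · simp only [map_mul, FreeGroup.lift_apply_of, cond_true]
        exact hy
      · simp only [map_pow, map_mul, FreeGroup.lift_apply_of, cond_false, cond_true]
        exact hxy)
  have hφx : φ gx = x := PresentedGroup.toGroup.of _
  have hφy : φ gy = y := PresentedGroup.toGroup.of _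
  haveI := alternatingGroup.isSimpleGroup_five
  haveI : Nontrivial Dyck := dyckEquiv.toEquiv.nontrivial
  haveI : IsSimpleGroup Dyck :=
    IsSimpleGroup.isSimpleGroup_of_surjective dyckEquiv.symm.toMonoidHom dyckEquiv.symm.surjective
  have hinj : Function.Injective φ := by
    rw [← MonoidHom.ker_eq_bot_iff]
    rcases Subgroup.Normal.eq_bot_or_eq_top (H := φ.ker) inferInstance with hb | ht
    · exact hb
    · exfalso
      have : gx ∈ φ.ker := by rw [ht]; trivial
      rw [MonoidHom.mem_ker, hφx] at this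
      exact hne this
  have ea : dyckEquiv gx = qa := toA5_gx
  have eb : dyckEquiv gy = qb := toA5_gy
  refine ⟨φ.comp dyckEquiv.symm.toMonoidHom, hinj.comp dyckEquiv.symm.injective, ?_, ?_⟩
  · show φ (dyckEquiv.symm qa) = x
    rw [← ea, MulEquiv.symm_apply_apply, hφx]
  · show φ (dyckEquiv.symm qb) = y
    rw [← eb, MulEquiv.symm_apply_apply, hφy]

end G3

variable {G : Type u} [Group G] [Fintype G]

/-- PIECE G3 (group theory, uses helper12's `Ico.exists_A5` / `Ico.dyckEquiv`, Lib/Helper12/Icosa3.lean):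
the subgroup generated by `x` (order 2) and `y` (order 3) with `(xy)^5 = 1` is a copy of `A₅`, with its class structure. -/
theorem a5_structure {x y : G} (hx : orderOf x = 2) (hy : orderOf y = 3) (hxy : (x * y) ^ 5 = 1) :
    ∃ H : Subgroup G, x ∈ H ∧ y ∈ H ∧ Nat.card H = 60 ∧
      (∀ h ∈ H, orderOf h = 1 ∨ orderOf h = 2 ∨ orderOf h = 3 ∨ orderOf h = 5) ∧
      Nat.card {h : G // h ∈ H ∧ orderOf h = 2} = 15 ∧
      Nat.card {h : G // h ∈ H ∧ orderOf h = 3} = 20 ∧
      Nat.card {h : G // h ∈ H ∧ orderOf h = 5} = 24 ∧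
      (∀ h ∈ H, orderOf h = 2 → IsConj h x) ∧ (∀ h ∈ H, orderOf h = 3 → IsConj h y) ∧
      (∀ R : Subgroup G, R ≤ H → Nat.card R = 5 →
        10 ∣ Nat.card ((Subgroup.normalizer (R : Set G) ⊓ H : Subgroup G))) := by
  have hx2 : x * x = 1 := by
    rw [← pow_two, ← hx]
    exact pow_orderOf_eq_one x
  have hy3 : y * y * y = 1 := by
    have := pow_orderOf_eq_one y
    rw [hy] at this
    rw [← this, pow_succ, pow_two]
  have hx1 : x ≠ 1 := by
    intro h
    rw [h, orderOf_one] at hx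
    norm_num at hx
  obtain ⟨ψ, hψ, ea, eb⟩ := G3.exists_hom hx2 hy3 hxy hx1
  obtain ⟨h1, h2, h3, h4, h5, h6, h7, h8⟩ := G3.transport ψ hψ
  rw [ea] at h6
  rw [eb] at h7
  exact ⟨ψ.range, ⟨_, ea⟩, ⟨_, eb⟩, h1, h2, h3, h4, h5, h6, h7, h8⟩

end Cfsg.Agent.Helper28.A7U
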