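import Mathlib

/-!
# S0984 piece N6 (`num_fs`): the Frobenius–Schur sign pattern (pure arithmetic) — helper22 for helper28's skeleton
-/

set_option autoImplicit false

namespace Cfsg.Agent.Helper28.A7U

namespace N6

theorem bnd {v : ℤ} (h : v = 1 ∨ v = 0 ∨ v = -1) : v ≤ 1 ∧ -1 ≤ v := by
  rcases h with h | h | h <;> subst h <;> norm_num

end N6

/-- PIECE N6 (pure arithmetic, Frobenius–Schur): `ν_χ ∈ {1, 0, -1}`, `ν_6 ≠ 0`, `Σ ν_χ χ(1) = 106` force the sign pattern for which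
`Σ ν_χ χ(t) < 0` in the two bad patterns. -/
theorem num_fs {ν6 νθ νθ' να να' ν15 ν21 ν35 : ℤ}
    (h6 : ν6 = 1 ∨ ν6 = -1) (hθ : νθ = 1 ∨ νθ = 0 ∨ νθ = -1) (hθ' : νθ' = 1 ∨ νθ' = 0 ∨ νθ' = -1)
    (hα : να = 1 ∨ να = 0 ∨ να = -1) (hα' : να' = 1 ∨ να' = 0 ∨ να' = -1)
    (h15 : ν15 = 1 ∨ ν15 = 0 ∨ ν15 = -1) (h21 : ν21 = 1 ∨ ν21 = 0 ∨ ν21 = -1)
    (h35 : ν35 = 1 ∨ ν35 = 0 ∨ ν35 = -1)
    (hsum : 1 + 6 * ν6 + 10 * νθ + 10 * νθ' + 14 * να + 14 * να' + 15 * ν15 + 21 * ν21 + 35 * ν35 = 106) :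
    1 - 2 * ν6 + 2 * νθ + 2 * νθ' - 2 * να + 2 * να' - ν15 + ν21 - ν35 = -2 ∧
    1 - 2 * ν6 + 2 * νθ + 2 * νθ' + 2 * να - 2 * να' - ν15 + ν21 - ν35 = -2 := by
  have b6 : ν6 ≤ 1 := by rcases h6 with h | h <;> subst h <;> norm_num
  have bθ := N6.bnd hθ
  have bθ' := N6.bnd hθ'
  have bα := N6.bnd hα
  have bα' := N6.bnd hα'
  have b15 := N6.bnd h15
  have b21 := N6.bnd h21
  have b35 := N6.bnd h35
  clear hθ hθ' hα hα' h15 h21 h35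
  have e35 : ν35 = 1 := by clear h6; omega
  have e21 : ν21 = 1 := by clear h6; omega
  have e15 : ν15 = 1 := by clear h6; omega
  subst e35 e21 e15
  rcases h6 with h | h <;> subst h
  · have eα : να = 1 := by omega
    have eα' : να' = 1 := by omega
    subst eα eα'
    constructor <;> omega
  · exfalso; omega

end Cfsg.Agent.Helper28.A7U
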