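import Mathlib
import Cfsg.Prelude.Def_Blocks
import Cfsg.Agent.Lib.Helper24.CharLinear
import Cfsg.Agent.Lib.Helper24.CharComplete
import Cfsg.Agent.Lib.Helper28.A7Defs

/-!
# S0984 piece V0 (`ortho_values`): second orthogonality at a `7`-regular element with integer values
(helper22 for helper28's skeleton; port of helper19's `Helper17.M11.sum_sq_values`)
-/

set_option autoImplicit false
set_option linter.unusedSectionVars false
set_option linter.unusedVariables false
set_option linter.unusedSimpArgs false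
set_option linter.style.haveILetI false

namespace Cfsg.Agent.Helper28.A7U

open scoped ComplexConjugate
open Cfsg Cfsg.Agent.Helper24

universe u

variable {G : Type u} [Group G] [Fintype G]

namespace V0

/-- a sum over a type enumerated by a duplicate-free list. -/
theorem sum_eq_list_sum {α : Type u} [Fintype α] (L : List α) (hnd : L.Nodup)
    (hall : ∀ x, x ∈ L) (f : α → ℂ) : ∑ x : α, f x = (L.map f).sum := by
  classical
  have huniv : (Finset.univ : Finset α) = L.toFinset := by
    ext x
    simp [hall x]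
  rw [huniv, List.sum_toFinset f hnd]

end V0

/-- PIECE V0: second orthogonality (norm and orthogonality to the column of `1`) at a `7`-regular element `x ≠ 1` where all the values are
rational integers. -/
theorem ortho_values {P Q : Subgroup G} (T : CT7 P Q) {x : G} (hx1 : x ≠ 1) (hx7 : ¬ 7 ∣ orderOf x)
    {d a b c c' e f : ℤ}
    (hd : (T.b.χ1 : G → ℂ) x = (d : ℂ)) (ha : (T.b.χ2 : G → ℂ) x = (a : ℂ))
    (hb : (T.b.θ : G → ℂ) x = (b : ℂ))
    (hc : (T.α : G → ℂ) x = (c : ℂ)) (hc' : (T.α' : G → ℂ) x = (c' : ℂ))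
    (he : (T.β : G → ℂ) x = (e : ℂ)) (hf : (T.γ : G → ℂ) x = (f : ℂ)) :
    (Nat.card (Subgroup.centralizer ({x} : Set G)) : ℤ) =
      1 + d ^ 2 + a ^ 2 + 2 * b ^ 2 + c ^ 2 + c' ^ 2 + e ^ 2 + f ^ 2 ∧
    1 + 15 * d + 6 * a + 20 * b + 14 * c + 14 * c' + 21 * e + 35 * f = 0 := by
  classical
  letI : Fintype (IrrCharacter G) := irrFintype
  have hb' : (T.b.θ' : G → ℂ) x = (b : ℂ) := by rw [← T.b.regY x hx7, hb]
  have hp : ((principalChar G : IrrCharacter G) : G → ℂ) x = 1 := rfl
  have hp1 : ((principalChar G : IrrCharacter G) : G → ℂ) 1 = 1 := rfl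
  constructor
  · have hso := second_orthogonality' x x
    rw [if_pos (IsConj.refl x)] at hso
    rw [V0.sum_eq_list_sum _ T.nodup T.all] at hso
    simp only [List.map_cons, List.map_nil, List.sum_cons, List.sum_nil, hd, ha, hb, hb', hc, hc',
      he, hf, hp, map_intCast, map_one] at hso
    have hcast : ((Nat.card (Subgroup.centralizer ({x} : Set G)) : ℤ) : ℂ) =
        ((1 + d ^ 2 + a ^ 2 + 2 * b ^ 2 + c ^ 2 + c' ^ 2 + e ^ 2 + f ^ 2 : ℤ) : ℂ) := by
      push_cast
      rw [← hso]
      ring
    exact_mod_cast hcast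
  · have hso := second_orthogonality' x (1 : G)
    have hnc : ¬ IsConj (1 : G) x := by
      intro h
      exact hx1 (isConj_one_right.1 h)
    rw [if_neg hnc] at hso
    rw [V0.sum_eq_list_sum _ T.nodup T.all] at hso
    have d1 := irr_one_eq_charDegree T.b.χ1.2
    have d2 := irr_one_eq_charDegree T.b.χ2.2
    have d3 := irr_one_eq_charDegree T.b.θ.2
    have d4 := irr_one_eq_charDegree T.b.θ'.2
    have d5 := irr_one_eq_charDegree T.α.2
    have d6 := irr_one_eq_charDegree T.α'.2
    have d7 := irr_one_eq_charDegree T.β.2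
    have d8 := irr_one_eq_charDegree T.γ.2
    rw [T.b.deg1] at d1
    rw [T.b.deg2] at d2
    rw [T.b.degθ] at d3
    rw [T.b.degθ'] at d4
    rw [T.degα] at d5
    rw [T.degα'] at d6
    rw [T.degβ] at d7
    rw [T.degγ] at d8
    simp only [List.map_cons, List.map_nil, List.sum_cons, List.sum_nil, hd, ha, hb, hb', hc, hc',
      he, hf, hp, hp1, d1, d2, d3, d4, d5, d6, d7, d8, map_intCast, map_one, map_natCast] at hso
    have hcast : ((1 + 15 * d + 6 * a + 20 * b + 14 * c + 14 * c' + 21 * e + 35 * f : ℤ) : ℂ) = ((0 : ℤ) : ℂ) := by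
      push_cast
      rw [← hso]
      ring
    exact_mod_cast hcast

end Cfsg.Agent.Helper28.A7U
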