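import Mathlib
import Cfsg.Agent.Lib.Helper6.M11S12

/-!
# S0984 piece G4 (helper6 for helper28): `card_centralizer_dvd`
-/

set_option autoImplicit false

namespace Cfsg.Agent.Helper28.A7U

universe u

variable {G : Type u} [Group G] [Fintype G]

namespace G4

theorem not_dvd_prime {n p : ℕ} (hp : p.Prime) (h1 : n ≠ 1) (hnp : ¬ p ∣ n) : ¬ n ∣ p := by
  intro h
  rcases (Nat.dvd_prime hp).mp h with h | h
  · exact h1 h
  · exact hnp (h ▸ dvd_rfl)

end G4

/-- PIECE G4: the centralizer of an element `g ≠ 1` of order prime to `35` has order dividing `72`. -/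
theorem card_centralizer_dvd (hG : Nat.card G = 2520)
    (h7 : ∀ P : Sylow 7 G, Subgroup.centralizer ((P : Subgroup G) : Set G) = (P : Subgroup G))
    (h5 : ∀ Q : Sylow 5 G, Subgroup.centralizer ((Q : Subgroup G) : Set G) = (Q : Subgroup G))
    {g : G} (hg1 : g ≠ 1) (hg5 : ¬ 5 ∣ orderOf g) (hg7 : ¬ 7 ∣ orderOf g) :
    Nat.card (Subgroup.centralizer ({g} : Set G)) ∣ 72 := by
  classical
  have : Fact (Nat.Prime 7) := ⟨by norm_num⟩
  have : Fact (Nat.Prime 5) := ⟨by norm_num⟩
  have hfac5 : (Nat.card G).factorization 5 = 1 := by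
    rw [hG]; exact Cfsg.Agent.Helper17.M11.S12.fac_eq (by norm_num)
      (by norm_num : (2520 : ℕ) = 5 ^ 1 * 504) (by norm_num) (by norm_num)
  have hfac7 : (Nat.card G).factorization 7 = 1 := by
    rw [hG]; exact Cfsg.Agent.Helper17.M11.S12.fac_eq (by norm_num)
      (by norm_num : (2520 : ℕ) = 7 ^ 1 * 360) (by norm_num) (by norm_num)
  have ho1 : orderOf g ≠ 1 := by
    intro h; exact hg1 (orderOf_eq_one_iff.mp h)
  set C := Subgroup.centralizer ({g} : Set G) with hC
  have hCdvd : Nat.card C ∣ 2520 := hG ▸ Subgroup.card_subgroup_dvd_card C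
  have hn5 : ¬ 5 ∣ Nat.card C :=
    Cfsg.Agent.Helper17.M11.S12.not_dvd_card_centralizer 5 hfac5 h5
      (G4.not_dvd_prime (by norm_num) ho1 hg5)
  have hn7 : ¬ 7 ∣ Nat.card C :=
    Cfsg.Agent.Helper17.M11.S12.not_dvd_card_centralizer 7 hfac7 h7
      (G4.not_dvd_prime (by norm_num) ho1 hg7)
  have hcop : Nat.Coprime (Nat.card C) 35 := by
    have h35 : (35 : ℕ) = 5 * 7 := by norm_num
    rw [h35]
    apply Nat.Coprime.mul_right
    · exact ((Nat.Prime.coprime_iff_not_dvd (by norm_num)).mpr hn5).symm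
    · exact ((Nat.Prime.coprime_iff_not_dvd (by norm_num)).mpr hn7).symm
  have : Nat.card C ∣ 72 * 35 := by
    have h : (72 * 35 : ℕ) = 2520 := by norm_num
    rw [h]; exact hCdvd
  exact hcop.dvd_of_dvd_mul_right this

end Cfsg.Agent.Helper28.A7U
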