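import Mathlib
import Cfsg.Prelude.Def_Blocks
import Cfsg.Agent.Lib.Helper24.CharLinear
import Cfsg.Agent.Lib.Helper24.CharComplete
import Cfsg.Agent.Lib.Helper24.CharHom
import Cfsg.Agent.Lib.Helper16.ITODefs
import Cfsg.Agent.Lib.Helper28.A7Defs
import Cfsg.Agent.Lib.Helper28.A7UBasic
import Cfsg.Agent.Lib.Helper24.M11T1
import Cfsg.Agent.Lib.Helper24.M11T8
import Cfsg.Agent.Lib.Helper24.O5040DET2
import Cfsg.Agent.Lib.Helper17.M11S5
import Cfsg.Agent.Lib.Helper28.A7UV0
import Cfsg.Agent.Lib.Helper28.A7UN5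
import Cfsg.Agent.Lib.Helper28.A7UG4

/-! # S0984, piece V1 (helper28): the values at an involution, up to three patterns -/

set_option autoImplicit false
set_option linter.unusedSectionVars false
set_option linter.unusedVariables false

namespace Cfsg.Agent.Helper28.A7U

open scoped ComplexConjugate
open Cfsg Cfsg.Agent.Helper24 Cfsg.Agent.Helper17.M11

universe u

variable {G : Type u} [Group G] [Fintype G]

namespace V1

/-- the data of one character at an involution: integer value, bound, congruence mod 4, central character -/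
theorem data (hperf : commutator G = ⊤) (hG : Nat.card G = 2520) (χ : IrrCharacter G) {D : ℕ}
    (hD : charDegree (χ : G → ℂ) = D) {t : G} (ht : t * t = 1) :
    ∃ n : ℤ, (χ : G → ℂ) t = (n : ℂ) ∧ (4 : ℤ) ∣ (D : ℤ) - n ∧
      ((D : ℤ) * (Nat.card (Subgroup.centralizer ({t} : Set G)) : ℤ)) ∣ 2520 * n := by
  have hχ := isCharacter_of_isIrrCharacter χ.2
  obtain ⟨n, hn, -⟩ := invol_value hχ ht
  refine ⟨n, hn, ?_, ?_⟩
  · obtain ⟨m, hm⟩ := Cfsg.Agent.Helper28.Ord5040.inv_value_mod_four hperf hχ t (by rw [sq]; exact ht)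
    rw [hn, irr_one_eq_charDegree χ.2, hD] at hm
    have : (n : ℤ) = (D : ℤ) - 4 * (m : ℤ) := by exact_mod_cast hm
    exact ⟨m, by rw [this]; ring⟩
  · have := centralChar_dvd χ t hn
    rw [hD, hG] at this
    exact_mod_cast this

end V1

theorem invol_patterns (hs : IsSimpleGroup G) (hG : Nat.card G = 2520)
    (h7 : ∀ P : Sylow 7 G, Subgroup.centralizer ((P : Subgroup G) : Set G) = (P : Subgroup G))
    (h5 : ∀ Q : Sylow 5 G, Subgroup.centralizer ((Q : Subgroup G) : Set G) = (Q : Subgroup G))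
    {P Q : Subgroup G} (T : CT7 P Q) {t : G} (ht : orderOf t = 2) :
    Nat.card (Subgroup.centralizer ({t} : Set G)) = 24 ∧
    (T.b.χ1 : G → ℂ) t = -1 ∧ (T.β : G → ℂ) t = 1 ∧ (T.γ : G → ℂ) t = -1 ∧
    (T.b.θ' : G → ℂ) t = (T.b.θ : G → ℂ) t ∧
    (((T.b.χ2 : G → ℂ) t = 2 ∧ (T.b.θ : G → ℂ) t = -2 ∧ (T.α : G → ℂ) t = 2 ∧ (T.α' : G → ℂ) t = 2) ∨
     ((T.b.χ2 : G → ℂ) t = -2 ∧ (T.b.θ : G → ℂ) t = 2 ∧ (T.α : G → ℂ) t = -2 ∧ (T.α' : G → ℂ) t = 2) ∨
     ((T.b.χ2 : G → ℂ) t = -2 ∧ (T.b.θ : G → ℂ) t = 2 ∧ (T.α : G → ℂ) t = 2 ∧ (T.α' : G → ℂ) t = -2)) := by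
  classical
  have hperf := perfect hs hG
  have ht2 : t * t = 1 := by
    have := pow_orderOf_eq_one t
    rw [ht, sq] at this
    exact this
  have ht1 : t ≠ 1 := by
    intro h
    rw [h, orderOf_one] at ht
    omega
  have hreg7 : ¬ 7 ∣ orderOf t := by rw [ht]; norm_num
  have hreg5 : ¬ 5 ∣ orderOf t := by rw [ht]; norm_num
  obtain ⟨d, hd, hd4, hdI⟩ := V1.data hperf hG T.b.χ1 T.b.deg1 ht2
  obtain ⟨a, ha, ha4, haI⟩ := V1.data hperf hG T.b.χ2 T.b.deg2 ht2
  obtain ⟨b, hb, hb4, hbI⟩ := V1.data hperf hG T.b.θ T.b.degθ ht2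
  obtain ⟨c, hc, hc4, hcI⟩ := V1.data hperf hG T.α T.degα ht2
  obtain ⟨c', hc', hc'4, hc'I⟩ := V1.data hperf hG T.α' T.degα' ht2
  obtain ⟨e, he, he4, heI⟩ := V1.data hperf hG T.β T.degβ ht2
  obtain ⟨f, hf, hf4, hfI⟩ := V1.data hperf hG T.γ T.degγ ht2
  have hθ' : (T.b.θ' : G → ℂ) t = (T.b.θ : G → ℂ) t := (T.b.regY t hreg7).symm
  -- the relations
  have R7 : -b + 1 + d - a = 0 := by
    have h := T.b.rel t hreg7
    rw [hb, hd, ha] at h
    have : ((-b + 1 + d - a : ℤ) : ℂ) = 0 := by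
      push_cast
      linear_combination h
    exact_mod_cast this
  have R5 : 1 + a - c - c' + e = 0 := by
    have h := T.rel5 t hreg5
    rw [ha, hc, hc', he] at h
    have : ((1 + a - c - c' + e : ℤ) : ℂ) = 0 := by
      push_cast
      linear_combination h
    exact_mod_cast this
  obtain ⟨RN, R1⟩ := ortho_values T ht1 hreg7 hd ha hb hc hc' he hf
  have hN := card_centralizer_dvd hG h7 h5 ht1 hreg5 hreg7
  -- `χ6` is faithful
  have ha6 : a ≠ 6 := by
    intro h
    have e1 : (T.b.χ2 : G → ℂ) 1 = 6 := by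
      rw [irr_one_eq_charDegree T.b.χ2.2, T.b.deg2]; norm_num
    -- an element where `χ6 ≠ 6`: an involution is mapped to the value `6`, so `t ∈ ker`
    apply ht1
    by_cases hex : ∃ x : G, (T.b.χ2 : G → ℂ) x ≠ (T.b.χ2 : G → ℂ) 1
    · obtain ⟨x, hx⟩ := hex
      apply S5.eq_one_of_value hs T.b.χ2 (x := x) hx
      rw [ha, e1, h]; norm_num
    · exfalso
      push Not at hex
      -- `χ6` constant: contradicts orthogonality with the principal character
      have h0 := irr_orthogonality T.b.χ2.2 (principalChar G).2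
      have hne : (T.b.χ2 : G → ℂ) ≠ ((principalChar G : IrrCharacter G) : G → ℂ) := by
        intro hh
        have := congrFun hh 1
        rw [e1] at this
        have h1 : ((principalChar G : IrrCharacter G) : G → ℂ) 1 = 1 := rfl
        rw [h1] at this
        norm_num at this
      rw [if_neg hne] at h0
      unfold classInner at h0
      have hsum : ∑ g : G, (T.b.χ2 : G → ℂ) g * conj (((principalChar G : IrrCharacter G) : G → ℂ) g) =
          (Nat.card G : ℂ) * 6 := by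
        have : ∀ g : G, (T.b.χ2 : G → ℂ) g *
            conj (((principalChar G : IrrCharacter G) : G → ℂ) g) = 6 := by
          intro g
          have h1 : ((principalChar G : IrrCharacter G) : G → ℂ) g = 1 := rfl
          rw [h1, hex g, e1]; simp
        rw [Finset.sum_congr rfl (fun g _ => this g), Finset.sum_const, Finset.card_univ,
          Nat.card_eq_fintype_card]
        simp
      rw [hsum, hG] at h0
      norm_num at h0
  obtain ⟨hN24, hd', he', hf', hpat⟩ :=
    num_invol R7 R5 R1 RN hN hd4 ha4 hb4 hc4 hc'4 he4 hf4 hdI haI hbI hcI hc'I heI hfI ha6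
  refine ⟨hN24, by rw [hd, hd']; norm_num, by rw [he, he']; norm_num, by rw [hf, hf']; norm_num,
    hθ', ?_⟩
  rcases hpat with ⟨h1, h2, h3, h4⟩ | ⟨h1, h2, h3, h4⟩ | ⟨h1, h2, h3, h4⟩
  · left
    exact ⟨by rw [ha, h1]; norm_num, by rw [hb, h2]; norm_num, by rw [hc, h3]; norm_num,
      by rw [hc', h4]; norm_num⟩
  · right; left
    exact ⟨by rw [ha, h1]; norm_num, by rw [hb, h2]; norm_num, by rw [hc, h3]; norm_num,
      by rw [hc', h4]; norm_num⟩
  · right; right
    exact ⟨by rw [ha, h1]; norm_num, by rw [hb, h2]; norm_num, by rw [hc, h3]; norm_num,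
      by rw [hc', h4]; norm_num⟩

end Cfsg.Agent.Helper28.A7U
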