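import Mathlib
import Cfsg.Prelude.Def_Blocks
import Cfsg.Agent.Lib.Helper24.CharLinear
import Cfsg.Agent.Lib.Helper24.CharComplete
import Cfsg.Agent.Lib.Helper28.A7Defs
import Cfsg.Agent.Lib.Helper28.A7UV0
import Cfsg.Agent.Lib.Helper28.A7UV1

/-!
# S0984 piece V2 (`invol_conj`): all involutions are conjugate (helper17 for helper28's skeleton)
-/

set_option autoImplicit false
set_option linter.unusedSectionVars false
set_option linter.unusedVariables false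
set_option linter.unusedSimpArgs false
set_option linter.style.haveILetI false

namespace Cfsg.Agent.Helper28.A7U

open scoped ComplexConjugate
open Cfsg Cfsg.Agent.Helper24

universe u

variable {G : Type u} [Group G] [Fintype G]

namespace V2

/-- the values at an involution, packaged with integers -/
theorem int_pattern (hs : IsSimpleGroup G) (hG : Nat.card G = 2520)
    (h7 : ∀ P : Sylow 7 G, Subgroup.centralizer ((P : Subgroup G) : Set G) = (P : Subgroup G))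
    (h5 : ∀ Q : Sylow 5 G, Subgroup.centralizer ((Q : Subgroup G) : Set G) = (Q : Subgroup G))
    {P Q : Subgroup G} (T : CT7 P Q) {t : G} (ht : orderOf t = 2) :
    ∃ a b c c' : ℤ,
      (T.b.χ1 : G → ℂ) t = ((-1 : ℤ) : ℂ) ∧ (T.β : G → ℂ) t = ((1 : ℤ) : ℂ) ∧
      (T.γ : G → ℂ) t = ((-1 : ℤ) : ℂ) ∧
      (T.b.χ2 : G → ℂ) t = (a : ℂ) ∧ (T.b.θ : G → ℂ) t = (b : ℂ) ∧ (T.b.θ' : G → ℂ) t = (b : ℂ) ∧
      (T.α : G → ℂ) t = (c : ℂ) ∧ (T.α' : G → ℂ) t = (c' : ℂ) ∧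
      ((a = 2 ∧ b = -2 ∧ c = 2 ∧ c' = 2) ∨ (a = -2 ∧ b = 2 ∧ c = -2 ∧ c' = 2) ∨
        (a = -2 ∧ b = 2 ∧ c = 2 ∧ c' = -2)) := by
  obtain ⟨-, h15, hβ, hγ, hθ', hpat⟩ := invol_patterns hs hG h7 h5 T ht
  rcases hpat with ⟨h1, h2, h3, h4⟩ | ⟨h1, h2, h3, h4⟩ | ⟨h1, h2, h3, h4⟩
  · refine ⟨2, -2, 2, 2, ?_, ?_, ?_, ?_, ?_, ?_, ?_, ?_, Or.inl ⟨rfl, rfl, rfl, rfl⟩⟩
    · rw [h15]; norm_num
    · rw [hβ]; norm_num
    · rw [hγ]; norm_num
    · rw [h1]; norm_num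
    · rw [h2]; norm_num
    · rw [hθ', h2]; norm_num
    · rw [h3]; norm_num
    · rw [h4]; norm_num
  · refine ⟨-2, 2, -2, 2, ?_, ?_, ?_, ?_, ?_, ?_, ?_, ?_, Or.inr (Or.inl ⟨rfl, rfl, rfl, rfl⟩)⟩
    · rw [h15]; norm_num
    · rw [hβ]; norm_num
    · rw [hγ]; norm_num
    · rw [h1]; norm_num
    · rw [h2]; norm_num
    · rw [hθ', h2]; norm_num
    · rw [h3]; norm_num
    · rw [h4]; norm_num
  · refine ⟨-2, 2, 2, -2, ?_, ?_, ?_, ?_, ?_, ?_, ?_, ?_, Or.inr (Or.inr ⟨rfl, rfl, rfl, rfl⟩)⟩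
    · rw [h15]; norm_num
    · rw [hβ]; norm_num
    · rw [hγ]; norm_num
    · rw [h1]; norm_num
    · rw [h2]; norm_num
    · rw [hθ', h2]; norm_num
    · rw [h3]; norm_num
    · rw [h4]; norm_num

end V2

/-- PIECE V2: all involutions are conjugate. -/
theorem invol_conj (hs : IsSimpleGroup G) (hG : Nat.card G = 2520)
    (h7 : ∀ P : Sylow 7 G, Subgroup.centralizer ((P : Subgroup G) : Set G) = (P : Subgroup G))
    (h5 : ∀ Q : Sylow 5 G, Subgroup.centralizer ((Q : Subgroup G) : Set G) = (Q : Subgroup G))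
    {P Q : Subgroup G} (T : CT7 P Q) {t₁ t₂ : G} (h₁ : orderOf t₁ = 2) (h₂ : orderOf t₂ = 2) :
    IsConj t₁ t₂ := by
  classical
  letI : Fintype (IrrCharacter G) := irrFintype
  obtain ⟨a1, b1, c1, d1, e15, eβ, eγ, ea, eb, eb', ec, ed, hp1⟩ :=
    V2.int_pattern hs hG h7 h5 T h₁
  obtain ⟨a2, b2, c2, d2, f15, fβ, fγ, fa, fb, fb', fc, fd, hp2⟩ :=
    V2.int_pattern hs hG h7 h5 T h₂
  have hp : ∀ x : G, ((principalChar G : IrrCharacter G) : G → ℂ) x = 1 := fun _ => rfl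
  have hso := second_orthogonality' t₁ t₂
  rw [V0.sum_eq_list_sum _ T.nodup T.all] at hso
  simp only [List.map_cons, List.map_nil, List.sum_cons, List.sum_nil, e15, eβ, eγ, ea, eb, eb',
    ec, ed, f15, fβ, fγ, fa, fb, fb', fc, fd, hp, map_intCast, map_one] at hso
  by_contra hnc
  have hnc' : ¬ IsConj t₂ t₁ := fun h => hnc h.symm
  rw [if_neg hnc'] at hso
  have hcast : ((4 + a1 * a2 + 2 * (b1 * b2) + c1 * c2 + d1 * d2 : ℤ) : ℂ) = ((0 : ℤ) : ℂ) := by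
    push_cast
    rw [← hso]
    ring
  have hz : 4 + a1 * a2 + 2 * (b1 * b2) + c1 * c2 + d1 * d2 = 0 := by exact_mod_cast hcast
  rcases hp1 with ⟨r1, r2, r3, r4⟩ | ⟨r1, r2, r3, r4⟩ | ⟨r1, r2, r3, r4⟩ <;>
  rcases hp2 with ⟨q1, q2, q3, q4⟩ | ⟨q1, q2, q3, q4⟩ | ⟨q1, q2, q3, q4⟩ <;>
  · subst r1 r2 r3 r4 q1 q2 q3 q4
    norm_num at hz

end Cfsg.Agent.Helper28.A7U
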