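import Mathlib
import Cfsg.Prelude.Def_Blocks
import Cfsg.Agent.Lib.Helper24.CharLinear
import Cfsg.Agent.Lib.Helper24.CharComplete
import Cfsg.Agent.Lib.Helper24.CharAlgebra
import Cfsg.Agent.Lib.Helper24.FrobeniusSchur
import Cfsg.Agent.Lib.Helper8.PSL16a
import Cfsg.Agent.Lib.Helper28.A7Defs
import Cfsg.Agent.Lib.Helper28.A7UV0
import Cfsg.Agent.Lib.Helper28.A7UV1
import Cfsg.Agent.Lib.Helper28.A7UV2
import Cfsg.Agent.Lib.Helper28.A7UN6

/-!
# S0984 piece V3 (`invol_values`): the values at an involution (helper17 for helper28's skeleton)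

Frobenius–Schur count of the involutions kills the two bad patterns of `invol_patterns`.
-/

set_option autoImplicit false
set_option linter.unusedSectionVars false
set_option linter.unusedVariables false
set_option linter.unusedSimpArgs false
set_option linter.style.haveILetI false

namespace Cfsg.Agent.Helper28.A7U

open scoped ComplexConjugate
open Cfsg Cfsg.Agent.Helper24

universe u

variable {G : Type u} [Group G] [Fintype G]

namespace V3

/-- the Frobenius–Schur indicator of an irreducible character as an integer in `{1, 0, -1}` -/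
theorem fs_int {χ : G → ℂ} (hχ : IsIrrCharacter G χ) :
    ∃ ν : ℤ, fsInd χ = (ν : ℂ) ∧ (ν = 1 ∨ ν = 0 ∨ ν = -1) := by
  rcases fsInd_cases hχ with ⟨-, h | h⟩ | ⟨-, h⟩
  · exact ⟨1, by rw [h]; norm_num, Or.inl rfl⟩
  · exact ⟨-1, by rw [h]; norm_num, Or.inr (Or.inr rfl)⟩
  · exact ⟨0, by rw [h]; norm_num, Or.inr (Or.inl rfl)⟩

/-- the indicator of the principal character -/
theorem fs_one : fsInd (fun _ : G => (1 : ℂ)) = 1 := by
  unfold fsInd
  rw [Finset.sum_const, Finset.card_univ, Nat.card_eq_fintype_card]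
  have : (Fintype.card G : ℂ) ≠ 0 := by
    exact_mod_cast Fintype.card_ne_zero
  simp [this]

/-- the number of square roots is a natural number -/
theorem sqrtCount_nat (g : G) : ∃ n : ℕ, sqrtCount g = (n : ℂ) := by
  classical
  unfold sqrtCount
  exact ⟨_, Finset.sum_boole _ _⟩

/-- the degree of the conjugate character -/
theorem charDegree_conj' (χ : G → ℂ) : charDegree (fun g => conj (χ g)) = charDegree χ := by
  unfold charDegree
  simp

end V3

/-- PIECE V3: the values at an involution. -/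
theorem invol_values (hs : IsSimpleGroup G) (hG : Nat.card G = 2520)
    (h7 : ∀ P : Sylow 7 G, Subgroup.centralizer ((P : Subgroup G) : Set G) = (P : Subgroup G))
    (h5 : ∀ Q : Sylow 5 G, Subgroup.centralizer ((Q : Subgroup G) : Set G) = (Q : Subgroup G))
    {P Q : Subgroup G} (T : CT7 P Q) {t : G} (ht : orderOf t = 2) :
    Nat.card (Subgroup.centralizer ({t} : Set G)) = 24 ∧
    (T.b.χ1 : G → ℂ) t = -1 ∧ (T.b.χ2 : G → ℂ) t = 2 ∧ (T.b.θ : G → ℂ) t = -2 ∧
    (T.b.θ' : G → ℂ) t = -2 ∧ (T.α : G → ℂ) t = 2 ∧ (T.α' : G → ℂ) t = 2 ∧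
    (T.β : G → ℂ) t = 1 ∧ (T.γ : G → ℂ) t = -1 := by
  classical
  letI : Fintype (IrrCharacter G) := irrFintype
  obtain ⟨hN, h15, hβ, hγ, hθ', hpat⟩ := invol_patterns hs hG h7 h5 T ht
  rcases hpat with ⟨h1, h2, h3, h4⟩ | hbad
  · exact ⟨hN, h15, h1, h2, by rw [hθ', h2], h3, h4, hβ, hγ⟩
  exfalso
  have ht2 : t * t = 1 := by
    have := pow_orderOf_eq_one t
    rw [ht, sq] at this
    exact this
  have ht1 : t ≠ 1 := by
    intro h
    rw [h, orderOf_one] at ht
    omega
  have hall : ∀ s : G, s * s = 1 → s ≠ 1 → IsConj s t := by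
    intro s hs2 hs1
    have hso : orderOf s = 2 := by
      apply orderOf_eq_prime
      · rw [sq]; exact hs2
      · exact hs1
    exact invol_conj hs hG h7 h5 T hso ht
  -- the number of solutions of `u * u = 1`
  have hidx : (Subgroup.centralizer ({t} : Set G)).index = 105 := by
    have h := Subgroup.index_mul_card (Subgroup.centralizer ({t} : Set G))
    rw [hN, hG] at h
    omega
  have hsq1 : sqrtCount (1 : G) = 106 := by
    rw [Cfsg.Agent.Helper8.PSL16.sqrtCount_one ht2 ht1 hall, hidx]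
    norm_num
  -- the indicators
  obtain ⟨ν15, e15, c15⟩ := V3.fs_int T.b.χ1.2
  obtain ⟨ν6, e6, c6⟩ := V3.fs_int T.b.χ2.2
  obtain ⟨νθ, eθ, cθ⟩ := V3.fs_int T.b.θ.2
  obtain ⟨νθ', eθ', cθ'⟩ := V3.fs_int T.b.θ'.2
  obtain ⟨να, eα, cα⟩ := V3.fs_int T.α.2
  obtain ⟨να', eα', cα'⟩ := V3.fs_int T.α'.2
  obtain ⟨ν21, e21, c21⟩ := V3.fs_int T.β.2
  obtain ⟨ν35, e35, c35⟩ := V3.fs_int T.γ.2
  have ep : fsInd ((principalChar G : IrrCharacter G) : G → ℂ) = 1 := V3.fs_one
  have hp : ∀ x : G, ((principalChar G : IrrCharacter G) : G → ℂ) x = 1 := fun _ => rfl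
  -- `χ6` is real-valued
  have h6ne : ν6 ≠ 0 := by
    intro h0
    have hz : fsInd (T.b.χ2 : G → ℂ) = 0 := by rw [e6, h0]; norm_num
    have hreal : ∀ g, conj ((T.b.χ2 : G → ℂ) g) = (T.b.χ2 : G → ℂ) g := by
      set ψ : IrrCharacter G := ⟨fun g => conj ((T.b.χ2 : G → ℂ) g), isIrrCharacter_conj T.b.χ2.2⟩
        with hψ
      have hdeg : charDegree (ψ : G → ℂ) = 6 := by
        have : (ψ : G → ℂ) = fun g => conj ((T.b.χ2 : G → ℂ) g) := rfl
        rw [this, V3.charDegree_conj', T.b.deg2]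
      have hmem := T.all ψ
      have hpd : charDegree ((principalChar G : IrrCharacter G) : G → ℂ) = 1 := by
        unfold charDegree
        rw [hp]
        simp
      have hψeq : ψ = T.b.χ2 := by
        simp only [List.mem_cons, List.not_mem_nil, or_false] at hmem
        rcases hmem with h | h | h | h | h | h | h | h | h
        · rw [h, hpd] at hdeg; omega
        · rw [h, T.b.deg1] at hdeg; omega
        · exact h
        · rw [h, T.b.degθ] at hdeg; omega
        · rw [h, T.b.degθ'] at hdeg; omega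
        · rw [h, T.degα] at hdeg; omega
        · rw [h, T.degα'] at hdeg; omega
        · rw [h, T.degβ] at hdeg; omega
        · rw [h, T.degγ] at hdeg; omega
      intro g
      have := congrArg (fun φ : IrrCharacter G => (φ : G → ℂ) g) hψeq
      exact this
    exact ((fsInd_ne_zero_iff T.b.χ2.2).2 hreal) hz
  have c6' : ν6 = 1 ∨ ν6 = -1 := by
    rcases c6 with h | h | h
    · exact Or.inl h
    · exact absurd h h6ne
    · exact Or.inr h
  -- the count at `1`
  have key1 := sum_fsInd_mul (G := G) (1 : G)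
  rw [V0.sum_eq_list_sum _ T.nodup T.all, hsq1] at key1
  have d1 := irr_one_eq_charDegree T.b.χ1.2
  have d2 := irr_one_eq_charDegree T.b.χ2.2
  have d3 := irr_one_eq_charDegree T.b.θ.2
  have d4 := irr_one_eq_charDegree T.b.θ'.2
  have d5 := irr_one_eq_charDegree T.α.2
  have d6 := irr_one_eq_charDegree T.α'.2
  have d7 := irr_one_eq_charDegree T.β.2
  have d8 := irr_one_eq_charDegree T.γ.2
  rw [T.b.deg1] at d1
  rw [T.b.deg2] at d2
  rw [T.b.degθ] at d3
  rw [T.b.degθ'] at d4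
  rw [T.degα] at d5
  rw [T.degα'] at d6
  rw [T.degβ] at d7
  rw [T.degγ] at d8
  simp only [List.map_cons, List.map_nil, List.sum_cons, List.sum_nil, ep, e15, e6, eθ, eθ', eα,
    eα', e21, e35, hp, d1, d2, d3, d4, d5, d6, d7, d8] at key1
  have hsum : 1 + 6 * ν6 + 10 * νθ + 10 * νθ' + 14 * να + 14 * να' + 15 * ν15 + 21 * ν21 +
      35 * ν35 = 106 := by
    have hcast : ((1 + 6 * ν6 + 10 * νθ + 10 * νθ' + 14 * να + 14 * να' + 15 * ν15 + 21 * ν21 +
        35 * ν35 : ℤ) : ℂ) = ((106 : ℤ) : ℂ) := by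
      push_cast
      rw [← key1]
      push_cast
      ring
    exact_mod_cast hcast
  obtain ⟨N1, N2⟩ := num_fs c6' cθ cθ' cα cα' c15 c21 c35 hsum
  -- the count at `t`
  obtain ⟨n, hn⟩ := V3.sqrtCount_nat t
  have key2 := sum_fsInd_mul (G := G) t
  rw [V0.sum_eq_list_sum _ T.nodup T.all, hn] at key2
  rcases hbad with ⟨h1, h2, h3, h4⟩ | ⟨h1, h2, h3, h4⟩
  · simp only [List.map_cons, List.map_nil, List.sum_cons, List.sum_nil, ep, e15, e6, eθ, eθ', eα,
      eα', e21, e35, hp, h15, hβ, hγ, hθ', h1, h2, h3, h4] at key2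
    have hcast : ((1 - 2 * ν6 + 2 * νθ + 2 * νθ' - 2 * να + 2 * να' - ν15 + ν21 - ν35 : ℤ) : ℂ) =
        ((n : ℤ) : ℂ) := by
      push_cast
      rw [← key2]
      ring
    have : 1 - 2 * ν6 + 2 * νθ + 2 * νθ' - 2 * να + 2 * να' - ν15 + ν21 - ν35 = (n : ℤ) := by
      exact_mod_cast hcast
    omega
  · simp only [List.map_cons, List.map_nil, List.sum_cons, List.sum_nil, ep, e15, e6, eθ, eθ', eα,
      eα', e21, e35, hp, h15, hβ, hγ, hθ', h1, h2, h3, h4] at key2
    have hcast : ((1 - 2 * ν6 + 2 * νθ + 2 * νθ' + 2 * να - 2 * να' - ν15 + ν21 - ν35 : ℤ) : ℂ) =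
        ((n : ℤ) : ℂ) := by
      push_cast
      rw [← key2]
      ring
    have : 1 - 2 * ν6 + 2 * νθ + 2 * νθ' + 2 * να - 2 * να' - ν15 + ν21 - ν35 = (n : ℤ) := by
      exact_mod_cast hcast
    omega

end Cfsg.Agent.Helper28.A7U
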