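import Mathlib
import Cfsg.Prelude.Def_Blocks
import Cfsg.Agent.Lib.Helper24.CharLinear
import Cfsg.Agent.Lib.Helper24.CharComplete
import Cfsg.Agent.Lib.Helper24.ITOLAM2NAT
import Cfsg.Agent.Lib.Helper23.B2SYM2NAT
import Cfsg.Agent.Lib.Helper16.ITODefs
import Cfsg.Agent.Lib.Helper28.A7Defs
import Cfsg.Agent.Lib.Helper28.A7UV0
import Cfsg.Agent.Lib.Helper28.A7US7B
import Cfsg.Agent.Lib.Helper28.A7UV3

/-!
# S0984 piece V4 (`lam2_chi6`): `Λ²χ6 = χ15` (helper22 for helper28's skeleton)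
-/

set_option autoImplicit false
set_option linter.unusedSectionVars false
set_option linter.unusedVariables false
set_option linter.unusedSimpArgs false
set_option linter.style.haveILetI false

namespace Cfsg.Agent.Helper28.A7U

open scoped ComplexConjugate
open Cfsg Cfsg.Agent.Helper24

universe u

variable {G : Type u} [Group G] [Fintype G]

open Cfsg.Agent.Helper16.ITO Cfsg.Agent.Helper23.B2 in
/-- PIECE V4: `Λ²χ6 = χ15`. -/
theorem lam2_chi6 (hs : IsSimpleGroup G) (hG : Nat.card G = 2520)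
    (h7 : ∀ P : Sylow 7 G, Subgroup.centralizer ((P : Subgroup G) : Set G) = (P : Subgroup G))
    (h5 : ∀ Q : Sylow 5 G, Subgroup.centralizer ((Q : Subgroup G) : Set G) = (Q : Subgroup G))
    {P Q : Subgroup G} (T : CT7 P Q) (g : G) :
    Cfsg.Agent.Helper16.ITO.lam2 (T.b.χ2 : G → ℂ) g = (T.b.χ1 : G → ℂ) g := by
  classical
  letI : Fintype (IrrCharacter G) := irrFintype
  have h6irr : IsIrrCharacter G (T.b.χ2 : G → ℂ) := T.b.χ2.2
  have h6ch : IsCharacter G (T.b.χ2 : G → ℂ) := isCharacter_of_isIrrCharacter h6irr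
  have h6cf : IsClassFunction G (T.b.χ2 : G → ℂ) := isClassFunction_of_isIrrCharacter h6irr
  -- multiplicities
  have hmult : ∀ χ : IrrCharacter G, ∃ s : ℕ, classInner (lam2 (T.b.χ2 : G → ℂ)) (χ : G → ℂ) = (s : ℂ) :=
    fun χ => lam2_inner_nat h6ch χ.2
  choose m hm using hmult
  -- the expansion of Λ
  have hexp := classFunction_expansion (S7B.lam2_cf h6cf)
  have hval : ∀ x : G, lam2 (T.b.χ2 : G → ℂ) x =
      (m (principalChar G) : ℂ) * 1 + (m T.b.χ1 : ℂ) * (T.b.χ1 : G → ℂ) x + (m T.b.χ2 : ℂ) * (T.b.χ2 : G → ℂ) x +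
      (m T.b.θ : ℂ) * (T.b.θ : G → ℂ) x + (m T.b.θ' : ℂ) * (T.b.θ' : G → ℂ) x +
      (m T.α : ℂ) * (T.α : G → ℂ) x + (m T.α' : ℂ) * (T.α' : G → ℂ) x +
      (m T.β : ℂ) * (T.β : G → ℂ) x + (m T.γ : ℂ) * (T.γ : G → ℂ) x := by
    intro x
    have hx := congrFun hexp x
    simp only [Finset.sum_apply, Pi.smul_apply, smul_eq_mul] at hx
    rw [V0.sum_eq_list_sum _ T.nodup T.all] at hx
    have hp : ((principalChar G : IrrCharacter G) : G → ℂ) x = 1 := rfl
    simp only [List.map_cons, List.map_nil, List.sum_cons, List.sum_nil, hm, hp] at hx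
    rw [hx]; ring
  -- the degrees
  have d1 := irr_one_eq_charDegree T.b.χ1.2
  have d2 := irr_one_eq_charDegree T.b.χ2.2
  have d3 := irr_one_eq_charDegree T.b.θ.2
  have d4 := irr_one_eq_charDegree T.b.θ'.2
  have d5 := irr_one_eq_charDegree T.α.2
  have d6 := irr_one_eq_charDegree T.α'.2
  have d7 := irr_one_eq_charDegree T.β.2
  have d8 := irr_one_eq_charDegree T.γ.2
  rw [T.b.deg1] at d1
  rw [T.b.deg2] at d2
  rw [T.b.degθ] at d3
  rw [T.b.degθ'] at d4
  rw [T.degα] at d5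
  rw [T.degα'] at d6
  rw [T.degβ] at d7
  rw [T.degγ] at d8
  -- the equation at 1
  have hΛ1 : lam2 (T.b.χ2 : G → ℂ) 1 = 15 := by
    simp only [lam2, mul_one, d2]; norm_num
  have e1 := hval 1
  rw [hΛ1, d1, d2, d3, d4, d5, d6, d7, d8] at e1
  have e1n : 15 = m (principalChar G) + 15 * m T.b.χ1 + 6 * m T.b.χ2 + 10 * m T.b.θ + 10 * m T.b.θ' +
      14 * m T.α + 14 * m T.α' + 21 * m T.β + 35 * m T.γ := by
    have : ((15 : ℕ) : ℂ) = ((m (principalChar G) + 15 * m T.b.χ1 + 6 * m T.b.χ2 + 10 * m T.b.θ +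
        10 * m T.b.θ' + 14 * m T.α + 14 * m T.α' + 21 * m T.β + 35 * m T.γ : ℕ) : ℂ) := by
      push_cast
      push_cast at e1
      linear_combination e1
    exact Nat.cast_injective this
  -- the multiplicity of the principal character
  obtain ⟨s, hs2⟩ := sym2_inner_nat h6ch (principalChar G).2
  have hm1 := S7B.mult_one_le h6irr (hm (principalChar G)) hs2
  -- the equation at an involution
  obtain ⟨t, ht⟩ : ∃ t : G, orderOf t = 2 := by
    haveI : Fact (Nat.Prime 2) := ⟨Nat.prime_two⟩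
    apply exists_prime_orderOf_dvd_card' (G := G) 2
    rw [hG]; norm_num
  obtain ⟨-, v1, v2, v3, v4, v5, v6, v7, v8⟩ := invol_values hs hG h7 h5 T ht
  have htt : t * t = 1 := by
    rw [← pow_two, ← ht]; exact pow_orderOf_eq_one t
  have hΛt : lam2 (T.b.χ2 : G → ℂ) t = -1 := by
    simp only [lam2, htt, v2, d2]; norm_num
  have e2 := hval t
  rw [hΛt, v1, v2, v3, v4, v5, v6, v7, v8] at e2
  have e2z : (-1 : ℤ) = (m (principalChar G) : ℤ) - m T.b.χ1 + 2 * m T.b.χ2 - 2 * m T.b.θ - 2 * m T.b.θ' +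
      2 * m T.α + 2 * m T.α' + m T.β - m T.γ := by
    have : ((-1 : ℤ) : ℂ) = (((m (principalChar G) : ℤ) - m T.b.χ1 + 2 * m T.b.χ2 - 2 * m T.b.θ - 2 * m T.b.θ' +
        2 * m T.α + 2 * m T.α' + m T.β - m T.γ : ℤ) : ℂ) := by
      push_cast
      linear_combination e2
    exact Int.cast_injective this
  -- solve
  have s8 : m T.γ = 0 := by omega
  have s7 : m T.β = 0 := by omega
  have b0 : m (principalChar G) ≤ 1 := by omega
  have b1 : m T.b.χ1 ≤ 1 := by omega
  have b2 : m T.b.χ2 ≤ 2 := by omega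
  have b3 : m T.b.θ ≤ 1 := by omega
  have b4 : m T.b.θ' ≤ 1 := by omega
  have b5 : m T.α ≤ 1 := by omega
  have b6 : m T.α' ≤ 1 := by omega
  have key : m T.b.χ1 = 1 ∧ m (principalChar G) = 0 ∧ m T.b.χ2 = 0 ∧ m T.b.θ = 0 ∧ m T.b.θ' = 0 ∧
      m T.α = 0 ∧ m T.α' = 0 := by
    generalize m (principalChar G) = x0 at *
    generalize m T.b.χ1 = x1 at *
    generalize m T.b.χ2 = x2 at *
    generalize m T.b.θ = x3 at *
    generalize m T.b.θ' = x4 at *
    generalize m T.α = x5 at *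
    generalize m T.α' = x6 at *
    clear hval hm hexp
    interval_cases x0 <;> interval_cases x1 <;> interval_cases x2 <;> interval_cases x3 <;>
      interval_cases x4 <;> interval_cases x5 <;> interval_cases x6 <;> omega
  obtain ⟨s1, s0, s2, s3, s4, s5, s6⟩ := key
  rw [hval g, s0, s1, s2, s3, s4, s5, s6, s7, s8]
  push_cast
  ring

end Cfsg.Agent.Helper28.A7U
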