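import Mathlib
import Cfsg.Prelude.Def_Blocks
import Cfsg.Agent.Lib.Helper24.CharLinear
import Cfsg.Agent.Lib.Helper24.CharBasic
import Cfsg.Agent.Lib.Helper24.CharComplete
import Cfsg.Agent.Lib.Helper24.CharHom
import Cfsg.Agent.Lib.Helper16.ITODefs
import Cfsg.Agent.Lib.Helper24.M11T6
import Cfsg.Agent.Lib.Helper25.M11T7
import Cfsg.Agent.Lib.Helper28.A7Defs
import Cfsg.Agent.Lib.Helper28.A7UG2
import Cfsg.Agent.Lib.Helper28.A7UV4

/-!
# S0984, piece V5 (helper25): `χ6(x) ∈ {0, 3}` for every element `x` of order `3`.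
-/

set_option autoImplicit false
set_option linter.unusedSectionVars false
set_option linter.unusedVariables false
set_option linter.style.haveILetI false

namespace Cfsg.Agent.Helper28.A7U

open scoped ComplexConjugate
open Cfsg Cfsg.Agent.Helper24

universe u

namespace V5

variable {G : Type u} [Group G] [Fintype G]

theorem charDegree_principal : charDegree (principalChar G : G → ℂ) = 1 := by
  have h := irr_one_eq_charDegree (principalChar G).2
  have h1 : (principalChar G : G → ℂ) 1 = 1 := rfl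
  rw [h1] at h
  exact_mod_cast h.symm

/-- `χ6` is the only irreducible character of degree `6` -/
theorem eq_of_deg6 {P Q : Subgroup G} (T : CT7 P Q) (ψ : IrrCharacter G)
    (h : charDegree (ψ : G → ℂ) = 6) : ψ = T.b.χ2 := by
  have hall := T.all ψ
  simp only [List.mem_cons, List.not_mem_nil, or_false] at hall
  rcases hall with h1 | h1 | h1 | h1 | h1 | h1 | h1 | h1 | h1
  · rw [h1, charDegree_principal] at h; omega
  · rw [h1, T.b.deg1] at h; omega
  · exact h1
  · rw [h1, T.b.degθ] at h; omega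
  · rw [h1, T.b.degθ'] at h; omega
  · rw [h1, T.degα] at h; omega
  · rw [h1, T.degα'] at h; omega
  · rw [h1, T.degβ] at h; omega
  · rw [h1, T.degγ] at h; omega

/-- in a simple group an irreducible character of degree `≥ 2` is faithful -/
theorem eq_one_of_value_eq (hs : IsSimpleGroup G) (χ : IrrCharacter G)
    (hd : 2 ≤ charDegree (χ : G → ℂ)) {t : G} (ht : (χ : G → ℂ) t = (χ : G → ℂ) 1) : t = 1 := by
  have hχ := isCharacter_of_isIrrCharacter χ.2
  haveI := charKer_normal hχ
  rcases hs.eq_bot_or_eq_top_of_normal (charKer hχ) inferInstance with h | h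
  · have : t ∈ charKer hχ := (mem_charKer hχ t).2 ht
    rw [h] at this
    exact Subgroup.mem_bot.1 this
  · exfalso
    have hall : ∀ g : G, (χ : G → ℂ) g = (χ : G → ℂ) 1 := by
      intro g
      have : g ∈ charKer hχ := by rw [h]; exact Subgroup.mem_top g
      exact (mem_charKer hχ g).1 this
    obtain ⟨n, ρ, hirr, hchar⟩ := χ.2
    have h1 := irr_one_eq_charDegree χ.2
    have hn : n = charDegree (χ : G → ℂ) := by
      have h2' : ρ.character 1 = (n : ℂ) := by
        rw [Representation.char_one]; simp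
      rw [hchar, h1] at h2'
      exact_mod_cast h2'.symm
    have hn2 : 2 ≤ n := by omega
    have hone : ∀ g : G, ρ g = 1 := by
      intro g
      have hg := hall g
      rw [← hchar, Representation.char_one] at hg
      exact (char_eq_finrank_iff ρ g).1 hg
    have hv : (fun _ : Fin n => (1 : ℂ)) ≠ 0 := by
      intro h0
      have := congrFun h0 ⟨0, by omega⟩
      simp at this
    exact not_all_fix' hn2 ρ hirr _ hv (fun g => by rw [hone g]; rfl)

end V5

section Values

variable {G : Type u} [Group G] [Fintype G]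

/-- PIECE V5: `χ6(x) ∈ {0, 3}` for every element `x` of order `3`. -/
theorem ord3_chi6 (hs : IsSimpleGroup G) (hG : Nat.card G = 2520)
    (h7 : ∀ P : Sylow 7 G, Subgroup.centralizer ((P : Subgroup G) : Set G) = (P : Subgroup G))
    (h5 : ∀ Q : Sylow 5 G, Subgroup.centralizer ((Q : Subgroup G) : Set G) = (Q : Subgroup G))
    {P Q : Subgroup G} (T : CT7 P Q) {x : G} (hx : orderOf x = 3) :
    (T.b.χ2 : G → ℂ) x = 0 ∨ (T.b.χ2 : G → ℂ) x = 3 := by
  classical
  have hx1 : x ≠ 1 := by
    intro h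
    rw [h, orderOf_one] at hx
    omega
  have hreg7 : ¬ 7 ∣ orderOf x := by rw [hx]; norm_num
  have hχ6 := isCharacter_of_isIrrCharacter T.b.χ2.2
  have hθ := isCharacter_of_isIrrCharacter T.b.θ.2
  -- the value is an integer
  obtain ⟨a, ha⟩ := Cfsg.Agent.Helper17.M11.int_of_unique T.b.χ2 x (by
    intro ψ hψ k
    rw [V5.eq_of_deg6 T ψ (hψ.trans T.b.deg2)])
  have h3 : (3 : ℤ) ∣ a - 6 := by
    have := Cfsg.Agent.Helper17.M11.mod_three hχ6 hx ha
    rwa [T.b.deg2] at this
  have hbound : |a| ≤ 6 := by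
    have h1 := norm_le_charDegree hχ6 x
    rw [ha, T.b.deg2, Complex.norm_intCast] at h1
    exact_mod_cast h1
  have hχ1 : (T.b.χ2 : G → ℂ) 1 = 6 := by
    rw [irr_one_eq_charDegree T.b.χ2.2, T.b.deg2]; norm_num
  have hθ1 : (T.b.θ : G → ℂ) 1 = 10 := by
    rw [irr_one_eq_charDegree T.b.θ.2, T.b.degθ]; norm_num
  have ha6 : a ≠ 6 := by
    intro h
    apply hx1
    apply V5.eq_one_of_value_eq hs T.b.χ2 (by rw [T.b.deg2]; norm_num)
    rw [ha, hχ1, h]
    norm_num
  -- the value at `x * x = x⁻¹`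
  have hxx : x * x = x⁻¹ := by
    have h3' : x ^ 3 = 1 := by rw [← hx]; exact pow_orderOf_eq_one x
    rw [eq_inv_iff_mul_eq_one, ← pow_two, ← pow_succ]
    exact h3'
  have hval2 : (T.b.χ2 : G → ℂ) (x * x) = (a : ℂ) := by
    rw [hxx, irr_inv hχ6, ha, map_intCast]
  -- `χ15(x)` and `θ(x)`
  have h15 : (T.b.χ1 : G → ℂ) x = ((a : ℂ) ^ 2 - (a : ℂ)) / 2 := by
    rw [← lam2_chi6 hs hG h7 h5 T x]
    unfold Cfsg.Agent.Helper16.ITO.lam2
    rw [ha, hval2]
  have hrel := T.b.rel x hreg7
  have hθx : (T.b.θ : G → ℂ) x = 1 + ((a : ℂ) ^ 2 - (a : ℂ)) / 2 - (a : ℂ) := by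
    rw [h15, ha] at hrel
    push_cast at hrel
    linear_combination -hrel
  -- the four cases
  have hcases : a = -6 ∨ a = -3 ∨ a = 0 ∨ a = 3 := by
    obtain ⟨k, hk⟩ := h3
    have h1 := abs_le.1 hbound
    have : -4 ≤ k ∧ k ≤ 0 := by constructor <;> omega
    obtain ⟨hk1, hk2⟩ := this
    interval_cases k <;> omega
  rcases hcases with h | h | h | h
  · exfalso
    have h28 : (T.b.θ : G → ℂ) x = 28 := by
      rw [hθx, h]; push_cast; norm_num
    have h1 := norm_le_charDegree hθ x
    rw [h28, T.b.degθ] at h1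
    norm_num at h1
  · exfalso
    apply hx1
    apply V5.eq_one_of_value_eq hs T.b.θ (by rw [T.b.degθ]; norm_num)
    rw [hθx, hθ1, h]; push_cast; norm_num
  · left
    rw [ha, h]; norm_num
  · right
    rw [ha, h]; norm_num

end Values

end Cfsg.Agent.Helper28.A7U
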