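import Mathlib
import Cfsg.Prelude.Def_Blocks
import Cfsg.Agent.Lib.Helper24.CharLinear
import Cfsg.Agent.Lib.Helper24.CharComplete
import Cfsg.Agent.Lib.Helper28.A7Defs
import Cfsg.Agent.Lib.Helper28.A7UG1
import Cfsg.Agent.Lib.Helper28.A7UV5

/-!
# S0984, piece V6 (helper25): there is an element `z` of order `3` (in `N_G(P)`, `P` a Sylow
`7`-subgroup) with `χ6(z) = 0`.
-/

set_option autoImplicit false
set_option linter.unusedSectionVars false
set_option linter.unusedVariables false
set_option linter.style.haveILetI false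

namespace Cfsg.Agent.Helper28.A7U

open scoped ComplexConjugate
open Cfsg Cfsg.Agent.Helper24

universe u

namespace V6

variable {G : Type u} [Group G] [Fintype G]

/-- a `finsum` over a subgroup as a `Finset.sum` -/
theorem finsum_mem_subgroup [DecidableEq G] (S : Subgroup G) [DecidablePred (· ∈ S)] (f : G → ℂ) :
    ∑ᶠ x ∈ (S : Set G), f x = ∑ x ∈ Finset.univ.filter (· ∈ S), f x := by
  have : (S : Set G) = ↑(Finset.univ.filter (· ∈ S)) := by
    ext x
    simp
  rw [this, finsum_mem_coe_finset]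

/-- the elements of `N(P) ∖ P` have order `3` -/
theorem orderOf_eq_three (P : Sylow 7 G) (hP : Nat.card (P : Subgroup G) = 7)
    (hC : Subgroup.centralizer ((P : Subgroup G) : Set G) = (P : Subgroup G))
    (hN : Nat.card (Subgroup.normalizer ((P : Subgroup G) : Set G)) = 21) {g : G}
    (hg : g ∈ Subgroup.normalizer ((P : Subgroup G) : Set G)) (hgP : g ∉ (P : Subgroup G)) :
    orderOf g = 3 := by
  have hdvd : orderOf g ∣ 21 := by
    have := Subgroup.orderOf_dvd_natCard _ hg
    rwa [hN] at this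
  have hcases : orderOf g = 1 ∨ orderOf g = 3 ∨ orderOf g = 7 ∨ orderOf g = 21 := by
    have hle : orderOf g ≤ 21 := Nat.le_of_dvd (by norm_num) hdvd
    have hpos : 0 < orderOf g := Nat.pos_of_dvd_of_pos hdvd (by norm_num)
    generalize orderOf g = m at hdvd hle hpos
    interval_cases m <;> omega
  -- an element of `N(P)` of order `7` lies in `P`
  have key : ∀ y : G, y ∈ Subgroup.normalizer ((P : Subgroup G) : Set G) → orderOf y = 7 →
      y ∈ (P : Subgroup G) := by
    intro y hyN hy7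
    have hpg : IsPGroup 7 (Subgroup.zpowers y) := by
      apply IsPGroup.of_card (n := 1)
      rw [Nat.card_zpowers, hy7, pow_one]
    have hinf := hpg.inf_normalizer_sylow P
    have hmem : y ∈ Subgroup.zpowers y ⊓ Subgroup.normalizer ((P : Subgroup G) : Set G) :=
      ⟨Subgroup.mem_zpowers _, hyN⟩
    exact ((SetLike.ext_iff.1 hinf y).1 hmem).2
  rcases hcases with h | h | h | h
  · exfalso
    rw [orderOf_eq_one_iff] at h
    rw [h] at hgP
    exact hgP (one_mem _)
  · exact h
  · exact absurd (key g hg h) hgP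
  · exfalso
    have hy7 : orderOf (g ^ 3) = 7 := by
      rw [orderOf_pow' g (by norm_num : (3 : ℕ) ≠ 0), h]
      rfl
    have hyN : g ^ 3 ∈ Subgroup.normalizer ((P : Subgroup G) : Set G) := Subgroup.pow_mem _ hg 3
    have hyP := key _ hyN hy7
    have hPeq : (P : Subgroup G) = Subgroup.zpowers (g ^ 3) := by
      symm
      apply Subgroup.eq_of_le_of_card_ge (Subgroup.zpowers_le.2 hyP)
      rw [hP, Nat.card_zpowers, hy7]
    have hgC : g ∈ Subgroup.centralizer ((P : Subgroup G) : Set G) := by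
      rw [Subgroup.mem_centralizer_iff]
      intro z hz
      rw [SetLike.mem_coe, hPeq] at hz
      obtain ⟨k, rfl⟩ := Subgroup.mem_zpowers_iff.1 hz
      exact (((Commute.refl g).pow_left 3).zpow_left k).eq
    rw [hC] at hgC
    exact hgP hgC

end V6

section Values

variable {G : Type u} [Group G] [Fintype G]

/-- PIECE V6: there is an element `z` of order `3` with `χ6(z) = 0`. -/
theorem exists_z (hs : IsSimpleGroup G) (hG : Nat.card G = 2520)
    (h7 : ∀ P : Sylow 7 G, Nat.card (P : Subgroup G) = 7 ∧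
      Subgroup.centralizer ((P : Subgroup G) : Set G) = (P : Subgroup G) ∧
      (Subgroup.centralizer ((P : Subgroup G) : Set G)).relIndex
        (Subgroup.normalizer ((P : Subgroup G) : Set G)) = 3)
    (h5 : ∀ Q : Sylow 5 G, Subgroup.centralizer ((Q : Subgroup G) : Set G) = (Q : Subgroup G))
    (P : Sylow 7 G) {Q : Subgroup G} (T : CT7 (P : Subgroup G) Q) :
    ∃ z : G, orderOf z = 3 ∧ (T.b.χ2 : G → ℂ) z = 0 := by
  classical
  obtain ⟨hP, hC, hrel⟩ := h7 P
  have h7' : ∀ P : Sylow 7 G, Subgroup.centralizer ((P : Subgroup G) : Set G) = (P : Subgroup G) :=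
    fun P => (h7 P).2.1
  set N := Subgroup.normalizer ((P : Subgroup G) : Set G) with hNdef
  have hPN : (P : Subgroup G) ≤ N := Subgroup.le_normalizer
  -- `|N| = 21`
  have hN : Nat.card N = 21 := by
    have h1 := Subgroup.relIndex_mul_relIndex (⊥ : Subgroup G)
      (Subgroup.centralizer ((P : Subgroup G) : Set G)) N bot_le
      (Subgroup.centralizer_le_normalizer ..)
    rw [Subgroup.relIndex_bot_left, Subgroup.relIndex_bot_left, hrel, hC, hP] at h1
    omega
  -- the representation
  obtain ⟨n, ρ, hirr, hchar⟩ := T.b.χ2.2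
  have htr : ∀ g : G, LinearMap.trace ℂ (Fin n → ℂ) (ρ g) = (T.b.χ2 : G → ℂ) g := fun g => by
    rw [← hchar]; rfl
  have hχ1 : (T.b.χ2 : G → ℂ) 1 = 6 := by
    rw [irr_one_eq_charDegree T.b.χ2.2, T.b.deg2]; norm_num
  have hvalP : ∀ a ∈ (P : Subgroup G), a ≠ 1 → (T.b.χ2 : G → ℂ) a = -1 := by
    intro a ha ha1
    rw [T.b.val2 a ha ha1]
    norm_num
  obtain ⟨mU, mB, hU, hB, hle, -, -⟩ := fix_sub ρ (P : Subgroup G) N hPN
  set FP : Finset G := Finset.univ.filter (· ∈ (P : Subgroup G)) with hFP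
  set FN : Finset G := Finset.univ.filter (· ∈ N) with hFN
  have hFPcard : FP.card = 7 := by
    rw [← hP, Nat.card_eq_fintype_card]
    exact (Fintype.card_of_subtype FP (fun x => by simp [hFP])).symm
  -- the sum over `P` vanishes
  have hsumP : ∑ x ∈ FP, (T.b.χ2 : G → ℂ) x = 0 := by
    have hterm : ∀ x ∈ FP, (T.b.χ2 : G → ℂ) x = (if x = 1 then (7 : ℂ) else 0) + (-1) := by
      intro x hx
      have hxP : x ∈ (P : Subgroup G) := by simpa [hFP] using hx
      by_cases hx1 : x = 1
      · rw [if_pos hx1, hx1, hχ1]; norm_num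
      · rw [if_neg hx1, hvalP x hxP hx1]; norm_num
    rw [Finset.sum_congr rfl hterm, Finset.sum_add_distrib, Finset.sum_ite_eq' FP (1 : G),
      if_pos (by simp [hFP]), Finset.sum_const, hFPcard]
    norm_num
  have hmU : mU = 0 := by
    have e1 : ∑ᶠ u ∈ ((P : Subgroup G) : Set G), LinearMap.trace ℂ (Fin n → ℂ) (ρ u) =
        ∑ x ∈ FP, (T.b.χ2 : G → ℂ) x := by
      rw [V6.finsum_mem_subgroup]
      exact Finset.sum_congr rfl (fun x _ => htr x)
    rw [e1, hsumP, hP] at hU
    have h0 : (mU : ℂ) = 0 := by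
      have := hU.symm
      rcases mul_eq_zero.1 this with h | h
      · exact h
      · norm_num at h
    exact_mod_cast h0
  have hmB : mB = 0 := by omega
  have hsumN : ∑ x ∈ FN, (T.b.χ2 : G → ℂ) x = 0 := by
    have e1 : ∑ᶠ u ∈ (N : Set G), LinearMap.trace ℂ (Fin n → ℂ) (ρ u) =
        ∑ x ∈ FN, (T.b.χ2 : G → ℂ) x := by
      rw [V6.finsum_mem_subgroup]
      exact Finset.sum_congr rfl (fun x _ => htr x)
    rw [e1, hmB] at hB
    rw [hB]; simp
  -- split off `P`
  have hsplit := Finset.sum_filter_add_sum_filter_not FN (· ∈ (P : Subgroup G))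
    (fun x => (T.b.χ2 : G → ℂ) x)
  have hFNP : FN.filter (· ∈ (P : Subgroup G)) = FP := by
    ext x
    simp only [hFN, hFP, Finset.mem_filter, Finset.mem_univ, true_and]
    exact ⟨fun h => h.2, fun h => ⟨hPN h, h⟩⟩
  rw [hFNP, hsumP, zero_add, hsumN] at hsplit
  have hnonneg : ∀ x ∈ FN.filter (fun x => ¬ x ∈ (P : Subgroup G)),
      0 ≤ ((T.b.χ2 : G → ℂ) x).re := by
    intro x hx
    simp only [hFN, Finset.mem_filter, Finset.mem_univ, true_and] at hx
    have hx3 := V6.orderOf_eq_three P hP hC hN hx.1 hx.2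
    rcases ord3_chi6 hs hG h7' h5 T hx3 with h | h <;> rw [h] <;> simp
  have hre : ∑ x ∈ FN.filter (fun x => ¬ x ∈ (P : Subgroup G)),
      ((T.b.χ2 : G → ℂ) x).re = 0 := by
    rw [← Complex.re_sum, hsplit]; simp
  -- an element of `N ∖ P`
  haveI : Fact (Nat.Prime 3) := ⟨by norm_num⟩
  obtain ⟨z, hz⟩ := exists_prime_orderOf_dvd_card' (G := N) 3 (by rw [hN]; norm_num)
  have hz3 : orderOf (z : G) = 3 := by rw [Subgroup.orderOf_coe]; exact hz
  have hzP : (z : G) ∉ (P : Subgroup G) := by
    intro h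
    have := Subgroup.orderOf_dvd_natCard _ h
    rw [hP, hz3] at this
    norm_num at this
  have hzmem : (z : G) ∈ FN.filter (fun x => ¬ x ∈ (P : Subgroup G)) := by
    simp only [hFN, Finset.mem_filter, Finset.mem_univ, true_and]
    exact ⟨z.2, hzP⟩
  have hz0 := (Finset.sum_eq_zero_iff_of_nonneg hnonneg).1 hre (z : G) hzmem
  refine ⟨(z : G), hz3, ?_⟩
  rcases ord3_chi6 hs hG h7' h5 T hz3 with h | h
  · exact h
  · rw [h] at hz0
    norm_num at hz0

end Values

end Cfsg.Agent.Helper28.A7U
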