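import Mathlib
import Cfsg.Prelude.Def_Blocks
import Cfsg.Agent.Lib.Helper24.CharLinear
import Cfsg.Agent.Lib.Helper24.CharComplete
import Cfsg.Agent.Lib.Helper16.ITODefs
import Cfsg.Agent.Lib.Helper18.GaloisConj
import Cfsg.Agent.Lib.Helper23.ClassConst
import Cfsg.Agent.Lib.Helper24.M11T6
import Cfsg.Agent.Lib.Helper25.M11T7
import Cfsg.Agent.Lib.Helper28.A7Defs
import Cfsg.Agent.Lib.Helper28.A7UV4
import Cfsg.Agent.Lib.Helper28.A7UV5

/-! # S0984, piece V8 (helper28): the sum of `χ6` over a Sylow `3`-subgroup containing `z` with `χ6(z) = 0` is `18` -/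

set_option autoImplicit false
set_option linter.unusedSectionVars false
set_option linter.unusedVariables false

namespace Cfsg.Agent.Helper28.A7U

open scoped ComplexConjugate
open Cfsg Cfsg.Agent.Helper24

universe u

variable {G : Type u} [Group G] [Fintype G]

namespace V8

/-- uniqueness of the irreducible character of degree `6` -/
theorem eq_chi6 {P Q : Subgroup G} (T : CT7 P Q) (ψ : IrrCharacter G)
    (h : charDegree (ψ : G → ℂ) = 6) : ψ = T.b.χ2 := by
  have hall := T.all ψ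
  have hdeg₀ : charDegree ((principalChar G : IrrCharacter G) : G → ℂ) = 1 := by
    apply charDegree_natCast 1
    simp [principalChar]
  simp only [List.mem_cons, List.not_mem_nil, or_false] at hall
  rcases hall with rfl | rfl | rfl | rfl | rfl | rfl | rfl | rfl | rfl
  · rw [hdeg₀] at h; omega
  · rw [T.b.deg1] at h; omega
  · rfl
  · rw [T.b.degθ] at h; omega
  · rw [T.b.degθ'] at h; omega
  · rw [T.degα] at h; omega
  · rw [T.degα'] at h; omega
  · rw [T.degβ] at h; omega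
  · rw [T.degγ] at h; omega

/-- `χ6` is invariant under the power maps prime to the group order -/
theorem chi6_pow (hG : Nat.card G = 2520) {P Q : Subgroup G} (T : CT7 P Q) {j : ℕ}
    (hj : Nat.Coprime 2520 j) (g : G) :
    (T.b.χ2 : G → ℂ) (g ^ j) = (T.b.χ2 : G → ℂ) g := by
  set ψ : IrrCharacter G := ⟨fun x => (T.b.χ2 : G → ℂ) (x ^ j),
    Cfsg.Agent.Helper18.isIrrCharacter_comp_pow T.b.χ2.2 (by rw [hG]; exact hj)⟩ with hψ
  have hdeg : charDegree (ψ : G → ℂ) = 6 := by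
    unfold charDegree
    show ⌊((T.b.χ2 : G → ℂ) (1 ^ j)).re⌋₊ = _
    rw [one_pow]
    exact T.b.deg2
  have := eq_chi6 T ψ hdeg
  exact congrFun (congrArg Subtype.val this) g

/-- `χ6` is integer valued -/
theorem chi6_int {P Q : Subgroup G} (T : CT7 P Q) (g : G) :
    ∃ n : ℤ, (T.b.χ2 : G → ℂ) g = (n : ℂ) := by
  apply Cfsg.Agent.Helper17.M11.int_of_unique T.b.χ2 g
  intro ψ hψ k
  rw [eq_chi6 T ψ (hψ.trans T.b.deg2)]

theorem arith {n m : ℤ} (h : 15 + 3 * (n * n) - 3 * n = 9 * m) : False := by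
  have hmod : (n * n) % 3 = (n % 3) * (n % 3) % 3 := Int.mul_emod n n 3
  have h1 : n % 3 = 0 ∨ n % 3 = 1 ∨ n % 3 = 2 := by omega
  rcases h1 with h1 | h1 | h1 <;> rw [h1] at hmod <;> norm_num at hmod <;> omega

set_option maxHeartbeats 1600000 in
/-- a Sylow `3`-subgroup containing `z` is not cyclic -/
theorem not_cyclic (hs : IsSimpleGroup G) (hG : Nat.card G = 2520)
    (h7 : ∀ P : Sylow 7 G, Subgroup.centralizer ((P : Subgroup G) : Set G) = (P : Subgroup G))
    (h5 : ∀ Q : Sylow 5 G, Subgroup.centralizer ((Q : Subgroup G) : Set G) = (Q : Subgroup G))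
    {P Q : Subgroup G} (T : CT7 P Q) {w z : G} (hw : orderOf w = 9) (hz : orderOf z = 3)
    (hzw : z ∈ Subgroup.zpowers w) (hz0 : (T.b.χ2 : G → ℂ) z = 0) : False := by
  classical
  have hχ := isCharacter_of_isIrrCharacter T.b.χ2.2
  have hw9 : w ^ 9 = 1 := by rw [← hw]; exact pow_orderOf_eq_one w
  have hz3 : z ^ 3 = 1 := by rw [← hz]; exact pow_orderOf_eq_one z
  have hz1 : z ≠ 1 := by
    intro h
    rw [h, orderOf_one] at hz
    norm_num at hz
  have hzinv : (T.b.χ2 : G → ℂ) z⁻¹ = 0 := by rw [irr_inv hχ, hz0, map_zero]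
  have hzi : z⁻¹ = z ^ 2 := by
    rw [inv_eq_iff_mul_eq_one, ← pow_succ']
    exact hz3
  -- `z = w ^ 3` or `z = w ^ 6`
  rw [mem_zpowers_iff_mem_range_orderOf, hw] at hzw
  simp only [Finset.mem_image, Finset.mem_range] at hzw
  obtain ⟨k, hk, hkz⟩ := hzw
  have h3k : w ^ (3 * k) = 1 := by
    rw [mul_comm, pow_mul, hkz, hz3]
  have hdvd : 9 ∣ 3 * k := by
    rw [← hw]; exact orderOf_dvd_of_pow_eq_one h3k
  have hk0 : k ≠ 0 := by
    intro h
    rw [h, pow_zero] at hkz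
    exact hz1 hkz.symm
  have hw36 : (T.b.χ2 : G → ℂ) (w ^ 3) = 0 ∧ (T.b.χ2 : G → ℂ) (w ^ 6) = 0 := by
    have hk36 : k = 3 ∨ k = 6 := by omega
    rcases hk36 with rfl | rfl
    · refine ⟨by rw [hkz]; exact hz0, ?_⟩
      have : w ^ 6 = z⁻¹ := by rw [hzi, ← hkz, ← pow_mul]
      rw [this]; exact hzinv
    · refine ⟨?_, by rw [hkz]; exact hz0⟩
      have : w ^ 3 = z⁻¹ := by
        rw [hzi, ← hkz, ← pow_mul]
        have : w ^ (6 * 2) = w ^ 9 * w ^ 3 := by rw [← pow_add]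
        rw [this, hw9, one_mul]
      rw [this]; exact hzinv
  obtain ⟨h3, h6⟩ := hw36
  obtain ⟨n, hn⟩ := chi6_int T w
  have hred : ∀ a b : ℕ, a = 9 + b → w ^ a = w ^ b := by
    intro a b hab
    rw [hab, pow_add, hw9, one_mul]
  have e2 : (T.b.χ2 : G → ℂ) (w ^ 2) = (n : ℂ) := by
    rw [← hred 11 2 rfl, chi6_pow hG T (by norm_num) w, hn]
  have e4 : (T.b.χ2 : G → ℂ) (w ^ 4) = (n : ℂ) := by
    rw [← hred 13 4 rfl, chi6_pow hG T (by norm_num) w, hn]
  have e5 : (T.b.χ2 : G → ℂ) (w ^ 5) = (n : ℂ) := by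
    rw [← hred 14 5 rfl, ← hred 23 14 rfl, chi6_pow hG T (by norm_num) w, hn]
  have e7 : (T.b.χ2 : G → ℂ) (w ^ 7) = (n : ℂ) := by
    rw [← hred 16 7 rfl, ← hred 25 16 rfl, ← hred 34 25 rfl, ← hred 43 34 rfl,
      chi6_pow hG T (by norm_num) w, hn]
  have e8 : (T.b.χ2 : G → ℂ) (w ^ 8) = (n : ℂ) := by
    rw [← hred 17 8 rfl, chi6_pow hG T (by norm_num) w, hn]
  -- the values of `χ15`
  have hlam : ∀ g : G, (T.b.χ1 : G → ℂ) g =
      ((T.b.χ2 : G → ℂ) g ^ 2 - (T.b.χ2 : G → ℂ) (g * g)) / 2 := by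
    intro g
    rw [← lam2_chi6 hs hG h7 h5 T g]
    rfl
  have hsq : ∀ i : ℕ, w ^ i * w ^ i = w ^ (2 * i) := fun i => by rw [← pow_add, two_mul]
  have d0 : (T.b.χ1 : G → ℂ) (w ^ 0) = 15 := by
    rw [pow_zero, irr_one_eq_charDegree T.b.χ1.2, T.b.deg1]; norm_num
  have d1 : (T.b.χ1 : G → ℂ) (w ^ 1) = ((n : ℂ) ^ 2 - n) / 2 := by
    rw [hlam, hsq, pow_one, hn, e2]
  have d2 : (T.b.χ1 : G → ℂ) (w ^ 2) = ((n : ℂ) ^ 2 - n) / 2 := by
    rw [hlam, hsq, e2, e4]
  have d3 : (T.b.χ1 : G → ℂ) (w ^ 3) = 0 := by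
    rw [hlam, hsq, h3, h6]; norm_num
  have d4 : (T.b.χ1 : G → ℂ) (w ^ 4) = ((n : ℂ) ^ 2 - n) / 2 := by
    rw [hlam, hsq, e4, e8]
  have d5 : (T.b.χ1 : G → ℂ) (w ^ 5) = ((n : ℂ) ^ 2 - n) / 2 := by
    rw [hlam, hsq, e5, hred (2 * 5) 1 rfl, pow_one, hn]
  have d6 : (T.b.χ1 : G → ℂ) (w ^ 6) = 0 := by
    rw [hlam, hsq, h6, hred (2 * 6) 3 rfl, h3]; norm_num
  have d7 : (T.b.χ1 : G → ℂ) (w ^ 7) = ((n : ℂ) ^ 2 - n) / 2 := by
    rw [hlam, hsq, e7, hred (2 * 7) 5 rfl, e5]
  have d8 : (T.b.χ1 : G → ℂ) (w ^ 8) = ((n : ℂ) ^ 2 - n) / 2 := by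
    rw [hlam, hsq, e8, hred (2 * 8) 7 rfl, e7]
  haveI : Fintype (Subgroup.zpowers w) := Fintype.ofFinite _
  obtain ⟨m, hm⟩ := Cfsg.Agent.Helper23.sum_char_subgroup' (T.b.χ1 : G → ℂ)
    (isCharacter_of_isIrrCharacter T.b.χ1.2) (Subgroup.zpowers w)
  rw [Cfsg.Agent.Helper17.M11.T7.sum_zpowers_range, hw, Nat.card_zpowers, hw] at hm
  simp only [Finset.sum_range_succ, Finset.sum_range_zero, zero_add] at hm
  rw [d0, d1, d2, d3, d4, d5, d6, d7, d8] at hm
  have hZ : (15 + 3 * (n * n) - 3 * n : ℤ) = 9 * (m : ℤ) := by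
    have : ((15 + 3 * (n * n) - 3 * n : ℤ) : ℂ) = ((9 * (m : ℤ) : ℤ) : ℂ) := by
      push_cast
      push_cast at hm
      linear_combination hm
    exact_mod_cast this
  exact arith hZ

end V8

set_option maxHeartbeats 1600000 in
theorem sylow3_sum (hs : IsSimpleGroup G) (hG : Nat.card G = 2520)
    (h7 : ∀ P : Sylow 7 G, Subgroup.centralizer ((P : Subgroup G) : Set G) = (P : Subgroup G))
    (h5 : ∀ Q : Sylow 5 G, Subgroup.centralizer ((Q : Subgroup G) : Set G) = (Q : Subgroup G))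
    {P Q : Subgroup G} (T : CT7 P Q) (S : Sylow 3 G) {z : G} (hzS : z ∈ (S : Subgroup G))
    (hz : orderOf z = 3) (hz0 : (T.b.χ2 : G → ℂ) z = 0) :
    ∑ᶠ x ∈ ((S : Subgroup G) : Set G), (T.b.χ2 : G → ℂ) x = 18 := by
  classical
  have hχ := isCharacter_of_isIrrCharacter T.b.χ2.2
  have hS9 : Nat.card (S : Subgroup G) = 9 := by
    rw [Sylow.card_eq_multiplicity, hG]
    have h : (2520 : ℕ) = 3 ^ 2 * 280 := by norm_num
    have hf : (2520 : ℕ).factorization 3 = 2 := by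
      rw [h, Nat.factorization_mul (by norm_num) (by norm_num), Nat.Prime.factorization_pow (by norm_num)]
      have : (280 : ℕ).factorization 3 = 0 := Nat.factorization_eq_zero_of_not_dvd (by norm_num)
      simp [this]
    rw [hf]; norm_num
  have hz1 : z ≠ 1 := by
    intro h
    rw [h, orderOf_one] at hz
    norm_num at hz
  have hzz : z⁻¹ ≠ z := by
    intro h
    have h2 : z ^ 2 = 1 := by
      rw [pow_two]
      nth_rewrite 1 [← h]
      exact inv_mul_cancel z
    have := orderOf_dvd_of_pow_eq_one h2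
    rw [hz] at this
    norm_num at this
  have hzinv : (T.b.χ2 : G → ℂ) z⁻¹ = 0 := by rw [irr_inv hχ, hz0, map_zero]
  -- no element of order `9`
  have hno9 : ∀ w ∈ (S : Subgroup G), orderOf w ≠ 9 := by
    intro w hwS hw
    have heq : Subgroup.zpowers w = (S : Subgroup G) :=
      Subgroup.eq_of_le_of_card_ge (Subgroup.zpowers_le.2 hwS) (by rw [hS9, Nat.card_zpowers, hw])
    exact V8.not_cyclic hs hG h7 h5 T hw hz (by rw [heq]; exact hzS) hz0
  have hord : ∀ x ∈ (S : Subgroup G), x ≠ 1 → orderOf x = 3 := by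
    intro x hx hx1
    have hdvd : orderOf x ∣ 9 := by
      have := Subgroup.orderOf_dvd_natCard (S : Subgroup G) hx
      rwa [hS9] at this
    have hne1 : orderOf x ≠ 1 := fun h => hx1 (orderOf_eq_one_iff.1 h)
    have hne9 := hno9 x hx
    have hle : orderOf x ≤ 9 := Nat.le_of_dvd (by norm_num) hdvd
    have hpos : 0 < orderOf x := Nat.pos_of_dvd_of_pos hdvd (by norm_num)
    generalize orderOf x = o at hdvd hne1 hne9 hle hpos
    interval_cases o <;> omega
  have hval : ∀ x ∈ (S : Subgroup G), x ≠ 1 →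
      (T.b.χ2 : G → ℂ) x = 0 ∨ (T.b.χ2 : G → ℂ) x = 3 :=
    fun x hx hx1 => ord3_chi6 hs hG h7 h5 T (hord x hx hx1)
  have hχ1 : (T.b.χ2 : G → ℂ) 1 = 6 := by
    rw [irr_one_eq_charDegree T.b.χ2.2, T.b.deg2]; norm_num
  -- the finite set of the elements of `S`
  set F : Finset G := Finset.univ.filter (fun x => x ∈ (S : Subgroup G)) with hF
  have hmemF : ∀ x, x ∈ F ↔ x ∈ (S : Subgroup G) := fun x => by simp [hF]
  have hset : ((S : Subgroup G) : Set G) = ↑F := by
    ext x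
    simp [hF]
  rw [hset, finsum_mem_coe_finset]
  haveI : Fintype (S : Subgroup G) := Fintype.ofFinite _
  have hFcard : F.card = 9 := by
    rw [← hS9, Nat.card_eq_fintype_card, Fintype.card_subtype]
  have hsub := Finset.sum_subtype (p := fun x => x ∈ (S : Subgroup G)) (F := inferInstance) F hmemF
    (T.b.χ2 : G → ℂ)
  obtain ⟨m, hm⟩ := Cfsg.Agent.Helper23.sum_char_subgroup' (T.b.χ2 : G → ℂ) hχ (S : Subgroup G)
  rw [hS9] at hm
  have hsum9 : ∑ x ∈ F, (T.b.χ2 : G → ℂ) x = 9 * (m : ℂ) := by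
    rw [hsub]
    exact_mod_cast hm
  -- the elements with value `3`
  set A : Finset G := F.filter (fun x => (T.b.χ2 : G → ℂ) x = 3) with hA
  have hterm : ∀ x ∈ F, (T.b.χ2 : G → ℂ) x =
      (if x = 1 then (6 : ℂ) else 0) + (if (T.b.χ2 : G → ℂ) x = 3 then (3 : ℂ) else 0) := by
    intro x hx
    by_cases hx1 : x = 1
    · rw [if_pos hx1, hx1, hχ1, if_neg (by norm_num), add_zero]
    · rw [if_neg hx1, zero_add]
      rcases hval x ((hmemF x).1 hx) hx1 with h | h
      · rw [h, if_neg (by norm_num)]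
      · rw [h, if_pos rfl]
  have h1F : (1 : G) ∈ F := (hmemF 1).2 (one_mem _)
  have hsumA : ∑ x ∈ F, (T.b.χ2 : G → ℂ) x = 6 + 3 * (A.card : ℂ) := by
    rw [Finset.sum_congr rfl hterm, Finset.sum_add_distrib]
    congr 1
    · rw [Finset.sum_ite_eq' F 1 (fun _ => (6 : ℂ)), if_pos h1F]
    · rw [Finset.sum_ite, Finset.sum_const_zero, add_zero, Finset.sum_const, nsmul_eq_mul, mul_comm]
  -- bounds on `A`
  have hAle : A.card ≤ 6 := by
    have hsubA : A ⊆ F \ {1, z, z⁻¹} := by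
      intro x hx
      rw [hA, Finset.mem_filter] at hx
      rw [Finset.mem_sdiff]
      refine ⟨hx.1, ?_⟩
      simp only [Finset.mem_insert, Finset.mem_singleton, not_or]
      refine ⟨?_, ?_, ?_⟩
      · intro h; rw [h, hχ1] at hx; norm_num at hx
      · intro h; rw [h, hz0] at hx; norm_num at hx
      · intro h; rw [h, hzinv] at hx; norm_num at hx
    have h3sub : ({1, z, z⁻¹} : Finset G) ⊆ F := by
      intro x hx
      simp only [Finset.mem_insert, Finset.mem_singleton] at hx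
      rcases hx with rfl | rfl | rfl
      · exact h1F
      · exact (hmemF _).2 hzS
      · exact (hmemF _).2 (inv_mem hzS)
    have h3card : ({1, z, z⁻¹} : Finset G).card = 3 := by
      rw [Finset.card_insert_of_notMem, Finset.card_insert_of_notMem, Finset.card_singleton]
      · simpa using hzz.symm
      · simp only [Finset.mem_insert, Finset.mem_singleton, not_or]
        exact ⟨fun h => hz1 h.symm, fun h => hz1 (inv_eq_one.mp h.symm)⟩
    have := Finset.card_le_card hsubA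
    rw [Finset.card_sdiff_of_subset h3sub, hFcard, h3card] at this
    exact this
  have hA1 : A.card = 0 ∨ 2 ≤ A.card := by
    rcases Nat.eq_zero_or_pos A.card with h | h
    · exact Or.inl h
    · right
      obtain ⟨x, hx⟩ := Finset.card_pos.1 h
      have hx' := hx
      rw [hA, Finset.mem_filter] at hx'
      have hxS := (hmemF x).1 hx'.1
      have hx1 : x ≠ 1 := by
        intro h1; rw [h1, hχ1] at hx'; norm_num at hx'
      have hxinv : x⁻¹ ∈ A := by
        rw [hA, Finset.mem_filter]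
        refine ⟨(hmemF _).2 (inv_mem hxS), ?_⟩
        rw [irr_inv hχ, hx'.2]
        exact map_ofNat (starRingEnd ℂ) 3
      have hne : x ≠ x⁻¹ := by
        intro h2
        have h3 : x ^ 2 = 1 := by
          rw [pow_two]
          nth_rewrite 1 [h2]
          exact inv_mul_cancel x
        have := orderOf_dvd_of_pow_eq_one h3
        rw [hord x hxS hx1] at this
        norm_num at this
      exact Finset.one_lt_card.2 ⟨x, hx, x⁻¹, hxinv, hne⟩
  have hnat : 6 + 3 * A.card = 9 * m := by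
    have : ((6 + 3 * A.card : ℕ) : ℂ) = ((9 * m : ℕ) : ℂ) := by
      push_cast
      rw [← hsumA, hsum9]
    exact_mod_cast this
  have hA4 : A.card = 4 := by omega
  rw [hsumA, hA4]
  norm_num

end Cfsg.Agent.Helper28.A7U
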