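import Mathlib
import Cfsg.Agent.Lib.Helper24.CharLinear
import Cfsg.Agent.Lib.Helper24.CharComplete
import Cfsg.Agent.Lib.Helper24.CharIntegral
import Cfsg.Agent.Lib.Helper28.A7Defs
import Cfsg.Agent.Lib.Helper18.O2520IDX7
import Cfsg.Agent.Lib.Helper28.A7UAsm1
import Cfsg.Agent.Lib.Helper28.A7UG1
import Cfsg.Agent.Lib.Helper28.A7UG2
import Cfsg.Agent.Lib.Helper28.A7UG3
import Cfsg.Agent.Lib.Helper28.A7UV3
import Cfsg.Agent.Lib.Helper28.A7UV6
import Cfsg.Agent.Lib.Helper28.A7UV7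
import Cfsg.Agent.Lib.Helper28.A7UV8
import Cfsg.Agent.Lib.Helper28.A7UF0
import Cfsg.Agent.Lib.Helper28.A7UF1
import Cfsg.Agent.Lib.Helper28.A7UF3
import Cfsg.Agent.Lib.Helper28.A7UF4
import Cfsg.Agent.Lib.Helper28.A7UF5

/-!
# S0984: final assembly (helper28): a simple group of order 2520 is `A₇`
-/

set_option autoImplicit false
set_option linter.unusedSectionVars false
set_option linter.unusedVariables false

namespace Cfsg.Agent.Helper28.A7U

open scoped ComplexConjugate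
open Cfsg Cfsg.Agent.Helper24

universe u

variable {G : Type u} [Group G] [Fintype G]

/-- the stabilizer of a vector in a representation -/
def vstab {n : ℕ} (ρ : Representation ℂ G (Fin n → ℂ)) (v : Fin n → ℂ) : Subgroup G where
  carrier := {g | ρ g v = v}
  one_mem' := by simp
  mul_mem' := by
    intro a b ha hb
    simp only [Set.mem_ofPred_eq] at ha hb ⊢
    rw [map_mul, Module.End.mul_apply, hb, ha]
  inv_mem' := by
    intro a ha
    simp only [Set.mem_ofPred_eq] at ha ⊢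
    have : ρ a⁻¹ (ρ a v) = v := by
      rw [← Module.End.mul_apply, ← map_mul, inv_mul_cancel, map_one, Module.End.one_apply]
    rw [ha] at this
    exact this

theorem mem_vstab {n : ℕ} (ρ : Representation ℂ G (Fin n → ℂ)) (v : Fin n → ℂ) (g : G) :
    g ∈ vstab ρ v ↔ ρ g v = v := Iff.rfl

/-- ASSEMBLY of Part II (helper28). -/
theorem main_a7 (hs : IsSimpleGroup G) (hG : Nat.card G = 2520)
    (h5 : ∀ Q : Sylow 5 G, Nat.card (Q : Subgroup G) = 5 ∧
      Subgroup.centralizer ((Q : Subgroup G) : Set G) = (Q : Subgroup G) ∧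
      (Subgroup.centralizer ((Q : Subgroup G) : Set G)).relIndex
        (Subgroup.normalizer ((Q : Subgroup G) : Set G)) = 4) :
    Nonempty (G ≃* alternatingGroup (Fin 7)) := by
  classical
  haveI := hs
  have P : Sylow 7 G := default
  have Q : Sylow 5 G := default
  have h7 := fun P : Sylow 7 G => syl7 hs hG P
  obtain ⟨T⟩ := main_ct7 hs hG h5 P Q
  have h7' : ∀ P : Sylow 7 G, Subgroup.centralizer ((P : Subgroup G) : Set G) = (P : Subgroup G) :=
    fun P => (h7 P).2.1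
  have h5' : ∀ Q : Sylow 5 G, Subgroup.centralizer ((Q : Subgroup G) : Set G) = (Q : Subgroup G) :=
    fun Q => (h5 Q).2.1
  obtain ⟨hval5, hN5⟩ := ord5_facts hG h5 Q T
  haveI : Fact (Nat.Prime 2) := ⟨by norm_num⟩
  haveI : Fact (Nat.Prime 5) := ⟨by norm_num⟩
  obtain ⟨t, ht⟩ := exists_prime_orderOf_dvd_card' (G := G) 2 (by rw [hG]; norm_num)
  obtain ⟨u, hu⟩ := exists_prime_orderOf_dvd_card' (G := G) 5 (by rw [hG]; norm_num)
  obtain ⟨z, hz, hz0⟩ := exists_z hs hG h7 h5' P T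
  obtain ⟨c₁, c₂, hprod⟩ := exists_prod hs hG h7' h5' Q T ht hz hz0 hu
  -- the class function property of `χ6`
  have hcl : IsClassFunction G (T.b.χ2 : G → ℂ) := isClassFunction_of_isIrrCharacter T.b.χ2.2
  set t' := c₁ * t * c₁⁻¹ with ht'def
  set z' := c₂ * z * c₂⁻¹ with hz'def
  have ht' : orderOf t' = 2 := by
    rw [ht'def, ← ht]
    exact orderOf_eq_orderOf_iff.2 (fun n => by rw [conj_pow]; exact conj_eq_one_iff)
  have hz' : orderOf z' = 3 := by
    rw [hz'def, ← hz]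
    exact orderOf_eq_orderOf_iff.2 (fun n => by rw [conj_pow]; exact conj_eq_one_iff)
  have hz0' : (T.b.χ2 : G → ℂ) z' = 0 := by rw [hz'def, hcl z c₂, hz0]
  have hpow : (t' * z') ^ 5 = 1 := by rw [hprod, ← hu]; exact pow_orderOf_eq_one u
  obtain ⟨H, hxH, hyH, hH60, hord, hc2, hc3, hc5, hconj2, hconj3, hNH⟩ := a5_structure ht' hz' hpow
  -- the representation
  obtain ⟨n, ρ, hirr, hchar⟩ := T.b.χ2.2
  have h1 := irr_one_eq_charDegree T.b.χ2.2
  have hn : n = 6 := by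
    have h2' : ρ.character 1 = (n : ℂ) := by
      rw [Representation.char_one]; simp
    rw [hchar, h1, T.b.deg2] at h2'
    exact_mod_cast h2'.symm
  subst hn
  have htr : ∀ g : G, LinearMap.trace ℂ (Fin 6 → ℂ) (ρ g) = (T.b.χ2 : G → ℂ) g := fun g => by
    rw [← hchar]; rfl
  have hχ1 : (T.b.χ2 : G → ℂ) 1 = 6 := by rw [h1, T.b.deg2]; norm_num
  -- the sum over `H`
  have hsumH : ∑ᶠ h ∈ (H : Set G), (T.b.χ2 : G → ℂ) h = 60 := by
    rw [sum_by_orders H (T.b.χ2 : G → ℂ) hord hc2 hc3 hc5 (v1 := 6) (v2 := 2) (v3 := 0) (v5 := 1) hχ1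
      (fun h _ ho => (invol_values hs hG h7' h5' T ho).2.2.1)
      (fun h hh ho => by
        rw [classFunction_eq_of_isConj hcl (hconj3 h hh ho)]; exact hz0')
      (fun h _ ho => hval5 h ho)]
    norm_num
  -- a vector fixed by `H`
  obtain ⟨mU, mB, hU, -, -, hex, -⟩ := fix_sub ρ H H le_rfl
  have hmU : mU = 1 := by
    have e1 : ∑ᶠ u ∈ (H : Set G), LinearMap.trace ℂ (Fin 6 → ℂ) (ρ u) =
        ∑ᶠ h ∈ (H : Set G), (T.b.χ2 : G → ℂ) h :=
      finsum_mem_congr rfl (fun x _ => htr x)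
    rw [e1, hsumH, hH60] at hU
    have : ((60 : ℕ) : ℂ) = ((mU * 60 : ℕ) : ℂ) := by push_cast; exact hU
    have := Nat.cast_injective this
    omega
  obtain ⟨v, hv0, hvH⟩ := hex (by rw [hmU]; norm_num)
  -- a Sylow 3-subgroup
  obtain ⟨S, hzS, hS9⟩ := exists_sylow3 hG hz'
  have hsumS := sylow3_sum hs hG h7' h5' T S hzS hz' hz0'
  have hsumZ := sum_zpowers (isCharacter_of_isIrrCharacter T.b.χ2.2) hχ1 hz' hz0'
  have hZS : Subgroup.zpowers z' ≤ (S : Subgroup G) := Subgroup.zpowers_le.2 hzS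
  obtain ⟨mZ, mS, hZ, hSs, -, -, hext⟩ := fix_sub ρ (Subgroup.zpowers z') (S : Subgroup G) hZS
  have hmZ : mZ = 2 := by
    have e1 : ∑ᶠ u ∈ ((Subgroup.zpowers z' : Subgroup G) : Set G),
        LinearMap.trace ℂ (Fin 6 → ℂ) (ρ u) =
        ∑ᶠ h ∈ ((Subgroup.zpowers z' : Subgroup G) : Set G), (T.b.χ2 : G → ℂ) h :=
      finsum_mem_congr rfl (fun x _ => htr x)
    rw [e1, hsumZ, Nat.card_zpowers, hz'] at hZ
    have : ((6 : ℕ) : ℂ) = ((mZ * 3 : ℕ) : ℂ) := by push_cast; exact hZ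
    have := Nat.cast_injective this
    omega
  have hmS : mS = 2 := by
    have e1 : ∑ᶠ u ∈ ((S : Subgroup G) : Set G), LinearMap.trace ℂ (Fin 6 → ℂ) (ρ u) =
        ∑ᶠ h ∈ ((S : Subgroup G) : Set G), (T.b.χ2 : G → ℂ) h :=
      finsum_mem_congr rfl (fun x _ => htr x)
    rw [e1, hsumS, hS9] at hSs
    have : ((18 : ℕ) : ℂ) = ((mS * 9 : ℕ) : ℂ) := by push_cast; exact hSs
    have := Nat.cast_injective this
    omega
  have hvS : ∀ b ∈ (S : Subgroup G), ρ b v = v := by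
    apply hext (by rw [hmZ, hmS]) v
    intro x hx
    exact hvH x (Subgroup.zpowers_le.2 hyH hx)
  -- the stabilizer
  set K : Subgroup G := vstab ρ v with hKdef
  have hHK : H ≤ K := fun g hg => hvH g hg
  have hSK : (S : Subgroup G) ≤ K := fun g hg => hvS g hg
  have hKtop : K ≠ ⊤ := by
    intro h
    exact not_all_fix' (by norm_num) ρ hirr v hv0 (fun g => by
      have : g ∈ K := by rw [h]; trivial
      exact this)
  have hidx := index_seven hs hG K H (S : Subgroup G) hKtop hHK hSK hH60 hS9 hN5 hNH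
  exact Cfsg.Agent.Helper18.O2520.iso_of_index_seven hG K hidx

end Cfsg.Agent.Helper28.A7U
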