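import Cfsg.Agent.Lib.Helper26.O2520N134

/-! # S0984, piece N134: re-export of helper26's file `Cfsg/Agent/Lib/Helper26/O2520N134.lean` (same namespace `Cfsg.Agent.Helper28.A7U`) -/
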