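import Mathlib
import Cfsg.Prelude.Def_Blocks
import Cfsg.Agent.Lib.Helper24.CharLinear
import Cfsg.Agent.Lib.Helper24.CharComplete
import Cfsg.Agent.Lib.Helper13.BR996CC
import Cfsg.Agent.Lib.Helper28.A7Defs
import Cfsg.Agent.Lib.Helper28.A7UV0
import Cfsg.Agent.Lib.Helper28.A7UV3
import Cfsg.Agent.Lib.Helper28.A7UG4
import Cfsg.Agent.Lib.Helper28.A7UF3

/-!
# S0984, piece V7 (helper1): an involution times a conjugate of `z` can be an element of order `5`
-/

set_option autoImplicit false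
set_option linter.unusedSectionVars false
set_option linter.unusedVariables false

namespace Cfsg.Agent.Helper28.A7U

open scoped ComplexConjugate
open Cfsg Cfsg.Agent.Helper24

universe u

variable {G : Type u} [Group G] [Fintype G]

namespace V7

/-- the value `β(z) = 9` is impossible when `|C(z)| ≤ 72` -/
theorem beta_ne_nine [Fintype (IrrCharacter G)] (β : IrrCharacter G) {z : G}
    (hC : Nat.card (Subgroup.centralizer ({z} : Set G)) ≤ 72) : (β : G → ℂ) z ≠ 9 := by
  classical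
  intro h9
  have hso := second_orthogonality' z z
  rw [if_pos (IsConj.refl z)] at hso
  have h1 : ∀ χ : IrrCharacter G, (χ : G → ℂ) z * conj ((χ : G → ℂ) z) =
      ((Complex.normSq ((χ : G → ℂ) z) : ℝ) : ℂ) := fun χ => Complex.mul_conj _
  simp only [h1] at hso
  rw [← Complex.ofReal_sum] at hso
  have h2 : (∑ χ : IrrCharacter G, Complex.normSq ((χ : G → ℂ) z)) =
      (Nat.card (Subgroup.centralizer ({z} : Set G)) : ℝ) := by
    exact_mod_cast hso
  have h3 : Complex.normSq ((β : G → ℂ) z) ≤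
      ∑ χ : IrrCharacter G, Complex.normSq ((χ : G → ℂ) z) :=
    Finset.single_le_sum (f := fun χ : IrrCharacter G => Complex.normSq ((χ : G → ℂ) z))
      (fun χ _ => Complex.normSq_nonneg _) (Finset.mem_univ β)
  rw [h2, h9] at h3
  have h4 : Complex.normSq (9 : ℂ) = 81 := by
    rw [Complex.normSq_apply]; norm_num
  rw [h4] at h3
  have h5 : (Nat.card (Subgroup.centralizer ({z} : Set G)) : ℝ) ≤ 72 := by exact_mod_cast hC
  linarith

end V7

/-- PIECE V7: an involution times a conjugate of `z` can be an element `u` of order `5`. -/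
theorem exists_prod (hs : IsSimpleGroup G) (hG : Nat.card G = 2520)
    (h7 : ∀ P : Sylow 7 G, Subgroup.centralizer ((P : Subgroup G) : Set G) = (P : Subgroup G))
    (h5 : ∀ Q : Sylow 5 G, Subgroup.centralizer ((Q : Subgroup G) : Set G) = (Q : Subgroup G))
    {P : Subgroup G} (Q : Sylow 5 G) (T : CT7 P (Q : Subgroup G)) {t z u : G} (ht : orderOf t = 2)
    (hz : orderOf z = 3) (hz0 : (T.b.χ2 : G → ℂ) z = 0) (hu : orderOf u = 5) :
    ∃ c₁ c₂ : G, (c₁ * t * c₁⁻¹) * (c₂ * z * c₂⁻¹) = u := by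
  classical
  letI : Fintype (IrrCharacter G) := irrFintype
  haveI : Fact (Nat.Prime 5) := ⟨by norm_num⟩
  -- conjugate `u` into `Q`
  obtain ⟨g, hgQ⟩ := F3.exists_conj_mem 5 Q u hu
  have hu1 : u ≠ 1 := by
    intro h
    rw [h, orderOf_one] at hu
    omega
  have hne : g * u * g⁻¹ ≠ 1 := by
    intro h
    apply hu1
    have h' : g * u * g⁻¹ = g * 1 * g⁻¹ := by rw [h]; group
    exact mul_left_cancel (mul_right_cancel h')
  have hcl : ∀ χ : IrrCharacter G, (χ : G → ℂ) u = (χ : G → ℂ) (g * u * g⁻¹) := fun χ =>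
    ((isClassFunction_of_isIrrCharacter χ.2) u g).symm
  -- the values at `u`
  have hp : ∀ x : G, ((principalChar G : IrrCharacter G) : G → ℂ) x = 1 := fun x => rfl
  have u1 : (T.b.χ1 : G → ℂ) u = 0 := by
    rw [hcl]; exact T.val0 T.b.χ1 (by simp) _ hgQ hne
  have u2 : (T.b.χ2 : G → ℂ) u = 1 := by
    rw [hcl]; exact T.val6 _ hgQ hne
  have u3 : (T.b.θ : G → ℂ) u = 0 := by
    rw [hcl]; exact T.val0 T.b.θ (by simp) _ hgQ hne
  have u4 : (T.b.θ' : G → ℂ) u = 0 := by
    rw [hcl]; exact T.val0 T.b.θ' (by simp) _ hgQ hne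
  have u5 : (T.α : G → ℂ) u = -1 := by
    rw [hcl]; exact T.valα _ hgQ hne
  have u6 : (T.α' : G → ℂ) u = -1 := by
    rw [hcl]; exact T.valα' _ hgQ hne
  have u7 : (T.β : G → ℂ) u = 1 := by
    rw [hcl]; exact T.valβ _ hgQ hne
  have u8 : (T.γ : G → ℂ) u = 0 := by
    rw [hcl]; exact T.val0 T.γ (by simp) _ hgQ hne
  -- the values at `t`
  obtain ⟨-, t1, t2, t3, t4, t5, t6, t7, t8⟩ := invol_values hs hG h7 h5 T ht
  -- the degrees
  have d5 := irr_one_eq_charDegree T.α.2
  have d6 := irr_one_eq_charDegree T.α'.2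
  have d7 := irr_one_eq_charDegree T.β.2
  rw [T.degα] at d5
  rw [T.degα'] at d6
  rw [T.degβ] at d7
  -- the relation at `z`
  have hz5 : ¬ 5 ∣ orderOf z := by rw [hz]; norm_num
  have hz7 : ¬ 7 ∣ orderOf z := by rw [hz]; norm_num
  have hz1 : z ≠ 1 := by
    intro h
    rw [h, orderOf_one] at hz
    omega
  have hrel := T.rel5 z hz5
  rw [hz0] at hrel
  -- the centralizer of `z`
  have hC : Nat.card (Subgroup.centralizer ({z} : Set G)) ≤ 72 :=
    Nat.le_of_dvd (by norm_num) (card_centralizer_dvd hG h7 h5 hz1 hz5 hz7)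
  have hβ := V7.beta_ne_nine T.β hC
  -- the class constant
  have hcc := Cfsg.Agent.Helper10.BR996.class_const t z u
  rw [V0.sum_eq_list_sum _ T.nodup T.all] at hcc
  simp only [List.map_cons, List.map_nil, List.sum_cons, List.sum_nil, hp, u1, u2, u3, u4, u5,
    u6, u7, u8, t1, t2, t3, t4, t5, t6, t7, t8, hz0, d5, d6, d7, map_zero, map_one, map_neg,
    mul_zero, zero_mul, zero_div, add_zero, zero_add] at hcc
  by_contra hex
  push_neg at hex
  haveI : IsEmpty {c : G × G // (c.1 * t * c.1⁻¹) * (c.2 * z * c.2⁻¹) = u} :=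
    ⟨fun c => hex c.1.1 c.1.2 c.2⟩
  rw [Nat.card_of_isEmpty, Nat.cast_zero] at hcc
  have hG0 : (Nat.card G : ℂ) ≠ 0 := by rw [hG]; norm_num
  have hsum := (mul_eq_zero.mp hcc.symm).resolve_left hG0
  apply hβ
  have hα : (T.α : G → ℂ) z + (T.α' : G → ℂ) z = 1 + (T.β : G → ℂ) z := by
    linear_combination (-1 : ℂ) * hrel
  have h21 : (18 - 2 * (T.β : G → ℂ) z) / 21 = 0 := by
    rw [← hsum]
    have : (T.α' : G → ℂ) z = 1 + (T.β : G → ℂ) z - (T.α : G → ℂ) z := by
      linear_combination hα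
    rw [this]
    push_cast
    ring
  have h18 : 18 - 2 * (T.β : G → ℂ) z = 0 := by
    rcases div_eq_zero_iff.mp h21 with h | h
    · exact h
    · norm_num at h
  linear_combination (-1 / 2 : ℂ) * h18

end Cfsg.Agent.Helper28.A7U
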