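import Mathlib
import Cfsg.Prelude.Def_BaumannBlocks

/-!
# S2984, piece BB-SECALT: transfer of the irreducibility of the even-weight permutation module of `A_{2m+1}`
to the section `U / U₀`.
-/

set_option autoImplicit false
open scoped commutatorElement

namespace Cfsg.Agent.Helper16.BB

open Cfsg

/-- the vector `e₀ + e₁` has even weight -/
theorem bb_secalt_sum_pair (n : ℕ) (a b : Fin n) :
    ∑ i, ((Pi.single a 1 + Pi.single b 1 : Fin n → ZMod 2)) i = 0 := by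
  simp only [Pi.add_apply, Finset.sum_add_distrib, Finset.sum_pi_single', Finset.mem_univ, if_true]
  decide

theorem section_irred_alt {G : Type*} [Group G] (m : ℕ) (hm : 1 ≤ m) (E U U₀ : Subgroup G)
    (hirr : ∀ X : AddSubgroup (Fin (2 * m + 1) → ZMod 2), (∀ v ∈ X, ∑ i, v i = 0) →
      (∀ σ ∈ alternatingGroup (Fin (2 * m + 1)), ∀ v ∈ X, (fun i => v (σ⁻¹ i)) ∈ X) → X ≠ ⊥ →
      ∀ v : Fin (2 * m + 1) → ZMod 2, ∑ i, v i = 0 → v ∈ X)
    (h : Cfsg.ActsAsOddPermModuleOnSection (2 * m + 1) (alternatingGroup (Fin (2 * m + 1))) E U U₀) :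
    U₀ ≠ U ∧ ∀ X : Subgroup G, U₀ ≤ X → X ≤ U → E ≤ Subgroup.normalizer (X : Set G) → X = U₀ ∨ X = U := by
  obtain ⟨hEU, hU₀U, ρ, ψ, hρ, heven, hsurj, hker, hequiv⟩ := h
  constructor
  · -- `U₀ ≠ U`
    intro hUU
    have h0 : (0 : ℕ) < 2 * m + 1 := by omega
    have h1 : (1 : ℕ) < 2 * m + 1 := by omega
    have hab : (⟨0, h0⟩ : Fin (2 * m + 1)) ≠ ⟨1, h1⟩ := by
      intro h; exact absurd (congrArg Fin.val h) (by simp)
    obtain ⟨u, hu⟩ := hsurj _ (bb_secalt_sum_pair (2 * m + 1) ⟨0, h0⟩ ⟨1, h1⟩)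
    have hu0 : (u : G) ∈ U₀ := by rw [hUU]; exact u.2
    have hψ : ψ u = 1 := (hker u).2 hu0
    rw [hψ] at hu
    have := congrFun hu ⟨0, h0⟩
    simp only [toAdd_one, Pi.zero_apply, Pi.add_apply, Pi.single_eq_same, Pi.single_eq_of_ne hab,
      add_zero] at this
    exact absurd this (by decide)
  · intro X hU₀X hXU hEX
    -- the image of `X` under `ψ`
    let Y : AddSubgroup (Fin (2 * m + 1) → ZMod 2) :=
      { carrier := {v | ∃ x : ↥U, (x : G) ∈ X ∧ Multiplicative.toAdd (ψ x) = v}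
        zero_mem' := ⟨1, X.one_mem, by simp⟩
        add_mem' := by
          rintro _ _ ⟨x, hx, rfl⟩ ⟨y, hy, rfl⟩
          exact ⟨x * y, X.mul_mem hx hy, by simp [map_mul, toAdd_mul]⟩
        neg_mem' := by
          rintro _ ⟨x, hx, rfl⟩
          exact ⟨x⁻¹, X.inv_mem hx, by simp⟩ }
    have hYmem : ∀ v, v ∈ Y ↔ ∃ x : ↥U, (x : G) ∈ X ∧ Multiplicative.toAdd (ψ x) = v := fun v => Iff.rfl
    have hYe : ∀ v ∈ Y, ∑ i, v i = 0 := by
      rintro _ ⟨x, _, rfl⟩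
      exact heven x
    have hYinv : ∀ σ ∈ alternatingGroup (Fin (2 * m + 1)), ∀ v ∈ Y, (fun i => v (σ⁻¹ i)) ∈ Y := by
      rintro σ hσ _ ⟨x, hx, rfl⟩
      rw [← hρ] at hσ
      obtain ⟨e, rfl⟩ := hσ
      obtain ⟨w, hw, hwψ⟩ := hequiv e x
      refine ⟨w, ?_, ?_⟩
      · rw [hw]
        exact ((Subgroup.mem_normalizer_iff.1 (hEX e.2)) _).1 hx
      · funext i
        exact hwψ i
    by_cases hY : Y = ⊥
    · left
      apply le_antisymm _ hU₀X
      intro x hx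
      have hxU : x ∈ U := hXU hx
      have hmem : Multiplicative.toAdd (ψ ⟨x, hxU⟩) ∈ Y := ⟨⟨x, hxU⟩, hx, rfl⟩
      rw [hY, AddSubgroup.mem_bot] at hmem
      have hψ : ψ ⟨x, hxU⟩ = 1 := by
        apply Multiplicative.toAdd.injective
        rw [hmem]; rfl
      exact (hker ⟨x, hxU⟩).1 hψ
    · right
      apply le_antisymm hXU
      intro u hu
      have hall := hirr Y hYe hYinv hY
      obtain ⟨x, hx, hxψ⟩ := hall _ (heven ⟨u, hu⟩)
      have hψ : ψ (x⁻¹ * ⟨u, hu⟩) = 1 := by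
        have e : ψ x = ψ ⟨u, hu⟩ := Multiplicative.toAdd.injective hxψ
        rw [map_mul, map_inv, e, inv_mul_cancel]
      have h0 : ((x⁻¹ * ⟨u, hu⟩ : ↥U) : G) ∈ U₀ := (hker _).1 hψ
      have h1 : ((x⁻¹ * ⟨u, hu⟩ : ↥U) : G) ∈ X := hU₀X h0
      have h2 : (x : G) * ((x⁻¹ * ⟨u, hu⟩ : ↥U) : G) ∈ X := X.mul_mem hx h1
      simpa using h2

end Cfsg.Agent.Helper16.BB
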