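import Mathlib
import Cfsg.Prelude.Def_BaumannBlocks

/-!
# S2984, piece BB-SECSL2: transfer of the irreducibility of the natural module of `SL₂(F)'`
to the section `U / U₀`.
-/

set_option autoImplicit false
open scoped commutatorElement

namespace Cfsg.Agent.Helper16.BB

open Cfsg

theorem section_irred_sl2 {G : Type*} [Group G] (F : Type*) [Field F] [Fintype F] (E U U₀ : Subgroup G)
    (hirr : ∀ X : AddSubgroup (Fin 2 → F),
      (∀ g ∈ commutator (Matrix.SpecialLinearGroup (Fin 2) F), ∀ v ∈ X,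
        (g : Matrix (Fin 2) (Fin 2) F).mulVec v ∈ X) → X ≠ ⊥ → X = ⊤)
    (h : Cfsg.ActsAsSL2OnSection F (commutator (Matrix.SpecialLinearGroup (Fin 2) F)) E U U₀) :
    U₀ ≠ U ∧ ∀ X : Subgroup G, U₀ ≤ X → X ≤ U → E ≤ Subgroup.normalizer (X : Set G) → X = U₀ ∨ X = U := by
  obtain ⟨hEU, hU₀U, ρ, ψ, hρ, hsurj, hker, hequiv⟩ := h
  constructor
  · -- `U₀ ≠ U`
    intro hUU
    obtain ⟨u, hu⟩ := hsurj (Multiplicative.ofAdd (fun _ => (1 : F)))
    have hu0 : (u : G) ∈ U₀ := by rw [hUU]; exact u.2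
    have hψ : ψ u = 1 := (hker u).2 hu0
    rw [hψ] at hu
    have := congrFun (congrArg Multiplicative.toAdd hu) 0
    simp at this
  · intro X hU₀X hXU hEX
    -- the image of `X` under `ψ`
    let Y : AddSubgroup (Fin 2 → F) :=
      { carrier := {v | ∃ x : ↥U, (x : G) ∈ X ∧ Multiplicative.toAdd (ψ x) = v}
        zero_mem' := ⟨1, X.one_mem, by simp⟩
        add_mem' := by
          rintro _ _ ⟨x, hx, rfl⟩ ⟨y, hy, rfl⟩
          exact ⟨x * y, X.mul_mem hx hy, by simp [map_mul, toAdd_mul]⟩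
        neg_mem' := by
          rintro _ ⟨x, hx, rfl⟩
          exact ⟨x⁻¹, X.inv_mem hx, by simp⟩ }
    have hYinv : ∀ g ∈ commutator (Matrix.SpecialLinearGroup (Fin 2) F), ∀ v ∈ Y,
        (g : Matrix (Fin 2) (Fin 2) F).mulVec v ∈ Y := by
      rintro g hg _ ⟨x, hx, rfl⟩
      rw [← hρ] at hg
      obtain ⟨e, rfl⟩ := hg
      obtain ⟨w, hw, hwψ⟩ := hequiv e x
      refine ⟨w, ?_, hwψ⟩
      rw [hw]
      exact ((Subgroup.mem_normalizer_iff.1 (hEX e.2)) _).1 hx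
    by_cases hY : Y = ⊥
    · left
      apply le_antisymm _ hU₀X
      intro x hx
      have hxU : x ∈ U := hXU hx
      have hmem : Multiplicative.toAdd (ψ ⟨x, hxU⟩) ∈ Y := ⟨⟨x, hxU⟩, hx, rfl⟩
      rw [hY, AddSubgroup.mem_bot] at hmem
      have hψ : ψ ⟨x, hxU⟩ = 1 := by
        apply Multiplicative.toAdd.injective
        rw [hmem]; rfl
      exact (hker ⟨x, hxU⟩).1 hψ
    · right
      apply le_antisymm hXU
      intro u hu
      have hall : Y = ⊤ := hirr Y hYinv hY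
      have hmem : Multiplicative.toAdd (ψ ⟨u, hu⟩) ∈ Y := by rw [hall]; exact AddSubgroup.mem_top _
      obtain ⟨x, hx, hxψ⟩ := hmem
      have hψ : ψ (x⁻¹ * ⟨u, hu⟩) = 1 := by
        have e : ψ x = ψ ⟨u, hu⟩ := Multiplicative.toAdd.injective hxψ
        rw [map_mul, map_inv, e, inv_mul_cancel]
      have h0 : ((x⁻¹ * ⟨u, hu⟩ : ↥U) : G) ∈ U₀ := (hker _).1 hψ
      have h1 : ((x⁻¹ * ⟨u, hu⟩ : ↥U) : G) ∈ X := hU₀X h0
      have h2 : (x : G) * ((x⁻¹ * ⟨u, hu⟩ : ↥U) : G) ∈ X := X.mul_mem hx h1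
      simpa using h2

end Cfsg.Agent.Helper16.BB
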