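import Mathlib
import Cfsg.Agent.Lib.Helper28.BGO9

/-!
# A prime divisor of the index of the similarity group of a quadratic form in the special linear
group, for which `q` has even order, determines the type of the form (helper28)
-/

set_option autoImplicit false
set_option linter.style.haveILetI false
set_option linter.unusedSectionVars false
set_option linter.unusedVariables false

namespace Cfsg.Agent.Helper28.BGO

open Matrix Module QuadraticMap Cfsg.Agent.Helper13 Cfsg.Agent.Helper13.SS
  Cfsg.Agent.Helper13.OrthSS Cfsg.Agent.Helper28.BGQ Cfsg.Agent.Helper28.BGP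

universe u

section order

variable {K : Type u} [Field K] [Fintype K] {p : ℕ} [Fact p.Prime] [CharP K p] {n r : ℕ}

theorem not_dvd_card (hr : r.Prime) (hrp : r ≠ p) : ¬ r ∣ Fintype.card K := by
  have hp : p.Prime := Fact.out
  obtain ⟨k, hk, hcard⟩ := exists_card_pow (p := p) (F := K) rfl
  intro h
  rw [hcard] at h
  exact hrp ((Nat.prime_dvd_prime_iff_eq hr hp).1 (hr.dvd_of_dvd_pow h))

/-- a prime different from the characteristic dividing the order of `SL_n(q)`: the order of `q`
modulo it is at most `n` -/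
theorem order_le_of_dvd_relIndex (hn : 1 ≤ n) (hr : r.Prime) (hrp : r ≠ p)
    (S' : Subgroup (GL (Fin n) K))
    (hΩ : r ∣ S'.relIndex (Cfsg.Geo.specialLinear (Fin n) K)) :
    1 ≤ orderOf ((Fintype.card K : ℕ) : ZMod r) ∧
      orderOf ((Fintype.card K : ℕ) : ZMod r) ≤ n := by
  have hq1 : 1 ≤ Fintype.card K := Fintype.card_pos
  have h1 : r ∣ Nat.card (Cfsg.Geo.specialLinear (Fin n) K) :=
    dvd_trans hΩ (Subgroup.relIndex_dvd_card _ _)
  have h2 : r ∣ glOrd (Fintype.card K) n := by
    rw [← card_specialLinear n hn]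
    exact dvd_mul_of_dvd_right h1 _
  unfold glOrd at h2
  obtain ⟨i, -, hi⟩ := (Prime.dvd_finsetProd_iff hr.prime _).1 h2
  have h3 : Fintype.card K ^ n - Fintype.card K ^ (i : ℕ) =
      Fintype.card K ^ (i : ℕ) * (Fintype.card K ^ (n - (i : ℕ)) - 1) := by
    rw [Nat.mul_sub, mul_one, ← pow_add]
    congr 2
    have := i.2
    omega
  rw [h3] at hi
  rcases hr.dvd_mul.1 hi with h4 | h4
  · exact absurd (hr.dvd_of_dvd_pow h4) (not_dvd_card (p := p) hr hrp)
  · have h5 := orderOf_dvd_of_dvd_pow_sub_one hr hq1 h4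
    have h6 : 0 < n - (i : ℕ) := by
      have := i.2
      omega
    have h7 := Nat.le_of_dvd h6 h5
    have h8 : orderOf ((Fintype.card K : ℕ) : ZMod r) ≠ 0 := by
      intro h0
      rw [h0, zero_dvd_iff] at h5
      omega
    omega

end order

section main

variable {K : Type u} [Field K] [Fintype K] {p : ℕ} [Fact p.Prime] [CharP K p] {n r : ℕ}
  (Q : QuadraticForm K (Fin n → K))

/-- an odd prime `r` different from the characteristic dividing the index of the similarity
group, with `q` of even order `d` modulo `r`: then `n = t d` and the form does not have type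
`(-)^t` -/
theorem type_of_dvd_relIndex (h2 : (2 : K) ≠ 0) (hn : 1 ≤ n) (hQ : (polarBilin Q).Nondegenerate)
    (hr : r.Prime) (hr2 : r ≠ 2) (hrp : r ≠ p)
    (hΩ : r ∣ (Cfsg.Geo.quadSimilarityGroup ⇑Q).relIndex (Cfsg.Geo.specialLinear (Fin n) K))
    (hdev : Even (orderOf ((Fintype.card K : ℕ) : ZMod r))) :
    ∃ t, 1 ≤ t ∧ n = t * orderOf ((Fintype.card K : ℕ) : ZMod r) ∧ (IsHyp Q ↔ Odd t) := by
  haveI : Fact r.Prime := ⟨hr⟩
  set q := Fintype.card K with hq
  set d := orderOf ((q : ℕ) : ZMod r) with hd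
  have hq2 : 2 ≤ q := Fintype.one_lt_card
  have hq1 : 1 ≤ q := by omega
  have hrq : ¬ r ∣ q := not_dvd_card (p := p) hr hrp
  have hdodd_absurd : ∀ j, r ∣ q ^ (2 * j + 1) - 1 → False := by
    intro j hj
    have h1 : d ∣ 2 * j + 1 := orderOf_dvd_of_dvd_pow_sub_one hr hq1 hj
    obtain ⟨a, ha⟩ := hdev
    obtain ⟨b, hb⟩ := h1
    rw [ha] at hb
    have h3 : 2 * j + 1 = 2 * (a * b) := by rw [hb]; ring
    omega
  have hdiv0 := relIndex_mul_card_dvd Q hQ
  have hdiv : (Cfsg.Geo.quadSimilarityGroup ⇑Q).relIndex (Cfsg.Geo.specialLinear (Fin n) K) *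
      Nat.card (Cfsg.isometryGroup K ⇑Q) * (q - 1) ∣ 2 * glOrd q n := by
    rw [← card_specialLinear n hn]
    have e1 : 2 * ((q - 1) * Nat.card ↥(Cfsg.Geo.specialLinear (Fin n) K)) =
        2 * Nat.card ↥(Cfsg.Geo.specialLinear (Fin n) K) * (q - 1) := by ring
    rw [e1]
    exact Nat.mul_dvd_mul_right hdiv0 _
  have hd0 : d ≠ 0 := by
    have h9 : 1 ≤ d := (order_le_of_dvd_relIndex (p := p) hn hr hrp _ hΩ).1
    omega
  rcases Nat.even_or_odd' n with ⟨m, hm | hm⟩
  · -- even dimension
    obtain ⟨k, rfl⟩ : ∃ k, m = k + 1 := ⟨m - 1, by omega⟩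
    by_cases hh : IsHyp Q
    · have e9 : glOrd q n = glOrd q (2 * (k + 1)) := by rw [hm]
      rw [card_isom_plus Q hQ k hm hh, e9] at hdiv
      rcases arith_plus q k _ r hq2 hr hΩ hdiv with h | h | ⟨j, hj⟩
      · exact absurd h hrq
      · -- `q ^ (k + 1) = -1` modulo `r`
        have h1 : ((q : ℕ) : ZMod r) ^ (k + 1) = -1 := by
          have h3 : ((q ^ (k + 1) + 1 : ℕ) : ZMod r) = 0 := (ZMod.natCast_eq_zero_iff _ _).2 h
          push_cast at h3
          exact eq_neg_of_add_eq_zero_left h3
        have h3 : d ∣ n := by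
          rw [hm]
          apply orderOf_dvd_of_pow_eq_one
          rw [mul_comm, pow_mul, h1, neg_one_sq]
        obtain ⟨t, ht⟩ := h3
        have htodd : Odd t := by
          rcases Nat.even_or_odd t with ⟨s, hs⟩ | hodd
          · exfalso
            have h4 : k + 1 = d * s := by
              rw [hs] at ht
              have : 2 * (k + 1) = 2 * (d * s) := by rw [← hm, ht]; ring
              omega
            have h5 : ((q : ℕ) : ZMod r) ^ (k + 1) = 1 := by
              rw [h4, pow_mul, hd, pow_orderOf_eq_one, one_pow]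
            rw [h1] at h5
            have h6 : ((2 : ℕ) : ZMod r) = 0 := by
              push_cast
              linear_combination -h5
            have h7 := (ZMod.natCast_eq_zero_iff _ _).1 h6
            exact hr2 ((Nat.prime_dvd_prime_iff_eq hr Nat.prime_two).1 h7)
          · exact hodd
        refine ⟨t, ?_, by rw [ht, mul_comm], iff_of_true hh htodd⟩
        obtain ⟨c, hc⟩ := htodd
        omega
      · exact (hdodd_absurd j hj).elim
    · have e9 : glOrd q n = glOrd q (2 * (k + 1)) := by rw [hm]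
      rw [card_isom_minus Q hQ k hm hh, e9] at hdiv
      rcases arith_minus q k _ r hq2 hr hΩ hdiv with h | h | ⟨j, hj⟩
      · exact absurd h hrq
      · have h1 : d ∣ k + 1 := orderOf_dvd_of_dvd_pow_sub_one hr hq1 h
        obtain ⟨s, hs⟩ := h1
        refine ⟨2 * s, ?_, ?_, iff_of_false hh ?_⟩
        · rcases Nat.eq_zero_or_pos s with rfl | hs0
          · omega
          · omega
        · rw [hm, hs]
          ring
        · rw [Nat.not_odd_iff_even]
          exact ⟨s, by ring⟩
      · exact (hdodd_absurd j hj).elim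
  · -- odd dimension
    exfalso
    have e9 : glOrd q n = glOrd q (2 * m + 1) := by rw [hm]
    rw [card_isom_odd Q h2 hQ m hm, e9] at hdiv
    rcases arith_odd q m _ r hq2 hr hΩ hdiv with h | ⟨j, hj⟩
    · exact hrq h
    · exact hdodd_absurd j hj

end main

end Cfsg.Agent.Helper28.BGO
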