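import Mathlib
import Cfsg.Agent.Lib.Helper28.BGO2

/-!
# Elements with scalar square and the similarity group of a quadratic form, odd characteristic
(helper28)
-/

set_option autoImplicit false
set_option linter.style.haveILetI false
set_option linter.unusedSectionVars false
set_option linter.unusedVariables false

namespace Cfsg.Agent.Helper28.BGO

open Matrix Module QuadraticMap Polynomial Cfsg.Agent.Helper13 Cfsg.Agent.Helper13.SpSim
  Cfsg.Agent.Helper13.FN Cfsg.Agent.Helper13.SS Cfsg.Agent.Helper28.BGQ

section nonsplit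

variable {K : Type*} [Field K] {m : ℕ}

/-- the Gram data of the model for the nonsplit case -/
def nsM (b : Fin m → K) : Matrix (Fin m ⊕ Fin m) (Fin m ⊕ Fin m) K :=
  fromBlocks 1 0 0 (diagonal b)

/-- the similarity of the model for the nonsplit case -/
def nsA (α β γ : Fin m → K) : Matrix (Fin m ⊕ Fin m) (Fin m ⊕ Fin m) K :=
  fromBlocks (diagonal α) (diagonal β) (diagonal γ) (diagonal (fun i => -α i))

theorem nsA_sq (α β γ : Fin m → K) (z : K) (h : ∀ i, α i * α i + β i * γ i = z) :
    nsA α β γ * nsA α β γ = z • (1 : Matrix (Fin m ⊕ Fin m) (Fin m ⊕ Fin m) K) := by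
  unfold nsA
  rw [fromBlocks_multiply, ← fromBlocks_one, fromBlocks_smul]
  simp only [diagonal_mul_diagonal, diagonal_add, smul_zero]
  congr 1
  · rw [smul_one_eq_diagonal]
    congr 1
    funext i
    exact h i
  · rw [← diagonal_zero]
    congr 1
    funext i
    ring
  · rw [← diagonal_zero]
    congr 1
    funext i
    ring
  · rw [smul_one_eq_diagonal]
    congr 1
    funext i
    rw [← h i]
    ring

theorem nsA_sim (b α β γ : Fin m → K) (z : K)
    (h1 : ∀ i, α i * α i + b i * (γ i * γ i) = z)
    (h2 : ∀ i, α i * β i = b i * γ i * α i)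
    (h3 : ∀ i, β i * β i + b i * (α i * α i) = z * b i) :
    (nsA α β γ)ᵀ * nsM b * nsA α β γ = z • nsM b := by
  unfold nsA nsM
  rw [fromBlocks_transpose, fromBlocks_multiply, fromBlocks_multiply, fromBlocks_smul]
  simp only [diagonal_transpose, diagonal_mul_diagonal, diagonal_add, smul_zero, Matrix.mul_one,
    Matrix.mul_zero, add_zero, zero_add]
  congr 1
  · rw [smul_one_eq_diagonal]
    congr 1
    funext i
    rw [← h1 i]
    ring
  · rw [← diagonal_zero]
    congr 1
    funext i
    have := h2 i
    linear_combination this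
  · rw [← diagonal_zero]
    congr 1
    funext i
    have := h2 i
    linear_combination this
  · rw [← diagonal_smul]
    congr 1
    funext i
    have := h3 i
    simp only [Pi.smul_apply, smul_eq_mul]
    linear_combination this

theorem nsM_det (b : Fin m → K) :
    (nsM b + (nsM b)ᵀ).det = 2 ^ m * (2 ^ m * ∏ i, b i) := by
  unfold nsM
  rw [fromBlocks_transpose, fromBlocks_add]
  simp only [transpose_one, transpose_zero, add_zero, diagonal_transpose]
  rw [det_fromBlocks_zero₂₁, diagonal_add, det_diagonal]
  have h1 : (1 + 1 : Matrix (Fin m) (Fin m) K) = diagonal (fun _ => (2 : K)) := by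
    rw [← diagonal_one, diagonal_add]
    congr 1
    funext i
    norm_num
  rw [h1, det_diagonal, Finset.prod_const, Finset.card_univ, Fintype.card_fin]
  congr 1
  have h2 : ∀ i, b i + b i = 2 * b i := fun i => by ring
  simp only [h2]
  rw [Finset.prod_mul_distrib, Finset.prod_const, Finset.card_univ, Fintype.card_fin]

end nonsplit

section split

variable {K : Type*} [Field K] {n : ℕ}

theorem diag_sim (w d : Fin n → K) (τ : K) (h : ∀ i, d i * d i = τ) :
    (Matrix.diagonal d)ᵀ * Matrix.diagonal w * Matrix.diagonal d = τ • Matrix.diagonal w := by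
  rw [diagonal_transpose, diagonal_mul_diagonal, diagonal_mul_diagonal, ← diagonal_smul]
  congr 1
  funext i
  simp only [Pi.smul_apply, smul_eq_mul]
  rw [← h i]
  ring

theorem diag_add_transpose_det (w : Fin n → K) :
    (Matrix.diagonal w + (Matrix.diagonal w)ᵀ).det = 2 ^ n * ∏ i, w i := by
  rw [diagonal_transpose, diagonal_add, det_diagonal]
  have h2 : ∀ i, w i + w i = 2 * w i := fun i => by ring
  simp only [h2]
  rw [Finset.prod_mul_distrib, Finset.prod_const, Finset.card_univ, Fintype.card_fin]

end split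

section main

variable {K : Type*} [Field K] [Fintype K] {p : ℕ} [Fact p.Prime] [CharP K p] {n : ℕ}
  (Q : QuadraticForm K (Fin n → K))

theorem pow_two_card_sub_one {κ : Type*} [Fintype κ] [DecidableEq κ] (A : Matrix κ κ K) (z : K)
    (hz : z ≠ 0) (hA : A * A = z • (1 : Matrix κ κ K)) :
    A ^ (2 * (Fintype.card K - 1)) = 1 := by
  rw [pow_mul, pow_two, hA, _root_.smul_pow, one_pow,
    FiniteField.pow_card_sub_one_eq_one z hz, one_smul]

theorem coprime_two_card_sub_one (hp2 : p ≠ 2) : (2 * (Fintype.card K - 1)).Coprime p := by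
  have hp : p.Prime := Fact.out
  apply Nat.Coprime.mul_left
  · exact (Nat.coprime_primes Nat.prime_two hp).2 (Ne.symm hp2)
  · have := coprime_card_pow_sub_one (F := K) (p := p) rfl 1 (by norm_num)
    rwa [pow_one] at this

/-- odd characteristic: every element of `SL_n` with scalar square is conjugate into the
similarity group of a quadratic form -/
theorem conj_invol (hp2 : p ≠ 2) (hn : 1 ≤ n) (hQ : (polarBilin Q).Nondegenerate)
    (x : GL (Fin n) K) (hx : x ∈ Cfsg.Geo.specialLinear (Fin n) K) (z : K)
    (hz : ((x ^ 2 : GL (Fin n) K) : Matrix (Fin n) (Fin n) K) =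
      z • (1 : Matrix (Fin n) (Fin n) K)) :
    ∃ g ∈ Cfsg.Geo.specialLinear (Fin n) K, g⁻¹ * x * g ∈ Cfsg.Geo.quadSimilarityGroup ⇑Q := by
  classical
  have hp : p.Prime := Fact.out
  have h2 : (2 : K) ≠ 0 := two_ne_zero_of_char_ne (p := p) hp2
  have hz0 : z ≠ 0 := sq_scalar_ne_zero hn x z hz
  have hxd : (x : Matrix (Fin n) (Fin n) K).det = 1 := (mem_sl_iff x).1 hx
  have hxM : (x : Matrix (Fin n) (Fin n) K) * (x : Matrix (Fin n) (Fin n) K) =
      z • (1 : Matrix (Fin n) (Fin n) K) := by
    rw [← pow_two, ← Units.val_pow_eq_pow_val]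
    exact hz
  have hxo : (orderOf x).Coprime p := by
    rw [← orderOf_toSL x hxd]
    apply orderOf_coprime_of_sq hp2 (toSL x hxd) z hz0
    rw [Matrix.SpecialLinearGroup.coe_pow, toSL_val, pow_two]
    exact hxM
  have hG0 := gram_det_ne_zero' Q hQ
  by_cases hsq : IsSquare z
  · obtain ⟨a, rfl⟩ := hsq
    have ha : a ≠ 0 := fun h => hz0 (by rw [h, mul_zero])
    set t := finrank K (LinearMap.ker (Matrix.toLin'
      ((x : Matrix (Fin n) (Fin n) K) + a • (1 : Matrix (Fin n) (Fin n) K)))) with ht
    have hcx := charpoly_of_sq_split h2 a ha (x : Matrix (Fin n) (Fin n) K) hxM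
    rw [← ht] at hcx
    have htn : t ≤ n := by
      have := Submodule.finrank_le (LinearMap.ker (Matrix.toLin'
        ((x : Matrix (Fin n) (Fin n) K) + a • (1 : Matrix (Fin n) (Fin n) K))))
      rwa [Module.finrank_fin_fun] at this
    set i₀ : Fin n := ⟨0, hn⟩ with hi₀
    set w₀ : K := (gram Q).det * 2 ^ n with hw₀
    set w : Fin n → K := fun i => if i = i₀ then w₀ else 1 with hw
    have hprod : ∏ i, w i = w₀ := by
      simp only [hw]
      rw [Finset.prod_ite_eq' Finset.univ i₀ (fun _ => w₀), if_pos (Finset.mem_univ _)]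
    have hMdet : (Matrix.diagonal w + (Matrix.diagonal w)ᵀ).det = 2 ^ n * w₀ := by
      rw [diag_add_transpose_det, hprod]
    have hw₀0 : w₀ ≠ 0 := mul_ne_zero hG0 (pow_ne_zero _ h2)
    obtain ⟨e, he⟩ := exists_equiv_model Q h2 hQ (Matrix.diagonal w)
      (by rw [hMdet]; exact mul_ne_zero (pow_ne_zero _ h2) hw₀0) (Fintype.card_fin n) (by
        rw [hMdet]
        refine ⟨w₀, ?_⟩
        rw [hw₀]
        ring)
    set A : Matrix (Fin n) (Fin n) K := a • Matrix.diagonal (sgn (F := K) n t) with hA
    have hAd : A = Matrix.diagonal (fun j => a * sgn n t j) := by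
      rw [hA]
      ext i j
      by_cases hij : i = j
      · subst hij
        simp
      · simp [hij]
    apply conj_into_qsim (p := p) Q x hx hxo (Matrix.diagonal w) e 1 one_ne_zero
      (fun v => by rw [he, one_mul]) A (a * a) hz0 ?_ (2 * (Fintype.card K - 1))
      (coprime_two_card_sub_one hp2)
      (pow_two_card_sub_one A (a * a) hz0 (by rw [hA]; exact smul_diag_sgn_sq a t)) ?_
    · rw [hAd]
      apply diag_sim
      intro i
      have := sgn_mul_self (F := K) (m := n) t i
      linear_combination (a * a) * this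
    · rw [hA, charpoly_smul_diag_sgn a t htn, hcx]
  · have hcx := charpoly_of_sq_nonsplit z hsq (x : Matrix (Fin n) (Fin n) K) hxM
    have hdeg : n = 2 * (n / 2) := by
      have h3 := congrArg Polynomial.natDegree hcx
      rw [Matrix.charpoly_natDegree_eq_dim, Fintype.card_fin, natDegree_pow,
        natDegree_X_pow_sub_C] at h3
      omega
    set m := n / 2 with hm
    have hm1 : 1 ≤ m := by omega
    set i₀ : Fin m := ⟨0, hm1⟩ with hi₀
    set w₀ : K := (gram Q).det with hw₀
    set b : Fin m → K := fun i => if i = i₀ then w₀ else 1 with hb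
    have hb0 : ∀ i, b i ≠ 0 := by
      intro i
      simp only [hb]
      split_ifs
      · exact hG0
      · exact one_ne_zero
    have hprod : ∏ i, b i = w₀ := by
      simp only [hb]
      rw [Finset.prod_ite_eq' Finset.univ i₀ (fun _ => w₀), if_pos (Finset.mem_univ _)]
    have hMdet : (nsM b + (nsM b)ᵀ).det = 2 ^ m * (2 ^ m * w₀) := by
      rw [nsM_det, hprod]
    obtain ⟨e, he⟩ := exists_equiv_model Q h2 hQ (nsM b)
      (by
        rw [hMdet]
        exact mul_ne_zero (pow_ne_zero _ h2) (mul_ne_zero (pow_ne_zero _ h2) hG0))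
      (by rw [Fintype.card_sum, Fintype.card_fin]; omega) (by
        rw [hMdet]
        refine ⟨2 ^ m * w₀, ?_⟩
        ring)
    have hsol : ∀ i, ∃ αβ : K × K, αβ.1 * αβ.1 + αβ.2 * αβ.2 / b i = z := by
      intro i
      obtain ⟨u, v, huv⟩ := exists_binary_one h2 (1 / z) (1 / (z * b i))
        (one_div_ne_zero hz0) (one_div_ne_zero (mul_ne_zero hz0 (hb0 i)))
      refine ⟨(u, v), ?_⟩
      have hbi := hb0 i
      field_simp at huv ⊢
      linear_combination huv
    choose αβ hαβ using hsol
    set α : Fin m → K := fun i => (αβ i).1 with hα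
    set β : Fin m → K := fun i => (αβ i).2 with hβ
    set γ : Fin m → K := fun i => (αβ i).2 / b i with hγ
    have hAA : nsA α β γ * nsA α β γ = z • (1 : Matrix (Fin m ⊕ Fin m) (Fin m ⊕ Fin m) K) := by
      apply nsA_sq
      intro i
      simp only [hα, hβ, hγ]
      rw [← hαβ i]
      ring
    have hpp : pull e (nsA α β γ) * pull e (nsA α β γ) = z • (1 : Matrix (Fin n) (Fin n) K) := by
      rw [← pull_mul, hAA, pull_smul, pull_one]
    apply conj_into_qsim (p := p) Q x hx hxo (nsM b) e 1 one_ne_zero
      (fun v => by rw [he, one_mul]) (nsA α β γ) z hz0 ?_ (2 * (Fintype.card K - 1))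
      (coprime_two_card_sub_one hp2) (pow_two_card_sub_one _ z hz0 hAA) ?_
    · apply nsA_sim
      · intro i
        have hbi := hb0 i
        simp only [hα, hγ]
        rw [← hαβ i]
        field_simp
      · intro i
        have hbi := hb0 i
        simp only [hα, hβ, hγ]
        field_simp
      · intro i
        have hbi := hb0 i
        simp only [hα, hβ]
        rw [← hαβ i]
        field_simp
        ring
    · rw [← charpoly_pull e, charpoly_of_sq_nonsplit z hsq _ hpp, hcx]

end main

end Cfsg.Agent.Helper28.BGO
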