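import Mathlib
import Cfsg.Agent.Lib.Helper28.BGQ5

/-!
# Diagonal similarities of a unitary form with Gram matrix a permutation matrix, and conjugation of
elements with a symmetric characteristic polynomial into the similarity group (helper28)
-/

set_option autoImplicit false
set_option linter.style.haveILetI false
set_option linter.unusedSectionVars false
set_option linter.unusedVariables false

namespace Cfsg.Agent.Helper28.BGQ

open Matrix Module Polynomial Cfsg.Agent.Helper11.Herm Cfsg.Agent.Helper13.SpSim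

section perm

variable {K : Type*} [Field K] {κ : Type*} [Fintype κ] [DecidableEq κ]

/-- the permutation matrix of a map -/
def permG (π : κ → κ) : Matrix κ κ K := Matrix.of (fun i j => if π i = j then 1 else 0)

theorem permG_apply (π : κ → κ) (i j : κ) :
    (permG π : Matrix κ κ K) i j = if π i = j then 1 else 0 := rfl

theorem permG_transpose (φ : K →+* K) (π : κ → κ) (hπ : Function.Involutive π) :
    (permG π : Matrix κ κ K)ᵀ = (permG π : Matrix κ κ K).map φ := by
  ext i j
  rw [Matrix.transpose_apply, Matrix.map_apply, permG_apply, permG_apply]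
  by_cases h : π i = j
  · have h' : π j = i := by rw [← h, hπ i]
    rw [if_pos h, if_pos h', map_one]
  · have h' : ¬ π j = i := by
      intro h2
      apply h
      rw [← h2, hπ j]
    rw [if_neg h, if_neg h', map_zero]

theorem permG_mul_self (π : κ → κ) (hπ : Function.Involutive π) :
    (permG π : Matrix κ κ K) * permG π = 1 := by
  ext i j
  rw [Matrix.mul_apply]
  simp only [permG_apply]
  rw [Finset.sum_eq_single (π i)]
  · rw [if_pos rfl, one_mul, hπ i, Matrix.one_apply]
  · intro k _ hk
    rw [if_neg (Ne.symm hk), zero_mul]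
  · intro h
    exact absurd (Finset.mem_univ _) h

theorem permG_det_isUnit (π : κ → κ) (hπ : Function.Involutive π) :
    IsUnit (permG π : Matrix κ κ K).det := by
  have h := congrArg Matrix.det (permG_mul_self (K := K) π hπ)
  rw [Matrix.det_mul, Matrix.det_one] at h
  exact IsUnit.of_mul_eq_one _ h

/-- a diagonal matrix is a similarity of the form with Gram matrix a permutation matrix if the
products of paired entries are constant -/
theorem permG_sim (φ : K →+* K) (π : κ → κ) (d : κ → K) (τ : K)
    (hd : ∀ i, d i * φ (d (π i)) = τ) :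
    (Matrix.diagonal d)ᵀ * (permG π : Matrix κ κ K) * (Matrix.diagonal d).map φ =
      τ • (permG π : Matrix κ κ K) := by
  have h1 : (Matrix.diagonal d).map φ = Matrix.diagonal (fun i => φ (d i)) := by
    rw [Matrix.diagonal_map (map_zero φ)]
  rw [h1, Matrix.diagonal_transpose]
  ext i j
  rw [Matrix.mul_diagonal, Matrix.diagonal_mul, Matrix.smul_apply, permG_apply, smul_eq_mul]
  by_cases h : π i = j
  · rw [if_pos h, mul_one, mul_one, ← h, hd]
  · rw [if_neg h, mul_zero, zero_mul, mul_zero]

end perm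

section model

variable {K : Type*} [Field K] {a b c : ℕ}

/-- the index type of the model -/
abbrev Idx (a b c : ℕ) : Type := Fin a ⊕ ((Fin b ⊕ Fin b) ⊕ (Fin c ⊕ Fin c))

/-- the pairing of the indices -/
def idxSwap (a b c : ℕ) : Idx a b c → Idx a b c :=
  Sum.map id (Sum.map Sum.swap Sum.swap)

theorem idxSwap_involutive : Function.Involutive (idxSwap a b c) := by
  rintro (i | (i | i) | (i | i)) <;> rfl

/-- the diagonal of the model -/
def idxDiag (a b c : ℕ) (α β β' γ γ' : K) : Idx a b c → K :=
  Sum.elim (fun _ => α) (Sum.elim (Sum.elim (fun _ => β) (fun _ => β'))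
    (Sum.elim (fun _ => γ) (fun _ => γ')))

theorem idxDiag_pair (φ : K →+* K) (α β β' γ γ' τ : K) (hα : φ α = α) (hβ : φ β = β)
    (hβ' : φ β' = β') (hγ : φ γ = γ) (hγ' : φ γ' = γ') (hαα : α * α = τ) (hββ : β * β' = τ)
    (hγγ : γ * γ' = τ) (i : Idx a b c) :
    idxDiag a b c α β β' γ γ' i * φ (idxDiag a b c α β β' γ γ' (idxSwap a b c i)) = τ := by
  rcases i with i | (i | i) | (i | i)
  · show α * φ α = τ
    rw [hα, hαα]
  · show β * φ β' = τ
    rw [hβ', hββ]
  · show β' * φ β = τ
    rw [hβ, mul_comm, hββ]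
  · show γ * φ γ' = τ
    rw [hγ', hγγ]
  · show γ' * φ γ = τ
    rw [hγ, mul_comm, hγγ]

theorem charpoly_idxDiag (α β β' γ γ' : K) :
    (Matrix.diagonal (idxDiag a b c α β β' γ γ')).charpoly =
      (X - C α) ^ a * (((X - C β) ^ b * (X - C β') ^ b) * ((X - C γ) ^ c * (X - C γ') ^ c)) := by
  rw [Matrix.charpoly_diagonal, Fintype.prod_sum_type, Fintype.prod_sum_type,
    Fintype.prod_sum_type, Fintype.prod_sum_type]
  simp only [idxDiag, Sum.elim_inl, Sum.elim_inr, Finset.prod_const, Finset.card_univ,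
    Fintype.card_fin]

theorem idxDiag_pow (α β β' γ γ' : K) (M : ℕ) :
    (Matrix.diagonal (idxDiag a b c α β β' γ γ')) ^ M =
      Matrix.diagonal (idxDiag a b c (α ^ M) (β ^ M) (β' ^ M) (γ ^ M) (γ' ^ M)) := by
  rw [Matrix.diagonal_pow]
  congr 1
  funext i
  rcases i with i | (i | i) | (i | i) <;> rfl

theorem idxDiag_one : Matrix.diagonal (idxDiag (K := K) a b c 1 1 1 1 1) = 1 := by
  rw [← Matrix.diagonal_one]
  congr 1
  funext i
  rcases i with i | (i | i) | (i | i) <;> rfl

end model

section main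

variable {K : Type*} [Field K] [Fintype K] {p : ℕ} [Fact p.Prime] [CharP K p] {q₀ n : ℕ}
  {f : (Fin n → K) → (Fin n → K) → K}

/-- an element of `SL_n` of order prime to the characteristic whose characteristic polynomial has
the symmetric shape `(X - α)^a (X - β)^b (X - β')^b (X - γ)^c (X - γ')^c` with
`α² = β β' = γ γ'`, all in the fixed field, is conjugate into the similarity group -/
theorem conj_into_of_sym_charpoly (hK : Fintype.card K = q₀ ^ 2)
    (hf : Cfsg.Geo.IsUnitaryFormPow q₀ f) (φ : K →+* K) (hφ : ∀ x, φ x = x ^ q₀)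
    (x : GL (Fin n) K) (hx : x ∈ Cfsg.Geo.specialLinear (Fin n) K)
    (hxo : (orderOf x).Coprime p) (a b c : ℕ) (hn : a + 2 * b + 2 * c = n)
    (α β β' γ γ' τ : K) (M : ℕ) (hM : M.Coprime p) (hαM : α ^ M = 1) (hβM : β ^ M = 1)
    (hβ'M : β' ^ M = 1) (hγM : γ ^ M = 1) (hγ'M : γ' ^ M = 1)
    (hα : φ α = α) (hβ : φ β = β) (hβ' : φ β' = β') (hγ : φ γ = γ) (hγ' : φ γ' = γ')
    (hαα : α * α = τ) (hββ : β * β' = τ) (hγγ : γ * γ' = τ) (hτ : τ ≠ 0)
    (hchar : (x : Matrix (Fin n) (Fin n) K).charpoly =
      (X - C α) ^ a * (((X - C β) ^ b * (X - C β') ^ b) * ((X - C γ) ^ c * (X - C γ') ^ c))) :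
    ∃ g ∈ Cfsg.Geo.specialLinear (Fin n) K, g⁻¹ * x * g ∈ Cfsg.Geo.similarityGroup f := by
  classical
  have hπ := idxSwap_involutive (a := a) (b := b) (c := c)
  set G : Matrix (Idx a b c) (Idx a b c) K := permG (idxSwap a b c) with hG
  obtain ⟨e, he⟩ := exists_equiv_gform hK p φ hφ hf (κ := Idx a b c) (by
    rw [Fintype.card_sum, Fintype.card_sum, Fintype.card_sum, Fintype.card_sum, Fintype.card_fin,
      Fintype.card_fin, Fintype.card_fin, ← hn]
    ring) G (permG_transpose φ _ hπ) (permG_det_isUnit _ hπ)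
  set D : Matrix (Idx a b c) (Idx a b c) K := Matrix.diagonal (idxDiag a b c α β β' γ γ') with hD
  apply conj_into (p := p) x hx hxo _ (pull e D) M hM
  · have h1 : ∀ k : ℕ, pull e D ^ k = pull e (D ^ k) := by
      intro k
      induction k with
      | zero => rw [pow_zero, pow_zero, pull_one]
      | succ k ih => rw [pow_succ, pow_succ, ih, pull_mul]
    rw [h1, hD, idxDiag_pow, hαM, hβM, hβ'M, hγM, hγ'M, idxDiag_one, pull_one]
  · intro y hy
    apply mem_similarityGroup y τ hτ
    intro u v
    rw [hy]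
    apply sim_pull_gform φ G e he D τ
    exact permG_sim φ _ _ τ (idxDiag_pair φ α β β' γ γ' τ hα hβ hβ' hγ hγ' hαα hββ hγγ)
  · rw [charpoly_pull, hD, charpoly_idxDiag, hchar]

end main

end Cfsg.Agent.Helper28.BGQ
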