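import Mathlib
import Cfsg.Agent.Lib.Helper28.BGQ11
import Cfsg.Agent.Lib.Helper13.SemisimpleCharpoly
import Cfsg.Agent.Lib.Helper13.SemisimpleGL

/-!
# The characteristic polynomial of an invertible matrix of order dividing `r`, when the field
contains the `r`-th roots of unity (helper28)
-/

set_option autoImplicit false
set_option linter.style.haveILetI false
set_option linter.unusedSectionVars false
set_option linter.unusedVariables false

namespace Cfsg.Agent.Helper28.BGQ

open Matrix Module Polynomial Cfsg.Agent.Helper13.SS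

open scoped Classical

section roots

variable {K : Type*} [Field K] {n r : ℕ}

/-- the multiplicity of the eigenvalue `ζ ^ i` -/
noncomputable def emult (ζ : K) (x : GL (Fin n) K) (i : ℕ) : ℕ := kdim (L x) (X - C (ζ ^ i))

theorem lin_injOn (ζ : K) (hζ : IsPrimitiveRoot ζ r) :
    Set.InjOn (fun i : ℕ => (X - C (ζ ^ i) : K[X])) (Finset.range r : Set ℕ) := by
  intro i hi j hj hij
  have h1 : ζ ^ i = ζ ^ j := by
    have h2 : C (ζ ^ i) = C (ζ ^ j) := by
      have h3 : (X - C (ζ ^ i) : K[X]) = X - C (ζ ^ j) := hij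
      exact sub_right_injective h3
    exact C_injective h2
  exact hζ.pow_inj (Finset.mem_range.1 hi) (Finset.mem_range.1 hj) h1

theorem aeval_prod_lin (hr : 0 < r) (ζ : K) (hζ : IsPrimitiveRoot ζ r) (x : GL (Fin n) K)
    (hx : x ^ r = 1) :
    aeval (L x) (∏ f ∈ (Finset.range r).image (fun i : ℕ => (X - C (ζ ^ i) : K[X])), f) = 0 := by
  rw [Finset.prod_image (lin_injOn ζ hζ)]
  have h1 := X_pow_sub_C_eq_prod hζ hr (one_pow r)
  simp only [mul_one] at h1
  rw [← h1, map_one]
  exact (pow_eq_one_iff x r).1 hx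

/-- the characteristic polynomial in terms of the multiplicities -/
theorem charpoly_of_pow_eq_one (hr : 0 < r) (ζ : K) (hζ : IsPrimitiveRoot ζ r) (x : GL (Fin n) K)
    (hx : x ^ r = 1) :
    (x : Matrix (Fin n) (Fin n) K).charpoly =
      ∏ i ∈ Finset.range r, (X - C (ζ ^ i)) ^ emult ζ x i := by
  have h1 := charpoly_eq_prod ((Finset.range r).image (fun i : ℕ => (X - C (ζ ^ i) : K[X])))
    (by
      intro f hf
      obtain ⟨i, -, rfl⟩ := Finset.mem_image.1 hf
      exact irreducible_X_sub_C _)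
    (by
      intro f hf
      obtain ⟨i, -, rfl⟩ := Finset.mem_image.1 hf
      exact monic_X_sub_C _) (L x) (aeval_prod_lin hr ζ hζ x hx)
  rw [Finset.prod_image (lin_injOn ζ hζ)] at h1
  have h2 : (L x).charpoly = (x : Matrix (Fin n) (Fin n) K).charpoly := Matrix.charpoly_toLin' _
  rw [← h2, h1]
  apply Finset.prod_congr rfl
  intro i _
  rw [natDegree_X_sub_C, Nat.div_one]
  rfl

theorem sum_emult (hr : 0 < r) (ζ : K) (hζ : IsPrimitiveRoot ζ r) (x : GL (Fin n) K)
    (hx : x ^ r = 1) : ∑ i ∈ Finset.range r, emult ζ x i = n := by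
  have h1 := congrArg Polynomial.natDegree (charpoly_of_pow_eq_one hr ζ hζ x hx)
  rw [Matrix.charpoly_natDegree_eq_dim, Fintype.card_fin,
    natDegree_prod_of_monic _ _ (fun i _ => (monic_X_sub_C _).pow _)] at h1
  refine Eq.trans ?_ h1.symm
  apply Finset.sum_congr rfl
  intro i _
  rw [(monic_X_sub_C _).natDegree_pow, natDegree_X_sub_C, mul_one]

theorem det_of_pow_eq_one (hr : 0 < r) (ζ : K) (hζ : IsPrimitiveRoot ζ r) (x : GL (Fin n) K)
    (hx : x ^ r = 1) :
    (x : Matrix (Fin n) (Fin n) K).det = ζ ^ (∑ i ∈ Finset.range r, i * emult ζ x i) := by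
  have h1 := Matrix.det_eq_sign_charpoly_coeff (x : Matrix (Fin n) (Fin n) K)
  rw [Fintype.card_fin, charpoly_of_pow_eq_one hr ζ hζ x hx, coeff_zero_eq_eval_zero,
    eval_prod] at h1
  have h2 : ∀ i ∈ Finset.range r, eval 0 ((X - C (ζ ^ i)) ^ emult ζ x i) =
      (-1) ^ emult ζ x i * ζ ^ (i * emult ζ x i) := by
    intro i _
    rw [eval_pow, eval_sub, eval_X, eval_C, zero_sub, neg_pow, pow_mul]
  rw [Finset.prod_congr rfl h2, Finset.prod_mul_distrib, Finset.prod_pow_eq_pow_sum,
    Finset.prod_pow_eq_pow_sum, sum_emult hr ζ hζ x hx, ← mul_assoc, ← pow_add, ← two_mul,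
    pow_mul, neg_one_sq, one_pow, one_mul] at h1
  exact h1

theorem dvd_sum_of_det_one (hr : 0 < r) (ζ : K) (hζ : IsPrimitiveRoot ζ r) (x : GL (Fin n) K)
    (hx : x ^ r = 1) (hdet : (x : Matrix (Fin n) (Fin n) K).det = 1) :
    r ∣ ∑ i ∈ Finset.range r, i * emult ζ x i := by
  rw [det_of_pow_eq_one hr ζ hζ x hx] at hdet
  exact (hζ.pow_eq_one_iff_dvd _).1 hdet

end roots

end Cfsg.Agent.Helper28.BGQ
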