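import Mathlib
import Cfsg.Agent.Lib.Helper28.BGQ12

/-!
# Elements of order `r` of `SL_r(q)`, `r ∈ {3, 5}`, `(q₀ - 1)_r = r`, are conjugate into the
similarity group of a unitary form (helper28)
-/

set_option autoImplicit false
set_option linter.style.haveILetI false
set_option linter.unusedSectionVars false
set_option linter.unusedVariables false

namespace Cfsg.Agent.Helper28.BGQ

open Matrix Module Polynomial Cfsg.Agent.Helper11.Herm Cfsg.Agent.Helper13.SS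

section comb

theorem comb5_fin : ∀ m0 m1 m2 m3 m4 : Fin 6, m0.val + m1.val + m2.val + m3.val + m4.val = 5 →
    (m1.val + 2 * m2.val + 3 * m3.val + 4 * m4.val) % 5 = 0 →
    (m1 = m4 ∧ m2 = m3) ∨ (m2 = m0 ∧ m3 = m4) ∨ (m3 = m1 ∧ m4 = m0) ∨ (m4 = m2 ∧ m0 = m1) ∨
      (m0 = m3 ∧ m1 = m2) := by
  decide

theorem comb5 (m0 m1 m2 m3 m4 : ℕ) (hs : m0 + m1 + m2 + m3 + m4 = 5)
    (hd : 5 ∣ m1 + 2 * m2 + 3 * m3 + 4 * m4) :
    (m1 = m4 ∧ m2 = m3) ∨ (m2 = m0 ∧ m3 = m4) ∨ (m3 = m1 ∧ m4 = m0) ∨ (m4 = m2 ∧ m0 = m1) ∨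
      (m0 = m3 ∧ m1 = m2) := by
  have h := comb5_fin ⟨m0, by omega⟩ ⟨m1, by omega⟩ ⟨m2, by omega⟩ ⟨m3, by omega⟩ ⟨m4, by omega⟩
    hs (Nat.mod_eq_zero_of_dvd hd)
  simp only [Fin.mk.injEq] at h
  exact h

theorem comb3 (m0 m1 m2 : ℕ) (hs : m0 + m1 + m2 = 3) (hd : 3 ∣ m1 + 2 * m2) :
    m1 = m2 ∨ m2 = m0 ∨ m0 = m1 := by
  have h0 : m0 ≤ 3 := by omega
  have h1 : m1 ≤ 3 := by omega
  interval_cases m0 <;> interval_cases m1 <;> omega

end comb

section powers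

variable {K : Type*} [Field K] {r : ℕ}

theorem pow_congr_mod (ζ : K) (hζ : ζ ^ r = 1) {a b : ℕ} (h : a % r = b % r) : ζ ^ a = ζ ^ b := by
  have h1 : ∀ c : ℕ, ζ ^ c = ζ ^ (c % r) := by
    intro c
    conv_lhs => rw [← Nat.div_add_mod c r, pow_add, pow_mul, hζ, one_pow, one_mul]
  rw [h1 a, h1 b, h]

end powers

section zeta

variable {K : Type*} [Field K] [Fintype K] {p : ℕ} [Fact p.Prime] [CharP K p] {q₀ n r : ℕ}
  {f : (Fin n → K) → (Fin n → K) → K}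

/-- the symmetric characteristic polynomial criterion for powers of a root of unity in the fixed
field -/
theorem conj_into_zeta (hK : Fintype.card K = q₀ ^ 2)
    (hf : Cfsg.Geo.IsUnitaryFormPow q₀ f) (φ : K →+* K) (hφ : ∀ x, φ x = x ^ q₀)
    (x : GL (Fin n) K) (hx : x ∈ Cfsg.Geo.specialLinear (Fin n) K)
    (hxo : (orderOf x).Coprime p) (hrp : r.Coprime p) (ζ : K) (hζ0 : ζ ≠ 0) (hζr : ζ ^ r = 1)
    (hζφ : φ ζ = ζ) (a b c : ℕ) (hn : a + 2 * b + 2 * c = n) (i0 i1 i2 i3 i4 : ℕ)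
    (h1 : (i1 + i2) % r = (i0 + i0) % r) (h2 : (i3 + i4) % r = (i0 + i0) % r)
    (hchar : (x : Matrix (Fin n) (Fin n) K).charpoly =
      (X - C (ζ ^ i0)) ^ a * (((X - C (ζ ^ i1)) ^ b * (X - C (ζ ^ i2)) ^ b) *
        ((X - C (ζ ^ i3)) ^ c * (X - C (ζ ^ i4)) ^ c))) :
    ∃ g ∈ Cfsg.Geo.specialLinear (Fin n) K, g⁻¹ * x * g ∈ Cfsg.Geo.similarityGroup f := by
  have hpow : ∀ i : ℕ, (ζ ^ i) ^ r = 1 := by
    intro i
    rw [← pow_mul, mul_comm, pow_mul, hζr, one_pow]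
  have hfix : ∀ i : ℕ, φ (ζ ^ i) = ζ ^ i := by
    intro i
    rw [map_pow, hζφ]
  apply conj_into_of_sym_charpoly (p := p) hK hf φ hφ x hx hxo a b c hn (ζ ^ i0) (ζ ^ i1)
    (ζ ^ i2) (ζ ^ i3) (ζ ^ i4) (ζ ^ i0 * ζ ^ i0) r hrp (hpow _) (hpow _) (hpow _) (hpow _) (hpow _)
    (hfix _) (hfix _) (hfix _) (hfix _) (hfix _) rfl ?_ ?_
    (mul_ne_zero (pow_ne_zero _ hζ0) (pow_ne_zero _ hζ0)) hchar
  · rw [← pow_add, ← pow_add]
    exact pow_congr_mod ζ hζr h1
  · rw [← pow_add, ← pow_add]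
    exact pow_congr_mod ζ hζr h2

end zeta

section scalar

variable {K : Type*} [Field K] [Fintype K] {q₀ n r : ℕ}

/-- in `SL_r(q)` with `r` odd and `(q - 1)_r = r`, an element whose `r`-th power is scalar has
`r`-th power one -/
theorem pow_eq_one_of_pow_scalar (hr : r.Prime) (hr2 : r ≠ 2) (hnr : n = r)
    (hrq : ¬ r ^ 2 ∣ Fintype.card K - 1)
    (x : GL (Fin n) K) (hx : (x : Matrix (Fin n) (Fin n) K).det = 1) (z : K)
    (hz : ((x ^ r : GL (Fin n) K) : Matrix (Fin n) (Fin n) K) =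
      z • (1 : Matrix (Fin n) (Fin n) K)) : z = 1 := by
  have hodd : Odd r := hr.odd_of_ne_two hr2
  have hzr : z ^ r = 1 := by
    have h1 := congrArg Matrix.det hz
    rw [Units.val_pow_eq_pow_val, Matrix.det_pow, hx, one_pow, Matrix.det_smul, Matrix.det_one,
      mul_one, Fintype.card_fin, hnr] at h1
    exact h1.symm
  have hz0 : z ≠ 0 := by
    rintro rfl
    rw [zero_pow hr.ne_zero] at hzr
    exact zero_ne_one hzr
  by_contra hz1
  have hnp : ∀ b : K, b ^ r ≠ z := by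
    intro b hb
    have hb0 : b ≠ 0 := by
      rintro rfl
      rw [zero_pow hr.ne_zero] at hb
      exact hz0 hb.symm
    have h1 : b ^ (r ^ 2) = 1 := by rw [pow_two, pow_mul, hb, hzr]
    have h2 : orderOf b ∣ r ^ 2 := orderOf_dvd_of_pow_eq_one h1
    have h3 : orderOf b ∣ Fintype.card K - 1 :=
      orderOf_dvd_of_pow_eq_one (FiniteField.pow_card_sub_one_eq_one b hb0)
    obtain ⟨k, hk, hkk⟩ := (Nat.dvd_prime_pow hr).1 h2
    have hk2 : k ≠ 2 := by
      rintro rfl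
      rw [hkk] at h3
      exact hrq h3
    have h4 : orderOf b ∣ r := by
      rw [hkk]
      have : k = 0 ∨ k = 1 := by omega
      rcases this with rfl | rfl
      · rw [pow_zero]
        exact one_dvd _
      · rw [pow_one]
    apply hz1
    rw [← hb]
    exact orderOf_dvd_iff_pow_eq_one.1 h4
  have hirr : Irreducible (X ^ r - C z : K[X]) := X_pow_sub_C_irreducible_of_prime hr hnp
  set M : Matrix (Fin n) (Fin n) K := (x : Matrix (Fin n) (Fin n) K) with hM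
  have hMr : M ^ r = z • (1 : Matrix (Fin n) (Fin n) K) := by
    rw [hM, ← Units.val_pow_eq_pow_val]
    exact hz
  have haev : aeval M (X ^ r - C z : K[X]) = 0 := by
    rw [map_sub, map_pow, aeval_X, aeval_C, hMr, Algebra.algebraMap_eq_smul_one, sub_self]
  have hmon : (X ^ r - C z : K[X]).Monic := monic_X_pow_sub_C z hr.ne_zero
  haveI : Nonempty (Fin n) := ⟨⟨0, by rw [hnr]; exact hr.pos⟩⟩
  have hmin : (X ^ r - C z : K[X]) = minpoly K M :=
    minpoly.eq_of_irreducible_of_monic hirr haev hmon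
  have hdvd : (X ^ r - C z : K[X]) ∣ M.charpoly := by
    rw [hmin]
    exact Matrix.minpoly_dvd_charpoly M
  have hcp : M.charpoly = X ^ r - C z := by
    apply Polynomial.eq_of_monic_of_dvd_of_natDegree_le hmon (Matrix.charpoly_monic M) hdvd
    rw [Matrix.charpoly_natDegree_eq_dim, Fintype.card_fin, natDegree_X_pow_sub_C, hnr]
  have hdet := Matrix.det_eq_sign_charpoly_coeff M
  rw [hx, hcp, Fintype.card_fin, hnr, hodd.neg_one_pow, coeff_zero_eq_eval_zero, eval_sub,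
    eval_pow, eval_X, eval_C, zero_pow hr.ne_zero, zero_sub] at hdet
  apply hz1
  rw [hdet]
  ring

end scalar

end Cfsg.Agent.Helper28.BGQ
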