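import Mathlib
import Cfsg.Agent.Lib.Helper28.BGO2
import Cfsg.Agent.Lib.Helper28.BGQ13

/-!
# Elements of order `r` of `SL_r(q)`, `r ∈ {3, 5}`, `(q - 1)_r = r`, are conjugate into the
similarity group of a quadratic form (helper28)
-/

set_option autoImplicit false
set_option linter.style.haveILetI false
set_option linter.unusedSectionVars false
set_option linter.unusedVariables false

namespace Cfsg.Agent.Helper28.BGO

open Matrix Module QuadraticMap Polynomial Cfsg.Agent.Helper13 Cfsg.Agent.Helper13.SpSim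
  Cfsg.Agent.Helper13.SS Cfsg.Agent.Helper13.FN Cfsg.Agent.Helper28.BGQ

section perm

variable {K : Type*} [Field K] {κ : Type*} [Fintype κ] [DecidableEq κ]

theorem permG_transpose' (π : κ → κ) (hπ : Function.Involutive π) :
    (permG π : Matrix κ κ K)ᵀ = (permG π : Matrix κ κ K) := by
  have h := permG_transpose (K := K) (RingHom.id K) π hπ
  rw [h]
  ext i j
  rfl

theorem permG_sim' (π : κ → κ) (d : κ → K) (τ : K) (hd : ∀ i, d i * d (π i) = τ) :
    (Matrix.diagonal d)ᵀ * (permG π : Matrix κ κ K) * Matrix.diagonal d =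
      τ • (permG π : Matrix κ κ K) := by
  have h := permG_sim (K := K) (RingHom.id K) π d τ hd
  have h1 : (Matrix.diagonal d).map (RingHom.id K) = Matrix.diagonal d := by
    ext i j
    rfl
  rw [h1] at h
  exact h

end perm

section main

variable {K : Type*} [Field K] [Fintype K] {p : ℕ} [Fact p.Prime] [CharP K p] {n r : ℕ}
  (Q : QuadraticForm K (Fin n → K))

/-- an element of `SL_n`, `n` odd, of order prime to the characteristic whose characteristic
polynomial has the symmetric shape `(X - α)^a (X - β)^b (X - β')^b (X - γ)^c (X - γ')^c` with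
`α² = β β' = γ γ'` is conjugate into the similarity group -/
theorem conj_into_of_sym_charpoly (h2 : (2 : K) ≠ 0) (hQ : (polarBilin Q).Nondegenerate)
    (hnodd : Odd n) (x : GL (Fin n) K) (hx : x ∈ Cfsg.Geo.specialLinear (Fin n) K)
    (hxo : (orderOf x).Coprime p) (a b c : ℕ) (hn : a + 2 * b + 2 * c = n)
    (α β β' γ γ' τ : K) (M : ℕ) (hM : M.Coprime p) (hαM : α ^ M = 1) (hβM : β ^ M = 1)
    (hβ'M : β' ^ M = 1) (hγM : γ ^ M = 1) (hγ'M : γ' ^ M = 1)
    (hαα : α * α = τ) (hββ : β * β' = τ) (hγγ : γ * γ' = τ) (hτ : τ ≠ 0)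
    (hchar : (x : Matrix (Fin n) (Fin n) K).charpoly =
      (X - C α) ^ a * (((X - C β) ^ b * (X - C β') ^ b) * ((X - C γ) ^ c * (X - C γ') ^ c))) :
    ∃ g ∈ Cfsg.Geo.specialLinear (Fin n) K, g⁻¹ * x * g ∈ Cfsg.Geo.quadSimilarityGroup ⇑Q := by
  classical
  have hπ := idxSwap_involutive (a := a) (b := b) (c := c)
  set G : Matrix (Idx a b c) (Idx a b c) K := permG (idxSwap a b c) with hG
  have hcard : Fintype.card (Idx a b c) = n := by
    rw [Fintype.card_sum, Fintype.card_sum, Fintype.card_sum, Fintype.card_sum, Fintype.card_fin,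
      Fintype.card_fin, Fintype.card_fin, ← hn]
    ring
  have hGG : G + Gᵀ = (2 : K) • G := by
    rw [hG, permG_transpose' _ hπ, two_smul]
  have hdet : (G + Gᵀ).det ≠ 0 := by
    rw [hGG, Matrix.det_smul]
    exact mul_ne_zero (pow_ne_zero _ h2) (permG_det_isUnit _ hπ).ne_zero
  obtain ⟨c₀, hc₀, e, he⟩ := exists_equiv_model_odd Q h2 hQ hnodd G hdet hcard
  set D : Matrix (Idx a b c) (Idx a b c) K := Matrix.diagonal (idxDiag a b c α β β' γ γ') with hD
  apply conj_into_qsim (p := p) Q x hx hxo G e c₀ hc₀ he D τ hτ ?_ M hM ?_ ?_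
  · rw [hD, hG]
    apply permG_sim'
    intro i
    have h := idxDiag_pair (a := a) (b := b) (c := c) (RingHom.id K) α β β' γ γ' τ rfl rfl rfl
      rfl rfl hαα hββ hγγ i
    exact h
  · rw [hD, idxDiag_pow, hαM, hβM, hβ'M, hγM, hγ'M, idxDiag_one]
  · rw [hD, charpoly_idxDiag, hchar]

/-- the symmetric characteristic polynomial criterion for powers of a root of unity -/
theorem conj_into_zeta (h2 : (2 : K) ≠ 0) (hQ : (polarBilin Q).Nondegenerate)
    (hnodd : Odd n) (x : GL (Fin n) K) (hx : x ∈ Cfsg.Geo.specialLinear (Fin n) K)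
    (hxo : (orderOf x).Coprime p) (hrp : r.Coprime p) (ζ : K) (hζ0 : ζ ≠ 0) (hζr : ζ ^ r = 1)
    (a b c : ℕ) (hn : a + 2 * b + 2 * c = n) (i0 i1 i2 i3 i4 : ℕ)
    (h1 : (i1 + i2) % r = (i0 + i0) % r) (h2' : (i3 + i4) % r = (i0 + i0) % r)
    (hchar : (x : Matrix (Fin n) (Fin n) K).charpoly =
      (X - C (ζ ^ i0)) ^ a * (((X - C (ζ ^ i1)) ^ b * (X - C (ζ ^ i2)) ^ b) *
        ((X - C (ζ ^ i3)) ^ c * (X - C (ζ ^ i4)) ^ c))) :
    ∃ g ∈ Cfsg.Geo.specialLinear (Fin n) K, g⁻¹ * x * g ∈ Cfsg.Geo.quadSimilarityGroup ⇑Q := by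
  have hpow : ∀ i : ℕ, (ζ ^ i) ^ r = 1 := by
    intro i
    rw [← pow_mul, mul_comm, pow_mul, hζr, one_pow]
  apply conj_into_of_sym_charpoly (p := p) Q h2 hQ hnodd x hx hxo a b c hn (ζ ^ i0) (ζ ^ i1)
    (ζ ^ i2) (ζ ^ i3) (ζ ^ i4) (ζ ^ i0 * ζ ^ i0) r hrp (hpow _) (hpow _) (hpow _) (hpow _) (hpow _)
    rfl ?_ ?_ (mul_ne_zero (pow_ne_zero _ hζ0) (pow_ne_zero _ hζ0)) hchar
  · rw [← pow_add, ← pow_add]
    exact pow_congr_mod ζ hζr h1
  · rw [← pow_add, ← pow_add]
    exact pow_congr_mod ζ hζr h2'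

theorem conj_special (hp2 : p ≠ 2) (hQ : (polarBilin Q).Nondegenerate)
    [Fact r.Prime] (hr35 : r = 3 ∨ r = 5) (hnr : n = r)
    (hv : padicValNat r (Fintype.card K - 1) = 1)
    (x : GL (Fin n) K) (hx : x ∈ Cfsg.Geo.specialLinear (Fin n) K) (z : K)
    (hz : ((x ^ r : GL (Fin n) K) : Matrix (Fin n) (Fin n) K) =
      z • (1 : Matrix (Fin n) (Fin n) K)) :
    ∃ g ∈ Cfsg.Geo.specialLinear (Fin n) K, g⁻¹ * x * g ∈ Cfsg.Geo.quadSimilarityGroup ⇑Q := by
  classical
  have hr : r.Prime := Fact.out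
  have hp : p.Prime := Fact.out
  have h2 : (2 : K) ≠ 0 := two_ne_zero_of_char_ne (p := p) hp2
  have hr2 : r ≠ 2 := by rcases hr35 with rfl | rfl <;> norm_num
  have hnodd : Odd n := by
    rw [hnr]
    exact hr.odd_of_ne_two hr2
  have hq1 : 1 < Fintype.card K := Fintype.one_lt_card
  have hrq0 : r ∣ Fintype.card K - 1 := dvd_of_one_le_padicValNat (by omega)
  have hrp : r ≠ p := by
    intro hrp'
    have h1 : p ∣ Fintype.card K := by
      have h3 : ((Fintype.card K : ℕ) : K) = 0 := FiniteField.cast_card_eq_zero K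
      exact (CharP.cast_eq_zero_iff K p (Fintype.card K)).1 h3
    rw [← hrp'] at h1
    have h4 : r ∣ Fintype.card K - (Fintype.card K - 1) := Nat.dvd_sub h1 hrq0
    have h5 : Fintype.card K - (Fintype.card K - 1) = 1 := by omega
    rw [h5] at h4
    exact hr.one_lt.ne' (Nat.dvd_one.1 h4)
  have hrcop : r.Coprime p := (Nat.coprime_primes hr hp).2 hrp
  have hrq : ¬ r ^ 2 ∣ Fintype.card K - 1 := by
    intro h
    rw [padicValNat_dvd_iff_le (by omega), hv] at h
    omega
  have hxd : (x : Matrix (Fin n) (Fin n) K).det = 1 := (mem_sl_iff x).1 hx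
  have hz1 : z = 1 := pow_eq_one_of_pow_scalar hr hr2 hnr hrq x hxd z hz
  have hxr : x ^ r = 1 := by
    apply Units.ext
    rw [hz, hz1, one_smul, Units.val_one]
  have hxo : (orderOf x).Coprime p :=
    Nat.Coprime.coprime_dvd_left (orderOf_dvd_of_pow_eq_one hxr) hrcop
  obtain ⟨u, hu⟩ := exists_prime_orderOf_dvd_card (G := Kˣ) r (by
    rw [Fintype.card_units]
    exact hrq0)
  set ζ : K := (u : K) with hζdef
  have hζo : orderOf ζ = r := by rw [hζdef, orderOf_units, hu]
  have hζ0 : ζ ≠ 0 := u.ne_zero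
  have hζr : ζ ^ r = 1 := hζo ▸ pow_orderOf_eq_one ζ
  have hζ : IsPrimitiveRoot ζ r := by
    have := IsPrimitiveRoot.orderOf ζ
    rwa [hζo] at this
  have hcp := charpoly_of_pow_eq_one hr.pos ζ hζ x hxr
  have hsum := sum_emult hr.pos ζ hζ x hxr
  have hdvd := dvd_sum_of_det_one hr.pos ζ hζ x hxr hxd
  rcases hr35 with rfl | rfl
  · -- `r = 3`
    simp only [Finset.prod_range_succ, Finset.prod_range_zero, one_mul] at hcp
    simp only [Finset.sum_range_succ, Finset.sum_range_zero, zero_add, zero_mul, one_mul] at hsum hdvd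
    set m0 := emult ζ x 0 with hm0
    set m1 := emult ζ x 1 with hm1
    set m2 := emult ζ x 2 with hm2
    rcases comb3 m0 m1 m2 (by omega) hdvd with h | h | h
    · rw [h] at hcp hsum
      apply conj_into_zeta (p := p) Q h2 hQ hnodd x hx hxo hrcop ζ hζ0 hζr m0 m2 0
        (by omega) 0 1 2 0 0 (by norm_num) (by norm_num)
      rw [hcp]
      ring
    · rw [h] at hcp hsum
      apply conj_into_zeta (p := p) Q h2 hQ hnodd x hx hxo hrcop ζ hζ0 hζr m1 m0 0
        (by omega) 1 2 0 1 1 (by norm_num) (by norm_num)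
      rw [hcp]
      ring
    · rw [h] at hcp hsum
      apply conj_into_zeta (p := p) Q h2 hQ hnodd x hx hxo hrcop ζ hζ0 hζr m2 m1 0
        (by omega) 2 0 1 2 2 (by norm_num) (by norm_num)
      rw [hcp]
      ring
  · -- `r = 5`
    simp only [Finset.prod_range_succ, Finset.prod_range_zero, one_mul] at hcp
    simp only [Finset.sum_range_succ, Finset.sum_range_zero, zero_add, zero_mul, one_mul] at hsum hdvd
    set m0 := emult ζ x 0 with hm0
    set m1 := emult ζ x 1 with hm1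
    set m2 := emult ζ x 2 with hm2
    set m3 := emult ζ x 3 with hm3
    set m4 := emult ζ x 4 with hm4
    rcases comb5 m0 m1 m2 m3 m4 (by omega) hdvd with h | h | h | h | h
    · obtain ⟨h1, h2'⟩ := h
      rw [h1, h2'] at hcp hsum
      apply conj_into_zeta (p := p) Q h2 hQ hnodd x hx hxo hrcop ζ hζ0 hζr m0 m4 m3
        (by omega) 0 1 4 2 3 (by norm_num) (by norm_num)
      rw [hcp]
      ring
    · obtain ⟨h1, h2'⟩ := h
      rw [h1, h2'] at hcp hsum
      apply conj_into_zeta (p := p) Q h2 hQ hnodd x hx hxo hrcop ζ hζ0 hζr m1 m0 m4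
        (by omega) 1 2 0 3 4 (by norm_num) (by norm_num)
      rw [hcp]
      ring
    · obtain ⟨h1, h2'⟩ := h
      rw [h1, h2'] at hcp hsum
      apply conj_into_zeta (p := p) Q h2 hQ hnodd x hx hxo hrcop ζ hζ0 hζr m2 m1 m0
        (by omega) 2 3 1 4 0 (by norm_num) (by norm_num)
      rw [hcp]
      ring
    · obtain ⟨h1, h2'⟩ := h
      rw [h1, h2'] at hcp hsum
      apply conj_into_zeta (p := p) Q h2 hQ hnodd x hx hxo hrcop ζ hζ0 hζr m3 m2 m1
        (by omega) 3 4 2 0 1 (by norm_num) (by norm_num)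
      rw [hcp]
      ring
    · obtain ⟨h1, h2'⟩ := h
      rw [h1, h2'] at hcp hsum
      apply conj_into_zeta (p := p) Q h2 hQ hnodd x hx hxo hrcop ζ hζ0 hζr m4 m3 m2
        (by omega) 4 0 3 1 2 (by norm_num) (by norm_num)
      rw [hcp]
      ring

end main

end Cfsg.Agent.Helper28.BGO
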