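import Mathlib
import Cfsg.Agent.Lib.Helper28.BGQ8
import Cfsg.Agent.Lib.Helper13.SpSim8

/-!
# Diagonal elements of odd prime order without conjugates in the similarity group of a unitary
form (helper28)
-/

set_option autoImplicit false
set_option linter.style.haveILetI false
set_option linter.unusedSectionVars false
set_option linter.unusedVariables false

namespace Cfsg.Agent.Helper28.BGQ

open Matrix Module Cfsg.Agent.Helper11.Herm Cfsg.Agent.Helper13.SpSim

section comb

variable {K : Type*} [Field K] [DecidableEq K]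

/-- the combinatorial analysis of the eigenvalue pattern `(ω, ω, ω⁻², 1, …, 1)` -/
theorem comb_general (ω τ : K) (k r : ℕ) (hr : r.Prime) (hr2 : r ≠ 2) (hω : orderOf ω = r)
    (cnt : K → ℕ)
    (hcnt : ∀ μ, cnt μ = (if ω = μ then 1 else 0) + (if ω = μ then 1 else 0) +
      (if ω⁻¹ * ω⁻¹ = μ then 1 else 0) + k * (if 1 = μ then 1 else 0))
    (hR : ∀ μ ν, μ * ν = τ → cnt μ = cnt ν) :
    (k = 2 ∧ r = 5) ∨ (r = 3 ∧ (k = 0 ∨ k = 3)) := by
  have hωr : ω ^ r = 1 := hω ▸ pow_orderOf_eq_one ω
  have hω0 : ω ≠ 0 := by
    rintro rfl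
    rw [zero_pow hr.ne_zero] at hωr
    exact zero_ne_one hωr
  have hpow : ∀ j, ω ^ j = 1 → r ∣ j := fun j h => hω ▸ orderOf_dvd_of_pow_eq_one h
  have hω1 : ω ≠ 1 := by
    intro h
    have := hpow 1 (by rw [pow_one, h])
    exact hr.one_lt.ne' (Nat.dvd_one.1 this)
  have hω2 : ω * ω ≠ 1 := by
    intro h
    have := hpow 2 (by rw [pow_two, h])
    exact hr2 ((Nat.prime_dvd_prime_iff_eq hr Nat.prime_two).1 this)
  have hω4 : ω * ω * (ω * ω) ≠ 1 := by
    intro h
    have h1 := hpow 4 (by rw [← h]; ring)
    have h2 : r ∣ 2 ^ 2 := by norm_num; exact h1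
    exact hr2 ((Nat.prime_dvd_prime_iff_eq hr Nat.prime_two).1 (hr.dvd_of_dvd_pow h2))
  have hω3 : ω * ω * ω = 1 → r = 3 := by
    intro h
    have := hpow 3 (by rw [← h]; ring)
    exact (Nat.prime_dvd_prime_iff_eq hr Nat.prime_three).1 this
  have hω5 : ω * ω * ω * (ω * ω) = 1 → r = 5 := by
    intro h
    have := hpow 5 (by rw [← h]; ring)
    exact (Nat.prime_dvd_prime_iff_eq hr (by norm_num)).1 this
  have hω6 : ω * ω * ω * (ω * ω * ω) = 1 → r = 3 := by
    intro h
    have h1 := hpow 6 (by rw [← h]; ring)
    have h2 : r ∣ 2 * 3 := by norm_num; exact h1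
    rcases (Nat.Prime.dvd_mul hr).1 h2 with h3 | h3
    · exact absurd ((Nat.prime_dvd_prime_iff_eq hr Nat.prime_two).1 h3) hr2
    · exact (Nat.prime_dvd_prime_iff_eq hr Nat.prime_three).1 h3
  have hi0 : ω⁻¹ ≠ 0 := inv_ne_zero hω0
  set b := ω⁻¹ * ω⁻¹ with hb
  have hbω : b * (ω * ω) = 1 := by rw [hb]; field_simp
  have hb0 : b ≠ 0 := mul_ne_zero hi0 hi0
  have hb1 : b ≠ 1 := by
    intro h
    rw [h, one_mul] at hbω
    exact hω2 hbω
  have hi1 : ω⁻¹ ≠ 1 := by
    intro h
    exact hω1 (inv_eq_one.1 h)
  have c1 : cnt 1 = k := by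
    rw [hcnt, if_neg hω1, if_neg hb1, if_pos rfl]
    ring
  have h1 := hR 1 τ (one_mul τ)
  rw [c1] at h1
  by_cases ht1 : τ = 1
  · exfalso
    subst ht1
    have h2 := hR ω ω⁻¹ (mul_inv_cancel₀ hω0)
    have c2 : 2 ≤ cnt ω := by
      rw [hcnt, if_pos rfl]
      omega
    have e1 : ω ≠ ω⁻¹ := by
      intro h
      apply hω2
      nth_rewrite 2 [h]
      exact mul_inv_cancel₀ hω0
    have e2 : b ≠ ω⁻¹ := by
      intro h
      apply hi1
      have h3 : ω⁻¹ * ω⁻¹ = 1 * ω⁻¹ := by rw [one_mul]; exact h
      exact mul_right_cancel₀ hi0 h3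
    have c3 : cnt ω⁻¹ = 0 := by
      rw [hcnt, if_neg e1, if_neg e2, if_neg (Ne.symm hi1)]
      simp
    omega
  · have c4 : cnt τ = (if ω = τ then 1 else 0) + (if ω = τ then 1 else 0) +
        (if b = τ then 1 else 0) := by
      rw [hcnt, if_neg (Ne.symm ht1), mul_zero, add_zero]
    rw [c4] at h1
    by_cases hωτ : ω = τ
    · rw [if_pos hωτ] at h1
      by_cases hbτ : b = τ
      · rw [if_pos hbτ] at h1
        have h3 : ω * ω * ω = 1 := by
          have h4 : ω = b := by rw [hωτ, hbτ]
          calc ω * ω * ω = ω * (ω * ω) := by ring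
            _ = b * (ω * ω) := by rw [← h4]
            _ = 1 := hbω
        exact Or.inr ⟨hω3 h3, Or.inr (by omega)⟩
      · rw [if_neg hbτ] at h1
        left
        refine ⟨by omega, ?_⟩
        have hk2 : k = 2 := by omega
        set ν := ω * (ω * ω) with hν
        have hbν : b * ν = τ := by
          rw [hν, ← hωτ]
          calc b * (ω * (ω * ω)) = (b * (ω * ω)) * ω := by ring
            _ = ω := by rw [hbω, one_mul]
        have h2 := hR b ν hbν
        have c5 : 1 ≤ cnt b := by
          rw [hcnt, if_pos rfl]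
          omega
        have e1 : ω ≠ ν := by
          intro h
          apply hω2
          have h3 : ω * 1 = ω * (ω * ω) := by rw [mul_one]; exact h
          exact (mul_left_cancel₀ hω0 h3).symm
        have e3 : (1 : K) ≠ ν := by
          intro h
          have h3 : ω * ω * ω = 1 := by rw [h, hν]; ring
          apply hbτ
          rw [← hωτ]
          have h4 : b * (ω * ω) = ω * (ω * ω) := by rw [hbω, ← h3]; ring
          exact mul_right_cancel₀ (mul_ne_zero hω0 hω0) h4
        have c6 : cnt ν = (if b = ν then 1 else 0) := by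
          rw [hcnt, if_neg e1, if_neg e3]
          simp
        by_cases hbν' : b = ν
        · apply hω5
          calc ω * ω * ω * (ω * ω) = ν * (ω * ω) := by rw [hν]; ring
            _ = b * (ω * ω) := by rw [← hbν']
            _ = 1 := hbω
        · rw [c6, if_neg hbν'] at h2
          omega
    · rw [if_neg hωτ] at h1
      by_cases hbτ : b = τ
      · exfalso
        rw [if_pos hbτ] at h1
        have hωb : ω ≠ b := by rw [hbτ]; exact hωτ
        have h2 := hR ω (b * ω⁻¹) (by
          rw [← hbτ, mul_comm b, ← mul_assoc, mul_inv_cancel₀ hω0, one_mul])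
        have c2 : 2 ≤ cnt ω := by
          rw [hcnt, if_pos rfl]
          omega
        have e1 : ω ≠ b * ω⁻¹ := by
          intro h
          apply hω4
          have h3 : ω * ω = b := by
            calc ω * ω = (b * ω⁻¹) * ω := by rw [← h]
              _ = b := by rw [mul_assoc, inv_mul_cancel₀ hω0, mul_one]
          nth_rewrite 1 [h3]
          exact hbω
        have e2 : b ≠ b * ω⁻¹ := by
          intro h
          apply hi1
          have h3 : b * 1 = b * ω⁻¹ := by rw [mul_one]; exact h
          exact (mul_left_cancel₀ hb0 h3).symm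
        have e3 : (1 : K) ≠ b * ω⁻¹ := by
          intro h
          apply hωb
          have h3 : ω = b * ω⁻¹ * ω := by rw [← h, one_mul]
          rw [h3, mul_assoc, inv_mul_cancel₀ hω0, mul_one]
        have c3 : cnt (b * ω⁻¹) = (if (1 : K) = b * ω⁻¹ then k else 0) := by
          rw [hcnt, if_neg e1, if_neg e2]
          simp
        rw [c3, if_neg e3] at h2
        omega
      · rw [if_neg hbτ] at h1
        right
        have hk0 : k = 0 := by omega
        refine ⟨?_, Or.inl hk0⟩
        by_contra hr3
        have hωb : ω ≠ b := by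
          intro h
          apply hr3
          apply hω3
          calc ω * ω * ω = ω * (ω * ω) := by ring
            _ = b * (ω * ω) := by rw [← h]
            _ = 1 := hbω
        have c2 : cnt ω = 2 := by
          rw [hcnt, if_pos rfl, if_neg (Ne.symm hωb), hk0, zero_mul]
          try norm_num
        have h2 := hR ω (τ * ω⁻¹) (by
          rw [mul_comm τ, ← mul_assoc, mul_inv_cancel₀ hω0, one_mul])
        have hτω : τ = ω * ω := by
          by_contra hne
          have e1 : ω ≠ τ * ω⁻¹ := by
            intro h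
            apply hne
            calc τ = (τ * ω⁻¹) * ω := by rw [mul_assoc, inv_mul_cancel₀ hω0, mul_one]
              _ = ω * ω := by rw [← h]
          have c3 : cnt (τ * ω⁻¹) ≤ 1 := by
            rw [hcnt, if_neg e1, hk0]
            split_ifs <;> simp
          omega
        set ν := (ω * ω) * (ω * ω) with hν
        have hbν : b * ν = τ := by
          rw [hν, hτω, ← mul_assoc, hbω, one_mul]
        have h3 := hR b ν hbν
        have c5 : cnt b = 1 := by
          rw [hcnt, if_neg hωb, if_pos rfl, hk0, zero_mul]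
          try norm_num
        have e1 : ω ≠ ν := by
          intro h
          apply hr3
          apply hω3
          have h4 : ω * 1 = ω * (ω * ω * ω) := by
            rw [mul_one]
            calc ω = ν := h
              _ = ω * (ω * ω * ω) := by rw [hν]; ring
          exact (mul_left_cancel₀ hω0 h4).symm
        have hbν' : b = ν := by
          by_contra hne
          have c6 : cnt ν = 0 := by
            rw [hcnt, if_neg e1, if_neg hne, hk0, zero_mul]
            try norm_num
          omega
        apply hr3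
        apply hω6
        calc ω * ω * ω * (ω * ω * ω) = ν * (ω * ω) := by rw [hν]; ring
          _ = b * (ω * ω) := by rw [← hbν']
          _ = 1 := hbω

end comb

end Cfsg.Agent.Helper28.BGQ
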