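import Mathlib
import Cfsg.Agent.Lib.Helper28.BGO1
import Cfsg.Agent.Lib.Helper28.BGQ10

/-!
# Diagonal elements of odd prime order without conjugates in the similarity group of a quadratic
form (helper28)
-/

set_option autoImplicit false
set_option linter.style.haveILetI false
set_option linter.unusedSectionVars false
set_option linter.unusedVariables false

namespace Cfsg.Agent.Helper28.BGO

open Matrix Module QuadraticMap Cfsg.Agent.Helper13 Cfsg.Agent.Helper13.SpSim
  Cfsg.Agent.Helper28.BGQ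

section witness1

variable {K : Type*} [Field K] [Fintype K] {n r : ℕ} (Q : QuadraticForm K (Fin n → K))

/-- if `r` divides `q - 1`, the diagonal element `(ω, ω, ω⁻², 1, …, 1)` has no conjugate in the
similarity group of a quadratic form, unless `(n, r)` is `(3, 3)`, `(5, 5)` or `(6, 3)` -/
theorem exists_bad_diag (hQ : (polarBilin Q).Nondegenerate)
    (hn3 : 3 ≤ n) [Fact r.Prime] (hr2 : r ≠ 2) (hrq : r ∣ Fintype.card K - 1)
    (hex5 : ¬ (n = 5 ∧ r = 5)) (hex3 : ¬ (n = 3 ∧ r = 3)) (hgap : ¬ (n = 6 ∧ r = 3)) :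
    ∃ x ∈ Cfsg.Geo.specialLinear (Fin n) K,
      (∃ z : K, ((x ^ r : GL (Fin n) K) : Matrix (Fin n) (Fin n) K) =
        z • (1 : Matrix (Fin n) (Fin n) K)) ∧
      (∀ z : K, (x : Matrix (Fin n) (Fin n) K) ≠ z • (1 : Matrix (Fin n) (Fin n) K)) ∧
      ∀ g ∈ Cfsg.Geo.specialLinear (Fin n) K, g⁻¹ * x * g ∉ Cfsg.Geo.quadSimilarityGroup ⇑Q := by
  classical
  have hr : r.Prime := Fact.out
  obtain ⟨k, rfl⟩ : ∃ k, n = 3 + k := ⟨n - 3, by omega⟩
  obtain ⟨u, hu⟩ := exists_prime_orderOf_dvd_card (G := Kˣ) r (by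
    rw [Fintype.card_units]
    exact hrq)
  set ω : K := (u : K) with hω
  have hωo : orderOf ω = r := by rw [hω, orderOf_units, hu]
  have hω0 : ω ≠ 0 := u.ne_zero
  have hωr : ω ^ r = 1 := hωo ▸ pow_orderOf_eq_one ω
  have hω1 : ω ≠ 1 := by
    intro h
    rw [h, orderOf_one] at hωo
    exact hr.one_lt.ne hωo
  have hdet : (Matrix.diagonal (dvec k ω)).det = 1 := by
    rw [Matrix.det_diagonal, prod_dvec ω hω0]
  set x : GL (Fin (3 + k)) K := SpecialLinearGroup.toGL ⟨Matrix.diagonal (dvec k ω), hdet⟩ with hx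
  have hxv : (x : Matrix (Fin (3 + k)) (Fin (3 + k)) K) = Matrix.diagonal (dvec k ω) := rfl
  refine ⟨x, (mem_sl_iff x).2 (by rw [hxv]; exact hdet), ⟨1, ?_⟩, ?_, ?_⟩
  · rw [Units.val_pow_eq_pow_val, hxv, Matrix.diagonal_pow, one_smul, ← Matrix.diagonal_one]
    congr 1
    funext i
    exact dvec_pow ω r hωr i
  · intro z hz
    rw [hxv, Matrix.smul_one_eq_diagonal] at hz
    have e0 := congrFun (Matrix.diagonal_injective hz) (Fin.castAdd k 0)
    simp only [dvec, Fin.append_left] at e0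
    rcases Nat.eq_zero_or_pos k with hk | hk
    · have e2 := congrFun (Matrix.diagonal_injective hz) (Fin.castAdd k 2)
      simp only [dvec, Fin.append_left] at e2
      apply hex3
      refine ⟨by omega, ?_⟩
      have h3 : ω⁻¹ * ω⁻¹ = ω := by
        have e0' : ω = z := by simpa using e0
        have e2' : ω⁻¹ * ω⁻¹ = z := by simpa using e2
        exact e2'.trans e0'.symm
      have h4 : ω ^ 3 = 1 := by
        have : ω * ω * ω = ω * ω * (ω⁻¹ * ω⁻¹) := by rw [h3]
        rw [pow_succ, pow_two, this]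
        field_simp
      have h5 := orderOf_dvd_of_pow_eq_one h4
      rw [hωo] at h5
      exact (Nat.prime_dvd_prime_iff_eq hr Nat.prime_three).1 h5
    · have e1 := congrFun (Matrix.diagonal_injective hz) (Fin.natAdd 3 ⟨0, hk⟩)
      simp only [dvec, Fin.append_right] at e1
      apply hω1
      rw [← e1] at e0
      simpa using e0
  · rintro g - ⟨c, hc⟩
    have hsymm : ∀ μ ν : K, μ * ν = (c : K) → cntv k ω μ = cntv k ω ν := by
      intro μ ν hμν
      exact cnt_symm_of_conj_qsim Q hQ (dvec k ω) x g hxv (c : K) c.ne_zero hc μ ν hμν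
    rcases comb_general ω (c : K) k r hr hr2 hωo (cntv k ω) (cntv_eq ω) hsymm with h | h
    · exact hex5 ⟨by omega, h.2⟩
    · rcases h.2 with h0 | h3
      · exact hex3 ⟨by omega, h.1⟩
      · exact hgap ⟨by omega, h.1⟩

end witness1

section witness2

variable {K : Type*} [Field K] [Fintype K] {n r : ℕ} (Q : QuadraticForm K (Fin n → K))

/-- if `r ^ 2` divides `q - 1` and `n = r`, the element `ν • (ω, 1, …, 1)` with `ν ^ r = ω⁻¹` has
no conjugate in the similarity group of a quadratic form -/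
theorem exists_bad_diag2 (hQ : (polarBilin Q).Nondegenerate)
    (hn3 : 3 ≤ n) [Fact r.Prime] (hr2 : r ≠ 2) (hnr : n = r)
    (hrq : r ^ 2 ∣ Fintype.card K - 1) :
    ∃ x ∈ Cfsg.Geo.specialLinear (Fin n) K,
      (∃ z : K, ((x ^ r : GL (Fin n) K) : Matrix (Fin n) (Fin n) K) =
        z • (1 : Matrix (Fin n) (Fin n) K)) ∧
      (∀ z : K, (x : Matrix (Fin n) (Fin n) K) ≠ z • (1 : Matrix (Fin n) (Fin n) K)) ∧
      ∀ g ∈ Cfsg.Geo.specialLinear (Fin n) K, g⁻¹ * x * g ∉ Cfsg.Geo.quadSimilarityGroup ⇑Q := by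
  classical
  have hr : r.Prime := Fact.out
  have hn1 : 1 ≤ n := by omega
  have hq1 : 1 < Fintype.card K := Fintype.one_lt_card
  obtain ⟨ζ, hζ⟩ := IsCyclic.exists_generator (α := Kˣ)
  have hζo : orderOf ζ = Fintype.card K - 1 := by
    rw [orderOf_eq_card_of_forall_mem_zpowers hζ, Nat.card_eq_fintype_card, Fintype.card_units]
  have hdvd : r ^ 2 ∣ orderOf ζ := by
    rw [hζo]
    exact hrq
  have hζ0 : orderOf ζ ≠ 0 := by
    rw [hζo]
    omega
  set ν' : Kˣ := ζ ^ (orderOf ζ / r ^ 2) with hν'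
  have hν'o : orderOf ν' = r ^ 2 := orderOf_pow_orderOf_div hζ0 hdvd
  set ν : K := (ν' : K) with hν
  have hνo : orderOf ν = r ^ 2 := by rw [hν, orderOf_units, hν'o]
  have hν0 : ν ≠ 0 := ν'.ne_zero
  have hνr2 : ν ^ (r ^ 2) = 1 := hνo ▸ pow_orderOf_eq_one ν
  set ω : K := (ν ^ r)⁻¹ with hω
  have hνω : ν ^ r * ω = 1 := by
    rw [hω]
    exact mul_inv_cancel₀ (pow_ne_zero _ hν0)
  have hω0 : ω ≠ 0 := inv_ne_zero (pow_ne_zero _ hν0)
  have hωr : ω ^ r = 1 := by
    rw [hω, inv_pow, ← pow_mul, ← pow_two, hνr2, inv_one]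
  have hω1 : ω ≠ 1 := by
    intro h
    rw [h, mul_one] at hνω
    have h1 := orderOf_dvd_of_pow_eq_one hνω
    rw [hνo] at h1
    have h2 := Nat.le_of_dvd hr.pos h1
    have h3 : r < r ^ 2 := by
      have := hr.two_le
      nlinarith
    omega
  have hω2 : ω * ω ≠ 1 := by
    intro h
    have h1 : orderOf ω ∣ 2 := orderOf_dvd_of_pow_eq_one (by rw [pow_two, h])
    have h2 : orderOf ω ∣ r := orderOf_dvd_of_pow_eq_one hωr
    have h3 : orderOf ω ∣ Nat.gcd 2 r := Nat.dvd_gcd h1 h2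
    have h4 : Nat.gcd 2 r = 1 := (Nat.coprime_primes Nat.prime_two hr).2 (Ne.symm hr2)
    rw [h4, Nat.dvd_one, orderOf_eq_one_iff] at h3
    exact hω1 h3
  set i₀ : Fin n := ⟨0, hn1⟩ with hi₀
  set i₁ : Fin n := ⟨1, by omega⟩ with hi₁
  have h01 : i₁ ≠ i₀ := by simp [hi₀, hi₁, Fin.ext_iff]
  set d : Fin n → K := fun i => ν * (if i = i₀ then ω else 1) with hd
  have hdet : (Matrix.diagonal d).det = 1 := by
    rw [Matrix.det_diagonal]
    simp only [hd]
    rw [Finset.prod_mul_distrib, Fintype.prod_ite_eq', Finset.prod_const, Finset.card_univ,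
      Fintype.card_fin, hnr, hνω]
  set x : GL (Fin n) K := SpecialLinearGroup.toGL ⟨Matrix.diagonal d, hdet⟩ with hx
  have hxv : (x : Matrix (Fin n) (Fin n) K) = Matrix.diagonal d := rfl
  refine ⟨x, (mem_sl_iff x).2 (by rw [hxv]; exact hdet), ⟨ν ^ r, ?_⟩, ?_, ?_⟩
  · rw [Units.val_pow_eq_pow_val, hxv, Matrix.diagonal_pow, Matrix.smul_one_eq_diagonal]
    congr 1
    funext i
    simp only [hd, Pi.pow_apply, mul_pow]
    by_cases hi : i = i₀
    · rw [if_pos hi, hωr, mul_one]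
    · rw [if_neg hi, one_pow, mul_one]
  · intro z hz
    rw [hxv, Matrix.smul_one_eq_diagonal] at hz
    have e0 := congrFun (Matrix.diagonal_injective hz) i₀
    have e1 := congrFun (Matrix.diagonal_injective hz) i₁
    simp only [hd, if_neg h01, mul_one] at e0 e1
    simp only [if_true] at e0
    apply hω1
    have h3 : ν * ω = ν * 1 := by rw [mul_one, e0, e1]
    exact mul_left_cancel₀ hν0 h3
  · rintro g - ⟨c, hc⟩
    have hsymm := cnt_symm_of_conj_qsim Q hQ d x g hxv (c : K) c.ne_zero hc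
    have hcnt : ∀ μ : K, (Finset.univ.filter (fun i => d i = μ)).card =
        (if ν * ω = μ then 1 else 0) + (n - 1) * (if ν = μ then 1 else 0) := fun μ =>
      card_filter_two_valued hn1 ν ω μ
    have hνω' : ν * ω ≠ ν := by
      intro h
      apply hω1
      have h3 : ν * ω = ν * 1 := by rw [mul_one]; exact h
      exact mul_left_cancel₀ hν0 h3
    have h1 := hsymm ν ((c : K) * ν⁻¹) (by
      rw [mul_comm (c : K), ← mul_assoc, mul_inv_cancel₀ hν0, one_mul])
    rw [hcnt, hcnt, if_neg hνω', if_pos rfl] at h1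
    have hcν : (c : K) = ν * ν := by
      by_contra hne
      have e1 : ν ≠ (c : K) * ν⁻¹ := by
        intro h
        apply hne
        calc (c : K) = ((c : K) * ν⁻¹) * ν := by rw [mul_assoc, inv_mul_cancel₀ hν0, mul_one]
          _ = ν * ν := by rw [← h]
      rw [if_neg e1] at h1
      split_ifs at h1 <;> omega
    have h2 := hsymm (ν * ω) (ν * ω⁻¹) (by
      rw [hcν]
      field_simp)
    rw [hcnt, hcnt, if_pos rfl, if_neg (Ne.symm hνω')] at h2
    have e2 : ν * ω ≠ ν * ω⁻¹ := by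
      intro h
      apply hω2
      have h3 := mul_left_cancel₀ hν0 h
      nth_rewrite 2 [h3]
      exact mul_inv_cancel₀ hω0
    have e3 : ν ≠ ν * ω⁻¹ := by
      intro h
      apply hω1
      have h3 : ν * 1 = ν * ω⁻¹ := by rw [mul_one]; exact h
      have h4 := mul_left_cancel₀ hν0 h3
      exact inv_eq_one.1 h4.symm
    rw [if_neg e2, if_neg e3] at h2
    omega

end witness2

end Cfsg.Agent.Helper28.BGO
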