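import Mathlib
import Cfsg.Agent.Lib.Helper28.BGO1

/-!
# A transvection has no conjugate in the similarity group of a quadratic form in odd
characteristic (helper28)
-/

set_option autoImplicit false
set_option linter.style.haveILetI false
set_option linter.unusedSectionVars false
set_option linter.unusedVariables false

namespace Cfsg.Agent.Helper28.BGO

open Matrix Module QuadraticMap Cfsg.Agent.Helper13 Cfsg.Agent.Helper28.BGQ

section simpow

variable {K : Type*} [Field K] {n : ℕ} (Q : QuadraticForm K (Fin n → K))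

theorem qsim_pow (Y : Matrix (Fin n) (Fin n) K) (c : K) (h : ∀ v, Q (Y *ᵥ v) = c * Q v)
    (k : ℕ) (v : Fin n → K) : Q ((Y ^ k) *ᵥ v) = c ^ k * Q v := by
  induction k generalizing v with
  | zero => rw [pow_zero, pow_zero, Matrix.one_mulVec, one_mul]
  | succ k ih => rw [pow_succ, ← Matrix.mulVec_mulVec, ih, h, pow_succ, mul_assoc]

theorem exists_Q_ne_zero (h2 : (2 : K) ≠ 0) (hn : 1 ≤ n) (hQ : (polarBilin Q).Nondegenerate) :
    ∃ v, Q v ≠ 0 := by
  by_contra hall
  rw [not_exists] at hall
  have hall : ∀ v, Q v = 0 := fun v => not_not.1 (hall v)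
  set e₀ : Fin n → K := Pi.single ⟨0, hn⟩ 1 with he₀
  have he₀0 : e₀ ≠ 0 := by
    intro h
    have := congrFun h ⟨0, hn⟩
    rw [he₀, Pi.single_eq_same, Pi.zero_apply] at this
    exact one_ne_zero this
  apply he₀0
  apply hQ.1 e₀
  intro y
  show polar Q e₀ y = 0
  unfold polar
  rw [hall, hall, hall]
  ring

end simpow

section main

variable {K : Type*} [Field K] [Fintype K] {p : ℕ} [Fact p.Prime] [CharP K p] {n : ℕ}
  (Q : QuadraticForm K (Fin n → K))

/-- odd characteristic `p`: a transvection is an element of order `p` of `SL_n` without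
conjugates in the similarity group of a quadratic form -/
theorem exists_bad_transvection (hp2 : p ≠ 2) (hn : 2 ≤ n) (hQ : (polarBilin Q).Nondegenerate) :
    ∃ x ∈ Cfsg.Geo.specialLinear (Fin n) K,
      (∃ z : K, ((x ^ p : GL (Fin n) K) : Matrix (Fin n) (Fin n) K) =
        z • (1 : Matrix (Fin n) (Fin n) K)) ∧
      (∀ z : K, (x : Matrix (Fin n) (Fin n) K) ≠ z • (1 : Matrix (Fin n) (Fin n) K)) ∧
      ∀ g ∈ Cfsg.Geo.specialLinear (Fin n) K, g⁻¹ * x * g ∉ Cfsg.Geo.quadSimilarityGroup ⇑Q := by
  classical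
  have hp : p.Prime := Fact.out
  have h2 : (2 : K) ≠ 0 := by
    intro h
    have h3 : ((2 : ℕ) : K) = 0 := by exact_mod_cast h
    have h4 := (CharP.cast_eq_zero_iff K p 2).1 h3
    exact hp2 ((Nat.prime_dvd_prime_iff_eq hp Nat.prime_two).1 h4)
  set i₀ : Fin n := ⟨0, by omega⟩ with hi₀
  set i₁ : Fin n := ⟨1, by omega⟩ with hi₁
  have h01 : i₀ ≠ i₁ := by simp [hi₀, hi₁, Fin.ext_iff]
  set X : Matrix (Fin n) (Fin n) K := Matrix.transvection i₀ i₁ 1 with hX
  have hXdet : X.det = 1 := Matrix.det_transvection_of_ne i₀ i₁ h01 1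
  have hXpow : ∀ k : ℕ, X ^ k = Matrix.transvection i₀ i₁ (k : K) := by
    intro k
    induction k with
    | zero => rw [pow_zero, Nat.cast_zero, Matrix.transvection_zero]
    | succ k ih =>
      rw [pow_succ, ih, hX, Matrix.transvection_mul_transvection_same i₀ i₁ h01, Nat.cast_succ]
  have hXp : X ^ p = 1 := by
    rw [hXpow, CharP.cast_eq_zero K p, Matrix.transvection_zero]
  have hXv : ∀ w : Fin n → K, X *ᵥ w = w + (w i₁) • (Pi.single i₀ (1 : K)) := by
    intro w
    rw [hX, Matrix.transvection, Matrix.add_mulVec, Matrix.one_mulVec, Matrix.single_mulVec_eq,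
      one_mul]
  set x : GL (Fin n) K := SpecialLinearGroup.toGL ⟨X, hXdet⟩ with hx
  have hxv : (x : Matrix (Fin n) (Fin n) K) = X := rfl
  have hxp : x ^ p = 1 := by
    apply Units.ext
    rw [Units.val_pow_eq_pow_val, hxv, hXp, Units.val_one]
  refine ⟨x, (mem_sl_iff x).2 (by rw [hxv]; exact hXdet), ⟨1, ?_⟩, ?_, ?_⟩
  · rw [hxp, Units.val_one, one_smul]
  · intro z hz
    have h1 := congrFun (congrFun hz i₀) i₁
    rw [hxv, hX, Matrix.transvection, Matrix.add_apply, Matrix.one_apply_ne h01,
      Matrix.single_apply_same, Matrix.smul_apply, Matrix.one_apply_ne h01, zero_add,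
      smul_zero] at h1
    exact one_ne_zero h1
  · rintro g - ⟨c, hc⟩
    set Y : Matrix (Fin n) (Fin n) K :=
      ((g⁻¹ * x * g : GL (Fin n) K) : Matrix (Fin n) (Fin n) K) with hY
    set gi : Matrix (Fin n) (Fin n) K := ((g⁻¹ : GL (Fin n) K) : Matrix (Fin n) (Fin n) K)
      with hgi
    set gm : Matrix (Fin n) (Fin n) K := (g : Matrix (Fin n) (Fin n) K) with hgm
    have hgig : gi * gm = 1 := by rw [hgi, hgm, ← Units.val_mul, inv_mul_cancel, Units.val_one]
    have hggi : gm * gi = 1 := by rw [hgi, hgm, ← Units.val_mul, mul_inv_cancel, Units.val_one]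
    -- the multiplier is one
    have hYp : Y ^ p = 1 := by
      rw [hY, ← Units.val_pow_eq_pow_val]
      have h1 : (g⁻¹ * x * g) ^ p = 1 := by
        have h3 : g⁻¹ * x * g = g⁻¹ * x * g⁻¹⁻¹ := by rw [inv_inv]
        rw [h3, conj_pow, hxp, mul_one, mul_inv_cancel]
      rw [h1, Units.val_one]
    obtain ⟨v₀, hv₀⟩ := exists_Q_ne_zero Q h2 (by omega) hQ
    have hcp : (c : K) ^ p = 1 := by
      have h1 := qsim_pow Q Y (c : K) hc p v₀
      rw [hYp, Matrix.one_mulVec] at h1
      have h3 : ((c : K) ^ p - 1) * Q v₀ = 0 := by linear_combination -h1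
      exact sub_eq_zero.1 ((mul_eq_zero.1 h3).resolve_right hv₀)
    have hc1 : (c : K) = 1 := by
      have h1 : ((c : K) - 1) ^ p = 0 := by
        rw [sub_pow_char, hcp, one_pow, sub_self]
      exact sub_eq_zero.1 (pow_eq_zero_iff hp.ne_zero |>.1 h1)
    have hiso : ∀ v, Q (Y *ᵥ v) = Q v := by
      intro v
      rw [hc v, hc1, one_mul]
    -- the shape of `Y`
    set u : Fin n → K := gi *ᵥ (Pi.single i₀ (1 : K)) with hu
    set w₁ : Fin n → K := gi *ᵥ (Pi.single i₁ (1 : K)) with hw₁
    have hYv : ∀ v : Fin n → K, Y *ᵥ v = v + ((gm *ᵥ v) i₁) • u := by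
      intro v
      have h1 : Y = gi * X * gm := by
        rw [hY, Units.val_mul, Units.val_mul]
        rfl
      rw [h1, ← Matrix.mulVec_mulVec, ← Matrix.mulVec_mulVec, hXv, Matrix.mulVec_add,
        Matrix.mulVec_mulVec, hgig, Matrix.one_mulVec, Matrix.mulVec_smul]
    have hgu : gm *ᵥ u = Pi.single i₀ (1 : K) := by
      rw [hu, Matrix.mulVec_mulVec, hggi, Matrix.one_mulVec]
    have hgw : gm *ᵥ w₁ = Pi.single i₁ (1 : K) := by
      rw [hw₁, Matrix.mulVec_mulVec, hggi, Matrix.one_mulVec]
    have hu0 : u ≠ 0 := by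
      intro h
      rw [h, Matrix.mulVec_zero] at hgu
      have := congrFun hgu i₀
      rw [Pi.single_eq_same, Pi.zero_apply] at this
      exact zero_ne_one this
    set φ : (Fin n → K) → K := fun v => (gm *ᵥ v) i₁ with hφ
    have hφadd : ∀ v w, φ (v + w) = φ v + φ w := by
      intro v w
      simp only [hφ]
      rw [Matrix.mulVec_add, Pi.add_apply]
    have hφu : φ u = 0 := by
      simp only [hφ]
      rw [hgu, Pi.single_eq_of_ne (Ne.symm h01)]
    have hφw : φ w₁ = 1 := by
      simp only [hφ]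
      rw [hgw, Pi.single_eq_same]
    set ℓ : (Fin n → K) → K := fun v => φ v * Q u + polar Q v u with hℓ
    have hℓadd : ∀ v w, ℓ (v + w) = ℓ v + ℓ w := by
      intro v w
      simp only [hℓ]
      rw [hφadd, polar_add_left]
      ring
    have hkey : ∀ v, φ v * ℓ v = 0 := by
      intro v
      have h1 := hiso v
      rw [hYv, QuadraticMap.map_add Q, QuadraticMap.map_smul, polar_smul_right] at h1
      simp only [hℓ, hφ, smul_eq_mul] at h1 ⊢
      linear_combination h1
    have hℓ0 : ∀ v, ℓ v = 0 := by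
      intro v
      by_contra hv
      have hφv : φ v = 0 := (mul_eq_zero.1 (hkey v)).resolve_right hv
      have hℓw : ℓ w₁ = 0 := by
        have := hkey w₁
        rw [hφw, one_mul] at this
        exact this
      have h1 := hkey (v + w₁)
      rw [hφadd, hφv, hφw, zero_add, one_mul, hℓadd, hℓw, add_zero] at h1
      exact hv h1
    have hQu : Q u = 0 := by
      have h1 := hℓ0 u
      simp only [hℓ] at h1
      rw [hφu, zero_mul, zero_add, polar_self] at h1
      have h3 : (2 : K) * Q u = 0 := by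
        rw [two_mul]
        first
          | rw [two_nsmul] at h1; exact h1
          | rw [two_smul] at h1; exact h1
      exact (mul_eq_zero.1 h3).resolve_left h2
    apply hu0
    apply hQ.2 u
    intro v
    have h1 := hℓ0 v
    simp only [hℓ] at h1
    rw [hQu, mul_zero, zero_add] at h1
    exact h1

end main

end Cfsg.Agent.Helper28.BGO
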