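import Mathlib
import Cfsg.Agent.Lib.Helper28.BGQ5
import Cfsg.Agent.Lib.Helper13.SpSim7
import Cfsg.Agent.Lib.Helper13.UnitaryPrime

/-!
# Semisimple elements of odd prime order without conjugates in the similarity group of a unitary
form (helper28)
-/

set_option autoImplicit false
set_option linter.style.haveILetI false
set_option linter.unusedSectionVars false
set_option linter.unusedVariables false

namespace Cfsg.Agent.Helper28.BGQ

open Matrix Module Polynomial Cfsg.Agent.Helper11.Herm Cfsg.Agent.Helper13.SpSim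
  Cfsg.Agent.Helper13.SS Cfsg.Agent.Helper13.Uni Cfsg.Agent.Helper13.HermSS
  Cfsg.Agent.Helper13.Dual Cfsg.Agent.Helper13.SympSS

universe u v

section scalar

variable {K : Type*} [Field K] {n : ℕ}

theorem eval_eq_zero_of_kdim_scalar (z : K) (P : K[X]) (A : Module.End K (Fin n → K))
    (hA : A = z • 1) (hk : kdim A P ≠ 0) : P.eval z = 0 := by
  by_contra h0
  apply hk
  have h1 : aeval A P = (P.eval z) • (1 : Module.End K (Fin n → K)) := by
    have h2 : A = algebraMap K (Module.End K (Fin n → K)) z := by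
      rw [hA, Algebra.algebraMap_eq_smul_one]
    rw [h2, Polynomial.aeval_algebraMap_apply_eq_algebraMap_eval, Algebra.algebraMap_eq_smul_one]
  unfold kdim
  rw [h1]
  have h3 : LinearMap.ker ((P.eval z) • (1 : Module.End K (Fin n → K))) = ⊥ := by
    rw [LinearMap.ker_eq_bot']
    intro v hv
    rw [LinearMap.smul_apply, Module.End.one_apply] at hv
    exact (smul_eq_zero.1 hv).resolve_left h0
  rw [h3, finrank_bot]

end scalar

section aux

variable {F₀ : Type v} {K : Type u} [Field F₀] [Field K] [Fintype K] [Algebra F₀ K]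
  {p : ℕ} [Fact p.Prime] [CharP K p] {q₀ n r : ℕ} {f : (Fin n → K) → (Fin n → K) → K}

/-- an isometry of order `r` of a unitary form has the same multiplicities for a cyclotomic
factor and its conjugate dual -/
theorem kdim_cdual_of_isometry (σ : K →ₐ[F₀] K) (hσ : ∀ x, σ x = x ^ q₀)
    (hσ2 : ∀ x, σ (σ x) = x) (hσ1 : ∃ c, σ c ≠ c) (hf : Cfsg.Geo.IsUnitaryFormPow q₀ f)
    (hr : r.Prime) (hrp : r ≠ p) (A : Module.End K (Fin n → K)) (hAr : A ^ r = 1)
    (hA : ∀ u v, f (A u) (A v) = f u v) {f₀ : K[X]} (hf₀ : f₀ ∈ cycFactors K r) :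
    kdim A (cdual r (σ : K →+* K) f₀) = kdim A f₀ := by
  haveI : FiniteDimensional F₀ K := Module.Finite.of_finite
  obtain ⟨tr, htr, htrσ⟩ := exists_tr σ hσ2 hσ1
  have h1 : IsSesq σ f := isSesq_of_unitary σ hσ hf
  have hAB : HInv σ 1 A (trForm tr f h1) := trForm_hinv tr htr htrσ hσ2 h1 A hA
  exact kdim_cdual hσ2 hr.one_lt.le (cast_ne_zero_of_prime_ne (p := p) hr hrp) hAr hAB
    (cycFactors_irreducible hf₀) (cycFactors_monic hf₀) (cycFactors_dvd_X_pow hf₀)

end aux

section main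

variable {K : Type u} [Field K] [Fintype K] {p : ℕ} [Fact p.Prime] [CharP K p] {q₀ n r : ℕ}
  {f : (Fin n → K) → (Fin n → K) → K}

theorem exists_bad_semisimple (hK : Fintype.card K = q₀ ^ 2) (hn : 1 ≤ n)
    (hf : Cfsg.Geo.IsUnitaryFormPow q₀ f) [Fact r.Prime] (hr2 : r ≠ 2) (hrp : r ≠ p)
    (hj4 : orderOf (q₀ : ZMod r) % 4 ≠ 2)
    (hd2 : 2 ≤ orderOf ((Fintype.card K : ℕ) : ZMod r))
    (hdn : orderOf ((Fintype.card K : ℕ) : ZMod r) ≤ n) :
    ∃ x ∈ Cfsg.Geo.specialLinear (Fin n) K,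
      (∃ z : K, ((x ^ r : GL (Fin n) K) : Matrix (Fin n) (Fin n) K) =
        z • (1 : Matrix (Fin n) (Fin n) K)) ∧
      (∀ z : K, (x : Matrix (Fin n) (Fin n) K) ≠ z • (1 : Matrix (Fin n) (Fin n) K)) ∧
      ∀ g ∈ Cfsg.Geo.specialLinear (Fin n) K, g⁻¹ * x * g ∉ Cfsg.Geo.similarityGroup f := by
  classical
  have hr : r.Prime := Fact.out
  have hF : Fintype.card K = Fintype.card K := rfl
  set d := orderOf ((Fintype.card K : ℕ) : ZMod r) with hd
  have hcard := cycFactors_card (p := p) hF hr hrp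
  have hne : (cycFactors K r).Nonempty := by
    rw [← Finset.card_pos]
    have h1 : 0 < r - 1 := by have := hr.two_le; omega
    rw [← hcard] at h1
    exact Nat.pos_of_mul_pos_right h1
  obtain ⟨f₀, hf₀⟩ := hne
  set b : K[X] → ℕ := fun g => if g = f₀ then 1 else 0 with hb
  have hbsum : ∑ g ∈ cycFactors K r, b g = 1 := by
    simp only [hb]
    rw [Finset.sum_ite_eq', if_pos hf₀]
  obtain ⟨g, hg, hk⟩ := exists_gl_of_mult (p := p) (n := n) hF hr hrp b (by
    rw [hbsum, one_mul]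
    exact hdn)
  have hk0 : kdim (L g) f₀ = d := by
    rw [hk f₀ hf₀]
    simp only [hb, if_true, one_mul]
    rfl
  have hk1 : ∀ f' ∈ cycFactors K r, f' ≠ f₀ → kdim (L g) f' = 0 := by
    intro f' hf' hne
    rw [hk f' hf']
    simp only [hb, if_neg hne, zero_mul]
  have hrq : ¬ r ∣ Fintype.card K - 1 := Cfsg.Agent.Helper13.Elus.not_dvd_of_two_le_orderOf r hd2
  have hdet : (g : Matrix (Fin n) (Fin n) K).det = 1 := by
    apply Cfsg.Agent.Helper13.Elus.eq_one_of_pow_eq_one_of_not_dvd r hrq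
    rw [← Matrix.det_pow, ← Units.val_pow_eq_pow_val, hg, Units.val_one, Matrix.det_one]
  refine ⟨g, (mem_sl_iff g).2 hdet, ⟨1, by rw [hg, Units.val_one, one_smul]⟩, ?_, ?_⟩
  · intro z hz
    have hLg : L g = z • 1 := by
      unfold L
      rw [hz, map_smul, Matrix.toLin'_one]
      rfl
    have h0 := eval_eq_zero_of_kdim_scalar z f₀ (L g) hLg (by rw [hk0]; omega)
    have h1 := Polynomial.degree_eq_one_of_irreducible_of_root (cycFactors_irreducible hf₀) h0
    have h2 := cycFactors_natDegree hF hr hrp hf₀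
    have h3 : f₀.natDegree = 1 := natDegree_eq_of_degree_eq_some h1
    rw [h3] at h2
    omega
  · rintro P - ⟨c, hc⟩
    letI := ZMod.algebra K p
    obtain ⟨σ, hσ, hσ2, hσ1⟩ := exists_frobAlg hK p
    set gy : GL (Fin n) K := P⁻¹ * g * P with hgy
    have hgy1 : gy = P⁻¹ * g * P⁻¹⁻¹ := by rw [hgy, inv_inv]
    have hgyr : gy ^ r = 1 := by
      rw [hgy1, conj_pow, hg, mul_one, mul_inv_cancel]
    have hLr : L gy ^ r = 1 := by rw [← L_pow, hgyr, L_one]
    have hc1 : (c : K) = 1 := by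
      apply Cfsg.Agent.Helper13.Elus.eq_one_of_pow_eq_one_of_not_dvd r hrq
      have hu : (Pi.single (⟨0, hn⟩ : Fin n) (1 : K) : Fin n → K) ≠ 0 := by
        intro h
        have := congrFun h ⟨0, hn⟩
        rw [Pi.single_eq_same, Pi.zero_apply] at this
        exact one_ne_zero this
      obtain ⟨⟨w, hw⟩, -⟩ := hf.nondegenerate _ hu
      have h1 := sim_pow gy (c : K) hc r w (Pi.single (⟨0, hn⟩ : Fin n) (1 : K))
      rw [hLr, Module.End.one_apply, Module.End.one_apply] at h1
      have h2 : ((c : K) ^ r - 1) * f w (Pi.single (⟨0, hn⟩ : Fin n) (1 : K)) = 0 := by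
        linear_combination -h1
      rcases mul_eq_zero.1 h2 with h | h
      · exact sub_eq_zero.1 h
      · exact (hw h).elim
    have hiso : ∀ u v, f (L gy u) (L gy v) = f u v := by
      intro u v
      have h1 := hc u v
      rw [hc1, one_mul] at h1
      exact h1
    have hdual := kdim_cdual_of_isometry (p := p) σ hσ hσ2 hσ1 hf hr hrp (L gy) hLr hiso hf₀
    have hσ' : ∀ x, (σ : K →+* K) x = x ^ q₀ := hσ
    have hσ2' : ∀ x, (σ : K →+* K) ((σ : K →+* K) x) = x := hσ2
    rw [hgy1, kdim_conj, kdim_conj, hk0,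
      hk1 _ (cdual_mem_cycFactors (σ := (σ : K →+* K)) hσ2' hr hr2 hrp hf₀)
        (cdual_ne_self_of_not_mod4 (p := p) hK hσ' hσ2' hr hr2 hrp hj4 hf₀)] at hdual
    omega

end main

end Cfsg.Agent.Helper28.BGQ
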