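import Mathlib
import Cfsg.Agent.Lib.Helper28.BGO6
import Cfsg.Agent.Lib.Helper28.BGQ7
import Cfsg.Agent.Lib.Helper13.OrthType5

/-!
# Semisimple elements of odd prime order without conjugates in the similarity group of a
quadratic form (helper28)
-/

set_option autoImplicit false
set_option linter.style.haveILetI false
set_option linter.unusedSectionVars false
set_option linter.unusedVariables false

namespace Cfsg.Agent.Helper28.BGO

open Matrix Module QuadraticMap Polynomial Cfsg.Agent.Helper13 Cfsg.Agent.Helper13.SpSim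
  Cfsg.Agent.Helper13.SS Cfsg.Agent.Helper13.Uni Cfsg.Agent.Helper13.HermSS
  Cfsg.Agent.Helper13.Dual Cfsg.Agent.Helper13.SympSS Cfsg.Agent.Helper13.OrthSS
  Cfsg.Agent.Helper28.BGQ

universe u

section common

variable {K : Type u} [Field K] [Fintype K] {p : ℕ} [Fact p.Prime] [CharP K p] {n r : ℕ}
  (Q : QuadraticForm K (Fin n → K))

theorem two_ne_zero' (hp2 : p ≠ 2) : (2 : K) ≠ 0 := by
  have hp : p.Prime := Fact.out
  intro h
  have h3 : ((2 : ℕ) : K) = 0 := by exact_mod_cast h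
  have h4 := (CharP.cast_eq_zero_iff K p 2).1 h3
  exact hp2 ((Nat.prime_dvd_prime_iff_eq hp Nat.prime_two).1 h4)

/-- a similarity of order `r` is an isometry if `r` does not divide `q - 1` -/
theorem isom_of_pow_eq_one (hp2 : p ≠ 2) (hn : 1 ≤ n) (hQ : (polarBilin Q).Nondegenerate)
    [Fact r.Prime] (hrq : ¬ r ∣ Fintype.card K - 1) (y : GL (Fin n) K) (hyr : y ^ r = 1) (c : K)
    (hc : ∀ v, Q ((y : Matrix (Fin n) (Fin n) K) *ᵥ v) = c * Q v) :
    ∀ v, Q (L y v) = Q v := by
  have h2 : (2 : K) ≠ 0 := two_ne_zero' (p := p) hp2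
  obtain ⟨v₀, hv₀⟩ := exists_Q_ne_zero Q h2 hn hQ
  have hc1 : c = 1 := by
    apply Cfsg.Agent.Helper13.Elus.eq_one_of_pow_eq_one_of_not_dvd r hrq
    have h1 := qsim_pow Q (y : Matrix (Fin n) (Fin n) K) c hc r v₀
    rw [← Units.val_pow_eq_pow_val, hyr, Units.val_one, Matrix.one_mulVec] at h1
    have h3 : (c ^ r - 1) * Q v₀ = 0 := by linear_combination -h1
    exact sub_eq_zero.1 ((mul_eq_zero.1 h3).resolve_right hv₀)
  intro v
  have h1 := hc v
  rw [hc1, one_mul] at h1
  show Q (Matrix.toLin' (y : Matrix (Fin n) (Fin n) K) v) = Q v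
  rw [Matrix.toLin'_apply]
  exact h1

end common

section odd

variable {K : Type u} [Field K] [Fintype K] {p : ℕ} [Fact p.Prime] [CharP K p] {n r : ℕ}
  (Q : QuadraticForm K (Fin n → K))

/-- `q` of odd order at least three modulo `r`: a semisimple element with a single irreducible
block of order `r` has no conjugate in the similarity group of a quadratic form -/
theorem exists_bad_semisimple_odd (hp2 : p ≠ 2) (hn : 1 ≤ n) (hQ : (polarBilin Q).Nondegenerate)
    [Fact r.Prime] (hr2 : r ≠ 2) (hrp : r ≠ p)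
    (hdodd : Odd (orderOf ((Fintype.card K : ℕ) : ZMod r)))
    (hd2 : 2 ≤ orderOf ((Fintype.card K : ℕ) : ZMod r))
    (hdn : orderOf ((Fintype.card K : ℕ) : ZMod r) ≤ n) :
    ∃ x ∈ Cfsg.Geo.specialLinear (Fin n) K,
      (∃ z : K, ((x ^ r : GL (Fin n) K) : Matrix (Fin n) (Fin n) K) =
        z • (1 : Matrix (Fin n) (Fin n) K)) ∧
      (∀ z : K, (x : Matrix (Fin n) (Fin n) K) ≠ z • (1 : Matrix (Fin n) (Fin n) K)) ∧
      ∀ g ∈ Cfsg.Geo.specialLinear (Fin n) K, g⁻¹ * x * g ∉ Cfsg.Geo.quadSimilarityGroup ⇑Q := by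
  classical
  have hr : r.Prime := Fact.out
  have hF : Fintype.card K = Fintype.card K := rfl
  set d := orderOf ((Fintype.card K : ℕ) : ZMod r) with hd
  have hcard := cycFactors_card (p := p) hF hr hrp
  have hne : (cycFactors K r).Nonempty := by
    rw [← Finset.card_pos]
    have h1 : 0 < r - 1 := by have := hr.two_le; omega
    rw [← hcard] at h1
    exact Nat.pos_of_mul_pos_right h1
  obtain ⟨f₀, hf₀⟩ := hne
  set b : K[X] → ℕ := fun g => if g = f₀ then 1 else 0 with hb
  have hbsum : ∑ g ∈ cycFactors K r, b g = 1 := by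
    simp only [hb]
    rw [Finset.sum_ite_eq', if_pos hf₀]
  obtain ⟨g, hg, hk⟩ := exists_gl_of_mult (p := p) (n := n) hF hr hrp b (by
    rw [hbsum, one_mul]
    exact hdn)
  have hk0 : kdim (L g) f₀ = d := by
    rw [hk f₀ hf₀]
    simp only [hb, if_true, one_mul]
    rfl
  have hk1 : ∀ f' ∈ cycFactors K r, f' ≠ f₀ → kdim (L g) f' = 0 := by
    intro f' hf' hne
    rw [hk f' hf']
    simp only [hb, if_neg hne, zero_mul]
  have hrq : ¬ r ∣ Fintype.card K - 1 := Cfsg.Agent.Helper13.Elus.not_dvd_of_two_le_orderOf r hd2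
  have hdet : (g : Matrix (Fin n) (Fin n) K).det = 1 := by
    apply Cfsg.Agent.Helper13.Elus.eq_one_of_pow_eq_one_of_not_dvd r hrq
    rw [← Matrix.det_pow, ← Units.val_pow_eq_pow_val, hg, Units.val_one, Matrix.det_one]
  refine ⟨g, (mem_sl_iff g).2 hdet, ⟨1, by rw [hg, Units.val_one, one_smul]⟩, ?_, ?_⟩
  · intro z hz
    have hLg : L g = z • 1 := by
      unfold L
      rw [hz, map_smul, Matrix.toLin'_one]
      rfl
    have h0 := eval_eq_zero_of_kdim_scalar z f₀ (L g) hLg (by rw [hk0]; omega)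
    have h1 := Polynomial.degree_eq_one_of_irreducible_of_root (cycFactors_irreducible hf₀) h0
    have h2 := cycFactors_natDegree hF hr hrp hf₀
    have h3 : f₀.natDegree = 1 := natDegree_eq_of_degree_eq_some h1
    rw [h3] at h2
    omega
  · rintro P - ⟨c, hc⟩
    set gy : GL (Fin n) K := P⁻¹ * g * P with hgy
    have hgy1 : gy = P⁻¹ * g * P⁻¹⁻¹ := by rw [hgy, inv_inv]
    have hgyr : gy ^ r = 1 := by
      rw [hgy1, conj_pow, hg, mul_one, mul_inv_cancel]
    have hLr : L gy ^ r = 1 := by rw [← L_pow, hgyr, L_one]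
    have hiso := isom_of_pow_eq_one (p := p) Q hp2 hn hQ hrq gy hgyr (c : K) hc
    have hinvA : HInv (AlgHom.id K K) 1 (L gy) (polarBilin Q) := hinv_of_isom Q hQ (L gy) hiso
    have hσ2 : ∀ x : K, (AlgHom.id K K) ((AlgHom.id K K) x) = x := fun x => rfl
    have hdual := Cfsg.Agent.Helper13.Uni.kdim_cdual (F := K) (K := K) (σ := AlgHom.id K K) hσ2
      hr.one_lt.le (cast_ne_zero_of_prime_ne (p := p) hr hrp) hLr hinvA
      (cycFactors_irreducible hf₀) (cycFactors_monic hf₀) (cycFactors_dvd_X_pow hf₀)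
    have h2 : cdual r ((AlgHom.id K K : K →ₐ[K] K) : K →+* K) f₀ = dualPoly r f₀ :=
      Polynomial.map_id
    rw [h2, hgy1, kdim_conj, kdim_conj, hk0,
      hk1 _ (dualPoly_mem_cycFactors hr hr2 hrp hf₀)
        (dualPoly_ne_self_of_odd hF hr hr2 hrp hdodd hf₀)] at hdual
    omega

end odd

section even

variable {K : Type u} [Field K] [Fintype K] {p : ℕ} [Fact p.Prime] [CharP K p] {n r : ℕ}
  (Q : QuadraticForm K (Fin n → K))

/-- `q` of even order `d` modulo `r`, `n = t d`, and the type of the form is not `(-)^t`: a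
semisimple element of order `r` without fixed vectors has no conjugate in the similarity group -/
theorem exists_bad_semisimple_even (hp2 : p ≠ 2) (hQ : (polarBilin Q).Nondegenerate)
    [Fact r.Prime] (hr2 : r ≠ 2) (hrp : r ≠ p)
    (hdev : Even (orderOf ((Fintype.card K : ℕ) : ZMod r)))
    (hd0 : 0 < orderOf ((Fintype.card K : ℕ) : ZMod r)) (t : ℕ) (ht : 1 ≤ t)
    (hnt : n = t * orderOf ((Fintype.card K : ℕ) : ZMod r)) (htype : IsHyp Q ↔ Odd t) :
    ∃ x ∈ Cfsg.Geo.specialLinear (Fin n) K,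
      (∃ z : K, ((x ^ r : GL (Fin n) K) : Matrix (Fin n) (Fin n) K) =
        z • (1 : Matrix (Fin n) (Fin n) K)) ∧
      (∀ z : K, (x : Matrix (Fin n) (Fin n) K) ≠ z • (1 : Matrix (Fin n) (Fin n) K)) ∧
      ∀ g ∈ Cfsg.Geo.specialLinear (Fin n) K, g⁻¹ * x * g ∉ Cfsg.Geo.quadSimilarityGroup ⇑Q := by
  classical
  have hr : r.Prime := Fact.out
  have hF : Fintype.card K = Fintype.card K := rfl
  set d := orderOf ((Fintype.card K : ℕ) : ZMod r) with hd
  have hd2 : 2 ≤ d := by
    obtain ⟨k, hk⟩ := hdev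
    omega
  have hn : 1 ≤ n := by
    rw [hnt]
    exact Nat.mul_pos ht hd0
  have hcard := cycFactors_card (p := p) hF hr hrp
  have hne : (cycFactors K r).Nonempty := by
    rw [← Finset.card_pos]
    have h1 : 0 < r - 1 := by have := hr.two_le; omega
    rw [← hcard] at h1
    exact Nat.pos_of_mul_pos_right h1
  obtain ⟨f₀, hf₀⟩ := hne
  set b : K[X] → ℕ := fun g => if g = f₀ then t else 0 with hb
  have hbsum : ∑ g ∈ cycFactors K r, b g = t := by
    simp only [hb]
    rw [Finset.sum_ite_eq', if_pos hf₀]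
  obtain ⟨g, hg, hk⟩ := exists_gl_of_mult (p := p) (n := n) hF hr hrp b (by
    rw [hbsum, hnt])
  have hk0 : kdim (L g) f₀ = t * d := by
    rw [hk f₀ hf₀]
    simp only [hb, if_true]
    rfl
  have hk1 : ∀ f' ∈ cycFactors K r, f' ≠ f₀ → kdim (L g) f' = 0 := by
    intro f' hf' hne
    rw [hk f' hf']
    simp only [hb, if_neg hne, zero_mul]
  have hrq : ¬ r ∣ Fintype.card K - 1 := Cfsg.Agent.Helper13.Elus.not_dvd_of_two_le_orderOf r hd2
  have hdet : (g : Matrix (Fin n) (Fin n) K).det = 1 := by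
    apply Cfsg.Agent.Helper13.Elus.eq_one_of_pow_eq_one_of_not_dvd r hrq
    rw [← Matrix.det_pow, ← Units.val_pow_eq_pow_val, hg, Units.val_one, Matrix.det_one]
  refine ⟨g, (mem_sl_iff g).2 hdet, ⟨1, by rw [hg, Units.val_one, one_smul]⟩, ?_, ?_⟩
  · intro z hz
    have hLg : L g = z • 1 := by
      unfold L
      rw [hz, map_smul, Matrix.toLin'_one]
      rfl
    have h0 := eval_eq_zero_of_kdim_scalar z f₀ (L g) hLg (by
      rw [hk0]
      exact (Nat.mul_pos ht hd0).ne')
    have h1 := Polynomial.degree_eq_one_of_irreducible_of_root (cycFactors_irreducible hf₀) h0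
    have h2 := cycFactors_natDegree hF hr hrp hf₀
    have h3 : f₀.natDegree = 1 := natDegree_eq_of_degree_eq_some h1
    rw [h3] at h2
    omega
  · rintro P - ⟨c, hc⟩
    set gy : GL (Fin n) K := P⁻¹ * g * P with hgy
    have hgy1 : gy = P⁻¹ * g * P⁻¹⁻¹ := by rw [hgy, inv_inv]
    have hgyr : gy ^ r = 1 := by
      rw [hgy1, conj_pow, hg, mul_one, mul_inv_cancel]
    have hLr : L gy ^ r = 1 := by rw [← L_pow, hgyr, L_one]
    have hiso := isom_of_pow_eq_one (p := p) Q hp2 hn hQ hrq gy hgyr (c : K) hc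
    -- the multiplicities of `gy`
    have hky0 : kdim (L gy) f₀ = t * d := by rw [hgy1, kdim_conj, hk0]
    have hky1 : ∀ f' ∈ cycFactors K r, f' ≠ f₀ → kdim (L gy) f' = 0 := by
      intro f' hf' hne
      rw [hgy1, kdim_conj, hk1 f' hf' hne]
    -- the characteristic polynomial of `gy`
    set S := insert (X - 1 : K[X]) (cycFactors K r) with hS
    have hkill : aeval (L gy) (∏ f ∈ S, f) = 0 := by
      rw [hS, X_sub_one_mul_prod hr hrp, map_sub, map_pow, aeval_X, map_one, hLr, sub_self]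
    have hirr : ∀ f ∈ S, Irreducible f := fun f hf => insert_irreducible hf
    have e1 : (X - 1 : K[X]) = X - C 1 := by rw [map_one]
    have hmon : ∀ f ∈ S, f.Monic := by
      intro f hf
      rcases Finset.mem_insert.1 hf with rfl | hf
      · rw [e1]
        exact monic_X_sub_C 1
      · exact cycFactors_monic hf
    have hcop := insert_pairwise_coprime (F := K) (p := p) hr hrp
    have hfin := finrank_eq_sum_kdim (L gy) S hcop hkill
    rw [hS, Finset.sum_insert (X_sub_one_notMem hr hrp), Module.finrank_fintype_fun_eq_card,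
      Fintype.card_fin] at hfin
    have hsumΦ : ∑ f ∈ cycFactors K r, kdim (L gy) f = t * d := by
      rw [Finset.sum_eq_single f₀ (fun f' hf' hne => hky1 f' hf' hne)
        (fun h => absurd hf₀ h), hky0]
    have hkX : kdim (L gy) (X - 1 : K[X]) = 0 := by omega
    have hfd : f₀.natDegree = d := cycFactors_natDegree hF hr hrp hf₀
    have hcp : (L gy).charpoly = f₀ ^ t := by
      rw [charpoly_eq_prod S hirr hmon (L gy) hkill, hS,
        Finset.prod_insert (X_sub_one_notMem hr hrp), hkX, Nat.zero_div, pow_zero, one_mul,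
        Finset.prod_eq_single f₀]
      · rw [hky0, hfd, Nat.mul_div_cancel _ hd0]
      · intro f' hf' hne
        rw [hky1 f' hf' hne, Nat.zero_div, pow_zero]
      · intro h
        exact absurd hf₀ h
    -- the typed realisation
    have hreal := qrealT_pow (qrealT_cyc (p := p) hF hr hr2 hrp hd0 hdev ⟨f₀, hf₀⟩) t
    obtain ⟨V₁, i1, i2, i3, A₁, Q₁, hA₁r, hQ₁, hA₁Q₁, hA₁c, -, hQ₁t⟩ := hreal
    have hodd : Odd r := hr.odd_of_ne_two hr2
    obtain ⟨e, he⟩ := exists_isometry_of_charpoly Q Q₁ hQ hQ₁ (L gy) A₁ hiso hA₁Q₁ hr.one_lt.le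
      hodd (cast_ne_zero_of_prime_ne (p := p) hr hrp) hLr hA₁r (by rw [hcp, hA₁c]) (by
        rw [hcp, eval_pow]
        exact pow_ne_zero _ (cycFactors_eval_one_ne_zero hr hrp hf₀))
    have h1 : IsHyp Q₁ ↔ IsHyp Q := isHyp_iff_of_equiv e he
    have h2 : IsHyp Q ↔ Even t := by
      rw [← h1, hQ₁t]
      exact ⟨fun h => h.elim False.elim id, Or.inr⟩
    rcases Nat.even_or_odd t with hte | hto
    · exact (Nat.not_odd_iff_even.2 hte) (htype.1 (h2.2 hte))
    · exact (Nat.not_even_iff_odd.2 hto) (h2.1 (htype.2 hto))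

end even

end Cfsg.Agent.Helper28.BGO
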