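import Mathlib
import Cfsg.Agent.Lib.Helper28.BGP4

/-!
# Primes dividing the index of the stabiliser of a pair of complementary totally singular
subspaces in the special unitary group (helper28)
-/

set_option autoImplicit false
set_option linter.style.haveILetI false
set_option linter.unusedSectionVars false
set_option linter.unusedVariables false

namespace Cfsg.Agent.Helper28.BGP

open Matrix Module Cfsg.Agent.Helper11.Herm Cfsg.Agent.Helper28.SuTsPair

section index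

variable {F : Type*} [Field F] [Fintype F] {q : ℕ}

theorem Phi_mem_stab (φ : F →+* F) {n m : ℕ} (b : Basis (Fin m ⊕ Fin m) F (Fin n → F))
    (D : Fin 2 → Submodule F (Fin n → F))
    (hb0 : ∀ i, b (Sum.inl i) ∈ D 0) (hb1 : ∀ i, b (Sum.inr i) ∈ D 1)
    (hf0 : finrank F (D 0) = m) (hf1 : finrank F (D 1) = m) (A : GL (Fin m) F) :
    Phi φ b A ∈ Cfsg.Geo.decompositionStabilizer D := by
  apply mem_decomp_of_fix
  · intro u hu
    rw [Cfsg.Agent.Helper28.SuTsPair.smul_def]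
    apply maps_of_span (fun i : Fin m => b (Sum.inl i)) (D 0) (D 0) (span_left_eq b (D 0) hb0 hf0)
      _ _ u hu
    intro j
    rw [Phi_mulVec_inl]
    exact (D 0).sum_mem (fun i _ => (D 0).smul_mem _ (hb0 i))
  · intro u hu
    rw [Cfsg.Agent.Helper28.SuTsPair.smul_def]
    apply maps_of_span (fun i : Fin m => b (Sum.inr i)) (D 1) (D 1) (span_right_eq b (D 1) hb1 hf1)
      _ _ u hu
    intro j
    rw [Phi_mulVec_inr]
    exact (D 1).sum_mem (fun i _ => (D 1).smul_mem _ (hb1 i))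

/-- primes dividing the index of the stabiliser of the pair -/
theorem prime_dvd_relIndex_pair (hF : Fintype.card F = q ^ 2) (φ : F →+* F)
    (hφ : ∀ x, φ x = x ^ q) {n m : ℕ} (hn : n = 2 * m) (hm : 1 ≤ m)
    (D : Fin 2 → Submodule F (Fin n → F))
    (hU : ∀ u ∈ D 0, ∀ v ∈ D 0, hdot φ u v = 0) (hW : ∀ u ∈ D 1, ∀ v ∈ D 1, hdot φ u v = 0)
    (hdec : ∀ v : Fin n → F, ∃ u ∈ D 0, ∃ w ∈ D 1, v = u + w)
    (hf0 : finrank F (D 0) = m) (hf1 : finrank F (D 1) = m) (r : ℕ) (hr : r.Prime)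
    (hΩ : r ∣ (Cfsg.Geo.decompositionStabilizer D).relIndex
      (Cfsg.GU n F q ⊓ Cfsg.Geo.specialLinear (Fin n) F)) :
    r ∣ q ∨ ∃ k, Odd k ∧ k < n ∧ r ∣ q ^ k + 1 := by
  have hφφ := frob_frob hF φ hφ
  obtain ⟨b, hb, hb0, hb1⟩ := exists_frame hφφ (D 0) (D 1) hU hW hdec hf0 hf1
  have h1 := mul_glOrd_dvd hF φ hφ (by omega : 1 ≤ n) b hb (Cfsg.Geo.decompositionStabilizer D)
    (Phi_mem_stab φ b D hb0 hb1 hf0 hf1) r hΩ
  have hq2 : 2 ≤ q := two_le_q hF
  rw [hn, guOrder_two_mul q m (by omega), mul_comm r] at h1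
  have h2 : r ∣ pairCof q m :=
    Nat.dvd_of_mul_dvd_mul_left (glOrd_pos (q ^ 2) m (by nlinarith)) h1
  rcases dvd_pairCof q m r hr h2 with h3 | ⟨k, hk1, hk2, hk3⟩
  · exact Or.inl h3
  · exact Or.inr ⟨k, hk1, by omega, hk3⟩

end index

end Cfsg.Agent.Helper28.BGP
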