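import Mathlib
import Cfsg.Agent.Lib.Helper11.HermCount

/-!
# Arithmetic in the field with `q ^ 2` elements: elements of norm one (helper28)
-/

set_option autoImplicit false
set_option linter.style.haveILetI false
set_option linter.unusedSectionVars false
set_option linter.unusedVariables false

namespace Cfsg.Agent.Helper28.BGP

open Cfsg.Agent.Helper11.Herm

section normone

variable {F : Type*} [Field F] [Fintype F] {q : ℕ}

/-- a generator of the multiplicative group -/
theorem exists_gen (hF : Fintype.card F = q ^ 2) :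
    ∃ ω : Fˣ, orderOf ω = q ^ 2 - 1 ∧ ∀ x : Fˣ, ∃ s : ℕ, ω ^ s = x := by
  obtain ⟨ω, hω⟩ := IsCyclic.exists_generator (α := Fˣ)
  refine ⟨ω, ?_, ?_⟩
  · rw [orderOf_eq_card_of_forall_mem_zpowers hω, card_units_eq hF]
  · intro x
    have h1 := hω x
    rw [← mem_powers_iff_mem_zpowers] at h1
    obtain ⟨s, hs⟩ := h1
    exact ⟨s, hs⟩

theorem sq_sub_one' (q : ℕ) (hq : 1 ≤ q) : q ^ 2 - 1 = (q - 1) * (q + 1) := by
  rw [sq_sub_one q hq, mul_comm]

/-- elements of norm one are `(q - 1)`-th powers -/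
theorem exists_pow_of_norm_one (hF : Fintype.card F = q ^ 2) (c : Fˣ) (hc : c ^ (q + 1) = 1) :
    ∃ a : Fˣ, a ^ (q - 1) = c := by
  have hq := two_le_q hF
  obtain ⟨ω, hω, hgen⟩ := exists_gen hF
  obtain ⟨s, rfl⟩ := hgen c
  rw [← pow_mul] at hc
  have h1 := orderOf_dvd_of_pow_eq_one hc
  rw [hω, sq_sub_one' q (by omega)] at h1
  have h2 : q - 1 ∣ s := Nat.dvd_of_mul_dvd_mul_right (by omega) h1
  obtain ⟨t, rfl⟩ := h2
  exact ⟨ω ^ t, by rw [← pow_mul, mul_comm]⟩

/-- Hilbert 90 for the field with `q ^ 2` elements -/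
theorem exists_div_frob (hF : Fintype.card F = q ^ 2) (c : F) (hc : c * c ^ q = 1) :
    ∃ a : F, a ≠ 0 ∧ a * (a ^ q)⁻¹ = c := by
  have hq := two_le_q hF
  have hc0 : c ≠ 0 := by
    rintro rfl
    rw [zero_mul] at hc
    exact zero_ne_one hc
  have h1 : (Units.mk0 c hc0) ^ (q + 1) = 1 := by
    apply Units.ext
    rw [Units.val_pow_eq_pow_val, Units.val_mk0, Units.val_one, pow_succ', hc]
  obtain ⟨a, ha⟩ := exists_pow_of_norm_one hF _ h1
  refine ⟨((a⁻¹ : Fˣ) : F), (a⁻¹).ne_zero, ?_⟩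
  have h2 : (a : F) ^ (q - 1) = c := by
    have := congrArg Units.val ha
    rwa [Units.val_pow_eq_pow_val, Units.val_mk0] at this
  have h3 : (a : F) ^ q = (a : F) ^ (q - 1) * (a : F) := by
    rw [← pow_succ, Nat.sub_add_cancel (by omega)]
  rw [Units.val_inv_eq_inv_val, inv_pow, inv_inv, h3, h2]
  field_simp

/-- an element of order `q + 1` -/
theorem exists_orderOf_eq (hF : Fintype.card F = q ^ 2) : ∃ γ : Fˣ, orderOf γ = q + 1 := by
  have hq := two_le_q hF
  obtain ⟨ω, hω, -⟩ := exists_gen hF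
  refine ⟨ω ^ (q - 1), ?_⟩
  rw [orderOf_pow' ω (by omega : q - 1 ≠ 0), hω, sq_sub_one' q (by omega),
    Nat.gcd_eq_right (Dvd.intro _ rfl), Nat.mul_div_cancel_left _ (by omega)]

/-- elements of norm one are squares when `q` is odd -/
theorem exists_sqrt_of_norm_one (hF : Fintype.card F = q ^ 2) (hodd : Odd q) (z : F)
    (hz : z * z ^ q = 1) : ∃ ν : F, ν * ν = z := by
  have hq := two_le_q hF
  have hz0 : z ≠ 0 := by
    rintro rfl
    rw [zero_mul] at hz
    exact zero_ne_one hz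
  have hch : ringChar F ≠ 2 := by
    intro h2
    have h3 := FiniteField.even_card_of_char_two h2
    rw [hF] at h3
    have h4 : Fintype.card F % 2 = 1 := by
      rw [hF]
      obtain ⟨t, rfl⟩ := hodd
      have : (2 * t + 1) ^ 2 = 2 * (2 * t * t + 2 * t) + 1 := by ring
      omega
    rw [hF] at h4
    omega
  have h1 : IsSquare z := by
    rw [FiniteField.isSquare_iff hch hz0, hF]
    obtain ⟨t, ht⟩ := hodd
    have h5 : q ^ 2 / 2 = (q + 1) * t := by
      rw [ht]
      have : (2 * t + 1) ^ 2 = 2 * ((2 * t + 1 + 1) * t) + 1 := by ring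
      omega
    rw [h5, pow_mul, pow_succ', hz, one_pow]
  obtain ⟨ν, hν⟩ := h1
  exact ⟨ν, hν.symm⟩

end normone

section twoadic

variable {F : Type*} [Field F]

/-- the `2`-adic condition excludes `ν ^ n = -1` -/
theorem pow_ne_neg_one (h2 : (2 : F) ≠ 0) {q n : ℕ} (hn : n ≠ 0)
    (hv : padicValNat 2 (q + 1) ≤ padicValNat 2 n) (ν : F) (hν : ν ^ (q + 1) = 1) :
    ν ^ n ≠ -1 := by
  intro h
  obtain ⟨e, s, hs, hqs⟩ := Nat.exists_eq_two_pow_mul_odd (n := q + 1) (by omega)
  have he : padicValNat 2 (q + 1) = e := by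
    rw [hqs, padicValNat.mul (by positivity) (by
      rintro rfl
      exact (Nat.not_odd_iff_even.2 (by decide : Even 0)) hs), padicValNat.prime_pow,
      padicValNat.eq_zero_of_not_dvd (by
        rw [Nat.two_dvd_ne_zero]
        exact Nat.odd_iff.1 hs), add_zero]
  have h3 : 2 ^ e ∣ n := by
    rw [← he]
    exact Dvd.dvd.trans (pow_dvd_pow 2 hv) pow_padicValNat_dvd
  obtain ⟨n', hn'⟩ := h3
  have h4 : ν ^ (n * s) = 1 := by
    have : n * s = (q + 1) * n' := by
      rw [hqs, hn']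
      ring
    rw [this, pow_mul, hν, one_pow]
  rw [pow_mul, h, hs.neg_one_pow] at h4
  apply h2
  linear_combination -h4

end twoadic

section mu

variable {F : Type*} [Field F] [Fintype F] {q : ℕ}

/-- existence of an element of norm one with `μ ^ n = -1` -/
theorem exists_pow_eq_neg_one (hF : Fintype.card F = q ^ 2) {n : ℕ} (hn : n ≠ 0)
    (hv : ¬ padicValNat 2 (q + 1) ≤ padicValNat 2 n) :
    ∃ μ : F, μ ^ (q + 1) = 1 ∧ μ ^ n = -1 := by
  have hq := two_le_q hF
  obtain ⟨γ, hγ⟩ := exists_orderOf_eq hF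
  obtain ⟨e, s, hs, hqs⟩ := Nat.exists_eq_two_pow_mul_odd (n := q + 1) (by omega)
  obtain ⟨a, n₀, hn₀, hns⟩ := Nat.exists_eq_two_pow_mul_odd hn
  have hs0 : s ≠ 0 := by
    rintro rfl
    exact (Nat.not_odd_iff_even.2 (by decide : Even 0)) hs
  have hn₀0 : n₀ ≠ 0 := by
    rintro rfl
    exact (Nat.not_odd_iff_even.2 (by decide : Even 0)) hn₀
  have he : padicValNat 2 (q + 1) = e := by
    rw [hqs, padicValNat.mul (by positivity) hs0, padicValNat.prime_pow,
      padicValNat.eq_zero_of_not_dvd (by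
        rw [Nat.two_dvd_ne_zero]
        exact Nat.odd_iff.1 hs), add_zero]
  have ha : padicValNat 2 n = a := by
    rw [hns, padicValNat.mul (by positivity) hn₀0, padicValNat.prime_pow,
      padicValNat.eq_zero_of_not_dvd (by
        rw [Nat.two_dvd_ne_zero]
        exact Nat.odd_iff.1 hn₀), add_zero]
  rw [he, ha] at hv
  have hae : a + 1 ≤ e := by omega
  obtain ⟨d, hd⟩ : ∃ d, e = a + 1 + d := ⟨e - (a + 1), by omega⟩
  -- the element of order two
  set ε : Fˣ := γ ^ (2 ^ (a + d) * s) with hε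
  have hε2 : ε ^ 2 = 1 := by
    rw [hε, ← pow_mul]
    have : 2 ^ (a + d) * s * 2 = q + 1 := by
      rw [hqs, hd]
      ring
    rw [this, ← hγ, pow_orderOf_eq_one]
  have hε1 : ε ≠ 1 := by
    intro h1
    have h2 := orderOf_dvd_of_pow_eq_one h1
    rw [hγ, hqs, hd] at h2
    have h3 : 2 ^ (a + 1 + d) * s = 2 * (2 ^ (a + d) * s) := by ring
    rw [h3] at h2
    have h4 := Nat.le_of_dvd (by positivity) h2
    have : 0 < 2 ^ (a + d) * s := by positivity
    omega
  have hεv : (ε : F) = -1 := by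
    have h1 : ((ε : F) - 1) * ((ε : F) + 1) = 0 := by
      have := congrArg Units.val hε2
      rw [Units.val_pow_eq_pow_val, Units.val_one] at this
      linear_combination this
    rcases mul_eq_zero.1 h1 with h | h
    · exfalso
      apply hε1
      apply Units.ext
      rw [Units.val_one]
      linear_combination h
    · linear_combination h
  refine ⟨((γ ^ (2 ^ d * s) : Fˣ) : F), ?_, ?_⟩
  · rw [← Units.val_pow_eq_pow_val, ← pow_mul, mul_comm, pow_mul, ← hγ, pow_orderOf_eq_one,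
      one_pow, Units.val_one]
  · rw [← Units.val_pow_eq_pow_val, ← pow_mul]
    have : 2 ^ d * s * n = 2 ^ (a + d) * s * n₀ := by
      rw [hns]
      ring
    rw [this, pow_mul, ← hε, Units.val_pow_eq_pow_val, hεv, hn₀.neg_one_pow]

end mu

end Cfsg.Agent.Helper28.BGP
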