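import Mathlib
import Cfsg.Agent.Lib.Helper28.BGP5
import Cfsg.Agent.Lib.Helper28.BGP6

/-!
# Elements of the stabiliser of a pair of complementary totally singular subspaces: the dimensions
of their eigenspaces (helper28)
-/

set_option autoImplicit false
set_option linter.style.haveILetI false
set_option linter.unusedSectionVars false
set_option linter.unusedVariables false

namespace Cfsg.Agent.Helper28.BGP

open Matrix Module Polynomial Cfsg.Agent.Helper11.Herm Cfsg.Agent.Helper13.SS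
  Cfsg.Agent.Helper28.BGS

section cases

variable {F : Type*} [Field F] [Fintype F] {n : ℕ} (φ : F →+* F)
  (D : Fin 2 → Submodule F (Fin n → F))

/-- an element of the stabiliser fixes both subspaces or interchanges them -/
theorem stab_cases (y : GL (Fin n) F) (hy : y ∈ Cfsg.Geo.decompositionStabilizer D) :
    ((∀ u ∈ D 0, (y : Matrix (Fin n) (Fin n) F) *ᵥ u ∈ D 0) ∧
      (∀ u ∈ D 1, (y : Matrix (Fin n) (Fin n) F) *ᵥ u ∈ D 1)) ∨
    ((∀ u ∈ D 0, (y : Matrix (Fin n) (Fin n) F) *ᵥ u ∈ D 1) ∧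
      (∀ u ∈ D 1, (y : Matrix (Fin n) (Fin n) F) *ᵥ u ∈ D 0)) := by
  obtain ⟨σ, hσ⟩ := hy
  have key : ∀ i, ∀ u ∈ D i, (y : Matrix (Fin n) (Fin n) F) *ᵥ u ∈ D (σ i) := by
    intro i u hu
    rw [← hσ i]
    exact ⟨u, hu, by rw [Matrix.toLin'_apply]⟩
  have h0 : σ 0 = 0 ∨ σ 0 = 1 := by
    generalize σ 0 = j
    fin_cases j
    · left; rfl
    · right; rfl
  have h1 : σ 1 = 0 ∨ σ 1 = 1 := by
    generalize σ 1 = j
    fin_cases j
    · left; rfl
    · right; rfl
  have hne : σ 0 ≠ σ 1 := by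
    intro h
    have := σ.injective h
    exact absurd this (by decide)
  rcases h0 with h0 | h0 <;> rcases h1 with h1 | h1
  · exact absurd (h0.trans h1.symm) hne
  · left
    refine ⟨fun u hu => ?_, fun u hu => ?_⟩
    · have := key 0 u hu
      rwa [h0] at this
    · have := key 1 u hu
      rwa [h1] at this
  · right
    refine ⟨fun u hu => ?_, fun u hu => ?_⟩
    · have := key 0 u hu
      rwa [h0] at this
    · have := key 1 u hu
      rwa [h1] at this
  · exact absurd (h0.trans h1.symm) hne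

variable (U W : Submodule F (Fin n → F))

/-- eigenspaces for eigenvalues of norm one of semisimple unitary elements fixing both subspaces
have even dimension -/
theorem even_kdim_of_fix (hφφ : ∀ x, φ (φ x) = x) {y : Matrix (Fin n) (Fin n) F}
    (hy : IsU φ y) (c : F) (hc : c * φ c = 1) (N : ℕ) (hN : (N : F) ≠ 0)
    (hyN : (c⁻¹ • y) ^ N = 1)
    (hU : ∀ u ∈ U, ∀ v ∈ U, hdot φ u v = 0) (hW : ∀ u ∈ W, ∀ v ∈ W, hdot φ u v = 0)
    (hdec : ∀ v : Fin n → F, ∃ u ∈ U, ∃ w ∈ W, v = u + w)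
    (hyU : ∀ u ∈ U, y *ᵥ u ∈ U) (hyW : ∀ w ∈ W, y *ᵥ w ∈ W) :
    Even (kdim (Matrix.toLin' y) (X - C c)) := by
  have hc0 : c ≠ 0 := by
    rintro rfl
    rw [zero_mul] at hc
    exact zero_ne_one hc
  set z : Matrix (Fin n) (Fin n) F := c⁻¹ • y with hz
  have hzv : ∀ v, z *ᵥ v = c⁻¹ • (y *ᵥ v) := by
    intro v
    rw [hz, Matrix.smul_mulVec]
  have hzU : IsU φ z := by
    rw [isU_iff_preserves]
    intro u v
    rw [hzv, hzv, hdot_smul_left, hdot_smul_right, hy.hdot_mulVec φ, map_inv₀, ← mul_assoc,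
      ← mul_inv, hc, inv_one, one_mul]
  have h1 := even_finrank_fix φ U W hφφ hzU N hN hyN hU hW hdec
    (fun u hu => by rw [hzv]; exact U.smul_mem _ (hyU u hu))
    (fun w hw => by rw [hzv]; exact W.smul_mem _ (hyW w hw))
  have h2 : LinearMap.ker (Matrix.toLin' z - 1) = LinearMap.ker (Matrix.toLin' y - c • 1) := by
    ext v
    rw [mem_fix_iff, LinearMap.mem_ker, LinearMap.sub_apply, Matrix.toLin'_apply,
      LinearMap.smul_apply, Module.End.one_apply, sub_eq_zero, hzv]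
    constructor
    · intro h
      calc y *ᵥ v = c • (c⁻¹ • (y *ᵥ v)) := by rw [smul_smul, mul_inv_cancel₀ hc0, one_smul]
        _ = c • v := by rw [h]
    · intro h
      rw [h, smul_smul, inv_mul_cancel₀ hc0, one_smul]
  rw [kdim_X_sub_C, ← h2]
  exact h1

/-- the eigenspace of an element interchanging the subspaces -/
theorem kdim_of_swap {y : Matrix (Fin n) (Fin n) F} {μ : F} (hμ : μ ≠ 0)
    (hy2 : y * y = (μ * μ) • (1 : Matrix (Fin n) (Fin n) F))
    (hU : ∀ u ∈ U, ∀ v ∈ U, hdot φ u v = 0) (hW : ∀ u ∈ W, ∀ v ∈ W, hdot φ u v = 0)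
    (hdec : ∀ v : Fin n → F, ∃ u ∈ U, ∃ w ∈ W, v = u + w)
    (hyU : ∀ u ∈ U, y *ᵥ u ∈ W) (hyW : ∀ w ∈ W, y *ᵥ w ∈ U) :
    kdim (Matrix.toLin' y) (X - C (-μ)) = finrank F U := by
  rw [kdim_X_sub_C]
  have h1 : Matrix.toLin' y - (-μ) • (1 : Module.End F (Fin n → F)) =
      Matrix.toLin' y + μ • 1 := by
    apply LinearMap.ext
    intro v
    simp only [LinearMap.sub_apply, LinearMap.add_apply, LinearMap.smul_apply,
      Module.End.one_apply, neg_smul, sub_neg_eq_add]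
  rw [h1]
  exact finrank_ker_of_swap φ U W hμ hy2 hU hW hdec hyU hyW

/-- an element interchanging the subspaces has no odd power equal to the identity -/
theorem not_swap_of_pow {y : Matrix (Fin n) (Fin n) F} {r : ℕ} (hr : Odd r) (hyr : y ^ r = 1)
    (hUW : ∀ x, x ∈ U → x ∈ W → x = 0) (hU0 : 0 < finrank F U)
    (hyU : ∀ u ∈ U, y *ᵥ u ∈ W) (hyW : ∀ w ∈ W, y *ᵥ w ∈ U) : False := by
  have key : ∀ k : ℕ, (∀ u ∈ U, (y ^ (2 * k)) *ᵥ u ∈ U) ∧ (∀ u ∈ U, (y ^ (2 * k + 1)) *ᵥ u ∈ W) := by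
    intro k
    induction k with
    | zero =>
      refine ⟨fun u hu => ?_, fun u hu => ?_⟩
      · rw [mul_zero, pow_zero, Matrix.one_mulVec]; exact hu
      · rw [mul_zero, zero_add, pow_one]; exact hyU u hu
    | succ k ih =>
      have h1 : ∀ u ∈ U, (y ^ (2 * (k + 1))) *ᵥ u ∈ U := by
        intro u hu
        have : 2 * (k + 1) = (2 * k + 1) + 1 := by ring
        rw [this, pow_succ', ← Matrix.mulVec_mulVec]
        exact hyW _ (ih.2 u hu)
      refine ⟨h1, fun u hu => ?_⟩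
      rw [pow_succ', ← Matrix.mulVec_mulVec]
      exact hyU _ (h1 u hu)
  obtain ⟨k, rfl⟩ := hr
  obtain ⟨⟨u, hu⟩, hu0⟩ := Module.finrank_pos_iff_exists_ne_zero.mp hU0
  apply hu0
  apply Subtype.ext
  have h1 := (key k).2 u hu
  rw [hyr, Matrix.one_mulVec] at h1
  exact hUW u hu h1

end cases

end Cfsg.Agent.Helper28.BGP
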