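import Mathlib
import Cfsg.Agent.Lib.Helper28.BGU3
import Cfsg.Agent.S0764
import Cfsg.Agent.S0767

/-!
# Elements not commuting with any square root of a non-square: generalities and transvections
(helper28)
-/

set_option autoImplicit false

namespace Cfsg.Agent.Helper28.BGU

open Matrix Module Cfsg.Agent.Helper28.SympIso Cfsg.Agent.Helper2.Symp

section evendim

variable {F : Type*} [Field F] {V : Type*} [AddCommGroup V] [Module F V] [FiniteDimensional F V]

/-- a subspace invariant under a square root of a non-square has even dimension -/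
theorem even_finrank_of_invariant (a : Module.End F V) (δ : F) (hδ : ¬ IsSquare δ)
    (hsq : ∀ v, a (a v) = δ • v) (W : Submodule F V) (hW : ∀ w ∈ W, a w ∈ W) :
    Even (finrank F W) := by
  by_contra hodd
  rw [Nat.not_even_iff_odd] at hodd
  obtain ⟨k, hk⟩ := hodd
  have hδ0 : δ ≠ 0 := by
    rintro rfl
    exact hδ ⟨0, by simp⟩
  set b : Module.End F W := a.restrict hW with hb
  have hbb : b * b = δ • (1 : Module.End F W) := by
    apply LinearMap.ext
    intro w
    apply Subtype.ext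
    rw [Module.End.mul_apply, LinearMap.smul_apply, Module.End.one_apply]
    show a (a (w : V)) = δ • (w : V)
    exact hsq _
  have hdet := congrArg LinearMap.det hbb
  rw [map_mul, LinearMap.det_smul, map_one, mul_one, hk] at hdet
  apply hδ
  refine ⟨LinearMap.det b / δ ^ k, ?_⟩
  have hδk : δ ^ k ≠ 0 := pow_ne_zero _ hδ0
  field_simp
  rw [sq (LinearMap.det b), hdet]
  ring

end evendim

section anti

variable {F : Type*} [Field F] {ι : Type} [Fintype ι] [DecidableEq ι]

/-- a matrix of odd order modulo scalars cannot anticommute with a non-zero matrix -/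
theorem not_anti_of_odd (h2 : (2 : F) ≠ 0) (X α' : Matrix ι ι F) (r : ℕ) (hr : Odd r) (z : F)
    (hz0 : z ≠ 0) (hXr : X ^ r = z • (1 : Matrix ι ι F)) (hα' : α' ≠ 0) :
    X * α' ≠ -(α' * X) := by
  intro h1
  have h3 := mul_pow_anti X α' h1 r
  rw [hXr, hr.neg_one_pow, smul_mul_assoc, one_mul, mul_smul_comm, mul_one, neg_smul, one_smul]
    at h3
  have h4 : (2 * z) • α' = 0 := by
    rw [mul_smul, two_smul]
    nth_rewrite 1 [h3]
    rw [neg_add_cancel]
  rcases smul_eq_zero.1 h4 with h5 | h5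
  · exact (mul_ne_zero h2 hz0) h5
  · exact hα' h5

end anti

section transvection

variable {F : Type*} [Field F] {d : ℕ}

theorem sympTransvection_pow (v : Fin d ⊕ Fin d → F) (c : F) (n : ℕ) :
    (Cfsg.sympTransvection d v c) ^ n = Cfsg.sympTransvection d v (n • c) := by
  induction n with
  | zero =>
    rw [pow_zero, zero_smul]
    unfold Cfsg.sympTransvection
    rw [zero_smul, add_zero]
  | succ n ih =>
    rw [pow_succ, ih, (Cfsg.Agent.S0767.result d v).1, succ_nsmul]

theorem sympTransvection_mulVec (v w : Fin d ⊕ Fin d → F) (c : F) :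
    Cfsg.sympTransvection d v c *ᵥ w = w + (c * Cfsg.sympForm d F w v) • v := by
  unfold Cfsg.sympTransvection Cfsg.sympForm
  rw [Matrix.add_mulVec, Matrix.one_mulVec, Matrix.smul_mulVec, Matrix.vecMulVec_mulVec,
    op_smul_eq_smul, smul_smul, dotProduct_comm]

/-- a symplectic transvection commutes with no square root of a non-square, and is not scalar -/
theorem exists_bad_transvection (hd : 1 ≤ d) (p : ℕ) [CharP F p] :
    ∃ x ∈ Cfsg.spGL d F, x ^ p = 1 ∧
      (∀ z : F, (x : Matrix (Fin d ⊕ Fin d) (Fin d ⊕ Fin d) F) ≠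
        z • (1 : Matrix (Fin d ⊕ Fin d) (Fin d ⊕ Fin d) F)) ∧
      ∀ (δ : F) (α' : Matrix (Fin d ⊕ Fin d) (Fin d ⊕ Fin d) F), ¬ IsSquare δ →
        α' * α' = δ • (1 : Matrix (Fin d ⊕ Fin d) (Fin d ⊕ Fin d) F) →
        (x : Matrix (Fin d ⊕ Fin d) (Fin d ⊕ Fin d) F) * α' ≠
          α' * (x : Matrix (Fin d ⊕ Fin d) (Fin d ⊕ Fin d) F) := by
  set i0 : Fin d := ⟨0, by omega⟩ with hi0
  set v : Fin d ⊕ Fin d → F := eV i0 with hv
  set w : Fin d ⊕ Fin d → F := fV i0 with hw
  have hwv : Cfsg.sympForm d F w v = 1 := Bf_fV_eV i0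
  have hv0 : v ≠ 0 := by
    intro h
    rw [h] at hwv
    have : Cfsg.sympForm d F w 0 = 0 := Bf_zero_right w
    rw [this] at hwv
    exact zero_ne_one hwv
  set T : Matrix.symplecticGroup (Fin d) F :=
    ⟨Cfsg.sympTransvection d v 1, Cfsg.Agent.S0764.result d v 1⟩ with hT
  set x : GL (Fin d ⊕ Fin d) F := Cfsg.Agent.Helper28.SpSingMax.toGLHom d F T with hx
  have hxval : (x : Matrix (Fin d ⊕ Fin d) (Fin d ⊕ Fin d) F) = Cfsg.sympTransvection d v 1 := rfl
  have hxw : ∀ u, (x : Matrix (Fin d ⊕ Fin d) (Fin d ⊕ Fin d) F) *ᵥ u =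
      u + Cfsg.sympForm d F u v • v := by
    intro u
    rw [hxval, sympTransvection_mulVec, one_mul]
  refine ⟨x, Cfsg.Agent.Helper28.SpSingMax.toGLHom_mem_spGL T, ?_, ?_, ?_⟩
  · rw [hx, ← map_pow]
    have : T ^ p = 1 := by
      apply Subtype.ext
      rw [SubmonoidClass.coe_pow]
      show (Cfsg.sympTransvection d v 1) ^ p = 1
      rw [sympTransvection_pow, nsmul_eq_mul, mul_one, CharP.cast_eq_zero]
      unfold Cfsg.sympTransvection
      rw [zero_smul, add_zero]
    rw [this, map_one]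
  · intro z hz
    have h1 := hxw w
    rw [hz, Matrix.smul_mulVec, Matrix.one_mulVec, hwv, one_smul] at h1
    have h3 := hxw v
    have hvv : Cfsg.sympForm d F v v = 0 := Bf_self v
    rw [hz, Matrix.smul_mulVec, Matrix.one_mulVec, hvv, zero_smul, add_zero] at h3
    have hz1 : z = 1 := by
      have : (z - 1) • v = 0 := by rw [sub_smul, h3, one_smul, sub_self]
      rcases smul_eq_zero.1 this with h | h
      · exact sub_eq_zero.1 h
      · exact absurd h hv0
    rw [hz1, one_smul] at h1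
    apply hv0
    have : w + v = w + 0 := by rw [add_zero]; exact h1.symm
    exact add_left_cancel this
  · intro δ α' hδ hα' hcomm
    -- `v` is an eigenvector of `α'`
    have h1 : (x : Matrix (Fin d ⊕ Fin d) (Fin d ⊕ Fin d) F) *ᵥ (α' *ᵥ w) =
        α' *ᵥ ((x : Matrix (Fin d ⊕ Fin d) (Fin d ⊕ Fin d) F) *ᵥ w) := by
      rw [Matrix.mulVec_mulVec, Matrix.mulVec_mulVec, hcomm]
    rw [hxw, hxw, hwv, one_smul, Matrix.mulVec_add] at h1
    have h3 : α' *ᵥ v = Cfsg.sympForm d F (α' *ᵥ w) v • v := (add_left_cancel h1).symm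
    set c := Cfsg.sympForm d F (α' *ᵥ w) v with hc
    have h4 : α' *ᵥ (α' *ᵥ v) = (c * c) • v := by
      rw [h3, Matrix.mulVec_smul, h3, smul_smul]
    rw [Matrix.mulVec_mulVec, hα', Matrix.smul_mulVec, Matrix.one_mulVec] at h4
    have h5 : (δ - c * c) • v = 0 := by rw [sub_smul, h4, sub_self]
    rcases smul_eq_zero.1 h5 with h | h
    · exact hδ ⟨c, sub_eq_zero.1 h⟩
    · exact hv0 h

end transvection

end Cfsg.Agent.Helper28.BGU
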