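import Mathlib
import Cfsg.Agent.Lib.Helper28.BGS7
import Cfsg.Agent.Lib.Helper28.BGU7

/-!
# A transvection and an involution with a two-dimensional support in the symplectic group
(helper28)
-/

set_option autoImplicit false
set_option linter.style.haveILetI false
set_option linter.unusedSectionVars false

namespace Cfsg.Agent.Helper28.BGS

open Matrix Module Polynomial Cfsg.Agent.Helper28.BGU Cfsg.Agent.Helper28.SympIso
  Cfsg.Agent.Helper13.SS Cfsg.Agent.Helper2.Symp

section diag

variable {F : Type*} [Field F] {ι : Type} [Fintype ι] [DecidableEq ι]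

/-- eigenspaces of a diagonal matrix -/
theorem finrank_ker_diagonal (w : ι → F) (l : F) :
    finrank F (LinearMap.ker (Matrix.toLin' (Matrix.diagonal w) - l • 1)) =
      Nat.card {j // w j = l} := by
  classical
  rw [Nat.card_eq_fintype_card]
  have h1 : Matrix.toLin' (Matrix.diagonal w) - l • (1 : Module.End F (ι → F)) =
      Matrix.toLin' (Matrix.diagonal (fun j => w j - l)) := by
    have : Matrix.diagonal (fun j => w j - l) = Matrix.diagonal w - l • (1 : Matrix ι ι F) := by
      ext i j
      by_cases hij : i = j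
      · subst hij
        simp
      · simp [hij]
    rw [this, map_sub, map_smul, Matrix.toLin'_one]
    rfl
  rw [h1]
  have h2 := LinearMap.finrank_range_add_finrank_ker
    (Matrix.toLin' (Matrix.diagonal (fun j => w j - l)))
  have h3 : finrank F (LinearMap.range (Matrix.toLin' (Matrix.diagonal (fun j => w j - l)))) =
      Fintype.card {j // w j - l ≠ 0} := by
    have := Matrix.rank_diagonal (fun j => w j - l)
    unfold Matrix.rank at this
    rw [Matrix.toLin'_apply']
    exact this
  rw [h3, Module.finrank_fintype_fun_eq_card] at h2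
  have h4 : Fintype.card {j // w j - l ≠ 0} + Fintype.card {j // w j = l} = Fintype.card ι := by
    have h5 := Fintype.card_subtype_compl (fun j => w j = l)
    have h6 : Fintype.card {j // w j - l ≠ 0} = Fintype.card {j // ¬ w j = l} := by
      apply Fintype.card_congr
      apply Equiv.subtypeEquivRight
      intro j
      rw [Ne, sub_eq_zero]
    have h7 : Fintype.card {j // w j = l} ≤ Fintype.card ι := Fintype.card_subtype_le _
    rw [h6, h5]
    omega
  omega

/-- the kernel of a linear polynomial in a diagonal matrix -/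
theorem mem_ker_aeval_diagonal (w : ι → F) (l : F) (u : ι → F) :
    u ∈ LinearMap.ker (aeval (Matrix.toLin' (Matrix.diagonal w)) (X - C l)) ↔
      ∀ j, w j ≠ l → u j = 0 := by
  rw [LinearMap.mem_ker, map_sub, aeval_X, aeval_C, Algebra.algebraMap_eq_smul_one,
    LinearMap.sub_apply, LinearMap.smul_apply, Module.End.one_apply, Matrix.toLin'_apply]
  constructor
  · intro h j hj
    have h1 := congrFun h j
    rw [Pi.sub_apply, Matrix.mulVec_diagonal, Pi.smul_apply, Pi.zero_apply, smul_eq_mul,
      ← sub_mul] at h1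
    rcases mul_eq_zero.1 h1 with h4 | h4
    · exact absurd (sub_eq_zero.1 h4) hj
    · exact h4
  · intro h
    funext j
    rw [Pi.sub_apply, Matrix.mulVec_diagonal, Pi.smul_apply, Pi.zero_apply, smul_eq_mul, ← sub_mul]
    by_cases hj : w j = l
    · rw [hj, sub_self, zero_mul]
    · rw [h j hj, mul_zero]

end diag

section transvection

variable {F : Type*} [Field F] {d : ℕ}

/-- a transvection: its fixed space is a hyperplane -/
theorem exists_transvection (hd : 1 ≤ d) (p : ℕ) [CharP F p] :
    ∃ x ∈ Cfsg.spGL d F, x ^ p = 1 ∧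
      (∀ z : F, (x : Matrix (Fin d ⊕ Fin d) (Fin d ⊕ Fin d) F) ≠
        z • (1 : Matrix (Fin d ⊕ Fin d) (Fin d ⊕ Fin d) F)) ∧
      kdim (Matrix.toLin' (x : Matrix (Fin d ⊕ Fin d) (Fin d ⊕ Fin d) F)) (X - C 1) + 1 =
        2 * d := by
  set i0 : Fin d := ⟨0, by omega⟩ with hi0
  set v : Fin d ⊕ Fin d → F := eV i0 with hv
  set w : Fin d ⊕ Fin d → F := fV i0 with hw
  have hwv : Cfsg.sympForm d F w v = 1 := Bf_fV_eV i0
  have hv0 : v ≠ 0 := by
    intro h
    rw [h] at hwv
    have : Cfsg.sympForm d F w 0 = 0 := Bf_zero_right w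
    rw [this] at hwv
    exact zero_ne_one hwv
  set T : Matrix.symplecticGroup (Fin d) F :=
    ⟨Cfsg.sympTransvection d v 1, Cfsg.Agent.S0764.result d v 1⟩ with hT
  set x : GL (Fin d ⊕ Fin d) F := Cfsg.Agent.Helper28.SpSingMax.toGLHom d F T with hx
  have hxval : (x : Matrix (Fin d ⊕ Fin d) (Fin d ⊕ Fin d) F) = Cfsg.sympTransvection d v 1 := rfl
  have hxw : ∀ u, (x : Matrix (Fin d ⊕ Fin d) (Fin d ⊕ Fin d) F) *ᵥ u =
      u + Cfsg.sympForm d F u v • v := by
    intro u
    rw [hxval, sympTransvection_mulVec, one_mul]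
  refine ⟨x, Cfsg.Agent.Helper28.SpSingMax.toGLHom_mem_spGL T, ?_, ?_, ?_⟩
  · rw [hx, ← map_pow]
    have : T ^ p = 1 := by
      apply Subtype.ext
      rw [SubmonoidClass.coe_pow]
      show (Cfsg.sympTransvection d v 1) ^ p = 1
      rw [sympTransvection_pow, nsmul_eq_mul, mul_one, CharP.cast_eq_zero]
      unfold Cfsg.sympTransvection
      rw [zero_smul, add_zero]
    rw [this, map_one]
  · intro z hz
    have h1 := hxw w
    rw [hz, Matrix.smul_mulVec, Matrix.one_mulVec, hwv, one_smul] at h1
    have h3 := hxw v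
    have hvv : Cfsg.sympForm d F v v = 0 := Bf_self v
    rw [hz, Matrix.smul_mulVec, Matrix.one_mulVec, hvv, zero_smul, add_zero] at h3
    have hz1 : z = 1 := by
      have : (z - 1) • v = 0 := by rw [sub_smul, h3, one_smul, sub_self]
      rcases smul_eq_zero.1 this with h | h
      · exact sub_eq_zero.1 h
      · exact absurd h hv0
    rw [hz1, one_smul] at h1
    exact hv0 (by simpa using h1.symm)
  · rw [kdim_X_sub_C]
    set φ : Module.Dual F (Fin d ⊕ Fin d → F) :=
      LinearMap.proj (Sum.inr i0) with hφ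
    have hker : LinearMap.ker (Matrix.toLin' (x : Matrix (Fin d ⊕ Fin d) (Fin d ⊕ Fin d) F) -
        (1 : F) • 1) = LinearMap.ker φ := by
      ext u
      rw [LinearMap.mem_ker, LinearMap.mem_ker, LinearMap.sub_apply, LinearMap.smul_apply,
        Module.End.one_apply, one_smul, Matrix.toLin'_apply, hxw, add_sub_cancel_left, hφ,
        LinearMap.proj_apply]
      have h1 : Cfsg.sympForm d F u v = u (Sum.inr i0) := Bf_eV_right u i0
      rw [h1]
      constructor
      · intro h
        exact (smul_eq_zero.1 h).resolve_right hv0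
      · intro h
        rw [h, zero_smul]
    rw [hker]
    have hφ0 : φ ≠ 0 := by
      intro h
      have h1 : φ w = 1 := by
        rw [hφ, LinearMap.proj_apply, hw]
        unfold fV
        rw [Pi.single_eq_same]
      rw [h] at h1
      exact zero_ne_one h1
    have := Module.Dual.finrank_ker_add_one_of_ne_zero hφ0
    rw [Module.finrank_fintype_fun_eq_card, Fintype.card_sum, Fintype.card_fin] at this
    omega

end transvection

section involution

variable {F : Type*} [Field F] {d : ℕ}

theorem diag_mem_symplectic (w₀ : Fin d → F) (hw : ∀ t, w₀ t * w₀ t = 1) :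
    Matrix.diagonal (Sum.elim w₀ w₀) ∈ Matrix.symplecticGroup (Fin d) F := by
  rw [SymplecticGroup.mem_iff, ← Matrix.fromBlocks_diagonal, Matrix.J,
    Matrix.fromBlocks_transpose, Matrix.fromBlocks_multiply, Matrix.fromBlocks_multiply]
  simp only [Matrix.diagonal_transpose, Matrix.transpose_zero, mul_zero, zero_mul, add_zero,
    zero_add, mul_one, mul_neg, neg_mul, Matrix.diagonal_mul_diagonal, hw, Matrix.diagonal_one,
    neg_zero]

/-- an involution whose `-1`-eigenspace is a hyperbolic plane -/
theorem exists_involution (h2 : (2 : F) ≠ 0) (hd : 2 ≤ d) :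
    ∃ x ∈ Cfsg.spGL d F, x ^ 2 = 1 ∧
      (∀ z : F, (x : Matrix (Fin d ⊕ Fin d) (Fin d ⊕ Fin d) F) ≠
        z • (1 : Matrix (Fin d ⊕ Fin d) (Fin d ⊕ Fin d) F)) ∧
      kdim (Matrix.toLin' (x : Matrix (Fin d ⊕ Fin d) (Fin d ⊕ Fin d) F)) (X - C (-1)) = 2 ∧
      NondegOn' (LinearMap.ker
        (aeval (Matrix.toLin' (x : Matrix (Fin d ⊕ Fin d) (Fin d ⊕ Fin d) F)) (X - C (-1) : F[X]))) ∧
      kdim (Matrix.toLin' (x : Matrix (Fin d ⊕ Fin d) (Fin d ⊕ Fin d) F)) (X - C 1) + 2 =
        2 * d := by
  classical
  set i0 : Fin d := ⟨0, by omega⟩ with hi0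
  set i1 : Fin d := ⟨1, by omega⟩ with hi1
  have hi01 : i1 ≠ i0 := by
    intro h
    have := congrArg Fin.val h
    simp [hi0, hi1] at this
  set w₀ : Fin d → F := fun t => if t = i0 then -1 else 1 with hw₀
  have hw₀sq : ∀ t, w₀ t * w₀ t = 1 := by
    intro t
    rw [hw₀]
    by_cases ht : t = i0
    · simp [ht]
    · simp [ht]
  have hne : (-1 : F) ≠ 1 := by
    intro h
    apply h2
    have : (1 : F) + 1 = 0 := by
      nth_rewrite 1 [← h]
      exact neg_add_cancel 1
    rw [← this]
    norm_num
  set w : Fin d ⊕ Fin d → F := Sum.elim w₀ w₀ with hwdef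
  set T : Matrix.symplecticGroup (Fin d) F :=
    ⟨Matrix.diagonal w, diag_mem_symplectic w₀ hw₀sq⟩ with hT
  set x : GL (Fin d ⊕ Fin d) F := Cfsg.Agent.Helper28.SpSingMax.toGLHom d F T with hx
  have hxval : (x : Matrix (Fin d ⊕ Fin d) (Fin d ⊕ Fin d) F) = Matrix.diagonal w := rfl
  have hwl : ∀ t, w (Sum.inl t) = w₀ t := fun t => rfl
  have hwr : ∀ t, w (Sum.inr t) = w₀ t := fun t => rfl
  have hw_neg : ∀ j, w j = -1 ↔ (j = Sum.inl i0 ∨ j = Sum.inr i0) := by
    intro j
    rcases j with t | t
    · rw [hwl, hw₀]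
      by_cases ht : t = i0
      · simp [ht]
      · simp only [ht, if_false]
        constructor
        · intro h
          exact absurd h.symm hne
        · rintro (h | h)
          · exact absurd (Sum.inl.inj h) ht
          · exact absurd h (by simp)
    · rw [hwr, hw₀]
      by_cases ht : t = i0
      · simp [ht]
      · simp only [ht, if_false]
        constructor
        · intro h
          exact absurd h.symm hne
        · rintro (h | h)
          · exact absurd h (by simp)
          · exact absurd (Sum.inr.inj h) ht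
  have hw_pm : ∀ j, w j = -1 ∨ w j = 1 := by
    intro j
    rcases j with t | t
    · rw [hwl, hw₀]
      by_cases ht : t = i0
      · left; simp [ht]
      · right; simp [ht]
    · rw [hwr, hw₀]
      by_cases ht : t = i0
      · left; simp [ht]
      · right; simp [ht]
  have hcard_neg : Nat.card {j // w j = -1} = 2 := by
    rw [Nat.card_eq_fintype_card, Fintype.card_subtype]
    have : (Finset.univ.filter (fun j => w j = -1)) = {Sum.inl i0, Sum.inr i0} := by
      ext j
      rw [Finset.mem_filter, Finset.mem_insert, Finset.mem_singleton, hw_neg]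
      simp
    rw [this, Finset.card_pair]
    simp
  have hcard_pos : Nat.card {j // w j = 1} + 2 = 2 * d := by
    rw [Nat.card_eq_fintype_card] at hcard_neg ⊢
    have h5 := Fintype.card_subtype_compl (fun j => w j = -1)
    have h6 : Fintype.card {j // w j = 1} = Fintype.card {j // ¬ w j = -1} := by
      apply Fintype.card_congr
      apply Equiv.subtypeEquivRight
      intro j
      constructor
      · intro h h'
        rw [h] at h'
        exact hne h'.symm
      · intro h
        exact (hw_pm j).resolve_left h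
    rw [h6, h5, hcard_neg, Fintype.card_sum, Fintype.card_fin]
    omega
  have hmemker : ∀ u : Fin d ⊕ Fin d → F, u ∈ LinearMap.ker
      (aeval (Matrix.toLin' (x : Matrix (Fin d ⊕ Fin d) (Fin d ⊕ Fin d) F)) (X - C (-1) : F[X])) ↔
      ∀ j, w j ≠ -1 → u j = 0 := by
    intro u
    rw [hxval]
    exact mem_ker_aeval_diagonal w (-1) u
  refine ⟨x, Cfsg.Agent.Helper28.SpSingMax.toGLHom_mem_spGL T, ?_, ?_, ?_, ?_, ?_⟩
  · apply Units.ext
    rw [Units.val_pow_eq_pow_val, hxval, Units.val_one, sq, Matrix.diagonal_mul_diagonal,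
      ← Matrix.diagonal_one]
    congr 1
    funext j
    rcases hw_pm j with h | h <;> rw [h] <;> norm_num
  · intro z hz
    rw [hxval] at hz
    have h1 := congrFun (congrFun hz (Sum.inl i0)) (Sum.inl i0)
    have h3 := congrFun (congrFun hz (Sum.inl i1)) (Sum.inl i1)
    rw [Matrix.diagonal_apply_eq, Matrix.smul_apply, Matrix.one_apply_eq, smul_eq_mul, mul_one]
      at h1 h3
    rw [hwl, hw₀] at h1 h3
    simp only [if_true, hi01, if_false] at h1 h3
    exact hne (h1.trans h3.symm)
  · rw [kdim_X_sub_C, hxval, finrank_ker_diagonal, hcard_neg]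
  · intro u hu hu0
    rw [hmemker] at hu
    have he : eV i0 ∈ LinearMap.ker
        (aeval (Matrix.toLin' (x : Matrix (Fin d ⊕ Fin d) (Fin d ⊕ Fin d) F)) (X - C (-1) : F[X])) := by
      rw [hmemker]
      intro j hj
      unfold eV
      rw [Pi.single_apply, if_neg]
      intro h
      exact hj ((hw_neg j).2 (Or.inl h))
    have hf : fV i0 ∈ LinearMap.ker
        (aeval (Matrix.toLin' (x : Matrix (Fin d ⊕ Fin d) (Fin d ⊕ Fin d) F)) (X - C (-1) : F[X])) := by
      rw [hmemker]
      intro j hj
      unfold fV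
      rw [Pi.single_apply, if_neg]
      intro h
      exact hj ((hw_neg j).2 (Or.inr h))
    have h1 := hu0 _ he
    have h3 := hu0 _ hf
    rw [sympBil_apply] at h1 h3
    have h1' : u (Sum.inr i0) = 0 := by
      rw [← Bf_eV_right u i0]
      exact h1
    have h3' : u (Sum.inl i0) = 0 := by
      have := Bf_fV_right u i0
      rw [Bf] at this
      rw [this] at h3
      exact neg_eq_zero.1 h3
    funext j
    by_cases hj : w j = -1
    · rcases (hw_neg j).1 hj with h | h
      · rw [h]; exact h3'
      · rw [h]; exact h1'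
    · exact hu j hj
  · rw [kdim_X_sub_C, hxval, finrank_ker_diagonal, hcard_pos]

end involution

end Cfsg.Agent.Helper28.BGS
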