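import Mathlib
import Cfsg.Agent.Lib.Helper28.BGU7
import Cfsg.Agent.Lib.Helper13.SympDerangeElt

/-!
# A symplectic element of odd prime order with an odd-dimensional primary component (helper28)
-/

set_option autoImplicit false
set_option linter.unusedSectionVars false

namespace Cfsg.Agent.Helper28.BGU

open Module Polynomial Cfsg.Agent.Helper13.SympSS Cfsg.Agent.Helper13.SS
  Cfsg.Agent.Helper13.Dual Cfsg.Agent.Helper28.SympIso Cfsg.Agent.Helper13.SympDer

universe u

section model

variable {F : Type u} [Field F] {m : ℕ} {f : F[X]}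

theorem aeval_lmul {k : Type*} [Field k] [Algebra F k] (x : k) (P : F[X]) :
    aeval (Algebra.lmul F k x) P = Algebra.lmul F k (aeval x P) := by
  exact (Polynomial.aeval_algHom_apply (Algebra.lmul F k) x P)

/-- the hyperbolic block of a non-self-dual factor, with its primary component -/
theorem pair_block_model (hm : 1 ≤ m) (hf : Irreducible f) (hmon : f.Monic)
    (hfm : f ∣ X ^ m - 1) (hne : dualPoly m f ≠ f) :
    ∃ (V : Type u) (_ : AddCommGroup V) (_ : Module F V) (_ : FiniteDimensional F V)
      (A : Module.End F V) (B : LinearMap.BilinForm F V),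
      A ^ m = 1 ∧ AltInv A B ∧ finrank F V = 2 * f.natDegree ∧ kdim A f = f.natDegree := by
  haveI : Fact (Irreducible f) := ⟨hf⟩
  haveI : FiniteDimensional F (AdjoinRoot f) := (AdjoinRoot.powerBasis hf.ne_zero).finite
  set k := AdjoinRoot f with hk
  set s : k := AdjoinRoot.root f with hs
  set s' : k := s ^ (m - 1) with hs'
  have hss' : s * s' = 1 := root_mul_inv hm hfm
  have hsm : s ^ m = 1 := root_pow_eq_one hfm
  have hs'm : s' ^ m = 1 := by
    rw [hs', ← pow_mul, mul_comm, pow_mul, hsm, one_pow]
  obtain ⟨τ, hτ⟩ := Module.Projective.exists_dual_ne_zero F (one_ne_zero : (1 : k) ≠ 0)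
  set B : LinearMap.BilinForm F (k × k) :=
    LinearMap.mk₂ F (fun u v => τ (u.1 * v.2) - τ (v.1 * u.2))
      (by intro a b c; simp only [Prod.fst_add, Prod.snd_add, add_mul, mul_add, map_add]; ring)
      (by intro c a b; simp only [Prod.smul_fst, Prod.smul_snd, smul_mul_assoc, mul_smul_comm,
        map_smul, smul_eq_mul]; ring)
      (by intro a b c; simp only [Prod.fst_add, Prod.snd_add, add_mul, mul_add, map_add]; ring)
      (by intro c a b; simp only [Prod.smul_fst, Prod.smul_snd, smul_mul_assoc, mul_smul_comm,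
        map_smul, smul_eq_mul]; ring) with hB
  have hBa : ∀ u v : k × k, B u v = τ (u.1 * v.2) - τ (v.1 * u.2) := fun u v => rfl
  have hτnd : ∀ x : k, (∀ y : k, τ (x * y) = 0) → x = 0 := by
    intro x hx
    by_contra hx0
    apply hτ
    have := hx x⁻¹
    rwa [mul_inv_cancel₀ hx0] at this
  refine ⟨k × k, inferInstance, inferInstance, inferInstance,
    (Algebra.lmul F k s).prodMap (Algebra.lmul F k s'), B, ?_, ?_, ?_, ?_⟩
  · rw [prodMap_pow, lmul_pow, lmul_pow, hsm, hs'm, map_one]
    apply LinearMap.ext
    rintro ⟨x, y⟩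
    rfl
  · refine ⟨?_, ?_, ?_⟩
    · intro u
      rw [hBa, sub_self]
    · rintro ⟨x, y⟩ h
      have hx : x = 0 := by
        apply hτnd
        intro y'
        have := h (0, y')
        rw [hBa] at this
        simpa using this
      have hy : y = 0 := by
        apply hτnd
        intro x'
        have := h (x', 0)
        rw [hBa] at this
        simp only [mul_zero, map_zero, zero_sub, neg_eq_zero] at this
        rw [mul_comm]
        exact this
      rw [hx, hy]
      rfl
    · intro u v
      rw [hBa, hBa]
      show τ (s * u.1 * (s' * v.2)) - τ (s * v.1 * (s' * u.2)) = _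
      have e1 : s * u.1 * (s' * v.2) = u.1 * v.2 := by
        calc s * u.1 * (s' * v.2) = (s * s') * (u.1 * v.2) := by ring
          _ = u.1 * v.2 := by rw [hss', one_mul]
      have e2 : s * v.1 * (s' * u.2) = v.1 * u.2 := by
        calc s * v.1 * (s' * u.2) = (s * s') * (v.1 * u.2) := by ring
          _ = v.1 * u.2 := by rw [hss', one_mul]
      rw [e1, e2]
  · rw [Module.finrank_prod, finrank_adjoinRoot]
    ring
  · rw [kdim_prodMap]
    have h1 : kdim (Algebra.lmul F k s) f = f.natDegree := by
      unfold kdim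
      have h0 : aeval s f = 0 := by
        rw [hs, AdjoinRoot.aeval_eq, AdjoinRoot.mk_self]
      rw [aeval_lmul, h0, map_zero, LinearMap.ker_zero, finrank_top, finrank_adjoinRoot]
    have h2 : kdim (Algebra.lmul F k s') f = 0 := by
      unfold kdim
      have h0 : aeval s' f ≠ 0 := by
        intro h0
        apply hne
        have h3 : dualPoly m f ∣ f := minpoly.dvd F _ h0
        exact Polynomial.eq_of_monic_of_associated (dualPoly_monic hf) hmon
          ((dualPoly_irreducible hf).associated_of_dvd hf h3)
      rw [aeval_lmul]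
      have hker : LinearMap.ker (Algebra.lmul F k (aeval s' f)) = ⊥ := by
        rw [LinearMap.ker_eq_bot']
        intro y hy
        have : aeval s' f * y = 0 := hy
        exact (mul_eq_zero.1 this).resolve_left h0
      rw [hker, finrank_bot]
    rw [h1, h2, add_zero]

end model

section element

variable {F : Type u} [Field F] [Fintype F] {p : ℕ} [Fact p.Prime] [CharP F p] {q : ℕ}

/-- if the order of `q` modulo the odd prime `r ≠ p` is odd and at most `d`, then `Sp_{2d}(q)`
has an element of order `r` with a primary component of odd dimension. -/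
theorem exists_odd_kernel (hF : Fintype.card F = q) (r : ℕ) [Fact r.Prime] (hr2 : r ≠ 2)
    (hrp : r ≠ p) (d : ℕ) (hodd : Odd (orderOf (q : ZMod r)))
    (hle : orderOf (q : ZMod r) ≤ d) :
    ∃ x : Matrix.symplecticGroup (Fin d) F, x ^ r = 1 ∧
      ∃ f : F[X], Odd (finrank F (LinearMap.ker
        (aeval (Matrix.toLin' (x : Matrix (Fin d ⊕ Fin d) (Fin d ⊕ Fin d) F)) f))) := by
  classical
  have hr : r.Prime := Fact.out
  have hrF : (r : F) ≠ 0 := cast_ne_zero_of_prime_ne hr hrp
  have hi0 : 0 < orderOf (q : ZMod r) := by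
    have := Cfsg.Agent.Helper13.POS.orderOf_card_pos (F := F) r hrF
    rwa [hF] at this
  set i := orderOf (q : ZMod r) with hi
  have hcard := cycFactors_card (F := F) hF hr hrp
  have hne : (cycFactors F r).Nonempty := by
    rw [← Finset.card_pos]
    by_contra h
    have h0 : (cycFactors F r).card = 0 := by omega
    rw [h0, zero_mul] at hcard
    have := hr.two_le
    omega
  obtain ⟨f, hf⟩ := hne
  have hfirr := cycFactors_irreducible hf
  have hfmon := cycFactors_monic hf
  have hfdvd : f ∣ X ^ r - 1 := cycFactors_dvd_X_pow hf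
  have hfd : dualPoly r f ≠ f := dualPoly_ne_self_of_odd hF hr hr2 hrp hodd hf
  have hdeg : f.natDegree = i := cycFactors_natDegree hF hr hrp hf
  obtain ⟨V₂, _, _, _, A₂, B₂, hA₂r, hAB₂, hdim₂, hk₂⟩ :=
    pair_block_model hr.one_le hfirr hfmon hfdvd hfd
  rw [hdeg] at hdim₂ hk₂
  -- the trivial part
  set k := d - i with hk
  have hkd : 2 * k + 2 * i = 2 * d := by omega
  set B₁ := sympBil k F with hB₁
  set A : Module.End F ((Fin k ⊕ Fin k → F) × V₂) :=
    (LinearMap.id : Module.End F (Fin k ⊕ Fin k → F)).prodMap A₂ with hA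
  set B := sumForm B₁ B₂ with hB
  have hAapp : ∀ z, A z = (z.1, A₂ z.2) := fun z => rfl
  have hAB : AltInv A B := by
    refine ⟨?_, ?_, ?_⟩
    · intro u
      rw [hB, sumForm_apply, hAB₂.alt, hB₁, sympBil_isAlt k u.1, add_zero]
    · rintro ⟨x, y⟩ h
      have hx : x = 0 := by
        apply (sympBil_nondegenerate (F := F) k).1
        intro v
        have := h (v, 0)
        rw [hB, sumForm_apply] at this
        simpa using this
      have hy : y = 0 := by
        apply hAB₂.nondeg
        intro v
        have := h (0, v)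
        rw [hB, sumForm_apply] at this
        simpa using this
      rw [hx, hy]
      rfl
    · intro u v
      rw [hB, sumForm_apply, sumForm_apply, hAapp, hAapp]
      show B₁ u.1 v.1 + B₂ (A₂ u.2) (A₂ v.2) = _
      rw [hAB₂.inv]
  have hfin : finrank F ((Fin k ⊕ Fin k → F) × V₂) = 2 * d := by
    rw [Module.finrank_prod, hdim₂, Module.finrank_fintype_fun_eq_card, Fintype.card_sum,
      Fintype.card_fin]
    omega
  obtain ⟨g, e, he, hge⟩ := exists_matrix_conj A B hAB d hfin
  have hAr : A ^ r = 1 := by
    rw [hA, prodMap_pow, hA₂r]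
    apply LinearMap.ext
    rintro ⟨x, y⟩
    simp
  have hgpow : ∀ n : ℕ, ∀ v,
      ((Matrix.toLin' (g : Matrix (Fin d ⊕ Fin d) (Fin d ⊕ Fin d) F)) ^ n) (e v) =
        e ((A ^ n) v) := by
    intro n
    induction n with
    | zero => intro v; simp
    | succ n ih =>
      intro v
      rw [pow_succ, Module.End.mul_apply, hge, ih, pow_succ, Module.End.mul_apply]
  refine ⟨g, ?_, f, ?_⟩
  · apply Subtype.ext
    rw [SubmonoidClass.coe_pow]
    apply Matrix.toLin'.injective
    rw [Matrix.toLin'_pow]
    apply LinearMap.ext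
    intro w
    obtain ⟨v, rfl⟩ := e.surjective w
    rw [hgpow, hAr]
    simp
  · have h1 : kdim (Matrix.toLin' (g : Matrix (Fin d ⊕ Fin d) (Fin d ⊕ Fin d) F)) f =
        kdim A f := (kdim_eq_of_equiv e A _ (fun v => (hge v).symm) f).symm
    have h2 : kdim A f = i := by
      rw [hA, kdim_prodMap, hk₂]
      have h3 : kdim (LinearMap.id : Module.End F (Fin k ⊕ Fin k → F)) f = 0 := by
        unfold kdim
        have h4 : aeval (LinearMap.id : Module.End F (Fin k ⊕ Fin k → F)) f =
            (f.eval 1) • (LinearMap.id : Module.End F (Fin k ⊕ Fin k → F)) := by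
          have h5 : (LinearMap.id : Module.End F (Fin k ⊕ Fin k → F)) = 1 := rfl
          rw [h5, ← map_one (algebraMap F (Module.End F (Fin k ⊕ Fin k → F))),
            Polynomial.aeval_algebraMap_apply_eq_algebraMap_eval, Algebra.algebraMap_eq_smul_one,
            map_one]
        have hker : LinearMap.ker (aeval (LinearMap.id : Module.End F (Fin k ⊕ Fin k → F)) f)
            = ⊥ := by
          rw [LinearMap.ker_eq_bot', h4]
          intro v hv
          rw [LinearMap.smul_apply, LinearMap.id_apply] at hv
          exact (smul_eq_zero.1 hv).resolve_left (cycFactors_eval_one_ne_zero hr hrp hf)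
        rw [hker, finrank_bot]
      rw [h3, zero_add]
    change Odd (kdim (Matrix.toLin' (g : Matrix (Fin d ⊕ Fin d) (Fin d ⊕ Fin d) F)) f)
    rw [h1, h2]
    exact hodd

end element

end Cfsg.Agent.Helper28.BGU
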