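import Mathlib
import Cfsg.Agent.Lib.Helper28.BGS7
import Cfsg.Agent.Lib.Helper28.BGU8

/-!
# Semisimple symplectic elements of odd prime order with a small support (helper28)
-/

set_option autoImplicit false
set_option linter.style.haveILetI false
set_option linter.unusedSectionVars false
set_option linter.unusedVariables false

namespace Cfsg.Agent.Helper28.BGS

open Module Polynomial Cfsg.Agent.Helper13.SympSS Cfsg.Agent.Helper13.SS
  Cfsg.Agent.Helper13.Dual Cfsg.Agent.Helper28.SympIso Cfsg.Agent.Helper13.SympDer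
  Cfsg.Agent.Helper28.BGU

universe u

section glue

variable {F : Type u} [Field F]

theorem kdim_id_of_eval_ne {V : Type*} [AddCommGroup V] [Module F V] (f : F[X])
    (hf1 : f.eval 1 ≠ 0) : kdim (LinearMap.id : Module.End F V) f = 0 := by
  unfold kdim
  have h4 : aeval (LinearMap.id : Module.End F V) f =
      (f.eval 1) • (LinearMap.id : Module.End F V) := by
    have h5 : (LinearMap.id : Module.End F V) = 1 := rfl
    rw [h5, ← map_one (algebraMap F (Module.End F V)),
      Polynomial.aeval_algebraMap_apply_eq_algebraMap_eval, Algebra.algebraMap_eq_smul_one,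
      map_one]
  have hker : LinearMap.ker (aeval (LinearMap.id : Module.End F V) f) = ⊥ := by
    rw [LinearMap.ker_eq_bot', h4]
    intro v hv
    rw [LinearMap.smul_apply, LinearMap.id_apply] at hv
    exact (smul_eq_zero.1 hv).resolve_left hf1
  rw [hker, finrank_bot]

theorem kdim_id_X_sub_one {V : Type*} [AddCommGroup V] [Module F V] :
    kdim (LinearMap.id : Module.End F V) (X - C 1) = finrank F V := by
  unfold kdim
  have h : aeval (LinearMap.id : Module.End F V) (X - C (1 : F)) = 0 := by
    rw [map_sub, aeval_X, aeval_C, map_one]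
    exact sub_self _
  rw [h, LinearMap.ker_zero, finrank_top]

/-- gluing a block to a trivial part inside the standard symplectic space -/
theorem glue_block {V₂ : Type u} [AddCommGroup V₂] [Module F V₂] [FiniteDimensional F V₂]
    (A₂ : Module.End F V₂) (B₂ : LinearMap.BilinForm F V₂) (hAB₂ : AltInv A₂ B₂) (r : ℕ)
    (hA₂r : A₂ ^ r = 1) (d c' : ℕ) (hc' : c' ≤ d) (hdim₂ : finrank F V₂ = 2 * c') (f : F[X])
    (hf1 : f.eval 1 ≠ 0) :
    ∃ x : Matrix.symplecticGroup (Fin d) F, x ^ r = 1 ∧
      kdim (Matrix.toLin' (x : Matrix (Fin d ⊕ Fin d) (Fin d ⊕ Fin d) F)) f = kdim A₂ f ∧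
      2 * d ≤ kdim (Matrix.toLin' (x : Matrix (Fin d ⊕ Fin d) (Fin d ⊕ Fin d) F)) (X - C 1) +
        2 * c' ∧
      (aeval A₂ f = 0 → NondegOn' (LinearMap.ker
        (aeval (Matrix.toLin' (x : Matrix (Fin d ⊕ Fin d) (Fin d ⊕ Fin d) F)) f))) := by
  classical
  set k := d - c' with hk
  have hkd : 2 * k + 2 * c' = 2 * d := by omega
  set B₁ := sympBil k F with hB₁
  set A : Module.End F ((Fin k ⊕ Fin k → F) × V₂) :=
    (LinearMap.id : Module.End F (Fin k ⊕ Fin k → F)).prodMap A₂ with hA
  set B := sumForm B₁ B₂ with hB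
  have hAapp : ∀ z, A z = (z.1, A₂ z.2) := fun z => rfl
  have hAB : AltInv A B := by
    refine ⟨?_, ?_, ?_⟩
    · intro u
      rw [hB, sumForm_apply, hAB₂.alt, hB₁, sympBil_isAlt k u.1, add_zero]
    · rintro ⟨x, y⟩ h
      have hx : x = 0 := by
        apply (sympBil_nondegenerate (F := F) k).1
        intro v
        have := h (v, 0)
        rw [hB, sumForm_apply] at this
        simpa using this
      have hy : y = 0 := by
        apply hAB₂.nondeg
        intro v
        have := h (0, v)
        rw [hB, sumForm_apply] at this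
        simpa using this
      rw [hx, hy]
      rfl
    · intro u v
      rw [hB, sumForm_apply, sumForm_apply, hAapp, hAapp]
      show B₁ u.1 v.1 + B₂ (A₂ u.2) (A₂ v.2) = _
      rw [hAB₂.inv]
  have hfin : finrank F ((Fin k ⊕ Fin k → F) × V₂) = 2 * d := by
    rw [Module.finrank_prod, hdim₂, Module.finrank_fintype_fun_eq_card, Fintype.card_sum,
      Fintype.card_fin]
    omega
  obtain ⟨g, e, he, hge⟩ := exists_matrix_conj A B hAB d hfin
  have hAr : A ^ r = 1 := by
    rw [hA, prodMap_pow, hA₂r]
    apply LinearMap.ext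
    rintro ⟨x, y⟩
    simp
  have hgpow : ∀ n : ℕ, ∀ v,
      ((Matrix.toLin' (g : Matrix (Fin d ⊕ Fin d) (Fin d ⊕ Fin d) F)) ^ n) (e v) =
        e ((A ^ n) v) := by
    intro n
    induction n with
    | zero => intro v; simp
    | succ n ih =>
      intro v
      rw [pow_succ, Module.End.mul_apply, hge, ih, pow_succ, Module.End.mul_apply]
  have hkd' : ∀ P : F[X],
      kdim (Matrix.toLin' (g : Matrix (Fin d ⊕ Fin d) (Fin d ⊕ Fin d) F)) P = kdim A P :=
    fun P => (kdim_eq_of_equiv e A _ (fun v => (hge v).symm) P).symm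
  refine ⟨g, ?_, ?_, ?_, ?_⟩
  · apply Subtype.ext
    rw [SubmonoidClass.coe_pow]
    apply Matrix.toLin'.injective
    rw [Matrix.toLin'_pow]
    apply LinearMap.ext
    intro w
    obtain ⟨v, rfl⟩ := e.surjective w
    rw [hgpow, hAr]
    simp
  · rw [hkd', hA, kdim_prodMap, kdim_id_of_eval_ne f hf1, zero_add]
  · rw [hkd', hA, kdim_prodMap, kdim_id_X_sub_one, Module.finrank_fintype_fun_eq_card,
      Fintype.card_sum, Fintype.card_fin]
    omega
  · intro hA₂f u hu hu0
    obtain ⟨u₀, rfl⟩ := e.surjective u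
    have hint : ∀ v, e (aeval A f v) =
        aeval (Matrix.toLin' (g : Matrix (Fin d ⊕ Fin d) (Fin d ⊕ Fin d) F)) f (e v) :=
      fun v => aeval_intertwine (e : ((Fin k ⊕ Fin k → F) × V₂) →ₗ[F] (Fin d ⊕ Fin d → F)) A _
        (fun v => (hge v).symm) f v
    have hAf : ∀ v, aeval A f v = (f.eval 1 • v.1, 0) := by
      intro v
      rw [hA, aeval_prodMap, LinearMap.prodMap_apply, hA₂f, LinearMap.zero_apply]
      congr 1
      have h5 : (LinearMap.id : Module.End F (Fin k ⊕ Fin k → F)) = 1 := rfl
      rw [h5, ← map_one (algebraMap F (Module.End F (Fin k ⊕ Fin k → F))),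
        Polynomial.aeval_algebraMap_apply_eq_algebraMap_eval, Algebra.algebraMap_eq_smul_one,
        LinearMap.smul_apply, Module.End.one_apply]
    rw [LinearMap.mem_ker, ← hint, hAf] at hu
    have hu1 : u₀.1 = 0 := by
      have h1 := e.map_eq_zero_iff.1 hu
      have h2 := congrArg Prod.fst h1
      exact (smul_eq_zero.1 h2).resolve_left hf1
    have hu2 : u₀.2 = 0 := by
      apply hAB₂.nondeg
      intro w₂
      have hw : e ((0 : Fin k ⊕ Fin k → F), w₂) ∈ LinearMap.ker
          (aeval (Matrix.toLin' (g : Matrix (Fin d ⊕ Fin d) (Fin d ⊕ Fin d) F)) f) := by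
        rw [LinearMap.mem_ker, ← hint, hAf]
        simp
      have h1 := hu0 _ hw
      rw [he, hB, sumForm_apply, hu1] at h1
      simpa using h1
    have : u₀ = 0 := Prod.ext hu1 hu2
    rw [this, map_zero]

end glue

end Cfsg.Agent.Helper28.BGS
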