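import Mathlib
import Cfsg.Agent.Lib.Helper28.BGS9
import Cfsg.Agent.Lib.Helper28.BGS10
import Cfsg.Agent.Lib.Helper12.PSLOrder

/-!
# Field-extension subgroups of the symplectic group: elements with no conjugate in the subgroup
(helper28)
-/

set_option autoImplicit false
set_option linter.style.haveILetI false
set_option linter.unusedSectionVars false
set_option linter.unusedVariables false

namespace Cfsg.Agent.Helper28.BGS

open Matrix Module Polynomial Cfsg.Agent.Helper28.BGU Cfsg.Agent.Helper28.SympIso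
  Cfsg.Agent.Helper13.SS Cfsg.Agent.Helper2.Symp

section scalar

variable {F : Type*} [Field F] {V : Type*} [AddCommGroup V] [Module F V]

/-- kernels of polynomials in a scalar -/
theorem kdim_scalar (z : F) (f : F[X]) :
    kdim (z • (1 : Module.End F V)) f = 0 ∨ kdim (z • (1 : Module.End F V)) f = finrank F V := by
  unfold kdim
  have h4 : aeval (z • (1 : Module.End F V)) f = (f.eval z) • (1 : Module.End F V) := by
    rw [← Algebra.algebraMap_eq_smul_one, Polynomial.aeval_algebraMap_apply_eq_algebraMap_eval,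
      Algebra.algebraMap_eq_smul_one]
  rw [h4]
  by_cases hz : f.eval z = 0
  · right
    rw [hz, zero_smul, LinearMap.ker_zero, finrank_top]
  · left
    have hker : LinearMap.ker ((f.eval z) • (1 : Module.End F V)) = ⊥ := by
      rw [LinearMap.ker_eq_bot']
      intro v hv
      rw [LinearMap.smul_apply, Module.End.one_apply] at hv
      exact (smul_eq_zero.1 hv).resolve_left hz
    rw [hker, finrank_bot]

end scalar

section arith

theorem semilinear_arith (k m e i2 d : ℕ) (hk : 2 ≤ k) (hm : 1 ≤ m) (hd : d = k * m)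
    (h1 : k * e ≤ 2 * d) (h2 : 2 * d ≤ e + i2) (h3 : i2 + 1 ≤ k) : False := by
  subst hd
  have he : e ≤ 2 * m := by
    have : k * e ≤ k * (2 * m) := by
      calc k * e ≤ 2 * (k * m) := h1
        _ = k * (2 * m) := by ring
    exact Nat.le_of_mul_le_mul_left this (by omega)
  have h4 : 2 * (k * m) + 1 ≤ 2 * m + k := by omega
  obtain ⟨k', rfl⟩ : ∃ k', k = k' + 2 := ⟨k - 2, by omega⟩
  obtain ⟨m', rfl⟩ : ∃ m', m = m' + 1 := ⟨m - 1, by omega⟩
  ring_nf at h4
  nlinarith

end arith

section main

variable {F : Type*} [Field F] [Fintype F] {d : ℕ}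
variable {K : Subalgebra F (Matrix (Fin d ⊕ Fin d) (Fin d ⊕ Fin d) F)}

theorem toGL_pow_eq (x : Matrix.symplecticGroup (Fin d) F) (r : ℕ) (hx : x ^ r = 1) :
    ((((Cfsg.Agent.Helper28.SpSingMax.toGLHom d F x) ^ r : GL (Fin d ⊕ Fin d) F)) :
      Matrix (Fin d ⊕ Fin d) (Fin d ⊕ Fin d) F) =
      (1 : F) • (1 : Matrix (Fin d ⊕ Fin d) (Fin d ⊕ Fin d) F) := by
  rw [← map_pow, hx, map_one, Units.val_one, one_smul]

/-- the elements witnessing that not every element of order `r` has a conjugate in the
normalizer -/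
theorem necessary (p : ℕ) [Fact p.Prime] [CharP F p] {q : ℕ} (hq : Fintype.card F = q) (hd : 2 ≤ d) {k : ℕ} (hk : k.Prime)
    (hK : Cfsg.Geo.IsFieldSubalgebra k K) (h : SAForm K (sympBil d F)) (r : ℕ) [Fact r.Prime]
    (hΩ : r ∣ (Cfsg.Geo.subalgebraNormalizer K).relIndex (Cfsg.spGL d F))
    (hall : ∀ x ∈ Cfsg.spGL d F,
      (∃ z : F, ((x ^ r : GL (Fin d ⊕ Fin d) F) : Matrix (Fin d ⊕ Fin d) (Fin d ⊕ Fin d) F) =
        z • (1 : Matrix (Fin d ⊕ Fin d) (Fin d ⊕ Fin d) F)) →
      (∀ z : F, (x : Matrix (Fin d ⊕ Fin d) (Fin d ⊕ Fin d) F) ≠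
        z • (1 : Matrix (Fin d ⊕ Fin d) (Fin d ⊕ Fin d) F)) →
      ∃ g ∈ Cfsg.spGL d F, g⁻¹ * x * g ∈ Cfsg.Geo.subalgebraNormalizer K) :
    r = 2 ∧ d = 2 ∧ k = 2 ∧ Odd q := by
  have hr : r.Prime := Fact.out
  have hp : p.Prime := Fact.out
  obtain ⟨m, hm⟩ := degree_dvd hk.one_le hK h
  have hm1 : 1 ≤ m := by
    rcases Nat.eq_zero_or_pos m with h0 | h0
    · rw [h0, mul_zero] at hm
      omega
    · exact h0
  have hk2 : 2 ≤ k := hk.two_le
  have hpq : p ∣ q := by
    obtain ⟨n, -, hn⟩ := FiniteField.card F p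
    rw [← hq, hn]
    exact dvd_pow_self p n.ne_zero
  have hq1 : 1 ≤ q := by
    rw [← hq]
    exact Fintype.card_pos
  have hfin : finrank F (Fin d ⊕ Fin d → F) = 2 * d := by
    rw [Module.finrank_fintype_fun_eq_card, Fintype.card_sum, Fintype.card_fin]
    ring
  rcases prime_dvd_relIndex hq hk.one_le hK h r hr hΩ with hrq | ⟨j, hj1, hjd, hkj, hrj⟩
  · -- `r = p`: a transvection
    exfalso
    have hrp : r = p := by
      obtain ⟨n, -, hn⟩ := FiniteField.card F p
      rw [← hq, hn] at hrq
      exact (Nat.prime_dvd_prime_iff_eq hr hp).1 (hr.dvd_of_dvd_pow hrq)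
    obtain ⟨x, hxs, hxp, hxns, hxk⟩ := exists_transvection (F := F) (by omega : 1 ≤ d) p
    obtain ⟨g, hg, hy⟩ := hall x hxs ⟨1, by rw [hrp, hxp, Units.val_one, one_smul]⟩ hxns
    rcases conj_cases hk hK h x g hg hy with hc | hc
    · obtain ⟨t, ht⟩ := (hc (X - C 1)).1
      have h1 : k ∣ 2 * d := Dvd.dvd.mul_left ⟨m, hm⟩ 2
      have h2 : k ∣ 1 := by
        have h3 : k ∣ kdim (Matrix.toLin' (x : Matrix (Fin d ⊕ Fin d) (Fin d ⊕ Fin d) F))
            (X - C 1) + 1 := by rw [hxk]; exact h1
        exact (Nat.dvd_add_right ⟨t, ht⟩).1 h3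
      have := Nat.le_of_dvd (by norm_num) h2
      omega
    · have h1 := hc.1 1
      have h2 : 2 * kdim (Matrix.toLin' (x : Matrix (Fin d ⊕ Fin d) (Fin d ⊕ Fin d) F))
          (X - C 1) ≤ k * kdim (Matrix.toLin' (x : Matrix (Fin d ⊕ Fin d) (Fin d ⊕ Fin d) F))
          (X - C 1) := Nat.mul_le_mul_right _ hk2
      omega
  · have hrq : ¬ r ∣ q := by
      intro hrq
      have h1 : r ∣ q ^ (2 * j) := Dvd.dvd.trans hrq (dvd_pow_self q (by omega))
      have h2 : 1 ≤ q ^ (2 * j) := Nat.one_le_pow _ _ hq1
      have h3 : r ∣ 1 := by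
        have : q ^ (2 * j) = (q ^ (2 * j) - 1) + 1 := by omega
        rw [this] at h1
        exact (Nat.dvd_add_right hrj).1 h1
      have := Nat.le_of_dvd (by norm_num) h3
      have := hr.two_le
      omega
    have hrp : r ≠ p := by
      intro h1
      rw [h1] at hrq
      exact hrq hpq
    by_cases hr2 : r = 2
    · -- an involution
      have hodd : Odd q := by
        rw [← Nat.not_even_iff_odd]
        intro he
        rw [hr2] at hrq
        exact hrq he.two_dvd
      have hoddF : Odd (Fintype.card F) := by rw [hq]; exact hodd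
      have h2 : (2 : F) ≠ 0 := two_ne_zero_of_odd hoddF
      obtain ⟨x, hxs, hx2, hxns, hxk, hxnd, hxk1⟩ := exists_involution h2 hd
      obtain ⟨g, hg, hy⟩ := hall x hxs ⟨1, by rw [hr2, hx2, Units.val_one, one_smul]⟩ hxns
      rcases conj_cases hk hK h x g hg hy with hc | hc
      · exfalso
        have h1 := (hc (X - C (-1))).2 hxnd
        rw [hxk] at h1
        have := Nat.le_of_dvd (by norm_num) h1
        omega
      · have h1 := hc.1 1
        set e := kdim (Matrix.toLin' (x : Matrix (Fin d ⊕ Fin d) (Fin d ⊕ Fin d) F))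
          (X - C 1) with he
        have he2 : 2 ≤ e := by omega
        have hk' : k = 2 := by
          by_contra hne
          have hk3 : 3 ≤ k := by omega
          have : 3 * e ≤ k * e := Nat.mul_le_mul_right _ hk3
          omega
        refine ⟨hr2, ?_, hk', hodd⟩
        rw [hk'] at h1
        omega
    · -- a semisimple element of odd prime order
      exfalso
      set i := orderOf (q : ZMod r) with hi
      have hidvd : i ∣ 2 * j := Cfsg.Agent.Helper12.orderOf_dvd_of_dvd_pow_sub_one hq1 hrj
      have hi0 : 0 < i := Nat.pos_of_dvd_of_pos hidvd (by omega)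
      have hqr : (q : ZMod r) ≠ 0 := by
        intro h0
        exact hrq ((ZMod.natCast_eq_zero_iff q r).1 h0)
      have hir : i ∣ r - 1 := orderOf_dvd_of_pow_eq_one (ZMod.pow_card_sub_one_eq_one hqr)
      have hr3 : 3 ≤ r := by
        have := hr.two_le
        omega
      have hrodd : Odd r := hr.odd_of_ne_two hr2
      rcases Nat.even_or_odd i with hie | hio
      · obtain ⟨i', hi'⟩ := hie
        have hi'2 : i = 2 * i' := by omega
        have hi'0 : 0 < i' := by omega
        have hi'j : i' ∣ j := by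
          rw [hi'2] at hidvd
          exact Nat.dvd_of_mul_dvd_mul_left (by norm_num) hidvd
        have hi'le : i' ≤ j := Nat.le_of_dvd (by omega) hi'j
        have hi'd : i' < d := by
          rcases Nat.lt_or_ge i' d with h1 | h1
          · exact h1
          · exfalso
            have : j = d := by omega
            rw [this] at hkj
            exact hkj ⟨m, hm⟩
        obtain ⟨x, hxr, f, hxf, hxnd, hx1⟩ :=
          exists_elt_even (F := F) hq r hr2 hrp d i' hi'2 hi'0 (by omega)
        set X' := Cfsg.Agent.Helper28.SpSingMax.toGLHom d F x with hX'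
        have hX'v : (X' : Matrix (Fin d ⊕ Fin d) (Fin d ⊕ Fin d) F) =
            (x : Matrix (Fin d ⊕ Fin d) (Fin d ⊕ Fin d) F) := rfl
        have hns : ∀ z : F, (X' : Matrix (Fin d ⊕ Fin d) (Fin d ⊕ Fin d) F) ≠
            z • (1 : Matrix (Fin d ⊕ Fin d) (Fin d ⊕ Fin d) F) := by
          intro z hz
          rw [hX'v] at hz
          have h1 : Matrix.toLin' (x : Matrix (Fin d ⊕ Fin d) (Fin d ⊕ Fin d) F) =
              z • (1 : Module.End F (Fin d ⊕ Fin d → F)) := by
            rw [hz, map_smul, Matrix.toLin'_one]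
            rfl
          rw [h1] at hxf
          rcases kdim_scalar (V := Fin d ⊕ Fin d → F) z f with h2 | h2
          · omega
          · rw [hfin] at h2
            omega
        obtain ⟨g, hg, hy⟩ := hall X' (Cfsg.Agent.Helper28.SpSingMax.toGLHom_mem_spGL x)
          ⟨1, toGL_pow_eq x r hxr⟩ hns
        rcases conj_cases hk hK h X' g hg hy with hc | hc
        · have h1 := (hc f).2 hxnd
          rw [hX'v, hxf] at h1
          have h2 : k ∣ i' := Nat.dvd_of_mul_dvd_mul_left (by norm_num) h1
          exact hkj (Dvd.dvd.trans h2 hi'j)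
        · have hkr : k = r := hc.2 r 1 hr (toGL_pow_eq x r hxr)
          have h1 := hc.1 1
          rw [hX'v] at h1
          have h3 : 2 * i' + 1 ≤ k := by
            have := Nat.le_of_dvd (by omega) hir
            omega
          exact semilinear_arith k m _ (2 * i') d hk2 hm1 hm h1 hx1 h3
      · have hij : i ∣ j := by
          have hcop : Nat.Coprime i 2 := Nat.Coprime.symm (Nat.coprime_two_left.2 hio)
          exact hcop.dvd_of_dvd_mul_left hidvd
        have hile : i ≤ j := Nat.le_of_dvd (by omega) hij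
        obtain ⟨x, hxr, f, hxf, hx1⟩ :=
          exists_elt_odd (F := F) hq r hr2 hrp d hio (by omega)
        set X' := Cfsg.Agent.Helper28.SpSingMax.toGLHom d F x with hX'
        have hX'v : (X' : Matrix (Fin d ⊕ Fin d) (Fin d ⊕ Fin d) F) =
            (x : Matrix (Fin d ⊕ Fin d) (Fin d ⊕ Fin d) F) := rfl
        have hns : ∀ z : F, (X' : Matrix (Fin d ⊕ Fin d) (Fin d ⊕ Fin d) F) ≠
            z • (1 : Matrix (Fin d ⊕ Fin d) (Fin d ⊕ Fin d) F) := by
          intro z hz
          rw [hX'v] at hz
          have h1 : Matrix.toLin' (x : Matrix (Fin d ⊕ Fin d) (Fin d ⊕ Fin d) F) =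
              z • (1 : Module.End F (Fin d ⊕ Fin d → F)) := by
            rw [hz, map_smul, Matrix.toLin'_one]
            rfl
          rw [h1] at hxf
          rcases kdim_scalar (V := Fin d ⊕ Fin d → F) z f with h2 | h2
          · omega
          · rw [hfin] at h2
            omega
        obtain ⟨g, hg, hy⟩ := hall X' (Cfsg.Agent.Helper28.SpSingMax.toGLHom_mem_spGL x)
          ⟨1, toGL_pow_eq x r hxr⟩ hns
        rcases conj_cases hk hK h X' g hg hy with hc | hc
        · have h1 := (hc f).1
          rw [hX'v, hxf] at h1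
          exact hkj (Dvd.dvd.trans h1 hij)
        · have hkr : k = r := hc.2 r 1 hr (toGL_pow_eq x r hxr)
          have h1 := hc.1 1
          rw [hX'v] at h1
          have h3 : 2 * i + 1 ≤ k := by
            have h4 : 2 * i ∣ r - 1 := by
              have hcop : Nat.Coprime 2 i := Nat.coprime_two_left.2 hio
              have h5 : 2 ∣ r - 1 := by
                obtain ⟨t, ht⟩ := hrodd
                exact ⟨t, by omega⟩
              exact hcop.mul_dvd_of_dvd_of_dvd h5 hir
            have := Nat.le_of_dvd (by omega) h4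
            omega
          exact semilinear_arith k m _ (2 * i) d hk2 hm1 hm h1 hx1 h3

end main

end Cfsg.Agent.Helper28.BGS
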