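import Mathlib
import Cfsg.Agent.Lib.Helper28.BGP7
import Cfsg.Agent.Lib.Helper28.BGS10
import Cfsg.Agent.Lib.Helper28.BGS11
import Cfsg.Agent.Lib.Helper11.UnitaryGeom

/-!
# Elements of the special unitary group with no conjugate in the stabiliser of a pair of
complementary totally singular subspaces (helper28)
-/

set_option autoImplicit false
set_option linter.style.haveILetI false
set_option linter.unusedSectionVars false
set_option linter.unusedVariables false

namespace Cfsg.Agent.Helper28.BGP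

open Matrix Module Polynomial Cfsg.Agent.Helper11.Herm Cfsg.Agent.Helper13.SS
  Cfsg.Agent.Helper28.BGS Cfsg.Agent.Helper28.BGU

section conj

variable {F : Type*} [Field F] {n : ℕ}

/-- every element of order `r` (modulo scalars) is conjugate into the stabiliser -/
def AllConj (q r : ℕ) (D : Fin 2 → Submodule F (Fin n → F)) : Prop :=
  ∀ x ∈ Cfsg.GU n F q ⊓ Cfsg.Geo.specialLinear (Fin n) F,
    (∃ z : F, ((x ^ r : GL (Fin n) F) : Matrix (Fin n) (Fin n) F) =
      z • (1 : Matrix (Fin n) (Fin n) F)) →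
    (∀ z : F, (x : Matrix (Fin n) (Fin n) F) ≠ z • (1 : Matrix (Fin n) (Fin n) F)) →
    ∃ g ∈ Cfsg.GU n F q ⊓ Cfsg.Geo.specialLinear (Fin n) F,
      g⁻¹ * x * g ∈ Cfsg.Geo.decompositionStabilizer D

theorem conj_pow_val (x g : GL (Fin n) F) (k : ℕ) (z : F)
    (h : (x : Matrix (Fin n) (Fin n) F) ^ k = z • (1 : Matrix (Fin n) (Fin n) F)) :
    ((g⁻¹ * x * g : GL (Fin n) F) : Matrix (Fin n) (Fin n) F) ^ k =
      z • (1 : Matrix (Fin n) (Fin n) F) := by
  have h1 : (g⁻¹ * x * g) ^ k = g⁻¹ * x ^ k * g := by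
    have h2 := conj_pow (a := g⁻¹) (b := x) (i := k)
    rwa [inv_inv] at h2
  rw [← Units.val_pow_eq_pow_val, h1, Units.val_mul, Units.val_mul, Units.val_pow_eq_pow_val, h,
    mul_smul_comm, mul_one, smul_mul_assoc, gl_inv_mul]

theorem conj_mul_self_val (x g : GL (Fin n) F) (z : F)
    (h : (x : Matrix (Fin n) (Fin n) F) * (x : Matrix (Fin n) (Fin n) F) =
      z • (1 : Matrix (Fin n) (Fin n) F)) :
    ((g⁻¹ * x * g : GL (Fin n) F) : Matrix (Fin n) (Fin n) F) *
      ((g⁻¹ * x * g : GL (Fin n) F) : Matrix (Fin n) (Fin n) F) =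
      z • (1 : Matrix (Fin n) (Fin n) F) := by
  have h1 := conj_pow_val x g 2 z (by rw [pow_two, h])
  rwa [pow_two] at h1

end conj

section witness

variable {F : Type*} [Field F] [Fintype F] {n : ℕ} {q : ℕ} (φ : F →+* F)
  (D : Fin 2 → Submodule F (Fin n → F))

open Cfsg.Agent.Helper28.SuSingMax in
/-- powers of a unitary transvection -/
theorem UT_pow_mulVec (v : Fin n → F) (hv : hdot φ v v = 0) (c : F) (k : ℕ) (x : Fin n → F) :
    (((UT φ v c) ^ k : GL (Fin n) F) : Matrix (Fin n) (Fin n) F) *ᵥ x =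
      x + ((k : F) * c * hdot φ x v) • v := by
  induction k generalizing x with
  | zero => simp
  | succ k ih =>
    rw [pow_succ, Units.val_mul, ← Matrix.mulVec_mulVec, UT_mulVec φ v hv, ih, hdot_add_left,
      hdot_smul_left, hv, mul_zero, add_zero, add_assoc, ← add_smul]
    congr 2
    push_cast
    ring

open Cfsg.Agent.Helper28.SuSingMax in
/-- unitary transvections have no conjugate in the stabiliser -/
theorem not_allConj_of_dvd (hF : Fintype.card F = q ^ 2) (hφ : ∀ x, φ x = x ^ q) (hn : 4 ≤ n)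
    (r : ℕ) (hrF : (r : F) = 0)
    (hU : ∀ u ∈ D 0, ∀ v ∈ D 0, hdot φ u v = 0) (hW : ∀ u ∈ D 1, ∀ v ∈ D 1, hdot φ u v = 0)
    (hdec : ∀ v : Fin n → F, ∃ u ∈ D 0, ∃ w ∈ D 1, v = u + w)
    (hf0 : 2 ≤ finrank F (D 0)) (hall : AllConj q r D) : False := by
  have hφφ := frob_frob hF φ hφ
  have hφid := frob_ne_id hF φ hφ
  obtain ⟨β, hβ0, hβ⟩ := frob_norm_surj hF φ hφ (-1) (by simp) (by rw [map_neg, map_one])
  obtain ⟨c, hc0, hc⟩ := Cfsg.Agent.Helper11.Witt.exists_trace_zero φ hφid hφφ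
  set i0 : Fin n := ⟨0, by omega⟩ with hi0
  set i1 : Fin n := ⟨1, by omega⟩ with hi1
  have hi01 : i0 ≠ i1 := by
    intro h
    have := congrArg Fin.val h
    simp [hi0, hi1] at this
  set v : Fin n → F := Pi.single i0 1 + β • Pi.single i1 1 with hvdef
  have hv : hdot φ v v = 0 := by
    rw [hvdef]
    simp only [hdot_add_left, hdot_add_right, hdot_smul_left, hdot_smul_right,
      hdot_single_single]
    rw [if_pos trivial, if_neg hi01, if_neg (Ne.symm hi01)]
    linear_combination hβ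
  have hv0 : v ≠ 0 := by
    intro h
    have h1 := congrFun h i0
    rw [hvdef] at h1
    simp [Pi.single_apply, hi01] at h1
  set x : GL (Fin n) F := UT φ v c with hx
  have hxU : x ∈ UG (Fin n) φ := UT_mem_UG φ hφφ v hv c hc
  have hxS : x ∈ Cfsg.Geo.specialLinear (Fin n) F := UT_mem_SL φ v c
  have hxr : ((x ^ r : GL (Fin n) F) : Matrix (Fin n) (Fin n) F) =
      (1 : F) • (1 : Matrix (Fin n) (Fin n) F) := by
    rw [one_smul, Matrix.ext_iff_mulVec]
    intro w
    rw [UT_pow_mulVec φ v hv, hrF, zero_mul, zero_mul, zero_smul, add_zero, Matrix.one_mulVec]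
  have hxns : ∀ z : F, (x : Matrix (Fin n) (Fin n) F) ≠ z • (1 : Matrix (Fin n) (Fin n) F) := by
    intro z hz
    have h1 : ∀ w : Fin n → F, w + (c * hdot φ w v) • v = z • w := by
      intro w
      rw [← UT_mulVec φ v hv, ← hx, hz, Matrix.smul_mulVec, Matrix.one_mulVec]
    have h2 := h1 v
    rw [hv, mul_zero, zero_smul, add_zero] at h2
    have hz1 : z = 1 := by
      by_contra hne
      apply hv0
      have h3 : (1 - z) • v = 0 := by
        rw [sub_smul, one_smul, ← h2, sub_self]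
      rcases smul_eq_zero.1 h3 with h4 | h4
      · exact absurd (sub_eq_zero.1 h4).symm hne
      · exact h4
    obtain ⟨w, hw⟩ : ∃ w, hdot φ w v ≠ 0 := by
      by_contra hcon
      push Not at hcon
      apply hv0
      apply eq_zero_of_hdot_right φ
      intro y
      exact hdot_eq_zero_symm φ hφφ _ _ (hcon y)
    have h5 := h1 w
    rw [hz1, one_smul, add_eq_left] at h5
    rcases smul_eq_zero.1 h5 with h6 | h6
    · exact (mul_ne_zero hc0 hw) h6
    · exact hv0 h6
  have hxG : x ∈ Cfsg.GU n F q ⊓ Cfsg.Geo.specialLinear (Fin n) F := by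
    refine Subgroup.mem_inf.2 ⟨?_, hxS⟩
    rw [GU_eq_UG φ hφ]
    exact hxU
  obtain ⟨g, hg, hy⟩ := hall x hxG ⟨1, hxr⟩ hxns
  have hgU : g ∈ UG (Fin n) φ := by
    have := (Subgroup.mem_inf.1 hg).1
    rwa [GU_eq_UG φ hφ] at this
  have hgU' : g⁻¹ ∈ UG (Fin n) φ := Subgroup.inv_mem _ hgU
  have hconj : g⁻¹ * x * g = UT φ ((g⁻¹ : GL (Fin n) F) • v) c := by
    have h1 := conj_UT φ g⁻¹ hgU' v hv c
    rw [inv_inv] at h1
    exact h1
  set v' : Fin n → F := ((g⁻¹ : GL (Fin n) F) : Matrix (Fin n) (Fin n) F) *ᵥ v with hv'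
  have hconj' : g⁻¹ * x * g = UT φ v' c := hconj
  have hv'iso : hdot φ v' v' = 0 := by
    rw [hv', IsU.hdot_mulVec φ ((mem_UG_iff φ _).mp hgU'), hv]
  have hv'0 : v' ≠ 0 := by
    intro h
    apply hv0
    have h1 : (g : Matrix (Fin n) (Fin n) F) *ᵥ v' = v := by
      rw [hv', inv_mulVec_mulVec]
    rw [← h1, h, Matrix.mulVec_zero]
  rw [hconj'] at hy
  rcases stab_cases D _ hy with ⟨h0, h1⟩ | ⟨h0, h1⟩
  · exact transvection_not_fix φ (D 0) (D 1) hφφ v' hv'0 hv'iso c hc0 hU hW hdec h0 h1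
  · exact transvection_not_swap φ (D 0) (D 1) v' hv'iso c
      (fun x hx hx' => Cfsg.Agent.Helper28.SuTsPair.inter_zero φ (D 0) (D 1) hU hW hdec hx hx')
      hf0 h0

end witness

end Cfsg.Agent.Helper28.BGP
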