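import Mathlib
import Cfsg.Agent.Lib.Helper28.BGP8

/-!
# Semisimple elements of the special unitary group with no conjugate in the stabiliser of a pair
of complementary totally singular subspaces (helper28)
-/

set_option autoImplicit false
set_option linter.style.haveILetI false
set_option linter.unusedSectionVars false
set_option linter.unusedVariables false

namespace Cfsg.Agent.Helper28.BGP

open Matrix Module Polynomial Cfsg.Agent.Helper11.Herm Cfsg.Agent.Helper13.SS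
  Cfsg.Agent.Helper28.BGS Cfsg.Agent.Helper28.BGU

section witness

variable {F : Type*} [Field F] [Fintype F] {n : ℕ} {q : ℕ} (φ : F →+* F)
  (D : Fin 2 → Submodule F (Fin n → F))

/-- semisimple elements of odd order with an eigenspace of odd dimension have no conjugate in the
stabiliser -/
theorem not_allConj_of_odd_kdim (hF : Fintype.card F = q ^ 2) (hφ : ∀ x, φ x = x ^ q)
    (r : ℕ) (hr : Odd r) (hrF : (r : F) ≠ 0)
    (hU : ∀ u ∈ D 0, ∀ v ∈ D 0, hdot φ u v = 0) (hW : ∀ u ∈ D 1, ∀ v ∈ D 1, hdot φ u v = 0)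
    (hdec : ∀ v : Fin n → F, ∃ u ∈ D 0, ∃ w ∈ D 1, v = u + w)
    (hf0 : 0 < finrank F (D 0))
    (x : Matrix (Fin n) (Fin n) F) (hxU : IsU φ x) (hdet : x.det = 1) (hxr : x ^ r = 1)
    (hxns : ∀ z : F, x ≠ z • (1 : Matrix (Fin n) (Fin n) F)) (c : F) (hc : c * φ c = 1)
    (hcr : c ^ r = 1) (hodd : Odd (kdim (Matrix.toLin' x) (X - C c)))
    (hall : AllConj q r D) : False := by
  have hφφ := frob_frob hF φ hφ
  set x' : GL (Fin n) F := (hxU.toUG φ : GL (Fin n) F) with hx'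
  have hx'v : (x' : Matrix (Fin n) (Fin n) F) = x := rfl
  have hx'U : x' ∈ UG (Fin n) φ := (hxU.toUG φ).2
  have hxG : x' ∈ Cfsg.GU n F q ⊓ Cfsg.Geo.specialLinear (Fin n) F := by
    refine Subgroup.mem_inf.2 ⟨?_, ?_⟩
    · rw [GU_eq_UG φ hφ]
      exact hx'U
    · rw [mem_specialLinear_iff, hx'v, hdet]
  have hx'r : ((x' ^ r : GL (Fin n) F) : Matrix (Fin n) (Fin n) F) =
      (1 : F) • (1 : Matrix (Fin n) (Fin n) F) := by
    rw [Units.val_pow_eq_pow_val, hx'v, hxr, one_smul]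
  obtain ⟨g, hg, hy⟩ := hall x' hxG ⟨1, hx'r⟩ (by rw [hx'v]; exact hxns)
  have hgU : g ∈ UG (Fin n) φ := by
    have := (Subgroup.mem_inf.1 hg).1
    rwa [GU_eq_UG φ hφ] at this
  have hyU : IsU φ ((g⁻¹ * x' * g : GL (Fin n) F) : Matrix (Fin n) (Fin n) F) := by
    rw [← mem_UG_iff]
    exact Subgroup.mul_mem _ (Subgroup.mul_mem _ (Subgroup.inv_mem _ hgU) hx'U) hgU
  have hyr : ((g⁻¹ * x' * g : GL (Fin n) F) : Matrix (Fin n) (Fin n) F) ^ r = 1 := by
    have := conj_pow_val x' g r 1 (by rw [hx'v, hxr, one_smul])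
    rwa [one_smul] at this
  have hk := Cfsg.Agent.Helper28.BGS.kdim_conj x' g (X - C c)
  rw [hx'v] at hk
  have hc0 : c ≠ 0 := by
    rintro rfl
    rw [zero_mul] at hc
    exact zero_ne_one hc
  rcases stab_cases D _ hy with ⟨h0, h1⟩ | ⟨h0, h1⟩
  · have h2 := even_kdim_of_fix φ (D 0) (D 1) hφφ hyU c hc r hrF
      (by rw [_root_.smul_pow, hyr, inv_pow, hcr, inv_one, one_smul]) hU hW hdec h0 h1
    rw [hk] at h2
    exact (Nat.not_even_iff_odd.2 hodd) h2
  · exact not_swap_of_pow (D 0) (D 1) hr hyr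
      (fun x hx hx' => Cfsg.Agent.Helper28.SuTsPair.inter_zero φ (D 0) (D 1) hU hW hdec hx hx')
      hf0 h0 h1

/-- elements whose square is a scalar with an eigenspace of dimension one have no conjugate in the
stabiliser -/
theorem not_allConj_two (hF : Fintype.card F = q ^ 2) (hφ : ∀ x, φ x = x ^ q)
    (h2 : (2 : F) ≠ 0)
    (hU : ∀ u ∈ D 0, ∀ v ∈ D 0, hdot φ u v = 0) (hW : ∀ u ∈ D 1, ∀ v ∈ D 1, hdot φ u v = 0)
    (hdec : ∀ v : Fin n → F, ∃ u ∈ D 0, ∃ w ∈ D 1, v = u + w)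
    (hf0 : 2 ≤ finrank F (D 0))
    (x : Matrix (Fin n) (Fin n) F) (hxU : IsU φ x) (hdet : x.det = 1) (μ : F)
    (hμ : μ * φ μ = 1) (hx2 : x * x = (μ * μ) • (1 : Matrix (Fin n) (Fin n) F))
    (hxns : ∀ z : F, x ≠ z • (1 : Matrix (Fin n) (Fin n) F))
    (hk1 : kdim (Matrix.toLin' x) (X - C (-μ)) = 1)
    (hall : AllConj q 2 D) : False := by
  have hφφ := frob_frob hF φ hφ
  set x' : GL (Fin n) F := (hxU.toUG φ : GL (Fin n) F) with hx'
  have hx'v : (x' : Matrix (Fin n) (Fin n) F) = x := rfl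
  have hx'U : x' ∈ UG (Fin n) φ := (hxU.toUG φ).2
  have hxG : x' ∈ Cfsg.GU n F q ⊓ Cfsg.Geo.specialLinear (Fin n) F := by
    refine Subgroup.mem_inf.2 ⟨?_, ?_⟩
    · rw [GU_eq_UG φ hφ]
      exact hx'U
    · rw [mem_specialLinear_iff, hx'v, hdet]
  have hx'r : ((x' ^ 2 : GL (Fin n) F) : Matrix (Fin n) (Fin n) F) =
      (μ * μ) • (1 : Matrix (Fin n) (Fin n) F) := by
    rw [Units.val_pow_eq_pow_val, hx'v, pow_two, hx2]
  obtain ⟨g, hg, hy⟩ := hall x' hxG ⟨μ * μ, hx'r⟩ (by rw [hx'v]; exact hxns)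
  have hgU : g ∈ UG (Fin n) φ := by
    have := (Subgroup.mem_inf.1 hg).1
    rwa [GU_eq_UG φ hφ] at this
  have hyU : IsU φ ((g⁻¹ * x' * g : GL (Fin n) F) : Matrix (Fin n) (Fin n) F) := by
    rw [← mem_UG_iff]
    exact Subgroup.mul_mem _ (Subgroup.mul_mem _ (Subgroup.inv_mem _ hgU) hx'U) hgU
  have hy2 := conj_mul_self_val x' g (μ * μ) (by rw [hx'v, hx2])
  have hk := Cfsg.Agent.Helper28.BGS.kdim_conj x' g (X - C (-μ))
  rw [hx'v, hk1] at hk
  have hμ0 : μ ≠ 0 := by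
    rintro rfl
    rw [zero_mul] at hμ
    exact zero_ne_one hμ
  rcases stab_cases D _ hy with ⟨h0, h1⟩ | ⟨h0, h1⟩
  · have h3 := even_kdim_of_fix φ (D 0) (D 1) hφφ hyU (-μ)
      (by rw [map_neg, neg_mul_neg, hμ]) 2 (by exact_mod_cast h2)
      (by
        rw [_root_.smul_pow, pow_two, pow_two, hy2, smul_smul]
        have : (-μ)⁻¹ * (-μ)⁻¹ * (μ * μ) = 1 := by
          field_simp
        rw [this, one_smul]) hU hW hdec h0 h1
    rw [hk] at h3
    exact absurd h3 (by decide)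
  · have h3 := kdim_of_swap φ (D 0) (D 1) hμ0 hy2 hU hW hdec h0 h1
    rw [hk] at h3
    omega

/-- a diagonal matrix whose square is a scalar, with an eigenspace of dimension one -/
theorem not_allConj_two_of_pow (hF : Fintype.card F = q ^ 2) (hφ : ∀ x, φ x = x ^ q)
    (h2 : (2 : F) ≠ 0) (hn : 2 ≤ n)
    (hU : ∀ u ∈ D 0, ∀ v ∈ D 0, hdot φ u v = 0) (hW : ∀ u ∈ D 1, ∀ v ∈ D 1, hdot φ u v = 0)
    (hdec : ∀ v : Fin n → F, ∃ u ∈ D 0, ∃ w ∈ D 1, v = u + w)
    (hf0 : 2 ≤ finrank F (D 0)) (μ : F) (hμ : μ ^ (q + 1) = 1) (hμn : μ ^ n = -1)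
    (hall : AllConj q 2 D) : False := by
  have hμφ : μ * φ μ = 1 := by rw [hφ, ← pow_succ', hμ]
  have hμ0 : μ ≠ 0 := by
    rintro rfl
    rw [zero_mul] at hμφ
    exact zero_ne_one hμφ
  set i0 : Fin n := ⟨0, by omega⟩ with hi0
  set i1 : Fin n := ⟨1, by omega⟩ with hi1
  have hi01 : i1 ≠ i0 := by
    intro h
    have := congrArg Fin.val h
    simp [hi0, hi1] at this
  set d : Fin n → F := fun i => μ * (if i = i0 then -1 else 1) with hd
  have hd0 : d i0 = -μ := by simp [hd]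
  have hdne : ∀ i, i ≠ i0 → d i = μ := by
    intro i hi
    simp [hd, hi]
  have hnegμ : -μ ≠ μ := by
    intro h
    have h3 : (2 : F) * μ = 0 := by linear_combination -h
    rcases mul_eq_zero.1 h3 with h4 | h4
    · exact h2 h4
    · exact hμ0 h4
  have hdU : ∀ i, d i * φ (d i) = 1 := by
    intro i
    by_cases hi : i = i0
    · rw [hi, hd0, map_neg, neg_mul_neg, hμφ]
    · rw [hdne i hi, hμφ]
  have hdd : ∀ i, d i * d i = μ * μ := by
    intro i
    by_cases hi : i = i0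
    · rw [hi, hd0, neg_mul_neg]
    · rw [hdne i hi]
  refine not_allConj_two φ D hF hφ h2 hU hW hdec hf0 (Matrix.diagonal d) (isU_diagonal φ d hdU)
    ?_ μ hμφ ?_ ?_ ?_ hall
  · rw [Matrix.det_diagonal, hd, Finset.prod_mul_distrib, Finset.prod_const, Finset.card_univ,
      Fintype.card_fin, hμn, Finset.prod_ite_eq' Finset.univ i0 (fun _ => (-1 : F))]
    simp
  · rw [Matrix.diagonal_mul_diagonal, ← Matrix.diagonal_one, ← Matrix.diagonal_smul]
    congr 1
    funext i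
    rw [hdd i, Pi.smul_apply, smul_eq_mul, mul_one]
  · intro z hz
    have h3 := congrFun (congrFun hz i0) i0
    have h4 := congrFun (congrFun hz i1) i1
    rw [Matrix.diagonal_apply_eq, Matrix.smul_apply, Matrix.one_apply_eq, smul_eq_mul,
      mul_one] at h3 h4
    rw [hd0] at h3
    rw [hdne i1 hi01] at h4
    exact hnegμ (h3.trans h4.symm)
  · rw [kdim_X_sub_C, finrank_ker_diagonal]
    have : Nat.card {j // d j = -μ} = Nat.card {j : Fin n // j = i0} := by
      apply Nat.card_congr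
      apply Equiv.subtypeEquivRight
      intro j
      constructor
      · intro h
        by_contra hj
        rw [hdne j hj] at h
        exact hnegμ h.symm
      · rintro rfl
        exact hd0
    rw [this, Nat.card_eq_fintype_card, Fintype.card_subtype_eq]

end witness

end Cfsg.Agent.Helper28.BGP
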