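import Mathlib
import Cfsg.Agent.Lib.Helper28.BGP9
import Cfsg.Agent.Lib.Helper13.UnitaryPrime

/-!
# Semisimple elements of odd prime order of the special unitary group with no conjugate in the
stabiliser of a pair of complementary totally singular subspaces (helper28)
-/

set_option autoImplicit false
set_option linter.style.haveILetI false
set_option linter.unusedSectionVars false
set_option linter.unusedVariables false

namespace Cfsg.Agent.Helper28.BGP

open Matrix Module Polynomial Cfsg.Agent.Helper11.Herm Cfsg.Agent.Helper13.SS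
  Cfsg.Agent.Helper28.BGS Cfsg.Agent.Helper28.BGU Cfsg.Agent.Helper13.Uni
  Cfsg.Agent.Helper13.SympSS Cfsg.Agent.Helper13.HermSS

section witness

variable {F : Type*} [Field F] [Fintype F] {n : ℕ} {q : ℕ} (φ : F →+* F)
  (D : Fin 2 → Submodule F (Fin n → F))

/-- the case where the prime divides `q + 1` -/
theorem not_allConj_of_dvd_succ (hF : Fintype.card F = q ^ 2) (hφ : ∀ x, φ x = x ^ q)
    (hn : 3 ≤ n) (r : ℕ) (hr : r.Prime) (hr2 : r ≠ 2) (hrF : (r : F) ≠ 0) (hrq : r ∣ q + 1)
    (hU : ∀ u ∈ D 0, ∀ v ∈ D 0, hdot φ u v = 0) (hW : ∀ u ∈ D 1, ∀ v ∈ D 1, hdot φ u v = 0)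
    (hdec : ∀ v : Fin n → F, ∃ u ∈ D 0, ∃ w ∈ D 1, v = u + w)
    (hf0 : 0 < finrank F (D 0)) (hall : AllConj q r D) : False := by
  have hrodd : Odd r := hr.odd_of_ne_two hr2
  obtain ⟨γ, hγ⟩ := exists_orderOf_eq hF
  set l' : Fˣ := γ ^ (orderOf γ / r) with hl'
  have hl'ord : orderOf l' = r :=
    orderOf_pow_orderOf_div (by rw [hγ]; omega) (by rw [hγ]; exact hrq)
  set l : F := (l' : F) with hl
  have hlr : l ^ r = 1 := by
    rw [hl, ← Units.val_pow_eq_pow_val, ← hl'ord, pow_orderOf_eq_one, Units.val_one]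
  have hlq : l ^ (q + 1) = 1 := by
    obtain ⟨t, ht⟩ := hrq
    rw [ht, pow_mul, hlr, one_pow]
  have hl0 : l ≠ 0 := l'.ne_zero
  have hl1 : l ≠ 1 := by
    intro h
    have h1 : l' = 1 := Units.ext h
    rw [h1, orderOf_one] at hl'ord
    exact hr.one_lt.ne hl'ord
  have hll : l⁻¹ ≠ l := by
    intro h
    have h1 : l' ^ 2 = 1 := by
      apply Units.ext
      rw [Units.val_pow_eq_pow_val, Units.val_one, pow_two]
      show l * l = 1
      nth_rewrite 1 [← h]
      exact inv_mul_cancel₀ hl0
    have h2 := orderOf_dvd_of_pow_eq_one h1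
    rw [hl'ord] at h2
    have := (Nat.prime_dvd_prime_iff_eq hr Nat.prime_two).1 h2
    exact hr2 this
  have hlφ : l * φ l = 1 := by rw [hφ, ← pow_succ', hlq]
  have hlφ' : l⁻¹ * φ l⁻¹ = 1 := by
    rw [map_inv₀, ← mul_inv, hlφ, inv_one]
  set i0 : Fin n := ⟨0, by omega⟩ with hi0
  set i1 : Fin n := ⟨1, by omega⟩ with hi1
  set i2 : Fin n := ⟨2, by omega⟩ with hi2
  have hi10 : i1 ≠ i0 := by
    intro h
    have := congrArg Fin.val h
    simp [hi0, hi1] at this
  have hi20 : i2 ≠ i0 := by
    intro h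
    have := congrArg Fin.val h
    simp [hi0, hi2] at this
  have hi21 : i2 ≠ i1 := by
    intro h
    have := congrArg Fin.val h
    simp [hi1, hi2] at this
  set d : Fin n → F := fun i => (if i = i0 then l else 1) * (if i = i1 then l⁻¹ else 1) with hd
  have hd0 : d i0 = l := by simp [hd, hi10.symm]
  have hd1 : d i1 = l⁻¹ := by simp [hd, hi10]
  have hdne : ∀ i, i ≠ i0 → i ≠ i1 → d i = 1 := by
    intro i h0 h1
    simp [hd, h0, h1]
  have hdU : ∀ i, d i * φ (d i) = 1 := by
    intro i
    by_cases h0 : i = i0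
    · rw [h0, hd0, hlφ]
    · by_cases h1 : i = i1
      · rw [h1, hd1, hlφ']
      · rw [hdne i h0 h1, map_one, mul_one]
  have hdr : ∀ i, d i ^ r = 1 := by
    intro i
    by_cases h0 : i = i0
    · rw [h0, hd0, hlr]
    · by_cases h1 : i = i1
      · rw [h1, hd1, inv_pow, hlr, inv_one]
      · rw [hdne i h0 h1, one_pow]
  refine not_allConj_of_odd_kdim φ D hF hφ r hrodd hrF hU hW hdec hf0 (Matrix.diagonal d)
    (isU_diagonal φ d hdU) ?_ ?_ ?_ l hlφ hlr ?_ hall
  · rw [Matrix.det_diagonal, hd, Finset.prod_mul_distrib,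
      Finset.prod_ite_eq' Finset.univ i0 (fun _ => l),
      Finset.prod_ite_eq' Finset.univ i1 (fun _ => l⁻¹)]
    simp [hl0]
  · rw [Matrix.diagonal_pow, ← Matrix.diagonal_one]
    congr 1
    funext i
    exact hdr i
  · intro z hz
    have h3 := congrFun (congrFun hz i0) i0
    have h4 := congrFun (congrFun hz i2) i2
    rw [Matrix.diagonal_apply_eq, Matrix.smul_apply, Matrix.one_apply_eq, smul_eq_mul,
      mul_one] at h3 h4
    rw [hd0] at h3
    rw [hdne i2 hi20 hi21] at h4
    exact hl1 (h3.trans h4.symm)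
  · rw [kdim_X_sub_C, finrank_ker_diagonal]
    have : Nat.card {j // d j = l} = Nat.card {j : Fin n // j = i0} := by
      apply Nat.card_congr
      apply Equiv.subtypeEquivRight
      intro j
      constructor
      · intro h
        by_contra hj
        by_cases hj1 : j = i1
        · rw [hj1, hd1] at h
          exact hll h
        · rw [hdne j hj hj1] at h
          exact hl1 h.symm
      · rintro rfl
        exact hd0
    rw [this, Nat.card_eq_fintype_card, Fintype.card_subtype_eq]
    exact odd_one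

end witness

end Cfsg.Agent.Helper28.BGP
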