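import Mathlib
import Cfsg.Agent.Lib.Helper28.BGP10

/-!
# Semisimple elements of odd prime order not dividing `q + 1` with no conjugate in the
stabiliser of a pair of complementary totally singular subspaces (helper28)
-/

set_option autoImplicit false
set_option linter.style.haveILetI false
set_option linter.unusedSectionVars false
set_option linter.unusedVariables false

namespace Cfsg.Agent.Helper28.BGP

open Matrix Module Polynomial Cfsg.Agent.Helper11.Herm Cfsg.Agent.Helper13.SS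
  Cfsg.Agent.Helper28.BGS Cfsg.Agent.Helper28.BGU Cfsg.Agent.Helper13.Uni
  Cfsg.Agent.Helper13.SympSS Cfsg.Agent.Helper13.HermSS

open scoped Classical

section witness

variable {F : Type*} [Field F] [Fintype F] {n : ℕ} {q : ℕ} (φ : F →+* F)
  (D : Fin 2 → Submodule F (Fin n → F))

/-- a unitary matrix of order `r` whose fixed space has dimension `n - b` -/
theorem exists_unitary_kdim {p : ℕ} [Fact p.Prime] [CharP F p] (hF : Fintype.card F = q ^ 2)
    (hφ : ∀ x, φ x = x ^ q) (r : ℕ) (hr : r.Prime) (hr2 : r ≠ 2) (hrp : r ≠ p)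
    (hi4 : orderOf (q : ZMod r) % 4 = 2) (hb : orderOf (q : ZMod r) / 2 ≤ n) :
    ∃ g : Matrix (Fin n) (Fin n) F, IsU φ g ∧ g ^ r = 1 ∧
      kdim (Matrix.toLin' g) (X - C 1) = n - orderOf (q : ZMod r) / 2 := by
  haveI : Fact r.Prime := ⟨hr⟩
  letI := ZMod.algebra F p
  obtain ⟨σ, hσ, hσ2, hσ1⟩ := exists_frobAlg hF p
  have hσ2' : ∀ x, (σ : F →+* F) ((σ : F →+* F) x) = x := hσ2
  haveI : FiniteDimensional (ZMod p) F := Module.Finite.of_finite
  set i := orderOf (q : ZMod r) with hi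
  set b := i / 2 with hbdef
  have hord : orderOf (((q ^ 2 : ℕ) : ZMod r)) = b := by
    rw [Nat.cast_pow, orderOf_pow' _ (two_ne_zero), ← hi]
    have hev : 2 ∣ i := by omega
    have : Nat.gcd i 2 = 2 := Nat.gcd_eq_right hev
    rw [this]
  have hbdeg : ∀ f ∈ cycFactors F r, f.natDegree = b := by
    intro f hf
    rw [cycFactors_natDegree hF hr hrp hf, hord]
  have hb0 : 0 < b := by omega
  have hcard : 0 < (cycFactors F r).card := by
    have h1 := cycFactors_card hF hr hrp
    rw [hord] at h1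
    have h2 : 0 < r - 1 := by have := hr.two_le; omega
    rcases Nat.eq_zero_or_pos (cycFactors F r).card with h | h
    · rw [h, zero_mul] at h1
      omega
    · exact h
  obtain ⟨f₀, hf₀⟩ := Finset.card_pos.1 hcard
  set a₀ : ↥(cycFactors F r) := ⟨f₀, hf₀⟩ with ha₀
  have hstar : ∀ a, starU (K := F) hσ2 hr hr2 hrp a = a := by
    intro a
    apply Subtype.ext
    exact cdual_eq_self_of_mod4 hF hσ hσ2' hr hrp hi4 a.2
  set k₀ : ↥(cycFactors F r) → ℕ := fun a => if a = a₀ then 1 else 0 with hk₀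
  have hsum : ∑ a, k₀ a = 1 := by
    rw [hk₀, Finset.sum_ite_eq' Finset.univ a₀ (fun _ => 1)]
    simp
  have hk : ∀ a, k₀ (starU hσ2 hr hr2 hrp a) = k₀ a := by
    intro a
    rw [hstar a]
  have hbn : b * ∑ a, k₀ a ≤ n := by
    rw [hsum, mul_one]
    exact hb
  obtain ⟨g, hg1, hg2, hg3⟩ :=
    (ureal_uprimePoly (n := n) hσ2 hσ1 hr hr2 hrp b k₀ hk (Or.inl hstar)).exists_matrix σ hσ hσ2
      hσ1 n (natDegree_uprimePoly b hbdeg k₀ hbn)
  refine ⟨g, ?_, hg2, ?_⟩
  · rw [isU_iff_preserves]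
    intro u v
    have := hg1 u v
    rwa [hermForm_eq_hdot φ hφ, hermForm_eq_hdot φ hφ] at this
  · set A : Module.End F (Fin n → F) := Matrix.toLin' g with hA
    have hAr : A ^ r = 1 := by
      rw [hA, ← Matrix.toLin'_pow, hg2, Matrix.toLin'_one]
      rfl
    set S := insert (X - 1 : F[X]) (cycFactors F r) with hS
    have hkill : aeval A (∏ f ∈ S, f) = 0 := by
      rw [hS, X_sub_one_mul_prod hr hrp, map_sub, map_pow, aeval_X, map_one, hAr, sub_self]
    have hirr : ∀ f ∈ S, Irreducible f := fun f hf => insert_irreducible hf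
    have e1 : (X - 1 : F[X]) = X - C 1 := by rw [map_one]
    have hmon : ∀ f ∈ S, f.Monic := by
      intro f hf
      rcases Finset.mem_insert.1 hf with rfl | hf
      · rw [e1]
        exact monic_X_sub_C 1
      · exact cycFactors_monic hf
    have hcop := insert_pairwise_coprime (F := F) hr hrp
    have hch : A.charpoly = g.charpoly := Matrix.charpoly_toLin' g
    have h1 := charpoly_eq_prod S hirr hmon A hkill
    rw [hch, hg3, uprimePoly_eq_prod hr hrp] at h1
    have h2 := exponents_unique S hirr hcop _ _ h1 (X - 1) (Finset.mem_insert_self _ _)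
    unfold uexpo at h2
    rw [if_pos rfl, hsum, mul_one, e1, natDegree_X_sub_C, Nat.div_one] at h2
    exact h2.symm

/-- the case where the prime does not divide `q + 1` -/
theorem not_allConj_of_mod4 {p : ℕ} [Fact p.Prime] [CharP F p] (hF : Fintype.card F = q ^ 2)
    (hφ : ∀ x, φ x = x ^ q) (hne : Even n) (r : ℕ) (hr : r.Prime) (hr2 : r ≠ 2) (hrp : r ≠ p)
    (hrq : ¬ r ∣ q + 1)
    (hi4 : orderOf (q : ZMod r) % 4 = 2) (hb : orderOf (q : ZMod r) / 2 < n)
    (hU : ∀ u ∈ D 0, ∀ v ∈ D 0, hdot φ u v = 0) (hW : ∀ u ∈ D 1, ∀ v ∈ D 1, hdot φ u v = 0)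
    (hdec : ∀ v : Fin n → F, ∃ u ∈ D 0, ∃ w ∈ D 1, v = u + w)
    (hf0 : 0 < finrank F (D 0)) (hall : AllConj q r D) : False := by
  have hrodd : Odd r := hr.odd_of_ne_two hr2
  have hrF : (r : F) ≠ 0 := cast_ne_zero_of_prime_ne hr hrp
  obtain ⟨g, hgU, hgr, hgk⟩ := exists_unitary_kdim φ hF hφ r hr hr2 hrp hi4 hb.le
  set b := orderOf (q : ZMod r) / 2 with hbdef
  have hbodd : Odd b := by
    rw [Nat.odd_iff]
    omega
  have hkodd : Odd (n - b) := by
    obtain ⟨t, ht⟩ := hne
    obtain ⟨s, hs⟩ := hbodd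
    rw [Nat.odd_iff]
    omega
  have hdet : g.det = 1 := by
    have h1 : g.det ^ r = 1 := by rw [← Matrix.det_pow, hgr, Matrix.det_one]
    have h2 : g.det ^ (q + 1) = 1 := by
      have := hgU.det_norm φ
      rwa [hφ, ← pow_succ'] at this
    have h3 : g.det ^ (Nat.gcd r (q + 1)) = 1 := pow_gcd_eq_one.2 ⟨h1, h2⟩
    have h4 : Nat.gcd r (q + 1) = 1 := (Nat.Prime.coprime_iff_not_dvd hr).2 hrq
    rwa [h4, pow_one] at h3
  refine not_allConj_of_odd_kdim φ D hF hφ r hrodd hrF hU hW hdec hf0 g hgU hdet hgr ?_ 1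
    (by rw [map_one, mul_one]) (one_pow r) (by rw [hgk]; exact hkodd) hall
  intro z hz
  have h1 := kdim_scalar (V := Fin n → F) z (X - C (1 : F))
  have h2 : Matrix.toLin' g = z • (1 : Module.End F (Fin n → F)) := by
    rw [hz, map_smul, Matrix.toLin'_one]
    rfl
  rw [← h2, hgk, Module.finrank_fintype_fun_eq_card, Fintype.card_fin] at h1
  have hb0 : 0 < b := by omega
  omega

end witness

end Cfsg.Agent.Helper28.BGP
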