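import Mathlib
import Cfsg.Agent.Lib.Helper28.BGP11

/-!
# Necessity of the conditions: if every element of order `r` modulo scalars of the special unitary
group is conjugate into the stabiliser of a pair of complementary totally singular subspaces then
`r = 2`, `q` is odd and `(q + 1)_2 ≤ n_2` (helper28)
-/

set_option autoImplicit false
set_option linter.style.haveILetI false
set_option linter.unusedSectionVars false
set_option linter.unusedVariables false

namespace Cfsg.Agent.Helper28.BGP

open Matrix Module Polynomial Cfsg.Agent.Helper11.Herm Cfsg.Agent.Helper13.SS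
  Cfsg.Agent.Helper28.BGS Cfsg.Agent.Helper28.BGU

section necessity

variable {F : Type*} [Field F] [Fintype F] {n : ℕ} {q : ℕ} (φ : F →+* F)
  (D : Fin 2 → Submodule F (Fin n → F))

theorem order_arith (i k : ℕ) (hk : Odd k) (h1 : i ∣ 2 * k) (h2 : ¬ i ∣ k) :
    i % 4 = 2 ∧ i / 2 ≤ k := by
  have hk0 : 0 < k := hk.pos
  rcases Nat.even_or_odd i with hi | hi
  · obtain ⟨j, hj⟩ := hi
    have hj2 : i = 2 * j := by omega
    rw [hj2] at h1
    have h3 : j ∣ k := Nat.dvd_of_mul_dvd_mul_left (by omega) h1
    have h4 : Odd j := hk.of_dvd_nat h3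
    have h5 := Nat.le_of_dvd hk0 h3
    obtain ⟨s, hs⟩ := h4
    constructor <;> omega
  · exfalso
    apply h2
    have hc : Nat.Coprime i 2 := Nat.coprime_two_right.2 hi
    exact hc.dvd_of_dvd_mul_left h1

theorem necessity {p : ℕ} [Fact p.Prime] [CharP F p] (hF : Fintype.card F = q ^ 2)
    (hφ : ∀ x, φ x = x ^ q) {m : ℕ} (hn : n = 2 * m) (hm : 2 ≤ m)
    (hU : ∀ u ∈ D 0, ∀ v ∈ D 0, hdot φ u v = 0) (hW : ∀ u ∈ D 1, ∀ v ∈ D 1, hdot φ u v = 0)
    (hdec : ∀ v : Fin n → F, ∃ u ∈ D 0, ∃ w ∈ D 1, v = u + w)
    (hf0 : finrank F (D 0) = m) (hf1 : finrank F (D 1) = m) (r : ℕ) (hr : r.Prime)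
    (hΩ : r ∣ (Cfsg.Geo.decompositionStabilizer D).relIndex
      (Cfsg.GU n F q ⊓ Cfsg.Geo.specialLinear (Fin n) F))
    (hall : AllConj q r D) :
    r = 2 ∧ Odd q ∧ padicValNat 2 (q + 1) ≤ padicValNat 2 n := by
  have hp : p.Prime := Fact.out
  have hq2 := two_le_q hF
  have hpq : p ∣ q := by
    have h1 : ((Fintype.card F : ℕ) : F) = 0 := Nat.cast_card_eq_zero F
    rw [CharP.cast_eq_zero_iff F p, hF] at h1
    exact hp.dvd_of_dvd_pow h1
  have hrq_p : r ∣ q → r = p := by
    intro h
    obtain ⟨k, -, hk⟩ := FiniteField.card F p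
    have h1 : r ∣ p ^ (k : ℕ) := by
      rw [← hk, hF]
      exact Dvd.dvd.pow h two_ne_zero
    exact (Nat.prime_dvd_prime_iff_eq hr hp).1 (hr.dvd_of_dvd_pow h1)
  have hfpos : 0 < finrank F (D 0) := by omega
  by_cases hrq : r ∣ q
  · exfalso
    have hrp := hrq_p hrq
    have hrF : (r : F) = 0 := by
      rw [hrp]
      exact CharP.cast_eq_zero F p
    exact not_allConj_of_dvd φ D hF hφ (by omega) r hrF hU hW hdec (by omega) hall
  · have hrp : r ≠ p := by
      intro h
      exact hrq (h ▸ hpq)
    rcases prime_dvd_relIndex_pair hF φ hφ hn (by omega) D hU hW hdec hf0 hf1 r hr hΩ with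
      h | ⟨k, hk1, hk2, hk3⟩
    · exact absurd h hrq
    · by_cases hr2 : r = 2
      · subst hr2
        have hqodd : Odd q := by
          rcases Nat.even_or_odd q with he | ho
          · exfalso
            have h1 : Even (q ^ k) := he.pow_of_ne_zero hk1.pos.ne'
            have h2 : Odd (q ^ k + 1) := h1.add_one
            exact (Nat.not_even_iff_odd.2 h2) (even_iff_two_dvd.2 hk3)
          · exact ho
        refine ⟨rfl, hqodd, ?_⟩
        by_contra hv
        have h2 : (2 : F) ≠ 0 := by
          intro h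
          have h1 : ((Fintype.card F : ℕ) : F) = 0 := Nat.cast_card_eq_zero F
          have h3 : Odd (Fintype.card F) := by
            rw [hF]
            exact hqodd.pow
          obtain ⟨t, ht⟩ := h3
          rw [ht] at h1
          push_cast at h1
          rw [h, zero_mul, zero_add] at h1
          exact one_ne_zero h1
        obtain ⟨μ, hμ1, hμ2⟩ := exists_pow_eq_neg_one hF (by omega : n ≠ 0) hv
        exact not_allConj_two_of_pow φ D hF hφ h2 (by omega) hU hW hdec (by omega) μ hμ1 hμ2
          hall
      · exfalso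
        by_cases hrq1 : r ∣ q + 1
        · exact not_allConj_of_dvd_succ φ D hF hφ (by omega) r hr hr2
            (Cfsg.Agent.Helper13.SS.cast_ne_zero_of_prime_ne hr hrp) hrq1 hU hW hdec hfpos hall
        · haveI : Fact r.Prime := ⟨hr⟩
          have h1 : (q : ZMod r) ^ k = -1 := by
            have h2 : ((q ^ k + 1 : ℕ) : ZMod r) = 0 := (ZMod.natCast_eq_zero_iff _ _).2 hk3
            push_cast at h2
            exact eq_neg_of_add_eq_zero_left h2
          have h3 : orderOf (q : ZMod r) ∣ 2 * k := by
            apply orderOf_dvd_of_pow_eq_one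
            rw [mul_comm, pow_mul, h1, neg_one_sq]
          have h4 : ¬ orderOf (q : ZMod r) ∣ k := by
            intro h
            have h5 := orderOf_dvd_iff_pow_eq_one.1 h
            rw [h1] at h5
            have h6 : ((2 : ℕ) : ZMod r) = 0 := by
              push_cast
              have : (2 : ZMod r) = 1 - (-1) := by ring
              rw [this, h5, sub_self]
            rw [ZMod.natCast_eq_zero_iff] at h6
            exact hr2 ((Nat.prime_dvd_prime_iff_eq hr Nat.prime_two).1 h6)
          obtain ⟨h7, h8⟩ := order_arith _ k hk1 h3 h4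
          exact not_allConj_of_mod4 φ D hF hφ ⟨m, by omega⟩ r hr hr2 hrp hrq1 h7 (by omega) hU hW
            hdec hfpos hall

end necessity

end Cfsg.Agent.Helper28.BGP
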