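import Mathlib
import Cfsg.Agent.Lib.Helper28.BGP12

/-!
# Elements of the special unitary group preserving a pair of complementary totally singular
subspaces are conjugate into the stabiliser of any other such pair (helper28)
-/

set_option autoImplicit false
set_option linter.style.haveILetI false
set_option linter.unusedSectionVars false
set_option linter.unusedVariables false

namespace Cfsg.Agent.Helper28.BGP

open Matrix Module Cfsg.Agent.Helper11.Herm Cfsg.Agent.Helper28.SuTsPair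
  Cfsg.Agent.Helper28.BGU

section pair

variable {F : Type*} [Field F] [Fintype F] {n : ℕ} {q : ℕ} (φ : F →+* F)

/-- the dimensions of a pair of complementary totally singular subspaces -/
theorem finrank_ts_pair (hφφ : ∀ x, φ (φ x) = x) {m : ℕ} (hn : n = 2 * m)
    (U W : Submodule F (Fin n → F))
    (hU : ∀ u ∈ U, ∀ v ∈ U, hdot φ u v = 0) (hW : ∀ u ∈ W, ∀ v ∈ W, hdot φ u v = 0)
    (hdec : ∀ v : Fin n → F, ∃ u ∈ U, ∃ w ∈ W, v = u + w) :
    finrank F U = m ∧ finrank F W = m := by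
  have h1 : finrank F U ≤ finrank F W := by
    apply finrank_le_of_pairing φ hφφ
    intro p hp hq
    apply eq_zero_of_hdot_right φ
    intro v
    obtain ⟨u, hu, w, hw, rfl⟩ := hdec v
    rw [hdot_add_right, hU p hp u hu, hq w hw, add_zero]
  have h2 : finrank F W ≤ finrank F U := by
    apply finrank_le_of_pairing φ hφφ
    intro p hp hq
    apply eq_zero_of_hdot_right φ
    intro v
    obtain ⟨u, hu, w, hw, rfl⟩ := hdec v
    rw [hdot_add_right, hW p hp w hw, hq u hu, add_zero]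
  have h3 : U ⊔ W = ⊤ := by
    rw [eq_top_iff]
    intro v _
    obtain ⟨u, hu, w, hw, rfl⟩ := hdec v
    exact Submodule.add_mem_sup hu hw
  have h4 : U ⊓ W = ⊥ := by
    rw [eq_bot_iff]
    intro v hv
    obtain ⟨hv1, hv2⟩ := Submodule.mem_inf.1 hv
    rw [Submodule.mem_bot]
    exact inter_zero φ U W hU hW hdec hv1 hv2
  have h5 := Submodule.finrank_sup_add_finrank_inf_eq U W
  rw [h3, h4, finrank_top, finrank_bot, Module.finrank_fintype_fun_eq_card, Fintype.card_fin,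
    add_zero] at h5
  constructor <;> omega

theorem conj_fix_of_maps (G x : GL (Fin n) F) (U U' : Submodule F (Fin n → F))
    (h1 : ∀ u ∈ U, (G : Matrix (Fin n) (Fin n) F) *ᵥ u ∈ U')
    (h2 : ∀ u ∈ U', (x : Matrix (Fin n) (Fin n) F) *ᵥ u ∈ U')
    (h3 : ∀ u ∈ U', ((G⁻¹ : GL (Fin n) F) : Matrix (Fin n) (Fin n) F) *ᵥ u ∈ U) :
    ∀ u ∈ U, ((G⁻¹ * x * G : GL (Fin n) F) : Matrix (Fin n) (Fin n) F) *ᵥ u ∈ U := by
  intro u hu
  rw [Units.val_mul, Units.val_mul, ← Matrix.mulVec_mulVec, ← Matrix.mulVec_mulVec]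
  exact h3 _ (h2 _ (h1 u hu))

/-- an element of the special unitary group preserving a pair of complementary totally singular
subspaces is conjugate into the stabiliser of a given pair -/
theorem conj_of_pair (hF : Fintype.card F = q ^ 2) (hφ : ∀ x, φ x = x ^ q) {m : ℕ}
    (hn : n = 2 * m) (hm : 1 ≤ m) (D : Fin 2 → Submodule F (Fin n → F))
    (hU : ∀ u ∈ D 0, ∀ v ∈ D 0, hdot φ u v = 0) (hW : ∀ u ∈ D 1, ∀ v ∈ D 1, hdot φ u v = 0)
    (hdec : ∀ v : Fin n → F, ∃ u ∈ D 0, ∃ w ∈ D 1, v = u + w)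
    (U' W' : Submodule F (Fin n → F))
    (hU' : ∀ u ∈ U', ∀ v ∈ U', hdot φ u v = 0) (hW' : ∀ u ∈ W', ∀ v ∈ W', hdot φ u v = 0)
    (hdec' : ∀ v : Fin n → F, ∃ u ∈ U', ∃ w ∈ W', v = u + w)
    (x : GL (Fin n) F)
    (hxU : ∀ u ∈ U', (x : Matrix (Fin n) (Fin n) F) *ᵥ u ∈ U')
    (hxW : ∀ w ∈ W', (x : Matrix (Fin n) (Fin n) F) *ᵥ w ∈ W') :
    ∃ g ∈ Cfsg.GU n F q ⊓ Cfsg.Geo.specialLinear (Fin n) F,
      g⁻¹ * x * g ∈ Cfsg.Geo.decompositionStabilizer D := by
  have hφφ := frob_frob hF φ hφ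
  obtain ⟨hf0, hf1⟩ := finrank_ts_pair φ hφφ hn (D 0) (D 1) hU hW hdec
  obtain ⟨hf0', hf1'⟩ := finrank_ts_pair φ hφφ hn U' W' hU' hW' hdec'
  obtain ⟨b, hb, hb0, hb1⟩ := exists_frame hφφ (D 0) (D 1) hU hW hdec hf0 hf1
  obtain ⟨b', hb', hb0', hb1'⟩ := exists_frame hφφ U' W' hU' hW' hdec' hf0' hf1'
  obtain ⟨g₀, hg₀U, hg₀⟩ := exists_unitary_of_frames hφφ hb hb'
  have hg₀inv : ∀ k, ((g₀⁻¹ : GL (Fin n) F) : Matrix (Fin n) (Fin n) F) *ᵥ (b' k) = b k := by
    intro k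
    rw [← hg₀ k, Matrix.mulVec_mulVec, gl_inv_mul, Matrix.one_mulVec]
  -- the determinant
  set c : F := (g₀ : Matrix (Fin n) (Fin n) F).det with hc
  have hcn : c * φ c = 1 := ((mem_UG_iff φ g₀).1 hg₀U).det_norm φ
  have hc0 : c ≠ 0 := by
    rintro h
    rw [h, zero_mul] at hcn
    exact zero_ne_one hcn
  obtain ⟨a, ha0, ha⟩ := exists_div_frob hF c⁻¹ (by
    rw [← hφ, map_inv₀, ← mul_inv, hcn, inv_one])
  set i0 : Fin m := ⟨0, by omega⟩ with hi0
  set d : Fin m → F := fun i => if i = i0 then a else 1 with hd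
  have hdet : (Matrix.diagonal d).det = a := by
    rw [Matrix.det_diagonal, hd, Finset.prod_ite_eq' Finset.univ i0 (fun _ => a)]
    simp
  set A : GL (Fin m) F := Matrix.GeneralLinearGroup.mkOfDetNeZero (Matrix.diagonal d)
    (by rw [hdet]; exact ha0) with hA
  have hAdet : (A : Matrix (Fin m) (Fin m) F).det = a := hdet
  set P : GL (Fin n) F := Phi φ b A with hP
  have hPU : P ∈ UG (Fin n) φ := Phi_mem_UG hφφ hb A
  have hPdet : (P : Matrix (Fin n) (Fin n) F).det = c⁻¹ := by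
    rw [hP, det_Phi, hAdet, hφ, ha]
  have hPinv : P⁻¹ = Phi φ b A⁻¹ := by rw [hP, map_inv]
  set G : GL (Fin n) F := g₀ * P with hG
  have hGU : G ∈ UG (Fin n) φ := Subgroup.mul_mem _ hg₀U hPU
  have hGdet : (G : Matrix (Fin n) (Fin n) F).det = 1 := by
    rw [hG, Units.val_mul, Matrix.det_mul, hPdet, ← hc, mul_inv_cancel₀ hc0]
  have hs0 := span_left_eq b (D 0) hb0 hf0
  have hs1 := span_right_eq b (D 1) hb1 hf1
  have hs0' := span_left_eq b' U' hb0' hf0'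
  have hs1' := span_right_eq b' W' hb1' hf1'
  have hP0 : ∀ (B : GL (Fin m) F), ∀ u ∈ D 0,
      ((Phi φ b B : GL (Fin n) F) : Matrix (Fin n) (Fin n) F) *ᵥ u ∈ D 0 := by
    intro B
    apply maps_of_span (fun i : Fin m => b (Sum.inl i)) (D 0) (D 0) hs0
    intro j
    rw [Phi_mulVec_inl]
    exact (D 0).sum_mem (fun i _ => (D 0).smul_mem _ (hb0 i))
  have hP1 : ∀ (B : GL (Fin m) F), ∀ u ∈ D 1,
      ((Phi φ b B : GL (Fin n) F) : Matrix (Fin n) (Fin n) F) *ᵥ u ∈ D 1 := by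
    intro B
    apply maps_of_span (fun i : Fin m => b (Sum.inr i)) (D 1) (D 1) hs1
    intro j
    rw [Phi_mulVec_inr]
    exact (D 1).sum_mem (fun i _ => (D 1).smul_mem _ (hb1 i))
  have hg0 : ∀ u ∈ D 0, (g₀ : Matrix (Fin n) (Fin n) F) *ᵥ u ∈ U' := by
    apply maps_of_span (fun i : Fin m => b (Sum.inl i)) (D 0) U' hs0
    intro j
    rw [hg₀]
    exact hb0' j
  have hg1 : ∀ u ∈ D 1, (g₀ : Matrix (Fin n) (Fin n) F) *ᵥ u ∈ W' := by
    apply maps_of_span (fun i : Fin m => b (Sum.inr i)) (D 1) W' hs1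
    intro j
    rw [hg₀]
    exact hb1' j
  have hg0i : ∀ u ∈ U', ((g₀⁻¹ : GL (Fin n) F) : Matrix (Fin n) (Fin n) F) *ᵥ u ∈ D 0 := by
    apply maps_of_span (fun i : Fin m => b' (Sum.inl i)) U' (D 0) hs0'
    intro j
    rw [hg₀inv]
    exact hb0 j
  have hg1i : ∀ u ∈ W', ((g₀⁻¹ : GL (Fin n) F) : Matrix (Fin n) (Fin n) F) *ᵥ u ∈ D 1 := by
    apply maps_of_span (fun i : Fin m => b' (Sum.inr i)) W' (D 1) hs1'
    intro j
    rw [hg₀inv]
    exact hb1 j
  have hGinv : G⁻¹ = Phi φ b A⁻¹ * g₀⁻¹ := by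
    rw [hG, _root_.mul_inv_rev, hPinv]
  refine ⟨G, Subgroup.mem_inf.2 ⟨?_, ?_⟩, ?_⟩
  · rw [GU_eq_UG φ hφ]
    exact hGU
  · rw [mem_specialLinear_iff, hGdet]
  · apply mem_decomp_of_fix
    · intro u hu
      rw [Cfsg.Agent.Helper28.SuTsPair.smul_def]
      apply conj_fix_of_maps G x (D 0) U' _ hxU _ u hu
      · intro u hu
        rw [hG, Units.val_mul, ← Matrix.mulVec_mulVec]
        exact hg0 _ (hP0 A u hu)
      · intro u hu
        rw [hGinv, Units.val_mul, ← Matrix.mulVec_mulVec]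
        exact hP0 A⁻¹ _ (hg0i u hu)
    · intro u hu
      rw [Cfsg.Agent.Helper28.SuTsPair.smul_def]
      apply conj_fix_of_maps G x (D 1) W' _ hxW _ u hu
      · intro u hu
        rw [hG, Units.val_mul, ← Matrix.mulVec_mulVec]
        exact hg1 _ (hP1 A u hu)
      · intro u hu
        rw [hGinv, Units.val_mul, ← Matrix.mulVec_mulVec]
        exact hP1 A⁻¹ _ (hg1i u hu)

end pair

end Cfsg.Agent.Helper28.BGP
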