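import Mathlib
import Cfsg.Agent.Lib.Helper28.BGP13
import Cfsg.Agent.Lib.Helper11.UnitaryGeom

/-!
# Involutions and hyperbolic splittings of non-degenerate hermitian spaces of even dimension
(helper28)
-/

set_option autoImplicit false
set_option linter.style.haveILetI false
set_option linter.unusedSectionVars false
set_option linter.unusedVariables false

namespace Cfsg.Agent.Helper28.BGP

open Matrix Module Cfsg.Agent.Helper11.Herm

section det

variable {F : Type*} [Field F] {V : Type*} [AddCommGroup V] [Module F V] [FiniteDimensional F V]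

/-- the determinant of an involution -/
theorem det_of_involution (f : Module.End F V) (P M : Submodule F V) (hc : IsCompl P M)
    (hP : ∀ v ∈ P, f v = v) (hM : ∀ v ∈ M, f v = -v) :
    LinearMap.det f = (-1) ^ finrank F M := by
  set e : (P × M) ≃ₗ[F] V := Submodule.prodEquivOfIsCompl P M hc with he
  set g : Module.End F (P × M) :=
    LinearMap.prodMap (LinearMap.id : P →ₗ[F] P) ((-1 : F) • (LinearMap.id : M →ₗ[F] M)) with hg
  have h1 : f = (e : (P × M) →ₗ[F] V) ∘ₗ g ∘ₗ (e.symm : V →ₗ[F] (P × M)) := by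
    apply LinearMap.ext
    intro v
    obtain ⟨⟨a, b⟩, rfl⟩ := e.surjective v
    rw [LinearMap.comp_apply, LinearMap.comp_apply, LinearEquiv.coe_coe, LinearEquiv.coe_coe,
      LinearEquiv.symm_apply_apply, hg, LinearMap.prodMap_apply, he,
      Submodule.coe_prodEquivOfIsCompl', Submodule.coe_prodEquivOfIsCompl', map_add,
      hP _ a.2, hM _ b.2]
    simp
  rw [h1, LinearMap.det_conj, hg, LinearMap.det_prodMap, LinearMap.det_id, LinearMap.det_smul,
    LinearMap.det_id, one_mul, mul_one]

end det

section split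

variable {F : Type*} [Field F] [Fintype F] {n : ℕ} {q : ℕ} (φ : F →+* F)

theorem hdot_span_zero {ι κ : Type*} (f : ι → Fin n → F) (g : κ → Fin n → F)
    (h : ∀ i j, hdot φ (f i) (g j) = 0) :
    ∀ u ∈ Submodule.span F (Set.range f), ∀ v ∈ Submodule.span F (Set.range g),
      hdot φ u v = 0 := by
  intro u hu v hv
  induction hu using Submodule.span_induction with
  | mem y hy =>
    obtain ⟨i, rfl⟩ := hy
    induction hv using Submodule.span_induction with
    | mem z hz =>
      obtain ⟨j, rfl⟩ := hz
      exact h i j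
    | zero => rw [hdot_zero_right]
    | add y z _ _ hy hz => rw [hdot_add_right, hy, hz, add_zero]
    | smul c y _ hy => rw [hdot_smul_right, hy, mul_zero]
  | zero => rw [hdot_zero_left]
  | add y z _ _ hy hz => rw [hdot_add_left, hy, hz, add_zero]
  | smul c y _ hy => rw [hdot_smul_left, hy, mul_zero]

/-- a non-degenerate subspace of even dimension is the sum of two totally singular subspaces -/
theorem exists_ts_split (hF : Fintype.card F = q ^ 2) (hφ : ∀ x, φ x = x ^ q)
    (h2 : (2 : F) ≠ 0) (V₀ : Submodule F (Fin n → F))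
    (hV₀ : ∀ u ∈ V₀, (∀ v ∈ V₀, hdot φ u v = 0) → u = 0) (a : ℕ)
    (hk : finrank F V₀ = a * 2) :
    ∃ A B : Submodule F (Fin n → F), A ≤ V₀ ∧ B ≤ V₀ ∧
      (∀ u ∈ A, ∀ v ∈ A, hdot φ u v = 0) ∧ (∀ u ∈ B, ∀ v ∈ B, hdot φ u v = 0) ∧
      ∀ v ∈ V₀, ∃ u ∈ A, ∃ w ∈ B, v = u + w := by
  classical
  have hφφ := frob_frob hF φ hφ
  obtain ⟨β, hβ0, hβ⟩ := frob_norm_surj hF φ hφ (-1) (by simp) (by rw [map_neg, map_one])
  obtain ⟨c, hcV, hc⟩ := exists_orthonormal_sub φ hφφ (frob_norm_surj hF φ hφ)
    (frob_trace_ne_zero hF φ hφ) V₀ hV₀ (a * 2) hk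
  -- the orthonormal family spans
  have hli : LinearIndependent F c := by
    rw [linearIndependent_iff']
    intro s g hg i hi
    have h1 : hdot φ (∑ j ∈ s, g j • c j) (c i) = 0 := by rw [hg, hdot_zero_left]
    rw [hdot_sum_left] at h1
    simp only [hdot_smul_left, hc] at h1
    rw [Finset.sum_eq_single i] at h1
    · simpa using h1
    · intro j _ hji
      rw [if_neg hji, mul_zero]
    · intro h
      exact absurd hi h
  have hspan : Submodule.span F (Set.range c) = V₀ := by
    apply Submodule.eq_of_le_of_finrank_eq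
    · rw [Submodule.span_le]
      rintro _ ⟨i, rfl⟩
      exact hcV i
    · rw [finrank_span_eq_card hli, Fintype.card_fin, hk]
  set c' : Fin a × Fin 2 → Fin n → F := fun p => c (finProdFinEquiv p) with hc'
  have hc'o : ∀ p p', hdot φ (c' p) (c' p') = if p = p' then 1 else 0 := by
    intro p p'
    rw [hc', hc]
    by_cases h : p = p'
    · rw [if_pos h, if_pos (by rw [h])]
    · rw [if_neg h, if_neg (fun h' => h (finProdFinEquiv.injective h'))]
  set u : Fin a → Fin n → F := fun j => c' (j, 0) + β • c' (j, 1) with hu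
  set w : Fin a → Fin n → F := fun j => c' (j, 0) - β • c' (j, 1) with hw
  have h01 : ∀ j l : Fin a, ((j, 0) : Fin a × Fin 2) ≠ (l, 1) := by
    intro j l h
    have := congrArg Prod.snd h
    exact absurd this Fin.zero_ne_one
  have h10 : ∀ j l : Fin a, ((j, 1) : Fin a × Fin 2) ≠ (l, 0) := by
    intro j l h
    have := congrArg Prod.snd h
    exact absurd this.symm Fin.zero_ne_one
  have huu : ∀ j l, hdot φ (u j) (u l) = 0 := by
    intro j l
    simp only [hu, hdot_add_left, hdot_add_right, hdot_smul_left, hdot_smul_right, hc'o,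
      if_neg (h01 _ _), if_neg (h10 _ _)]
    by_cases hjl : j = l
    · subst hjl
      simp only [if_true]
      linear_combination hβ
    · have h1 : ((j, 0) : Fin a × Fin 2) ≠ (l, 0) := fun h => hjl (congrArg Prod.fst h)
      have h2 : ((j, 1) : Fin a × Fin 2) ≠ (l, 1) := fun h => hjl (congrArg Prod.fst h)
      rw [if_neg h1, if_neg h2]
      ring
  have hww : ∀ j l, hdot φ (w j) (w l) = 0 := by
    intro j l
    simp only [hw, sub_eq_add_neg, ← neg_smul, hdot_add_left, hdot_add_right, hdot_smul_left,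
      hdot_smul_right, hc'o, if_neg (h01 _ _), if_neg (h10 _ _)]
    by_cases hjl : j = l
    · subst hjl
      simp only [if_true]
      rw [map_neg]
      linear_combination hβ
    · have h1 : ((j, 0) : Fin a × Fin 2) ≠ (l, 0) := fun h => hjl (congrArg Prod.fst h)
      have h2 : ((j, 1) : Fin a × Fin 2) ≠ (l, 1) := fun h => hjl (congrArg Prod.fst h)
      rw [if_neg h1, if_neg h2]
      ring
  have huV : ∀ j, u j ∈ V₀ := fun j => V₀.add_mem (hcV _) (V₀.smul_mem _ (hcV _))
  have hwV : ∀ j, w j ∈ V₀ := fun j => V₀.sub_mem (hcV _) (V₀.smul_mem _ (hcV _))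
  refine ⟨Submodule.span F (Set.range u), Submodule.span F (Set.range w), ?_, ?_,
    hdot_span_zero φ u u huu, hdot_span_zero φ w w hww, ?_⟩
  · rw [Submodule.span_le]
    rintro _ ⟨j, rfl⟩
    exact huV j
  · rw [Submodule.span_le]
    rintro _ ⟨j, rfl⟩
    exact hwV j
  · have hle : V₀ ≤ Submodule.span F (Set.range u) ⊔ Submodule.span F (Set.range w) := by
      rw [← hspan, Submodule.span_le]
      rintro _ ⟨i, rfl⟩
      obtain ⟨⟨j, t⟩, rfl⟩ := finProdFinEquiv.surjective i
      have hu' : u j ∈ Submodule.span F (Set.range u) ⊔ Submodule.span F (Set.range w) :=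
        Submodule.mem_sup_left (Submodule.subset_span ⟨j, rfl⟩)
      have hw' : w j ∈ Submodule.span F (Set.range u) ⊔ Submodule.span F (Set.range w) :=
        Submodule.mem_sup_right (Submodule.subset_span ⟨j, rfl⟩)
      have ht : t = 0 ∨ t = 1 := by
        fin_cases t
        · left; rfl
        · right; rfl
      rcases ht with rfl | rfl
      · have h3 : c (finProdFinEquiv (j, 0)) = (2 : F)⁻¹ • (u j + w j) := by
          simp only [hu, hw, hc']
          rw [add_add_sub_cancel, ← two_smul F, smul_smul, inv_mul_cancel₀ h2, one_smul]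
        rw [SetLike.mem_coe, h3]
        exact Submodule.smul_mem _ _ (Submodule.add_mem _ hu' hw')
      · have h3 : c (finProdFinEquiv (j, 1)) = (2 * β)⁻¹ • (u j - w j) := by
          simp only [hu, hw, hc']
          rw [add_sub_sub_cancel, ← two_smul F, smul_smul, smul_smul, mul_assoc,
            inv_mul_cancel₀ (mul_ne_zero h2 hβ0), one_smul]
        rw [SetLike.mem_coe, h3]
        exact Submodule.smul_mem _ _ (Submodule.sub_mem _ hu' hw')
    intro v hv
    obtain ⟨y, hy, z, hz, hyz⟩ := Submodule.mem_sup.1 (hle hv)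
    exact ⟨y, hy, z, hz, hyz.symm⟩

end split

end Cfsg.Agent.Helper28.BGP
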