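import Mathlib
import Cfsg.Agent.Lib.Helper28.BGP14

/-!
# Unitary matrices whose square is a scalar preserve a pair of complementary totally singular
subspaces (helper28)
-/

set_option autoImplicit false
set_option linter.style.haveILetI false
set_option linter.unusedSectionVars false
set_option linter.unusedVariables false

namespace Cfsg.Agent.Helper28.BGP

open Matrix Module Cfsg.Agent.Helper11.Herm

section sums

variable {F : Type*} [Field F] {n : ℕ} (φ : F →+* F)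

theorem ts_sup (A A' : Submodule F (Fin n → F))
    (hA : ∀ u ∈ A, ∀ v ∈ A, hdot φ u v = 0) (hA' : ∀ u ∈ A', ∀ v ∈ A', hdot φ u v = 0)
    (hAA' : ∀ u ∈ A, ∀ v ∈ A', hdot φ u v = 0) (hA'A : ∀ u ∈ A', ∀ v ∈ A, hdot φ u v = 0) :
    ∀ u ∈ A ⊔ A', ∀ v ∈ A ⊔ A', hdot φ u v = 0 := by
  intro u hu v hv
  obtain ⟨a, ha, a', ha', rfl⟩ := Submodule.mem_sup.1 hu
  obtain ⟨b, hb, b', hb', rfl⟩ := Submodule.mem_sup.1 hv
  rw [hdot_add_left, hdot_add_right, hdot_add_right, hA a ha b hb, hAA' a ha b' hb',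
    hA'A a' ha' b hb, hA' a' ha' b' hb', add_zero, add_zero]

theorem inv_sup (X : Matrix (Fin n) (Fin n) F) (A A' : Submodule F (Fin n → F))
    (h : ∀ u ∈ A, X *ᵥ u ∈ A) (h' : ∀ u ∈ A', X *ᵥ u ∈ A') :
    ∀ u ∈ A ⊔ A', X *ᵥ u ∈ A ⊔ A' := by
  intro u hu
  obtain ⟨a, ha, a', ha', rfl⟩ := Submodule.mem_sup.1 hu
  rw [Matrix.mulVec_add]
  exact Submodule.add_mem_sup (h a ha) (h' a' ha')

end sums

section invariant

variable {F : Type*} [Field F] [Fintype F] {n : ℕ} {q : ℕ} (φ : F →+* F)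

/-- the eigenspace of a matrix -/
noncomputable def eig (X : Matrix (Fin n) (Fin n) F) (l : F) : Submodule F (Fin n → F) :=
  LinearMap.ker (Matrix.toLin' X - l • 1)

theorem mem_eig (X : Matrix (Fin n) (Fin n) F) (l : F) (v : Fin n → F) :
    v ∈ eig X l ↔ X *ᵥ v = l • v := by
  unfold eig
  rw [LinearMap.mem_ker, LinearMap.sub_apply, Matrix.toLin'_apply, LinearMap.smul_apply,
    Module.End.one_apply, sub_eq_zero]

theorem eig_invariant (X : Matrix (Fin n) (Fin n) F) (l : F) (A : Submodule F (Fin n → F))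
    (hA : A ≤ eig X l) : ∀ u ∈ A, X *ᵥ u ∈ A := by
  intro u hu
  rw [(mem_eig X l u).1 (hA hu)]
  exact A.smul_mem _ hu

/-- a unitary matrix of determinant one whose square is a scalar preserves a pair of
complementary totally singular subspaces -/
theorem exists_invariant_pair (hF : Fintype.card F = q ^ 2) (hφ : ∀ x, φ x = x ^ q)
    (h2 : (2 : F) ≠ 0) {m : ℕ} (hn : n = 2 * m) (hm : 1 ≤ m)
    (X : Matrix (Fin n) (Fin n) F) (hXU : IsU φ X) (hdet : X.det = 1) (ν : F) (hν0 : ν ≠ 0)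
    (hX2 : X * X = (ν * ν) • (1 : Matrix (Fin n) (Fin n) F))
    (hpow : ν ^ (q + 1) = 1 → ν ^ n ≠ -1) :
    ∃ U' W' : Submodule F (Fin n → F),
      (∀ u ∈ U', ∀ v ∈ U', hdot φ u v = 0) ∧ (∀ u ∈ W', ∀ v ∈ W', hdot φ u v = 0) ∧
      (∀ v : Fin n → F, ∃ u ∈ U', ∃ w ∈ W', v = u + w) ∧
      (∀ u ∈ U', X *ᵥ u ∈ U') ∧ (∀ w ∈ W', X *ᵥ w ∈ W') := by
  have hφφ := frob_frob hF φ hφ
  have hXX : ∀ v, X *ᵥ (X *ᵥ v) = (ν * ν) • v := by
    intro v
    rw [Matrix.mulVec_mulVec, hX2, Matrix.smul_mulVec, Matrix.one_mulVec]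
  set c₀ : F := ν * φ ν with hc₀
  -- `c₀` is a sign
  have hc₀2 : c₀ * c₀ = 1 := by
    set i0 : Fin n := ⟨0, by omega⟩
    have h1 := hXU.hdot_mulVec φ (X *ᵥ (Pi.single i0 1)) (X *ᵥ (Pi.single i0 1))
    rw [hXX, hXU.hdot_mulVec φ, hdot_smul_left, hdot_smul_right, hdot_single_single, if_pos rfl,
      mul_one, map_mul] at h1
    rw [hc₀]
    linear_combination h1
  have hc₀' : c₀ = 1 ∨ c₀ = -1 := mul_self_eq_one_iff.1 hc₀2
  set Vp := eig X ν with hVp
  set Vm := eig X (-ν) with hVm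
  have hVpm : ∀ v, v ∈ Vp ↔ X *ᵥ v = ν • v := mem_eig X ν
  have hVmm : ∀ v, v ∈ Vm ↔ X *ᵥ v = (-ν) • v := mem_eig X (-ν)
  have h2ν : (2 * ν) ≠ 0 := mul_ne_zero h2 hν0
  have hdecV : ∀ v : Fin n → F, ∃ u ∈ Vp, ∃ w ∈ Vm, v = u + w := by
    intro v
    refine ⟨(2 * ν)⁻¹ • (ν • v + X *ᵥ v), ?_, (2 * ν)⁻¹ • (ν • v - X *ᵥ v), ?_, ?_⟩
    · rw [hVpm, Matrix.mulVec_smul, Matrix.mulVec_add, Matrix.mulVec_smul, hXX, smul_comm]
      congr 1
      rw [smul_add, smul_smul, add_comm]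
    · rw [hVmm, Matrix.mulVec_smul, Matrix.mulVec_sub, Matrix.mulVec_smul, hXX, smul_comm]
      congr 1
      rw [smul_sub, smul_smul, neg_smul, neg_mul, neg_smul, sub_neg_eq_add, neg_add_eq_sub]
    · rw [← smul_add, add_add_sub_cancel, ← two_smul F, smul_smul, smul_smul, mul_assoc,
        inv_mul_cancel₀ h2ν, one_smul]
  have hpp : ∀ u ∈ Vp, ∀ v ∈ Vp, (c₀ - 1) * hdot φ u v = 0 := by
    intro u hu v hv
    have h1 := hXU.hdot_mulVec φ u v
    rw [(hVpm u).1 hu, (hVpm v).1 hv, hdot_smul_left, hdot_smul_right] at h1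
    rw [hc₀]
    linear_combination h1
  have hmm : ∀ u ∈ Vm, ∀ v ∈ Vm, (c₀ - 1) * hdot φ u v = 0 := by
    intro u hu v hv
    have h1 := hXU.hdot_mulVec φ u v
    rw [(hVmm u).1 hu, (hVmm v).1 hv, hdot_smul_left, hdot_smul_right, map_neg] at h1
    rw [hc₀]
    linear_combination h1
  have hpm : ∀ u ∈ Vp, ∀ v ∈ Vm, (c₀ + 1) * hdot φ u v = 0 := by
    intro u hu v hv
    have h1 := hXU.hdot_mulVec φ u v
    rw [(hVpm u).1 hu, (hVmm v).1 hv, hdot_smul_left, hdot_smul_right, map_neg] at h1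
    rw [hc₀]
    linear_combination -h1
  rcases hc₀' with hc1 | hc1
  · -- the orthogonal case
    have h11 : (c₀ + 1) ≠ 0 := by
      rw [hc1]
      intro h
      apply h2
      linear_combination h
    have horth : ∀ u ∈ Vp, ∀ v ∈ Vm, hdot φ u v = 0 := by
      intro u hu v hv
      exact (mul_eq_zero.1 (hpm u hu v hv)).resolve_left h11
    have horth' : ∀ u ∈ Vm, ∀ v ∈ Vp, hdot φ u v = 0 := by
      intro u hu v hv
      exact hdot_eq_zero_symm φ hφφ _ _ (horth v hv u hu)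
    have hνq : ν ^ (q + 1) = 1 := by
      rw [pow_succ', ← hφ, ← hc₀, hc1]
    have hνn := hpow hνq
    -- complements
    have hcompl : IsCompl Vp Vm := by
      refine IsCompl.of_eq ?_ ?_
      · rw [eq_bot_iff]
        intro v hv
        obtain ⟨hv1, hv2⟩ := Submodule.mem_inf.1 hv
        rw [Submodule.mem_bot]
        have h3 : (2 * ν) • v = 0 := by
          have h4 := (hVpm v).1 hv1
          rw [(hVmm v).1 hv2, neg_smul] at h4
          rw [mul_smul, two_smul]
          nth_rewrite 1 [← neg_eq_iff_eq_neg.2 h4.symm]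
          rw [neg_add_cancel]
        exact (smul_eq_zero.1 h3).resolve_left h2ν
      · rw [eq_top_iff]
        intro v _
        obtain ⟨u, hu, w, hw, rfl⟩ := hdecV v
        exact Submodule.add_mem_sup hu hw
    -- the determinant
    have hdetY : LinearMap.det (Matrix.toLin' (ν⁻¹ • X)) = (-1) ^ finrank F Vm := by
      apply det_of_involution _ Vp Vm hcompl
      · intro v hv
        rw [Matrix.toLin'_apply, Matrix.smul_mulVec, (hVpm v).1 hv, smul_smul,
          inv_mul_cancel₀ hν0, one_smul]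
      · intro v hv
        rw [Matrix.toLin'_apply, Matrix.smul_mulVec, (hVmm v).1 hv, smul_smul, mul_neg,
          inv_mul_cancel₀ hν0, neg_smul, one_smul]
    rw [LinearMap.det_toLin', Matrix.det_smul, hdet, mul_one, Fintype.card_fin] at hdetY
    have heven : Even (finrank F Vm) := by
      by_contra hodd
      rw [Nat.not_even_iff_odd] at hodd
      rw [hodd.neg_one_pow, inv_pow] at hdetY
      apply hνn
      rw [← inv_inv (ν ^ n), hdetY]
      norm_num
    have hsum := Submodule.finrank_add_eq_of_isCompl hcompl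
    rw [Module.finrank_fintype_fun_eq_card, Fintype.card_fin] at hsum
    obtain ⟨am, ham⟩ := heven
    have hfm : finrank F Vm = am * 2 := by omega
    have hfp : finrank F Vp = (m - am) * 2 := by omega
    have hndp : ∀ u ∈ Vp, (∀ v ∈ Vp, hdot φ u v = 0) → u = 0 := by
      intro u hu h
      apply eq_zero_of_hdot_right φ
      intro v
      obtain ⟨a, ha, b, hb, rfl⟩ := hdecV v
      rw [hdot_add_right, h a ha, horth u hu b hb, add_zero]
    have hndm : ∀ u ∈ Vm, (∀ v ∈ Vm, hdot φ u v = 0) → u = 0 := by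
      intro u hu h
      apply eq_zero_of_hdot_right φ
      intro v
      obtain ⟨a, ha, b, hb, rfl⟩ := hdecV v
      rw [hdot_add_right, h b hb, horth' u hu a ha, add_zero]
    obtain ⟨Ap, Bp, hAp, hBp, hApt, hBpt, hdp⟩ :=
      exists_ts_split φ hF hφ h2 Vp hndp (m - am) hfp
    obtain ⟨Am, Bm, hAm, hBm, hAmt, hBmt, hdm⟩ :=
      exists_ts_split φ hF hφ h2 Vm hndm am hfm
    refine ⟨Ap ⊔ Am, Bp ⊔ Bm, ?_, ?_, ?_, ?_, ?_⟩
    · exact ts_sup φ Ap Am hApt hAmt (fun u hu v hv => horth u (hAp hu) v (hAm hv))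
        (fun u hu v hv => horth' u (hAm hu) v (hAp hv))
    · exact ts_sup φ Bp Bm hBpt hBmt (fun u hu v hv => horth u (hBp hu) v (hBm hv))
        (fun u hu v hv => horth' u (hBm hu) v (hBp hv))
    · intro v
      obtain ⟨vp, hvp, vm, hvm, rfl⟩ := hdecV v
      obtain ⟨a, ha, b, hb, rfl⟩ := hdp vp hvp
      obtain ⟨a', ha', b', hb', rfl⟩ := hdm vm hvm
      refine ⟨a + a', Submodule.add_mem_sup ha ha', b + b', Submodule.add_mem_sup hb hb', ?_⟩
      abel
    · exact inv_sup X Ap Am (eig_invariant X ν Ap hAp) (eig_invariant X (-ν) Am hAm)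
    · exact inv_sup X Bp Bm (eig_invariant X ν Bp hBp) (eig_invariant X (-ν) Bm hBm)
  · -- the totally singular case
    have h11 : (c₀ - 1) ≠ 0 := by
      rw [hc1]
      intro h
      apply h2
      linear_combination -h
    refine ⟨Vp, Vm, ?_, ?_, hdecV, eig_invariant X ν Vp le_rfl, eig_invariant X (-ν) Vm le_rfl⟩
    · intro u hu v hv
      exact (mul_eq_zero.1 (hpp u hu v hv)).resolve_left h11
    · intro u hu v hv
      exact (mul_eq_zero.1 (hmm u hu v hv)).resolve_left h11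

end invariant

end Cfsg.Agent.Helper28.BGP
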