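import Mathlib
import Cfsg.Agent.Lib.Helper28.BGP15

/-!
# Elements of prime order of the special unitary group and the stabiliser of a pair of
complementary totally singular subspaces (helper28)
-/

set_option autoImplicit false
set_option linter.style.haveILetI false
set_option linter.unusedSectionVars false
set_option linter.unusedVariables false

namespace Cfsg.Agent.Helper28.BGP

open Matrix Module Cfsg.Agent.Helper11.Herm

section main

variable {F : Type*} [Field F] [Fintype F] {n : ℕ} {q : ℕ} (φ : F →+* F)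
  (D : Fin 2 → Submodule F (Fin n → F))

/-- sufficiency of the conditions -/
theorem sufficiency (hF : Fintype.card F = q ^ 2) (hφ : ∀ x, φ x = x ^ q) {m : ℕ}
    (hn : n = 2 * m) (hm : 1 ≤ m)
    (hU : ∀ u ∈ D 0, ∀ v ∈ D 0, hdot φ u v = 0) (hW : ∀ u ∈ D 1, ∀ v ∈ D 1, hdot φ u v = 0)
    (hdec : ∀ v : Fin n → F, ∃ u ∈ D 0, ∃ w ∈ D 1, v = u + w)
    (hodd : Odd q) (hv : padicValNat 2 (q + 1) ≤ padicValNat 2 n) : AllConj q 2 D := by
  intro x hx ⟨z, hz⟩ hns
  have hφφ := frob_frob hF φ hφ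
  obtain ⟨hx1, hx2⟩ := Subgroup.mem_inf.1 hx
  rw [GU_eq_UG φ hφ, mem_UG_iff] at hx1
  rw [mem_specialLinear_iff] at hx2
  rw [Units.val_pow_eq_pow_val, pow_two] at hz
  have h2 : (2 : F) ≠ 0 := by
    intro h
    have h1 : ((Fintype.card F : ℕ) : F) = 0 := Nat.cast_card_eq_zero F
    have h3 : Odd (Fintype.card F) := by
      rw [hF]
      exact hodd.pow
    obtain ⟨t, ht⟩ := h3
    rw [ht] at h1
    push_cast at h1
    rw [h, zero_mul, zero_add] at h1
    exact one_ne_zero h1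
  have hXX : ∀ v, (x : Matrix (Fin n) (Fin n) F) *ᵥ ((x : Matrix (Fin n) (Fin n) F) *ᵥ v) =
      z • v := by
    intro v
    rw [Matrix.mulVec_mulVec, hz, Matrix.smul_mulVec, Matrix.one_mulVec]
  have hzz : z * z ^ q = 1 := by
    set i0 : Fin n := ⟨0, by omega⟩
    have h1 := hx1.hdot_mulVec φ ((x : Matrix (Fin n) (Fin n) F) *ᵥ (Pi.single i0 1))
      ((x : Matrix (Fin n) (Fin n) F) *ᵥ (Pi.single i0 1))
    rw [hXX, hx1.hdot_mulVec φ, hdot_smul_left, hdot_smul_right, hdot_single_single, if_pos rfl,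
      mul_one, hφ] at h1
    exact h1
  obtain ⟨ν, hν⟩ := exists_sqrt_of_norm_one hF hodd z hzz
  have hν0 : ν ≠ 0 := by
    rintro rfl
    rw [mul_zero] at hν
    rw [← hν, zero_mul] at hzz
    exact zero_ne_one hzz
  obtain ⟨U', W', hU', hW', hdec', hxU, hxW⟩ := exists_invariant_pair φ hF hφ h2 hn hm
    (x : Matrix (Fin n) (Fin n) F) hx1 hx2 ν hν0 (by rw [hν, hz])
    (fun h => pow_ne_neg_one h2 (by omega) hv ν h)
  exact conj_of_pair φ hF hφ hn hm D hU hW hdec U' W' hU' hW' hdec' x hxU hxW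

/-- the main theorem -/
theorem allConj_iff {p : ℕ} [Fact p.Prime] [CharP F p] (hF : Fintype.card F = q ^ 2)
    (hφ : ∀ x, φ x = x ^ q) {m : ℕ} (hn : n = 2 * m) (hm : 2 ≤ m)
    (hU : ∀ u ∈ D 0, ∀ v ∈ D 0, hdot φ u v = 0) (hW : ∀ u ∈ D 1, ∀ v ∈ D 1, hdot φ u v = 0)
    (hdec : ∀ v : Fin n → F, ∃ u ∈ D 0, ∃ w ∈ D 1, v = u + w)
    (hf0 : finrank F (D 0) = m) (hf1 : finrank F (D 1) = m) (r : ℕ) (hr : r.Prime)
    (hΩ : r ∣ (Cfsg.Geo.decompositionStabilizer D).relIndex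
      (Cfsg.GU n F q ⊓ Cfsg.Geo.specialLinear (Fin n) F)) :
    AllConj q r D ↔ (r = 2 ∧ Odd q ∧ padicValNat 2 (q + 1) ≤ padicValNat 2 n) := by
  constructor
  · intro hall
    exact necessity φ D hF hφ hn hm hU hW hdec hf0 hf1 r hr hΩ hall
  · rintro ⟨rfl, hodd, hv⟩
    exact sufficiency φ D hF hφ hn (by omega) hU hW hdec hodd hv

end main

end Cfsg.Agent.Helper28.BGP
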