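import Mathlib
import Cfsg.Agent.Lib.Helper28.BGQ13
import Cfsg.Agent.Lib.Helper28.BGQ10

/-!
# Elements of order `r` of `SL_r(q)`, `r ∈ {3, 5}`, `(q₀ - 1)_r = r`, are conjugate into the
similarity group of a unitary form: the main statement (helper28)
-/

set_option autoImplicit false
set_option linter.style.haveILetI false
set_option linter.unusedSectionVars false
set_option linter.unusedVariables false

namespace Cfsg.Agent.Helper28.BGQ

open Matrix Module Polynomial Cfsg.Agent.Helper11.Herm Cfsg.Agent.Helper13.SS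

section special

variable {K : Type*} [Field K] [Fintype K] {q₀ n r : ℕ}
  {f : (Fin n → K) → (Fin n → K) → K}

theorem char_dvd_q₀ (hK : Fintype.card K = q₀ ^ 2) (p : ℕ) [Fact p.Prime] [CharP K p] :
    p ∣ q₀ := by
  have hp : p.Prime := Fact.out
  have h1 : ((Fintype.card K : ℕ) : K) = 0 := FiniteField.cast_card_eq_zero K
  have h2 := (CharP.cast_eq_zero_iff K p (Fintype.card K)).1 h1
  rw [hK] at h2
  exact hp.dvd_of_dvd_pow h2

theorem conj_special (hK : Fintype.card K = q₀ ^ 2) (p : ℕ) [Fact p.Prime] [CharP K p]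
    (hf : Cfsg.Geo.IsUnitaryFormPow q₀ f)
    [Fact r.Prime] (hr35 : r = 3 ∨ r = 5) (hnr : n = r) (hv : padicValNat r (q₀ - 1) = 1)
    (x : GL (Fin n) K) (hx : x ∈ Cfsg.Geo.specialLinear (Fin n) K) (z : K)
    (hz : ((x ^ r : GL (Fin n) K) : Matrix (Fin n) (Fin n) K) =
      z • (1 : Matrix (Fin n) (Fin n) K)) :
    ∃ g ∈ Cfsg.Geo.specialLinear (Fin n) K, g⁻¹ * x * g ∈ Cfsg.Geo.similarityGroup f := by
  classical
  have hr : r.Prime := Fact.out
  have hp : p.Prime := Fact.out
  have hr2 : r ≠ 2 := by rcases hr35 with rfl | rfl <;> norm_num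
  have hq2 := two_le_q hK
  obtain ⟨φ, hφ⟩ := exists_frob hK
  have hrq0 : r ∣ q₀ - 1 := dvd_of_one_le_padicValNat (by omega)
  have hrp : r ≠ p := by
    intro hrp'
    have h1 := char_dvd_q₀ hK p
    rw [← hrp'] at h1
    have h2 : r ∣ q₀ - (q₀ - 1) := Nat.dvd_sub h1 hrq0
    have h3 : q₀ - (q₀ - 1) = 1 := by omega
    rw [h3] at h2
    exact hr.one_lt.ne' (Nat.dvd_one.1 h2)
  have hrcop : r.Coprime p := (Nat.coprime_primes hr hp).2 hrp
  have hcardm : Fintype.card K - 1 = (q₀ + 1) * (q₀ - 1) := by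
    rw [hK]
    exact sq_sub_one q₀ (by omega)
  have hrq : ¬ r ^ 2 ∣ Fintype.card K - 1 := by
    intro h
    rw [hcardm, padicValNat_dvd_iff_le (Nat.mul_ne_zero (by omega) (by omega)),
      padicValNat.mul (by omega) (by omega), hv] at h
    have h1 : ¬ r ∣ q₀ + 1 := by
      intro h2
      have h3 : r ∣ (q₀ + 1) - (q₀ - 1) := Nat.dvd_sub h2 hrq0
      have h4 : (q₀ + 1) - (q₀ - 1) = 2 := by omega
      rw [h4] at h3
      exact hr2 ((Nat.prime_dvd_prime_iff_eq hr Nat.prime_two).1 h3)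
    rw [padicValNat.eq_zero_of_not_dvd h1] at h
    omega
  have hxd : (x : Matrix (Fin n) (Fin n) K).det = 1 := (mem_sl_iff x).1 hx
  have hz1 : z = 1 := pow_eq_one_of_pow_scalar hr hr2 hnr hrq x hxd z hz
  have hxr : x ^ r = 1 := by
    apply Units.ext
    rw [hz, hz1, one_smul, Units.val_one]
  have hxo : (orderOf x).Coprime p :=
    Nat.Coprime.coprime_dvd_left (orderOf_dvd_of_pow_eq_one hxr) hrcop
  obtain ⟨u, hu⟩ := exists_prime_orderOf_dvd_card (G := Kˣ) r (by
    rw [Fintype.card_units, hcardm]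
    exact dvd_mul_of_dvd_right hrq0 _)
  set ζ : K := (u : K) with hζdef
  have hζo : orderOf ζ = r := by rw [hζdef, orderOf_units, hu]
  have hζ0 : ζ ≠ 0 := u.ne_zero
  have hζr : ζ ^ r = 1 := hζo ▸ pow_orderOf_eq_one ζ
  have hζ : IsPrimitiveRoot ζ r := by
    have := IsPrimitiveRoot.orderOf ζ
    rwa [hζo] at this
  have hζφ : φ ζ = ζ := by
    rw [hφ]
    exact pow_q_of_pow_eq_one (by omega) ζ r hζr hrq0
  have hcp := charpoly_of_pow_eq_one hr.pos ζ hζ x hxr
  have hsum := sum_emult hr.pos ζ hζ x hxr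
  have hdvd := dvd_sum_of_det_one hr.pos ζ hζ x hxr hxd
  rcases hr35 with rfl | rfl
  · -- `r = 3`
    simp only [Finset.prod_range_succ, Finset.prod_range_zero, one_mul] at hcp
    simp only [Finset.sum_range_succ, Finset.sum_range_zero, zero_add, zero_mul, one_mul] at hsum hdvd
    set m0 := emult ζ x 0 with hm0
    set m1 := emult ζ x 1 with hm1
    set m2 := emult ζ x 2 with hm2
    rcases comb3 m0 m1 m2 (by omega) hdvd with h | h | h
    · rw [h] at hcp hsum
      apply conj_into_zeta (p := p) hK hf φ hφ x hx hxo hrcop ζ hζ0 hζr hζφ m0 m2 0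
        (by omega) 0 1 2 0 0 (by norm_num) (by norm_num)
      rw [hcp]
      ring
    · rw [h] at hcp hsum
      apply conj_into_zeta (p := p) hK hf φ hφ x hx hxo hrcop ζ hζ0 hζr hζφ m1 m0 0
        (by omega) 1 2 0 1 1 (by norm_num) (by norm_num)
      rw [hcp]
      ring
    · rw [h] at hcp hsum
      apply conj_into_zeta (p := p) hK hf φ hφ x hx hxo hrcop ζ hζ0 hζr hζφ m2 m1 0
        (by omega) 2 0 1 2 2 (by norm_num) (by norm_num)
      rw [hcp]
      ring
  · -- `r = 5`
    simp only [Finset.prod_range_succ, Finset.prod_range_zero, one_mul] at hcp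
    simp only [Finset.sum_range_succ, Finset.sum_range_zero, zero_add, zero_mul, one_mul] at hsum hdvd
    set m0 := emult ζ x 0 with hm0
    set m1 := emult ζ x 1 with hm1
    set m2 := emult ζ x 2 with hm2
    set m3 := emult ζ x 3 with hm3
    set m4 := emult ζ x 4 with hm4
    rcases comb5 m0 m1 m2 m3 m4 (by omega) hdvd with h | h | h | h | h
    · obtain ⟨h1, h2⟩ := h
      rw [h1, h2] at hcp hsum
      apply conj_into_zeta (p := p) hK hf φ hφ x hx hxo hrcop ζ hζ0 hζr hζφ m0 m4 m3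
        (by omega) 0 1 4 2 3 (by norm_num) (by norm_num)
      rw [hcp]
      ring
    · obtain ⟨h1, h2⟩ := h
      rw [h1, h2] at hcp hsum
      apply conj_into_zeta (p := p) hK hf φ hφ x hx hxo hrcop ζ hζ0 hζr hζφ m1 m0 m4
        (by omega) 1 2 0 3 4 (by norm_num) (by norm_num)
      rw [hcp]
      ring
    · obtain ⟨h1, h2⟩ := h
      rw [h1, h2] at hcp hsum
      apply conj_into_zeta (p := p) hK hf φ hφ x hx hxo hrcop ζ hζ0 hζr hζφ m2 m1 m0
        (by omega) 2 3 1 4 0 (by norm_num) (by norm_num)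
      rw [hcp]
      ring
    · obtain ⟨h1, h2⟩ := h
      rw [h1, h2] at hcp hsum
      apply conj_into_zeta (p := p) hK hf φ hφ x hx hxo hrcop ζ hζ0 hζr hζφ m3 m2 m1
        (by omega) 3 4 2 0 1 (by norm_num) (by norm_num)
      rw [hcp]
      ring
    · obtain ⟨h1, h2⟩ := h
      rw [h1, h2] at hcp hsum
      apply conj_into_zeta (p := p) hK hf φ hφ x hx hxo hrcop ζ hζ0 hζr hζφ m4 m3 m2
        (by omega) 4 0 3 1 2 (by norm_num) (by norm_num)
      rw [hcp]
      ring

end special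

end Cfsg.Agent.Helper28.BGQ
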