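import Mathlib
import Cfsg.Agent.Lib.Helper28.BGQ5
import Cfsg.Agent.Lib.Helper13.SpSim4

/-!
# Characteristic two: elements with scalar square and the similarity group of a unitary form
(helper28)
-/

set_option autoImplicit false
set_option linter.style.haveILetI false
set_option linter.unusedSectionVars false
set_option linter.unusedVariables false

namespace Cfsg.Agent.Helper28.BGQ

open Matrix Module Cfsg.Agent.Helper11.Herm Cfsg.Agent.Helper13.SpSim Cfsg.Agent.Helper13.Nilp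

section ext

variable {K : Type*} [Field K] {s t : ℕ}

/-- extension of a matrix by an identity block -/
def ext1 (t : ℕ) (A : Matrix (Fin s ⊕ Fin s) (Fin s ⊕ Fin s) K) :
    Matrix ((Fin s ⊕ Fin s) ⊕ Fin t) ((Fin s ⊕ Fin s) ⊕ Fin t) K :=
  Matrix.fromBlocks A 0 0 1

theorem ext1_mul (A B : Matrix (Fin s ⊕ Fin s) (Fin s ⊕ Fin s) K) :
    ext1 t (A * B) = ext1 t A * ext1 t B := by
  unfold ext1
  rw [Matrix.fromBlocks_multiply]
  simp

theorem ext1_one : ext1 t (1 : Matrix (Fin s ⊕ Fin s) (Fin s ⊕ Fin s) K) = 1 := by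
  unfold ext1
  exact Matrix.fromBlocks_one

theorem ext1_transpose (A : Matrix (Fin s ⊕ Fin s) (Fin s ⊕ Fin s) K) :
    (ext1 t A)ᵀ = ext1 t Aᵀ := by
  unfold ext1
  rw [Matrix.fromBlocks_transpose]
  simp

theorem ext1_map (φ : K →+* K) (A : Matrix (Fin s ⊕ Fin s) (Fin s ⊕ Fin s) K) :
    (ext1 t A).map φ = ext1 t (A.map φ) := by
  unfold ext1
  rw [Matrix.fromBlocks_map]
  congr 1
  · ext i j; simp
  · ext i j; simp
  · ext i j
    by_cases hij : i = j
    · subst hij; simp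
    · simp [hij]

theorem det_ext1 (A : Matrix (Fin s ⊕ Fin s) (Fin s ⊕ Fin s) K) : (ext1 t A).det = A.det := by
  unfold ext1
  rw [Matrix.det_fromBlocks_zero₁₂, Matrix.det_one, mul_one]

theorem ext1_sub_one (A : Matrix (Fin s ⊕ Fin s) (Fin s ⊕ Fin s) K) :
    ext1 t A - 1 = Matrix.fromBlocks (A - 1) 0 0 0 := by
  ext a b
  rcases a with a | a <;> rcases b with b | b <;> simp [ext1, Matrix.one_apply]

theorem eq_zero_of_rank_eq_zero {m : ℕ} (M : Matrix (Fin m) (Fin m) K) (h : M.rank = 0) :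
    M = 0 := by
  unfold Matrix.rank at h
  have h1 : LinearMap.range M.mulVecLin = ⊥ := Submodule.finrank_eq_zero.1 h
  rw [LinearMap.range_eq_bot] at h1
  ext i j
  have := congrFun (LinearMap.congr_fun h1 (Pi.single j 1)) i
  simpa using this

theorem J_map (φ : K →+* K) : (Matrix.J (Fin s) K).map φ = Matrix.J (Fin s) K := by
  unfold Matrix.J
  rw [Matrix.fromBlocks_map]
  congr 1
  · ext i j; simp
  · ext i j
    by_cases hij : i = j
    · subst hij; simp
    · simp [hij]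
  · ext i j
    by_cases hij : i = j
    · subst hij; simp
    · simp [hij]
  · ext i j; simp

theorem Yuni_map (φ : K →+* K) (m r : ℕ) : (Yuni (F := K) m r).map φ = Yuni m r := by
  unfold Yuni
  rw [Matrix.fromBlocks_map]
  congr 1
  · ext i j
    by_cases hij : i = j
    · subst hij; simp
    · simp [hij]
  · ext i j
    by_cases hij : i = j
    · subst hij
      simp only [Matrix.map_apply, Matrix.diagonal_apply_eq]
      unfold eps
      split_ifs <;> simp
    · simp [hij]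
  · ext i j; simp
  · ext i j
    by_cases hij : i = j
    · subst hij; simp
    · simp [hij]

theorem rank_ext1_Yuni_sub_one (s t : ℕ) : (ext1 t (Yuni (F := K) s s) - 1).rank = s := by
  classical
  have h1 : ext1 t (Yuni (F := K) s s) - 1 =
      (Matrix.diagonal (Sum.elim (Sum.elim (fun _ : Fin s => (1 : K)) (fun _ : Fin s => 0))
        (fun _ : Fin t => 0))).submatrix
        (Equiv.refl ((Fin s ⊕ Fin s) ⊕ Fin t))
        (Equiv.sumCongr (Equiv.sumComm (Fin s) (Fin s)) (Equiv.refl (Fin t))) := by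
    rw [ext1_sub_one, Yuni_sub_one]
    ext a b
    rcases a with (i | i) | i <;> rcases b with (j | j) | j <;>
      simp [Matrix.diagonal_apply, Matrix.fromBlocks, eps]
  rw [h1, Matrix.rank_submatrix, Matrix.rank_diagonal]
  have e : {a : (Fin s ⊕ Fin s) ⊕ Fin t //
      Sum.elim (Sum.elim (fun _ : Fin s => (1 : K)) (fun _ : Fin s => 0))
        (fun _ : Fin t => 0) a ≠ 0} ≃ Fin s :=
    { toFun := fun a => match a with
        | ⟨Sum.inl (Sum.inl j), _⟩ => j
        | ⟨Sum.inl (Sum.inr j), h⟩ => (h rfl).elim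
        | ⟨Sum.inr j, h⟩ => (h rfl).elim
      invFun := fun j => ⟨Sum.inl (Sum.inl j), by simp⟩
      left_inv := by
        rintro ⟨(a | a) | a, h⟩
        · rfl
        · exact (h rfl).elim
        · exact (h rfl).elim
      right_inv := by
        intro j
        rfl }
  rw [Fintype.card_congr e, Fintype.card_fin]

end ext

section char2

variable {K : Type*} [Field K] [Fintype K] [CharP K 2] {q₀ n : ℕ}
  {f : (Fin n → K) → (Fin n → K) → K}

omit [Fintype K] in
theorem neg_mat {ι : Type*} (M : Matrix ι ι K) : -M = M :=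
  neg_eq_of_add_eq_zero_left (add_self_mat M)

/-- characteristic two: every non-scalar element of `SL_n` with scalar square is conjugate into
the similarity group of a unitary form -/
theorem conj_invol_two (hK : Fintype.card K = q₀ ^ 2) (hn : 1 ≤ n)
    (hf : Cfsg.Geo.IsUnitaryFormPow q₀ f)
    (x : GL (Fin n) K) (hx : x ∈ Cfsg.Geo.specialLinear (Fin n) K) (z : K)
    (hz : ((x ^ 2 : GL (Fin n) K) : Matrix (Fin n) (Fin n) K) =
      z • (1 : Matrix (Fin n) (Fin n) K))
    (hns : ∀ z : K, (x : Matrix (Fin n) (Fin n) K) ≠ z • (1 : Matrix (Fin n) (Fin n) K)) :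
    ∃ g ∈ Cfsg.Geo.specialLinear (Fin n) K, g⁻¹ * x * g ∈ Cfsg.Geo.similarityGroup f := by
  classical
  haveI : Fact (Nat.Prime 2) := ⟨Nat.prime_two⟩
  have hz0 : z ≠ 0 := sq_scalar_ne_zero hn x z hz
  have hxd : (x : Matrix (Fin n) (Fin n) K).det = 1 := (mem_sl_iff x).1 hx
  have hxM : (x : Matrix (Fin n) (Fin n) K) * (x : Matrix (Fin n) (Fin n) K) =
      z • (1 : Matrix (Fin n) (Fin n) K) := by
    rw [← pow_two, ← Units.val_pow_eq_pow_val]
    exact hz
  obtain ⟨c, rfl⟩ := FiniteField.isSquare_of_char_two (ringChar.eq K 2) z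
  have hc : c ≠ 0 := fun h => hz0 (by rw [h, mul_zero])
  obtain ⟨φ, hφ⟩ := exists_frob hK
  set g₀ : Matrix (Fin n) (Fin n) K := c⁻¹ • (x : Matrix (Fin n) (Fin n) K) with hg₀
  have hcg₀ : c • g₀ = (x : Matrix (Fin n) (Fin n) K) := by
    rw [hg₀, smul_smul, mul_inv_cancel₀ hc, one_smul]
  have hg₀2 : g₀ * g₀ = 1 := by
    rw [hg₀, Matrix.smul_mul, Matrix.mul_smul, smul_smul, hxM, smul_smul]
    rw [show c⁻¹ * c⁻¹ * (c * c) = 1 by field_simp, one_smul]
  let g : GL (Fin n) K := ⟨g₀, g₀, hg₀2, hg₀2⟩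
  have hN2 : (g₀ - 1) * (g₀ - 1) = 0 := by
    rw [Matrix.sub_mul, Matrix.mul_sub, Matrix.mul_sub, hg₀2, Matrix.mul_one, Matrix.one_mul,
      Matrix.one_mul]
    have h3 : (1 : Matrix (Fin n) (Fin n) K) - g₀ - (g₀ - 1) = (1 + 1) - (g₀ + g₀) := by abel
    rw [h3, add_self_mat, add_self_mat, sub_zero]
  set s := (g₀ - 1).rank with hs
  have hsn : 2 * s ≤ n := by
    have := Matrix.rank_add_rank_le_card_of_mul_eq_zero hN2
    rw [Fintype.card_fin] at this
    omega
  have hs1 : 1 ≤ s := by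
    rw [Nat.one_le_iff_ne_zero]
    intro h0
    have h1 := eq_zero_of_rank_eq_zero _ h0
    apply hns c
    rw [← hcg₀, sub_eq_zero.1 h1]
  obtain ⟨t, ht⟩ : ∃ t, n = 2 * s + t := ⟨n - 2 * s, by omega⟩
  set G : Matrix ((Fin s ⊕ Fin s) ⊕ Fin t) ((Fin s ⊕ Fin s) ⊕ Fin t) K :=
    ext1 t (Matrix.J (Fin s) K) with hG
  have hGt : Gᵀ = G.map φ := by
    rw [hG, ext1_transpose, ext1_map, J_map, Matrix.J_transpose, neg_mat]
  have hGu : IsUnit G.det := by
    rw [hG, det_ext1]
    exact Matrix.isUnit_det_J (Fin s) K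
  obtain ⟨e, he⟩ := exists_equiv_gform hK 2 φ hφ hf
    (κ := (Fin s ⊕ Fin s) ⊕ Fin t) (by
      rw [Fintype.card_sum, Fintype.card_sum, Fintype.card_fin, Fintype.card_fin, ht]
      ring) G hGt hGu
  set Y₀ := ext1 t (Yuni (F := K) s s) with hY₀
  set Y : Matrix (Fin n) (Fin n) K := pull e Y₀ with hY
  have hYY : Y * Y = 1 := by
    rw [hY, ← pull_mul, hY₀, ← ext1_mul, Yuni_mul_self, ext1_one, pull_one]
  let g' : GL (Fin n) K := ⟨Y, Y, hYY, hYY⟩
  have hng : nilMat g = g₀ - 1 := rfl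
  have hng' : nilMat g' = pull e (Y₀ - 1) := by
    show Y - 1 = _
    rw [pull_sub, pull_one]
  have hN2' : nilMat g' * nilMat g' = 0 := by
    rw [hng', ← pull_mul, hY₀, ext1_sub_one, Matrix.fromBlocks_multiply]
    simp only [Matrix.mul_zero, Matrix.zero_mul, add_zero, Yuni_sub_one_sq]
    rw [Matrix.fromBlocks_zero, pull_zero]
  have hconj : IsConj g g' := by
    apply isConj_of_rank_pow_eq
    · exact ⟨2, by rw [pow_two, hng, hN2]⟩
    · exact ⟨2, by rw [pow_two, hN2']⟩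
    · intro k
      rcases k with _ | _ | k
      · rw [pow_zero, pow_zero]
      · rw [zero_add, pow_one, pow_one, hng, hng', rank_pull, hY₀, rank_ext1_Yuni_sub_one]
      · have e1 : nilMat g ^ (k + 1 + 1) = 0 := by
          rw [pow_succ, pow_succ, mul_assoc, hng, hN2, mul_zero]
        have e2 : nilMat g' ^ (k + 1 + 1) = 0 := by
          rw [pow_succ, pow_succ, mul_assoc, hN2', mul_zero]
        rw [e1, e2]
  obtain ⟨c₀, hc₀⟩ := isConj_iff.1 hconj
  have hcm : ((c₀⁻¹ : GL (Fin n) K) : Matrix (Fin n) (Fin n) K) * Y =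
      g₀ * ((c₀⁻¹ : GL (Fin n) K) : Matrix (Fin n) (Fin n) K) := by
    have h3 : g * c₀⁻¹ = c₀⁻¹ * g' := by rw [← hc₀]; group
    have h4 := congrArg (fun u : GL (Fin n) K => (u : Matrix (Fin n) (Fin n) K)) h3
    exact h4.symm
  set δ : K := (c₀ : Matrix (Fin n) (Fin n) K).det with hδ
  have hδ' : ((c₀⁻¹ : GL (Fin n) K) : Matrix (Fin n) (Fin n) K).det * δ = 1 := by
    rw [hδ, ← Matrix.det_mul, ← Units.val_mul, inv_mul_cancel, Units.val_one, Matrix.det_one]
  obtain ⟨β, hβ⟩ := FiniteField.isSquare_of_char_two (ringChar.eq K 2) δ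
  set D : Matrix (Fin n) (Fin n) K := pull e (ext1 t (Dfix s ⟨0, hs1⟩ β)) with hD
  have hDdet : D.det = δ := by rw [hD, det_pull, det_ext1, det_Dfix, hβ]
  have hDY : D * Y = Y * D := by
    rw [hD, hY, ← pull_mul, ← pull_mul, hY₀, ← ext1_mul, ← ext1_mul, Dfix_comm]
  have hPdet : (((c₀⁻¹ : GL (Fin n) K) : Matrix (Fin n) (Fin n) K) * D).det = 1 := by
    rw [Matrix.det_mul, hDdet, hδ']
  obtain ⟨P, hP⟩ : ∃ P : SpecialLinearGroup (Fin n) K,
      P.1 = ((c₀⁻¹ : GL (Fin n) K) : Matrix (Fin n) (Fin n) K) * D := ⟨⟨_, hPdet⟩, rfl⟩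
  set x' := toSL x hxd with hx'
  have hkey : (P⁻¹ * x' * P).1 = c • Y := by
    have h5 : P.1 * (P⁻¹ * x' * P).1 = P.1 * (c • Y) := by
      rw [← Matrix.SpecialLinearGroup.coe_mul]
      have h6 : P * (P⁻¹ * x' * P) = x' * P := by group
      rw [h6, Matrix.SpecialLinearGroup.coe_mul, hP, hx', toSL_val]
      set C : Matrix (Fin n) (Fin n) K := ((c₀⁻¹ : GL (Fin n) K) : Matrix (Fin n) (Fin n) K)
        with hC
      rw [← hcg₀]
      exact (conj_aux C D Y g₀ c hDY hcm).symm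
    have h7 := congrArg (fun M => (P⁻¹).1 * M) h5
    simp only [← Matrix.mul_assoc] at h7
    rw [← Matrix.SpecialLinearGroup.coe_mul, inv_mul_cancel, Matrix.SpecialLinearGroup.coe_one,
      Matrix.one_mul, Matrix.one_mul] at h7
    exact h7
  refine ⟨SpecialLinearGroup.toGL P, toGL_mem_sl P, ?_⟩
  have hφc : c * φ c ≠ 0 := by
    rw [hφ]
    exact mul_ne_zero hc (pow_ne_zero _ hc)
  apply mem_similarityGroup _ (c * φ c) hφc
  intro u v
  have hval : (((SpecialLinearGroup.toGL P)⁻¹ * x * SpecialLinearGroup.toGL P : GL (Fin n) K) :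
      Matrix (Fin n) (Fin n) K) = pull e (c • Y₀) := by
    rw [pull_smul, ← hY, ← hkey, ← toGL_toSL x hxd, ← map_inv, ← map_mul, ← map_mul]
    rfl
  rw [hval]
  apply sim_pull_gform φ G e he
  rw [Matrix.transpose_smul, Matrix.map_smul' φ c Y₀ (map_mul φ), Matrix.smul_mul,
    Matrix.smul_mul, Matrix.mul_smul, smul_smul, hY₀, hG, ext1_transpose, ext1_map, Yuni_map,
    ← ext1_mul, ← ext1_mul, Yuni_sim, one_smul]

end char2

end Cfsg.Agent.Helper28.BGQ
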