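import Mathlib
import Cfsg.Agent.Lib.Helper28.BGQ14
import Cfsg.Agent.Lib.Helper28.BGQ7
import Cfsg.Agent.Lib.Helper28.BGQ6

/-!
# Orders modulo `r`: consequences of the divisibility of the index (helper28)
-/

set_option autoImplicit false
set_option linter.style.haveILetI false
set_option linter.unusedSectionVars false
set_option linter.unusedVariables false

namespace Cfsg.Agent.Helper28.BGQ

section orders

theorem order_facts (q₀ n r k : ℕ) (hr : r.Prime) (hr2 : r ≠ 2) (hq : 1 ≤ q₀) (hk2 : 2 ≤ k)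
    (hkn : k ≤ n) (hdvd : r ∣ (if Even k then q₀ ^ k + 1 else q₀ ^ k - 1)) :
    orderOf (q₀ : ZMod r) % 4 ≠ 2 ∧ orderOf ((q₀ ^ 2 : ℕ) : ZMod r) ≤ n ∧
      1 ≤ orderOf ((q₀ ^ 2 : ℕ) : ZMod r) := by
  haveI : Fact r.Prime := ⟨hr⟩
  haveI : Fact (2 < r) := ⟨by have := hr.two_le; omega⟩
  set a : ZMod r := (q₀ : ZMod r) with ha
  have hcast : ((q₀ ^ 2 : ℕ) : ZMod r) = a ^ 2 := by push_cast; rfl
  rw [hcast]
  have key : (a ^ k = 1 ∧ Odd k) ∨ (a ^ k = -1 ∧ Even k) := by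
    by_cases hk : Even k
    · right
      rw [if_pos hk] at hdvd
      have h1 : ((q₀ ^ k + 1 : ℕ) : ZMod r) = 0 := (ZMod.natCast_eq_zero_iff _ _).2 hdvd
      push_cast at h1
      exact ⟨eq_neg_of_add_eq_zero_left h1, hk⟩
    · left
      rw [if_neg hk] at hdvd
      have h1 : ((q₀ ^ k - 1 : ℕ) : ZMod r) = 0 := (ZMod.natCast_eq_zero_iff _ _).2 hdvd
      rw [Nat.cast_sub (Nat.one_le_pow _ _ hq)] at h1
      push_cast at h1
      exact ⟨sub_eq_zero.1 h1, Nat.not_even_iff_odd.1 hk⟩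
  have hsq : (a ^ 2) ^ k = 1 := by
    rw [← pow_mul, mul_comm, pow_mul]
    rcases key with ⟨h, -⟩ | ⟨h, -⟩
    · rw [h, one_pow]
    · rw [h, neg_one_sq]
  have hd : orderOf (a ^ 2) ∣ k := orderOf_dvd_of_pow_eq_one hsq
  have hd0 : orderOf (a ^ 2) ≠ 0 := by
    intro h0
    rw [h0, zero_dvd_iff] at hd
    omega
  refine ⟨?_, le_trans (Nat.le_of_dvd (by omega) hd) hkn, by omega⟩
  rcases key with ⟨h, hodd⟩ | ⟨h, heven⟩
  · have hj : orderOf a ∣ k := orderOf_dvd_of_pow_eq_one h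
    have hjodd : Odd (orderOf a) := Odd.of_dvd_nat hodd hj
    obtain ⟨c, hc⟩ := hjodd
    omega
  · intro hj4
    have h2j : orderOf a ∣ 2 * k := by
      apply orderOf_dvd_of_pow_eq_one
      rw [mul_comm, pow_mul, h, neg_one_sq]
    have hnj : ¬ orderOf a ∣ k := by
      intro hd'
      have h1 := orderOf_dvd_iff_pow_eq_one.1 hd'
      rw [h] at h1
      exact ZMod.neg_one_ne_one h1
    apply hnj
    obtain ⟨c, hc⟩ : ∃ c, orderOf a = 2 * (2 * c + 1) := ⟨orderOf a / 4, by omega⟩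
    have h3 : 2 * c + 1 ∣ k := by
      rw [hc] at h2j
      exact Nat.dvd_of_mul_dvd_mul_left (by norm_num) h2j
    obtain ⟨k', hk'⟩ := heven
    have h4 : (2 * c + 1).Coprime 2 := by
      rw [Nat.coprime_two_right]
      exact ⟨c, rfl⟩
    have h5 : 2 * c + 1 ∣ k' := by
      rw [hk', ← two_mul] at h3
      exact h4.dvd_of_dvd_mul_left h3
    rw [hc, hk', ← two_mul]
    exact Nat.mul_dvd_mul_left 2 h5

theorem dvd_sub_one_of_order (q₀ r : ℕ) (hr : r.Prime) (hq : 1 ≤ q₀)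
    (hj : orderOf (q₀ : ZMod r) % 4 ≠ 2) (hd : orderOf ((q₀ ^ 2 : ℕ) : ZMod r) = 1) :
    r ∣ q₀ - 1 := by
  haveI : Fact r.Prime := ⟨hr⟩
  set a : ZMod r := (q₀ : ZMod r) with ha
  have hcast : ((q₀ ^ 2 : ℕ) : ZMod r) = a ^ 2 := by push_cast; rfl
  rw [hcast, orderOf_eq_one_iff] at hd
  have h1 : orderOf a ∣ 2 := orderOf_dvd_of_pow_eq_one hd
  have h2 : orderOf a = 1 := by
    rcases (Nat.dvd_prime Nat.prime_two).1 h1 with h | h
    · exact h
    · rw [h] at hj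
      exact absurd rfl hj
  rw [orderOf_eq_one_iff] at h2
  rw [← ZMod.natCast_eq_zero_iff, Nat.cast_sub hq, Nat.cast_one, ← ha, h2, sub_self]

end orders

section notdvd

variable {K : Type*} [Field K] [Fintype K] {q₀ : ℕ}

theorem eq_char_of_dvd (hK : Fintype.card K = q₀ ^ 2) (p : ℕ) [Fact p.Prime] [CharP K p]
    (r : ℕ) (hr : r.Prime) (h : r ∣ q₀) : r = p := by
  have hp : p.Prime := Fact.out
  obtain ⟨k, hk, hcard⟩ := Cfsg.Agent.Helper13.SS.exists_card_pow (p := p) hK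
  have h1 : r ∣ p ^ k := by
    rw [← hcard]
    exact dvd_trans h (dvd_pow_self q₀ (by norm_num))
  exact (Nat.prime_dvd_prime_iff_eq hr hp).1 (hr.dvd_of_dvd_pow h1)

end notdvd

end Cfsg.Agent.Helper28.BGQ
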