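import Mathlib
import Cfsg.Agent.Lib.Helper28.BGS11
import Cfsg.Agent.Lib.Helper28.BGS15

/-!
# Field-extension subgroups of type `Sp_{2d/k}(q^k)` of the symplectic group: elements of prime
order with a conjugate in the subgroup (helper28)
-/

set_option autoImplicit false
set_option linter.style.haveILetI false
set_option linter.unusedSectionVars false
set_option linter.unusedVariables false

namespace Cfsg.Agent.Helper28.BGS

open Matrix Cfsg.Agent.Helper28.SympIso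

open scoped MatrixGroups

theorem field_type_main {F : Type*} [Field F] [Fintype F] {p : ℕ} [Fact p.Prime] [CharP F p]
    {q : ℕ} (hq : Fintype.card F = q)
    (d : ℕ) (hd : 2 ≤ d) (hT : (d, q) ≠ (2, 2)) (k : ℕ) (hk : k.Prime)
    (K : Subalgebra F (Matrix (Fin d ⊕ Fin d) (Fin d ⊕ Fin d) F))
    (hK : Cfsg.Geo.IsFieldSubalgebra k K)
    (hKf : Cfsg.Geo.IsSelfAdjointFor (Cfsg.sympForm d F) K)
    (hKalt : ∀ a ∈ K, ∀ v : Fin d ⊕ Fin d → F, Cfsg.sympForm d F (a *ᵥ v) v = 0)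
    (r : ℕ) [Fact r.Prime]
    (hΩ : r ∣ (Cfsg.Geo.subalgebraNormalizer K).relIndex (Cfsg.spGL d F)) :
    (∀ x ∈ Cfsg.spGL d F, (∃ z : F, ((x ^ r : GL (Fin d ⊕ Fin d) F) :
        Matrix (Fin d ⊕ Fin d) (Fin d ⊕ Fin d) F) =
          z • (1 : Matrix (Fin d ⊕ Fin d) (Fin d ⊕ Fin d) F)) →
      (∀ z : F, (x : Matrix (Fin d ⊕ Fin d) (Fin d ⊕ Fin d) F) ≠
        z • (1 : Matrix (Fin d ⊕ Fin d) (Fin d ⊕ Fin d) F)) →
      ∃ g ∈ Cfsg.spGL d F, g⁻¹ * x * g ∈ Cfsg.Geo.subalgebraNormalizer K) ↔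
    (r = 2 ∧ d = 2 ∧ k = 2 ∧ Odd q) := by
  constructor
  · intro hall
    exact necessary p hq hd hk hK (saForm_sympBil hKf hKalt) r hΩ hall
  · rintro ⟨rfl, rfl, rfl, hodd⟩
    intro x hx hx2 hns
    have hoddF : Odd (Fintype.card F) := by rw [hq]; exact hodd
    exact sufficient hoddF K hK hKf x hx hx2 hns

end Cfsg.Agent.Helper28.BGS
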