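import Mathlib
import Cfsg.Agent.Lib.Helper28.BGS9

/-!
# Semisimple symplectic elements of odd prime order: a variant recording that `1` is not a
root of the polynomial (helper28)
-/

set_option autoImplicit false
set_option linter.style.haveILetI false
set_option linter.unusedSectionVars false
set_option linter.unusedVariables false

namespace Cfsg.Agent.Helper28.BGS

open Module Polynomial Cfsg.Agent.Helper13.SympSS Cfsg.Agent.Helper13.SS
  Cfsg.Agent.Helper13.Dual Cfsg.Agent.Helper28.SympIso Cfsg.Agent.Helper13.SympDer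
  Cfsg.Agent.Helper28.BGU

universe u

section element

variable {F : Type u} [Field F] [Fintype F] {p : ℕ} [Fact p.Prime] [CharP F p] {q : ℕ}

/-- even order of `q` modulo `r`: an element with a primary component of that dimension for a
polynomial not vanishing at `1` -/
theorem exists_elt_even' (hF : Fintype.card F = q) (r : ℕ) [Fact r.Prime] (hr2 : r ≠ 2)
    (hrp : r ≠ p) (d i' : ℕ) (hi : orderOf (q : ZMod r) = 2 * i') (hi0 : 0 < i')
    (hle : i' ≤ d) :
    ∃ x : Matrix.symplecticGroup (Fin d) F, x ^ r = 1 ∧ ∃ f : F[X],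
      kdim (Matrix.toLin' (x : Matrix (Fin d ⊕ Fin d) (Fin d ⊕ Fin d) F)) f = 2 * i' ∧
      f.eval 1 ≠ 0 ∧
      2 * d ≤ kdim (Matrix.toLin' (x : Matrix (Fin d ⊕ Fin d) (Fin d ⊕ Fin d) F)) (X - C 1) +
        2 * i' := by
  have hr : r.Prime := Fact.out
  obtain ⟨f, hf⟩ := exists_cycFactor (F := F) hF r hrp
  have hfirr := cycFactors_irreducible hf
  have hfmon := cycFactors_monic hf
  have hfdvd : f ∣ X ^ r - 1 := cycFactors_dvd_X_pow hf
  have hi0' : 0 < orderOf (q : ZMod r) := by omega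
  have hfd : dualPoly r f = f :=
    dualPoly_eq_self_of_even hF hr hi0' ⟨i', by omega⟩ hf
  have hroot := root_pow_ne_root hr hr2 hrp hf
  obtain ⟨V₂, _, _, _, A₂, B₂, hA₂r, hAB₂, hA₂c⟩ :=
    sreal_selfdual hr.one_le hfirr hfmon hfdvd hfd hroot
  have hdim₂ : finrank F V₂ = 2 * i' := by
    rw [← LinearMap.charpoly_natDegree A₂, hA₂c, cycFactors_natDegree hF hr hrp hf, hi]
  have hA₂f : aeval A₂ f = 0 := by
    rw [← hA₂c]
    exact LinearMap.aeval_self_charpoly A₂
  obtain ⟨x, hxr, hx1, hx2, hx3⟩ := glue_block A₂ B₂ hAB₂ r hA₂r d _ hle hdim₂ f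
    (cycFactors_eval_one_ne_zero hr hrp hf)
  refine ⟨x, hxr, f, ?_, cycFactors_eval_one_ne_zero hr hrp hf, hx2⟩
  rw [hx1]
  unfold kdim
  rw [hA₂f, LinearMap.ker_zero, finrank_top, hdim₂]

end element

end Cfsg.Agent.Helper28.BGS
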