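import Mathlib

/-!
# Ranks of Kronecker products minus scalars (helper28)
-/

set_option autoImplicit false
set_option linter.style.haveILetI false
set_option linter.unusedSectionVars false
set_option linter.unusedVariables false

namespace Cfsg.Agent.Helper28.BGT

open Matrix Module
open scoped Kronecker

section kron

variable {K : Type*} [Field K] {a b : ℕ}

/-- the pure tensor of two coordinate vectors -/
def tvec (u : Fin a → K) (w : Fin b → K) : Fin a × Fin b → K := fun ij => u ij.1 * w ij.2

theorem kronecker_mulVec_tvec (A : Matrix (Fin a) (Fin a) K) (B : Matrix (Fin b) (Fin b) K)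
    (u : Fin a → K) (w : Fin b → K) :
    (A ⊗ₖ B) *ᵥ tvec u w = tvec (A *ᵥ u) (B *ᵥ w) := by
  funext ij
  obtain ⟨i, j⟩ := ij
  simp only [Matrix.mulVec, dotProduct, tvec, Matrix.kroneckerMap_apply]
  rw [Fintype.sum_prod_type, Finset.sum_mul_sum]
  apply Finset.sum_congr rfl
  intro k _
  apply Finset.sum_congr rfl
  intro l _
  ring

/-- the linear map `w ↦ u ⊗ w` -/
def tvecLin (u : Fin a → K) : (Fin b → K) →ₗ[K] (Fin a × Fin b → K) where
  toFun w := tvec u w
  map_add' w w' := by
    funext ij
    simp only [tvec, Pi.add_apply]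
    ring
  map_smul' c w := by
    funext ij
    simp only [tvec, Pi.smul_apply, smul_eq_mul, RingHom.id_apply]
    ring

/-- a non-scalar matrix moves some vector off its line, witnessed by a non-vanishing minor -/
theorem exists_minor_of_not_scalar (A : Matrix (Fin a) (Fin a) K)
    (h : ∀ α : K, A ≠ α • (1 : Matrix (Fin a) (Fin a) K)) :
    ∃ (u : Fin a → K) (j1 j2 : Fin a), u j1 * (A *ᵥ u) j2 ≠ u j2 * (A *ᵥ u) j1 := by
  classical
  by_cases hoff : ∃ j1 j2 : Fin a, j1 ≠ j2 ∧ A j2 j1 ≠ 0
  · obtain ⟨j1, j2, hne, hA⟩ := hoff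
    refine ⟨Pi.single j1 1, j1, j2, ?_⟩
    rw [Matrix.mulVec_single_one, Pi.single_eq_same, Pi.single_eq_of_ne (Ne.symm hne), one_mul,
      zero_mul]
    exact hA
  · rw [not_exists] at hoff
    have hoff' : ∀ j1 j2 : Fin a, j1 ≠ j2 → A j2 j1 = 0 := by
      intro j1 j2 hne
      by_contra h0
      exact hoff j1 ⟨j2, hne, h0⟩
    by_cases hd : ∃ j1 j2 : Fin a, A j1 j1 ≠ A j2 j2
    · obtain ⟨j1, j2, hA⟩ := hd
      have hne : j1 ≠ j2 := by
        rintro rfl
        exact hA rfl
      refine ⟨Pi.single j1 1 + Pi.single j2 1, j1, j2, ?_⟩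
      rw [Matrix.mulVec_add, Matrix.mulVec_single_one, Matrix.mulVec_single_one]
      simp only [Pi.add_apply, Pi.single_eq_same, Pi.single_eq_of_ne hne,
        Pi.single_eq_of_ne (Ne.symm hne), Matrix.col_apply]
      rw [hoff' j1 j2 hne, hoff' j2 j1 (Ne.symm hne)]
      intro h1
      apply hA
      linear_combination -h1
    · exfalso
      rw [not_exists] at hd
      have hd' : ∀ j1 j2 : Fin a, A j1 j1 = A j2 j2 := by
        intro j1 j2
        by_contra h0
        exact hd j1 ⟨j2, h0⟩
      rcases Nat.eq_zero_or_pos a with ha | ha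
      · subst ha
        apply h 0
        ext i
        exact i.elim0
      · set j0 : Fin a := ⟨0, ha⟩
        apply h (A j0 j0)
        ext i j
        by_cases hij : i = j
        · subst hij
          rw [Matrix.smul_apply, Matrix.one_apply_eq, smul_eq_mul, mul_one]
          exact hd' i j0
        · rw [Matrix.smul_apply, Matrix.one_apply_ne hij, smul_zero]
          exact hoff' j i (Ne.symm hij)

/-- **K1**: if `A` is not scalar and `B` is injective, then `A ⊗ B - μ` has rank at least `b` -/
theorem le_rank_kronecker_sub (A : Matrix (Fin a) (Fin a) K) (B : Matrix (Fin b) (Fin b) K)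
    (hA : ∀ α : K, A ≠ α • (1 : Matrix (Fin a) (Fin a) K))
    (hB : ∀ w : Fin b → K, B *ᵥ w = 0 → w = 0) (μ : K) :
    b ≤ (A ⊗ₖ B - μ • (1 : Matrix (Fin a × Fin b) (Fin a × Fin b) K)).rank := by
  classical
  obtain ⟨u, j1, j2, hminor⟩ := exists_minor_of_not_scalar A hA
  set N : Matrix (Fin a × Fin b) (Fin a × Fin b) K :=
    A ⊗ₖ B - μ • (1 : Matrix (Fin a × Fin b) (Fin a × Fin b) K) with hN
  set T : (Fin b → K) →ₗ[K] (Fin a × Fin b → K) := N.mulVecLin ∘ₗ tvecLin u with hT
  have hTapp : ∀ w, T w = tvec (A *ᵥ u) (B *ᵥ w) - μ • tvec u w := by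
    intro w
    show N *ᵥ tvec u w = _
    rw [hN, Matrix.sub_mulVec, kronecker_mulVec_tvec, Matrix.smul_mulVec, Matrix.one_mulVec]
  have hinj : Function.Injective T := by
    rw [← LinearMap.ker_eq_bot, LinearMap.ker_eq_bot']
    intro w hw
    apply hB
    funext k
    rw [hTapp] at hw
    have e1 := congrFun hw (j1, k)
    have e2 := congrFun hw (j2, k)
    simp only [tvec, Pi.sub_apply, Pi.smul_apply, smul_eq_mul, Pi.zero_apply] at e1 e2
    have h3 : (u j1 * (A *ᵥ u) j2 - u j2 * (A *ᵥ u) j1) * (B *ᵥ w) k = 0 := by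
      linear_combination (u j1) * e2 - (u j2) * e1
    rcases mul_eq_zero.1 h3 with h4 | h4
    · exact absurd (sub_eq_zero.1 h4) hminor
    · exact h4
  have h1 : finrank K (LinearMap.range T) = b := by
    rw [LinearMap.finrank_range_of_inj hinj, Module.finrank_fin_fun]
  have h2 : LinearMap.range T ≤ LinearMap.range N.mulVecLin := by
    rw [hT]
    exact LinearMap.range_comp_le_range _ _
  have h3 := Submodule.finrank_mono h2
  rw [h1] at h3
  exact h3

end kron

end Cfsg.Agent.Helper28.BGT
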