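import Mathlib
import Cfsg.Agent.Lib.Helper28.BGT1

/-!
# The rank of `1 ⊗ M` (helper28)
-/

set_option autoImplicit false
set_option linter.style.haveILetI false
set_option linter.unusedSectionVars false
set_option linter.unusedVariables false

namespace Cfsg.Agent.Helper28.BGT

open Matrix Module
open scoped Kronecker

section onekron

variable {K : Type*} [Field K] {a b : ℕ}

theorem one_kronecker_mulVec (M : Matrix (Fin b) (Fin b) K) (v : Fin a × Fin b → K)
    (i : Fin a) (j : Fin b) :
    (((1 : Matrix (Fin a) (Fin a) K) ⊗ₖ M) *ᵥ v) (i, j) = (M *ᵥ fun j' => v (i, j')) j := by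
  classical
  simp only [Matrix.mulVec, dotProduct, Matrix.kroneckerMap_apply]
  rw [Fintype.sum_prod_type, Finset.sum_eq_single i]
  · apply Finset.sum_congr rfl
    intro l _
    rw [Matrix.one_apply_eq, one_mul]
  · intro k _ hk
    apply Finset.sum_eq_zero
    intro l _
    rw [Matrix.one_apply_ne (Ne.symm hk), zero_mul, zero_mul]
  · intro h
    exact absurd (Finset.mem_univ i) h

/-- the kernel of `1 ⊗ M` is the product of `a` copies of the kernel of `M` -/
noncomputable def kerEquiv (M : Matrix (Fin b) (Fin b) K) :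
    LinearMap.ker ((1 : Matrix (Fin a) (Fin a) K) ⊗ₖ M).mulVecLin ≃ₗ[K]
      (Fin a → LinearMap.ker M.mulVecLin) where
  toFun v := fun i => ⟨fun j => v.1 (i, j), by
    rw [LinearMap.mem_ker, Matrix.mulVecLin_apply]
    funext j
    have h1 := v.2
    rw [LinearMap.mem_ker, Matrix.mulVecLin_apply] at h1
    have h2 := congrFun h1 (i, j)
    rw [one_kronecker_mulVec] at h2
    exact h2⟩
  map_add' v w := by
    funext i
    apply Subtype.ext
    funext j
    rfl
  map_smul' c v := by
    funext i
    apply Subtype.ext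
    funext j
    rfl
  invFun f := ⟨fun ij => (f ij.1).1 ij.2, by
    rw [LinearMap.mem_ker, Matrix.mulVecLin_apply]
    funext ij
    obtain ⟨i, j⟩ := ij
    rw [one_kronecker_mulVec]
    have h1 := (f i).2
    rw [LinearMap.mem_ker, Matrix.mulVecLin_apply] at h1
    exact congrFun h1 j⟩
  left_inv v := by
    apply Subtype.ext
    funext ij
    rfl
  right_inv f := by
    funext i
    apply Subtype.ext
    funext j
    rfl

/-- **K2**: the rank of `1 ⊗ M` -/
theorem rank_one_kronecker (M : Matrix (Fin b) (Fin b) K) :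
    ((1 : Matrix (Fin a) (Fin a) K) ⊗ₖ M).rank = a * M.rank := by
  have h1 := LinearMap.finrank_range_add_finrank_ker
    ((1 : Matrix (Fin a) (Fin a) K) ⊗ₖ M).mulVecLin
  have h2 := LinearMap.finrank_range_add_finrank_ker M.mulVecLin
  have h3 : finrank K (LinearMap.ker ((1 : Matrix (Fin a) (Fin a) K) ⊗ₖ M).mulVecLin) =
      a * finrank K (LinearMap.ker M.mulVecLin) := by
    rw [LinearEquiv.finrank_eq (kerEquiv (a := a) M), Module.finrank_pi_fintype]
    simp
  rw [Module.finrank_pi, Fintype.card_prod, Fintype.card_fin, Fintype.card_fin] at h1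
  rw [Module.finrank_fin_fun] at h2
  unfold Matrix.rank
  rw [h3] at h1
  have h4 : a * finrank K (LinearMap.range M.mulVecLin) +
      a * finrank K (LinearMap.ker M.mulVecLin) = a * b := by
    rw [← Nat.mul_add, h2]
  omega

theorem smul_one_kronecker_sub (α μ : K) (B : Matrix (Fin b) (Fin b) K) :
    (α • (1 : Matrix (Fin a) (Fin a) K)) ⊗ₖ B -
        μ • (1 : Matrix (Fin a × Fin b) (Fin a × Fin b) K) =
      (1 : Matrix (Fin a) (Fin a) K) ⊗ₖ (α • B - μ • (1 : Matrix (Fin b) (Fin b) K)) := by
  rw [sub_eq_add_neg, sub_eq_add_neg, Matrix.kronecker_add, Matrix.smul_kronecker,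
    Matrix.kronecker_smul, ← neg_smul, ← neg_smul, Matrix.kronecker_smul,
    Matrix.one_kronecker_one]

/-- the rank of `(α • 1) ⊗ B - μ` -/
theorem rank_smul_one_kronecker_sub (α μ : K) (B : Matrix (Fin b) (Fin b) K) :
    ((α • (1 : Matrix (Fin a) (Fin a) K)) ⊗ₖ B -
        μ • (1 : Matrix (Fin a × Fin b) (Fin a × Fin b) K)).rank =
      a * (α • B - μ • (1 : Matrix (Fin b) (Fin b) K)).rank := by
  rw [smul_one_kronecker_sub, rank_one_kronecker]

theorem kronecker_pow (A : Matrix (Fin a) (Fin a) K) (B : Matrix (Fin b) (Fin b) K) (k : ℕ) :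
    (A ⊗ₖ B) ^ k = (A ^ k) ⊗ₖ (B ^ k) := by
  induction k with
  | zero => rw [pow_zero, pow_zero, pow_zero, Matrix.one_kronecker_one]
  | succ k ih => rw [pow_succ, pow_succ, pow_succ, ih, Matrix.mul_kronecker_mul]

theorem eq_zero_of_rank_eq_zero' {ι : Type*} [Fintype ι] [DecidableEq ι] (M : Matrix ι ι K)
    (h : M.rank = 0) : M = 0 := by
  rw [Matrix.rank, Submodule.finrank_eq_zero, LinearMap.range_eq_bot] at h
  ext i j
  have h1 : M.mulVecLin (Pi.single j 1) = 0 := by rw [h]; rfl
  rw [Matrix.mulVecLin_apply, Matrix.mulVec_single_one] at h1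
  exact congrFun h1 i

end onekron

end Cfsg.Agent.Helper28.BGT
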