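import Mathlib
import Cfsg.Prelude.Def_GeometricClasses
set_option autoImplicit false
open Cfsg
namespace Cfsg.Agent.H28TF
open Matrix Kronecker

variable {F : Type*} [Field F] {ι : Type} [Fintype ι] [DecidableEq ι] {n₁ n₂ : ℕ}

/-- the transfer isomorphism from the matrices indexed by pairs -/
def Th (e : ι ≃ Fin n₁ × Fin n₂) (P : GL ι F) : GL (Fin n₁ × Fin n₂) F ≃* GL ι F :=
  (Cfsg.Geo.glReindex e.symm).trans (MulAut.conj P)

/-- the parametrisation of the vectors -/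
def ps (e : ι ≃ Fin n₁ × Fin n₂) (P : GL ι F) (x : Fin n₁ × Fin n₂ → F) : ι → F :=
  (P : Matrix ι ι F) *ᵥ (x ∘ e)

theorem glReindex_val (e : ι ≃ Fin n₁ × Fin n₂) (g : GL (Fin n₁ × Fin n₂) F) :
    ((Cfsg.Geo.glReindex e.symm g : GL ι F) : Matrix ι ι F) =
      (g : Matrix (Fin n₁ × Fin n₂) (Fin n₁ × Fin n₂) F).submatrix e e := by
  unfold Cfsg.Geo.glReindex
  rfl

theorem glReindex_mulVec (e : ι ≃ Fin n₁ × Fin n₂) (g : GL (Fin n₁ × Fin n₂) F)
    (x : Fin n₁ × Fin n₂ → F) :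
    ((Cfsg.Geo.glReindex e.symm g : GL ι F) : Matrix ι ι F) *ᵥ (x ∘ e) =
      ((g : Matrix (Fin n₁ × Fin n₂) (Fin n₁ × Fin n₂) F) *ᵥ x) ∘ e := by
  rw [glReindex_val]
  funext i
  simp only [Matrix.mulVec, dotProduct, Matrix.submatrix_apply, Function.comp_apply]
  exact Equiv.sum_comp e (fun b => (g : Matrix (Fin n₁ × Fin n₂) (Fin n₁ × Fin n₂) F) (e i) b * x b)

theorem Th_mulVec (e : ι ≃ Fin n₁ × Fin n₂) (P : GL ι F) (g : GL (Fin n₁ × Fin n₂) F)
    (x : Fin n₁ × Fin n₂ → F) :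
    ((Th e P g : GL ι F) : Matrix ι ι F) *ᵥ ps e P x =
      ps e P ((g : Matrix (Fin n₁ × Fin n₂) (Fin n₁ × Fin n₂) F) *ᵥ x) := by
  unfold Th ps
  show ((P * Cfsg.Geo.glReindex e.symm g * P⁻¹ : GL ι F) : Matrix ι ι F) *ᵥ _ = _
  rw [Matrix.mulVec_mulVec, ← Units.val_mul, inv_mul_cancel_right, Units.val_mul,
    ← Matrix.mulVec_mulVec, glReindex_mulVec]

theorem ps_surjective (e : ι ≃ Fin n₁ × Fin n₂) (P : GL ι F) : Function.Surjective (ps e P) := by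
  intro y
  refine ⟨(((P⁻¹ : GL ι F) : Matrix ι ι F) *ᵥ y) ∘ e.symm, ?_⟩
  unfold ps
  have : ((((P⁻¹ : GL ι F) : Matrix ι ι F) *ᵥ y) ∘ e.symm) ∘ e = ((P⁻¹ : GL ι F) : Matrix ι ι F) *ᵥ y := by
    funext i
    simp
  rw [this, Matrix.mulVec_mulVec, ← Units.val_mul, mul_inv_cancel, Units.val_one, Matrix.one_mulVec]

theorem tps_eq (e : ι ≃ Fin n₁ × Fin n₂) (P : GL ι F) :
    Cfsg.Geo.tensorProductSubgroup n₁ n₂ e P =
      (Cfsg.Geo.kroneckerSubgroup n₁ n₂ F).map (Th e P).toMonoidHom := by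
  unfold Cfsg.Geo.tensorProductSubgroup Th
  rw [Subgroup.map_map]
  rfl

/-- transfer of the isometry condition -/
theorem Th_mem_preserving (e : ι ≃ Fin n₁ × Fin n₂) (P : GL ι F)
    (f : (ι → F) → (ι → F) → F) (B : (Fin n₁ × Fin n₂ → F) → (Fin n₁ × Fin n₂ → F) → F)
    (c : F) (hc : c ≠ 0) (hB : ∀ x y, f (ps e P x) (ps e P y) = c * B x y)
    (g : GL (Fin n₁ × Fin n₂) F) :
    Th e P g ∈ Cfsg.preserving (Cfsg.glToMat ι F) f ↔
      g ∈ Cfsg.preserving (Cfsg.glToMat (Fin n₁ × Fin n₂) F) B := by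
  constructor
  · intro h x y
    have h1 := h (ps e P x) (ps e P y)
    show B ((g : Matrix _ _ F) *ᵥ x) ((g : Matrix _ _ F) *ᵥ y) = B x y
    have h2 : f (((Th e P g : GL ι F) : Matrix ι ι F) *ᵥ ps e P x)
        (((Th e P g : GL ι F) : Matrix ι ι F) *ᵥ ps e P y) = f (ps e P x) (ps e P y) := h1
    rw [Th_mulVec, Th_mulVec, hB, hB] at h2
    exact mul_left_cancel₀ hc h2
  · intro h u v
    obtain ⟨x, rfl⟩ := ps_surjective e P u
    obtain ⟨y, rfl⟩ := ps_surjective e P v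
    show f (((Th e P g : GL ι F) : Matrix ι ι F) *ᵥ ps e P x)
        (((Th e P g : GL ι F) : Matrix ι ι F) *ᵥ ps e P y) = f (ps e P x) (ps e P y)
    rw [Th_mulVec, Th_mulVec, hB, hB]
    congr 1
    exact h x y

/-- the sandwich transfers -/
theorem sandwich (e : ι ≃ Fin n₁ × Fin n₂) (P : GL ι F) (I : Subgroup (GL ι F))
    (K₀ : Subgroup (GL (Fin n₁ × Fin n₂) F))
    (h1 : Cfsg.Geo.kroneckerSubgroup n₁ n₂ F ⊓ I.comap (Th e P).toMonoidHom < K₀)
    (h2 : K₀ < I.comap (Th e P).toMonoidHom) :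
    ∃ K : Subgroup (GL ι F), Cfsg.Geo.tensorProductSubgroup n₁ n₂ e P ⊓ I < K ∧ K < I := by
  have hinj : Function.Injective (Th e P).toMonoidHom := (Th e P).injective
  have hsurj : Function.Surjective (Th e P).toMonoidHom := (Th e P).surjective
  refine ⟨K₀.map (Th e P).toMonoidHom, ?_, ?_⟩
  · have : Cfsg.Geo.tensorProductSubgroup n₁ n₂ e P ⊓ I =
        (Cfsg.Geo.kroneckerSubgroup n₁ n₂ F ⊓ I.comap (Th e P).toMonoidHom).map
          (Th e P).toMonoidHom := by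
      rw [tps_eq, Subgroup.map_inf _ _ _ hinj, Subgroup.map_comap_eq_self_of_surjective hsurj]
    rw [this]
    exact (Subgroup.map_lt_map_iff_of_injective hinj).mpr h1
  · have := (Subgroup.map_lt_map_iff_of_injective hinj).mpr h2
    rwa [Subgroup.map_comap_eq_self_of_surjective hsurj] at this

/-- changing the matrix `P` by an element of the Kronecker subgroup -/
theorem tps_mul (e : ι ≃ Fin n₁ × Fin n₂) (P : GL ι F) (u : GL (Fin n₁ × Fin n₂) F)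
    (hu : u ∈ Cfsg.Geo.kroneckerSubgroup n₁ n₂ F) :
    Cfsg.Geo.tensorProductSubgroup n₁ n₂ e (P * Cfsg.Geo.glReindex e.symm u) =
      Cfsg.Geo.tensorProductSubgroup n₁ n₂ e P := by
  rw [tps_eq, tps_eq]
  ext x
  simp only [Subgroup.mem_map]
  constructor
  · rintro ⟨g, hg, rfl⟩
    refine ⟨u * g * u⁻¹, mul_mem (mul_mem hu hg) (inv_mem hu), ?_⟩
    show P * Cfsg.Geo.glReindex e.symm (u * g * u⁻¹) * P⁻¹ =
      (P * Cfsg.Geo.glReindex e.symm u) * Cfsg.Geo.glReindex e.symm g *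
        (P * Cfsg.Geo.glReindex e.symm u)⁻¹
    rw [map_mul, map_mul, map_inv]
    group
  · rintro ⟨g, hg, rfl⟩
    refine ⟨u⁻¹ * g * u, mul_mem (mul_mem (inv_mem hu) hg) hu, ?_⟩
    show (P * Cfsg.Geo.glReindex e.symm u) * Cfsg.Geo.glReindex e.symm (u⁻¹ * g * u) *
        (P * Cfsg.Geo.glReindex e.symm u)⁻¹ = P * Cfsg.Geo.glReindex e.symm g * P⁻¹
    rw [map_mul, map_mul, map_inv]
    group

theorem ps_mul (e : ι ≃ Fin n₁ × Fin n₂) (P : GL ι F) (u : GL (Fin n₁ × Fin n₂) F)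
    (x : Fin n₁ × Fin n₂ → F) :
    ps e (P * Cfsg.Geo.glReindex e.symm u) x =
      ps e P ((u : Matrix (Fin n₁ × Fin n₂) (Fin n₁ × Fin n₂) F) *ᵥ x) := by
  unfold ps
  rw [Units.val_mul, ← Matrix.mulVec_mulVec, glReindex_mulVec]

/-- the form attached to a Gram matrix as a dot product -/
theorem formOfGram_id {κ : Type} [Fintype κ] (G : Matrix κ κ F) (x y : κ → F) :
    Cfsg.Geo.formOfGram id G x y = x ⬝ᵥ (G *ᵥ y) := by
  unfold Cfsg.Geo.formOfGram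
  simp only [dotProduct, Matrix.mulVec, id, Finset.mul_sum, mul_assoc]

theorem formOfGram_mulVec {κ : Type} [Fintype κ] [DecidableEq κ] (G u : Matrix κ κ F) (x y : κ → F) :
    Cfsg.Geo.formOfGram id G (u *ᵥ x) (u *ᵥ y) = Cfsg.Geo.formOfGram id (uᵀ * G * u) x y := by
  rw [formOfGram_id, formOfGram_id, ← Matrix.mulVec_mulVec, ← Matrix.mulVec_mulVec,
    Matrix.dotProduct_mulVec x, Matrix.vecMul_transpose]

theorem formOfGram_smul {κ : Type} [Fintype κ] (G : Matrix κ κ F) (d : F) (x y : κ → F) :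
    Cfsg.Geo.formOfGram id (d • G) x y = d * Cfsg.Geo.formOfGram id G x y := by
  rw [formOfGram_id, formOfGram_id, Matrix.smul_mulVec, dotProduct_smul, smul_eq_mul]

end Cfsg.Agent.H28TF
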