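import Mathlib
import Cfsg.Agent.Lib.Helper28.BGT2
import Cfsg.Agent.Lib.Helper28.BGQ8
import Cfsg.Agent.Lib.Helper28.TensFrameA

/-!
# Conjugates in the stabiliser of a tensor decomposition (helper28)
-/

set_option autoImplicit false
set_option linter.style.haveILetI false
set_option linter.unusedSectionVars false
set_option linter.unusedVariables false

namespace Cfsg.Agent.Helper28.BGT

open Matrix Module Cfsg.Agent.H28TF Cfsg.Agent.Helper28.BGQ
open scoped Kronecker

section transfer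

variable {F : Type*} [Field F] {n a b : ℕ}

theorem mem_tps_iff (e : Fin n ≃ Fin a × Fin b) (P y : GL (Fin n) F) :
    y ∈ Cfsg.Geo.tensorProductSubgroup a b e P ↔
      ∃ k ∈ Cfsg.Geo.kroneckerSubgroup a b F, Th e P k = y := by
  rw [tps_eq]
  rfl

theorem Th_val (e : Fin n ≃ Fin a × Fin b) (P : GL (Fin n) F) (k : GL (Fin a × Fin b) F) :
    ((Th e P k : GL (Fin n) F) : Matrix (Fin n) (Fin n) F) =
      (P : Matrix (Fin n) (Fin n) F) *
        (k : Matrix (Fin a × Fin b) (Fin a × Fin b) F).submatrix e e *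
        ((P⁻¹ : GL (Fin n) F) : Matrix (Fin n) (Fin n) F) := by
  show ((P * Cfsg.Geo.glReindex e.symm k * P⁻¹ : GL (Fin n) F) : Matrix (Fin n) (Fin n) F) = _
  rw [Units.val_mul, Units.val_mul, glReindex_val]

theorem submatrix_sub_smul_one (e : Fin n ≃ Fin a × Fin b)
    (M : Matrix (Fin a × Fin b) (Fin a × Fin b) F) (μ : F) :
    M.submatrix e e - μ • (1 : Matrix (Fin n) (Fin n) F) =
      (M - μ • (1 : Matrix (Fin a × Fin b) (Fin a × Fin b) F)).submatrix e e := by
  ext i j
  simp only [Matrix.sub_apply, Matrix.submatrix_apply, Matrix.smul_apply, Matrix.one_apply,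
    EmbeddingLike.apply_eq_iff_eq]

theorem rank_Th_sub (e : Fin n ≃ Fin a × Fin b) (P : GL (Fin n) F) (k : GL (Fin a × Fin b) F)
    (μ : F) :
    (((Th e P k : GL (Fin n) F) : Matrix (Fin n) (Fin n) F) -
        μ • (1 : Matrix (Fin n) (Fin n) F)).rank =
      ((k : Matrix (Fin a × Fin b) (Fin a × Fin b) F) -
        μ • (1 : Matrix (Fin a × Fin b) (Fin a × Fin b) F)).rank := by
  rw [Th_val, rank_conj_sub _ _ _ (by rw [← Units.val_mul, mul_inv_cancel, Units.val_one]),
    submatrix_sub_smul_one, Matrix.rank_submatrix]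

theorem Th_val_eq_smul_one_iff (e : Fin n ≃ Fin a × Fin b) (P : GL (Fin n) F)
    (k : GL (Fin a × Fin b) F) (z : F) :
    ((Th e P k : GL (Fin n) F) : Matrix (Fin n) (Fin n) F) = z • (1 : Matrix (Fin n) (Fin n) F) ↔
      (k : Matrix (Fin a × Fin b) (Fin a × Fin b) F) =
        z • (1 : Matrix (Fin a × Fin b) (Fin a × Fin b) F) := by
  have hPP : (P : Matrix (Fin n) (Fin n) F) * ((P⁻¹ : GL (Fin n) F) : Matrix (Fin n) (Fin n) F) = 1 := by
    rw [← Units.val_mul, mul_inv_cancel, Units.val_one]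
  have hPP' : ((P⁻¹ : GL (Fin n) F) : Matrix (Fin n) (Fin n) F) * (P : Matrix (Fin n) (Fin n) F) = 1 := by
    rw [← Units.val_mul, inv_mul_cancel, Units.val_one]
  rw [Th_val]
  constructor
  · intro h
    have h1 : (k : Matrix (Fin a × Fin b) (Fin a × Fin b) F).submatrix e e =
        z • (1 : Matrix (Fin n) (Fin n) F) := by
      have h2 : ((P⁻¹ : GL (Fin n) F) : Matrix (Fin n) (Fin n) F) *
          ((P : Matrix (Fin n) (Fin n) F) *
            (k : Matrix (Fin a × Fin b) (Fin a × Fin b) F).submatrix e e *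
            ((P⁻¹ : GL (Fin n) F) : Matrix (Fin n) (Fin n) F)) * (P : Matrix (Fin n) (Fin n) F) =
          ((P⁻¹ : GL (Fin n) F) : Matrix (Fin n) (Fin n) F) *
            (z • (1 : Matrix (Fin n) (Fin n) F)) * (P : Matrix (Fin n) (Fin n) F) := by
        rw [h]
      rw [Matrix.mul_smul, Matrix.mul_one, Matrix.smul_mul, hPP'] at h2
      rw [← h2]
      simp only [Matrix.mul_assoc]
      rw [hPP', Matrix.mul_one, ← Matrix.mul_assoc, hPP', Matrix.one_mul]
    ext i j
    have h3 := congrFun (congrFun h1 (e.symm i)) (e.symm j)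
    simp only [Matrix.submatrix_apply, Equiv.apply_symm_apply, Matrix.smul_apply,
      Matrix.one_apply, EmbeddingLike.apply_eq_iff_eq] at h3
    rw [h3, Matrix.smul_apply, Matrix.one_apply]
  · intro h
    rw [h]
    have h1 : (z • (1 : Matrix (Fin a × Fin b) (Fin a × Fin b) F)).submatrix e e =
        z • (1 : Matrix (Fin n) (Fin n) F) := by
      ext i j
      simp only [Matrix.submatrix_apply, Matrix.smul_apply, Matrix.one_apply,
        EmbeddingLike.apply_eq_iff_eq]
    rw [h1, Matrix.mul_smul, Matrix.mul_one, Matrix.smul_mul, hPP]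

/-- the Kronecker data of an element with a conjugate in the stabiliser of a tensor
decomposition -/
theorem exists_kron_of_conj_mem (e : Fin n ≃ Fin a × Fin b) (P g x : GL (Fin n) F)
    (h : g⁻¹ * x * g ∈ Cfsg.Geo.tensorProductSubgroup a b e P) :
    ∃ (A : GL (Fin a) F) (B : GL (Fin b) F),
      (∀ μ : F, ((x : Matrix (Fin n) (Fin n) F) - μ • (1 : Matrix (Fin n) (Fin n) F)).rank =
        ((A : Matrix (Fin a) (Fin a) F) ⊗ₖ (B : Matrix (Fin b) (Fin b) F) -
          μ • (1 : Matrix (Fin a × Fin b) (Fin a × Fin b) F)).rank) ∧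
      (∀ (m : ℕ) (z : F), ((x ^ m : GL (Fin n) F) : Matrix (Fin n) (Fin n) F) =
          z • (1 : Matrix (Fin n) (Fin n) F) →
        ((A : Matrix (Fin a) (Fin a) F) ⊗ₖ (B : Matrix (Fin b) (Fin b) F)) ^ m =
          z • (1 : Matrix (Fin a × Fin b) (Fin a × Fin b) F)) := by
  obtain ⟨k, ⟨A, B, hk⟩, hkx⟩ := (mem_tps_iff e P _).1 h
  refine ⟨A, B, ?_, ?_⟩
  · intro μ
    rw [← hk, ← rank_Th_sub e P k μ, hkx, Units.val_mul, Units.val_mul,
      rank_conj_sub _ _ _ (by rw [← Units.val_mul, inv_mul_cancel, Units.val_one])]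
  · intro m z hz
    rw [← hk, ← Units.val_pow_eq_pow_val, ← Th_val_eq_smul_one_iff e P (k ^ m) z, map_pow, hkx]
    have h3 : g⁻¹ * x * g = g⁻¹ * x * g⁻¹⁻¹ := by rw [inv_inv]
    rw [h3, conj_pow, inv_inv, Units.val_mul, Units.val_mul, hz, Matrix.mul_smul, Matrix.mul_one,
      Matrix.smul_mul, ← Units.val_mul, inv_mul_cancel, Units.val_one]

theorem Th_mem_tps (e : Fin n ≃ Fin a × Fin b) (P : GL (Fin n) F) (k : GL (Fin a × Fin b) F)
    (A : GL (Fin a) F) (B : GL (Fin b) F)
    (hk : (k : Matrix (Fin a × Fin b) (Fin a × Fin b) F) =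
      (A : Matrix (Fin a) (Fin a) F) ⊗ₖ (B : Matrix (Fin b) (Fin b) F)) :
    Th e P k ∈ Cfsg.Geo.tensorProductSubgroup a b e P :=
  (mem_tps_iff e P _).2 ⟨k, ⟨A, B, hk⟩, rfl⟩

theorem charpoly_Th (e : Fin n ≃ Fin a × Fin b) (P : GL (Fin n) F) (k : GL (Fin a × Fin b) F) :
    ((Th e P k : GL (Fin n) F) : Matrix (Fin n) (Fin n) F).charpoly =
      (k : Matrix (Fin a × Fin b) (Fin a × Fin b) F).charpoly := by
  rw [Th_val, Matrix.charpoly_mul_comm, ← Matrix.mul_assoc, ← Units.val_mul, inv_mul_cancel,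
    Units.val_one, Matrix.one_mul]
  have h1 : (k : Matrix (Fin a × Fin b) (Fin a × Fin b) F).submatrix e e =
      Matrix.reindex e.symm e.symm (k : Matrix (Fin a × Fin b) (Fin a × Fin b) F) := rfl
  rw [h1, Matrix.charpoly_reindex]

end transfer

end Cfsg.Agent.Helper28.BGT
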