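import Mathlib
import Cfsg.Agent.Lib.Helper28.BGT3
import Cfsg.Agent.Lib.Helper28.BGQ4
import Cfsg.Agent.Lib.Helper28.BGO3

/-!
# Elements with scalar square are conjugate into the stabiliser of a tensor decomposition
`2 ⊗ b` (helper28)
-/

set_option autoImplicit false
set_option linter.style.haveILetI false
set_option linter.unusedSectionVars false
set_option linter.unusedVariables false

namespace Cfsg.Agent.Helper28.BGT

open Matrix Module Polynomial Cfsg.Agent.H28TF Cfsg.Agent.Helper28.BGQ Cfsg.Agent.Helper28.BGO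
  Cfsg.Agent.Helper13 Cfsg.Agent.Helper13.SpSim Cfsg.Agent.Helper13.FN Cfsg.Agent.Helper13.SS
open scoped Kronecker

section arith

variable {F : Type*} [Field F] [Fintype F] {n : ℕ}

/-- if the 2-part of `q - 1` is at most that of `n`, then `-1` is not an `n`-th power -/
theorem pow_ne_neg_one (h2 : (2 : F) ≠ 0) (hn : n ≠ 0)
    (hv : padicValNat 2 (Fintype.card F - 1) ≤ padicValNat 2 n) (ω : F) : ω ^ n ≠ -1 := by
  intro h
  have hq1 : 1 < Fintype.card F := Fintype.one_lt_card
  set N := Fintype.card F - 1 with hN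
  have hN0 : N ≠ 0 := by omega
  set v := padicValNat 2 N with hvdef
  have hω0 : ω ≠ 0 := by
    rintro rfl
    rw [zero_pow hn] at h
    have h3 : (0 : F) + 1 = -1 + 1 := by rw [h]
    rw [zero_add, neg_add_cancel] at h3
    exact one_ne_zero h3
  obtain ⟨m, hm⟩ : 2 ^ v ∣ N := pow_padicValNat_dvd
  obtain ⟨n₁, hn₁⟩ : 2 ^ v ∣ n := (padicValNat_dvd_iff_le hn).2 hv
  have hmodd : Odd m := by
    rw [← Nat.not_even_iff_odd]
    rintro ⟨m', hm'⟩
    have h1 : 2 ^ (v + 1) ∣ N := by
      rw [hm, hm', pow_succ]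
      exact ⟨m', by ring⟩
    exact pow_succ_padicValNat_not_dvd hN0 h1
  have h3 : (ω ^ n) ^ m = 1 := by
    rw [← pow_mul]
    have h4 : n * m = N * n₁ := by
      rw [hn₁, hm]
      ring
    rw [h4, pow_mul, hN, FiniteField.pow_card_sub_one_eq_one ω hω0, one_pow]
  rw [h, hmodd.neg_one_pow] at h3
  apply h2
  have h5 : (2 : F) = 1 - (-1) := by ring
  rw [h5, h3, sub_self]

end arith

section units

variable {F : Type*} [Field F] {a b : ℕ}

/-- the Kronecker product of two invertible matrices as an invertible matrix -/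
def kronGL (A : GL (Fin a) F) (B : GL (Fin b) F) : GL (Fin a × Fin b) F :=
  ⟨(A : Matrix (Fin a) (Fin a) F) ⊗ₖ (B : Matrix (Fin b) (Fin b) F),
    ((A⁻¹ : GL (Fin a) F) : Matrix (Fin a) (Fin a) F) ⊗ₖ
      ((B⁻¹ : GL (Fin b) F) : Matrix (Fin b) (Fin b) F),
    by rw [← Matrix.mul_kronecker_mul, ← Units.val_mul, ← Units.val_mul, mul_inv_cancel,
      mul_inv_cancel, Units.val_one, Units.val_one, Matrix.one_kronecker_one],
    by rw [← Matrix.mul_kronecker_mul, ← Units.val_mul, ← Units.val_mul, inv_mul_cancel,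
      inv_mul_cancel, Units.val_one, Units.val_one, Matrix.one_kronecker_one]⟩

theorem kronGL_val (A : GL (Fin a) F) (B : GL (Fin b) F) :
    ((kronGL A B : GL (Fin a × Fin b) F) : Matrix (Fin a × Fin b) (Fin a × Fin b) F) =
      (A : Matrix (Fin a) (Fin a) F) ⊗ₖ (B : Matrix (Fin b) (Fin b) F) := rfl

/-- an invertible matrix from a matrix with a two-sided inverse -/
def glOf {m : ℕ} (M M' : Matrix (Fin m) (Fin m) F) (h1 : M * M' = 1) (h2 : M' * M = 1) :
    GL (Fin m) F := ⟨M, M', h1, h2⟩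

end units

section main

variable {F : Type*} [Field F] [Fintype F] {p : ℕ} [Fact p.Prime] [CharP F p] {n b : ℕ}

theorem conj_of_model (e : Fin n ≃ Fin 2 × Fin b) (P : GL (Fin n) F)
    (x : GL (Fin n) F) (hx : x ∈ Cfsg.Geo.specialLinear (Fin n) F)
    (hxo : (orderOf x).Coprime p) (hp2 : p ≠ 2)
    (A : GL (Fin 2) F) (B : GL (Fin b) F) (z : F) (hz0 : z ≠ 0)
    (hkk : ((A : Matrix (Fin 2) (Fin 2) F) ⊗ₖ (B : Matrix (Fin b) (Fin b) F)) *
        ((A : Matrix (Fin 2) (Fin 2) F) ⊗ₖ (B : Matrix (Fin b) (Fin b) F)) =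
      z • (1 : Matrix (Fin 2 × Fin b) (Fin 2 × Fin b) F))
    (hchar : ((A : Matrix (Fin 2) (Fin 2) F) ⊗ₖ (B : Matrix (Fin b) (Fin b) F)).charpoly =
      (x : Matrix (Fin n) (Fin n) F).charpoly) :
    ∃ g ∈ Cfsg.Geo.specialLinear (Fin n) F,
      g⁻¹ * x * g ∈ Cfsg.Geo.tensorProductSubgroup 2 b e P := by
  set k : GL (Fin 2 × Fin b) F := kronGL A B with hk
  set Y : Matrix (Fin n) (Fin n) F := ((Th e P k : GL (Fin n) F) : Matrix (Fin n) (Fin n) F)
    with hY
  have hYY : Y * Y = z • (1 : Matrix (Fin n) (Fin n) F) := by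
    rw [hY, ← Units.val_mul, ← map_mul, Th_val_eq_smul_one_iff, Units.val_mul, hk, kronGL_val]
    exact hkk
  apply conj_into (p := p) x hx hxo (Cfsg.Geo.tensorProductSubgroup 2 b e P) Y
    (2 * (Fintype.card F - 1)) (coprime_two_card_sub_one hp2)
    (pow_two_card_sub_one Y z hz0 hYY)
  · intro y hy
    have : y = Th e P k := Units.ext hy
    rw [this]
    exact Th_mem_tps e P k A B (kronGL_val A B)
  · rw [hY, charpoly_Th, hk, kronGL_val]
    exact hchar

/-- odd characteristic, the 2-part of `q - 1` at most that of `n = 2 b`: every element of `SL_n`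
with scalar square is conjugate into the stabiliser of a tensor decomposition `2 ⊗ b` -/
theorem conj_invol_tensor (hp2 : p ≠ 2) (hn : n = 2 * b) (hb : 1 ≤ b)
    (hv : padicValNat 2 (Fintype.card F - 1) ≤ padicValNat 2 n)
    (e : Fin n ≃ Fin 2 × Fin b) (P : GL (Fin n) F)
    (x : GL (Fin n) F) (hx : x ∈ Cfsg.Geo.specialLinear (Fin n) F) (z : F)
    (hz : ((x ^ 2 : GL (Fin n) F) : Matrix (Fin n) (Fin n) F) =
      z • (1 : Matrix (Fin n) (Fin n) F)) :
    ∃ g ∈ Cfsg.Geo.specialLinear (Fin n) F,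
      g⁻¹ * x * g ∈ Cfsg.Geo.tensorProductSubgroup 2 b e P := by
  classical
  have hp : p.Prime := Fact.out
  have hn1 : 1 ≤ n := by omega
  have h2 : (2 : F) ≠ 0 := two_ne_zero_of_char_ne (p := p) hp2
  have hz0 : z ≠ 0 := sq_scalar_ne_zero hn1 x z hz
  have hxd : (x : Matrix (Fin n) (Fin n) F).det = 1 := (mem_sl_iff x).1 hx
  have hxM : (x : Matrix (Fin n) (Fin n) F) * (x : Matrix (Fin n) (Fin n) F) =
      z • (1 : Matrix (Fin n) (Fin n) F) := by
    rw [← pow_two, ← Units.val_pow_eq_pow_val]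
    exact hz
  have hxo : (orderOf x).Coprime p := by
    rw [← orderOf_toSL x hxd]
    apply orderOf_coprime_of_sq hp2 (toSL x hxd) z hz0
    rw [Matrix.SpecialLinearGroup.coe_pow, toSL_val, pow_two]
    exact hxM
  by_cases hsq : IsSquare z
  · obtain ⟨ω, rfl⟩ := hsq
    have hω : ω ≠ 0 := fun h => hz0 (by rw [h, mul_zero])
    set t := finrank F (LinearMap.ker (Matrix.toLin'
      ((x : Matrix (Fin n) (Fin n) F) + ω • (1 : Matrix (Fin n) (Fin n) F)))) with ht
    have hcx := charpoly_of_sq_split h2 ω hω (x : Matrix (Fin n) (Fin n) F) hxM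
    rw [← ht] at hcx
    have htn : t ≤ n := by
      have := Submodule.finrank_le (LinearMap.ker (Matrix.toLin'
        ((x : Matrix (Fin n) (Fin n) F) + ω • (1 : Matrix (Fin n) (Fin n) F))))
      rwa [Module.finrank_fin_fun] at this
    -- the determinant
    have hdet : (-ω) ^ (n - t) * ω ^ t = 1 := by
      have h1 := Matrix.det_eq_sign_charpoly_coeff (x : Matrix (Fin n) (Fin n) F)
      rw [hxd, hcx, Polynomial.coeff_zero_eq_eval_zero, Fintype.card_fin] at h1
      simp only [eval_mul, eval_pow, eval_sub, eval_add, eval_X, eval_C, zero_sub, zero_add] at h1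
      have hev : Even n := ⟨b, by omega⟩
      rw [hev.neg_one_pow, one_mul] at h1
      exact h1.symm
    have hteven : Even t := by
      rw [← Nat.not_odd_iff_even]
      intro hodd
      have hodd' : Odd (n - t) := by
        obtain ⟨s, hs⟩ := hodd
        exact ⟨b - s - 1, by omega⟩
      apply pow_ne_neg_one h2 (by omega) hv ω
      have h3 : (-ω) ^ (n - t) = -(ω ^ (n - t)) := hodd'.neg_pow ω
      rw [h3] at hdet
      have h4 : ω ^ n = ω ^ (n - t) * ω ^ t := by
        rw [← pow_add]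
        congr 1
        omega
      rw [h4]
      linear_combination -hdet
    obtain ⟨t', ht'⟩ := hteven
    have ht'b : t' ≤ b := by omega
    -- the model
    set A : GL (Fin 2) F := glOf (ω • (1 : Matrix (Fin 2) (Fin 2) F))
      (ω⁻¹ • (1 : Matrix (Fin 2) (Fin 2) F))
      (by rw [Matrix.smul_mul, Matrix.mul_smul, Matrix.one_mul, smul_smul, mul_inv_cancel₀ hω,
        one_smul])
      (by rw [Matrix.smul_mul, Matrix.mul_smul, Matrix.one_mul, smul_smul, inv_mul_cancel₀ hω,
        one_smul]) with hA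
    have hss : Matrix.diagonal (sgn (F := F) b t') * Matrix.diagonal (sgn (F := F) b t') = 1 := by
      rw [Matrix.diagonal_mul_diagonal, ← Matrix.diagonal_one]
      congr 1
      funext j
      exact sgn_mul_self t' j
    set B : GL (Fin b) F := glOf (Matrix.diagonal (sgn (F := F) b t'))
      (Matrix.diagonal (sgn (F := F) b t')) hss hss with hB
    have hAv : (A : Matrix (Fin 2) (Fin 2) F) = ω • (1 : Matrix (Fin 2) (Fin 2) F) := rfl
    have hBv : (B : Matrix (Fin b) (Fin b) F) = Matrix.diagonal (sgn (F := F) b t') := rfl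
    apply conj_of_model e P x hx hxo hp2 A B (ω * ω) hz0
    · rw [hAv, hBv, ← Matrix.mul_kronecker_mul, hss, Matrix.smul_mul, Matrix.mul_smul,
        Matrix.one_mul, smul_smul, Matrix.smul_kronecker, Matrix.one_kronecker_one]
    · rw [hAv, hBv, hcx, Matrix.smul_one_eq_diagonal, Matrix.diagonal_kronecker_diagonal,
        Matrix.charpoly_diagonal, Fintype.prod_prod_type]
      simp only []
      rw [Finset.prod_const, Finset.card_univ, Fintype.card_fin]
      have h5 := charpoly_smul_diag_sgn (K := F) (n := b) ω t' ht'b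
      have h6 : ω • Matrix.diagonal (sgn (F := F) b t') =
          Matrix.diagonal (fun j => ω * sgn b t' j) := by
        ext i j
        by_cases hij : i = j
        · subst hij
          simp
        · simp [hij]
      rw [h6, Matrix.charpoly_diagonal] at h5
      rw [h5, mul_pow, ← pow_mul, ← pow_mul]
      congr 2 <;> omega
  · have hcx := charpoly_of_sq_nonsplit z hsq (x : Matrix (Fin n) (Fin n) F) hxM
    have hz0' : z⁻¹ * z = 1 := inv_mul_cancel₀ hz0
    set A : GL (Fin 2) F := glOf (!![0, z; 1, 0] : Matrix (Fin 2) (Fin 2) F)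
      (!![0, 1; z⁻¹, 0] : Matrix (Fin 2) (Fin 2) F)
      (by
        ext i j
        fin_cases i <;> fin_cases j <;> simp [Matrix.mul_apply, Fin.sum_univ_two, hz0])
      (by
        ext i j
        fin_cases i <;> fin_cases j <;> simp [Matrix.mul_apply, Fin.sum_univ_two, hz0]) with hA
    have hAv : (A : Matrix (Fin 2) (Fin 2) F) = !![0, z; 1, 0] := rfl
    have hAA : (A : Matrix (Fin 2) (Fin 2) F) * (A : Matrix (Fin 2) (Fin 2) F) =
        z • (1 : Matrix (Fin 2) (Fin 2) F) := by
      rw [hAv]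
      ext i j
      fin_cases i <;> fin_cases j <;> simp [Matrix.mul_apply, Fin.sum_univ_two]
    have hkk : ((A : Matrix (Fin 2) (Fin 2) F) ⊗ₖ ((1 : GL (Fin b) F) : Matrix (Fin b) (Fin b) F)) *
        ((A : Matrix (Fin 2) (Fin 2) F) ⊗ₖ ((1 : GL (Fin b) F) : Matrix (Fin b) (Fin b) F)) =
        z • (1 : Matrix (Fin 2 × Fin b) (Fin 2 × Fin b) F) := by
      rw [← Matrix.mul_kronecker_mul, hAA, Units.val_one, Matrix.one_mul, Matrix.smul_kronecker,
        Matrix.one_kronecker_one]
    apply conj_of_model e P x hx hxo hp2 A 1 z hz0 hkk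
    -- the characteristic polynomial of the model, through its transfer to `Fin n`
    set k : GL (Fin 2 × Fin b) F := kronGL A 1 with hk
    have hYY : ((Th e P k : GL (Fin n) F) : Matrix (Fin n) (Fin n) F) *
        ((Th e P k : GL (Fin n) F) : Matrix (Fin n) (Fin n) F) =
        z • (1 : Matrix (Fin n) (Fin n) F) := by
      rw [← Units.val_mul, ← map_mul, Th_val_eq_smul_one_iff, Units.val_mul, hk, kronGL_val]
      exact hkk
    have h7 := charpoly_of_sq_nonsplit z hsq _ hYY
    rw [charpoly_Th, hk, kronGL_val] at h7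
    rw [h7, hcx]

end main

end Cfsg.Agent.Helper28.BGT
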