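import Mathlib
import Cfsg.Agent.Lib.Helper28.BGT3
import Cfsg.Agent.Lib.Helper13.PrimeOrderSemisimple

/-!
# Criteria for having no conjugate in the stabiliser of a tensor decomposition (helper28)
-/

set_option autoImplicit false
set_option linter.style.haveILetI false
set_option linter.unusedSectionVars false
set_option linter.unusedVariables false

namespace Cfsg.Agent.Helper28.BGT

open Matrix Module Cfsg.Agent.H28TF Cfsg.Agent.Helper28.BGQ Cfsg.Agent.Helper13.POS
open scoped Kronecker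

section order

variable {F : Type*} [Field F] [Fintype F] {m : ℕ}

theorem toLin'_pow' (Y : Matrix (Fin m) (Fin m) F) (k : ℕ) :
    Matrix.toLin' (Y ^ k) = (Matrix.toLin' Y) ^ k := by
  induction k with
  | zero => rw [pow_zero, pow_zero, Matrix.toLin'_one]; rfl
  | succ k ih => rw [pow_succ, pow_succ, Matrix.toLin'_mul, ih]; rfl

/-- **R1**: the rank of `Y - 1` for `Y ^ r = 1` is divisible by the order of `q` modulo `r` -/
theorem dvd_rank_sub_one (r : ℕ) [Fact r.Prime] (hrF : (r : F) ≠ 0)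
    (Y : Matrix (Fin m) (Fin m) F) (hY : Y ^ r = 1) :
    orderOf ((Fintype.card F : ℕ) : ZMod r) ∣ (Y - 1).rank := by
  set f : (Fin m → F) →ₗ[F] (Fin m → F) := Matrix.toLin' Y with hf
  have hfr : f ^ r = 1 := by
    rw [hf, ← toLin'_pow', hY, Matrix.toLin'_one]
    rfl
  have h1 := orderOf_dvd_finrank_sub r hrF f hfr ⊤ (fun v _ => Submodule.mem_top)
  rw [finrank_top, Module.finrank_fin_fun, top_inf_eq] at h1
  have h2 : f - 1 = (Y - 1).mulVecLin := by
    rw [hf, ← Matrix.toLin'_apply', map_sub, Matrix.toLin'_one]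
    rfl
  rw [h2] at h1
  have h3 := LinearMap.finrank_range_add_finrank_ker (Y - 1).mulVecLin
  rw [Module.finrank_fin_fun] at h3
  have h4 : (Y - 1).rank = m - finrank F (LinearMap.ker (Y - 1).mulVecLin) := by
    unfold Matrix.rank
    omega
  rw [h4]
  exact h1

/-- **R4**: a matrix of size less than the order of `q` modulo `r` whose `r`-th power is a
nonzero scalar is scalar, when `r` does not divide `q - 1` -/
theorem scalar_of_pow_scalar (r : ℕ) [Fact r.Prime] (hrF : (r : F) ≠ 0)
    (hrq : ¬ r ∣ Fintype.card F - 1)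
    (A : Matrix (Fin m) (Fin m) F) (c : F) (hc : c ≠ 0)
    (hA : A ^ r = c • (1 : Matrix (Fin m) (Fin m) F))
    (hm : m < orderOf ((Fintype.card F : ℕ) : ZMod r)) :
    ∃ d : F, A = d • (1 : Matrix (Fin m) (Fin m) F) := by
  classical
  have hr : r.Prime := Fact.out
  have hcop : (Nat.card Fˣ).Coprime r := by
    rw [Nat.card_eq_fintype_card, Fintype.card_units, Nat.coprime_comm]
    exact (Nat.Prime.coprime_iff_not_dvd hr).2 hrq
  obtain ⟨d, hd⟩ := (powCoprime hcop).surjective (Units.mk0 c hc)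
  have hd' : (d : F) ^ r = c := by
    have := congrArg Units.val hd
    simpa [powCoprime] using this
  set Y : Matrix (Fin m) (Fin m) F := (d : F)⁻¹ • A with hYdef
  have hY : Y ^ r = 1 := by
    rw [hYdef, smul_pow, hA, smul_smul, inv_pow, hd', inv_mul_cancel₀ hc, one_smul]
  have h1 := dvd_rank_sub_one r hrF Y hY
  have h2 : (Y - 1).rank ≤ m := by
    have := Matrix.rank_le_card_width (Y - 1)
    rwa [Fintype.card_fin] at this
  have h3 : (Y - 1).rank = 0 := Nat.eq_zero_of_dvd_of_lt h1 (lt_of_le_of_lt h2 hm)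
  have h4 := eq_zero_of_rank_eq_zero' (Y - 1) h3
  refine ⟨(d : F), ?_⟩
  have h5 : Y = 1 := sub_eq_zero.1 h4
  rw [hYdef] at h5
  have h6 : A = (d : F) • ((d : F)⁻¹ • A) := by
    rw [smul_smul, mul_inv_cancel₀ d.ne_zero, one_smul]
  rw [h6, h5]

end order

section criteria

variable {F : Type*} [Field F] {n a b : ℕ}

theorem gl_mulVec_eq_zero {m : ℕ} (B : GL (Fin m) F) (w : Fin m → F)
    (h : (B : Matrix (Fin m) (Fin m) F) *ᵥ w = 0) : w = 0 := by
  have h1 : ((B⁻¹ : GL (Fin m) F) : Matrix (Fin m) (Fin m) F) *ᵥ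
      ((B : Matrix (Fin m) (Fin m) F) *ᵥ w) = w := by
    rw [Matrix.mulVec_mulVec, ← Units.val_mul, inv_mul_cancel, Units.val_one, Matrix.one_mulVec]
  rw [← h1, h, Matrix.mulVec_zero]

/-- **C1**: a non-scalar element with `x - μ` of rank at most one has no conjugate in the
stabiliser of a tensor decomposition with both factors of dimension at least two -/
theorem not_conj_of_rank_le_one (ha : 2 ≤ a) (hb : 2 ≤ b) (e : Fin n ≃ Fin a × Fin b)
    (P x : GL (Fin n) F)
    (hx : ∀ z : F, (x : Matrix (Fin n) (Fin n) F) ≠ z • (1 : Matrix (Fin n) (Fin n) F)) (μ : F)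
    (hμ : ((x : Matrix (Fin n) (Fin n) F) - μ • (1 : Matrix (Fin n) (Fin n) F)).rank ≤ 1)
    (g : GL (Fin n) F) : g⁻¹ * x * g ∉ Cfsg.Geo.tensorProductSubgroup a b e P := by
  intro h
  obtain ⟨A, B, hrk, -⟩ := exists_kron_of_conj_mem e P g x h
  by_cases hA : ∃ α : F, (A : Matrix (Fin a) (Fin a) F) = α • (1 : Matrix (Fin a) (Fin a) F)
  · obtain ⟨α, hα⟩ := hA
    have h1 := hrk μ
    rw [hα, rank_smul_one_kronecker_sub] at h1
    rw [h1] at hμ
    have h2 : (α • (B : Matrix (Fin b) (Fin b) F) -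
        μ • (1 : Matrix (Fin b) (Fin b) F)).rank = 0 := by
      by_contra h0
      have : 1 ≤ (α • (B : Matrix (Fin b) (Fin b) F) -
        μ • (1 : Matrix (Fin b) (Fin b) F)).rank := Nat.one_le_iff_ne_zero.2 h0
      nlinarith
    rw [h2, mul_zero] at h1
    have h3 := eq_zero_of_rank_eq_zero' _ h1
    exact hx μ (sub_eq_zero.1 h3)
  · rw [not_exists] at hA
    have h1 := le_rank_kronecker_sub (A : Matrix (Fin a) (Fin a) F)
      (B : Matrix (Fin b) (Fin b) F) hA (gl_mulVec_eq_zero B) μ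
    rw [← hrk μ] at h1
    omega

/-- **C2**: a non-scalar element with `x - 1` of rank at most two has no conjugate in the
stabiliser of a tensor decomposition with factors of dimensions `a ≥ 2` and `b ≥ 3`, if `a ≠ 2`
or some `x - ν` has odd rank -/
theorem not_conj_of_rank_le_two (ha : 2 ≤ a) (hb : 3 ≤ b) (e : Fin n ≃ Fin a × Fin b)
    (P x : GL (Fin n) F)
    (hx : ∀ z : F, (x : Matrix (Fin n) (Fin n) F) ≠ z • (1 : Matrix (Fin n) (Fin n) F)) (μ : F)
    (hμ : ((x : Matrix (Fin n) (Fin n) F) - μ • (1 : Matrix (Fin n) (Fin n) F)).rank ≤ 2)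
    (hodd : a ≠ 2 ∨ ∃ ν : F,
      Odd ((x : Matrix (Fin n) (Fin n) F) - ν • (1 : Matrix (Fin n) (Fin n) F)).rank)
    (g : GL (Fin n) F) : g⁻¹ * x * g ∉ Cfsg.Geo.tensorProductSubgroup a b e P := by
  intro h
  obtain ⟨A, B, hrk, -⟩ := exists_kron_of_conj_mem e P g x h
  by_cases hA : ∃ α : F, (A : Matrix (Fin a) (Fin a) F) = α • (1 : Matrix (Fin a) (Fin a) F)
  · obtain ⟨α, hα⟩ := hA
    by_cases ha2 : a = 2
    · obtain ⟨ν, hν⟩ := hodd.resolve_left (not_not.2 ha2)
      have h1 := hrk ν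
      rw [hα, rank_smul_one_kronecker_sub, ha2] at h1
      rw [h1] at hν
      exact (Nat.not_odd_iff_even.2 (even_two_mul _)) hν
    · have h1 := hrk μ
      rw [hα, rank_smul_one_kronecker_sub] at h1
      rw [h1] at hμ
      have h2 : (α • (B : Matrix (Fin b) (Fin b) F) -
          μ • (1 : Matrix (Fin b) (Fin b) F)).rank = 0 := by
        by_contra h0
        have : 1 ≤ (α • (B : Matrix (Fin b) (Fin b) F) -
          μ • (1 : Matrix (Fin b) (Fin b) F)).rank := Nat.one_le_iff_ne_zero.2 h0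
        have ha3 : 3 ≤ a := by omega
        nlinarith
      rw [h2, mul_zero] at h1
      have h3 := eq_zero_of_rank_eq_zero' _ h1
      exact hx μ (sub_eq_zero.1 h3)
  · rw [not_exists] at hA
    have h1 := le_rank_kronecker_sub (A : Matrix (Fin a) (Fin a) F)
      (B : Matrix (Fin b) (Fin b) F) hA (gl_mulVec_eq_zero B) μ
    rw [← hrk μ] at h1
    omega

end criteria

section semisimple

variable {F : Type*} [Field F] [Fintype F] {n a b : ℕ}

/-- **C3**: an element of order `r` with `x - 1` of rank the order of `q` modulo `r`, this order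
being at least two, has no conjugate in the stabiliser of a tensor decomposition with factors of
dimensions `2 ≤ a < b` -/
theorem not_conj_of_semisimple (r : ℕ) [Fact r.Prime] (hrF : (r : F) ≠ 0)
    (hrq : ¬ r ∣ Fintype.card F - 1) (ha : 2 ≤ a) (hab : a < b) (e : Fin n ≃ Fin a × Fin b)
    (P x : GL (Fin n) F) (hxr : x ^ r = 1)
    (hi : 1 ≤ orderOf ((Fintype.card F : ℕ) : ZMod r))
    (hrk1 : ((x : Matrix (Fin n) (Fin n) F) - (1 : F) • (1 : Matrix (Fin n) (Fin n) F)).rank =
      orderOf ((Fintype.card F : ℕ) : ZMod r))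
    (g : GL (Fin n) F) : g⁻¹ * x * g ∉ Cfsg.Geo.tensorProductSubgroup a b e P := by
  intro h
  obtain ⟨A, B, hrk, hpow⟩ := exists_kron_of_conj_mem e P g x h
  set i := orderOf ((Fintype.card F : ℕ) : ZMod r) with hidef
  have hAB : ((A : Matrix (Fin a) (Fin a) F) ⊗ₖ (B : Matrix (Fin b) (Fin b) F)) ^ r =
      (1 : F) • (1 : Matrix (Fin a × Fin b) (Fin a × Fin b) F) := by
    apply hpow r 1
    rw [hxr, Units.val_one, one_smul]
  rw [kronecker_pow] at hAB
  by_cases hA : ∃ α : F, (A : Matrix (Fin a) (Fin a) F) = α • (1 : Matrix (Fin a) (Fin a) F)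
  · obtain ⟨α, hα⟩ := hA
    have h1 := hrk 1
    rw [hα, rank_smul_one_kronecker_sub, hrk1] at h1
    set Y : Matrix (Fin b) (Fin b) F := α • (B : Matrix (Fin b) (Fin b) F) with hY
    have hYr : Y ^ r = 1 := by
      have h2 : ((1 : Matrix (Fin a) (Fin a) F) ⊗ₖ (Y ^ r - 1)).rank = 0 := by
        have h3 : (1 : Matrix (Fin a) (Fin a) F) ⊗ₖ (Y ^ r - 1) = 0 := by
          rw [sub_eq_add_neg, Matrix.kronecker_add, hY, smul_pow, Matrix.kronecker_smul,
            ← Matrix.smul_kronecker]
          have h4 : (α ^ r • (1 : Matrix (Fin a) (Fin a) F)) =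
              (A : Matrix (Fin a) (Fin a) F) ^ r := by
            rw [hα, smul_pow, one_pow]
          rw [h4, hAB, one_smul]
          have h5 : (1 : Matrix (Fin a) (Fin a) F) ⊗ₖ (-(1 : Matrix (Fin b) (Fin b) F)) =
              -(1 : Matrix (Fin a × Fin b) (Fin a × Fin b) F) := by
            rw [← neg_one_smul F (1 : Matrix (Fin b) (Fin b) F), Matrix.kronecker_smul,
              Matrix.one_kronecker_one, neg_one_smul]
          rw [h5, add_neg_cancel]
        rw [h3, Matrix.rank_zero]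
      rw [rank_one_kronecker] at h2
      have h6 : (Y ^ r - 1).rank = 0 := by
        rcases Nat.eq_zero_or_pos ((Y ^ r - 1).rank) with h7 | h7
        · exact h7
        · nlinarith
      exact sub_eq_zero.1 (eq_zero_of_rank_eq_zero' _ h6)
    have h8 := dvd_rank_sub_one r hrF Y hYr
    rw [← hidef] at h8
    have h9 : Y - (1 : F) • (1 : Matrix (Fin b) (Fin b) F) = Y - 1 := by rw [one_smul]
    rw [h9] at h1
    obtain ⟨m, hm⟩ := h8
    rw [hm] at h1
    rcases Nat.eq_zero_or_pos m with h0 | h0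
    · rw [h0, mul_zero, mul_zero] at h1
      omega
    · have : a * (i * m) ≥ 2 * i := by
        calc a * (i * m) ≥ 2 * (i * 1) := Nat.mul_le_mul ha (Nat.mul_le_mul_left i h0)
          _ = 2 * i := by ring
      omega
  · rw [not_exists] at hA
    have h1 := le_rank_kronecker_sub (A : Matrix (Fin a) (Fin a) F)
      (B : Matrix (Fin b) (Fin b) F) hA (gl_mulVec_eq_zero B) 1
    rw [← hrk 1, hrk1] at h1
    -- the `r`-th power of `A` is a scalar
    have hAr : ∃ c : F, (A : Matrix (Fin a) (Fin a) F) ^ r =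
        c • (1 : Matrix (Fin a) (Fin a) F) := by
      by_contra hcon
      rw [not_exists] at hcon
      have h2 := le_rank_kronecker_sub ((A : Matrix (Fin a) (Fin a) F) ^ r)
        ((B : Matrix (Fin b) (Fin b) F) ^ r) hcon (by
          intro w hw
          rw [← Units.val_pow_eq_pow_val] at hw
          exact gl_mulVec_eq_zero (B ^ r) w hw) 1
      rw [hAB, sub_self, Matrix.rank_zero] at h2
      omega
    obtain ⟨c, hc⟩ := hAr
    have hc0 : c ≠ 0 := by
      rintro rfl
      rw [zero_smul, ← Units.val_pow_eq_pow_val] at hc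
      have h3 : ((A ^ r : GL (Fin a) F) : Matrix (Fin a) (Fin a) F) *
          (((A ^ r)⁻¹ : GL (Fin a) F) : Matrix (Fin a) (Fin a) F) = 1 := by
        rw [← Units.val_mul, mul_inv_cancel, Units.val_one]
      rw [hc, Matrix.zero_mul] at h3
      have h4 := congrFun (congrFun h3 ⟨0, by omega⟩) ⟨0, by omega⟩
      rw [Matrix.zero_apply, Matrix.one_apply_eq] at h4
      exact zero_ne_one h4
    obtain ⟨d, hd⟩ := scalar_of_pow_scalar r hrF hrq (A : Matrix (Fin a) (Fin a) F) c hc0 hc
      (by omega)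
    exact hA d hd

end semisimple

end Cfsg.Agent.Helper28.BGT
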