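import Mathlib
import Cfsg.Agent.Lib.Helper28.BGT2

/-!
# Kronecker products: the cyclic-vector rank bound, the swap and polynomials (helper28)
-/

set_option autoImplicit false
set_option linter.style.haveILetI false
set_option linter.unusedSectionVars false
set_option linter.unusedVariables false

namespace Cfsg.Agent.Helper28.BGT

open Matrix Module Polynomial
open scoped Kronecker

section cyclic

variable {K : Type*} [Field K] {a b : ℕ}

theorem tvec_add_right (u : Fin a → K) (w w' : Fin b → K) :
    tvec u (w + w') = tvec u w + tvec u w' := (tvecLin u).map_add w w'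

theorem tvec_smul_right (u : Fin a → K) (c : K) (w : Fin b → K) :
    tvec u (c • w) = c • tvec u w := (tvecLin u).map_smul c w

theorem tvec_zero_right (u : Fin a → K) : tvec u (0 : Fin b → K) = 0 := (tvecLin u).map_zero

/-- **K1'**: if `u, A u, …, A^k u` are linearly independent and `B` is injective, then
`A ⊗ B - μ` has rank at least `k b` -/
theorem le_rank_kronecker_sub_of_cyclic (A : Matrix (Fin a) (Fin a) K)
    (B : Matrix (Fin b) (Fin b) K) (hB : ∀ w : Fin b → K, B *ᵥ w = 0 → w = 0) (μ : K) (k : ℕ)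
    (u : Fin a → K)
    (hind : LinearIndependent K (fun j : Fin (k + 1) => (A ^ (j : ℕ)) *ᵥ u)) :
    k * b ≤ (A ⊗ₖ B - μ • (1 : Matrix (Fin a × Fin b) (Fin a × Fin b) K)).rank := by
  classical
  set N : Matrix (Fin a × Fin b) (Fin a × Fin b) K :=
    A ⊗ₖ B - μ • (1 : Matrix (Fin a × Fin b) (Fin a × Fin b) K) with hN
  set v : ℕ → Fin a → K := fun j => (A ^ j) *ᵥ u with hv
  have hvs : ∀ j, A *ᵥ v j = v (j + 1) := by
    intro j
    simp only [hv]
    rw [Matrix.mulVec_mulVec, ← pow_succ']
  set S : (Fin k → Fin b → K) →ₗ[K] (Fin a × Fin b → K) :=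
    ∑ j : Fin k, (tvecLin (v j)) ∘ₗ (LinearMap.proj j) with hS
  have hSapp : ∀ w, S w = ∑ j : Fin k, tvec (v j) (w j) := by
    intro w
    rw [hS, LinearMap.sum_apply]
    rfl
  set T : (Fin k → Fin b → K) →ₗ[K] (Fin a × Fin b → K) := N.mulVecLin ∘ₗ S with hT
  have hTapp : ∀ w, T w = ∑ j : Fin k,
      (tvec (v ((j : ℕ) + 1)) (B *ᵥ w j) - μ • tvec (v j) (w j)) := by
    intro w
    show N *ᵥ S w = _
    rw [hSapp, Matrix.mulVec_sum]
    apply Finset.sum_congr rfl
    intro j _
    rw [hN, Matrix.sub_mulVec, kronecker_mulVec_tvec, Matrix.smul_mulVec, Matrix.one_mulVec, hvs]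
  have hinj : Function.Injective T := by
    rw [← LinearMap.ker_eq_bot, LinearMap.ker_eq_bot']
    intro w hw
    rw [hTapp] at hw
    set ŵ : ℕ → Fin b → K := fun m => if h : m < k then w ⟨m, h⟩ else 0 with hŵ
    have hŵi : ∀ j : Fin k, ŵ j = w j := by
      intro j
      simp only [hŵ]
      rw [dif_pos j.2]
    have hŵk : ∀ m, k ≤ m → ŵ m = 0 := by
      intro m hm
      simp only [hŵ]
      rw [dif_neg (by omega)]
    -- the recurrence
    have hrec : ∀ m, m < k → B *ᵥ ŵ m = μ • ŵ (m + 1) := by
      intro m hm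
      funext l
      set c : ℕ → K := fun m' =>
        (if m' = 0 then 0 else (B *ᵥ ŵ (m' - 1)) l) - μ * ŵ m' l with hc
      have hsum : ∑ m' : Fin (k + 1), c m' • v m' = 0 := by
        rw [Fin.sum_univ_eq_sum_range (fun m' => c m' • v m') (k + 1)]
        simp only [hc, sub_smul]
        rw [Finset.sum_sub_distrib, Finset.sum_range_succ', Finset.sum_range_succ]
        simp only [if_true, zero_smul, add_zero, Nat.add_sub_cancel, Nat.add_eq_zero_iff,
          one_ne_zero, and_false, if_false]
        rw [hŵk k le_rfl, Pi.zero_apply, mul_zero, zero_smul, add_zero]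
        funext m''
        have h1 := congrFun hw (m'', l)
        rw [Finset.sum_apply, Pi.zero_apply] at h1
        rw [Pi.sub_apply, Finset.sum_apply, Finset.sum_apply, Pi.zero_apply,
          ← Finset.sum_sub_distrib, ← Fin.sum_univ_eq_sum_range
            (fun j => ((B *ᵥ ŵ j) l • v (j + 1)) m'' - ((μ * ŵ j l) • v j) m'') k]
        refine Eq.trans (Finset.sum_congr rfl ?_) h1
        intro j _
        rw [hŵi j]
        simp only [Pi.sub_apply, Pi.smul_apply, tvec, smul_eq_mul]
        ring
      have h2 := Fintype.linearIndependent_iff.1 hind (fun m' => c m') hsum ⟨m + 1, by omega⟩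
      simp only [hc] at h2
      rw [if_neg (by omega), Nat.add_sub_cancel] at h2
      rw [Pi.smul_apply, smul_eq_mul]
      linear_combination h2
    have key : ∀ s : ℕ, ∀ m : ℕ, k ≤ m + s → ŵ m = 0 := by
      intro s
      induction s with
      | zero =>
        intro m hm
        exact hŵk m (by omega)
      | succ s ih =>
        intro m hm
        by_cases hmk : k ≤ m
        · exact hŵk m hmk
        · apply hB
          rw [hrec m (by omega), ih (m + 1) (by omega), smul_zero]
    funext j
    rw [← hŵi j]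
    exact key k j (by omega)
  have h1 : finrank K (LinearMap.range T) = k * b := by
    rw [LinearMap.finrank_range_of_inj hinj, Module.finrank_pi_fintype]
    simp
  have h2 : LinearMap.range T ≤ LinearMap.range N.mulVecLin := by
    rw [hT]
    exact LinearMap.range_comp_le_range _ _
  have h3 := Submodule.finrank_mono h2
  rw [h1] at h3
  exact h3

end cyclic

section swap

variable {K : Type*} [Field K] {a b : ℕ}

theorem kronecker_swap (A : Matrix (Fin a) (Fin a) K) (B : Matrix (Fin b) (Fin b) K) :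
    (A ⊗ₖ B).submatrix (Equiv.prodComm (Fin b) (Fin a)) (Equiv.prodComm (Fin b) (Fin a)) =
      B ⊗ₖ A := by
  ext ⟨i, j⟩ ⟨i', j'⟩
  simp only [Matrix.submatrix_apply, Equiv.prodComm_apply, Prod.swap_prod_mk,
    Matrix.kroneckerMap_apply]
  ring

/-- the rank of `A ⊗ B - μ` is symmetric in the factors -/
theorem rank_kronecker_sub_swap (A : Matrix (Fin a) (Fin a) K) (B : Matrix (Fin b) (Fin b) K)
    (μ : K) :
    (A ⊗ₖ B - μ • (1 : Matrix (Fin a × Fin b) (Fin a × Fin b) K)).rank =
      (B ⊗ₖ A - μ • (1 : Matrix (Fin b × Fin a) (Fin b × Fin a) K)).rank := by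
  have h1 : (A ⊗ₖ B - μ • (1 : Matrix (Fin a × Fin b) (Fin a × Fin b) K)).submatrix
      (Equiv.prodComm (Fin b) (Fin a)) (Equiv.prodComm (Fin b) (Fin a)) =
      B ⊗ₖ A - μ • (1 : Matrix (Fin b × Fin a) (Fin b × Fin a) K) := by
    rw [← kronecker_swap A B]
    ext i j
    simp only [Matrix.sub_apply, Matrix.submatrix_apply, Matrix.smul_apply, Matrix.one_apply,
      EmbeddingLike.apply_eq_iff_eq]
  rw [← h1, Matrix.rank_submatrix]

end swap

section poly

variable {K : Type*} [Field K] {a b : ℕ}

/-- `M ↦ 1 ⊗ M` as an algebra homomorphism -/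
def oneKronAlgHom (a b : ℕ) (K : Type*) [Field K] :
    Matrix (Fin b) (Fin b) K →ₐ[K] Matrix (Fin a × Fin b) (Fin a × Fin b) K where
  toFun M := (1 : Matrix (Fin a) (Fin a) K) ⊗ₖ M
  map_one' := Matrix.one_kronecker_one
  map_mul' M N := by rw [← Matrix.mul_kronecker_mul, Matrix.one_mul]
  map_zero' := Matrix.kronecker_zero _
  map_add' M N := Matrix.kronecker_add _ _ _
  commutes' c := by
    rw [Algebra.algebraMap_eq_smul_one, Algebra.algebraMap_eq_smul_one, Matrix.kronecker_smul,
      Matrix.one_kronecker_one]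

theorem aeval_one_kronecker (Y : Matrix (Fin b) (Fin b) K) (f : K[X]) :
    aeval ((1 : Matrix (Fin a) (Fin a) K) ⊗ₖ Y) f =
      (1 : Matrix (Fin a) (Fin a) K) ⊗ₖ (aeval Y f) :=
  Polynomial.aeval_algHom_apply (oneKronAlgHom a b K) Y f

/-- conjugation by an invertible matrix as an algebra homomorphism -/
def conjAlgHom {ι : Type*} [Fintype ι] [DecidableEq ι] (S S' : Matrix ι ι K) (h : S' * S = 1) :
    Matrix ι ι K →ₐ[K] Matrix ι ι K where
  toFun M := S * M * S'
  map_one' := by
    rw [Matrix.mul_one]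
    exact mul_eq_one_comm.1 h
  map_mul' M N := by
    calc S * (M * N) * S' = S * M * (S' * S) * N * S' := by
          rw [h, Matrix.mul_one]; simp only [Matrix.mul_assoc]
      _ = S * M * S' * (S * N * S') := by simp only [Matrix.mul_assoc]
  map_zero' := by rw [Matrix.mul_zero, Matrix.zero_mul]
  map_add' M N := by rw [Matrix.mul_add, Matrix.add_mul]
  commutes' c := by
    rw [Algebra.algebraMap_eq_smul_one, Matrix.mul_smul, Matrix.mul_one, Matrix.smul_mul,
      mul_eq_one_comm.1 h]

theorem aeval_conj {ι : Type*} [Fintype ι] [DecidableEq ι] (S S' : Matrix ι ι K)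
    (h : S' * S = 1) (X' : Matrix ι ι K) (f : K[X]) :
    aeval (S * X' * S') f = S * aeval X' f * S' :=
  Polynomial.aeval_algHom_apply (conjAlgHom S S' h) X' f

theorem aeval_submatrix {ι κ : Type*} [Fintype ι] [DecidableEq ι] [Fintype κ] [DecidableEq κ]
    (e : ι ≃ κ) (X' : Matrix κ κ K) (f : K[X]) :
    aeval (X'.submatrix e e) f = (aeval X' f).submatrix e e := by
  have h := Polynomial.aeval_algHom_apply
    ((Matrix.reindexAlgEquiv K K e.symm : Matrix κ κ K ≃ₐ[K] Matrix ι ι K) :
      Matrix κ κ K →ₐ[K] Matrix ι ι K) X' f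
  exact h

end poly

end Cfsg.Agent.Helper28.BGT
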