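import Mathlib
import Cfsg.Agent.Lib.Helper28.BGT4
import Cfsg.Agent.Lib.Helper28.BGT8

/-!
# Cyclic vectors for elements of prime order, and the tensor criteria for elements of the
symplectic group (helper28)
-/

set_option autoImplicit false
set_option linter.style.haveILetI false
set_option linter.unusedSectionVars false
set_option linter.unusedVariables false

namespace Cfsg.Agent.Helper28.BGT

open Matrix Module Polynomial Cfsg.Agent.H28TF Cfsg.Agent.Helper28.BGQ Cfsg.Agent.Helper13.POS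
open scoped Kronecker

section cyclicvec

variable {F : Type*} [Field F] [Fintype F] {m : ℕ}

/-- **N2**: a non-identity matrix with `Y ^ r = 1` has a vector `u` with `u, Y u, …, Y^(i-1) u`
linearly independent, `i` the order of `q` modulo `r` -/
theorem exists_cyclic (r : ℕ) [Fact r.Prime] (hrF : (r : F) ≠ 0)
    (Y : Matrix (Fin m) (Fin m) F) (hY : Y ^ r = 1) (hY1 : Y ≠ 1) :
    ∃ u : Fin m → F, LinearIndependent F
      (fun j : Fin (orderOf ((Fintype.card F : ℕ) : ZMod r)) => (Y ^ (j : ℕ)) *ᵥ u) := by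
  classical
  have hr : r.Prime := Fact.out
  set i := orderOf ((Fintype.card F : ℕ) : ZMod r) with hi
  obtain ⟨u, hu⟩ : ∃ u : Fin m → F, Y *ᵥ u ≠ u := by
    by_contra hcon
    rw [not_exists] at hcon
    apply hY1
    ext s t
    have h1 : Y *ᵥ (Pi.single t 1) = Pi.single t 1 := by
      by_contra h2
      exact hcon _ h2
    have h3 := congrFun h1 s
    rw [Matrix.mulVec_single_one] at h3
    have h4 : Y s t = (Pi.single t 1 : Fin m → F) s := h3
    rw [Matrix.one_apply, h4, Pi.single_apply]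
  refine ⟨u, ?_⟩
  by_contra hdep
  obtain ⟨g, hg0, j₀, hj₀⟩ := Fintype.not_linearIndependent_iff.1 hdep
  set G : F[X] := ∑ j : Fin i, C (g j) * X ^ (j : ℕ) with hG
  have hGdeg : G.degree < i := Polynomial.degree_sum_fin_lt g
  have hGne : G ≠ 0 := by
    intro h0
    have h1 : G.coeff (j₀ : ℕ) = g j₀ := by
      rw [hG, Polynomial.finsetSum_coeff]
      simp only [Polynomial.coeff_C_mul_X_pow]
      rw [Finset.sum_eq_single j₀]
      · rw [if_pos rfl]
      · intro j _ hj
        rw [if_neg]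
        intro h2
        exact hj (Fin.ext h2.symm)
      · intro h2
        exact absurd (Finset.mem_univ _) h2
    rw [h0, Polynomial.coeff_zero] at h1
    exact hj₀ h1.symm
  have hGnat : G.natDegree < i := (Polynomial.natDegree_lt_iff_degree_lt hGne).2 hGdeg
  have hGu : (aeval Y G) *ᵥ u = 0 := by
    rw [hG, map_sum, Matrix.sum_mulVec, ← hg0]
    apply Finset.sum_congr rfl
    intro j _
    rw [map_mul, aeval_C, map_pow, aeval_X, Algebra.algebraMap_eq_smul_one, Matrix.smul_mul,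
      Matrix.one_mul, Matrix.smul_mulVec]
  set Φ : F[X] := cyclotomic r F with hΦ
  have hcop : IsCoprime G Φ := by
    apply isCoprime_of_irreducible_dvd
    · rintro ⟨h1, -⟩
      exact hGne h1
    · intro z hz hzG hzΦ
      have h1 := natDegree_of_irreducible_dvd_cyclotomic r hrF z hz hzΦ
      have h2 := Polynomial.natDegree_le_of_dvd hzG hGne
      omega
  obtain ⟨s, t, hst⟩ := hcop
  set v : Fin m → F := Y *ᵥ u - u with hv
  have hv0 : v ≠ 0 := fun h => hu (sub_eq_zero.1 h)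
  have hcomm : aeval Y G * Y = Y * aeval Y G := by
    have h1 : aeval Y (G * X) = aeval Y (X * G) := by rw [mul_comm]
    rw [map_mul, map_mul, aeval_X] at h1
    exact h1
  have hGv : (aeval Y G) *ᵥ v = 0 := by
    rw [hv, Matrix.mulVec_sub, Matrix.mulVec_mulVec, hcomm, ← Matrix.mulVec_mulVec, hGu,
      Matrix.mulVec_zero, sub_zero]
  have hΦv : (aeval Y Φ) *ᵥ v = 0 := by
    have h1 : v = (Y - 1) *ᵥ u := by rw [hv, Matrix.sub_mulVec, Matrix.one_mulVec]
    have h2 : aeval Y Φ * (Y - 1) = 0 := by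
      have h3 : aeval Y (Φ * (X - 1)) = 0 := by
        rw [hΦ, Polynomial.cyclotomic_prime_mul_X_sub_one, map_sub, map_pow, aeval_X, map_one, hY,
          sub_self]
      rw [map_mul, map_sub, aeval_X, map_one] at h3
      exact h3
    rw [h1, Matrix.mulVec_mulVec, h2, Matrix.zero_mulVec]
  apply hv0
  have h4 : (aeval Y (s * G + t * Φ)) *ᵥ v = v := by
    rw [hst, map_one, Matrix.one_mulVec]
  rw [← h4, map_add, map_mul, map_mul, Matrix.add_mulVec, ← Matrix.mulVec_mulVec,
    ← Matrix.mulVec_mulVec, hGv, hΦv, Matrix.mulVec_zero, Matrix.mulVec_zero, add_zero]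

theorem injective_of_pow_eq_one (r : ℕ) (hr : 1 ≤ r) (Y : Matrix (Fin m) (Fin m) F)
    (hY : Y ^ r = 1) (w : Fin m → F) (hw : Y *ᵥ w = 0) : w = 0 := by
  have h1 : (Y ^ r) *ᵥ w = w := by rw [hY, Matrix.one_mulVec]
  obtain ⟨k, rfl⟩ : ∃ k, r = k + 1 := ⟨r - 1, by omega⟩
  rw [pow_succ, ← Matrix.mulVec_mulVec, hw, Matrix.mulVec_zero] at h1
  exact h1.symm

end cyclicvec

section bounds

variable {F : Type*} [Field F] [Fintype F] {a b : ℕ}

/-- both factors non-scalar and `(A ⊗ B) ^ r = 1`: the rank of `A ⊗ B - 1` is at least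
`(i - 1) b` and `(i - 1) a`, and `i ≤ a`, `i ≤ b` -/
theorem both_nonscalar_bounds (r : ℕ) [Fact r.Prime] (hrF : (r : F) ≠ 0)
    (hrq : ¬ r ∣ Fintype.card F - 1) (ha : 1 ≤ a) (hb : 1 ≤ b)
    (A : GL (Fin a) F) (B : GL (Fin b) F)
    (hAB : ((A : Matrix (Fin a) (Fin a) F) ⊗ₖ (B : Matrix (Fin b) (Fin b) F)) ^ r =
      (1 : F) • (1 : Matrix (Fin a × Fin b) (Fin a × Fin b) F))
    (hA : ∀ α : F, (A : Matrix (Fin a) (Fin a) F) ≠ α • (1 : Matrix (Fin a) (Fin a) F))
    (hB : ∀ β : F, (B : Matrix (Fin b) (Fin b) F) ≠ β • (1 : Matrix (Fin b) (Fin b) F)) :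
    (orderOf ((Fintype.card F : ℕ) : ZMod r) - 1) * b ≤
        ((A : Matrix (Fin a) (Fin a) F) ⊗ₖ (B : Matrix (Fin b) (Fin b) F) -
          (1 : F) • (1 : Matrix (Fin a × Fin b) (Fin a × Fin b) F)).rank ∧
      (orderOf ((Fintype.card F : ℕ) : ZMod r) - 1) * a ≤
        ((A : Matrix (Fin a) (Fin a) F) ⊗ₖ (B : Matrix (Fin b) (Fin b) F) -
          (1 : F) • (1 : Matrix (Fin a × Fin b) (Fin a × Fin b) F)).rank ∧
      orderOf ((Fintype.card F : ℕ) : ZMod r) ≤ a ∧
      orderOf ((Fintype.card F : ℕ) : ZMod r) ≤ b := by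
  classical
  have hr : r.Prime := Fact.out
  set i := orderOf ((Fintype.card F : ℕ) : ZMod r) with hi
  have hi1 : 1 ≤ i := orderOf_card_pos r hrF
  rw [kronecker_pow] at hAB
  -- the `r`-th power of `A` is a scalar
  have hAr : ∃ c : F, (A : Matrix (Fin a) (Fin a) F) ^ r =
      c • (1 : Matrix (Fin a) (Fin a) F) := by
    by_contra hcon
    rw [not_exists] at hcon
    have h2 := le_rank_kronecker_sub ((A : Matrix (Fin a) (Fin a) F) ^ r)
      ((B : Matrix (Fin b) (Fin b) F) ^ r) hcon (by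
        intro w hw
        rw [← Units.val_pow_eq_pow_val] at hw
        exact gl_mulVec_eq_zero (B ^ r) w hw) 1
    rw [hAB, sub_self, Matrix.rank_zero] at h2
    omega
  obtain ⟨c, hc⟩ := hAr
  have hc0 : c ≠ 0 := by
    rintro rfl
    rw [zero_smul, ← Units.val_pow_eq_pow_val] at hc
    have h3 : ((A ^ r : GL (Fin a) F) : Matrix (Fin a) (Fin a) F) *
        (((A ^ r)⁻¹ : GL (Fin a) F) : Matrix (Fin a) (Fin a) F) = 1 := by
      rw [← Units.val_mul, mul_inv_cancel, Units.val_one]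
    rw [hc, Matrix.zero_mul] at h3
    have h4 := congrFun (congrFun h3 ⟨0, by omega⟩) ⟨0, by omega⟩
    rw [Matrix.zero_apply, Matrix.one_apply_eq] at h4
    exact zero_ne_one h4
  have hcop : (Nat.card Fˣ).Coprime r := by
    rw [Nat.card_eq_fintype_card, Fintype.card_units, Nat.coprime_comm]
    exact (Nat.Prime.coprime_iff_not_dvd hr).2 hrq
  obtain ⟨d, hd⟩ := (powCoprime hcop).surjective (Units.mk0 c hc0)
  have hd' : (d : F) ^ r = c := by
    have := congrArg Units.val hd
    simpa [powCoprime] using this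
  have hd0 : (d : F) ≠ 0 := d.ne_zero
  set A' : Matrix (Fin a) (Fin a) F := (d : F)⁻¹ • (A : Matrix (Fin a) (Fin a) F) with hA'
  set B' : Matrix (Fin b) (Fin b) F := (d : F) • (B : Matrix (Fin b) (Fin b) F) with hB'
  have hkk : A' ⊗ₖ B' = (A : Matrix (Fin a) (Fin a) F) ⊗ₖ (B : Matrix (Fin b) (Fin b) F) := by
    rw [hA', hB', Matrix.smul_kronecker, Matrix.kronecker_smul, smul_smul, inv_mul_cancel₀ hd0,
      one_smul]
  have hA'r : A' ^ r = 1 := by
    rw [hA', _root_.smul_pow, hc, smul_smul, inv_pow, hd', inv_mul_cancel₀ hc0, one_smul]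
  have hB'r : B' ^ r = 1 := by
    have h1 : (A' ⊗ₖ B') ^ r = 1 := by
      rw [hkk, kronecker_pow, hAB, one_smul]
    rw [kronecker_pow, hA'r] at h1
    have h2 : ((1 : Matrix (Fin a) (Fin a) F) ⊗ₖ (B' ^ r - 1)).rank = 0 := by
      have h3 : (1 : Matrix (Fin a) (Fin a) F) ⊗ₖ (B' ^ r - 1) = 0 := by
        rw [sub_eq_add_neg, Matrix.kronecker_add, h1]
        have h5 : (1 : Matrix (Fin a) (Fin a) F) ⊗ₖ (-(1 : Matrix (Fin b) (Fin b) F)) =
            -(1 : Matrix (Fin a × Fin b) (Fin a × Fin b) F) := by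
          rw [← neg_one_smul F (1 : Matrix (Fin b) (Fin b) F), Matrix.kronecker_smul,
            Matrix.one_kronecker_one, neg_one_smul]
        rw [h5, add_neg_cancel]
      rw [h3, Matrix.rank_zero]
    rw [rank_one_kronecker] at h2
    have h6 : (B' ^ r - 1).rank = 0 := by
      rcases Nat.eq_zero_or_pos ((B' ^ r - 1).rank) with h7 | h7
      · exact h7
      · nlinarith
    exact sub_eq_zero.1 (eq_zero_of_rank_eq_zero' _ h6)
  have hA'1 : A' ≠ 1 := by
    intro h
    apply hA (d : F)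
    have h6 : (A : Matrix (Fin a) (Fin a) F) = (d : F) • A' := by
      rw [hA', smul_smul, mul_inv_cancel₀ hd0, one_smul]
    rw [h6, h]
  have hB'1 : B' ≠ 1 := by
    intro h
    apply hB (d : F)⁻¹
    have h6 : (B : Matrix (Fin b) (Fin b) F) = (d : F)⁻¹ • B' := by
      rw [hB', smul_smul, inv_mul_cancel₀ hd0, one_smul]
    rw [h6, h]
  obtain ⟨uA, huA⟩ := exists_cyclic r hrF A' hA'r hA'1
  obtain ⟨uB, huB⟩ := exists_cyclic r hrF B' hB'r hB'1
  rw [← hi] at huA huB
  obtain ⟨k, hk⟩ : ∃ k, i = k + 1 := ⟨i - 1, by omega⟩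
  have hik : i - 1 = k := by omega
  have e1 : ∀ (n' : ℕ) (Y : Matrix (Fin n') (Fin n') F) (u : Fin n' → F),
      LinearIndependent F (fun j : Fin i => (Y ^ (j : ℕ)) *ᵥ u) →
      LinearIndependent F (fun j : Fin (k + 1) => (Y ^ (j : ℕ)) *ᵥ u) := by
    intro n' Y u h
    rw [← hk]
    exact h
  have hiA : i ≤ a := by
    have := huA.fintype_card_le_finrank
    rwa [Fintype.card_fin, Module.finrank_fin_fun] at this
  have hiB : i ≤ b := by
    have := huB.fintype_card_le_finrank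
    rwa [Fintype.card_fin, Module.finrank_fin_fun] at this
  rw [hik, ← hkk]
  refine ⟨?_, ?_, hiA, hiB⟩
  · exact le_rank_kronecker_sub_of_cyclic A' B'
      (injective_of_pow_eq_one r hr.one_le B' hB'r) 1 k uA (e1 a A' uA huA)
  · rw [rank_kronecker_sub_swap]
    exact le_rank_kronecker_sub_of_cyclic B' A'
      (injective_of_pow_eq_one r hr.one_le A' hA'r) 1 k uB (e1 b B' uB huB)

end bounds

end Cfsg.Agent.Helper28.BGT
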