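import Mathlib
import Cfsg.Agent.Lib.Helper28.BGT9
import Cfsg.Agent.Lib.Helper28.BGT7
import Cfsg.Agent.Lib.Helper28.BGS7
import Cfsg.Agent.Lib.Helper13.Elusive

/-!
# Tensor decompositions over an arbitrary index type: transfer of kernel dimensions, and
criteria on the level of Kronecker products (helper28)
-/

set_option autoImplicit false
set_option linter.style.haveILetI false
set_option linter.unusedSectionVars false
set_option linter.unusedVariables false

namespace Cfsg.Agent.Helper28.BGT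

open Matrix Module Polynomial Cfsg.Agent.H28TF Cfsg.Agent.Helper13.SS
open scoped Kronecker

section bridge

variable {F : Type*} [Field F] {κ : Type*} [Fintype κ] [DecidableEq κ]

theorem aeval_toLin'' (M : Matrix κ κ F) (f : F[X]) :
    aeval (Matrix.toLin' M) f = Matrix.toLin' (aeval M f) :=
  Polynomial.aeval_algHom_apply (Matrix.toLinAlgEquiv' (R := F) (n := κ)).toAlgHom M f

/-- kernel dimensions and ranks -/
theorem kdim_add_rank (M : Matrix κ κ F) (f : F[X]) :
    kdim (Matrix.toLin' M) f + (aeval M f).rank = Fintype.card κ := by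
  unfold kdim
  rw [aeval_toLin'']
  have h3 := LinearMap.finrank_range_add_finrank_ker (Matrix.toLin' (aeval M f))
  rw [Module.finrank_fintype_fun_eq_card, Matrix.toLin'_apply'] at h3
  rw [Matrix.toLin'_apply']
  unfold Matrix.rank
  omega

theorem aeval_X_sub_C' (M : Matrix κ κ F) (μ : F) :
    aeval M (X - C μ : F[X]) = M - μ • (1 : Matrix κ κ F) := by
  rw [map_sub, aeval_X, aeval_C, Algebra.algebraMap_eq_smul_one]

theorem aeval_X_pow_sub_C' (M : Matrix κ κ F) (m : ℕ) (z : F) :
    aeval M (X ^ m - C z : F[X]) = M ^ m - z • (1 : Matrix κ κ F) := by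
  rw [map_sub, map_pow, aeval_X, aeval_C, Algebra.algebraMap_eq_smul_one]

end bridge

section transferG

variable {F : Type*} [Field F] {ι : Type} [Fintype ι] [DecidableEq ι] {a b : ℕ}

theorem mem_tps_iff' (e : ι ≃ Fin a × Fin b) (P y : GL ι F) :
    y ∈ Cfsg.Geo.tensorProductSubgroup a b e P ↔
      ∃ k ∈ Cfsg.Geo.kroneckerSubgroup a b F, Th e P k = y := by
  rw [tps_eq]
  rfl

/-- the parametrisation of the vectors, as a linear equivalence -/
noncomputable def psL (e : ι ≃ Fin a × Fin b) (P : GL ι F) :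
    (Fin a × Fin b → F) ≃ₗ[F] (ι → F) :=
  (LinearEquiv.funCongrLeft F F e).trans (Cfsg.Agent.Helper28.BGS.glEquiv P)

theorem psL_apply (e : ι ≃ Fin a × Fin b) (P : GL ι F) (x : Fin a × Fin b → F) :
    psL e P x = ps e P x := by
  unfold psL ps
  rw [LinearEquiv.trans_apply, Cfsg.Agent.Helper28.BGS.glEquiv_apply]
  rfl

theorem kdim_Th (e : ι ≃ Fin a × Fin b) (P : GL ι F) (k : GL (Fin a × Fin b) F) (f : F[X]) :
    kdim (Matrix.toLin' ((Th e P k : GL ι F) : Matrix ι ι F)) f =
      kdim (Matrix.toLin' (k : Matrix (Fin a × Fin b) (Fin a × Fin b) F)) f := by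
  symm
  apply kdim_eq_of_equiv (psL e P)
  intro x
  rw [Matrix.toLin'_apply, Matrix.toLin'_apply, psL_apply, psL_apply, Th_mulVec]

/-- the Kronecker data of an element with a conjugate in the stabiliser of a tensor
decomposition -/
theorem exists_kron_kdim (e : ι ≃ Fin a × Fin b) (P g x : GL ι F)
    (h : g⁻¹ * x * g ∈ Cfsg.Geo.tensorProductSubgroup a b e P) :
    ∃ (A : GL (Fin a) F) (B : GL (Fin b) F), ∀ f : F[X],
      kdim (Matrix.toLin' (x : Matrix ι ι F)) f =
        kdim (Matrix.toLin'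
          ((A : Matrix (Fin a) (Fin a) F) ⊗ₖ (B : Matrix (Fin b) (Fin b) F))) f := by
  obtain ⟨k, ⟨A, B, hk⟩, hkx⟩ := (mem_tps_iff' e P _).1 h
  refine ⟨A, B, fun f => ?_⟩
  rw [← hk, ← kdim_Th e P k f, hkx, Cfsg.Agent.Helper28.BGS.kdim_conj]

theorem card_eq_mul (e : ι ≃ Fin a × Fin b) : Fintype.card ι = a * b := by
  rw [Fintype.card_congr e, Fintype.card_prod, Fintype.card_fin, Fintype.card_fin]

/-- from kernel dimensions to ranks and powers -/
theorem rank_eq_of_kdim_eq (e : ι ≃ Fin a × Fin b) (x : Matrix ι ι F)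
    (K : Matrix (Fin a × Fin b) (Fin a × Fin b) F)
    (h : ∀ f : F[X], kdim (Matrix.toLin' x) f = kdim (Matrix.toLin' K) f) :
    (∀ f : F[X], (aeval x f).rank = (aeval K f).rank) ∧
    (∀ μ : F, (x - μ • (1 : Matrix ι ι F)).rank =
      (K - μ • (1 : Matrix (Fin a × Fin b) (Fin a × Fin b) F)).rank) ∧
    (∀ (m : ℕ) (z : F), x ^ m = z • (1 : Matrix ι ι F) →
      K ^ m = z • (1 : Matrix (Fin a × Fin b) (Fin a × Fin b) F)) := by
  have hc : Fintype.card ι = Fintype.card (Fin a × Fin b) := Fintype.card_congr e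
  have h1 : ∀ f : F[X], (aeval x f).rank = (aeval K f).rank := by
    intro f
    have h2 := kdim_add_rank x f
    have h3 := kdim_add_rank K f
    have h4 := h f
    omega
  refine ⟨h1, ?_, ?_⟩
  · intro μ
    have := h1 (X - C μ)
    rwa [aeval_X_sub_C', aeval_X_sub_C'] at this
  · intro m z hz
    have := h1 (X ^ m - C z)
    rw [aeval_X_pow_sub_C', aeval_X_pow_sub_C', hz, sub_self, Matrix.rank_zero] at this
    exact sub_eq_zero.1 (eq_zero_of_rank_eq_zero' _ this.symm)

end transferG

end Cfsg.Agent.Helper28.BGT
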