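import Mathlib
import Cfsg.Agent.Lib.Helper28.BGT10

/-!
# Criteria on the level of Kronecker products (helper28)
-/

set_option autoImplicit false
set_option linter.style.haveILetI false
set_option linter.unusedSectionVars false
set_option linter.unusedVariables false

namespace Cfsg.Agent.Helper28.BGT

open Matrix Module Polynomial Cfsg.Agent.H28TF Cfsg.Agent.Helper13.SS
open scoped Kronecker

section critK

variable {F : Type*} [Field F] {a b : ℕ}

/-- **C1** for Kronecker products -/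
theorem kron_C1 (ha : 2 ≤ a) (hb : 2 ≤ b) (A : GL (Fin a) F) (B : GL (Fin b) F)
    (hx : ∀ z : F, (A : Matrix (Fin a) (Fin a) F) ⊗ₖ (B : Matrix (Fin b) (Fin b) F) ≠
      z • (1 : Matrix (Fin a × Fin b) (Fin a × Fin b) F)) (μ : F)
    (hμ : ((A : Matrix (Fin a) (Fin a) F) ⊗ₖ (B : Matrix (Fin b) (Fin b) F) -
      μ • (1 : Matrix (Fin a × Fin b) (Fin a × Fin b) F)).rank ≤ 1) : False := by
  by_cases hA : ∃ α : F, (A : Matrix (Fin a) (Fin a) F) = α • (1 : Matrix (Fin a) (Fin a) F)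
  · obtain ⟨α, hα⟩ := hA
    have h1 : ((A : Matrix (Fin a) (Fin a) F) ⊗ₖ (B : Matrix (Fin b) (Fin b) F) -
      μ • (1 : Matrix (Fin a × Fin b) (Fin a × Fin b) F)).rank =
        a * (α • (B : Matrix (Fin b) (Fin b) F) - μ • (1 : Matrix (Fin b) (Fin b) F)).rank := by
      rw [hα, rank_smul_one_kronecker_sub]
    rw [h1] at hμ
    have h2 : (α • (B : Matrix (Fin b) (Fin b) F) -
        μ • (1 : Matrix (Fin b) (Fin b) F)).rank = 0 := by
      by_contra h0
      have : 1 ≤ (α • (B : Matrix (Fin b) (Fin b) F) -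
        μ • (1 : Matrix (Fin b) (Fin b) F)).rank := Nat.one_le_iff_ne_zero.2 h0
      nlinarith
    rw [h2, mul_zero] at h1
    have h3 := eq_zero_of_rank_eq_zero' _ h1
    exact hx μ (sub_eq_zero.1 h3)
  · rw [not_exists] at hA
    have h1 := le_rank_kronecker_sub (A : Matrix (Fin a) (Fin a) F)
      (B : Matrix (Fin b) (Fin b) F) hA (gl_mulVec_eq_zero B) μ
    omega

/-- **C2** for Kronecker products -/
theorem kron_C2 (ha : 2 ≤ a) (hb : 3 ≤ b) (A : GL (Fin a) F) (B : GL (Fin b) F)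
    (hx : ∀ z : F, (A : Matrix (Fin a) (Fin a) F) ⊗ₖ (B : Matrix (Fin b) (Fin b) F) ≠
      z • (1 : Matrix (Fin a × Fin b) (Fin a × Fin b) F)) (μ : F)
    (hμ : ((A : Matrix (Fin a) (Fin a) F) ⊗ₖ (B : Matrix (Fin b) (Fin b) F) -
      μ • (1 : Matrix (Fin a × Fin b) (Fin a × Fin b) F)).rank ≤ 2)
    (hodd : a ≠ 2 ∨ ∃ ν : F,
      Odd ((A : Matrix (Fin a) (Fin a) F) ⊗ₖ (B : Matrix (Fin b) (Fin b) F) -
      ν • (1 : Matrix (Fin a × Fin b) (Fin a × Fin b) F)).rank) : False := by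
  by_cases hA : ∃ α : F, (A : Matrix (Fin a) (Fin a) F) = α • (1 : Matrix (Fin a) (Fin a) F)
  · obtain ⟨α, hα⟩ := hA
    have h1 : ∀ ν : F, ((A : Matrix (Fin a) (Fin a) F) ⊗ₖ (B : Matrix (Fin b) (Fin b) F) -
      ν • (1 : Matrix (Fin a × Fin b) (Fin a × Fin b) F)).rank =
        a * (α • (B : Matrix (Fin b) (Fin b) F) - ν • (1 : Matrix (Fin b) (Fin b) F)).rank := by
      intro ν
      rw [hα, rank_smul_one_kronecker_sub]
    by_cases ha2 : a = 2
    · obtain ⟨ν, hν⟩ := hodd.resolve_left (not_not.2 ha2)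
      rw [h1 ν, ha2] at hν
      exact (Nat.not_odd_iff_even.2 (even_two_mul _)) hν
    · have h1' := h1 μ
      rw [h1'] at hμ
      have h2 : (α • (B : Matrix (Fin b) (Fin b) F) -
          μ • (1 : Matrix (Fin b) (Fin b) F)).rank = 0 := by
        by_contra h0
        have : 1 ≤ (α • (B : Matrix (Fin b) (Fin b) F) -
          μ • (1 : Matrix (Fin b) (Fin b) F)).rank := Nat.one_le_iff_ne_zero.2 h0
        have ha3 : 3 ≤ a := by omega
        nlinarith
      rw [h2, mul_zero] at h1'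
      have h3 := eq_zero_of_rank_eq_zero' _ h1'
      exact hx μ (sub_eq_zero.1 h3)
  · rw [not_exists] at hA
    have h1 := le_rank_kronecker_sub (A : Matrix (Fin a) (Fin a) F)
      (B : Matrix (Fin b) (Fin b) F) hA (gl_mulVec_eq_zero B) μ
    omega

theorem smul_one_kronecker' (α : F) (Y : Matrix (Fin b) (Fin b) F) :
    (α • (1 : Matrix (Fin a) (Fin a) F)) ⊗ₖ Y = (1 : Matrix (Fin a) (Fin a) F) ⊗ₖ (α • Y) := by
  rw [Matrix.smul_kronecker, Matrix.kronecker_smul]

theorem eq_one_of_one_kronecker_eq_one (ha : 1 ≤ a) (Y : Matrix (Fin b) (Fin b) F)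
    (h : (1 : Matrix (Fin a) (Fin a) F) ⊗ₖ Y = 1) : Y = 1 := by
  have h2 : ((1 : Matrix (Fin a) (Fin a) F) ⊗ₖ (Y - 1)).rank = 0 := by
    have h3 : (1 : Matrix (Fin a) (Fin a) F) ⊗ₖ (Y - 1) = 0 := by
      rw [sub_eq_add_neg, Matrix.kronecker_add, h]
      have h5 : (1 : Matrix (Fin a) (Fin a) F) ⊗ₖ (-(1 : Matrix (Fin b) (Fin b) F)) =
          -(1 : Matrix (Fin a × Fin b) (Fin a × Fin b) F) := by
        rw [← neg_one_smul F (1 : Matrix (Fin b) (Fin b) F), Matrix.kronecker_smul,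
          Matrix.one_kronecker_one, neg_one_smul]
      rw [h5, add_neg_cancel]
    rw [h3, Matrix.rank_zero]
  rw [rank_one_kronecker] at h2
  have h6 : (Y - 1).rank = 0 := by
    rcases Nat.eq_zero_or_pos ((Y - 1).rank) with h7 | h7
    · exact h7
    · nlinarith
  exact sub_eq_zero.1 (eq_zero_of_rank_eq_zero' _ h6)

theorem pow_swap (A : Matrix (Fin a) (Fin a) F) (B : Matrix (Fin b) (Fin b) F) (r : ℕ) (z : F)
    (h : (A ⊗ₖ B) ^ r = z • (1 : Matrix (Fin a × Fin b) (Fin a × Fin b) F)) :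
    (B ⊗ₖ A) ^ r = z • (1 : Matrix (Fin b × Fin a) (Fin b × Fin a) F) := by
  rw [kronecker_pow] at h ⊢
  rw [← kronecker_swap, h]
  ext i j
  simp only [Matrix.submatrix_apply, Matrix.smul_apply, Matrix.one_apply,
    EmbeddingLike.apply_eq_iff_eq]

theorem rank_aeval_smul_one_kronecker (α : F) (Y : Matrix (Fin b) (Fin b) F) (f : F[X]) :
    (aeval ((α • (1 : Matrix (Fin a) (Fin a) F)) ⊗ₖ Y) f).rank = a * (aeval (α • Y) f).rank := by
  rw [smul_one_kronecker', aeval_one_kronecker, rank_one_kronecker]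

end critK

section semi

variable {F : Type*} [Field F] [Fintype F] {a b : ℕ}

theorem le_rank_of_pow_eq_one {m : ℕ} (r : ℕ) [Fact r.Prime] (hrF : (r : F) ≠ 0)
    (Y : Matrix (Fin m) (Fin m) F) (hY : Y ^ r = 1) (hY1 : Y ≠ 1) :
    orderOf ((Fintype.card F : ℕ) : ZMod r) ≤ (Y - 1).rank := by
  have h1 := dvd_rank_sub_one r hrF Y hY
  apply Nat.le_of_dvd _ h1
  rcases Nat.eq_zero_or_pos ((Y - 1).rank) with h7 | h7
  · exact absurd (sub_eq_zero.1 (eq_zero_of_rank_eq_zero' _ h7)) hY1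
  · exact h7

/-- a scalar left factor: the rank of `x - 1` is at least `a i` -/
theorem scalar_factor_bound (r : ℕ) [Fact r.Prime] (hrF : (r : F) ≠ 0) (ha : 1 ≤ a) (α : F)
    (Y : Matrix (Fin b) (Fin b) F)
    (hpow : ((α • (1 : Matrix (Fin a) (Fin a) F)) ⊗ₖ Y) ^ r =
      (1 : F) • (1 : Matrix (Fin a × Fin b) (Fin a × Fin b) F))
    (hne : α • Y ≠ 1) :
    a * orderOf ((Fintype.card F : ℕ) : ZMod r) ≤
      ((α • (1 : Matrix (Fin a) (Fin a) F)) ⊗ₖ Y -
        (1 : F) • (1 : Matrix (Fin a × Fin b) (Fin a × Fin b) F)).rank := by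
  rw [rank_smul_one_kronecker_sub, one_smul]
  apply Nat.mul_le_mul_left
  apply le_rank_of_pow_eq_one r hrF _ _ hne
  rw [smul_one_kronecker', kronecker_pow, one_pow, one_smul] at hpow
  exact eq_one_of_one_kronecker_eq_one ha _ hpow

theorem smul_ne_one_of_not_scalar (ha : 1 ≤ a) (A : Matrix (Fin a) (Fin a) F)
    (hA : ∀ α : F, A ≠ α • (1 : Matrix (Fin a) (Fin a) F)) (β : F) : β • A ≠ 1 := by
  intro h
  have hβ : β ≠ 0 := by
    rintro rfl
    rw [zero_smul] at h
    have h4 := congrFun (congrFun h ⟨0, by omega⟩) ⟨0, by omega⟩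
    rw [Matrix.zero_apply, Matrix.one_apply_eq] at h4
    exact zero_ne_one h4
  apply hA β⁻¹
  rw [← h, smul_smul, inv_mul_cancel₀ hβ, one_smul]

/-- **C3e**: the order `i` of `q` modulo `r` is at least two, and `x - 1` has rank at most `i` -/
theorem kron_C3e (r : ℕ) [Fact r.Prime] (hrF : (r : F) ≠ 0)
    (hi2 : 2 ≤ orderOf ((Fintype.card F : ℕ) : ZMod r)) (ha : 2 ≤ a) (hb : 3 ≤ b)
    (A : GL (Fin a) F) (B : GL (Fin b) F)
    (hAB : ((A : Matrix (Fin a) (Fin a) F) ⊗ₖ (B : Matrix (Fin b) (Fin b) F)) ^ r =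
      (1 : F) • (1 : Matrix (Fin a × Fin b) (Fin a × Fin b) F))
    (hns : ∀ z : F, (A : Matrix (Fin a) (Fin a) F) ⊗ₖ (B : Matrix (Fin b) (Fin b) F) ≠
      z • (1 : Matrix (Fin a × Fin b) (Fin a × Fin b) F))
    (hrk : ((A : Matrix (Fin a) (Fin a) F) ⊗ₖ (B : Matrix (Fin b) (Fin b) F) -
      (1 : F) • (1 : Matrix (Fin a × Fin b) (Fin a × Fin b) F)).rank ≤
        orderOf ((Fintype.card F : ℕ) : ZMod r)) : False := by
  have hrq : ¬ r ∣ Fintype.card F - 1 := Cfsg.Agent.Helper13.Elus.not_dvd_of_two_le_orderOf r hi2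
  set i := orderOf ((Fintype.card F : ℕ) : ZMod r) with hi
  by_cases hA : ∃ α : F, (A : Matrix (Fin a) (Fin a) F) = α • (1 : Matrix (Fin a) (Fin a) F)
  · obtain ⟨α, hα⟩ := hA
    rw [hα] at hAB hrk hns
    have hne : α • (B : Matrix (Fin b) (Fin b) F) ≠ 1 := by
      intro h
      apply hns 1
      rw [smul_one_kronecker', h, Matrix.one_kronecker_one, one_smul]
    have h1 := scalar_factor_bound r hrF (by omega) α _ hAB hne
    rw [← hi] at h1
    nlinarith
  · rw [not_exists] at hA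
    by_cases hB : ∃ β : F, (B : Matrix (Fin b) (Fin b) F) = β • (1 : Matrix (Fin b) (Fin b) F)
    · obtain ⟨β, hβ⟩ := hB
      rw [rank_kronecker_sub_swap, hβ] at hrk
      have hAB' := pow_swap _ _ r 1 hAB
      rw [hβ] at hAB'
      have h1 := scalar_factor_bound r hrF (by omega) β _ hAB'
        (smul_ne_one_of_not_scalar (by omega) _ hA β)
      rw [← hi] at h1
      nlinarith
    · rw [not_exists] at hB
      obtain ⟨h1, -, -, -⟩ := both_nonscalar_bounds r hrF hrq (by omega) (by omega) A B hAB hA hB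
      rw [← hi] at h1
      have h2 : (i - 1) * 3 ≤ (i - 1) * b := Nat.mul_le_mul_left _ hb
      omega

/-- **C3o**: the order `i` of `q` modulo `r` is odd, `a` is even, `x - 1` has rank at most `2 i`
and some primary component of `x` has dimension `i` -/
theorem kron_C3o (r : ℕ) [Fact r.Prime] (hrF : (r : F) ≠ 0)
    (hiodd : Odd (orderOf ((Fintype.card F : ℕ) : ZMod r))) (ha : 2 ≤ a) (hae : Even a)
    (hb : 3 ≤ b) (A : GL (Fin a) F) (B : GL (Fin b) F)
    (hAB : ((A : Matrix (Fin a) (Fin a) F) ⊗ₖ (B : Matrix (Fin b) (Fin b) F)) ^ r =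
      (1 : F) • (1 : Matrix (Fin a × Fin b) (Fin a × Fin b) F))
    (hns : ∀ z : F, (A : Matrix (Fin a) (Fin a) F) ⊗ₖ (B : Matrix (Fin b) (Fin b) F) ≠
      z • (1 : Matrix (Fin a × Fin b) (Fin a × Fin b) F))
    (hrk : ((A : Matrix (Fin a) (Fin a) F) ⊗ₖ (B : Matrix (Fin b) (Fin b) F) -
      (1 : F) • (1 : Matrix (Fin a × Fin b) (Fin a × Fin b) F)).rank ≤
        2 * orderOf ((Fintype.card F : ℕ) : ZMod r))
    (hf : ∃ f : F[X], (aeval ((A : Matrix (Fin a) (Fin a) F) ⊗ₖ
      (B : Matrix (Fin b) (Fin b) F)) f).rank + orderOf ((Fintype.card F : ℕ) : ZMod r) =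
        a * b) : False := by
  set i := orderOf ((Fintype.card F : ℕ) : ZMod r) with hi
  have hi1 : 1 ≤ i := by
    obtain ⟨t, ht⟩ := hiodd
    omega
  by_cases hA : ∃ α : F, (A : Matrix (Fin a) (Fin a) F) = α • (1 : Matrix (Fin a) (Fin a) F)
  · obtain ⟨α, hα⟩ := hA
    obtain ⟨f, hf⟩ := hf
    rw [hα, rank_aeval_smul_one_kronecker] at hf
    have h1 : a ∣ i := by
      have h2 : a ∣ a * (aeval (α • (B : Matrix (Fin b) (Fin b) F)) f).rank + i := by
        rw [hf]
        exact dvd_mul_right a b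
      exact (Nat.dvd_add_right (dvd_mul_right a _)).1 h2
    have h3 : Even i := (even_iff_two_dvd.2 ((even_iff_two_dvd.1 hae).trans h1))
    exact (Nat.not_even_iff_odd.2 hiodd) h3
  · rw [not_exists] at hA
    by_cases hB : ∃ β : F, (B : Matrix (Fin b) (Fin b) F) = β • (1 : Matrix (Fin b) (Fin b) F)
    · obtain ⟨β, hβ⟩ := hB
      rw [rank_kronecker_sub_swap, hβ] at hrk
      have hAB' := pow_swap _ _ r 1 hAB
      rw [hβ] at hAB'
      have h1 := scalar_factor_bound r hrF (by omega) β _ hAB'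
        (smul_ne_one_of_not_scalar (by omega) _ hA β)
      rw [← hi] at h1
      nlinarith
    · rw [not_exists] at hB
      by_cases hi1' : i = 1
      · have h1 := le_rank_kronecker_sub (A : Matrix (Fin a) (Fin a) F)
          (B : Matrix (Fin b) (Fin b) F) hA (gl_mulVec_eq_zero B) 1
        omega
      · have hi2 : 2 ≤ i := by omega
        have hrq : ¬ r ∣ Fintype.card F - 1 :=
          Cfsg.Agent.Helper13.Elus.not_dvd_of_two_le_orderOf r hi2
        obtain ⟨-, h1, h2, -⟩ :=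
          both_nonscalar_bounds r hrF hrq (by omega) (by omega) A B hAB hA hB
        rw [← hi] at h1 h2
        have ha' : i + 1 ≤ a := by
          rcases Nat.lt_or_ge i a with h | h
          · exact h
          · exfalso
            have : a = i := by omega
            rw [this] at hae
            exact (Nat.not_even_iff_odd.2 hiodd) hae
        have hi3 : 3 ≤ i := by
          obtain ⟨t, ht⟩ := hiodd
          omega
        have h3 : (i - 1) * (i + 1) ≤ (i - 1) * a := Nat.mul_le_mul_left _ ha'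
        obtain ⟨k, hk⟩ : ∃ k, i = k + 3 := ⟨i - 3, by omega⟩
        have h4 : i - 1 = k + 2 := by omega
        rw [h4] at h3 h1
        rw [hk] at h3 hrk
        nlinarith

end semi

end Cfsg.Agent.Helper28.BGT
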