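import Mathlib
import Cfsg.Agent.Lib.Helper28.BGT11
import Cfsg.Agent.Lib.Helper28.BGS11
import Cfsg.Agent.Lib.Helper28.BGS17
import Cfsg.Agent.Lib.Helper13.OrthSp2
import Cfsg.Agent.S0245

/-!
# Symplectic groups and tensor decompositions: elements with no conjugate in the stabiliser
(helper28)
-/

set_option autoImplicit false
set_option linter.style.haveILetI false
set_option linter.unusedSectionVars false
set_option linter.unusedVariables false

namespace Cfsg.Agent.Helper28.BGT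

open Matrix Module Polynomial Cfsg.Agent.H28TF Cfsg.Agent.Helper13.SS Cfsg.Agent.Helper28.BGS
open scoped Kronecker

section arith

variable {F : Type*} [Field F] [Fintype F] {p : ℕ} [Fact p.Prime] [CharP F p] {d : ℕ}

theorem natCast_ne_zero_of_ne (r : ℕ) (hr : r.Prime) (hrp : r ≠ p) : (r : F) ≠ 0 := by
  have hp : p.Prime := Fact.out
  intro h
  rw [CharP.cast_eq_zero_iff F p r] at h
  exact hrp ((Nat.prime_dvd_prime_iff_eq hp hr).1 h).symm

/-- primes dividing the index of a subgroup of the symplectic group -/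
theorem sp_index_arith (r : ℕ) (hr : r.Prime) (hrp : r ≠ p)
    (H : Subgroup (GL (Fin d ⊕ Fin d) F)) (hΩ : r ∣ H.relIndex (Cfsg.spGL d F)) :
    ∃ j, 1 ≤ j ∧ j ≤ d ∧ orderOf ((Fintype.card F : ℕ) : ZMod r) ∣ 2 * j := by
  have hp : p.Prime := Fact.out
  have h1 : r ∣ Nat.card (Cfsg.spGL d F) := hΩ.trans (Subgroup.relIndex_dvd_card _ _)
  rw [Cfsg.Agent.Helper13.OrthSp.card_spGL, Cfsg.Agent.S0245.result rfl d] at h1
  have hq1 : 1 ≤ Fintype.card F := Fintype.card_pos
  rcases hr.dvd_mul.1 h1 with h5 | h5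
  · exfalso
    have h6 := hr.dvd_of_dvd_pow h5
    obtain ⟨n, -, hn⟩ := FiniteField.card F p
    rw [hn] at h6
    exact hrp ((Nat.prime_dvd_prime_iff_eq hr hp).1 (hr.dvd_of_dvd_pow h6))
  · obtain ⟨i, hi, hdvd⟩ := (Prime.dvd_finsetProd_iff hr.prime _).1 h5
    rw [Finset.mem_range] at hi
    exact ⟨i + 1, by omega, by omega,
      Cfsg.Agent.Helper12.orderOf_dvd_of_dvd_pow_sub_one hq1 hdvd⟩

end arith

section nec

variable {F : Type*} [Field F] [Fintype F] {d a b : ℕ}

theorem card_sum_fin (d : ℕ) : Fintype.card (Fin d ⊕ Fin d) = 2 * d := by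
  rw [Fintype.card_sum, Fintype.card_fin]
  ring

/-- the witnesses for the necessity of `r = 2` and `a = 2` -/
theorem sp_tensor_necessary (p : ℕ) [Fact p.Prime] [CharP F p] (hodd : Odd (Fintype.card F)) (hd : 2 ≤ d) (hab : 2 * d = a * b)
    (ha : Even a) (ha2 : 2 ≤ a) (hb : 3 ≤ b) (e : (Fin d ⊕ Fin d) ≃ Fin a × Fin b)
    (P : GL (Fin d ⊕ Fin d) F) (r : ℕ) [Fact r.Prime]
    (hΩ : r ∣ (Cfsg.Geo.tensorProductSubgroup a b e P).relIndex (Cfsg.spGL d F))
    (hall : ∀ x ∈ Cfsg.spGL d F,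
      (∃ z : F, ((x ^ r : GL (Fin d ⊕ Fin d) F) : Matrix (Fin d ⊕ Fin d) (Fin d ⊕ Fin d) F) =
        z • (1 : Matrix (Fin d ⊕ Fin d) (Fin d ⊕ Fin d) F)) →
      (∀ z : F, (x : Matrix (Fin d ⊕ Fin d) (Fin d ⊕ Fin d) F) ≠
        z • (1 : Matrix (Fin d ⊕ Fin d) (Fin d ⊕ Fin d) F)) →
      ∃ g ∈ Cfsg.spGL d F, g⁻¹ * x * g ∈ Cfsg.Geo.tensorProductSubgroup a b e P) :
    r = 2 ∧ a = 2 := by
  classical
  have hr : r.Prime := Fact.out
  have hp : p.Prime := Fact.out
  have h2 : (2 : F) ≠ 0 := Cfsg.Agent.Helper28.BGU.two_ne_zero_of_odd hodd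
  have hcard := card_sum_fin d
  -- the Kronecker data of an element of order `r`
  have key : ∀ x ∈ Cfsg.spGL d F,
      ((x ^ r : GL (Fin d ⊕ Fin d) F) : Matrix (Fin d ⊕ Fin d) (Fin d ⊕ Fin d) F) =
        (1 : F) • (1 : Matrix (Fin d ⊕ Fin d) (Fin d ⊕ Fin d) F) →
      (∀ z : F, (x : Matrix (Fin d ⊕ Fin d) (Fin d ⊕ Fin d) F) ≠
        z • (1 : Matrix (Fin d ⊕ Fin d) (Fin d ⊕ Fin d) F)) →
      ∃ (A : GL (Fin a) F) (B : GL (Fin b) F),
        (∀ f : F[X], (aeval (x : Matrix (Fin d ⊕ Fin d) (Fin d ⊕ Fin d) F) f).rank =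
          (aeval ((A : Matrix (Fin a) (Fin a) F) ⊗ₖ (B : Matrix (Fin b) (Fin b) F)) f).rank) ∧
        (∀ μ : F, ((x : Matrix (Fin d ⊕ Fin d) (Fin d ⊕ Fin d) F) -
            μ • (1 : Matrix (Fin d ⊕ Fin d) (Fin d ⊕ Fin d) F)).rank =
          ((A : Matrix (Fin a) (Fin a) F) ⊗ₖ (B : Matrix (Fin b) (Fin b) F) -
            μ • (1 : Matrix (Fin a × Fin b) (Fin a × Fin b) F)).rank) ∧
        ((A : Matrix (Fin a) (Fin a) F) ⊗ₖ (B : Matrix (Fin b) (Fin b) F)) ^ r =
          (1 : F) • (1 : Matrix (Fin a × Fin b) (Fin a × Fin b) F) ∧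
        (∀ z : F, (A : Matrix (Fin a) (Fin a) F) ⊗ₖ (B : Matrix (Fin b) (Fin b) F) ≠
          z • (1 : Matrix (Fin a × Fin b) (Fin a × Fin b) F)) := by
    intro x hx hxr hxns
    obtain ⟨g, -, hg⟩ := hall x hx ⟨1, hxr⟩ hxns
    obtain ⟨A, B, hk⟩ := exists_kron_kdim e P g x hg
    obtain ⟨h1, h3, h4⟩ := rank_eq_of_kdim_eq e _ _ hk
    refine ⟨A, B, h1, h3, ?_, ?_⟩
    · apply h4 r 1
      rw [← Units.val_pow_eq_pow_val]
      exact hxr
    · intro z hz
      apply hxns z
      have h5 := h3 z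
      rw [hz, sub_self, Matrix.rank_zero] at h5
      exact sub_eq_zero.1 (eq_zero_of_rank_eq_zero' _ h5)
  -- ranks from kernel dimensions
  have hrank : ∀ (x : Matrix (Fin d ⊕ Fin d) (Fin d ⊕ Fin d) F) (μ : F),
      kdim (Matrix.toLin' x) (X - C μ) +
        (x - μ • (1 : Matrix (Fin d ⊕ Fin d) (Fin d ⊕ Fin d) F)).rank = 2 * d := by
    intro x μ
    have := kdim_add_rank x (X - C μ)
    rwa [aeval_X_sub_C', hcard] at this
  by_cases hrp : r = p
  · -- a transvection
    exfalso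
    obtain ⟨x, hxs, hxp, hxns, hxk⟩ := Cfsg.Agent.Helper28.BGS.exists_transvection (F := F) (by omega : 1 ≤ d) p
    obtain ⟨A, B, -, hrk, -, hns⟩ := key x hxs
      (by rw [hrp, hxp, Units.val_one, one_smul]) hxns
    have h5 := hrank (x : Matrix (Fin d ⊕ Fin d) (Fin d ⊕ Fin d) F) 1
    have h6 := hrk 1
    exact kron_C1 ha2 (by omega) A B hns 1 (by omega)
  · have hrF : (r : F) ≠ 0 := natCast_ne_zero_of_ne (p := p) r hr hrp
    by_cases hr2 : r = 2
    · refine ⟨hr2, ?_⟩
      by_contra ha2'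
      obtain ⟨x, hxs, hx2, hxns, -, -, hxk1⟩ := exists_involution h2 hd
      obtain ⟨A, B, -, hrk, -, hns⟩ := key x hxs
        (by rw [hr2, hx2, Units.val_one, one_smul]) hxns
      have h5 := hrank (x : Matrix (Fin d ⊕ Fin d) (Fin d ⊕ Fin d) F) 1
      have h6 := hrk 1
      exact kron_C2 ha2 hb A B hns 1 (by omega) (Or.inl ha2')
    · exfalso
      obtain ⟨j, hj1, hjd, hidvd⟩ := sp_index_arith (p := p) r hr hrp _ hΩ
      set i := orderOf ((Fintype.card F : ℕ) : ZMod r) with hi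
      have hi0 : 0 < i := Nat.pos_of_dvd_of_pos hidvd (by omega)
      rcases Nat.even_or_odd i with hie | hio
      · obtain ⟨i', hi'⟩ := hie
        have hi'2 : i = 2 * i' := by omega
        have hi'0 : 0 < i' := by omega
        have hi'j : i' ∣ j := by
          rw [hi'2] at hidvd
          exact Nat.dvd_of_mul_dvd_mul_left (by norm_num) hidvd
        have hi'le : i' ≤ j := Nat.le_of_dvd (by omega) hi'j
        obtain ⟨x, hxr, f, hxf, hf1, hx1⟩ :=
          exists_elt_even' (F := F) (p := p) rfl r hr2 hrp d i' hi'2 hi'0 (by omega)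
        set X' := Cfsg.Agent.Helper28.SpSingMax.toGLHom d F x with hX'
        have hX'v : (X' : Matrix (Fin d ⊕ Fin d) (Fin d ⊕ Fin d) F) =
            (x : Matrix (Fin d ⊕ Fin d) (Fin d ⊕ Fin d) F) := rfl
        have hrq : ¬ r ∣ Fintype.card F - 1 :=
          Cfsg.Agent.Helper13.Elus.not_dvd_of_two_le_orderOf r (by omega)
        have hns : ∀ z : F, (X' : Matrix (Fin d ⊕ Fin d) (Fin d ⊕ Fin d) F) ≠
            z • (1 : Matrix (Fin d ⊕ Fin d) (Fin d ⊕ Fin d) F) := by
          intro z hz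
          rw [hX'v] at hz
          have hxr' : (x : Matrix (Fin d ⊕ Fin d) (Fin d ⊕ Fin d) F) ^ r = 1 := by
            rw [← SubmonoidClass.coe_pow, hxr]
            rfl
          rw [hz, _root_.smul_pow, one_pow] at hxr'
          have hz1 : z ^ r = 1 := by
            have h4 := congrFun (congrFun hxr' (Sum.inl ⟨0, by omega⟩)) (Sum.inl ⟨0, by omega⟩)
            rw [Matrix.smul_apply, Matrix.one_apply_eq, smul_eq_mul, mul_one] at h4
            exact h4
          have hz' : z = 1 := Cfsg.Agent.Helper13.Elus.eq_one_of_pow_eq_one_of_not_dvd r hrq z hz1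
          have h1 : Matrix.toLin' (x : Matrix (Fin d ⊕ Fin d) (Fin d ⊕ Fin d) F) =
              (LinearMap.id : Module.End F (Fin d ⊕ Fin d → F)) := by
            rw [hz, hz', one_smul, Matrix.toLin'_one]
          rw [h1, kdim_id_of_eval_ne f hf1] at hxf
          omega
        obtain ⟨A, B, -, hrk, hABr, hnsK⟩ := key X'
          (Cfsg.Agent.Helper28.SpSingMax.toGLHom_mem_spGL x) (toGL_pow_eq x r hxr) hns
        have h5 := hrank (x : Matrix (Fin d ⊕ Fin d) (Fin d ⊕ Fin d) F) 1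
        have h6 := hrk 1
        rw [hX'v] at h6
        exact kron_C3e r hrF (by omega) ha2 hb A B hABr hnsK (by omega)
      · have hij : i ∣ j := by
          have hcop : Nat.Coprime i 2 := Nat.Coprime.symm (Nat.coprime_two_left.2 hio)
          exact hcop.dvd_of_dvd_mul_left hidvd
        have hile : i ≤ j := Nat.le_of_dvd (by omega) hij
        obtain ⟨x, hxr, f, hxf, hx1⟩ :=
          exists_elt_odd (F := F) (p := p) rfl r hr2 hrp d hio (by omega)
        set X' := Cfsg.Agent.Helper28.SpSingMax.toGLHom d F x with hX'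
        have hX'v : (X' : Matrix (Fin d ⊕ Fin d) (Fin d ⊕ Fin d) F) =
            (x : Matrix (Fin d ⊕ Fin d) (Fin d ⊕ Fin d) F) := rfl
        have hfin : finrank F (Fin d ⊕ Fin d → F) = 2 * d := by
          rw [Module.finrank_fintype_fun_eq_card, hcard]
        have hns : ∀ z : F, (X' : Matrix (Fin d ⊕ Fin d) (Fin d ⊕ Fin d) F) ≠
            z • (1 : Matrix (Fin d ⊕ Fin d) (Fin d ⊕ Fin d) F) := by
          intro z hz
          rw [hX'v] at hz
          have h1 : Matrix.toLin' (x : Matrix (Fin d ⊕ Fin d) (Fin d ⊕ Fin d) F) =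
              z • (1 : Module.End F (Fin d ⊕ Fin d → F)) := by
            rw [hz, map_smul, Matrix.toLin'_one]
            rfl
          rw [h1] at hxf
          rcases kdim_scalar (V := Fin d ⊕ Fin d → F) z f with h2 | h2
          · omega
          · rw [hfin] at h2
            omega
        obtain ⟨A, B, hrkf, hrk, hABr, hnsK⟩ := key X'
          (Cfsg.Agent.Helper28.SpSingMax.toGLHom_mem_spGL x) (toGL_pow_eq x r hxr) hns
        have h5 := hrank (x : Matrix (Fin d ⊕ Fin d) (Fin d ⊕ Fin d) F) 1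
        have h6 := hrk 1
        rw [hX'v] at h6
        have h7 := kdim_add_rank (x : Matrix (Fin d ⊕ Fin d) (Fin d ⊕ Fin d) F) f
        have h8 := hrkf f
        rw [hX'v] at h8
        rw [hcard, hxf] at h7
        exact kron_C3o r hrF hio ha2 ha hb A B hABr hnsK (by omega) ⟨f, by omega⟩

end nec

end Cfsg.Agent.Helper28.BGT
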