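import Mathlib
import Cfsg.Agent.Lib.Helper28.TensFrameA
set_option autoImplicit false
open Cfsg
namespace Cfsg.Agent.H28TF
open Matrix Kronecker

variable {F : Type*} [Field F]

theorem zmod3_cases : ∀ y : ZMod 3, y = 0 ∨ y = 1 ∨ y = -1 := by decide

theorem zmod3_three : (3 : ZMod 3) = 0 := by decide

section three

variable [Fintype F] (hq : Fintype.card F = 3)

include hq in
theorem three_cases (x : F) : x = 0 ∨ x = 1 ∨ x = -1 := by
  let φ := ZMod.ringEquivOfPrime F (by norm_num : Nat.Prime 3) hq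
  obtain ⟨y, rfl⟩ := φ.surjective x
  rcases zmod3_cases y with h | h | h
  · left
    rw [h, map_zero]
  · right; left
    rw [h, map_one]
  · right; right
    rw [h, map_neg, map_one]

include hq in
theorem three_eq_zero : (3 : F) = 0 := by
  let φ := ZMod.ringEquivOfPrime F (by norm_num : Nat.Prime 3) hq
  have h : φ 3 = 3 := map_ofNat φ 3
  rw [← h, zmod3_three, map_zero]

include hq in
theorem two_ne_zero3 : (2 : F) ≠ 0 := by
  intro h
  have h3 := three_eq_zero hq
  have : (1 : F) = 0 := by linear_combination h3 - h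
  exact one_ne_zero this

end three

section frame

variable (h3 : (3 : F) = 0) (hc : ∀ x : F, x = 0 ∨ x = 1 ∨ x = -1)

include h3 in
theorem two_ne_zero_of_three : (2 : F) ≠ 0 := by
  intro h
  have : (1 : F) = 0 := by linear_combination h3 - h
  exact one_ne_zero this

include hc in
theorem sq_eq_one_of_ne_zero (x : F) (hx : x ≠ 0) : x * x = 1 := by
  rcases hc x with h | h | h
  · exact absurd h hx
  · rw [h, mul_one]
  · rw [h]; ring

/-- an orthogonal basis of a symmetric form on the 3-dimensional space -/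
theorem exists_orth_basis3 (h2 : (2 : F) ≠ 0) (f : (Fin 3 → F) → (Fin 3 → F) → F)
    (hf : Cfsg.Geo.IsSymmetricForm f) :
    ∃ v : Fin 3 → (Fin 3 → F), (∀ i j, i ≠ j → f (v i) (v j) = 0) ∧ ∀ i, f (v i) (v i) ≠ 0 := by
  let B : LinearMap.BilinForm F (Fin 3 → F) :=
    LinearMap.mk₂ F f hf.bilinear.add_left hf.bilinear.smul_left hf.bilinear.add_right
      hf.bilinear.smul_right
  have hB : ∀ x y, B x y = f x y := fun x y => rfl
  have hsymm : LinearMap.IsSymm B := ⟨fun x y => by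
    rw [RingHom.id_apply, hB, hB, hf.symm]⟩
  letI : Invertible (2 : F) := invertibleOfNonzero h2
  obtain ⟨v, hv⟩ := LinearMap.BilinForm.exists_orthogonal_basis hsymm
  have hsep : B.SeparatingLeft := by
    intro x hx
    by_contra hne
    obtain ⟨y, hy⟩ := (hf.nondegenerate x hne).2
    exact hy (hx y)
  have hfr : Module.finrank F (Fin 3 → F) = 3 := by simp
  refine ⟨fun i => v (Fin.cast hfr.symm i), ?_, ?_⟩
  · intro i j hij
    have : Fin.cast hfr.symm i ≠ Fin.cast hfr.symm j := by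
      intro h
      exact hij (Fin.cast_injective _ h)
    have h := hv this
    exact h
  · intro i
    exact hv.not_isOrtho_basis_self_of_separatingLeft hsep _

include h3 hc in
/-- an orthogonal basis all of whose members have the same norm -/
theorem exists_orth3 (f : (Fin 3 → F) → (Fin 3 → F) → F) (hf : Cfsg.Geo.IsSymmetricForm f) :
    ∃ (w : Fin 3 → (Fin 3 → F)) (d : F), d ≠ 0 ∧ ∀ i j, f (w i) (w j) = if i = j then d else 0 := by
  have h2 := two_ne_zero_of_three h3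
  obtain ⟨v, hv, hvn⟩ := exists_orth_basis3 h2 f hf
  have hb := hf.bilinear
  have key : ∀ (a b c : Fin 3 → F), f a b = 0 → f a c = 0 → f b c = 0 → f a a = f b b →
      f c c = - f a a → f a a ≠ 0 →
      ∃ (w : Fin 3 → (Fin 3 → F)) (d : F), d ≠ 0 ∧ ∀ i j, f (w i) (w j) = if i = j then d else 0 := by
    intro a b c hab hac hbc haa hcc hne
    have hba : f b a = 0 := by rw [hf.symm, hab]
    have hca : f c a = 0 := by rw [hf.symm, hac]
    have hcb : f c b = 0 := by rw [hf.symm, hbc]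
    have hnl : ∀ x y, f (-x) y = - f x y := fun x y => by
      have := hb.smul_left (-1) x y
      rwa [neg_one_smul, neg_one_mul] at this
    have hnr : ∀ x y, f x (-y) = - f x y := fun x y => by
      have := hb.smul_right (-1) x y
      rwa [neg_one_smul, neg_one_mul] at this
    refine ⟨![a + b, a + -b, c], - f a a, neg_ne_zero.mpr hne, ?_⟩
    intro i j
    fin_cases i <;> fin_cases j <;>
      simp [hb.add_left, hb.add_right, hnl, hnr, hab, hba, hac, hca, hbc, hcb,
        ← haa, hcc] <;> linear_combination (f a a) * h3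
  have hn : ∀ i, f (v i) (v i) = 1 ∨ f (v i) (v i) = -1 := fun i =>
    (hc _).resolve_left (hvn i)
  have h01 := hv 0 1 (by decide)
  have h02 := hv 0 2 (by decide)
  have h12 := hv 1 2 (by decide)
  have h10 := hv 1 0 (by decide)
  have h20 := hv 2 0 (by decide)
  have h21 := hv 2 1 (by decide)
  have hneg : ∀ x y : F, (x = 1 ∨ x = -1) → (y = 1 ∨ y = -1) → x ≠ y → y = -x := by
    intro x y hx hy hne
    rcases hx with rfl | rfl <;> rcases hy with rfl | rfl
    · exact absurd rfl hne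
    · rfl
    · rw [neg_neg]
    · exact absurd rfl hne
  by_cases e01 : f (v 0) (v 0) = f (v 1) (v 1)
  · by_cases e02 : f (v 0) (v 0) = f (v 2) (v 2)
    · refine ⟨v, f (v 0) (v 0), hvn 0, ?_⟩
      intro i j
      by_cases hij : i = j
      · subst hij
        rw [if_pos rfl]
        fin_cases i
        · rfl
        · exact e01.symm
        · exact e02.symm
      · rw [if_neg hij]
        exact hv i j hij
    · exact key (v 0) (v 1) (v 2) h01 h02 h12 e01 (hneg _ _ (hn 0) (hn 2) e02) (hvn 0)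
  · by_cases e02 : f (v 0) (v 0) = f (v 2) (v 2)
    · exact key (v 0) (v 2) (v 1) h02 h01 h21 e02 (hneg _ _ (hn 0) (hn 1) e01) (hvn 0)
    · have e1 := hneg _ _ (hn 0) (hn 1) e01
      have e2 := hneg _ _ (hn 0) (hn 2) e02
      have e12 : f (v 1) (v 1) = f (v 2) (v 2) := by rw [e1, e2]
      refine key (v 1) (v 2) (v 0) h12 h10 h20 e12 ?_ (hvn 1)
      rw [e1, neg_neg]

end frame


section gram

theorem bil_eq_gram {κ : Type} [Fintype κ] [DecidableEq κ] (f : (κ → F) → (κ → F) → F)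
    (hb : Cfsg.Geo.IsBilinearForm f) (x y : κ → F) :
    f x y = x ⬝ᵥ (Cfsg.Geo.gramMatrix f *ᵥ y) := by
  let B : (κ → F) →ₗ[F] (κ → F) →ₗ[F] F :=
    LinearMap.mk₂ F f hb.add_left hb.smul_left hb.add_right hb.smul_right
  have h1 : LinearMap.toMatrix₂' F B = Cfsg.Geo.gramMatrix f := by
    ext i j
    rw [LinearMap.toMatrix₂'_apply]
    rfl
  have h2 := Matrix.toLinearMap₂'_toMatrix' (R := F) B
  have h3 : B x y = f x y := rfl
  rw [← h3, ← h2, Matrix.toLinearMap₂'_apply', h1]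

theorem gram_congr_apply (G W : Matrix (Fin 3) (Fin 3) F) (i j : Fin 3) :
    (Wᵀ * G * W) i j = (fun k => W k i) ⬝ᵥ (G *ᵥ (fun k => W k j)) := by
  rw [Matrix.mul_assoc, Matrix.mul_apply]
  simp only [dotProduct, Matrix.transpose_apply, Matrix.mul_apply, Matrix.mulVec]

end gram

section normal

variable {ι : Type} [Fintype ι] [DecidableEq ι] {n₁ : ℕ}

/-- the normal form of a tensor form structure whose second factor is a ternary symmetric
form over the field with three elements -/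
theorem exists_normal_form (h3 : (3 : F) = 0) (hc : ∀ x : F, x = 0 ∨ x = 1 ∨ x = -1)
    (f : (ι → F) → (ι → F) → F) (f₁ : (Fin n₁ → F) → (Fin n₁ → F) → F)
    (f₂ : (Fin 3 → F) → (Fin 3 → F) → F) (hf₂ : Cfsg.Geo.IsSymmetricForm f₂)
    (e : ι ≃ Fin n₁ × Fin 3) (P : GL ι F)
    (hT : Cfsg.Geo.IsTensorFormStructure id f f₁ f₂ e P) :
    ∃ (P' : GL ι F) (c : F), c ≠ 0 ∧
      Cfsg.Geo.tensorProductSubgroup n₁ 3 e P' = Cfsg.Geo.tensorProductSubgroup n₁ 3 e P ∧
      ∀ x y, f (ps e P' x) (ps e P' y) =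
        c * Cfsg.Geo.formOfGram id (Cfsg.Geo.gramMatrix f₁ ⊗ₖ (1 : Matrix (Fin 3) (Fin 3) F)) x y := by
  obtain ⟨c, hc0, hT⟩ := hT
  obtain ⟨w, d, hd, hw⟩ := exists_orth3 h3 hc f₂ hf₂
  obtain ⟨W, hW⟩ : ∃ W : Matrix (Fin 3) (Fin 3) F, W = Matrix.of (fun j i => w i j) := ⟨_, rfl⟩
  have hWG : Wᵀ * Cfsg.Geo.gramMatrix f₂ * W = d • (1 : Matrix (Fin 3) (Fin 3) F) := by
    ext i j
    rw [gram_congr_apply]
    have e1 : (fun k => W k i) = w i := by
      funext k
      rw [hW]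
      rfl
    have e2 : (fun k => W k j) = w j := by
      funext k
      rw [hW]
      rfl
    rw [e1, e2, ← bil_eq_gram f₂ hf₂.bilinear, hw, Matrix.smul_apply, Matrix.one_apply, smul_eq_mul]
    split_ifs <;> simp
  have hdet : W.det ≠ 0 := by
    intro h0
    have := congrArg Matrix.det hWG
    rw [Matrix.det_mul, Matrix.det_mul, h0, mul_zero, Matrix.det_smul, Matrix.det_one, mul_one] at this
    exact pow_ne_zero _ hd this.symm
  obtain ⟨Wg, hWg⟩ : ∃ Wg : GL (Fin 3) F, (Wg : Matrix (Fin 3) (Fin 3) F) = W :=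
    ⟨Matrix.GeneralLinearGroup.mkOfDetNeZero W hdet, rfl⟩
  have hu1 : ((1 : Matrix (Fin n₁) (Fin n₁) F) ⊗ₖ (Wg : Matrix (Fin 3) (Fin 3) F)) *
      ((1 : Matrix (Fin n₁) (Fin n₁) F) ⊗ₖ ((Wg⁻¹ : GL (Fin 3) F) : Matrix (Fin 3) (Fin 3) F)) = 1 := by
    rw [← Matrix.mul_kronecker_mul, one_mul, ← Units.val_mul, mul_inv_cancel, Units.val_one,
      Matrix.one_kronecker_one]
  have hu2 : ((1 : Matrix (Fin n₁) (Fin n₁) F) ⊗ₖ ((Wg⁻¹ : GL (Fin 3) F) : Matrix (Fin 3) (Fin 3) F)) *
      ((1 : Matrix (Fin n₁) (Fin n₁) F) ⊗ₖ (Wg : Matrix (Fin 3) (Fin 3) F)) = 1 := by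
    rw [← Matrix.mul_kronecker_mul, one_mul, ← Units.val_mul, inv_mul_cancel, Units.val_one,
      Matrix.one_kronecker_one]
  obtain ⟨u, hu⟩ : ∃ u : GL (Fin n₁ × Fin 3) F, (u : Matrix (Fin n₁ × Fin 3) (Fin n₁ × Fin 3) F) =
      (1 : Matrix (Fin n₁) (Fin n₁) F) ⊗ₖ W := ⟨⟨_, _, hu1, hu2⟩, by
        show (1 : Matrix (Fin n₁) (Fin n₁) F) ⊗ₖ (Wg : Matrix (Fin 3) (Fin 3) F) = _
        rw [hWg]⟩
  have hukron : u ∈ Cfsg.Geo.kroneckerSubgroup n₁ 3 F := ⟨1, Wg, by rw [hu, hWg]; rfl⟩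
  refine ⟨P * Cfsg.Geo.glReindex e.symm u, c * d, mul_ne_zero hc0 hd, tps_mul e P u hukron, ?_⟩
  intro x y
  rw [ps_mul, ps_mul]
  have := hT ((u : Matrix (Fin n₁ × Fin 3) (Fin n₁ × Fin 3) F) *ᵥ x)
    ((u : Matrix (Fin n₁ × Fin 3) (Fin n₁ × Fin 3) F) *ᵥ y)
  unfold ps
  rw [this, formOfGram_mulVec, hu, ← Matrix.kroneckerMap_transpose, Matrix.transpose_one,
    ← Matrix.mul_kronecker_mul, ← Matrix.mul_kronecker_mul, one_mul, mul_one, hWG,
    Matrix.kronecker_smul, formOfGram_smul, mul_assoc]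

end normal

end Cfsg.Agent.H28TF
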