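import Mathlib
import Cfsg.Agent.Lib.Helper28.TensFrameB
set_option autoImplicit false
open Cfsg
namespace Cfsg.Agent.H28TF
open Matrix Kronecker

variable {F : Type*} [Field F] {n₁ n₂ : ℕ}

/-- pure tensors -/
def tp (x : Fin n₁ → F) (w : Fin n₂ → F) : Fin n₁ × Fin n₂ → F := fun a => x a.1 * w a.2

theorem tp_apply (x : Fin n₁ → F) (w : Fin n₂ → F) (i : Fin n₁) (j : Fin n₂) :
    tp x w (i, j) = x i * w j := rfl

theorem kron_mulVec_tp (a : Matrix (Fin n₁) (Fin n₁) F) (b : Matrix (Fin n₂) (Fin n₂) F)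
    (x : Fin n₁ → F) (w : Fin n₂ → F) : (a ⊗ₖ b) *ᵥ tp x w = tp (a *ᵥ x) (b *ᵥ w) := by
  funext ⟨i, j⟩
  simp only [Matrix.mulVec, dotProduct, tp_apply, Fintype.sum_prod_type, Matrix.kroneckerMap_apply]
  rw [Finset.sum_mul_sum]
  refine Finset.sum_congr rfl fun i' _ => Finset.sum_congr rfl fun j' _ => ?_
  ring

theorem tp_dot_tp (x y : Fin n₁ → F) (w z : Fin n₂ → F) :
    tp x w ⬝ᵥ tp y z = (x ⬝ᵥ y) * (w ⬝ᵥ z) := by
  simp only [dotProduct, tp, Fintype.sum_prod_type]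
  rw [Finset.sum_mul_sum]
  refine Finset.sum_congr rfl fun i' _ => Finset.sum_congr rfl fun j' _ => ?_
  ring

theorem form_tp (G₁ : Matrix (Fin n₁) (Fin n₁) F) (G₂ : Matrix (Fin n₂) (Fin n₂) F)
    (x y : Fin n₁ → F) (w z : Fin n₂ → F) :
    Cfsg.Geo.formOfGram id (G₁ ⊗ₖ G₂) (tp x w) (tp y z) = (x ⬝ᵥ G₁ *ᵥ y) * (w ⬝ᵥ G₂ *ᵥ z) := by
  rw [formOfGram_id, kron_mulVec_tp, tp_dot_tp]

theorem tp_add_left (x y : Fin n₁ → F) (w : Fin n₂ → F) : tp (x + y) w = tp x w + tp y w := by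
  funext a
  simp only [tp, Pi.add_apply]
  ring

theorem tp_add_right (x : Fin n₁ → F) (w z : Fin n₂ → F) : tp x (w + z) = tp x w + tp x z := by
  funext a
  simp only [tp, Pi.add_apply]
  ring

theorem tp_smul_left (c : F) (x : Fin n₁ → F) (w : Fin n₂ → F) : tp (c • x) w = c • tp x w := by
  funext a
  simp only [tp, Pi.smul_apply, smul_eq_mul]
  ring

theorem tp_smul_right (c : F) (x : Fin n₁ → F) (w : Fin n₂ → F) : tp x (c • w) = c • tp x w := by
  funext a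
  simp only [tp, Pi.smul_apply, smul_eq_mul]
  ring

theorem tp_zero_right (x : Fin n₁ → F) : tp x (0 : Fin n₂ → F) = 0 := by
  funext a
  simp [tp]

theorem tp_zero_left (w : Fin n₂ → F) : tp (0 : Fin n₁ → F) w = 0 := by
  funext a
  simp [tp]

/-- the vectors supported in a single column -/
def SS (n₁ n₂ : ℕ) (F : Type*) [Field F] : Set (Fin n₁ × Fin n₂ → F) :=
  {v | ∃ (i : Fin n₂) (x : Fin n₁ → F), v = tp x (Pi.single i 1)}

/-- the stabiliser of the set of the vectors supported in a single column -/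
def Stab (n₁ n₂ : ℕ) (F : Type*) [Field F] : Subgroup (GL (Fin n₁ × Fin n₂) F) where
  carrier := {g | ∀ v, (g : Matrix (Fin n₁ × Fin n₂) (Fin n₁ × Fin n₂) F) *ᵥ v ∈ SS n₁ n₂ F ↔
    v ∈ SS n₁ n₂ F}
  mul_mem' {a b} ha hb := fun v => by rw [Units.val_mul, ← Matrix.mulVec_mulVec, ha, hb]
  one_mem' := fun v => by rw [Units.val_one, Matrix.one_mulVec]
  inv_mem' {a} ha := fun v => by
    rw [← ha, Matrix.mulVec_mulVec, ← Units.val_mul, mul_inv_cancel, Units.val_one,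
      Matrix.one_mulVec]

theorem mem_Stab_of_maps (M : Subgroup (GL (Fin n₁ × Fin n₂) F))
    (hM : ∀ g ∈ M, ∀ v ∈ SS n₁ n₂ F,
      (g : Matrix (Fin n₁ × Fin n₂) (Fin n₁ × Fin n₂) F) *ᵥ v ∈ SS n₁ n₂ F) :
    M ≤ Stab n₁ n₂ F := by
  intro g hg v
  constructor
  · intro h
    have := hM g⁻¹ (inv_mem hg) _ h
    rwa [Matrix.mulVec_mulVec, ← Units.val_mul, inv_mul_cancel, Units.val_one,
      Matrix.one_mulVec] at this
  · exact hM g hg v

section isom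

variable {κ : Type} [Fintype κ] [DecidableEq κ]

theorem formOfGram_single (G : Matrix κ κ F) (a b : κ) :
    Cfsg.Geo.formOfGram id G (Pi.single a 1) (Pi.single b 1) = G a b := by
  rw [formOfGram_id, Matrix.mulVec_single_one, single_one_dotProduct]
  rfl

theorem mem_isom_iff (G : Matrix κ κ F) (g : GL κ F) :
    g ∈ Cfsg.preserving (Cfsg.glToMat κ F) (Cfsg.Geo.formOfGram id G) ↔
      (g : Matrix κ κ F)ᵀ * G * (g : Matrix κ κ F) = G := by
  constructor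
  · intro h
    ext a b
    have := h (Pi.single a 1) (Pi.single b 1)
    have h2 : Cfsg.Geo.formOfGram id G ((g : Matrix κ κ F) *ᵥ Pi.single a 1)
        ((g : Matrix κ κ F) *ᵥ Pi.single b 1) =
        Cfsg.Geo.formOfGram id G (Pi.single a 1) (Pi.single b 1) := this
    rw [formOfGram_mulVec, formOfGram_single, formOfGram_single] at h2
    exact h2
  · intro h u v
    show Cfsg.Geo.formOfGram id G ((g : Matrix κ κ F) *ᵥ u) ((g : Matrix κ κ F) *ᵥ v) = _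
    rw [formOfGram_mulVec, h]

end isom

section mono

variable (h3 : (3 : F) = 0) (hc : ∀ x : F, x = 0 ∨ x = 1 ∨ x = -1)

include h3 hc in
/-- a vector of norm one over the field with three elements has exactly one non-zero coordinate -/
theorem unit_vec (w : Fin 3 → F) (hw : w ⬝ᵥ w = 1) : ∃ (k : Fin 3) (t : F), w = t • Pi.single k 1 := by
  have hsq : ∀ x : F, x ≠ 0 → x * x = 1 := sq_eq_one_of_ne_zero hc
  simp only [dotProduct, Fin.sum_univ_three] at hw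
  have hrep : ∀ (k : Fin 3), (∀ j, j ≠ k → w j = 0) → w = w k • Pi.single k 1 := by
    intro k hk
    funext j
    by_cases hj : j = k
    · subst hj
      simp
    · rw [hk j hj]
      simp [hj]
  by_cases h0 : w 0 = 0 <;> by_cases h1 : w 1 = 0 <;> by_cases h2 : w 2 = 0
  · exfalso
    rw [h0, h1, h2] at hw
    simp at hw
  · refine ⟨2, w 2, hrep 2 ?_⟩
    intro j hj
    fin_cases j
    · exact h0
    · exact h1
    · exact absurd rfl hj
  · refine ⟨1, w 1, hrep 1 ?_⟩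
    intro j hj
    fin_cases j
    · exact h0
    · exact absurd rfl hj
    · exact h2
  · exfalso
    rw [h0, hsq _ h1, hsq _ h2] at hw
    have : (1 : F) = 0 := by linear_combination hw
    exact one_ne_zero this
  · refine ⟨0, w 0, hrep 0 ?_⟩
    intro j hj
    fin_cases j
    · exact absurd rfl hj
    · exact h1
    · exact h2
  · exfalso
    rw [h1, hsq _ h0, hsq _ h2] at hw
    have : (1 : F) = 0 := by linear_combination hw
    exact one_ne_zero this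
  · exfalso
    rw [h2, hsq _ h0, hsq _ h1] at hw
    have : (1 : F) = 0 := by linear_combination hw
    exact one_ne_zero this
  · exfalso
    rw [hsq _ h0, hsq _ h1, hsq _ h2] at hw
    have : (1 : F) = 0 := by linear_combination h3 - hw
    exact one_ne_zero this

include h3 hc in
/-- a Kronecker product preserving the form `G₁ ⊗ 1` preserves the set of the vectors supported
in a single column -/
theorem kron_isom_maps (G₁ : Matrix (Fin n₁) (Fin n₁) F)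
    (hG₁ : ∃ x y : Fin n₁ → F, x ⬝ᵥ G₁ *ᵥ y ≠ 0)
    (g : GL (Fin n₁ × Fin 3) F) (hgk : g ∈ Cfsg.Geo.kroneckerSubgroup n₁ 3 F)
    (hgi : g ∈ Cfsg.preserving (Cfsg.glToMat (Fin n₁ × Fin 3) F)
      (Cfsg.Geo.formOfGram id (G₁ ⊗ₖ (1 : Matrix (Fin 3) (Fin 3) F))))
    (v : Fin n₁ × Fin 3 → F) (hv : v ∈ SS n₁ 3 F) :
    (g : Matrix (Fin n₁ × Fin 3) (Fin n₁ × Fin 3) F) *ᵥ v ∈ SS n₁ 3 F := by
  obtain ⟨a, b, hg⟩ := hgk
  obtain ⟨x₀, y₀, hxy⟩ := hG₁
  have hpres : ∀ (x y : Fin n₁ → F) (w z : Fin 3 → F),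
      (((a : Matrix (Fin n₁) (Fin n₁) F) *ᵥ x) ⬝ᵥ G₁ *ᵥ ((a : Matrix (Fin n₁) (Fin n₁) F) *ᵥ y)) *
        (((b : Matrix (Fin 3) (Fin 3) F) *ᵥ w) ⬝ᵥ ((b : Matrix (Fin 3) (Fin 3) F) *ᵥ z)) =
      (x ⬝ᵥ G₁ *ᵥ y) * (w ⬝ᵥ z) := by
    intro x y w z
    have := hgi (tp x w) (tp y z)
    have h2 : Cfsg.Geo.formOfGram id (G₁ ⊗ₖ (1 : Matrix (Fin 3) (Fin 3) F))
        ((g : Matrix (Fin n₁ × Fin 3) (Fin n₁ × Fin 3) F) *ᵥ tp x w)
        ((g : Matrix (Fin n₁ × Fin 3) (Fin n₁ × Fin 3) F) *ᵥ tp y z) =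
        Cfsg.Geo.formOfGram id (G₁ ⊗ₖ (1 : Matrix (Fin 3) (Fin 3) F)) (tp x w) (tp y z) := this
    rw [hg, kron_mulVec_tp, kron_mulVec_tp, form_tp, form_tp, Matrix.one_mulVec,
      Matrix.one_mulVec] at h2
    exact h2
  obtain ⟨α, hα⟩ : ∃ α, α = ((a : Matrix (Fin n₁) (Fin n₁) F) *ᵥ x₀) ⬝ᵥ
    G₁ *ᵥ ((a : Matrix (Fin n₁) (Fin n₁) F) *ᵥ y₀) := ⟨_, rfl⟩
  obtain ⟨β, hβ⟩ : ∃ β, β = x₀ ⬝ᵥ G₁ *ᵥ y₀ := ⟨_, rfl⟩
  have hαβ : ∀ w z : Fin 3 → F, α * (((b : Matrix (Fin 3) (Fin 3) F) *ᵥ w) ⬝ᵥ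
      ((b : Matrix (Fin 3) (Fin 3) F) *ᵥ z)) = β * (w ⬝ᵥ z) := by
    intro w z
    rw [hα, hβ]
    exact hpres x₀ y₀ w z
  have hα0 : α ≠ 0 := by
    intro h0
    have := hαβ (Pi.single 0 1) (Pi.single 0 1)
    rw [h0, zero_mul, single_one_dotProduct, Pi.single_eq_same, mul_one] at this
    exact hxy (by rw [← hβ]; exact this.symm)
  obtain ⟨l, hl⟩ : ∃ l, l = α⁻¹ * β := ⟨_, rfl⟩
  have hl0 : l ≠ 0 := by
    rw [hl]
    exact mul_ne_zero (inv_ne_zero hα0) (by rw [hβ]; exact hxy)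
  have hb : ∀ w z : Fin 3 → F, ((b : Matrix (Fin 3) (Fin 3) F) *ᵥ w) ⬝ᵥ
      ((b : Matrix (Fin 3) (Fin 3) F) *ᵥ z) = l * (w ⬝ᵥ z) := by
    intro w z
    rw [hl, mul_assoc, ← hαβ w z, ← mul_assoc, inv_mul_cancel₀ hα0, one_mul]
  have hbb : (b : Matrix (Fin 3) (Fin 3) F)ᵀ * (b : Matrix (Fin 3) (Fin 3) F) =
      l • (1 : Matrix (Fin 3) (Fin 3) F) := by
    ext i j
    have := hb (Pi.single i 1) (Pi.single j 1)
    rw [Matrix.mulVec_single_one, Matrix.mulVec_single_one, single_one_dotProduct] at this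
    rw [Matrix.mul_apply, Matrix.smul_apply, Matrix.one_apply, smul_eq_mul]
    simp only [Matrix.transpose_apply]
    rw [Pi.single_apply] at this
    simp only [dotProduct, Matrix.col_apply] at this
    rw [this]
  have hl1 : l = 1 := by
    have hd := congrArg Matrix.det hbb
    rw [Matrix.det_mul, Matrix.det_transpose, Matrix.det_smul, Matrix.det_one, mul_one,
      Fintype.card_fin] at hd
    have hdet : (b : Matrix (Fin 3) (Fin 3) F).det ≠ 0 := by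
      intro h0
      rw [h0, mul_zero] at hd
      exact pow_ne_zero _ hl0 hd.symm
    have h1 := sq_eq_one_of_ne_zero hc _ hdet
    have h2 : l ^ 3 = l := by
      have := sq_eq_one_of_ne_zero hc _ hl0
      calc l ^ 3 = l * (l * l) := by ring
        _ = l := by rw [this, mul_one]
    rw [← h2, ← hd, h1]
  rw [hl1] at hb
  obtain ⟨i, x, rfl⟩ := hv
  rw [hg, kron_mulVec_tp]
  have hnorm : ((b : Matrix (Fin 3) (Fin 3) F) *ᵥ Pi.single i 1) ⬝ᵥ
      ((b : Matrix (Fin 3) (Fin 3) F) *ᵥ Pi.single i 1) = 1 := by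
    rw [hb, one_mul, single_one_dotProduct, Pi.single_eq_same]
  obtain ⟨k, t, hkt⟩ := unit_vec h3 hc _ hnorm
  rw [hkt, tp_smul_right, ← tp_smul_left]
  exact ⟨k, _, rfl⟩

end mono

end Cfsg.Agent.H28TF
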