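import Mathlib
import Cfsg.Agent.Lib.Helper28.TensFrameC
set_option autoImplicit false
open Cfsg
namespace Cfsg.Agent.H28TF
open Matrix Kronecker

variable {F : Type*} [Field F]

section blocks

variable {n₁ n₂ : ℕ} (k₀ : Fin n₂)

/-- the projection onto the coordinate `k₀` -/
def pj : Matrix (Fin n₂) (Fin n₂) F := Matrix.diagonal (fun k => if k = k₀ then 1 else 0)

/-- the complementary projection -/
def pj' : Matrix (Fin n₂) (Fin n₂) F := Matrix.diagonal (fun k => if k = k₀ then 0 else 1)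

theorem pj_mul_pj : (pj k₀ : Matrix (Fin n₂) (Fin n₂) F) * pj k₀ = pj k₀ := by
  unfold pj
  rw [Matrix.diagonal_mul_diagonal]
  congr 1
  funext k
  split_ifs <;> simp

theorem pj'_mul_pj' : (pj' k₀ : Matrix (Fin n₂) (Fin n₂) F) * pj' k₀ = pj' k₀ := by
  unfold pj'
  rw [Matrix.diagonal_mul_diagonal]
  congr 1
  funext k
  split_ifs <;> simp

theorem pj_mul_pj' : (pj k₀ : Matrix (Fin n₂) (Fin n₂) F) * pj' k₀ = 0 := by
  unfold pj pj'
  rw [Matrix.diagonal_mul_diagonal, ← Matrix.diagonal_zero]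
  congr 1
  funext k
  split_ifs <;> simp

theorem pj'_mul_pj : (pj' k₀ : Matrix (Fin n₂) (Fin n₂) F) * pj k₀ = 0 := by
  unfold pj pj'
  rw [Matrix.diagonal_mul_diagonal, ← Matrix.diagonal_zero]
  congr 1
  funext k
  split_ifs <;> simp

theorem pj_add_pj' : (pj k₀ : Matrix (Fin n₂) (Fin n₂) F) + pj' k₀ = 1 := by
  unfold pj pj'
  rw [Matrix.diagonal_add, ← Matrix.diagonal_one]
  congr 1
  funext k
  split_ifs <;> simp

theorem pj_transpose : (pj k₀ : Matrix (Fin n₂) (Fin n₂) F)ᵀ = pj k₀ := Matrix.diagonal_transpose _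

theorem pj'_transpose : (pj' k₀ : Matrix (Fin n₂) (Fin n₂) F)ᵀ = pj' k₀ := Matrix.diagonal_transpose _

theorem pj_single_same : (pj k₀ : Matrix (Fin n₂) (Fin n₂) F) *ᵥ Pi.single k₀ 1 = Pi.single k₀ 1 := by
  unfold pj
  rw [Matrix.diagonal_mulVec_single, if_pos rfl, mul_one]

theorem pj'_single_same : (pj' k₀ : Matrix (Fin n₂) (Fin n₂) F) *ᵥ Pi.single k₀ 1 = 0 := by
  unfold pj'
  rw [Matrix.diagonal_mulVec_single, if_pos rfl, mul_one, Pi.single_zero]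

theorem pj_single_other (k : Fin n₂) (hk : k ≠ k₀) :
    (pj k₀ : Matrix (Fin n₂) (Fin n₂) F) *ᵥ Pi.single k 1 = 0 := by
  unfold pj
  rw [Matrix.diagonal_mulVec_single, if_neg hk, mul_one, Pi.single_zero]

theorem pj'_single_other (k : Fin n₂) (hk : k ≠ k₀) :
    (pj' k₀ : Matrix (Fin n₂) (Fin n₂) F) *ᵥ Pi.single k 1 = Pi.single k 1 := by
  unfold pj'
  rw [Matrix.diagonal_mulVec_single, if_neg hk, mul_one]

/-- the block matrix with `A` at the coordinate `k₀` and `B` at the others -/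
def bk (A B : Matrix (Fin n₁) (Fin n₁) F) : Matrix (Fin n₁ × Fin n₂) (Fin n₁ × Fin n₂) F :=
  A ⊗ₖ pj k₀ + B ⊗ₖ pj' k₀

theorem bk_mul (A B A' B' : Matrix (Fin n₁) (Fin n₁) F) :
    bk k₀ A B * bk k₀ A' B' = bk k₀ (A * A') (B * B') := by
  unfold bk
  rw [add_mul, mul_add, mul_add, ← Matrix.mul_kronecker_mul, ← Matrix.mul_kronecker_mul,
    ← Matrix.mul_kronecker_mul, ← Matrix.mul_kronecker_mul, pj_mul_pj, pj_mul_pj', pj'_mul_pj,
    pj'_mul_pj', Matrix.kronecker_zero, Matrix.kronecker_zero, add_zero, zero_add]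

theorem bk_same (A : Matrix (Fin n₁) (Fin n₁) F) :
    bk k₀ A A = A ⊗ₖ (1 : Matrix (Fin n₂) (Fin n₂) F) := by
  unfold bk
  rw [← Matrix.kronecker_add, pj_add_pj']

theorem bk_one : bk k₀ (1 : Matrix (Fin n₁) (Fin n₁) F) 1 = 1 := by
  rw [bk_same, Matrix.one_kronecker_one]

theorem bk_transpose (A B : Matrix (Fin n₁) (Fin n₁) F) : (bk k₀ A B)ᵀ = bk k₀ Aᵀ Bᵀ := by
  unfold bk
  rw [Matrix.transpose_add, ← Matrix.kroneckerMap_transpose, ← Matrix.kroneckerMap_transpose,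
    pj_transpose, pj'_transpose]

theorem bk_mulVec_same (A B : Matrix (Fin n₁) (Fin n₁) F) (x : Fin n₁ → F) :
    bk k₀ A B *ᵥ tp x (Pi.single k₀ 1) = tp (A *ᵥ x) (Pi.single k₀ 1) := by
  unfold bk
  rw [Matrix.add_mulVec, kron_mulVec_tp, kron_mulVec_tp, pj_single_same, pj'_single_same,
    tp_zero_right, add_zero]

theorem bk_mulVec_other (A B : Matrix (Fin n₁) (Fin n₁) F) (x : Fin n₁ → F) (k : Fin n₂)
    (hk : k ≠ k₀) : bk k₀ A B *ᵥ tp x (Pi.single k 1) = tp (B *ᵥ x) (Pi.single k 1) := by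
  unfold bk
  rw [Matrix.add_mulVec, kron_mulVec_tp, kron_mulVec_tp, pj_single_other k₀ k hk,
    pj'_single_other k₀ k hk, tp_zero_right, zero_add]

theorem bk_maps (A B : Matrix (Fin n₁) (Fin n₁) F) (v : Fin n₁ × Fin n₂ → F)
    (hv : v ∈ SS n₁ n₂ F) : bk k₀ A B *ᵥ v ∈ SS n₁ n₂ F := by
  obtain ⟨k, x, rfl⟩ := hv
  by_cases hk : k = k₀
  · subst hk
    rw [bk_mulVec_same]
    exact ⟨k, _, rfl⟩
  · rw [bk_mulVec_other k₀ A B x k hk]
    exact ⟨k, _, rfl⟩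

theorem bk_isom (G₁ A B : Matrix (Fin n₁) (Fin n₁) F) (hA : Aᵀ * G₁ * A = G₁)
    (hB : Bᵀ * G₁ * B = G₁) :
    (bk k₀ A B)ᵀ * (G₁ ⊗ₖ (1 : Matrix (Fin n₂) (Fin n₂) F)) * bk k₀ A B =
      G₁ ⊗ₖ (1 : Matrix (Fin n₂) (Fin n₂) F) := by
  rw [← bk_same k₀, bk_transpose, bk_mul, bk_mul, hA, hB]

theorem bk_apply_same (A B : Matrix (Fin n₁) (Fin n₁) F) (i j : Fin n₁) :
    bk k₀ A B (i, k₀) (j, k₀) = A i j := by
  unfold bk pj pj'
  simp [Matrix.kroneckerMap_apply]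

theorem bk_apply_other (A B : Matrix (Fin n₁) (Fin n₁) F) (i j : Fin n₁) (k₁ : Fin n₂)
    (h : k₁ ≠ k₀) : bk k₀ A B (i, k₁) (j, k₁) = B i j := by
  unfold bk pj pj'
  simp [Matrix.kroneckerMap_apply, h]

/-- a block matrix with second block the identity which is a Kronecker product is a scalar -/
theorem bk_kron (A : Matrix (Fin n₁) (Fin n₁) F) (k₁ : Fin n₂) (h : k₁ ≠ k₀)
    (a : Matrix (Fin n₁) (Fin n₁) F) (b : Matrix (Fin n₂) (Fin n₂) F)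
    (hab : bk k₀ A 1 = a ⊗ₖ b) (i₀ : Fin n₁) : ∃ s : F, A = s • (1 : Matrix (Fin n₁) (Fin n₁) F) := by
  have h1 : ∀ i j, A i j = a i j * b k₀ k₀ := by
    intro i j
    rw [← bk_apply_same k₀ A 1 i j, hab]
    simp [Matrix.kroneckerMap_apply]
  have h2 : ∀ i j, (1 : Matrix (Fin n₁) (Fin n₁) F) i j = a i j * b k₁ k₁ := by
    intro i j
    rw [← bk_apply_other k₀ A 1 i j k₁ h, hab]
    simp [Matrix.kroneckerMap_apply]
  have hb1 : b k₁ k₁ ≠ 0 := by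
    intro h0
    have := h2 i₀ i₀
    rw [h0, mul_zero, Matrix.one_apply_eq] at this
    exact one_ne_zero this
  refine ⟨b k₀ k₀ * (b k₁ k₁)⁻¹, ?_⟩
  ext i j
  rw [h1, Matrix.smul_apply, h2, smul_eq_mul]
  field_simp

/-- block matrices with invertible blocks, as invertible matrices -/
def bkU (A B : GL (Fin n₁) F) : GL (Fin n₁ × Fin n₂) F :=
  ⟨bk k₀ (A : Matrix (Fin n₁) (Fin n₁) F) (B : Matrix (Fin n₁) (Fin n₁) F),
    bk k₀ ((A⁻¹ : GL (Fin n₁) F) : Matrix (Fin n₁) (Fin n₁) F)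
      ((B⁻¹ : GL (Fin n₁) F) : Matrix (Fin n₁) (Fin n₁) F),
    by rw [bk_mul, ← Units.val_mul, ← Units.val_mul, mul_inv_cancel, mul_inv_cancel, Units.val_one,
      bk_one],
    by rw [bk_mul, ← Units.val_mul, ← Units.val_mul, inv_mul_cancel, inv_mul_cancel, Units.val_one,
      bk_one]⟩

theorem bkU_val (A B : GL (Fin n₁) F) :
    ((bkU k₀ A B : GL (Fin n₁ × Fin n₂) F) : Matrix (Fin n₁ × Fin n₂) (Fin n₁ × Fin n₂) F) =
      bk k₀ (A : Matrix (Fin n₁) (Fin n₁) F) (B : Matrix (Fin n₁) (Fin n₁) F) := rfl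

theorem bkU_inv_val (A B : GL (Fin n₁) F) :
    (((bkU k₀ A B)⁻¹ : GL (Fin n₁ × Fin n₂) F) : Matrix (Fin n₁ × Fin n₂) (Fin n₁ × Fin n₂) F) =
      bk k₀ ((A⁻¹ : GL (Fin n₁) F) : Matrix (Fin n₁) (Fin n₁) F)
        ((B⁻¹ : GL (Fin n₁) F) : Matrix (Fin n₁) (Fin n₁) F) := rfl

theorem bkU_mem_Stab (A B : GL (Fin n₁) F) : bkU k₀ A B ∈ Stab n₁ n₂ F := by
  intro v
  constructor
  · intro h
    have := bk_maps k₀ ((A⁻¹ : GL (Fin n₁) F) : Matrix (Fin n₁) (Fin n₁) F)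
      ((B⁻¹ : GL (Fin n₁) F) : Matrix (Fin n₁) (Fin n₁) F) _ h
    rwa [← bkU_inv_val, Matrix.mulVec_mulVec, ← Units.val_mul, inv_mul_cancel, Units.val_one,
      Matrix.one_mulVec] at this
  · intro h
    rw [bkU_val]
    exact bk_maps k₀ _ _ v h

end blocks

section transvections

variable {κ : Type} [Fintype κ] [DecidableEq κ]

theorem vmv_sq (G : Matrix κ κ F) (z : κ → F) (hz : z ⬝ᵥ G *ᵥ z = 0) :
    Matrix.vecMulVec z (G *ᵥ z) * Matrix.vecMulVec z (G *ᵥ z) = 0 := by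
  rw [Matrix.vecMulVec_mul_vecMulVec, dotProduct_comm, hz, zero_smul]
  ext i j
  simp [Matrix.vecMulVec_apply]

/-- the transvection `x ↦ x + B(x, z) z` for the form with matrix `G` -/
def tvz (G : Matrix κ κ F) (z : κ → F) (hz : z ⬝ᵥ G *ᵥ z = 0) : GL κ F :=
  ⟨1 + Matrix.vecMulVec z (G *ᵥ z), 1 - Matrix.vecMulVec z (G *ᵥ z), by
    rw [mul_sub, mul_one, add_mul, one_mul, vmv_sq G z hz, add_zero, add_sub_cancel_right], by
    rw [sub_mul, one_mul, mul_add, mul_one, vmv_sq G z hz, add_zero, add_sub_cancel_right]⟩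

theorem tvz_mulVec (G : Matrix κ κ F) (z : κ → F) (hz : z ⬝ᵥ G *ᵥ z = 0) (x : κ → F) :
    ((tvz G z hz : GL κ F) : Matrix κ κ F) *ᵥ x = x + (x ⬝ᵥ G *ᵥ z) • z := by
  show (1 + Matrix.vecMulVec z (G *ᵥ z)) *ᵥ x = _
  rw [Matrix.add_mulVec, Matrix.one_mulVec, Matrix.vecMulVec_mulVec, op_smul_eq_smul,
    dotProduct_comm]

theorem tvz_mem_isom (G : Matrix κ κ F) (hG : Gᵀ = -G) (z : κ → F) (hz : z ⬝ᵥ G *ᵥ z = 0) :
    tvz G z hz ∈ Cfsg.preserving (Cfsg.glToMat κ F) (Cfsg.Geo.formOfGram id G) := by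
  intro u v
  show Cfsg.Geo.formOfGram id G (((tvz G z hz : GL κ F) : Matrix κ κ F) *ᵥ u)
    (((tvz G z hz : GL κ F) : Matrix κ κ F) *ᵥ v) = _
  rw [tvz_mulVec, tvz_mulVec, formOfGram_id, formOfGram_id]
  have hskew : ∀ x y : κ → F, x ⬝ᵥ G *ᵥ y = - (y ⬝ᵥ G *ᵥ x) := by
    intro x y
    rw [Matrix.dotProduct_mulVec, ← Matrix.mulVec_transpose, hG, Matrix.neg_mulVec,
      neg_dotProduct, dotProduct_comm]
  simp only [Matrix.mulVec_add, Matrix.mulVec_smul, add_dotProduct, dotProduct_add,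
    smul_dotProduct, dotProduct_smul, smul_eq_mul, hz]
  rw [hskew z v]
  ring

end transvections

end Cfsg.Agent.H28TF
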