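import Mathlib
import Cfsg.Agent.Lib.Helper28.TensFrameD
set_option autoImplicit false
open Cfsg
namespace Cfsg.Agent.H28TF
open Matrix Kronecker

variable {F : Type*} [Field F]

section swap

variable {ι : Type} [Fintype ι] [DecidableEq ι] {n₁ n₂ : ℕ}

/-- Kronecker products of invertible matrices, as invertible matrices -/
def kronGL (a : GL (Fin n₁) F) (b : GL (Fin n₂) F) : GL (Fin n₁ × Fin n₂) F :=
  ⟨(a : Matrix (Fin n₁) (Fin n₁) F) ⊗ₖ (b : Matrix (Fin n₂) (Fin n₂) F),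
    ((a⁻¹ : GL (Fin n₁) F) : Matrix (Fin n₁) (Fin n₁) F) ⊗ₖ
      ((b⁻¹ : GL (Fin n₂) F) : Matrix (Fin n₂) (Fin n₂) F),
    by rw [← Matrix.mul_kronecker_mul, ← Units.val_mul, ← Units.val_mul, mul_inv_cancel,
      mul_inv_cancel, Units.val_one, Units.val_one, Matrix.one_kronecker_one],
    by rw [← Matrix.mul_kronecker_mul, ← Units.val_mul, ← Units.val_mul, inv_mul_cancel,
      inv_mul_cancel, Units.val_one, Units.val_one, Matrix.one_kronecker_one]⟩

theorem mem_kron_iff (g : GL (Fin n₁ × Fin n₂) F) :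
    g ∈ Cfsg.Geo.kroneckerSubgroup n₁ n₂ F ↔ ∃ a b, g = kronGL a b := by
  constructor
  · rintro ⟨a, b, h⟩
    exact ⟨a, b, Units.ext h⟩
  · rintro ⟨a, b, rfl⟩
    exact ⟨a, b, rfl⟩

theorem glReindex_swap (e : ι ≃ Fin n₁ × Fin n₂) (a : GL (Fin n₁) F) (b : GL (Fin n₂) F) :
    Cfsg.Geo.glReindex (e.trans (Equiv.prodComm _ _)).symm (kronGL b a) =
      Cfsg.Geo.glReindex e.symm (kronGL a b) := by
  apply Units.ext
  rw [glReindex_val, glReindex_val]
  ext i j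
  simp only [Matrix.submatrix_apply, kronGL, Equiv.trans_apply, Equiv.prodComm_apply,
    Matrix.kroneckerMap_apply, Prod.fst_swap, Prod.snd_swap]
  ring

theorem tps_swap (e : ι ≃ Fin n₁ × Fin n₂) (P : GL ι F) :
    Cfsg.Geo.tensorProductSubgroup n₁ n₂ e P =
      Cfsg.Geo.tensorProductSubgroup n₂ n₁ (e.trans (Equiv.prodComm _ _)) P := by
  rw [tps_eq, tps_eq]
  ext x
  simp only [Subgroup.mem_map]
  constructor
  · rintro ⟨g, hg, rfl⟩
    obtain ⟨a, b, rfl⟩ := (mem_kron_iff g).mp hg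
    refine ⟨kronGL b a, (mem_kron_iff _).mpr ⟨b, a, rfl⟩, ?_⟩
    show P * Cfsg.Geo.glReindex (e.trans (Equiv.prodComm _ _)).symm (kronGL b a) * P⁻¹ =
      P * Cfsg.Geo.glReindex e.symm (kronGL a b) * P⁻¹
    rw [glReindex_swap]
  · rintro ⟨g, hg, rfl⟩
    obtain ⟨b, a, rfl⟩ := (mem_kron_iff g).mp hg
    refine ⟨kronGL a b, (mem_kron_iff _).mpr ⟨a, b, rfl⟩, ?_⟩
    show P * Cfsg.Geo.glReindex e.symm (kronGL a b) * P⁻¹ =
      P * Cfsg.Geo.glReindex (e.trans (Equiv.prodComm _ _)).symm (kronGL b a) * P⁻¹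
    rw [glReindex_swap]

theorem tensorForm_swap (f : (ι → F) → (ι → F) → F) (f₁ : (Fin n₁ → F) → (Fin n₁ → F) → F)
    (f₂ : (Fin n₂ → F) → (Fin n₂ → F) → F) (e : ι ≃ Fin n₁ × Fin n₂) (P : GL ι F)
    (hT : Cfsg.Geo.IsTensorFormStructure id f f₁ f₂ e P) :
    Cfsg.Geo.IsTensorFormStructure id f f₂ f₁ (e.trans (Equiv.prodComm _ _)) P := by
  obtain ⟨c, hc, h⟩ := hT
  refine ⟨c, hc, fun x y => ?_⟩
  have h1 := h (x ∘ Equiv.prodComm _ _) (y ∘ Equiv.prodComm _ _)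
  have e1 : (x ∘ Equiv.prodComm _ _) ∘ e = x ∘ (e.trans (Equiv.prodComm _ _)) := rfl
  have e2 : (y ∘ Equiv.prodComm _ _) ∘ e = y ∘ (e.trans (Equiv.prodComm _ _)) := rfl
  rw [e1, e2] at h1
  rw [h1]
  congr 1
  unfold Cfsg.Geo.formOfGram
  rw [← Equiv.sum_comp (Equiv.prodComm (Fin n₁) (Fin n₂))]
  refine Finset.sum_congr rfl fun a _ => ?_
  rw [← Equiv.sum_comp (Equiv.prodComm (Fin n₁) (Fin n₂))]
  refine Finset.sum_congr rfl fun b _ => ?_
  simp only [Function.comp_apply, Matrix.kroneckerMap_apply, Equiv.prodComm_apply, id,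
    Prod.fst_swap, Prod.snd_swap]
  ring

end swap

section omega

variable {ι : Type} [Fintype ι] [DecidableEq ι] {n₁ n₂ : ℕ}

theorem omegaGL_eq (Q : (ι → F) → F) :
    Cfsg.Geo.omegaGL Q = ⁅Cfsg.isometryGroup F Q, Cfsg.isometryGroup F Q⁆ := by
  unfold Cfsg.Geo.omegaGL Cfsg.Omega
  exact Subgroup.map_subtype_commutator _

theorem comap_commutator_equiv {G H : Type*} [Group G] [Group H] (θ : G ≃* H) (I : Subgroup H) :
    (⁅I, I⁆).comap θ.toMonoidHom = ⁅I.comap θ.toMonoidHom, I.comap θ.toMonoidHom⁆ := by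
  have h1 : ∀ S : Subgroup H, S.comap θ.toMonoidHom = S.map θ.symm.toMonoidHom := by
    intro S
    exact (Subgroup.map_equiv_eq_comap_symm θ.symm S).symm
  rw [h1, h1, Subgroup.map_commutator]

theorem ps_add (e : ι ≃ Fin n₁ × Fin n₂) (P : GL ι F) (x y : Fin n₁ × Fin n₂ → F) :
    ps e P (x + y) = ps e P x + ps e P y := by
  unfold ps
  rw [← Matrix.mulVec_add]
  rfl

theorem ps_smul (e : ι ≃ Fin n₁ × Fin n₂) (P : GL ι F) (c : F) (x : Fin n₁ × Fin n₂ → F) :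
    ps e P (c • x) = c • ps e P x := by
  unfold ps
  rw [← Matrix.mulVec_smul]
  rfl

/-- the isometry group of a quadratic form pulled back to the pairs -/
theorem comap_isometryGroup (h2 : (2 : F) ≠ 0) (Q : (ι → F) → F)
    (hsm : ∀ (c : F) (v : ι → F), Q (c • v) = c ^ 2 * Q v)
    (e : ι ≃ Fin n₁ × Fin n₂) (P : GL ι F)
    (B : (Fin n₁ × Fin n₂ → F) → (Fin n₁ × Fin n₂ → F) → F) (c : F) (hc : c ≠ 0)
    (hB : ∀ x y, QuadraticMap.polar Q (ps e P x) (ps e P y) = c * B x y) :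
    (Cfsg.isometryGroup F Q).comap (Th e P).toMonoidHom =
      Cfsg.preserving (Cfsg.glToMat (Fin n₁ × Fin n₂) F) B := by
  have hQ2 : ∀ v, QuadraticMap.polar Q v v = 2 * Q v := by
    intro v
    unfold QuadraticMap.polar
    have : v + v = (2 : F) • v := (two_smul F v).symm
    rw [this, hsm]
    ring
  ext g
  rw [Subgroup.mem_comap]
  have hiff : (Th e P) g ∈ Cfsg.isometryGroup F Q ↔
      ∀ x, Q (ps e P ((g : Matrix _ _ F) *ᵥ x)) = Q (ps e P x) := by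
    constructor
    · intro h x
      have := h (ps e P x) (ps e P x)
      have h' : Q (((Th e P g : GL ι F) : Matrix ι ι F) *ᵥ ps e P x) = Q (ps e P x) := this
      rwa [Th_mulVec] at h'
    · intro h u v
      obtain ⟨x, rfl⟩ := ps_surjective e P u
      show Q (((Th e P g : GL ι F) : Matrix ι ι F) *ᵥ ps e P x) = Q (ps e P x)
      rw [Th_mulVec]
      exact h x
  show (Th e P) g ∈ Cfsg.isometryGroup F Q ↔ _
  rw [hiff]
  constructor
  · intro h x y
    show B ((g : Matrix _ _ F) *ᵥ x) ((g : Matrix _ _ F) *ᵥ y) = B x y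
    apply mul_left_cancel₀ hc
    rw [← hB, ← hB]
    unfold QuadraticMap.polar
    rw [← ps_add, ← ps_add, ← Matrix.mulVec_add, h, h, h]
  · intro h x
    have h1 := hQ2 (ps e P ((g : Matrix _ _ F) *ᵥ x))
    have h2' := hQ2 (ps e P x)
    rw [hB] at h1 h2'
    have h3 : B ((g : Matrix _ _ F) *ᵥ x) ((g : Matrix _ _ F) *ᵥ x) = B x x := h x x
    rw [h3] at h1
    have : (2 : F) * Q (ps e P ((g : Matrix _ _ F) *ᵥ x)) = 2 * Q (ps e P x) := by
      rw [← h1, ← h2']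
    exact mul_left_cancel₀ h2 this

end omega

end Cfsg.Agent.H28TF
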