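import Mathlib
import Cfsg.Agent.Lib.Helper28.TensFrameE
set_option autoImplicit false
open Cfsg
namespace Cfsg.Agent.H28TF
open Matrix Kronecker
open scoped commutatorElement

variable {F : Type*} [Field F]

section refl

variable {κ : Type} [Fintype κ] [DecidableEq κ]

/-- the bilinear form with matrix `G` -/
def Bf (G : Matrix κ κ F) (x y : κ → F) : F := x ⬝ᵥ G *ᵥ y

theorem Bf_add_left (G : Matrix κ κ F) (x y z : κ → F) : Bf G (x + y) z = Bf G x z + Bf G y z := by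
  unfold Bf
  rw [add_dotProduct]

theorem Bf_add_right (G : Matrix κ κ F) (x y z : κ → F) : Bf G x (y + z) = Bf G x y + Bf G x z := by
  unfold Bf
  rw [Matrix.mulVec_add, dotProduct_add]

theorem Bf_smul_left (G : Matrix κ κ F) (c : F) (x z : κ → F) : Bf G (c • x) z = c * Bf G x z := by
  unfold Bf
  rw [smul_dotProduct, smul_eq_mul]

theorem Bf_smul_right (G : Matrix κ κ F) (c : F) (x z : κ → F) : Bf G x (c • z) = c * Bf G x z := by
  unfold Bf
  rw [Matrix.mulVec_smul, dotProduct_smul, smul_eq_mul]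

theorem Bf_symm (G : Matrix κ κ F) (hG : Gᵀ = G) (x y : κ → F) : Bf G x y = Bf G y x := by
  unfold Bf
  rw [Matrix.dotProduct_mulVec, ← Matrix.mulVec_transpose, hG, dotProduct_comm]

theorem formOfGram_eq_Bf (G : Matrix κ κ F) (x y : κ → F) :
    Cfsg.Geo.formOfGram id G x y = Bf G x y := formOfGram_id G x y

/-- the matrix of the reflection in the vector `c` -/
def rf (G : Matrix κ κ F) (c : κ → F) : Matrix κ κ F :=
  1 - (2 / Bf G c c) • Matrix.vecMulVec c (G *ᵥ c)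

theorem rf_mulVec (G : Matrix κ κ F) (c x : κ → F) :
    rf G c *ᵥ x = x - (2 / Bf G c c * Bf G x c) • c := by
  unfold rf
  rw [Matrix.sub_mulVec, Matrix.one_mulVec, Matrix.smul_mulVec, Matrix.vecMulVec_mulVec,
    op_smul_eq_smul, smul_smul]
  unfold Bf
  rw [dotProduct_comm (G *ᵥ c) x]

theorem rf_mul_rf (G : Matrix κ κ F) (c : κ → F) (hc : Bf G c c ≠ 0) : rf G c * rf G c = 1 := by
  have hM : Matrix.vecMulVec c (G *ᵥ c) * Matrix.vecMulVec c (G *ᵥ c) =
      Bf G c c • Matrix.vecMulVec c (G *ᵥ c) := by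
    rw [Matrix.vecMulVec_mul_vecMulVec, Matrix.vecMulVec_smul]
    unfold Bf
    rw [dotProduct_comm]
  unfold rf
  have hAA : ((2 / Bf G c c) • Matrix.vecMulVec c (G *ᵥ c)) * ((2 / Bf G c c) • Matrix.vecMulVec c (G *ᵥ c)) =
      (2 / Bf G c c) • Matrix.vecMulVec c (G *ᵥ c) + (2 / Bf G c c) • Matrix.vecMulVec c (G *ᵥ c) := by
    rw [smul_mul_smul_comm, hM, smul_smul, ← add_smul]
    congr 1
    field_simp
    ring
  have hgen : ∀ A : Matrix κ κ F, A * A = A + A → (1 - A) * (1 - A) = 1 := by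
    intro A hA
    have : (1 - A) * (1 - A) = 1 - A - A + A * A := by noncomm_ring
    rw [this, hA]
    abel
  exact hgen _ hAA

/-- the reflection in the vector `c` as an invertible matrix -/
def rfU (G : Matrix κ κ F) (c : κ → F) (hc : Bf G c c ≠ 0) : GL κ F :=
  ⟨rf G c, rf G c, rf_mul_rf G c hc, rf_mul_rf G c hc⟩

theorem rfU_inv (G : Matrix κ κ F) (c : κ → F) (hc : Bf G c c ≠ 0) : (rfU G c hc)⁻¹ = rfU G c hc :=
  Units.ext rfl

theorem rfU_mulVec (G : Matrix κ κ F) (c : κ → F) (hc : Bf G c c ≠ 0) (x : κ → F) :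
    ((rfU G c hc : GL κ F) : Matrix κ κ F) *ᵥ x = x - (2 / Bf G c c * Bf G x c) • c :=
  rf_mulVec G c x

theorem rfU_mem_isom (G : Matrix κ κ F) (hG : Gᵀ = G) (c : κ → F) (hc : Bf G c c ≠ 0) :
    rfU G c hc ∈ Cfsg.preserving (Cfsg.glToMat κ F) (Cfsg.Geo.formOfGram id G) := by
  intro u v
  show Cfsg.Geo.formOfGram id G (((rfU G c hc : GL κ F) : Matrix κ κ F) *ᵥ u)
    (((rfU G c hc : GL κ F) : Matrix κ κ F) *ᵥ v) = _
  rw [rfU_mulVec, rfU_mulVec, formOfGram_eq_Bf, formOfGram_eq_Bf]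
  simp only [sub_eq_add_neg, ← neg_smul, Bf_add_left, Bf_add_right, Bf_smul_left, Bf_smul_right]
  rw [Bf_symm G hG c v]
  field_simp
  ring

/-- the commutator of two reflections, applied to a vector -/
theorem comm_rf_apply (G : Matrix κ κ F) (hG : Gᵀ = G) (p n x : κ → F) (hpp : Bf G p p ≠ 0)
    (hnn : Bf G n n = 0) (hpn : Bf G p n = 0) (hxp : Bf G x p = 0)
    (hpn' : Bf G (p + n) (p + n) ≠ 0) :
    ((⁅rfU G p hpp, rfU G (p + n) hpn'⁆ : GL κ F) : Matrix κ κ F) *ᵥ x =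
      x + (4 * Bf G x n / Bf G p p) • (p - (2 : F) • n) := by
  have hnp : Bf G n p = 0 := by rw [Bf_symm G hG, hpn]
  have hN : Bf G (p + n) (p + n) = Bf G p p := by
    rw [Bf_add_left, Bf_add_right, Bf_add_right, hnn, hpn, hnp]
    ring
  have hP : ∀ α β : F, ((rfU G p hpp : GL κ F) : Matrix κ κ F) *ᵥ (x + α • p + β • n) =
      x + (-α) • p + β • n := by
    intro α β
    rw [rfU_mulVec]
    simp only [Bf_add_left, Bf_smul_left, hxp, hnp]
    have key : ∀ k : F, k = 2 * α → x + α • p + β • n - k • p = x + (-α) • p + β • n := by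
      intro k hk
      rw [hk]
      module
    apply key
    field_simp
    ring
  have hPN : ∀ α β : F, ((rfU G (p + n) hpn' : GL κ F) : Matrix κ κ F) *ᵥ (x + α • p + β • n) =
      x + (-α - 2 / Bf G p p * Bf G x n) • p + (β - 2 / Bf G p p * Bf G x n - 2 * α) • n := by
    intro α β
    rw [rfU_mulVec, hN]
    simp only [Bf_add_left, Bf_add_right, Bf_smul_left, hxp, hnp, hpn, hnn]
    have key : ∀ k : F, k = 2 / Bf G p p * Bf G x n + 2 * α →
        x + α • p + β • n - k • (p + n) =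
        x + (-α - 2 / Bf G p p * Bf G x n) • p + (β - 2 / Bf G p p * Bf G x n - 2 * α) • n := by
      intro k hk
      rw [hk]
      module
    apply key
    field_simp
    ring
  have hcomm : ⁅rfU G p hpp, rfU G (p + n) hpn'⁆ =
      rfU G p hpp * rfU G (p + n) hpn' * rfU G p hpp * rfU G (p + n) hpn' := by
    rw [commutatorElement_def, rfU_inv, rfU_inv]
  rw [hcomm]
  simp only [Units.val_mul, ← Matrix.mulVec_mulVec]
  have h0 : x = x + (0 : F) • p + (0 : F) • n := by simp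
  conv_lhs => rw [h0]
  rw [hPN, hP, hPN, hP]
  have e1 : -(- -(-0 - 2 / Bf G p p * Bf G x n) - 2 / Bf G p p * Bf G x n) =
      4 * Bf G x n / Bf G p p := by
    field_simp
    ring
  have e2 : 0 - 2 / Bf G p p * Bf G x n - 2 * 0 - 2 / Bf G p p * Bf G x n -
      2 * -(-0 - 2 / Bf G p p * Bf G x n) = 4 * Bf G x n / Bf G p p * (-2) := by
    field_simp
    ring
  rw [e1, e2]
  module

end refl

section basis

variable (h3 : (3 : F) = 0) (hc : ∀ x : F, x = 0 ∨ x = 1 ∨ x = -1)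

/-- an orthogonal basis of a symmetric form -/
theorem exists_orth_basis (h2 : (2 : F) ≠ 0) {n : ℕ} (f : (Fin n → F) → (Fin n → F) → F)
    (hf : Cfsg.Geo.IsSymmetricForm f) :
    ∃ v : Fin n → (Fin n → F), (∀ i j, i ≠ j → f (v i) (v j) = 0) ∧ ∀ i, f (v i) (v i) ≠ 0 := by
  let B : LinearMap.BilinForm F (Fin n → F) :=
    LinearMap.mk₂ F f hf.bilinear.add_left hf.bilinear.smul_left hf.bilinear.add_right
      hf.bilinear.smul_right
  have hB : ∀ x y, B x y = f x y := fun x y => rfl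
  have hsymm : LinearMap.IsSymm B := ⟨fun x y => by
    rw [RingHom.id_apply, hB, hB, hf.symm]⟩
  letI : Invertible (2 : F) := invertibleOfNonzero h2
  obtain ⟨v, hv⟩ := LinearMap.BilinForm.exists_orthogonal_basis hsymm
  have hsep : B.SeparatingLeft := by
    intro x hx
    by_contra hne
    obtain ⟨y, hy⟩ := (hf.nondegenerate x hne).2
    exact hy (hx y)
  have hfr : Module.finrank F (Fin n → F) = n := by simp
  refine ⟨fun i => v (Fin.cast hfr.symm i), ?_, ?_⟩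
  · intro i j hij
    have : Fin.cast hfr.symm i ≠ Fin.cast hfr.symm j := by
      intro h
      exact hij (Fin.cast_injective _ h)
    have h := hv this
    exact h
  · intro i
    exact hv.not_isOrtho_basis_self_of_separatingLeft hsep _

include h3 hc in
/-- a non-singular vector, a singular vector orthogonal to it, and a vector orthogonal to the
first and not to the second -/
theorem exists_triple {n : ℕ} (hn : 4 ≤ n) (f : (Fin n → F) → (Fin n → F) → F)
    (hf : Cfsg.Geo.IsSymmetricForm f) :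
    ∃ a y x : Fin n → F, f a a ≠ 0 ∧ f y y = 0 ∧ f a y = 0 ∧ f x a = 0 ∧ f x y ≠ 0 := by
  have h2 := two_ne_zero_of_three h3
  obtain ⟨v, hv, hvn⟩ := exists_orth_basis h2 f hf
  have hb := hf.bilinear
  obtain ⟨i₀, hi₀⟩ : ∃ i : Fin n, i = ⟨0, by omega⟩ := ⟨_, rfl⟩
  obtain ⟨i₁, hi₁⟩ : ∃ i : Fin n, i = ⟨1, by omega⟩ := ⟨_, rfl⟩
  obtain ⟨i₂, hi₂⟩ : ∃ i : Fin n, i = ⟨2, by omega⟩ := ⟨_, rfl⟩
  obtain ⟨i₃, hi₃⟩ : ∃ i : Fin n, i = ⟨3, by omega⟩ := ⟨_, rfl⟩
  have h01 : i₀ ≠ i₁ := by rw [hi₀, hi₁]; simp [Fin.ext_iff]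
  have h02 : i₀ ≠ i₂ := by rw [hi₀, hi₂]; simp [Fin.ext_iff]
  have h03 : i₀ ≠ i₃ := by rw [hi₀, hi₃]; simp [Fin.ext_iff]
  have h12 : i₁ ≠ i₂ := by rw [hi₁, hi₂]; simp [Fin.ext_iff]
  have h13 : i₁ ≠ i₃ := by rw [hi₁, hi₃]; simp [Fin.ext_iff]
  have h23 : i₂ ≠ i₃ := by rw [hi₂, hi₃]; simp [Fin.ext_iff]
  have hn' : ∀ i, f (v i) (v i) = 1 ∨ f (v i) (v i) = -1 := fun i => (hc _).resolve_left (hvn i)
  have hneg : ∀ x y : F, (x = 1 ∨ x = -1) → (y = 1 ∨ y = -1) → x ≠ y → y = -x := by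
    intro x y hx hy hne
    rcases hx with rfl | rfl <;> rcases hy with rfl | rfl
    · exact absurd rfl hne
    · rfl
    · rw [neg_neg]
    · exact absurd rfl hne
  -- a pair of opposite norms among the last three gives a singular vector
  have key : ∀ i j : Fin n, i ≠ j → i ≠ i₀ → j ≠ i₀ → f (v j) (v j) = - f (v i) (v i) →
      ∃ a y x : Fin n → F, f a a ≠ 0 ∧ f y y = 0 ∧ f a y = 0 ∧ f x a = 0 ∧ f x y ≠ 0 := by
    intro i j hij hi hj hnorm
    refine ⟨v i₀, v i + v j, v i, hvn i₀, ?_, ?_, hv i i₀ hi, ?_⟩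
    · rw [hb.add_left, hb.add_right, hb.add_right, hv i j hij, hv j i hij.symm, hnorm]
      ring
    · rw [hb.add_right, hv i₀ i (Ne.symm hi), hv i₀ j (Ne.symm hj), add_zero]
    · rw [hb.add_right, hv i j hij, add_zero]
      exact hvn i
  by_cases e12 : f (v i₁) (v i₁) = f (v i₂) (v i₂)
  · by_cases e13 : f (v i₁) (v i₁) = f (v i₃) (v i₃)
    · refine ⟨v i₀, v i₁ + v i₂ + v i₃, v i₁, hvn i₀, ?_, ?_, hv i₁ i₀ h01.symm, ?_⟩
      · simp only [hb.add_left, hb.add_right, hv i₁ i₂ h12, hv i₂ i₁ h12.symm, hv i₁ i₃ h13,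
          hv i₃ i₁ h13.symm, hv i₂ i₃ h23, hv i₃ i₂ h23.symm, ← e12, ← e13]
        linear_combination (f (v i₁) (v i₁)) * h3
      · simp only [hb.add_right, hv i₀ i₁ h01, hv i₀ i₂ h02, hv i₀ i₃ h03, add_zero]
      · simp only [hb.add_right, hv i₁ i₂ h12, hv i₁ i₃ h13, add_zero]
        exact hvn i₁
    · exact key i₁ i₃ h13 h01.symm h03.symm (hneg _ _ (hn' i₁) (hn' i₃) e13)
  · exact key i₁ i₂ h12 h01.symm h02.symm (hneg _ _ (hn' i₁) (hn' i₂) e12)

end basis

end Cfsg.Agent.H28TF
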