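import Mathlib
import Cfsg.Agent.Lib.Helper28.BGT10
import Cfsg.Agent.Lib.Helper28.TensFrameC
import Cfsg.Agent.Lib.Helper28.TensFrameF

/-!
# Models inside the stabiliser of a symplectic-orthogonal tensor decomposition (helper28)
-/

set_option autoImplicit false
set_option linter.style.haveILetI false
set_option linter.unusedSectionVars false
set_option linter.unusedVariables false

namespace Cfsg.Agent.Helper28.BGT

open Matrix Module Polynomial Cfsg.Agent.H28TF Cfsg.Agent.Helper13.SS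
open scoped Kronecker

section diag

variable {F : Type*} [Field F] {n : ℕ}

theorem gram_congr_apply' (G W : Matrix (Fin n) (Fin n) F) (i j : Fin n) :
    (Wᵀ * G * W) i j = (fun k => W k i) ⬝ᵥ (G *ᵥ (fun k => W k j)) := by
  rw [Matrix.mul_assoc, Matrix.mul_apply]
  simp only [dotProduct, Matrix.transpose_apply, Matrix.mul_apply, Matrix.mulVec]

/-- diagonalisation of the Gram matrix of a symmetric form -/
theorem exists_diagonalizing (h2 : (2 : F) ≠ 0) (f : (Fin n → F) → (Fin n → F) → F)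
    (hf : Cfsg.Geo.IsSymmetricForm f) :
    ∃ (S : GL (Fin n) F) (D : Fin n → F),
      (S : Matrix (Fin n) (Fin n) F)ᵀ * Cfsg.Geo.gramMatrix f * (S : Matrix (Fin n) (Fin n) F) =
        Matrix.diagonal D := by
  classical
  obtain ⟨v, hv, hvn⟩ := exists_orth_basis h2 f hf
  obtain ⟨W, hW⟩ : ∃ W : Matrix (Fin n) (Fin n) F, W = Matrix.of (fun j i => v i j) := ⟨_, rfl⟩
  have hWG : Wᵀ * Cfsg.Geo.gramMatrix f * W = Matrix.diagonal (fun i => f (v i) (v i)) := by
    ext i j
    rw [gram_congr_apply']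
    have e1 : (fun k => W k i) = v i := by
      funext k
      rw [hW]
      rfl
    have e2 : (fun k => W k j) = v j := by
      funext k
      rw [hW]
      rfl
    rw [e1, e2, ← bil_eq_gram f hf.bilinear, Matrix.diagonal_apply]
    by_cases hij : i = j
    · subst hij
      rw [if_pos rfl]
    · rw [if_neg hij]
      exact hv i j hij
  have hdet : W.det ≠ 0 := by
    intro h0
    have := congrArg Matrix.det hWG
    rw [Matrix.det_mul, Matrix.det_mul, h0, mul_zero, Matrix.det_diagonal] at this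
    exact (Finset.prod_ne_zero_iff.2 (fun i _ => hvn i)) this.symm
  exact ⟨Matrix.GeneralLinearGroup.mkOfDetNeZero W hdet, _, hWG⟩

/-- the diagonal matrix of signs as an invertible matrix -/
def sgnGL (n s : ℕ) (F : Type*) [Field F] : GL (Fin n) F :=
  ⟨Matrix.diagonal (fun i : Fin n => if (i : ℕ) < s then (-1 : F) else 1),
    Matrix.diagonal (fun i : Fin n => if (i : ℕ) < s then (-1 : F) else 1),
    by
      rw [Matrix.diagonal_mul_diagonal, ← Matrix.diagonal_one]
      congr 1
      funext i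
      split_ifs <;> simp,
    by
      rw [Matrix.diagonal_mul_diagonal, ← Matrix.diagonal_one]
      congr 1
      funext i
      split_ifs <;> simp⟩

theorem sgnGL_val (s : ℕ) : ((sgnGL n s F : GL (Fin n) F) : Matrix (Fin n) (Fin n) F) =
    Matrix.diagonal (fun i : Fin n => if (i : ℕ) < s then (-1 : F) else 1) := rfl

theorem sgnGL_mul_self (s : ℕ) : sgnGL n s F * sgnGL n s F = 1 := by
  apply Units.ext
  rw [Units.val_mul, sgnGL_val, Matrix.diagonal_mul_diagonal, Units.val_one, ← Matrix.diagonal_one]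
  congr 1
  funext i
  split_ifs <;> simp

/-- an isometry of a symmetric form which is an involution with a prescribed dimension of the
`-1`-eigenspace -/
theorem exists_orth_invol (h2 : (2 : F) ≠ 0) (f : (Fin n → F) → (Fin n → F) → F)
    (hf : Cfsg.Geo.IsSymmetricForm f) (s : ℕ) (hs : s ≤ n) :
    ∃ B : GL (Fin n) F,
      (B : Matrix (Fin n) (Fin n) F)ᵀ * Cfsg.Geo.gramMatrix f * (B : Matrix (Fin n) (Fin n) F) =
        Cfsg.Geo.gramMatrix f ∧ B * B = 1 ∧
      ((B : Matrix (Fin n) (Fin n) F) - (-1 : F) • (1 : Matrix (Fin n) (Fin n) F)).rank + s =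
        n := by
  classical
  obtain ⟨S, D, hSD⟩ := exists_diagonalizing h2 f hf
  set G := Cfsg.Geo.gramMatrix f with hG
  set E : GL (Fin n) F := sgnGL n s F with hE
  have hne : (-1 : F) ≠ 1 := by
    intro h
    apply h2
    have : (1 : F) + 1 = 0 := by
      nth_rewrite 1 [← h]
      exact neg_add_cancel 1
    rw [← this]
    norm_num
  have hSS : (S : Matrix (Fin n) (Fin n) F) * ((S⁻¹ : GL (Fin n) F) : Matrix (Fin n) (Fin n) F) =
      1 := by rw [← Units.val_mul, mul_inv_cancel, Units.val_one]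
  have hSS' : ((S⁻¹ : GL (Fin n) F) : Matrix (Fin n) (Fin n) F) * (S : Matrix (Fin n) (Fin n) F) =
      1 := by rw [← Units.val_mul, inv_mul_cancel, Units.val_one]
  refine ⟨S * E * S⁻¹, ?_, ?_, ?_⟩
  · -- isometry
    have hG' : G = ((S⁻¹ : GL (Fin n) F) : Matrix (Fin n) (Fin n) F)ᵀ * Matrix.diagonal D *
        ((S⁻¹ : GL (Fin n) F) : Matrix (Fin n) (Fin n) F) := by
      rw [← hSD]
      have h1 : ((S⁻¹ : GL (Fin n) F) : Matrix (Fin n) (Fin n) F)ᵀ *
          (S : Matrix (Fin n) (Fin n) F)ᵀ = 1 := by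
        rw [← Matrix.transpose_mul, hSS, Matrix.transpose_one]
      calc G = (((S⁻¹ : GL (Fin n) F) : Matrix (Fin n) (Fin n) F)ᵀ *
            (S : Matrix (Fin n) (Fin n) F)ᵀ) * G *
            ((S : Matrix (Fin n) (Fin n) F) *
              ((S⁻¹ : GL (Fin n) F) : Matrix (Fin n) (Fin n) F)) := by
            rw [h1, hSS, Matrix.one_mul, Matrix.mul_one]
        _ = _ := by simp only [Matrix.mul_assoc]
    have hEDE : (E : Matrix (Fin n) (Fin n) F)ᵀ * Matrix.diagonal D *
        (E : Matrix (Fin n) (Fin n) F) = Matrix.diagonal D := by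
      rw [hE, sgnGL_val, Matrix.diagonal_transpose, Matrix.diagonal_mul_diagonal,
        Matrix.diagonal_mul_diagonal]
      congr 1
      funext i
      split_ifs <;> ring
    rw [Units.val_mul, Units.val_mul, Matrix.transpose_mul, Matrix.transpose_mul]
    calc ((S⁻¹ : GL (Fin n) F) : Matrix (Fin n) (Fin n) F)ᵀ *
          ((E : Matrix (Fin n) (Fin n) F)ᵀ * (S : Matrix (Fin n) (Fin n) F)ᵀ) * G *
          ((S : Matrix (Fin n) (Fin n) F) * (E : Matrix (Fin n) (Fin n) F) *
            ((S⁻¹ : GL (Fin n) F) : Matrix (Fin n) (Fin n) F))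
        = ((S⁻¹ : GL (Fin n) F) : Matrix (Fin n) (Fin n) F)ᵀ *
          ((E : Matrix (Fin n) (Fin n) F)ᵀ *
            ((S : Matrix (Fin n) (Fin n) F)ᵀ * G * (S : Matrix (Fin n) (Fin n) F)) *
            (E : Matrix (Fin n) (Fin n) F)) *
            ((S⁻¹ : GL (Fin n) F) : Matrix (Fin n) (Fin n) F) := by
          simp only [Matrix.mul_assoc]
      _ = G := by rw [hSD, hEDE, ← hG']
  · -- involution
    calc S * E * S⁻¹ * (S * E * S⁻¹) = S * (E * E) * S⁻¹ := by group
      _ = 1 := by rw [hE, sgnGL_mul_self]; group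
  · -- the rank
    rw [Units.val_mul, Units.val_mul,
      Cfsg.Agent.Helper28.BGQ.rank_conj_sub _ _ _ hSS, hE, sgnGL_val]
    have h1 := Cfsg.Agent.Helper28.BGQ.rank_diagonal_sub
      (fun i : Fin n => if (i : ℕ) < s then (-1 : F) else 1) (-1)
    have h3 : (Finset.univ.filter
        (fun i : Fin n => (if (i : ℕ) < s then (-1 : F) else 1) = -1)) =
        Finset.univ.filter (fun i : Fin n => (i : ℕ) < s) := by
      ext i
      simp only [Finset.mem_filter, Finset.mem_univ, true_and]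
      split_ifs with h
      · simp [h]
      · simp only [h, iff_false]
        exact fun h' => hne h'.symm
    rw [h3, Fin.card_filter_val_lt, min_eq_right hs] at h1
    exact h1

end diag

section form

variable {F : Type*} [Field F] {d a b : ℕ}

/-- a Kronecker product of isometries of the factors gives a symplectic element of the
stabiliser -/
theorem Th_kron_mem_spGL (e : (Fin d ⊕ Fin d) ≃ Fin a × Fin b) (P : GL (Fin d ⊕ Fin d) F)
    (f₁ : (Fin a → F) → (Fin a → F) → F) (f₂ : (Fin b → F) → (Fin b → F) → F)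
    (hS : Cfsg.Geo.IsTensorFormStructure id (Cfsg.sympForm d F) f₁ f₂ e P)
    (A : GL (Fin a) F) (B : GL (Fin b) F)
    (hA : (A : Matrix (Fin a) (Fin a) F)ᵀ * Cfsg.Geo.gramMatrix f₁ *
      (A : Matrix (Fin a) (Fin a) F) = Cfsg.Geo.gramMatrix f₁)
    (hB : (B : Matrix (Fin b) (Fin b) F)ᵀ * Cfsg.Geo.gramMatrix f₂ *
      (B : Matrix (Fin b) (Fin b) F) = Cfsg.Geo.gramMatrix f₂) :
    Th e P (Cfsg.Agent.Helper28.BGT.kronGL A B) ∈ Cfsg.spGL d F := by
  obtain ⟨c, hc, hT⟩ := hS
  show Th e P (Cfsg.Agent.Helper28.BGT.kronGL A B) ∈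
    Cfsg.preserving (Cfsg.glToMat (Fin d ⊕ Fin d) F) (Cfsg.sympForm d F)
  rw [Th_mem_preserving e P (Cfsg.sympForm d F)
    (Cfsg.Geo.formOfGram id (Cfsg.Geo.gramMatrix f₁ ⊗ₖ Cfsg.Geo.gramMatrix f₂)) c hc
    (fun x y => hT x y), mem_isom_iff, Cfsg.Agent.Helper28.BGT.kronGL_val,
    ← Matrix.kroneckerMap_transpose, ← Matrix.mul_kronecker_mul, ← Matrix.mul_kronecker_mul,
    hA, hB]

theorem Th_kron_mem_tps (e : (Fin d ⊕ Fin d) ≃ Fin a × Fin b) (P : GL (Fin d ⊕ Fin d) F)
    (A : GL (Fin a) F) (B : GL (Fin b) F) :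
    Th e P (Cfsg.Agent.Helper28.BGT.kronGL A B) ∈ Cfsg.Geo.tensorProductSubgroup a b e P :=
  (mem_tps_iff' e P _).2 ⟨_, ⟨A, B, rfl⟩, rfl⟩

end form

end Cfsg.Agent.Helper28.BGT
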