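import Mathlib
import Cfsg.Agent.Lib.Helper28.BGT10
import Cfsg.Agent.Lib.Helper28.BGS11
import Cfsg.Agent.Lib.Helper13.SympConj

/-!
# Symplectic elements whose square is `± 1`: kernel dimensions and conjugacy (helper28)
-/

set_option autoImplicit false
set_option linter.style.haveILetI false
set_option linter.unusedSectionVars false
set_option linter.unusedVariables false

namespace Cfsg.Agent.Helper28.BGT

open Matrix Module Polynomial Cfsg.Agent.Helper13.SS Cfsg.Agent.Helper28.SympIso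
  Cfsg.Agent.Helper28.BGU
open scoped Kronecker

section kernels

variable {F : Type*} [Field F] {κ : Type*} [Fintype κ] [DecidableEq κ]

theorem mem_ker_X_sub_C (Y : Matrix κ κ F) (l : F) (v : κ → F) :
    v ∈ LinearMap.ker (aeval (Matrix.toLin' Y) (X - C l : F[X])) ↔ Y *ᵥ v = l • v := by
  rw [LinearMap.mem_ker, map_sub, aeval_X, aeval_C, Algebra.algebraMap_eq_smul_one,
    LinearMap.sub_apply, Matrix.toLin'_apply, LinearMap.smul_apply, Module.End.one_apply,
    sub_eq_zero]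

theorem aeval_eq_zero_of_kdim_eq {V : Type*} [AddCommGroup V] [Module F V]
    [FiniteDimensional F V] (g : Module.End F V) (P : F[X]) (h : kdim g P = finrank F V) :
    aeval g P = 0 := by
  unfold kdim at h
  exact LinearMap.ker_eq_top.1 (Submodule.eq_top_of_finrank_eq h)

theorem kdim_eq_of_aeval_eq_zero {V : Type*} [AddCommGroup V] [Module F V]
    (g : Module.End F V) (P : F[X]) (h : aeval g P = 0) : kdim g P = finrank F V := by
  unfold kdim
  rw [h, LinearMap.ker_zero, finrank_top]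

end kernels

section conj

variable {F : Type*} [Field F] [Fintype F] {d : ℕ}

/-- semisimple symplectic elements with the same kernel dimensions are conjugate in the
symplectic group -/
theorem sp_conj_of_kdim_eq (x y : GL (Fin d ⊕ Fin d) F) (hx : x ∈ Cfsg.spGL d F)
    (hy : y ∈ Cfsg.spGL d F) (S : Finset F[X]) (hirr : ∀ f ∈ S, Irreducible f)
    (hcop : (S : Set F[X]).Pairwise IsCoprime)
    (hx0 : aeval (Matrix.toLin' (x : Matrix (Fin d ⊕ Fin d) (Fin d ⊕ Fin d) F)) (∏ f ∈ S, f) = 0)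
    (hy0 : aeval (Matrix.toLin' (y : Matrix (Fin d ⊕ Fin d) (Fin d ⊕ Fin d) F)) (∏ f ∈ S, f) = 0)
    (hk : ∀ f ∈ S, kdim (Matrix.toLin' (x : Matrix (Fin d ⊕ Fin d) (Fin d ⊕ Fin d) F)) f =
      kdim (Matrix.toLin' (y : Matrix (Fin d ⊕ Fin d) (Fin d ⊕ Fin d) F)) f)
    (M : ℕ) (hM : 1 ≤ M) (hMF : (M : F) ≠ 0) (hxM : x ^ M = 1) :
    ∃ g ∈ Cfsg.spGL d F, g⁻¹ * x * g = y := by
  obtain ⟨x', rfl⟩ := Cfsg.Agent.Helper28.SpSingMax.exists_of_mem_spGL x hx
  obtain ⟨y', rfl⟩ := Cfsg.Agent.Helper28.SpSingMax.exists_of_mem_spGL y hy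
  obtain ⟨T, hT⟩ := exists_equiv_aux S _ _
    (Matrix.toLin' (x' : Matrix (Fin d ⊕ Fin d) (Fin d ⊕ Fin d) F))
    (Matrix.toLin' (y' : Matrix (Fin d ⊕ Fin d) (Fin d ⊕ Fin d) F)) hirr hcop hx0 hy0 hk
  have hx'M : x' ^ M = 1 := by
    have h1 : Cfsg.Agent.Helper28.SpSingMax.toGLHom d F (x' ^ M) =
        Cfsg.Agent.Helper28.SpSingMax.toGLHom d F 1 := by rw [map_pow, hxM, map_one]
    exact Subtype.ext (congrArg Units.val h1)
  have hc := Cfsg.Agent.Helper13.SympSS.symp_isConj_of_intertwiner x' y' M hM hMF hx'M T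
    (fun v => by
      have := hT v
      rwa [Matrix.toLin'_apply, Matrix.toLin'_apply] at this)
  obtain ⟨c, hc⟩ := isConj_iff.1 hc
  refine ⟨Cfsg.Agent.Helper28.SpSingMax.toGLHom d F c⁻¹,
    Cfsg.Agent.Helper28.SpSingMax.toGLHom_mem_spGL _, ?_⟩
  rw [← map_inv, ← map_mul, ← map_mul, inv_inv, hc]

end conj

section dims

variable {F : Type*} [Field F] [Fintype F] {d : ℕ}

/-- the `-1`-eigenspace of a symplectic involution has even dimension -/
theorem even_kdim_of_sq_one (h2 : (2 : F) ≠ 0) (x : GL (Fin d ⊕ Fin d) F)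
    (hx : x ∈ Cfsg.spGL d F)
    (hxx : (x : Matrix (Fin d ⊕ Fin d) (Fin d ⊕ Fin d) F) *
      (x : Matrix (Fin d ⊕ Fin d) (Fin d ⊕ Fin d) F) = 1) :
    Even (kdim (Matrix.toLin' (x : Matrix (Fin d ⊕ Fin d) (Fin d ⊕ Fin d) F))
      (X - C (-1) : F[X])) := by
  set Y := (x : Matrix (Fin d ⊕ Fin d) (Fin d ⊕ Fin d) F) with hY
  set W := LinearMap.ker (aeval (Matrix.toLin' Y) (X - C (-1) : F[X])) with hW
  have hpres : ∀ u v, sympBil d F (Y *ᵥ u) (Y *ᵥ v) = sympBil d F u v := spGL_apply hx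
  unfold kdim
  apply Cfsg.Agent.Helper28.BGS.even_finrank_of_alt ((sympBil d F).restrict W)
  · intro u
    exact sympBil_isAlt d _
  · intro u hu
    have hu1 : Y *ᵥ (u : Fin d ⊕ Fin d → F) = (-1 : F) • (u : Fin d ⊕ Fin d → F) :=
      (mem_ker_X_sub_C Y (-1) _).1 u.2
    apply Subtype.ext
    apply (sympBil_nondegenerate d).1
    intro w
    -- `w - Y w` lies in the eigenspace
    have hv : w - Y *ᵥ w ∈ W := by
      rw [hW, mem_ker_X_sub_C, Matrix.mulVec_sub, Matrix.mulVec_mulVec, hxx, Matrix.one_mulVec]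
      module
    have h3 := hu ⟨_, hv⟩
    have h4 : sympBil d F (u : Fin d ⊕ Fin d → F) (w - Y *ᵥ w) = 0 := h3
    have h5 := hpres (u : Fin d ⊕ Fin d → F) w
    rw [hu1, map_smul, LinearMap.smul_apply, smul_eq_mul] at h5
    rw [map_sub] at h4
    have h6 : (2 : F) * sympBil d F (u : Fin d ⊕ Fin d → F) w = 0 := by
      linear_combination h4 - h5
    exact (mul_eq_zero.1 h6).resolve_left h2

/-- an eigenspace of a symplectic element for an eigenvalue of square `-1` is totally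
isotropic, so has dimension at most `d` -/
theorem kdim_le_of_sq_neg_one (h2 : (2 : F) ≠ 0) (x : GL (Fin d ⊕ Fin d) F)
    (hx : x ∈ Cfsg.spGL d F) (ω : F) (hω : ω * ω = -1) :
    kdim (Matrix.toLin' (x : Matrix (Fin d ⊕ Fin d) (Fin d ⊕ Fin d) F)) (X - C ω : F[X]) ≤ d := by
  set Y := (x : Matrix (Fin d ⊕ Fin d) (Fin d ⊕ Fin d) F) with hY
  set W := LinearMap.ker (aeval (Matrix.toLin' Y) (X - C ω : F[X])) with hW
  have hpres : ∀ u v, sympBil d F (Y *ᵥ u) (Y *ᵥ v) = sympBil d F u v := spGL_apply hx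
  have hle : W ≤ (sympBil d F).orthogonal W := by
    intro v hv
    rw [LinearMap.BilinForm.mem_orthogonal_iff]
    intro u hu
    show sympBil d F u v = 0
    have hu1 := (mem_ker_X_sub_C Y ω u).1 hu
    have hv1 := (mem_ker_X_sub_C Y ω v).1 hv
    have h5 := hpres u v
    rw [hu1, hv1, map_smul, map_smul, LinearMap.smul_apply, smul_eq_mul, smul_eq_mul,
      ← mul_assoc, hω] at h5
    have h6 : (2 : F) * sympBil d F u v = 0 := by linear_combination -h5
    exact (mul_eq_zero.1 h6).resolve_left h2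
  have hfr := LinearMap.BilinForm.finrank_orthogonal (sympBil_nondegenerate (F := F) d) W
  have h1 := Submodule.finrank_mono hle
  have h3 : finrank F (Fin d ⊕ Fin d → F) = 2 * d := by
    rw [Module.finrank_fintype_fun_eq_card, Fintype.card_sum, Fintype.card_fin]
    ring
  have h4 := Submodule.finrank_le W
  unfold kdim
  rw [← hW]
  omega

end dims

end Cfsg.Agent.Helper28.BGT
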