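import Mathlib
import Cfsg.Agent.Lib.Helper28.BGT13
import Cfsg.Agent.Lib.Helper28.BGT14
import Cfsg.Agent.Lib.Helper13.SemisimpleCharpoly

/-!
# Symplectic elements with square `± 1` are conjugate into the stabiliser of a tensor
decomposition `Sp_2 ⊗ O_d` (helper28)
-/

set_option autoImplicit false
set_option linter.style.haveILetI false
set_option linter.unusedSectionVars false
set_option linter.unusedVariables false

namespace Cfsg.Agent.Helper28.BGT

open Matrix Module Polynomial Cfsg.Agent.H28TF Cfsg.Agent.Helper13.SS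
  Cfsg.Agent.Helper28.SympIso Cfsg.Agent.Helper28.BGU
open scoped Kronecker

section two

variable {F : Type*} [Field F] {κ : Type*} [Fintype κ] [DecidableEq κ]

theorem aeval_toLin'_eq_zero (M : Matrix κ κ F) (P : F[X]) (h : aeval M P = 0) :
    aeval (Matrix.toLin' M) P = 0 := by
  rw [aeval_toLin'', h, map_zero]

theorem pair_ne (a b : F) (hab : a ≠ b) : (X - C a : F[X]) ≠ X - C b := by
  intro h
  apply hab
  have h1 := congrArg (Polynomial.eval 0) h
  simp only [eval_sub, eval_X, eval_C, zero_sub] at h1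
  exact neg_injective h1

theorem pair_irr (a b : F) [DecidableEq F[X]] :
    ∀ f ∈ ({X - C a, X - C b} : Finset F[X]), Irreducible f := by
  intro f hf
  rcases Finset.mem_insert.1 hf with rfl | hf
  · exact irreducible_X_sub_C a
  · rw [Finset.mem_singleton] at hf
    rw [hf]
    exact irreducible_X_sub_C b

theorem pair_mon (a b : F) [DecidableEq F[X]] :
    ∀ f ∈ ({X - C a, X - C b} : Finset F[X]), f.Monic := by
  intro f hf
  rcases Finset.mem_insert.1 hf with rfl | hf
  · exact monic_X_sub_C a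
  · rw [Finset.mem_singleton] at hf
    rw [hf]
    exact monic_X_sub_C b

theorem aeval_pair (M : Matrix κ κ F) (a b : F) :
    aeval M ((X - C a) * (X - C b) : F[X]) =
      (M - a • (1 : Matrix κ κ F)) * (M - b • (1 : Matrix κ κ F)) := by
  rw [map_mul, aeval_X_sub_C', aeval_X_sub_C']

/-- two eigenvalues: the dimensions of the eigenspaces add up to the dimension -/
theorem kdim_add_kdim_of_two_eigen (M : Matrix κ κ F) (a b : F) (hab : a ≠ b)
    (h0 : (M - a • (1 : Matrix κ κ F)) * (M - b • (1 : Matrix κ κ F)) = 0) :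
    kdim (Matrix.toLin' M) (X - C a) + kdim (Matrix.toLin' M) (X - C b) = Fintype.card κ := by
  classical
  have hne := pair_ne a b hab
  have hkill : aeval (Matrix.toLin' M) (∏ f ∈ ({X - C a, X - C b} : Finset F[X]), f) = 0 := by
    rw [Finset.prod_pair hne]
    exact aeval_toLin'_eq_zero M _ (by rw [aeval_pair, h0])
  have hfin := finrank_eq_sum_kdim (Matrix.toLin' M) ({X - C a, X - C b} : Finset F[X])
    (pairwise_coprime_of_monic_irreducible _ (pair_irr a b) (pair_mon a b)) hkill
  rw [Finset.sum_pair hne, Module.finrank_fintype_fun_eq_card] at hfin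
  exact hfin.symm

end two

section suff

variable {F : Type*} [Field F] [Fintype F] {d : ℕ}

/-- symplectic elements with the same two eigenvalues and the same dimension of one
eigenspace are conjugate in the symplectic group -/
theorem sp_conj_of_two_eigen (x y : GL (Fin d ⊕ Fin d) F) (hx : x ∈ Cfsg.spGL d F)
    (hy : y ∈ Cfsg.spGL d F) (a b : F) (hab : a ≠ b)
    (hx0 : ((x : Matrix (Fin d ⊕ Fin d) (Fin d ⊕ Fin d) F) -
        a • (1 : Matrix (Fin d ⊕ Fin d) (Fin d ⊕ Fin d) F)) *
      ((x : Matrix (Fin d ⊕ Fin d) (Fin d ⊕ Fin d) F) -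
        b • (1 : Matrix (Fin d ⊕ Fin d) (Fin d ⊕ Fin d) F)) = 0)
    (hy0 : ((y : Matrix (Fin d ⊕ Fin d) (Fin d ⊕ Fin d) F) -
        a • (1 : Matrix (Fin d ⊕ Fin d) (Fin d ⊕ Fin d) F)) *
      ((y : Matrix (Fin d ⊕ Fin d) (Fin d ⊕ Fin d) F) -
        b • (1 : Matrix (Fin d ⊕ Fin d) (Fin d ⊕ Fin d) F)) = 0)
    (hk : kdim (Matrix.toLin' (x : Matrix (Fin d ⊕ Fin d) (Fin d ⊕ Fin d) F)) (X - C a) =
      kdim (Matrix.toLin' (y : Matrix (Fin d ⊕ Fin d) (Fin d ⊕ Fin d) F)) (X - C a))
    (M : ℕ) (hM : 1 ≤ M) (hMF : (M : F) ≠ 0) (hxM : x ^ M = 1) :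
    ∃ g ∈ Cfsg.spGL d F, g⁻¹ * x * g = y := by
  classical
  have hne := pair_ne a b hab
  have h1 := kdim_add_kdim_of_two_eigen _ a b hab hx0
  have h2 := kdim_add_kdim_of_two_eigen _ a b hab hy0
  apply sp_conj_of_kdim_eq x y hx hy ({X - C a, X - C b} : Finset F[X]) (pair_irr a b)
    (pairwise_coprime_of_monic_irreducible _ (pair_irr a b) (pair_mon a b)) ?_ ?_ ?_ M hM hMF hxM
  · rw [Finset.prod_pair hne]
    exact aeval_toLin'_eq_zero _ _ (by rw [aeval_pair, hx0])
  · rw [Finset.prod_pair hne]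
    exact aeval_toLin'_eq_zero _ _ (by rw [aeval_pair, hy0])
  · intro f hf
    rcases Finset.mem_insert.1 hf with rfl | hf
    · exact hk
    · rw [Finset.mem_singleton] at hf
      rw [hf]
      omega

end suff

end Cfsg.Agent.Helper28.BGT
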