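import Mathlib
import Cfsg.Agent.Lib.Helper28.BGT15

/-!
# Symplectic elements with scalar square and the stabiliser of a tensor decomposition
`Sp_2 ⊗ O_d`: the main sufficiency statement (helper28)
-/

set_option autoImplicit false
set_option linter.style.haveILetI false
set_option linter.unusedSectionVars false
set_option linter.unusedVariables false

namespace Cfsg.Agent.Helper28.BGT

open Matrix Module Polynomial Cfsg.Agent.H28TF Cfsg.Agent.Helper13.SS
  Cfsg.Agent.Helper28.SympIso Cfsg.Agent.Helper28.BGU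
open scoped Kronecker

section quarter

variable {F : Type*} [Field F]

/-- the quarter turn -/
def quarterGL (F : Type*) [Field F] : GL (Fin 2) F :=
  ⟨!![0, 1; -1, 0], !![0, -1; 1, 0],
    by rw [Matrix.mul_fin_two, Matrix.one_fin_two]; simp,
    by rw [Matrix.mul_fin_two, Matrix.one_fin_two]; simp⟩

theorem quarterGL_val : ((quarterGL F : GL (Fin 2) F) : Matrix (Fin 2) (Fin 2) F) =
    !![0, 1; -1, 0] := rfl

theorem quarterGL_sq : ((quarterGL F : GL (Fin 2) F) : Matrix (Fin 2) (Fin 2) F) *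
    ((quarterGL F : GL (Fin 2) F) : Matrix (Fin 2) (Fin 2) F) =
      (-1 : F) • (1 : Matrix (Fin 2) (Fin 2) F) := by
  rw [quarterGL_val, Matrix.mul_fin_two, Matrix.one_fin_two, Matrix.smul_of, Matrix.smul_cons,
    Matrix.smul_cons]
  simp

/-- the quarter turn preserves every alternating form in dimension two -/
theorem quarterGL_isom (f₁ : (Fin 2 → F) → (Fin 2 → F) → F)
    (hf₁ : Cfsg.Geo.IsSymplecticForm f₁) :
    ((quarterGL F : GL (Fin 2) F) : Matrix (Fin 2) (Fin 2) F)ᵀ * Cfsg.Geo.gramMatrix f₁ *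
      ((quarterGL F : GL (Fin 2) F) : Matrix (Fin 2) (Fin 2) F) = Cfsg.Geo.gramMatrix f₁ := by
  have h00 : Cfsg.Geo.gramMatrix f₁ 0 0 = 0 := hf₁.alternating _
  have h11 : Cfsg.Geo.gramMatrix f₁ 1 1 = 0 := hf₁.alternating _
  have h10 : Cfsg.Geo.gramMatrix f₁ 1 0 = - Cfsg.Geo.gramMatrix f₁ 0 1 := hf₁.skew _ _
  rw [Matrix.eta_fin_two (Cfsg.Geo.gramMatrix f₁), h00, h11, h10, quarterGL_val]
  have ht : (!![0, 1; -1, 0] : Matrix (Fin 2) (Fin 2) F)ᵀ = !![0, -1; 1, 0] := by
    ext i j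
    fin_cases i <;> fin_cases j <;> rfl
  rw [ht, Matrix.mul_fin_two, Matrix.mul_fin_two]
  simp

end quarter

section transferpoly

variable {F : Type*} [Field F] {ι : Type} [Fintype ι] [DecidableEq ι] {a b : ℕ}

theorem Th_val' (e : ι ≃ Fin a × Fin b) (P : GL ι F) (k : GL (Fin a × Fin b) F) :
    ((Th e P k : GL ι F) : Matrix ι ι F) =
      (P : Matrix ι ι F) *
        (k : Matrix (Fin a × Fin b) (Fin a × Fin b) F).submatrix e e *
        ((P⁻¹ : GL ι F) : Matrix ι ι F) := by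
  show ((P * Cfsg.Geo.glReindex e.symm k * P⁻¹ : GL ι F) : Matrix ι ι F) = _
  rw [Units.val_mul, Units.val_mul, glReindex_val]

theorem aeval_Th_eq_zero (e : ι ≃ Fin a × Fin b) (P : GL ι F) (k : GL (Fin a × Fin b) F)
    (f : F[X]) (h : aeval (k : Matrix (Fin a × Fin b) (Fin a × Fin b) F) f = 0) :
    aeval ((Th e P k : GL ι F) : Matrix ι ι F) f = 0 := by
  rw [Th_val', aeval_conj _ _ (by rw [← Units.val_mul, inv_mul_cancel, Units.val_one]),
    aeval_submatrix, h, Matrix.submatrix_zero]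
  simp

theorem pair_mul_eq {κ : Type*} [Fintype κ] [DecidableEq κ] (M : Matrix κ κ F) (a b : F) :
    (M - a • (1 : Matrix κ κ F)) * (M - b • (1 : Matrix κ κ F)) =
      M * M - (a + b) • M + (a * b) • (1 : Matrix κ κ F) := by
  simp only [sub_mul, mul_sub, Matrix.mul_smul, Matrix.smul_mul, Matrix.mul_one, Matrix.one_mul,
    smul_sub, smul_smul, add_smul]
  rw [mul_comm b a]
  abel

end transferpoly

section main

variable {F : Type*} [Field F] [Fintype F] {d : ℕ}

/-- an element of the symplectic group whose square is a scalar has a conjugate in the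
stabiliser of a tensor decomposition of type `Sp_2 ⊗ O_d` -/
theorem sp_tensor_sufficient (hodd : Odd (Fintype.card F)) (hd : 1 ≤ d)
    (e : (Fin d ⊕ Fin d) ≃ Fin 2 × Fin d) (P : GL (Fin d ⊕ Fin d) F)
    (f₁ : (Fin 2 → F) → (Fin 2 → F) → F) (f₂ : (Fin d → F) → (Fin d → F) → F)
    (hf₁ : Cfsg.Geo.IsSymplecticForm f₁) (hf₂ : Cfsg.Geo.IsSymmetricForm f₂)
    (hS : Cfsg.Geo.IsTensorFormStructure id (Cfsg.sympForm d F) f₁ f₂ e P)
    (x : GL (Fin d ⊕ Fin d) F) (hx : x ∈ Cfsg.spGL d F) (z : F)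
    (hz : ((x ^ 2 : GL (Fin d ⊕ Fin d) F) : Matrix (Fin d ⊕ Fin d) (Fin d ⊕ Fin d) F) =
      z • (1 : Matrix (Fin d ⊕ Fin d) (Fin d ⊕ Fin d) F)) :
    ∃ g ∈ Cfsg.spGL d F, g⁻¹ * x * g ∈ Cfsg.Geo.tensorProductSubgroup 2 d e P := by
  classical
  have h2 : (2 : F) ≠ 0 := two_ne_zero_of_odd hodd
  set Y := (x : Matrix (Fin d ⊕ Fin d) (Fin d ⊕ Fin d) F) with hY
  have hXiso : ∀ u v, sympBil d F (Y *ᵥ u) (Y *ᵥ v) = sympBil d F u v := spGL_apply hx
  have hXX : Y * Y = z • (1 : Matrix (Fin d ⊕ Fin d) (Fin d ⊕ Fin d) F) := by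
    rw [← hz, Units.val_pow_eq_pow_val, sq]
  have hzz : z * z = 1 := by
    obtain ⟨u, v, huv⟩ := Cfsg.Agent.Helper13.SympFrame.exists_sympBil_ne_zero (F := F) d hd
    have h1 := hXiso (Y *ᵥ u) (Y *ᵥ v)
    rw [Matrix.mulVec_mulVec, Matrix.mulVec_mulVec, hXX, Matrix.smul_mulVec, Matrix.smul_mulVec,
      Matrix.one_mulVec, Matrix.one_mulVec, map_smul, map_smul, LinearMap.smul_apply, hXiso,
      smul_eq_mul, smul_eq_mul, ← mul_assoc] at h1
    have h3 : (z * z - 1) * sympBil d F u v = 0 := by linear_combination h1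
    rcases mul_eq_zero.1 h3 with h | h
    · linear_combination h
    · exact absurd h huv
  have hz1 : z = 1 ∨ z = -1 := by
    have : (z - 1) * (z + 1) = 0 := by linear_combination hzz
    rcases mul_eq_zero.1 this with h | h
    · left; linear_combination h
    · right; linear_combination h
  have h4F : ((4 : ℕ) : F) ≠ 0 := by
    have : ((4 : ℕ) : F) = 2 * 2 := by norm_num
    rw [this]
    exact mul_ne_zero h2 h2
  have hx4 : x ^ 4 = 1 := by
    apply Units.ext
    rw [show (4 : ℕ) = 2 * 2 from rfl, pow_mul, Units.val_pow_eq_pow_val, hz, _root_.smul_pow,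
      one_pow, sq, hzz, one_smul, Units.val_one]
  have hcard : Fintype.card (Fin d ⊕ Fin d) = 2 * d := by
    rw [Fintype.card_sum, Fintype.card_fin]
    ring
  have hcard' : Fintype.card (Fin 2 × Fin d) = 2 * d := by
    rw [Fintype.card_prod, Fintype.card_fin, Fintype.card_fin]
  have hone : ((1 : GL (Fin d) F) : Matrix (Fin d) (Fin d) F)ᵀ * Cfsg.Geo.gramMatrix f₂ *
      ((1 : GL (Fin d) F) : Matrix (Fin d) (Fin d) F) = Cfsg.Geo.gramMatrix f₂ := by
    rw [Units.val_one, Matrix.transpose_one, Matrix.one_mul, Matrix.mul_one]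
  have hone' : ((1 : GL (Fin 2) F) : Matrix (Fin 2) (Fin 2) F)ᵀ * Cfsg.Geo.gramMatrix f₁ *
      ((1 : GL (Fin 2) F) : Matrix (Fin 2) (Fin 2) F) = Cfsg.Geo.gramMatrix f₁ := by
    rw [Units.val_one, Matrix.transpose_one, Matrix.one_mul, Matrix.mul_one]
  rcases hz1 with rfl | rfl
  · -- an involution
    rw [one_smul] at hXX
    have hne : (-1 : F) ≠ 1 := by
      intro h
      apply h2
      have : (1 : F) + 1 = 0 := by
        nth_rewrite 1 [← h]
        exact neg_add_cancel 1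
      rw [← this]
      norm_num
    have hx0 : (Y - (-1 : F) • (1 : Matrix (Fin d ⊕ Fin d) (Fin d ⊕ Fin d) F)) *
        (Y - (1 : F) • (1 : Matrix (Fin d ⊕ Fin d) (Fin d ⊕ Fin d) F)) = 0 := by
      rw [pair_mul_eq, hXX, neg_add_cancel, zero_smul, neg_one_mul, neg_smul, one_smul]
      abel
    obtain ⟨s, hs'⟩ := even_kdim_of_sq_one h2 x hx hXX
    have hs : kdim (Matrix.toLin' Y) (X - C (-1) : F[X]) = s + s := hs'
    have hkle := kdim_add_rank Y (X - C (-1) : F[X])
    rw [hcard] at hkle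
    have hsd : s ≤ d := by omega
    obtain ⟨B, hBiso, hBB, hBrk⟩ := exists_orth_invol h2 f₂ hf₂ s hsd
    set k := Cfsg.Agent.Helper28.BGT.kronGL (1 : GL (Fin 2) F) B with hk
    set y := Th e P k with hy
    have hy_sp : y ∈ Cfsg.spGL d F := Th_kron_mem_spGL e P f₁ f₂ hS 1 B hone' hBiso
    have hy_tps : y ∈ Cfsg.Geo.tensorProductSubgroup 2 d e P := Th_kron_mem_tps e P 1 B
    have hKK : (k : Matrix (Fin 2 × Fin d) (Fin 2 × Fin d) F) *
        (k : Matrix (Fin 2 × Fin d) (Fin 2 × Fin d) F) = 1 := by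
      rw [hk, Cfsg.Agent.Helper28.BGT.kronGL_val, ← Matrix.mul_kronecker_mul, Units.val_one,
        Matrix.one_mul, ← Units.val_mul, hBB, Units.val_one, Matrix.one_kronecker_one]
    have hK0 : ((k : Matrix (Fin 2 × Fin d) (Fin 2 × Fin d) F) -
          (-1 : F) • (1 : Matrix (Fin 2 × Fin d) (Fin 2 × Fin d) F)) *
        ((k : Matrix (Fin 2 × Fin d) (Fin 2 × Fin d) F) -
          (1 : F) • (1 : Matrix (Fin 2 × Fin d) (Fin 2 × Fin d) F)) = 0 := by
      rw [pair_mul_eq, hKK, neg_add_cancel, zero_smul, neg_one_mul, neg_smul, one_smul]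
      abel
    have hy0 : ((y : Matrix (Fin d ⊕ Fin d) (Fin d ⊕ Fin d) F) -
          (-1 : F) • (1 : Matrix (Fin d ⊕ Fin d) (Fin d ⊕ Fin d) F)) *
        ((y : Matrix (Fin d ⊕ Fin d) (Fin d ⊕ Fin d) F) -
          (1 : F) • (1 : Matrix (Fin d ⊕ Fin d) (Fin d ⊕ Fin d) F)) = 0 := by
      have := aeval_Th_eq_zero e P k ((X - C (-1)) * (X - C 1) : F[X])
        (by rw [aeval_pair, hK0])
      rwa [aeval_pair] at this
    have hkk : kdim (Matrix.toLin' Y) (X - C (-1) : F[X]) =
        kdim (Matrix.toLin' (y : Matrix (Fin d ⊕ Fin d) (Fin d ⊕ Fin d) F)) (X - C (-1)) := by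
      rw [hs, hy, kdim_Th]
      have h5 := kdim_add_rank (k : Matrix (Fin 2 × Fin d) (Fin 2 × Fin d) F) (X - C (-1) : F[X])
      rw [aeval_X_sub_C', hcard'] at h5
      have h6 : ((k : Matrix (Fin 2 × Fin d) (Fin 2 × Fin d) F) -
          (-1 : F) • (1 : Matrix (Fin 2 × Fin d) (Fin 2 × Fin d) F)).rank =
          2 * ((B : Matrix (Fin d) (Fin d) F) - (-1 : F) • (1 : Matrix (Fin d) (Fin d) F)).rank := by
        have h7 := rank_smul_one_kronecker_sub (a := 2) (1 : F) (-1 : F)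
          (B : Matrix (Fin d) (Fin d) F)
        rw [one_smul, one_smul] at h7
        rw [hk, Cfsg.Agent.Helper28.BGT.kronGL_val, Units.val_one]
        exact h7
      omega
    obtain ⟨g, hg, hgy⟩ := sp_conj_of_two_eigen x y hx hy_sp (-1) 1 hne hx0 hy0 hkk 4
      (by norm_num) h4F hx4
    exact ⟨g, hg, by rw [hgy]; exact hy_tps⟩
  · -- square `-1`
    set k := Cfsg.Agent.Helper28.BGT.kronGL (quarterGL F) (1 : GL (Fin d) F) with hk
    set y := Th e P k with hy
    have hy_sp : y ∈ Cfsg.spGL d F :=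
      Th_kron_mem_spGL e P f₁ f₂ hS (quarterGL F) 1 (quarterGL_isom f₁ hf₁) hone
    have hy_tps : y ∈ Cfsg.Geo.tensorProductSubgroup 2 d e P :=
      Th_kron_mem_tps e P (quarterGL F) 1
    have hKK : (k : Matrix (Fin 2 × Fin d) (Fin 2 × Fin d) F) *
        (k : Matrix (Fin 2 × Fin d) (Fin 2 × Fin d) F) =
        (-1 : F) • (1 : Matrix (Fin 2 × Fin d) (Fin 2 × Fin d) F) := by
      rw [hk, Cfsg.Agent.Helper28.BGT.kronGL_val, ← Matrix.mul_kronecker_mul, quarterGL_sq,
        Units.val_one, Matrix.one_mul, Matrix.smul_kronecker, Matrix.one_kronecker_one]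
    by_cases hm1 : IsSquare (-1 : F)
    · obtain ⟨ω, hω⟩ := hm1
      have hω0 : ω ≠ 0 := by
        rintro rfl
        rw [mul_zero] at hω
        exact neg_ne_zero.2 one_ne_zero hω
      have hne : ω ≠ -ω := by
        intro h
        have h3 : (2 : F) * ω = 0 := by linear_combination h
        rcases mul_eq_zero.1 h3 with h | h
        · exact h2 h
        · exact hω0 h
      have hx0 : (Y - ω • (1 : Matrix (Fin d ⊕ Fin d) (Fin d ⊕ Fin d) F)) *
          (Y - (-ω) • (1 : Matrix (Fin d ⊕ Fin d) (Fin d ⊕ Fin d) F)) = 0 := by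
        rw [pair_mul_eq, hXX, add_neg_cancel, zero_smul, mul_neg, ← hω, neg_neg, neg_smul,
          one_smul]
        abel
      have hK0 : ((k : Matrix (Fin 2 × Fin d) (Fin 2 × Fin d) F) -
            ω • (1 : Matrix (Fin 2 × Fin d) (Fin 2 × Fin d) F)) *
          ((k : Matrix (Fin 2 × Fin d) (Fin 2 × Fin d) F) -
            (-ω) • (1 : Matrix (Fin 2 × Fin d) (Fin 2 × Fin d) F)) = 0 := by
        rw [pair_mul_eq, hKK, add_neg_cancel, zero_smul, mul_neg, ← hω, neg_neg, neg_smul,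
          one_smul]
        abel
      have hy0 : ((y : Matrix (Fin d ⊕ Fin d) (Fin d ⊕ Fin d) F) -
            ω • (1 : Matrix (Fin d ⊕ Fin d) (Fin d ⊕ Fin d) F)) *
          ((y : Matrix (Fin d ⊕ Fin d) (Fin d ⊕ Fin d) F) -
            (-ω) • (1 : Matrix (Fin d ⊕ Fin d) (Fin d ⊕ Fin d) F)) = 0 := by
        have := aeval_Th_eq_zero e P k ((X - C ω) * (X - C (-ω)) : F[X])
          (by rw [aeval_pair, hK0])
        rwa [aeval_pair] at this
      have hω' : -ω * -ω = -1 := by rw [neg_mul_neg]; exact hω.symm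
      have hxa : kdim (Matrix.toLin' Y) (X - C ω : F[X]) ≤ d :=
        kdim_le_of_sq_neg_one h2 x hx ω hω.symm
      have hxb : kdim (Matrix.toLin' Y) (X - C (-ω) : F[X]) ≤ d :=
        kdim_le_of_sq_neg_one h2 x hx (-ω) hω'
      have hxs := kdim_add_kdim_of_two_eigen Y ω (-ω) hne hx0
      have hya := kdim_le_of_sq_neg_one h2 y hy_sp ω hω.symm
      have hyb := kdim_le_of_sq_neg_one h2 y hy_sp (-ω) hω'
      have hys := kdim_add_kdim_of_two_eigen
        (y : Matrix (Fin d ⊕ Fin d) (Fin d ⊕ Fin d) F) ω (-ω) hne hy0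
      rw [hcard] at hxs hys
      have hkk : kdim (Matrix.toLin' Y) (X - C ω : F[X]) =
          kdim (Matrix.toLin' (y : Matrix (Fin d ⊕ Fin d) (Fin d ⊕ Fin d) F)) (X - C ω) := by
        omega
      obtain ⟨g, hg, hgy⟩ := sp_conj_of_two_eigen x y hx hy_sp ω (-ω) hne hx0 hy0 hkk 4
        (by norm_num) h4F hx4
      exact ⟨g, hg, by rw [hgy]; exact hy_tps⟩
    · set f : F[X] := X ^ 2 - C (-1 : F) with hf
      have hfdeg : f.natDegree = 2 := natDegree_X_pow_sub_C
      have hfmon : f.Monic := monic_X_pow_sub_C (-1 : F) (by norm_num)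
      have hfirr : Irreducible f := by
        rw [Polynomial.Monic.irreducible_iff_roots_eq_zero_of_degree_le_three hfmon
          (by rw [hfdeg]) (by rw [hfdeg]; norm_num)]
        rw [Multiset.eq_zero_iff_forall_notMem]
        intro c hc
        rw [mem_roots hfmon.ne_zero, IsRoot.def, hf, eval_sub, eval_pow, eval_X, eval_C,
          sub_eq_zero] at hc
        exact hm1 ⟨c, by rw [← hc, pow_two]⟩
      have hxf : aeval Y f = 0 := by
        rw [hf, aeval_X_pow_sub_C', sq, hXX, sub_self]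
      have hkf : aeval (k : Matrix (Fin 2 × Fin d) (Fin 2 × Fin d) F) f = 0 := by
        rw [hf, aeval_X_pow_sub_C', sq, hKK, sub_self]
      have hyf : aeval (y : Matrix (Fin d ⊕ Fin d) (Fin d ⊕ Fin d) F) f = 0 :=
        aeval_Th_eq_zero e P k f hkf
      have hcop : ((({f} : Finset F[X])) : Set F[X]).Pairwise IsCoprime := by
        rw [Finset.coe_singleton]
        exact Set.pairwise_singleton _ _
      obtain ⟨g, hg, hgy⟩ := sp_conj_of_kdim_eq x y hx hy_sp ({f} : Finset F[X])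
        (fun f' hf' => by rw [Finset.mem_singleton.1 hf']; exact hfirr) hcop
        (by rw [Finset.prod_singleton]; exact aeval_toLin'_eq_zero _ _ hxf)
        (by rw [Finset.prod_singleton]; exact aeval_toLin'_eq_zero _ _ hyf)
        (fun f' hf' => by
          rw [Finset.mem_singleton.1 hf',
            kdim_eq_of_aeval_eq_zero _ _ (aeval_toLin'_eq_zero _ _ hxf),
            kdim_eq_of_aeval_eq_zero _ _ (aeval_toLin'_eq_zero _ _ hyf)])
        4 (by norm_num) h4F hx4
      exact ⟨g, hg, by rw [hgy]; exact hy_tps⟩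

end main

end Cfsg.Agent.Helper28.BGT
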