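import Mathlib
import Cfsg.Agent.Lib.Helper28.BGT4
import Cfsg.Agent.Lib.Helper28.BGQ3

/-!
# Elements without conjugates in the stabiliser of a tensor decomposition: transvections and
diagonal elements (helper28)
-/

set_option autoImplicit false
set_option linter.style.haveILetI false
set_option linter.unusedSectionVars false
set_option linter.unusedVariables false

namespace Cfsg.Agent.Helper28.BGT

open Matrix Module Cfsg.Agent.H28TF Cfsg.Agent.Helper28.BGQ
open scoped Kronecker

section transvection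

variable {F : Type*} [Field F] [Fintype F] {p : ℕ} [Fact p.Prime] [CharP F p] {n a b : ℕ}

/-- a transvection is an element of order `p` without conjugates in the stabiliser of a tensor
decomposition -/
theorem exists_bad_transvection (hn : 2 ≤ n) (ha : 2 ≤ a) (hb : 2 ≤ b)
    (e : Fin n ≃ Fin a × Fin b) (P : GL (Fin n) F) :
    ∃ x ∈ Cfsg.Geo.specialLinear (Fin n) F,
      (∃ z : F, ((x ^ p : GL (Fin n) F) : Matrix (Fin n) (Fin n) F) =
        z • (1 : Matrix (Fin n) (Fin n) F)) ∧
      (∀ z : F, (x : Matrix (Fin n) (Fin n) F) ≠ z • (1 : Matrix (Fin n) (Fin n) F)) ∧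
      ∀ g : GL (Fin n) F, g⁻¹ * x * g ∉ Cfsg.Geo.tensorProductSubgroup a b e P := by
  classical
  set i₀ : Fin n := ⟨0, by omega⟩ with hi₀
  set i₁ : Fin n := ⟨1, by omega⟩ with hi₁
  have h01 : i₀ ≠ i₁ := by simp [hi₀, hi₁, Fin.ext_iff]
  set X : Matrix (Fin n) (Fin n) F := Matrix.transvection i₀ i₁ 1 with hX
  have hXdet : X.det = 1 := Matrix.det_transvection_of_ne i₀ i₁ h01 1
  have hXpow : ∀ k : ℕ, X ^ k = Matrix.transvection i₀ i₁ (k : F) := by
    intro k
    induction k with
    | zero => rw [pow_zero, Nat.cast_zero, Matrix.transvection_zero]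
    | succ k ih =>
      rw [pow_succ, ih, hX, Matrix.transvection_mul_transvection_same i₀ i₁ h01, Nat.cast_succ]
  have hXp : X ^ p = 1 := by
    rw [hXpow, CharP.cast_eq_zero F p, Matrix.transvection_zero]
  set x : GL (Fin n) F := SpecialLinearGroup.toGL ⟨X, hXdet⟩ with hx
  have hxv : (x : Matrix (Fin n) (Fin n) F) = X := rfl
  have hxp : x ^ p = 1 := by
    apply Units.ext
    rw [Units.val_pow_eq_pow_val, hxv, hXp, Units.val_one]
  have hns : ∀ z : F, (x : Matrix (Fin n) (Fin n) F) ≠ z • (1 : Matrix (Fin n) (Fin n) F) := by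
    intro z hz
    have h1 := congrFun (congrFun hz i₀) i₁
    rw [hxv, hX, Matrix.transvection, Matrix.add_apply, Matrix.one_apply_ne h01,
      Matrix.single_apply_same, Matrix.smul_apply, Matrix.one_apply_ne h01, zero_add,
      smul_zero] at h1
    exact one_ne_zero h1
  refine ⟨x, (mem_sl_iff x).2 (by rw [hxv]; exact hXdet), ⟨1, ?_⟩, hns, ?_⟩
  · rw [hxp, Units.val_one, one_smul]
  · intro g
    apply not_conj_of_rank_le_one ha hb e P x hns 1
    rw [hxv, hX, Matrix.transvection, one_smul, add_sub_cancel_left]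
    have h1 : Matrix.single i₀ i₁ (1 : F) =
        Matrix.vecMulVec (Pi.single i₀ (1 : F)) (Pi.single i₁ (1 : F)) := by
      ext i j
      rw [Matrix.single_apply, Matrix.vecMulVec_apply, Pi.single_apply, Pi.single_apply]
      by_cases h1 : i = i₀
      · by_cases h2 : j = i₁
        · rw [if_pos ⟨h1.symm, h2.symm⟩, if_pos h1, if_pos h2, mul_one]
        · rw [if_neg (fun h => h2 h.2.symm), if_neg h2, mul_zero]
      · rw [if_neg (fun h => h1 h.1.symm), if_neg h1, zero_mul]
    rw [h1]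
    exact Matrix.rank_vecMulVec_le _ _

end transvection

section diagwit

variable {F : Type*} [Field F] [Fintype F] {n a b : ℕ}

/-- the diagonal vector `(ω, ω⁻¹, 1, …, 1)` -/
def dvec2 (n : ℕ) (ω : F) (j : Fin n) : F :=
  if (j : ℕ) = 0 then ω else if (j : ℕ) = 1 then ω⁻¹ else 1

theorem prod_dvec2 (hn : 2 ≤ n) (ω : F) (hω : ω ≠ 0) : ∏ j, dvec2 n ω j = 1 := by
  classical
  set i₀ : Fin n := ⟨0, by omega⟩ with hi₀
  set i₁ : Fin n := ⟨1, by omega⟩ with hi₁
  have h01 : i₀ ≠ i₁ := by simp [hi₀, hi₁, Fin.ext_iff]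
  rw [Finset.prod_eq_mul i₀ i₁ h01]
  · simp only [dvec2, hi₀, hi₁]
    simp [hω]
  · intro c _ hc
    have h0 : (c : ℕ) ≠ 0 := fun h => hc.1 (Fin.ext h)
    have h1 : (c : ℕ) ≠ 1 := fun h => hc.2 (Fin.ext h)
    simp [dvec2, h0, h1]
  · intro h
    exact absurd (Finset.mem_univ _) h
  · intro h
    exact absurd (Finset.mem_univ _) h

theorem dvec2_pow (ω : F) (k : ℕ) (hω : ω ^ k = 1) (j : Fin n) : dvec2 n ω j ^ k = 1 := by
  unfold dvec2
  split_ifs
  · exact hω
  · rw [inv_pow, hω, inv_one]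
  · exact one_pow _

theorem dvec2_zero (ω : F) (j : Fin n) (h : (j : ℕ) = 0) : dvec2 n ω j = ω := by
  unfold dvec2
  rw [if_pos h]

theorem dvec2_one (ω : F) (j : Fin n) (h : (j : ℕ) = 1) : dvec2 n ω j = ω⁻¹ := by
  unfold dvec2
  rw [if_neg (by omega), if_pos h]

theorem dvec2_ge (ω : F) (j : Fin n) (h : 2 ≤ (j : ℕ)) : dvec2 n ω j = 1 := by
  unfold dvec2
  rw [if_neg (by omega), if_neg (by omega)]

theorem card_dvec2_eq_one [DecidableEq F] (hn : 2 ≤ n) (ω : F) (hω0 : ω ≠ 0) (hω : ω ≠ 1) :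
    (Finset.univ.filter (fun j : Fin n => dvec2 n ω j = 1)).card = n - 2 := by
  have h1 : (Finset.univ.filter (fun j : Fin n => dvec2 n ω j = 1)) =
      Finset.univ.filter (fun j : Fin n => ¬ (j : ℕ) < 2) := by
    ext j
    rw [Finset.mem_filter, Finset.mem_filter]
    simp only [Finset.mem_univ, true_and]
    constructor
    · intro h hj
      have : (j : ℕ) = 0 ∨ (j : ℕ) = 1 := by omega
      rcases this with h0 | h0
      · rw [dvec2_zero ω j h0] at h
        exact hω h
      · rw [dvec2_one ω j h0] at h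
        exact hω (inv_eq_one.1 h)
    · intro h
      exact dvec2_ge ω j (by omega)
  rw [h1]
  have h2 := Finset.card_filter_add_card_filter_not (s := (Finset.univ : Finset (Fin n)))
    (fun j : Fin n => (j : ℕ) < 2)
  rw [Fin.card_filter_val_lt, min_eq_right hn, Finset.card_univ, Fintype.card_fin] at h2
  omega

theorem card_dvec2_eq_self [DecidableEq F] (hn : 2 ≤ n) (ω : F) (hω0 : ω ≠ 0) (hω : ω ≠ 1)
    (hω2 : ω * ω ≠ 1) :
    (Finset.univ.filter (fun j : Fin n => dvec2 n ω j = ω)).card = 1 := by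
  have h1 : (Finset.univ.filter (fun j : Fin n => dvec2 n ω j = ω)) =
      {(⟨0, by omega⟩ : Fin n)} := by
    ext j
    rw [Finset.mem_filter, Finset.mem_singleton]
    simp only [Finset.mem_univ, true_and]
    constructor
    · intro h
      by_contra hj
      have h0 : (j : ℕ) ≠ 0 := fun h0 => hj (Fin.ext h0)
      by_cases h1 : (j : ℕ) = 1
      · rw [dvec2_one ω j h1] at h
        apply hω2
        have h3 : ω⁻¹ * ω = 1 := inv_mul_cancel₀ hω0
        rw [h] at h3
        exact h3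
      · rw [dvec2_ge ω j (by omega)] at h
        exact hω h.symm
    · intro h
      rw [h]
      exact dvec2_zero ω _ rfl
  rw [h1, Finset.card_singleton]

/-- the diagonal element `(ω, ω⁻¹, 1, …, 1)` with `ω` of prime order `r` has no conjugate in the
stabiliser of a tensor decomposition with factors of dimensions `a ≥ 2`, `b ≥ 3`, if `r` is odd
or `a ≥ 3` -/
theorem exists_bad_diag (r : ℕ) [Fact r.Prime] (hrq : r ∣ Fintype.card F - 1)
    (hab : n = a * b) (ha : 2 ≤ a) (hb : 3 ≤ b)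
    (hcase : r ≠ 2 ∨ a ≠ 2)
    (e : Fin n ≃ Fin a × Fin b) (P : GL (Fin n) F) :
    ∃ x ∈ Cfsg.Geo.specialLinear (Fin n) F,
      (∃ z : F, ((x ^ r : GL (Fin n) F) : Matrix (Fin n) (Fin n) F) =
        z • (1 : Matrix (Fin n) (Fin n) F)) ∧
      (∀ z : F, (x : Matrix (Fin n) (Fin n) F) ≠ z • (1 : Matrix (Fin n) (Fin n) F)) ∧
      ∀ g : GL (Fin n) F, g⁻¹ * x * g ∉ Cfsg.Geo.tensorProductSubgroup a b e P := by
  classical
  have hr : r.Prime := Fact.out
  have hn6 : 6 ≤ n := by
    rw [hab]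
    nlinarith
  obtain ⟨u, hu⟩ := exists_prime_orderOf_dvd_card (G := Fˣ) r (by
    rw [Fintype.card_units]
    exact hrq)
  set ω : F := (u : F) with hω
  have hωo : orderOf ω = r := by rw [hω, orderOf_units, hu]
  have hω0 : ω ≠ 0 := u.ne_zero
  have hωr : ω ^ r = 1 := hωo ▸ pow_orderOf_eq_one ω
  have hω1 : ω ≠ 1 := by
    intro h
    rw [h, orderOf_one] at hωo
    exact hr.one_lt.ne hωo
  have hdet : (Matrix.diagonal (dvec2 n ω)).det = 1 := by
    rw [Matrix.det_diagonal, prod_dvec2 (by omega) ω hω0]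
  set x : GL (Fin n) F := SpecialLinearGroup.toGL ⟨Matrix.diagonal (dvec2 n ω), hdet⟩ with hx
  have hxv : (x : Matrix (Fin n) (Fin n) F) = Matrix.diagonal (dvec2 n ω) := rfl
  have hrk1 : ((x : Matrix (Fin n) (Fin n) F) - (1 : F) • (1 : Matrix (Fin n) (Fin n) F)).rank =
      2 := by
    have h1 := rank_diagonal_sub (dvec2 n ω) 1
    rw [card_dvec2_eq_one (by omega) ω hω0 hω1] at h1
    rw [hxv]
    omega
  have hns : ∀ z : F, (x : Matrix (Fin n) (Fin n) F) ≠ z • (1 : Matrix (Fin n) (Fin n) F) := by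
    intro z hz
    rw [hxv, Matrix.smul_one_eq_diagonal] at hz
    have e0 := congrFun (Matrix.diagonal_injective hz) (⟨0, by omega⟩ : Fin n)
    have e2 := congrFun (Matrix.diagonal_injective hz) (⟨2, by omega⟩ : Fin n)
    simp only [dvec2] at e0 e2
    norm_num at e0 e2
    apply hω1
    rw [e0, e2]
  refine ⟨x, (mem_sl_iff x).2 (by rw [hxv]; exact hdet), ⟨1, ?_⟩, hns, ?_⟩
  · rw [Units.val_pow_eq_pow_val, hxv, Matrix.diagonal_pow, one_smul, ← Matrix.diagonal_one]
    congr 1
    funext i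
    exact dvec2_pow ω r hωr i
  · intro g
    apply not_conj_of_rank_le_two ha hb e P x hns 1 (by rw [hrk1])
    by_cases ha2 : a = 2
    · right
      have hr2 : r ≠ 2 := hcase.resolve_right (not_not.2 ha2)
      have hω2 : ω * ω ≠ 1 := by
        intro h
        have h1 : ω ^ 2 = 1 := by rw [pow_two]; exact h
        have h2 := orderOf_dvd_of_pow_eq_one h1
        rw [hωo] at h2
        exact hr2 ((Nat.prime_dvd_prime_iff_eq hr Nat.prime_two).1 h2)
      refine ⟨ω, ?_⟩
      have h1 := rank_diagonal_sub (dvec2 n ω) ω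
      rw [card_dvec2_eq_self (by omega) ω hω0 hω1 hω2] at h1
      rw [hxv]
      have h2 : (Matrix.diagonal (dvec2 n ω) - ω • (1 : Matrix (Fin n) (Fin n) F)).rank =
          2 * b - 1 := by
        have hn2 : n = 2 * b := by rw [hab, ha2]
        omega
      rw [h2]
      exact ⟨b - 1, by omega⟩
    · left
      exact ha2

end diagwit

end Cfsg.Agent.Helper28.BGT
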