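import Mathlib
import Cfsg.Agent.Lib.Helper28.BGT5
import Cfsg.Agent.Lib.Helper28.BGO7

/-!
# Elements without conjugates in the stabiliser of a tensor decomposition: involutions modulo
scalars and semisimple elements (helper28)
-/

set_option autoImplicit false
set_option linter.style.haveILetI false
set_option linter.unusedSectionVars false
set_option linter.unusedVariables false

namespace Cfsg.Agent.Helper28.BGT

open Matrix Module Polynomial Cfsg.Agent.H28TF Cfsg.Agent.Helper28.BGQ Cfsg.Agent.Helper13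
  Cfsg.Agent.Helper13.SS
open scoped Kronecker

section invol

variable {F : Type*} [Field F] [Fintype F] {n a b : ℕ}

/-- an `n`-th root of `-1`, when the 2-part of `n` is smaller than that of `q - 1` -/
theorem exists_pow_eq_neg_one (hn : n ≠ 0)
    (hv : padicValNat 2 n < padicValNat 2 (Fintype.card F - 1)) :
    ∃ c : F, c ^ n = -1 := by
  classical
  have hq1 : 1 < Fintype.card F := Fintype.one_lt_card
  set N := Fintype.card F - 1 with hN
  have hN0 : N ≠ 0 := by omega
  obtain ⟨ζ, hζ⟩ := IsCyclic.exists_generator (α := Fˣ)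
  have hζo : orderOf ζ = N := by
    rw [orderOf_eq_card_of_forall_mem_zpowers hζ, Nat.card_eq_fintype_card, Fintype.card_units]
  set w := padicValNat 2 n with hw
  have hdvd : 2 ^ (w + 1) ∣ orderOf ζ := by
    rw [hζo]
    exact (padicValNat_dvd_iff_le hN0).2 (by omega)
  have hζ0 : orderOf ζ ≠ 0 := by rw [hζo]; exact hN0
  set c' : Fˣ := ζ ^ (orderOf ζ / 2 ^ (w + 1)) with hc'
  have hc'o : orderOf c' = 2 ^ (w + 1) := orderOf_pow_orderOf_div hζ0 hdvd
  set y : Fˣ := c' ^ n with hy
  have hy2 : y ^ 2 = 1 := by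
    rw [hy, ← pow_mul]
    apply orderOf_dvd_iff_pow_eq_one.1
    rw [hc'o, pow_succ]
    exact Nat.mul_dvd_mul ((padicValNat_dvd_iff_le hn).2 le_rfl) dvd_rfl
  have hy1 : y ≠ 1 := by
    intro h
    have h1 := orderOf_dvd_of_pow_eq_one h
    rw [hc'o] at h1
    have h2 := (padicValNat_dvd_iff_le hn).1 h1
    omega
  refine ⟨(c' : F), ?_⟩
  have h3 : ((y : F) - 1) * ((y : F) + 1) = 0 := by
    have h4 : (y : F) ^ 2 = 1 := by
      rw [← Units.val_pow_eq_pow_val, hy2, Units.val_one]
    linear_combination h4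
  rcases mul_eq_zero.1 h3 with h5 | h5
  · exfalso
    apply hy1
    apply Units.ext
    rw [Units.val_one]
    exact sub_eq_zero.1 h5
  · rw [← Units.val_pow_eq_pow_val]
    exact eq_neg_of_add_eq_zero_left h5

/-- odd characteristic, the 2-part of `n` smaller than that of `q - 1`: the element
`c • (-1, 1, …, 1)` with `c ^ n = -1` has scalar square and no conjugate in the stabiliser of a
tensor decomposition -/
theorem exists_bad_invol (h2 : (2 : F) ≠ 0) (hn : 2 ≤ n)
    (hv : padicValNat 2 n < padicValNat 2 (Fintype.card F - 1)) (ha : 2 ≤ a) (hb : 2 ≤ b)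
    (e : Fin n ≃ Fin a × Fin b) (P : GL (Fin n) F) :
    ∃ x ∈ Cfsg.Geo.specialLinear (Fin n) F,
      (∃ z : F, ((x ^ 2 : GL (Fin n) F) : Matrix (Fin n) (Fin n) F) =
        z • (1 : Matrix (Fin n) (Fin n) F)) ∧
      (∀ z : F, (x : Matrix (Fin n) (Fin n) F) ≠ z • (1 : Matrix (Fin n) (Fin n) F)) ∧
      ∀ g : GL (Fin n) F, g⁻¹ * x * g ∉ Cfsg.Geo.tensorProductSubgroup a b e P := by
  classical
  obtain ⟨c, hc⟩ := exists_pow_eq_neg_one (F := F) (n := n) (by omega) hv
  have hc0 : c ≠ 0 := by
    rintro rfl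
    rw [zero_pow (by omega)] at hc
    have : (1 : F) = 0 := by
      have h3 : (0 : F) + 1 = -1 + 1 := by rw [hc]
      rw [zero_add, neg_add_cancel] at h3
      exact h3
    exact one_ne_zero this
  set i₀ : Fin n := ⟨0, by omega⟩ with hi₀
  set s : Fin n → F := fun j => if j = i₀ then -1 else 1 with hs
  set d : Fin n → F := fun j => c * s j with hd
  have hsprod : ∏ j, s j = -1 := by
    rw [Finset.prod_eq_single i₀]
    · simp [hs]
    · intro j _ hj
      simp [hs, hj]
    · intro h
      exact absurd (Finset.mem_univ _) h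
  have hdet : (Matrix.diagonal d).det = 1 := by
    rw [Matrix.det_diagonal]
    simp only [hd]
    rw [Finset.prod_mul_distrib, Finset.prod_const, Finset.card_univ, Fintype.card_fin, hc,
      hsprod]
    ring
  set x : GL (Fin n) F := SpecialLinearGroup.toGL ⟨Matrix.diagonal d, hdet⟩ with hx
  have hxv : (x : Matrix (Fin n) (Fin n) F) = Matrix.diagonal d := rfl
  have hns : ∀ z : F, (x : Matrix (Fin n) (Fin n) F) ≠ z • (1 : Matrix (Fin n) (Fin n) F) := by
    intro z hz
    rw [hxv, Matrix.smul_one_eq_diagonal] at hz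
    have e0 := congrFun (Matrix.diagonal_injective hz) i₀
    have e1 := congrFun (Matrix.diagonal_injective hz) (⟨1, by omega⟩ : Fin n)
    have hne : (⟨1, by omega⟩ : Fin n) ≠ i₀ := by simp [hi₀, Fin.ext_iff]
    simp only [hd, hs, if_true, if_neg hne] at e0 e1
    apply mul_ne_zero h2 hc0
    linear_combination e1 - e0
  refine ⟨x, (mem_sl_iff x).2 (by rw [hxv]; exact hdet), ⟨c * c, ?_⟩, hns, ?_⟩
  · rw [Units.val_pow_eq_pow_val, hxv, Matrix.diagonal_pow, Matrix.smul_one_eq_diagonal]
    congr 1
    funext j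
    simp only [Pi.pow_apply, hd, hs]
    split_ifs <;> ring
  · intro g
    apply not_conj_of_rank_le_one ha hb e P x hns c
    have h1 := rank_diagonal_sub d c
    have h3 : (Finset.univ.filter (fun j : Fin n => d j = c)) =
        Finset.univ.filter (fun j : Fin n => ¬ j = i₀) := by
      ext j
      rw [Finset.mem_filter, Finset.mem_filter]
      simp only [Finset.mem_univ, true_and, hd, hs]
      constructor
      · intro h hj
        rw [if_pos hj] at h
        apply mul_ne_zero h2 hc0
        linear_combination -h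
      · intro h
        rw [if_neg h, mul_one]
    rw [h3, Finset.filter_not, Finset.card_sdiff_of_subset (Finset.subset_univ _),
      Finset.filter_eq', if_pos (Finset.mem_univ _), Finset.card_singleton, Finset.card_univ,
      Fintype.card_fin] at h1
    rw [hxv]
    omega

end invol

section semisimple

universe u

variable {F : Type u} [Field F] [Fintype F] {p : ℕ} [Fact p.Prime] [CharP F p] {n a b r : ℕ}

/-- `q` of order `i ≥ 2` modulo `r`, `i ≤ n`: a semisimple element with a single irreducible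
block of order `r` has no conjugate in the stabiliser of a tensor decomposition with factors of
dimensions `2 ≤ a < b` -/
theorem exists_bad_semisimple [Fact r.Prime] (hrp : r ≠ p)
    (hd2 : 2 ≤ orderOf ((Fintype.card F : ℕ) : ZMod r))
    (hdn : orderOf ((Fintype.card F : ℕ) : ZMod r) ≤ n)
    (ha : 2 ≤ a) (hab : a < b) (e : Fin n ≃ Fin a × Fin b) (P : GL (Fin n) F) :
    ∃ x ∈ Cfsg.Geo.specialLinear (Fin n) F,
      (∃ z : F, ((x ^ r : GL (Fin n) F) : Matrix (Fin n) (Fin n) F) =
        z • (1 : Matrix (Fin n) (Fin n) F)) ∧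
      (∀ z : F, (x : Matrix (Fin n) (Fin n) F) ≠ z • (1 : Matrix (Fin n) (Fin n) F)) ∧
      ∀ g : GL (Fin n) F, g⁻¹ * x * g ∉ Cfsg.Geo.tensorProductSubgroup a b e P := by
  classical
  have hr : r.Prime := Fact.out
  have hF : Fintype.card F = Fintype.card F := rfl
  set d := orderOf ((Fintype.card F : ℕ) : ZMod r) with hd
  have hcard := cycFactors_card (p := p) hF hr hrp
  have hne : (cycFactors F r).Nonempty := by
    rw [← Finset.card_pos]
    have h1 : 0 < r - 1 := by have := hr.two_le; omega
    rw [← hcard] at h1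
    exact Nat.pos_of_mul_pos_right h1
  obtain ⟨f₀, hf₀⟩ := hne
  set bb : F[X] → ℕ := fun g => if g = f₀ then 1 else 0 with hb
  have hbsum : ∑ g ∈ cycFactors F r, bb g = 1 := by
    simp only [hb]
    rw [Finset.sum_ite_eq', if_pos hf₀]
  obtain ⟨g, hg, hk⟩ := exists_gl_of_mult (p := p) (n := n) hF hr hrp bb (by
    rw [hbsum, one_mul]
    exact hdn)
  have hsum : ∑ f ∈ cycFactors F r, kdim (L g) f = d := by
    rw [Finset.sum_congr rfl hk, ← Finset.sum_mul, hbsum, one_mul]
  have hfin := finrank_eq (p := p) hr hrp g hg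
  rw [hsum] at hfin
  have hrq : ¬ r ∣ Fintype.card F - 1 := Cfsg.Agent.Helper13.Elus.not_dvd_of_two_le_orderOf r hd2
  have hdet : (g : Matrix (Fin n) (Fin n) F).det = 1 := by
    apply Cfsg.Agent.Helper13.Elus.eq_one_of_pow_eq_one_of_not_dvd r hrq
    rw [← Matrix.det_pow, ← Units.val_pow_eq_pow_val, hg, Units.val_one, Matrix.det_one]
  -- the rank of `g - 1`
  have hrk : ((g : Matrix (Fin n) (Fin n) F) - (1 : F) • (1 : Matrix (Fin n) (Fin n) F)).rank =
      d := by
    have h1 : aeval (L g) (X - 1 : F[X]) =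
        ((g : Matrix (Fin n) (Fin n) F) - (1 : F) • (1 : Matrix (Fin n) (Fin n) F)).mulVecLin := by
      rw [map_sub, aeval_X, map_one, one_smul, ← Matrix.toLin'_apply', map_sub,
        Matrix.toLin'_one]
      rfl
    have h2 : kdim (L g) (X - 1) = finrank F (LinearMap.ker
        ((g : Matrix (Fin n) (Fin n) F) - (1 : F) • (1 : Matrix (Fin n) (Fin n) F)).mulVecLin) := by
      unfold kdim
      rw [h1]
    have h3 := LinearMap.finrank_range_add_finrank_ker
      ((g : Matrix (Fin n) (Fin n) F) - (1 : F) • (1 : Matrix (Fin n) (Fin n) F)).mulVecLin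
    rw [Module.finrank_fin_fun, ← h2] at h3
    unfold Matrix.rank
    omega
  have hrF : (r : F) ≠ 0 := cast_ne_zero_of_prime_ne (p := p) hr hrp
  refine ⟨g, (mem_sl_iff g).2 hdet, ⟨1, by rw [hg, Units.val_one, one_smul]⟩, ?_, ?_⟩
  · intro z hz
    have hz1 : z = 1 := by
      apply Cfsg.Agent.Helper13.Elus.eq_one_of_pow_eq_one_of_not_dvd r hrq
      have h1 : ((g ^ r : GL (Fin n) F) : Matrix (Fin n) (Fin n) F) = 1 := by
        rw [hg, Units.val_one]
      rw [Units.val_pow_eq_pow_val, hz, _root_.smul_pow, one_pow] at h1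
      have h2 := congrFun (congrFun h1 ⟨0, by omega⟩) ⟨0, by omega⟩
      rw [Matrix.smul_apply, Matrix.one_apply_eq, smul_eq_mul, mul_one] at h2
      exact h2
    rw [hz, hz1, sub_self, Matrix.rank_zero] at hrk
    omega
  · intro g'
    exact not_conj_of_semisimple r hrF hrq ha hab e P g hg (by omega) hrk g'

end semisimple

end Cfsg.Agent.Helper28.BGT
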