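import Mathlib
import Cfsg.Agent.Lib.Helper28.BGU4
import Cfsg.Agent.Lib.Helper11.Unitary

/-!
# The unitary group inside the centralizer of the model skew root (helper28)

`L = F[ω] / (ω ^ 2 = δ)` as `QuadraticAlgebra F δ 0`; matrices over `L` act on `F ^ (2 d)` by
`A + B ω ↦ [[A, B], [δ B, A]]`, and unitary matrices give symplectic ones.
-/

set_option autoImplicit false

namespace Cfsg.Agent.Helper28.BGU

open Matrix QuadraticAlgebra Cfsg.Agent.Helper28.SympIso Cfsg.Agent.Helper2.Symp
  Cfsg.Agent.Helper11.Herm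

section quad

variable {F : Type*} [Field F] [Fintype F] (δ : F)

/-- the finiteness of the quadratic algebra -/
@[reducible] noncomputable def fintypeQL : Fintype (QuadraticAlgebra F δ 0) :=
  Fintype.ofEquiv _ (QuadraticAlgebra.equivProd δ 0).symm

theorem card_QL :
    @Fintype.card (QuadraticAlgebra F δ 0) (fintypeQL δ) = Fintype.card F ^ 2 := by
  letI := fintypeQL δ
  rw [Fintype.card_congr (QuadraticAlgebra.equivProd δ 0), Fintype.card_prod, sq]

theorem fact_of_nonsquare {δ : F} (hδ : ¬ IsSquare δ) : Fact (∀ r : F, r ^ 2 ≠ δ + 0 * r) :=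
  ⟨fun r h => hδ ⟨r, by rw [zero_mul, add_zero] at h; rw [← h, sq]⟩⟩

variable [hδf : Fact (∀ r : F, r ^ 2 ≠ δ + 0 * r)]

/-- conjugation as an algebra endomorphism -/
noncomputable def starHom : QuadraticAlgebra F δ 0 →ₐ[F] QuadraticAlgebra F δ 0 :=
  { starRingEnd (QuadraticAlgebra F δ 0) with
    commutes' := by
      intro r
      show star (algebraMap F (QuadraticAlgebra F δ 0) r) = algebraMap F _ r
      ext <;> simp }

theorem starHom_apply (x : QuadraticAlgebra F δ 0) : starHom δ x = star x := rfl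

theorem omega_pow_card (hodd : Odd (Fintype.card F)) :
    (ω : QuadraticAlgebra F δ 0) ^ Fintype.card F = -ω := by
  have hF := ringChar_ne_two_of_odd hodd
  have hδns : ¬ IsSquare δ := by
    rintro ⟨r, hr⟩
    apply hδf.out r
    rw [zero_mul, add_zero, hr, sq]
  have hδ0 : δ ≠ 0 := by
    rintro rfl
    exact hδns ⟨0, by simp⟩
  have h1 : δ ^ (Fintype.card F / 2) = -1 := by
    rcases FiniteField.pow_dichotomy hF hδ0 with h | h
    · exact absurd ((FiniteField.isSquare_iff hF hδ0).2 h) hδns
    · exact h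
  obtain ⟨k, hk⟩ := hodd
  have hk2 : Fintype.card F / 2 = k := by omega
  rw [hk2] at h1
  have hω2 : (ω : QuadraticAlgebra F δ 0) * ω = algebraMap F _ δ := by
    rw [omega_mul_omega_eq_mk]
    ext <;> simp
  rw [hk, pow_succ, pow_mul, sq, hω2, ← map_pow, h1, map_neg, map_one, neg_one_mul]

/-- conjugation is the Frobenius map -/
theorem star_eq_pow_card (hodd : Odd (Fintype.card F)) (x : QuadraticAlgebra F δ 0) :
    star x = x ^ Fintype.card F := by
  have h : starHom δ = FiniteField.frobeniusAlgHom F (QuadraticAlgebra F δ 0) := by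
    apply QuadraticAlgebra.algHom_ext
    rw [starHom_apply, FiniteField.coe_frobeniusAlgHom]
    show star (ω : QuadraticAlgebra F δ 0) = ω ^ Fintype.card F
    rw [omega_pow_card δ hodd]
    ext <;> simp
  have := congrArg (fun f : QuadraticAlgebra F δ 0 →ₐ[F] QuadraticAlgebra F δ 0 => f x) h
  exact this

end quad

section embed

variable {F : Type*} [Field F] (δ : F) (d : ℕ)

/-- real and imaginary parts of a matrix over the quadratic algebra -/
def reM (M : Matrix (Fin d) (Fin d) (QuadraticAlgebra F δ 0)) : Matrix (Fin d) (Fin d) F :=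
  M.map QuadraticAlgebra.re

def imM (M : Matrix (Fin d) (Fin d) (QuadraticAlgebra F δ 0)) : Matrix (Fin d) (Fin d) F :=
  M.map QuadraticAlgebra.im

/-- the block matrix of a matrix over the quadratic algebra -/
def blockOf (M : Matrix (Fin d) (Fin d) (QuadraticAlgebra F δ 0)) :
    Matrix (Fin d ⊕ Fin d) (Fin d ⊕ Fin d) F :=
  Matrix.fromBlocks (reM δ d M) (imM δ d M) (δ • imM δ d M) (reM δ d M)

theorem reM_mul (M N : Matrix (Fin d) (Fin d) (QuadraticAlgebra F δ 0)) :
    reM δ d (M * N) = reM δ d M * reM δ d N + δ • (imM δ d M * imM δ d N) := by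
  ext i j
  simp only [reM, imM, Matrix.map_apply, Matrix.mul_apply, Matrix.add_apply, Matrix.smul_apply,
    smul_eq_mul]
  have h : ∀ (s : Finset (Fin d)) (g : Fin d → QuadraticAlgebra F δ 0),
      (∑ k ∈ s, g k).re = ∑ k ∈ s, (g k).re := by
    intro s g
    induction s using Finset.induction_on with
    | empty => simp
    | insert a s ha ih => rw [Finset.sum_insert ha, Finset.sum_insert ha, re_add, ih]
  rw [h, Finset.mul_sum, ← Finset.sum_add_distrib]
  apply Finset.sum_congr rfl
  intro k _
  rw [re_mul]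
  ring

theorem imM_mul (M N : Matrix (Fin d) (Fin d) (QuadraticAlgebra F δ 0)) :
    imM δ d (M * N) = reM δ d M * imM δ d N + imM δ d M * reM δ d N := by
  ext i j
  simp only [reM, imM, Matrix.map_apply, Matrix.mul_apply, Matrix.add_apply]
  have h : ∀ (s : Finset (Fin d)) (g : Fin d → QuadraticAlgebra F δ 0),
      (∑ k ∈ s, g k).im = ∑ k ∈ s, (g k).im := by
    intro s g
    induction s using Finset.induction_on with
    | empty => simp
    | insert a s ha ih => rw [Finset.sum_insert ha, Finset.sum_insert ha, im_add, ih]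
  rw [h, ← Finset.sum_add_distrib]
  apply Finset.sum_congr rfl
  intro k _
  rw [im_mul]
  ring

theorem blockOf_one : blockOf δ d 1 = 1 := by
  unfold blockOf
  have h1 : reM δ d 1 = 1 := by
    ext i j
    simp only [reM, Matrix.map_apply, Matrix.one_apply]
    split_ifs <;> simp
  have h2 : imM δ d 1 = 0 := by
    ext i j
    simp only [imM, Matrix.map_apply, Matrix.one_apply]
    split_ifs <;> simp
  rw [h1, h2, smul_zero, Matrix.fromBlocks_one]

theorem blockOf_mul (M N : Matrix (Fin d) (Fin d) (QuadraticAlgebra F δ 0)) :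
    blockOf δ d (M * N) = blockOf δ d M * blockOf δ d N := by
  unfold blockOf
  rw [Matrix.fromBlocks_multiply, reM_mul, imM_mul]
  congr 1
  · rw [Matrix.mul_smul]
  · rw [smul_add, Matrix.smul_mul, Matrix.mul_smul, add_comm]
  · rw [Matrix.smul_mul, add_comm]

/-- the block matrix map as a monoid homomorphism -/
def blockHom : Matrix (Fin d) (Fin d) (QuadraticAlgebra F δ 0) →*
    Matrix (Fin d ⊕ Fin d) (Fin d ⊕ Fin d) F where
  toFun := blockOf δ d
  map_one' := blockOf_one δ d
  map_mul' := blockOf_mul δ d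

theorem blockOf_injective : Function.Injective (blockOf δ d) := by
  intro M N h
  unfold blockOf at h
  rw [Matrix.fromBlocks_inj] at h
  obtain ⟨h1, h2, -, -⟩ := h
  ext i j
  · have := congrFun (congrFun h1 i) j
    simpa [reM] using this
  · have := congrFun (congrFun h2 i) j
    simpa [imM] using this

/-- block matrices commute with the model root -/
theorem blockOf_mul_alpha0 (M : Matrix (Fin d) (Fin d) (QuadraticAlgebra F δ 0)) :
    blockOf δ d M * alpha0 d δ = alpha0 d δ * blockOf δ d M := by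
  unfold blockOf alpha0
  rw [Matrix.fromBlocks_multiply, Matrix.fromBlocks_multiply]
  simp

/-- the vector of `F ^ (2 d)` attached to a vector over the quadratic algebra -/
def vecOf (z : Fin d → QuadraticAlgebra F δ 0) : Fin d ⊕ Fin d → F :=
  Sum.elim (fun j => (z j).im) (fun j => (z j).re)

theorem vecOf_surjective : Function.Surjective (vecOf δ d) := by
  intro v
  refine ⟨fun j => ⟨v (Sum.inr j), v (Sum.inl j)⟩, ?_⟩
  ext c
  rcases c with j | j <;> rfl

theorem blockOf_mulVec (M : Matrix (Fin d) (Fin d) (QuadraticAlgebra F δ 0))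
    (z : Fin d → QuadraticAlgebra F δ 0) :
    blockOf δ d M *ᵥ vecOf δ d z = vecOf δ d (M *ᵥ z) := by
  have hre : ∀ (s : Finset (Fin d)) (g : Fin d → QuadraticAlgebra F δ 0),
      (∑ k ∈ s, g k).re = ∑ k ∈ s, (g k).re := by
    intro s g
    induction s using Finset.induction_on with
    | empty => simp
    | insert a s ha ih => rw [Finset.sum_insert ha, Finset.sum_insert ha, re_add, ih]
  have him : ∀ (s : Finset (Fin d)) (g : Fin d → QuadraticAlgebra F δ 0),
      (∑ k ∈ s, g k).im = ∑ k ∈ s, (g k).im := by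
    intro s g
    induction s using Finset.induction_on with
    | empty => simp
    | insert a s ha ih => rw [Finset.sum_insert ha, Finset.sum_insert ha, im_add, ih]
  ext c
  rcases c with i | i
  · simp only [blockOf, vecOf, Matrix.mulVec, dotProduct, Fintype.sum_sum_type,
      Matrix.fromBlocks_apply₁₁, Matrix.fromBlocks_apply₁₂, Sum.elim_inl, Sum.elim_inr, reM, imM,
      Matrix.map_apply, him]
    rw [← Finset.sum_add_distrib]
    apply Finset.sum_congr rfl
    intro k _
    rw [im_mul]
    ring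
  · simp only [blockOf, vecOf, Matrix.mulVec, dotProduct, Fintype.sum_sum_type,
      Matrix.fromBlocks_apply₂₁, Matrix.fromBlocks_apply₂₂, Sum.elim_inl, Sum.elim_inr, reM, imM,
      Matrix.map_apply, Matrix.smul_apply, smul_eq_mul, hre]
    rw [← Finset.sum_add_distrib]
    apply Finset.sum_congr rfl
    intro k _
    rw [re_mul]
    ring

end embed

section unitary

variable {F : Type*} [Field F] (δ : F) (d : ℕ)

theorem sympForm_expand (u v : Fin d ⊕ Fin d → F) :
    Cfsg.sympForm d F u v =
      ∑ i, (u (Sum.inr i) * v (Sum.inl i) - u (Sum.inl i) * v (Sum.inr i)) := by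
  unfold Cfsg.sympForm
  simp only [dotProduct, Matrix.mulVec, Fintype.sum_sum_type, Matrix.J,
    Matrix.fromBlocks_apply₁₁, Matrix.fromBlocks_apply₁₂, Matrix.fromBlocks_apply₂₁,
    Matrix.fromBlocks_apply₂₂, Matrix.zero_apply, zero_mul, Finset.sum_const_zero, zero_add,
    add_zero, Matrix.neg_apply, Matrix.one_apply, neg_mul, ite_mul, one_mul,
    Finset.sum_neg_distrib, Finset.sum_ite_eq, Finset.mem_univ, if_true, mul_neg]
  rw [Finset.sum_sub_distrib]
  ring

variable [hδf : Fact (∀ r : F, r ^ 2 ≠ δ + 0 * r)]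

theorem sympForm_vecOf (z w : Fin d → QuadraticAlgebra F δ 0) :
    Cfsg.sympForm d F (vecOf δ d z) (vecOf δ d w) =
      -(hdot (starRingEnd (QuadraticAlgebra F δ 0)) z w).im := by
  have him : ∀ (s : Finset (Fin d)) (g : Fin d → QuadraticAlgebra F δ 0),
      (∑ k ∈ s, g k).im = ∑ k ∈ s, (g k).im := by
    intro s g
    induction s using Finset.induction_on with
    | empty => simp
    | insert a s ha ih => rw [Finset.sum_insert ha, Finset.sum_insert ha, im_add, ih]
  rw [sympForm_expand, hdot_def, him, ← Finset.sum_neg_distrib]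
  apply Finset.sum_congr rfl
  intro i _
  simp only [vecOf, Sum.elim_inl, Sum.elim_inr, starRingEnd_apply, im_mul, re_star, im_star]
  ring

/-- block matrices of unitary matrices are symplectic -/
theorem sympForm_blockOf (M : Matrix (Fin d) (Fin d) (QuadraticAlgebra F δ 0))
    (hM : IsU (starRingEnd (QuadraticAlgebra F δ 0)) M) (u v : Fin d ⊕ Fin d → F) :
    Cfsg.sympForm d F (blockOf δ d M *ᵥ u) (blockOf δ d M *ᵥ v) = Cfsg.sympForm d F u v := by
  obtain ⟨z, rfl⟩ := vecOf_surjective δ d u
  obtain ⟨w, rfl⟩ := vecOf_surjective δ d v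
  rw [blockOf_mulVec, blockOf_mulVec, sympForm_vecOf, sympForm_vecOf, hM.hdot_mulVec]

/-- the embedding of the unitary group -/
noncomputable def unitaryEmb :
    UG (Fin d) (starRingEnd (QuadraticAlgebra F δ 0)) →* GL (Fin d ⊕ Fin d) F :=
  (Units.map (blockHom δ d)).comp (UG (Fin d) (starRingEnd (QuadraticAlgebra F δ 0))).subtype

theorem unitaryEmb_val (g : UG (Fin d) (starRingEnd (QuadraticAlgebra F δ 0))) :
    ((unitaryEmb δ d g : GL (Fin d ⊕ Fin d) F) : Matrix (Fin d ⊕ Fin d) (Fin d ⊕ Fin d) F) =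
      blockOf δ d ((g : GL (Fin d) (QuadraticAlgebra F δ 0)) :
        Matrix (Fin d) (Fin d) (QuadraticAlgebra F δ 0)) := rfl

theorem unitaryEmb_injective : Function.Injective (unitaryEmb δ d) := by
  intro g h hgh
  have h1 := congrArg (fun x : GL (Fin d ⊕ Fin d) F =>
    (x : Matrix (Fin d ⊕ Fin d) (Fin d ⊕ Fin d) F)) hgh
  simp only [unitaryEmb_val] at h1
  exact Subtype.ext (Units.ext (blockOf_injective δ d h1))

theorem unitaryEmb_mem_spGL (g : UG (Fin d) (starRingEnd (QuadraticAlgebra F δ 0))) :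
    unitaryEmb δ d g ∈ Cfsg.spGL d F := by
  intro u v
  show Cfsg.sympForm d F
    (((unitaryEmb δ d g : GL (Fin d ⊕ Fin d) F) : Matrix (Fin d ⊕ Fin d) (Fin d ⊕ Fin d) F) *ᵥ u)
    (((unitaryEmb δ d g : GL (Fin d ⊕ Fin d) F) : Matrix (Fin d ⊕ Fin d) (Fin d ⊕ Fin d) F) *ᵥ v) =
    Cfsg.sympForm d F u v
  rw [unitaryEmb_val]
  exact sympForm_blockOf δ d _ ((mem_UG_iff _ _).1 g.2) u v

end unitary

end Cfsg.Agent.Helper28.BGU
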