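import Mathlib
import Cfsg.Agent.Lib.Helper28.BGU5
import Cfsg.Agent.Lib.Helper13.OrthSp2
import Cfsg.Agent.S0245
import Cfsg.Agent.Lib.Helper12.PSLOrder

/-!
# The index of the normalizer of a unitary-type field subalgebra in the symplectic group
(helper28)
-/

set_option autoImplicit false

namespace Cfsg.Agent.Helper28.BGU

open Matrix QuadraticAlgebra Cfsg.Agent.Helper28.SympIso Cfsg.Agent.Helper2.Symp
  Cfsg.Agent.Helper11.Herm

section card

variable {F : Type*} [Field F] [Fintype F] {d : ℕ}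

/-- the order of the unitary group divides the order of the normalizer -/
theorem guOrder_dvd_card (hodd : Odd (Fintype.card F)) {q : ℕ} (hq : Fintype.card F = q)
    {K : Subalgebra F (Matrix (Fin d ⊕ Fin d) (Fin d ⊕ Fin d) F)} {δ : F}
    {α : Matrix (Fin d ⊕ Fin d) (Fin d ⊕ Fin d) F} (h : IsQuadGen K δ α)
    (hα : IsSkewRoot (sympBil d F) δ α) :
    guOrder q d ∣ Nat.card ↥(Cfsg.Geo.subalgebraNormalizer K ⊓ Cfsg.spGL d F) := by
  haveI := fact_of_nonsquare h.nonsq
  letI := fintypeQL δ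
  have hcardL : Fintype.card (QuadraticAlgebra F δ 0) = q ^ 2 := by rw [card_QL, hq]
  have hφ : ∀ x : QuadraticAlgebra F δ 0, starRingEnd (QuadraticAlgebra F δ 0) x = x ^ q := by
    intro x
    rw [starRingEnd_apply, star_eq_pow_card δ hodd, hq]
  have hUG : Nat.card (UG (Fin d) (starRingEnd (QuadraticAlgebra F δ 0))) = guOrder q d :=
    card_UG_fin hcardL _ hφ d
  obtain ⟨G, hG⟩ := exists_symp_conj hodd δ h.delta_ne_zero α hα
  set A : GL (Fin d ⊕ Fin d) F := Cfsg.Agent.Helper28.SpSingMax.toGLHom d F G with hA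
  have hAs : A ∈ Cfsg.spGL d F := Cfsg.Agent.Helper28.SpSingMax.toGLHom_mem_spGL G
  have hA1 : (A : Matrix (Fin d ⊕ Fin d) (Fin d ⊕ Fin d) F) * alpha0 d δ =
      α * (A : Matrix (Fin d ⊕ Fin d) (Fin d ⊕ Fin d) F) := hG
  set Θ : UG (Fin d) (starRingEnd (QuadraticAlgebra F δ 0)) →* GL (Fin d ⊕ Fin d) F :=
    (MulAut.conj A).toMonoidHom.comp (unitaryEmb δ d) with hΘ
  have hΘa : ∀ g, Θ g = A * unitaryEmb δ d g * A⁻¹ := fun g => rfl
  have hinj : Function.Injective Θ := by
    intro g g' hgg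
    apply unitaryEmb_injective δ d
    rw [hΘa, hΘa] at hgg
    exact mul_left_cancel (mul_right_cancel hgg)
  have hle : Θ.range ≤ Cfsg.Geo.subalgebraNormalizer K ⊓ Cfsg.spGL d F := by
    rintro _ ⟨g, rfl⟩
    rw [Subgroup.mem_inf]
    constructor
    · apply h.mem_normalizer
      left
      rw [hΘa, Units.val_mul, Units.val_mul, unitaryEmb_val]
      set P := (A : Matrix (Fin d ⊕ Fin d) (Fin d ⊕ Fin d) F) with hP
      set Q := ((A⁻¹ : GL (Fin d ⊕ Fin d) F) : Matrix (Fin d ⊕ Fin d) (Fin d ⊕ Fin d) F) with hQ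
      set Bk := blockOf δ d ((g : GL (Fin d) (QuadraticAlgebra F δ 0)) :
        Matrix (Fin d) (Fin d) (QuadraticAlgebra F δ 0)) with hBk
      have hPQ : P * Q = 1 := gl_mul_inv A
      have hQP : Q * P = 1 := gl_inv_mul A
      have h3 : alpha0 d δ * Q = Q * α := by
        calc alpha0 d δ * Q = (Q * P) * alpha0 d δ * Q := by rw [hQP, one_mul]
          _ = Q * (P * alpha0 d δ) * Q := by simp only [mul_assoc]
          _ = Q * α * (P * Q) := by rw [hA1]; simp only [mul_assoc]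
          _ = Q * α := by rw [hPQ, mul_one]
      have hBα : Bk * alpha0 d δ = alpha0 d δ * Bk := blockOf_mul_alpha0 δ d _
      calc P * Bk * Q * α = P * Bk * (Q * α) := by simp only [mul_assoc]
        _ = P * (Bk * alpha0 d δ) * Q := by rw [← h3]; simp only [mul_assoc]
        _ = (P * alpha0 d δ) * Bk * Q := by rw [hBα]; simp only [mul_assoc]
        _ = α * (P * Bk * Q) := by rw [hA1]; simp only [mul_assoc]
    · rw [hΘa]
      exact (Cfsg.spGL d F).mul_mem ((Cfsg.spGL d F).mul_mem hAs (unitaryEmb_mem_spGL δ d g))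
        ((Cfsg.spGL d F).inv_mem hAs)
  have hcard : Nat.card Θ.range = guOrder q d := by
    rw [← hUG]
    exact (Nat.card_congr (MonoidHom.ofInjective hinj).toEquiv).symm
  rw [← hcard]
  exact Subgroup.card_dvd_of_le hle

end card

section arith

theorem sq_sub_one_nat (a : ℕ) (ha : 1 ≤ a) : a ^ 2 - 1 = (a - 1) * (a + 1) := by
  obtain ⟨b, rfl⟩ : ∃ b, a = b + 1 := ⟨a - 1, by omega⟩
  have : (b + 1) ^ 2 = (b + 1 - 1) * (b + 1 + 1) + 1 := by
    simp only [Nat.add_sub_cancel]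
    ring
  omega

/-- the complementary product -/
def coOrder (q n : ℕ) : ℕ :=
  ∏ i ∈ Finset.range n, (if Even i then q ^ (i + 1) - 1 else q ^ (i + 1) + 1)

theorem prod_split (q d : ℕ) (hq : 1 ≤ q) :
    ∏ i ∈ Finset.range d, (q ^ (2 * (i + 1)) - 1) =
      (∏ i ∈ Finset.range d, (if Even i then q ^ (i + 1) + 1 else q ^ (i + 1) - 1)) *
        coOrder q d := by
  unfold coOrder
  rw [← Finset.prod_mul_distrib]
  apply Finset.prod_congr rfl
  intro i _
  have h1 : q ^ (2 * (i + 1)) = (q ^ (i + 1)) ^ 2 := by rw [← pow_mul, mul_comm]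
  rw [h1, sq_sub_one_nat _ (Nat.one_le_pow _ _ hq)]
  split_ifs
  · rw [mul_comm]
  · rfl

/-- cancelling the order of the unitary group against the order of the symplectic group -/
theorem index_arith (q d m R : ℕ) (hq : 2 ≤ q)
    (h : guOrder q d * m * R = q ^ (d ^ 2) * ∏ i ∈ Finset.range d, (q ^ (2 * (i + 1)) - 1)) :
    q ^ (d * (d - 1) / 2) * m * R = q ^ (d ^ 2) * coOrder q d := by
  rw [prod_split q d (by omega)] at h
  unfold guOrder at h
  set P₁ := ∏ i ∈ Finset.range d, (if Even i then q ^ (i + 1) + 1 else q ^ (i + 1) - 1) with hP₁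
  have hP : 0 < P₁ := by
    apply Finset.prod_pos
    intro i _
    have : 2 ≤ q ^ (i + 1) := by
      calc 2 ≤ q := hq
        _ = q ^ 1 := (pow_one q).symm
        _ ≤ q ^ (i + 1) := Nat.pow_le_pow_right (by omega) (by omega)
    split_ifs <;> omega
  apply Nat.eq_of_mul_eq_mul_right hP
  calc q ^ (d * (d - 1) / 2) * m * R * P₁ = q ^ (d * (d - 1) / 2) * P₁ * m * R := by ring
    _ = q ^ (d ^ 2) * (P₁ * coOrder q d) := h
    _ = q ^ (d ^ 2) * coOrder q d * P₁ := by ring

theorem prime_dvd_coOrder {r q d : ℕ} (hr : r.Prime) (h : r ∣ coOrder q d) :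
    ∃ i, i < d ∧ r ∣ (if Even i then q ^ (i + 1) - 1 else q ^ (i + 1) + 1) := by
  unfold coOrder at h
  obtain ⟨i, hi, hdvd⟩ := (Prime.dvd_finset_prod_iff hr.prime _).1 h
  exact ⟨i, Finset.mem_range.1 hi, hdvd⟩

/-- the order of `q` modulo `r` when `r` divides a factor of the complementary product -/
theorem orderOf_cases (r : ℕ) [Fact r.Prime] (hr2 : r ≠ 2) (q : ℕ) (hq : 1 ≤ q) (i : ℕ)
    (h : r ∣ (if Even i then q ^ (i + 1) - 1 else q ^ (i + 1) + 1)) :
    (Odd (orderOf (q : ZMod r)) ∧ orderOf (q : ZMod r) ≤ i + 1) ∨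
      (4 ∣ orderOf (q : ZMod r) ∧ orderOf (q : ZMod r) ≤ 2 * (i + 1)) := by
  have hr : r.Prime := Fact.out
  by_cases hi : Even i
  · rw [if_pos hi] at h
    left
    have hd := Cfsg.Agent.Helper12.orderOf_dvd_of_dvd_pow_sub_one hq h
    have hodd : Odd (i + 1) := Even.add_one hi
    exact ⟨Odd.of_dvd_nat hodd hd, Nat.le_of_dvd (by omega) hd⟩
  · rw [if_neg hi] at h
    right
    obtain ⟨heven, hdvd⟩ :=
      Cfsg.Agent.Helper13.LagCount.even_orderOf_of_dvd_pow_add_one r hr2 q (i + 1) h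
    refine ⟨?_, Nat.le_of_dvd (by omega) hdvd⟩
    set o := orderOf (q : ZMod r) with ho
    by_contra h4
    -- then `o` divides `i + 1`
    have hj : Even (i + 1) := by
      rw [Nat.even_add_one]
      exact hi
    obtain ⟨t, ht⟩ := heven
    obtain ⟨j', hj'⟩ := hj
    have htodd : Odd t := by
      rw [← Nat.not_even_iff_odd]
      rintro ⟨s, hs⟩
      apply h4
      exact ⟨s, by omega⟩
    have h1 : t ∣ i + 1 := by
      have h5 : 2 * t ∣ 2 * (i + 1) := by
        have : o = 2 * t := by omega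
        rw [← this]
        exact hdvd
      exact Nat.dvd_of_mul_dvd_mul_left (by norm_num) h5
    have h6 : t ∣ j' := by
      have hcop : Nat.Coprime t 2 := Nat.Coprime.symm (Nat.coprime_two_left.2 htodd)
      have : t ∣ 2 * j' := by
        have : i + 1 = 2 * j' := by omega
        rw [← this]
        exact h1
      exact hcop.dvd_of_dvd_mul_left this
    have h7 : o ∣ i + 1 := by
      obtain ⟨s, hs⟩ := h6
      exact ⟨s, by rw [hj', hs, ht]; ring⟩
    -- contradiction: `q ^ (i + 1) = 1 = -1`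
    have h8 : (q : ZMod r) ^ (i + 1) = 1 := orderOf_dvd_iff_pow_eq_one.1 h7
    have h9 : (q : ZMod r) ^ (i + 1) = -1 := by
      have := (ZMod.natCast_eq_zero_iff (q ^ (i + 1) + 1) r).2 h
      push_cast at this
      exact eq_neg_of_add_eq_zero_left this
    rw [h8] at h9
    have h10 : (2 : ZMod r) = 0 := by
      have : (1 : ZMod r) + 1 = 0 := by
        nth_rewrite 1 [h9]
        ring
      rw [← this]
      ring
    have h11 : ((2 : ℕ) : ZMod r) = 0 := by exact_mod_cast h10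
    rw [ZMod.natCast_eq_zero_iff] at h11
    exact hr2 ((Nat.prime_dvd_prime_iff_eq hr Nat.prime_two).1 h11)

end arith

section index

variable {F : Type*} [Field F] [Fintype F] {d : ℕ}

/-- primes dividing the index of the normalizer -/
theorem prime_dvd_relIndex (hodd : Odd (Fintype.card F)) {q : ℕ} (hq : Fintype.card F = q)
    {K : Subalgebra F (Matrix (Fin d ⊕ Fin d) (Fin d ⊕ Fin d) F)} {δ : F}
    {α : Matrix (Fin d ⊕ Fin d) (Fin d ⊕ Fin d) F} (h : IsQuadGen K δ α)
    (hα : IsSkewRoot (sympBil d F) δ α) (r : ℕ) (hr : r.Prime)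
    (hΩ : r ∣ (Cfsg.Geo.subalgebraNormalizer K).relIndex (Cfsg.spGL d F)) :
    r ∣ q ∨ ∃ i, i < d ∧ r ∣ (if Even i then q ^ (i + 1) - 1 else q ^ (i + 1) + 1) := by
  obtain ⟨m, hm⟩ := guOrder_dvd_card hodd hq h hα
  have h1 : Nat.card ↥(Cfsg.Geo.subalgebraNormalizer K ⊓ Cfsg.spGL d F) *
      (Cfsg.Geo.subalgebraNormalizer K).relIndex (Cfsg.spGL d F) = Nat.card (Cfsg.spGL d F) := by
    rw [← Subgroup.inf_relIndex_right,
      ← Subgroup.relIndex_bot_left (H := Cfsg.Geo.subalgebraNormalizer K ⊓ Cfsg.spGL d F),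
      Subgroup.relIndex_mul_relIndex _ _ _ bot_le inf_le_right, Subgroup.relIndex_bot_left]
  rw [Cfsg.Agent.Helper13.OrthSp.card_spGL, Cfsg.Agent.S0245.result hq d, hm] at h1
  have hq2 : 2 ≤ q := by
    rw [← hq]
    exact Fintype.one_lt_card
  have h3 := index_arith q d m _ hq2 h1
  have h4 : r ∣ q ^ (d ^ 2) * coOrder q d := by
    rw [← h3]
    exact Dvd.dvd.mul_left hΩ _
  rcases hr.dvd_mul.1 h4 with h5 | h5
  · left
    exact hr.dvd_of_dvd_pow h5
  · right
    exact prime_dvd_coOrder hr h5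

end index

end Cfsg.Agent.Helper28.BGU
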