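import Mathlib
import Cfsg.Agent.Lib.Helper28.BGU7
import Cfsg.Agent.Lib.Helper13.SympDerangeElt

/-!
# An isometry with a single self-dual block of degree divisible by four commutes with no
skew-adjoint square root of a non-square (helper28)
-/

set_option autoImplicit false
set_option linter.unusedSectionVars false

namespace Cfsg.Agent.Helper28.BGU

open Module Polynomial Cfsg.Agent.Helper13.SS Cfsg.Agent.Helper13.Dual
  Cfsg.Agent.Helper13.InvTow Cfsg.Agent.Helper13.POS

section poly

variable {F : Type*} [Field F] {V : Type*} [AddCommGroup V] [Module F V]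

theorem aeval_mem_of_invariant (y : Module.End F V) {W : Submodule F V}
    (hW : ∀ w ∈ W, y w ∈ W) (g : F[X]) : ∀ w ∈ W, aeval y g w ∈ W := by
  induction g using Polynomial.induction_on' with
  | add p q hp hq =>
    intro w hw
    rw [map_add, LinearMap.add_apply]
    exact W.add_mem (hp w hw) (hq w hw)
  | monomial n c =>
    intro w hw
    rw [aeval_monomial, Algebra.algebraMap_eq_smul_one, smul_mul_assoc, one_mul,
      LinearMap.smul_apply]
    apply W.smul_mem
    have : ∀ k : ℕ, ∀ w ∈ W, (y ^ k) w ∈ W := by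
      intro k
      induction k with
      | zero => intro w hw; simpa using hw
      | succ k ih =>
        intro w hw
        rw [pow_succ', Module.End.mul_apply]
        exact hW _ (ih w hw)
    exact this n w hw

theorem comm_aeval (a y : Module.End F V) (hcomm : ∀ v, a (y v) = y (a v)) (g : F[X]) (v : V) :
    a (aeval y g v) = aeval y g (a v) :=
  aeval_intertwine a y y hcomm g v

theorem aeval_aeval_comm (y : Module.End F V) (g h : F[X]) (v : V) :
    aeval y g (aeval y h v) = aeval y h (aeval y g v) := by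
  rw [← Module.End.mul_apply, ← Module.End.mul_apply, ← map_mul, ← map_mul, mul_comm]

end poly

section frob

variable {F : Type*} [Field F] [Fintype F] {A : Type*} [Ring A] [Algebra F A]

/-- Frobenius for polynomials in one element of a possibly non-commutative algebra -/
theorem aeval_pow_card_pow' (g : F[X]) (x : A) (j : ℕ) :
    aeval (x ^ (Fintype.card F ^ j)) g = (aeval x g) ^ (Fintype.card F ^ j) := by
  have h1 : g.comp (X ^ (Fintype.card F ^ j)) = g ^ (Fintype.card F ^ j) := by
    have := Cfsg.Agent.Helper13.SympSS.aeval_pow_card_pow g (X : F[X]) j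
    rw [aeval_X_left_apply] at this
    rw [comp_eq_aeval]
    exact this
  calc aeval (x ^ (Fintype.card F ^ j)) g
      = aeval (aeval x (X ^ (Fintype.card F ^ j) : F[X])) g := by rw [map_pow, aeval_X]
    _ = aeval x (g.comp (X ^ (Fintype.card F ^ j))) := (aeval_comp x).symm
    _ = (aeval x g) ^ (Fintype.card F ^ j) := by rw [h1, map_pow]

end frob

section arith

/-- `q ^ (i / 2) ≡ -1` when the order `i` of `q` modulo the prime `r` is even -/
theorem dvd_pow_half_add_one (r : ℕ) [Fact r.Prime] (q : ℕ) (t : ℕ)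
    (ht : orderOf (q : ZMod r) = 2 * t) (ht0 : 0 < t) : r ∣ q ^ t + 1 := by
  have h1 : ((q : ZMod r) ^ t) * ((q : ZMod r) ^ t) = 1 := by
    rw [← pow_add, ← two_mul, ← ht, pow_orderOf_eq_one]
  have h2 : (q : ZMod r) ^ t ≠ 1 := by
    intro h
    have := orderOf_dvd_of_pow_eq_one h
    rw [ht] at this
    have := Nat.le_of_dvd ht0 this
    omega
  have h3 : (q : ZMod r) ^ t = -1 := by
    rcases mul_self_eq_one_iff.1 h1 with h | h
    · exact absurd h h2
    · exact h
  rw [← ZMod.natCast_eq_zero_iff]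
  push_cast
  rw [h3, neg_add_cancel]

/-- `δ ^ ((q ^ (2 s) - 1) / 2) = 1` in a field with `q` elements, `q` odd -/
theorem pow_half_eq_one {F : Type*} [Field F] [Fintype F] (hodd : Odd (Fintype.card F)) (δ : F)
    (hδ0 : δ ≠ 0) (s k : ℕ) (hk : Fintype.card F ^ (2 * s) = 2 * k + 1) : δ ^ k = 1 := by
  set q := Fintype.card F with hq
  obtain ⟨e, he⟩ := hodd
  -- `q ^ 2 - 1 = 2 (q - 1) (e + 1)`
  have h1 : q ^ 2 - 1 ∣ (q ^ 2) ^ s - 1 := by
    have := Nat.sub_dvd_pow_sub_pow (q ^ 2) 1 s
    rwa [one_pow] at this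
  obtain ⟨c, hc⟩ := h1
  have h2 : q ^ 2 - 1 = 2 * ((q - 1) * (e + 1)) := by
    have : q ^ 2 = (2 * e + 1) ^ 2 := by rw [he]
    have h3 : q - 1 = 2 * e := by omega
    rw [this, h3]
    have : (2 * e + 1) ^ 2 = 2 * (2 * e * (e + 1)) + 1 := by ring
    omega
  have h3 : k = (q - 1) * ((e + 1) * c) := by
    have h4 : (q ^ 2) ^ s = 2 * k + 1 := by rw [← pow_mul]; exact hk
    have h5 : 2 * k = 2 * ((q - 1) * (e + 1)) * c := by
      rw [← h2, ← hc]
      omega
    have : 2 * k = 2 * ((q - 1) * ((e + 1) * c)) := by rw [h5]; ring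
    omega
  rw [h3, pow_mul, FiniteField.pow_card_sub_one_eq_one δ hδ0, one_pow]

end arith

section main

variable {F : Type*} [Field F] [Fintype F] {V : Type*} [AddCommGroup V] [Module F V]
  [FiniteDimensional F V]

theorem no_commuting_root (hodd : Odd (Fintype.card F)) (r : ℕ) [Fact r.Prime]
    (hrF : (r : F) ≠ 0) (B : LinearMap.BilinForm F V) (hB : ∀ x, B x x = 0)
    (hnd : ∀ u, (∀ v, B u v = 0) → u = 0) (y : Module.End F V)
    (hy : ∀ u v, B (y u) (y v) = B u v) (hyr : y ^ r = 1) (hne : y ≠ 1)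
    (h4 : 4 ∣ orderOf ((Fintype.card F : ℕ) : ZMod r))
    (hC : finrank F V < finrank F (LinearMap.ker (y - 1)) +
      2 * orderOf ((Fintype.card F : ℕ) : ZMod r))
    (a : Module.End F V) (δ : F) (hδ : ¬ IsSquare δ) (hsq : ∀ v, a (a v) = δ • v)
    (hskew : ∀ u v, B (a u) v = - B u (a v)) (hcomm : ∀ v, a (y v) = y (a v)) : False := by
  have hr : r.Prime := Fact.out
  have h2 : (2 : F) ≠ 0 := two_ne_zero_of_odd hodd
  have hδ0 : δ ≠ 0 := by
    rintro rfl
    exact hδ ⟨0, by simp⟩
  have hskewB : ∀ u v, B u v = - B v u := Cfsg.Agent.Helper13.SympFrame.skew B hB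
  set q := Fintype.card F with hq
  set i := orderOf ((q : ℕ) : ZMod r) with hi
  have hi0 : 0 < i := orderOf_card_pos (F := F) r hrF
  set C := LinearMap.ker (y - 1) with hCdef
  set U := LinearMap.range (y - 1) with hUdef
  have hmemC : ∀ v, v ∈ C ↔ y v = v := by
    intro v
    rw [hCdef, LinearMap.mem_ker, LinearMap.sub_apply, Module.End.one_apply, sub_eq_zero]
  -- U ⊓ C = ⊥
  have hUC : U ⊓ C = ⊥ := by
    rw [eq_bot_iff]
    rintro w ⟨⟨v, hv⟩, hwC⟩
    rw [LinearMap.sub_apply, Module.End.one_apply] at hv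
    have hyw : y w = w := (hmemC w).1 hwC
    have hyv : y v = v + w := by rw [← hv]; abel
    have hpow : ∀ n : ℕ, (y ^ n) v = v + n • w := by
      intro n
      induction n with
      | zero => simp
      | succ n ih =>
        rw [pow_succ', Module.End.mul_apply, ih, map_add, map_nsmul, hyv, hyw, succ_nsmul]
        abel
    have h1 := hpow r
    rw [hyr, Module.End.one_apply] at h1
    have h3 : (r : F) • w = 0 := by
      have : r • w = 0 := by
        have : v + r • w = v + 0 := by rw [add_zero]; exact h1.symm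
        exact add_left_cancel this
      rw [← this, Nat.cast_smul_eq_nsmul]
    rw [Submodule.mem_bot]
    exact (smul_eq_zero.1 h3).resolve_left hrF
  have hdim : finrank F U + finrank F C = finrank F V :=
    LinearMap.finrank_range_add_finrank_ker (y - 1)
  have hyU : ∀ w ∈ U, y w ∈ U := by
    rintro _ ⟨v, rfl⟩
    refine ⟨y v, ?_⟩
    simp only [LinearMap.sub_apply, Module.End.one_apply, map_sub]
  have haU : ∀ w ∈ U, a w ∈ U := by
    rintro _ ⟨v, rfl⟩
    refine ⟨a v, ?_⟩
    simp only [LinearMap.sub_apply, Module.End.one_apply, map_sub, hcomm]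
  have hUperp : ∀ w ∈ U, ∀ c ∈ C, B w c = 0 := by
    rintro _ ⟨v, rfl⟩ c hc
    rw [LinearMap.sub_apply, Module.End.one_apply, map_sub, LinearMap.sub_apply]
    nth_rewrite 1 [← (hmemC c).1 hc]
    rw [hy, sub_self]
  -- dimension of U
  have hdvdU : ∀ W : Submodule F V, W ≤ U → (∀ w ∈ W, y w ∈ W) → i ∣ finrank F W := by
    intro W hWU hyW
    have h1 := orderOf_dvd_finrank_sub r hrF y hyr W hyW
    have h3 : W ⊓ LinearMap.ker (y - 1) = ⊥ := by
      rw [eq_bot_iff, ← hUC]
      exact inf_le_inf hWU le_rfl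
    rw [h3, finrank_bot, Nat.sub_zero] at h1
    exact h1
  have hUpos : 0 < finrank F U := by
    by_contra h0
    have h0' : finrank F U = 0 := by omega
    apply hne
    have hCtop : C = ⊤ := by
      apply Submodule.eq_top_of_finrank_eq
      omega
    apply LinearMap.ext
    intro v
    rw [Module.End.one_apply]
    exact (hmemC v).1 (by rw [hCtop]; exact Submodule.mem_top)
  have hUi : finrank F U = i := by
    obtain ⟨c, hc⟩ := hdvdU U le_rfl hyU
    have hlt : finrank F U < 2 * i := by omega
    rw [hc] at hUpos hlt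
    have hc1 : c = 1 := by
      have h1 : 0 < c := Nat.pos_of_mul_pos_left hUpos
      have h3 : c < 2 := by
        by_contra h
        have : 2 * i ≤ i * c := by
          calc 2 * i = i * 2 := by ring
            _ ≤ i * c := Nat.mul_le_mul_left i (by omega)
        omega
      omega
    rw [hc, hc1, mul_one]
  -- irreducibility
  have hirr : ∀ W : Submodule F V, W ≤ U → (∀ w ∈ W, y w ∈ W) → W ≠ ⊥ → W = U := by
    intro W hWU hyW hW0
    apply Submodule.eq_of_le_of_finrank_le hWU
    obtain ⟨c, hc⟩ := hdvdU W hWU hyW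
    have hWpos : 0 < finrank F W := by
      rw [Nat.pos_iff_ne_zero]
      intro h
      exact hW0 (Submodule.finrank_eq_zero.1 h)
    rw [hUi, hc]
    rw [hc] at hWpos
    exact Nat.le_mul_of_pos_right i (Nat.pos_of_mul_pos_left hWpos)
  -- a cyclic vector
  obtain ⟨u, huU, hu0⟩ : ∃ u ∈ U, u ≠ 0 := by
    have : U ≠ ⊥ := by
      intro h
      rw [h, finrank_bot] at hUpos
      exact lt_irrefl 0 hUpos
    exact Submodule.exists_mem_ne_zero_of_ne_bot this
  set φ : F[X] →ₗ[F] V := (LinearMap.applyₗ u).comp (aeval y).toLinearMap with hφ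
  have hφa : ∀ g : F[X], φ g = aeval y g u := fun g => rfl
  set W := LinearMap.range φ with hWdef
  have hWU : W ≤ U := by
    rintro _ ⟨g, rfl⟩
    rw [hφa]
    exact aeval_mem_of_invariant y hyU g u huU
  have hyW : ∀ w ∈ W, y w ∈ W := by
    rintro _ ⟨g, rfl⟩
    refine ⟨X * g, ?_⟩
    rw [hφa, hφa, map_mul, aeval_X, Module.End.mul_apply]
  have hW0 : W ≠ ⊥ := by
    intro h
    apply hu0
    have : u ∈ W := ⟨1, by rw [hφa, map_one, Module.End.one_apply]⟩
    rw [h, Submodule.mem_bot] at this
    exact this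
  have hWeq : W = U := hirr W hWU hyW hW0
  -- `a` is a polynomial in `y` on `U`
  obtain ⟨g₀, hg₀⟩ : ∃ g₀ : F[X], aeval y g₀ u = a u := by
    have : a u ∈ W := by rw [hWeq]; exact haU u huU
    obtain ⟨g, hg⟩ := this
    exact ⟨g, hg⟩
  set G := aeval y g₀ with hG
  have haG : ∀ w ∈ U, a w = G w := by
    intro w hw
    rw [← hWeq] at hw
    obtain ⟨h, rfl⟩ := hw
    rw [hφa, comm_aeval a y hcomm, ← hg₀, hG, aeval_aeval_comm]
  have hGU : ∀ w ∈ U, G w ∈ U := fun w hw => aeval_mem_of_invariant y hyU g₀ w hw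
  have haGpow : ∀ n : ℕ, ∀ w ∈ U, (G ^ n) w = (a ^ n) w := by
    intro n
    induction n with
    | zero => intro w _; simp
    | succ n ih =>
      intro w hw
      rw [pow_succ', pow_succ', Module.End.mul_apply, Module.End.mul_apply, ih w hw]
      have : (a ^ n) w ∈ U := by
        have h : ∀ k : ℕ, ∀ w ∈ U, (a ^ k) w ∈ U := by
          intro k
          induction k with
          | zero => intro w hw; simpa using hw
          | succ k ih' =>
            intro w hw
            rw [pow_succ', Module.End.mul_apply]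
            exact haU _ (ih' w hw)
        exact h n w hw
      exact (haG _ this).symm
  -- powers of `a`
  have hapow : ∀ k : ℕ, ∀ v, (a ^ (2 * k + 1)) v = δ ^ k • a v := by
    intro k
    induction k with
    | zero => intro v; simp
    | succ k ih =>
      intro v
      have : 2 * (k + 1) + 1 = (2 * k + 1) + 2 := by ring
      rw [this, pow_add, Module.End.mul_apply, pow_two, Module.End.mul_apply, hsq, map_smul, ih,
        smul_smul, pow_succ, mul_comm]
  -- the exponent
  obtain ⟨t', ht'⟩ := h4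
  have hi' : i = 2 * (2 * t') := by rw [ht']; ring
  have ht'0 : 0 < 2 * t' := by omega
  have hrdvd : r ∣ q ^ (2 * t') + 1 := dvd_pow_half_add_one r q (2 * t') hi' ht'0
  set Q := q ^ (2 * t') with hQ
  have hQodd : Odd Q := Odd.pow hodd
  obtain ⟨k, hk⟩ := hQodd
  have hδk : δ ^ k = 1 := pow_half_eq_one hodd δ hδ0 t' k hk
  have hr1 : 1 ≤ r := hr.one_lt.le
  have hyQ : y ^ Q = y ^ (r - 1) := by
    obtain ⟨c, hc⟩ := hrdvd
    have h1 : y ^ Q * y = 1 := by
      rw [← pow_succ, hc, pow_mul, hyr, one_pow]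
    have h3 : y * y ^ (r - 1) = 1 := by
      rw [← pow_succ', Nat.sub_add_cancel hr1, hyr]
    calc y ^ Q = y ^ Q * (y * y ^ (r - 1)) := by rw [h3, mul_one]
      _ = (y ^ Q * y) * y ^ (r - 1) := by rw [mul_assoc]
      _ = y ^ (r - 1) := by rw [h1, one_mul]
  -- self-adjointness of `a` on `U`
  have hself : ∀ w ∈ U, ∀ w' ∈ U, B (a w) w' = B w (a w') := by
    intro w hw w' hw'
    rw [haG w hw, hG, adjoint_aeval hr1 hyr hy, ← hyQ, hQ, aeval_pow_card_pow', ← hG, ← hQ,
      haGpow Q w' hw', hk, hapow, hδk, one_smul]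
  -- contradiction
  have hzero : ∀ w' ∈ U, a w' = 0 := by
    intro w' hw'
    apply hnd
    intro v
    have hv : v ∈ U ⊔ C := by
      have htop : U ⊔ C = ⊤ := by
        apply Submodule.eq_top_of_finrank_eq
        have h1 := Submodule.finrank_sup_add_finrank_inf_eq U C
        rw [hUC, finrank_bot, add_zero] at h1
        rw [h1, hdim]
      rw [htop]
      exact Submodule.mem_top
    obtain ⟨w, hw, c, hc, rfl⟩ := Submodule.mem_sup.1 hv
    rw [map_add, hUperp (a w') (haU w' hw') c hc, add_zero]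
    have h1 := hself w hw w' hw'
    have h3 := hskew w w'
    have h5 : (2 : F) * B w (a w') = 0 := by
      rw [two_mul]
      nth_rewrite 1 [← h1]
      rw [h3, neg_add_cancel]
    have h6 := (mul_eq_zero.1 h5).resolve_left h2
    rw [hskewB, h6, neg_zero]
  have h7 := hsq u
  rw [hzero u huU, map_zero] at h7
  exact hu0 ((smul_eq_zero.1 h7.symm).resolve_left hδ0)

end main

end Cfsg.Agent.Helper28.BGU
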