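import Mathlib
import Cfsg.Agent.Lib.Helper28.BGU4
import Cfsg.Agent.Lib.Helper28.BGU6
import Cfsg.Agent.Lib.Helper28.BGU8
import Cfsg.Agent.Lib.Helper28.BGU9

/-!
# Elements of prime order of the symplectic group and subgroups of unitary type (helper28)
-/

set_option autoImplicit false
set_option maxHeartbeats 1600000

namespace Cfsg.Agent.Helper28.BGU

open Matrix Cfsg.Agent.Helper28.SympIso Cfsg.Agent.Helper13.SympFrame

theorem unitary_type_main {F : Type*} [Field F] [Fintype F] {p : ℕ} [Fact p.Prime] [CharP F p] {q : ℕ} (hq : Fintype.card F = q)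
    (hodd : Odd q) (d : ℕ) (hd : 2 ≤ d)
    (K : Subalgebra F (Matrix (Fin d ⊕ Fin d) (Fin d ⊕ Fin d) F)) (hK : Cfsg.Geo.IsFieldSubalgebra 2 K)
    (hKf : Cfsg.Geo.IsAdjointClosedFor (Cfsg.sympForm d F) K) (hKns : ¬ Cfsg.Geo.IsSelfAdjointFor (Cfsg.sympForm d F) K)
    (r : ℕ) [Fact r.Prime]
    (hΩ : r ∣ (Cfsg.Geo.subalgebraNormalizer K).relIndex (Cfsg.spGL d F)) :
    (∀ x ∈ Cfsg.spGL d F, (∃ z : F, ((x ^ r : GL (Fin d ⊕ Fin d) F) : Matrix (Fin d ⊕ Fin d) (Fin d ⊕ Fin d) F) = z • (1 : Matrix (Fin d ⊕ Fin d) (Fin d ⊕ Fin d) F)) →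
      (∀ z : F, (x : Matrix (Fin d ⊕ Fin d) (Fin d ⊕ Fin d) F) ≠ z • (1 : Matrix (Fin d ⊕ Fin d) (Fin d ⊕ Fin d) F)) →
      ∃ g ∈ Cfsg.spGL d F, g⁻¹ * x * g ∈ Cfsg.Geo.subalgebraNormalizer K) ↔ r = 2 := by
  classical
  subst hq
  have hoddF : Odd (Fintype.card F) := hodd
  have h2 : (2 : F) ≠ 0 := two_ne_zero_of_odd hoddF
  have hd1 : 1 ≤ d := by omega
  have hrP : r.Prime := Fact.out
  have hpP : p.Prime := Fact.out
  have hskewB : ∀ u v, sympBil d F u v = - sympBil d F v u := skew (sympBil d F) (sympBil_self d)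
  have hnd : ∀ w, (∀ u, sympBil d F u w = 0) → w = 0 := by
    intro w hw
    apply sympBil_sep d
    intro v
    rw [hskewB, hw, neg_zero]
  have hKf' : Cfsg.Geo.IsAdjointClosedFor (fun u v => sympBil d F u v) K := by
    intro k hk
    obtain ⟨k', hk', h⟩ := hKf k hk
    refine ⟨k', hk', fun u v => ?_⟩
    show sympBil d F (k *ᵥ u) v = sympBil d F u (k' *ᵥ v)
    rw [sympBil_apply, sympBil_apply]
    exact h u v
  have hKns' : ¬ Cfsg.Geo.IsSelfAdjointFor (fun u v => sympBil d F u v) K := by
    intro h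
    apply hKns
    intro k hk u v
    have := h k hk u v
    simp only [sympBil_apply] at this
    exact this
  obtain ⟨δ, hδ⟩ := FiniteField.exists_nonsquare (ringChar_ne_two_of_odd hoddF)
  obtain ⟨α, hαK, hαroot, hαns, hαgen⟩ :=
    exists_skewRoot hoddF (sympBil d F) hnd K hK hKf' hKns' δ hδ
  have hQG : IsQuadGen K δ α :=
    ⟨hαK, hαroot.sq, hαns, hαgen, hδ, one_ne_zero_of_finrank hK.finrank_eq⟩
  have hδ0 : δ ≠ 0 := hQG.delta_ne_zero
  have hiff := fun x => conj_mem_normalizer_iff hoddF hQG hαroot x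
  constructor
  · intro hall
    by_contra hr2
    have hrodd : Odd r := hrP.odd_of_ne_two hr2
    -- an element commuting with no skew root gives a contradiction
    have key : ∀ x ∈ Cfsg.spGL d F, x ^ r = 1 →
        (∀ α' : Matrix (Fin d ⊕ Fin d) (Fin d ⊕ Fin d) F, IsSkewRoot (sympBil d F) δ α' →
          (x : Matrix (Fin d ⊕ Fin d) (Fin d ⊕ Fin d) F) * α' ≠
            α' * (x : Matrix (Fin d ⊕ Fin d) (Fin d ⊕ Fin d) F)) → False := by
      intro x hx hxr hbad
      have hxns : ∀ z : F, (x : Matrix (Fin d ⊕ Fin d) (Fin d ⊕ Fin d) F) ≠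
          z • (1 : Matrix (Fin d ⊕ Fin d) (Fin d ⊕ Fin d) F) := by
        intro z hz
        apply hbad α hαroot
        rw [hz, smul_mul_assoc, mul_smul_comm, one_mul, mul_one]
      obtain ⟨g, hg, hgx⟩ := hall x hx ⟨1, by rw [hxr, one_smul]; rfl⟩ hxns
      obtain ⟨α', hα', hc⟩ := (hiff x).1 ⟨g, hg, hgx⟩
      rcases hc with hc | hc
      · exact hbad α' hα' hc
      · have hxr' : (x : Matrix (Fin d ⊕ Fin d) (Fin d ⊕ Fin d) F) ^ r =
            (1 : F) • (1 : Matrix (Fin d ⊕ Fin d) (Fin d ⊕ Fin d) F) := by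
          rw [← Units.val_pow_eq_pow_val, hxr, one_smul]
          rfl
        have hα'0 : α' ≠ 0 := by
          intro h0
          have h3 := hα'.sq
          rw [h0, mul_zero] at h3
          rcases smul_eq_zero.1 h3.symm with h4 | h4
          · exact hδ0 h4
          · exact hQG.one_ne h4
        exact not_anti_of_odd h2 _ α' r hrodd 1 one_ne_zero hxr' hα'0 hc
    have hq1 : 1 ≤ Fintype.card F := Fintype.card_pos
    obtain ⟨n, hn, hqn⟩ := Cfsg.Agent.Helper13.SS.exists_card_pow (p := p)
      (rfl : Fintype.card F = Fintype.card F)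
    rcases prime_dvd_relIndex hoddF rfl hQG hαroot r hrP hΩ with hrq | ⟨i, hid, hdvd⟩
    · have hrp : r = p := by
        rw [hqn] at hrq
        exact (Nat.prime_dvd_prime_iff_eq hrP hpP).1 (hrP.dvd_of_dvd_pow hrq)
      subst hrp
      obtain ⟨x, hx, hxr, -, hbad⟩ := exists_bad_transvection (F := F) hd1 r
      exact key x hx hxr (fun α' hα' => hbad δ α' hδ hα'.sq)
    · have hrp : r ≠ p := by
        rintro rfl
        have h1 : r ∣ Fintype.card F ^ (i + 1) := by
          rw [hqn, ← pow_mul]
          exact dvd_pow_self r (by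
            have : 0 < n * (i + 1) := Nat.mul_pos hn (by omega)
            omega)
        have hpow1 : 1 ≤ Fintype.card F ^ (i + 1) := Nat.one_le_pow _ _ hq1
        have h3 : r ∣ 1 := by
          split_ifs at hdvd with hi
          · have := Nat.dvd_sub h1 hdvd
            rwa [Nat.sub_sub_self hpow1] at this
          · have := Nat.dvd_sub hdvd h1
            rwa [Nat.add_sub_cancel_left] at this
        exact hrP.one_lt.ne' (Nat.dvd_one.1 h3)
      have hrF : (r : F) ≠ 0 := Cfsg.Agent.Helper13.SS.cast_ne_zero_of_prime_ne hrP hrp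
      rcases orderOf_cases r hr2 (Fintype.card F) hq1 i hdvd with ⟨hoddi, hle⟩ | ⟨h4, hle⟩
      · -- odd order: a primary component of odd dimension
        obtain ⟨x, hxr, f, hf⟩ := exists_odd_kernel (p := p)
          (rfl : Fintype.card F = Fintype.card F) r hr2 hrp d hoddi (by omega)
        refine key (Cfsg.Agent.Helper28.SpSingMax.toGLHom d F x)
          (Cfsg.Agent.Helper28.SpSingMax.toGLHom_mem_spGL x) (by rw [← map_pow, hxr, map_one]) ?_
        intro α' hα' hc
        have hc' : (x : Matrix (Fin d ⊕ Fin d) (Fin d ⊕ Fin d) F) * α' =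
            α' * (x : Matrix (Fin d ⊕ Fin d) (Fin d ⊕ Fin d) F) := hc
        set y := Matrix.toLin' (x : Matrix (Fin d ⊕ Fin d) (Fin d ⊕ Fin d) F) with hy
        set a := Matrix.toLin' α' with ha
        have hcomm : ∀ v, a (y v) = y (a v) := by
          intro v
          rw [ha, hy, Matrix.toLin'_apply, Matrix.toLin'_apply, Matrix.toLin'_apply,
            Matrix.toLin'_apply, Matrix.mulVec_mulVec, Matrix.mulVec_mulVec, hc']
        have hsq : ∀ v, a (a v) = δ • v := by
          intro v
          rw [ha, Matrix.toLin'_apply, Matrix.toLin'_apply, Matrix.mulVec_mulVec, hα'.sq,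
            Matrix.smul_mulVec, Matrix.one_mulVec]
        have hW : ∀ w ∈ LinearMap.ker (Polynomial.aeval y f),
            a w ∈ LinearMap.ker (Polynomial.aeval y f) := by
          intro w hw
          rw [LinearMap.mem_ker] at hw ⊢
          rw [← comm_aeval a y hcomm, hw, map_zero]
        have heven := even_finrank_of_invariant a δ hδ hsq _ hW
        exact (Nat.not_even_iff_odd.2 hf) heven
      · -- order divisible by four: a single self-dual block
        have heven : Even (orderOf ((Fintype.card F : ℕ) : ZMod r)) := by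
          obtain ⟨c, hc⟩ := h4
          exact ⟨2 * c, by rw [hc]; ring⟩
        obtain ⟨x, hxr, hxne, hxC⟩ := Cfsg.Agent.Helper13.SympDer.exists_element (p := p)
          (rfl : Fintype.card F = Fintype.card F) r hr2 hrp d heven (by omega)
        refine key (Cfsg.Agent.Helper28.SpSingMax.toGLHom d F x)
          (Cfsg.Agent.Helper28.SpSingMax.toGLHom_mem_spGL x) (by rw [← map_pow, hxr, map_one]) ?_
        intro α' hα' hc
        have hc' : (x : Matrix (Fin d ⊕ Fin d) (Fin d ⊕ Fin d) F) * α' =
            α' * (x : Matrix (Fin d ⊕ Fin d) (Fin d ⊕ Fin d) F) := hc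
        set y := Matrix.toLin' (x : Matrix (Fin d ⊕ Fin d) (Fin d ⊕ Fin d) F) with hy
        set a := Matrix.toLin' α' with ha
        have hcomm : ∀ v, a (y v) = y (a v) := by
          intro v
          rw [ha, hy, Matrix.toLin'_apply, Matrix.toLin'_apply, Matrix.toLin'_apply,
            Matrix.toLin'_apply, Matrix.mulVec_mulVec, Matrix.mulVec_mulVec, hc']
        have hsq : ∀ v, a (a v) = δ • v := by
          intro v
          rw [ha, Matrix.toLin'_apply, Matrix.toLin'_apply, Matrix.mulVec_mulVec, hα'.sq,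
            Matrix.smul_mulVec, Matrix.one_mulVec]
        have hskew : ∀ u v, sympBil d F (a u) v = - sympBil d F u (a v) := by
          intro u v
          rw [ha, Matrix.toLin'_apply, Matrix.toLin'_apply]
          exact hα'.skew u v
        have hyr : y ^ r = 1 := by
          rw [hy, ← Matrix.toLin'_pow, ← SubmonoidClass.coe_pow, hxr]
          simp
          rfl
        have hC : Module.finrank F (Fin d ⊕ Fin d → F) <
            Module.finrank F (LinearMap.ker (y - 1)) +
              2 * orderOf ((Fintype.card F : ℕ) : ZMod r) := by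
          rw [Cfsg.Agent.Helper13.LagCount.finrank_std]
          exact hxC
        exact no_commuting_root hoddF r hrF (sympBil d F) (sympBil_self d) (sympBil_sep d) y
          (sympBil_toLin' d x) hyr hxne h4 hC a δ hδ hsq hskew hcomm
  · intro hr2 x hx hxr hxns
    subst hr2
    obtain ⟨z, hz⟩ := hxr
    rw [hiff x]
    set X := (x : Matrix (Fin d ⊕ Fin d) (Fin d ⊕ Fin d) F) with hXdef
    have hXX : X * X = z • (1 : Matrix (Fin d ⊕ Fin d) (Fin d ⊕ Fin d) F) := by
      rw [← hz, Units.val_pow_eq_pow_val, pow_two]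
    have hX : ∀ u v, sympBil d F (X *ᵥ u) (X *ᵥ v) = sympBil d F u v := fun u v => spGL_apply hx u v
    have hz1 : z = 1 ∨ z = -1 := by
      obtain ⟨u, v, huv⟩ := exists_sympBil_ne_zero (F := F) d hd1
      have h1 := hX (X *ᵥ u) (X *ᵥ v)
      rw [Matrix.mulVec_mulVec, Matrix.mulVec_mulVec, hXX, Matrix.smul_mulVec, Matrix.one_mulVec,
        Matrix.smul_mulVec, Matrix.one_mulVec, map_smul, map_smul, LinearMap.smul_apply, hX,
        smul_eq_mul, smul_eq_mul] at h1
      have h3 : (z * z - 1) * sympBil d F u v = 0 := by linear_combination h1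
      have h4 : (z - 1) * (z + 1) = 0 := by
        have := (mul_eq_zero.1 h3).resolve_right huv
        linear_combination this
      rcases mul_eq_zero.1 h4 with h | h
      · left; linear_combination h
      · right; linear_combination h
    rcases hz1 with rfl | rfl
    · obtain ⟨α', hα', hc⟩ := exists_root_of_sq_one h2 δ X hX (by rw [hXX, one_smul])
      exact ⟨α', hα', Or.inl hc⟩
    · by_cases hm1 : IsSquare (-1 : F)
      · obtain ⟨ι₀, hι⟩ := hm1
        obtain ⟨α', hα', hc⟩ := exists_root_of_sq_neg_one_split h2 δ ι₀ hι.symm X hX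
          (by rw [hXX, neg_smul, one_smul])
        exact ⟨α', hα', Or.inr hc⟩
      · obtain ⟨α', hα', hc⟩ := exists_root_of_sq_neg_one_nonsplit hoddF δ hδ hm1 X hX
          (by rw [hXX, neg_smul, one_smul])
        exact ⟨α', hα', Or.inl hc⟩

end Cfsg.Agent.Helper28.BGU
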