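import Mathlib

/-!
# Products of two conjugates of a regular semisimple element of `SL_3`: matrix computations
-/

set_option autoImplicit false

namespace Cfsg.Agent.Helper28.CC

open Matrix

variable {F : Type*} [Field F]

theorem m3ext {R : Type*}
    {a11 a12 a13 a21 a22 a23 a31 a32 a33 b11 b12 b13 b21 b22 b23 b31 b32 b33 : R}
    (h11 : a11 = b11) (h12 : a12 = b12) (h13 : a13 = b13) (h21 : a21 = b21) (h22 : a22 = b22)
    (h23 : a23 = b23) (h31 : a31 = b31) (h32 : a32 = b32) (h33 : a33 = b33) :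
    (!![a11, a12, a13; a21, a22, a23; a31, a32, a33] : Matrix (Fin 3) (Fin 3) R) =
      !![b11, b12, b13; b21, b22, b23; b31, b32, b33] := by
  rw [h11, h12, h13, h21, h22, h23, h31, h32, h33]

/-- the class representative -/
def Xm (t : F) : Matrix (Fin 3) (Fin 3) F := !![1, 0, 0; 0, 0, -1; 0, 1, t]

/-- membership in the class of `Xm t` -/
def InCl (t : F) (B : Matrix (Fin 3) (Fin 3) F) : Prop :=
  ∃ g : Matrix (Fin 3) (Fin 3) F, g.det ≠ 0 ∧ B * g = g * Xm t

/-- block lower triangular matrices in the class -/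
theorem inCl_lower (t y1 y2 m11 m12 m21 m22 : F) (htr : m11 + m22 = t)
    (hdet : m11 * m22 - m12 * m21 = 1) (hm21 : m21 ≠ 0) (ht : 2 - t ≠ 0) :
    InCl t !![1, 0, 0; y1, m11, m12; y2, m21, m22] := by
  have e1 : m22 = t - m11 := by linear_combination htr
  subst e1
  have e2 : m12 = (m11 * (t - m11) - 1) / m21 := by
    field_simp
    linear_combination -hdet
  subst e2
  refine ⟨!![1, 0, 0; ((1 - (t - m11)) * y1 + ((m11 * (t - m11) - 1) / m21) * y2) / (2 - t), 1, m11;
    (m21 * y1 + (1 - m11) * y2) / (2 - t), 0, m21], ?_, ?_⟩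
  · rw [Matrix.det_fin_three]
    simp
    exact hm21
  · simp only [Xm, Matrix.mul_fin_three]
    apply m3ext
    all_goals field_simp
    all_goals ring

/-- block upper triangular matrices in the class -/
theorem inCl_upper (t x1 x2 c11 c12 c21 c22 : F) (htr : c11 + c22 = t)
    (hdet : c11 * c22 - c12 * c21 = 1) (hc12 : c12 ≠ 0) (ht : 2 - t ≠ 0) :
    InCl t !![c11, c12, x1; c21, c22, x2; 0, 0, 1] := by
  have e1 : c22 = t - c11 := by linear_combination htr
  subst e1
  have e2 : c21 = (c11 * (t - c11) - 1) / c12 := by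
    field_simp
    linear_combination -hdet
  subst e2
  refine ⟨!![((1 - (t - c11)) * x1 + c12 * x2) / (2 - t), 0, c12;
    (((c11 * (t - c11) - 1) / c12) * x1 + (1 - c11) * x2) / (2 - t), 1, t - c11;
    1, 0, 0], ?_, ?_⟩
  · rw [Matrix.det_fin_three]
    simp
    exact hc12
  · simp only [Xm, Matrix.mul_fin_three]
    apply m3ext
    all_goals field_simp
    all_goals ring

/-- products of two elements of the class -/
def PP (t : F) (A : Matrix (Fin 3) (Fin 3) F) : Prop :=
  ∃ B C : Matrix (Fin 3) (Fin 3) F, InCl t B ∧ InCl t C ∧ A = B * C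

end Cfsg.Agent.Helper28.CC
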