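import Cfsg.Agent.Lib.Helper28.CC1

/-!
# Products of two conjugates of a regular semisimple element of `SL_3`: the main computation
-/

set_option autoImplicit false

namespace Cfsg.Agent.Helper28.CC

open Matrix

variable {F : Type*} [Field F]

/-- main computation, explicit entries -/
theorem PP_main_comp (t a11 a12 a13 a21 a22 a23 a31 a32 a33 : F)
    (hdet : (!![a11, a12, a13; a21, a22, a23; a31, a32, a33] : Matrix (Fin 3) (Fin 3) F).det = 1)
    (h12 : a12 ≠ 0) (hmu : a11 * a32 - a12 * a31 ≠ 0) (ht : 2 - t ≠ 0) :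
    PP t !![a11, a12, a13; a21, a22, a23; a31, a32, a33] := by
  obtain ⟨c21, hC⟩ : ∃ c21 : F, a11 * (t - a11) - a12 * c21 = 1 :=
    ⟨(a11 * (t - a11) - 1) / a12, by field_simp; ring⟩
  obtain ⟨x2, hx2⟩ : ∃ x2 : F, (a11 * a32 - a12 * a31) * x2 =
      (-a21 * a12 + a22 * a11) + a33 - (a31 * (t - a11) - a32 * c21) * a13 - t :=
    ⟨((-a21 * a12 + a22 * a11) + a33 - (a31 * (t - a11) - a32 * c21) * a13 - t) /
      (a11 * a32 - a12 * a31), by field_simp⟩
  have hA : (!![a11, a12, a13; a21, a22, a23; a31, a32, a33] : Matrix (Fin 3) (Fin 3) F) =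
      !![1, 0, 0;
        a21 * (t - a11) - a22 * c21, -a21 * a12 + a22 * a11,
          a23 - (a21 * (t - a11) - a22 * c21) * a13 - (-a21 * a12 + a22 * a11) * x2;
        a31 * (t - a11) - a32 * c21, a11 * a32 - a12 * a31,
          a33 - (a31 * (t - a11) - a32 * c21) * a13 - (a11 * a32 - a12 * a31) * x2] *
      !![a11, a12, a13; c21, t - a11, x2; 0, 0, 1] := by
    simp only [Matrix.mul_fin_three]
    apply m3ext
    · ring1
    · ring1
    · ring1
    · linear_combination (-a21) * hC
    · linear_combination (-a22) * hC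
    · ring1
    · linear_combination (-a31) * hC
    · linear_combination (-a32) * hC
    · ring1
  have hdetC : (!![a11, a12, a13; c21, t - a11, x2; 0, 0, 1] : Matrix (Fin 3) (Fin 3) F).det = 1 := by
    rw [Matrix.det_fin_three]
    simp only [Matrix.of_apply, Matrix.cons_val', Matrix.cons_val_zero, Matrix.cons_val_one,
      Matrix.cons_val_two, Matrix.empty_val', Matrix.cons_val_fin_one, Matrix.head_cons,
      Matrix.tail_cons, Matrix.head_fin_const]
    linear_combination hC
  have hdet2 := hdet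
  rw [hA, Matrix.det_mul, hdetC, mul_one, Matrix.det_fin_three] at hdet2
  simp only [Matrix.of_apply, Matrix.cons_val', Matrix.cons_val_zero, Matrix.cons_val_one,
      Matrix.cons_val_two, Matrix.empty_val', Matrix.cons_val_fin_one, Matrix.head_cons,
      Matrix.tail_cons, Matrix.head_fin_const] at hdet2
  refine ⟨_, _, ?_, ?_, hA⟩
  · apply inCl_lower t _ _ _ _ _ _ ?_ ?_ hmu ht
    · linear_combination (-1 : F) * hx2
    · linear_combination hdet2
  · apply inCl_upper t _ _ _ _ _ _ ?_ ?_ h12 ht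
    · ring1
    · linear_combination hC

/-- main computation, general matrix -/
theorem PP_main (t : F) (A : Matrix (Fin 3) (Fin 3) F) (hdet : A.det = 1)
    (h12 : A 0 1 ≠ 0) (hmu : A 0 0 * A 2 1 - A 0 1 * A 2 0 ≠ 0) (ht : 2 - t ≠ 0) :
    PP t A := by
  rw [Matrix.eta_fin_three A] at hdet ⊢
  exact PP_main_comp t _ _ _ _ _ _ _ _ _ hdet h12 hmu ht

theorem inCl_conj (t : F) (h h' B : Matrix (Fin 3) (Fin 3) F) (h1 : h * h' = 1)
    (h2 : h' * h = 1) (hB : InCl t B) : InCl t (h * B * h') := by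
  obtain ⟨g, hg, hBg⟩ := hB
  refine ⟨h * g, ?_, ?_⟩
  · rw [Matrix.det_mul]
    have h3 : h.det * h'.det = 1 := by rw [← Matrix.det_mul, h1, Matrix.det_one]
    exact mul_ne_zero (left_ne_zero_of_mul_eq_one h3) hg
  · calc h * B * h' * (h * g) = h * B * (h' * h) * g := by simp only [Matrix.mul_assoc]
      _ = h * (B * g) := by rw [h2, Matrix.mul_one, Matrix.mul_assoc]
      _ = h * g * Xm t := by rw [hBg, Matrix.mul_assoc]

theorem PP_conj (t : F) (h h' A : Matrix (Fin 3) (Fin 3) F) (h1 : h * h' = 1)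
    (h2 : h' * h = 1) (hA : PP t A) : PP t (h * A * h') := by
  obtain ⟨B, C, hB, hC, rfl⟩ := hA
  refine ⟨h * B * h', h * C * h', inCl_conj t h h' B h1 h2 hB, inCl_conj t h h' C h1 h2 hC, ?_⟩
  calc h * (B * C) * h' = h * B * 1 * (C * h') := by simp only [Matrix.mul_assoc, Matrix.one_mul]
    _ = h * B * (h' * h) * (C * h') := by rw [h2]
    _ = h * B * h' * (h * C * h') := by simp only [Matrix.mul_assoc]

/-- it is enough to treat a conjugate -/
theorem PP_of_conj (t : F) (h h' A : Matrix (Fin 3) (Fin 3) F) (h1 : h * h' = 1)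
    (h2 : h' * h = 1) (hA : PP t (h * A * h')) : PP t A := by
  have h3 := PP_conj t h' h (h * A * h') h2 h1 hA
  have h4 : h' * (h * A * h') * h = A := by
    calc h' * (h * A * h') * h = (h' * h) * A * (h' * h) := by simp only [Matrix.mul_assoc]
      _ = A := by rw [h2, Matrix.one_mul, Matrix.mul_one]
  rwa [h4] at h3

end Cfsg.Agent.Helper28.CC
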