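import Cfsg.Agent.Lib.Helper28.CC2

/-!
# Products of two conjugates of a regular semisimple element of `SL_3`: normalisation
-/

set_option autoImplicit false
set_option linter.unusedSimpArgs false

namespace Cfsg.Agent.Helper28.CC

open Matrix

variable {F : Type*} [Field F]

theorem det_conj' (h h' A : Matrix (Fin 3) (Fin 3) F) (h1 : h * h' = 1) :
    (h * A * h').det = A.det := by
  rw [Matrix.det_mul, Matrix.det_mul, mul_right_comm, ← Matrix.det_mul, h1, Matrix.det_one,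
    one_mul]

/-- second normalisation step -/
theorem PP_of_R (t a11 a12 a13 a21 a22 a23 a31 a32 a33 s1 s2 t1 t2 : F)
    (hdet : (!![a11, a12, a13; a21, a22, a23; a31, a32, a33] : Matrix (Fin 3) (Fin 3) F).det = 1)
    (hD : s1 * t2 - s2 * t1 ≠ 0) (h1 : s1 * a12 + s2 * a32 ≠ 0)
    (h2 : t1 * (a12 * a33 - a13 * a32) + t2 * (a11 * a32 - a12 * a31) ≠ 0) (ht : 2 - t ≠ 0) :
    PP t !![a11, a12, a13; a21, a22, a23; a31, a32, a33] := by
  obtain ⟨Di, hDi⟩ : ∃ Di : F, (s1 * t2 - s2 * t1) * Di = 1 := ⟨_, mul_inv_cancel₀ hD⟩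
  have e1 : (!![s1, 0, s2; 0, 1, 0; t1, 0, t2] : Matrix (Fin 3) (Fin 3) F) *
      !![t2 * Di, 0, -s2 * Di; 0, 1, 0; -t1 * Di, 0, s1 * Di] = 1 := by
    rw [Matrix.one_fin_three]
    simp only [Matrix.mul_fin_three]
    apply m3ext
    all_goals first | ring1 | linear_combination hDi
  have e2 : (!![t2 * Di, 0, -s2 * Di; 0, 1, 0; -t1 * Di, 0, s1 * Di] :
      Matrix (Fin 3) (Fin 3) F) * !![s1, 0, s2; 0, 1, 0; t1, 0, t2] = 1 := by
    rw [Matrix.one_fin_three]
    simp only [Matrix.mul_fin_three]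
    apply m3ext
    all_goals first | ring1 | linear_combination hDi
  apply PP_of_conj t _ _ _ e1 e2
  apply PP_main
  · rw [det_conj' _ _ _ e1]
    exact hdet
  · simp only [Matrix.mul_fin_three, Matrix.of_apply, Matrix.cons_val', Matrix.cons_val_zero,
      Matrix.cons_val_one, Matrix.cons_val_two, Matrix.empty_val', Matrix.cons_val_fin_one,
      Matrix.head_cons, Matrix.tail_cons, Matrix.head_fin_const]
    convert h1 using 1
    ring1
  · simp only [Matrix.mul_fin_three, Matrix.of_apply, Matrix.cons_val', Matrix.cons_val_zero,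
      Matrix.cons_val_one, Matrix.cons_val_two, Matrix.empty_val', Matrix.cons_val_fin_one,
      Matrix.head_cons, Matrix.tail_cons, Matrix.head_fin_const]
    convert h2 using 1
    linear_combination (t1 * (a12 * a33 - a13 * a32) + t2 * (a11 * a32 - a12 * a31)) * hDi
  · exact ht

/-- second normalisation step, packaged -/
theorem PP_of_col (t a11 a12 a13 a21 a22 a23 a31 a32 a33 : F)
    (hdet : (!![a11, a12, a13; a21, a22, a23; a31, a32, a33] : Matrix (Fin 3) (Fin 3) F).det = 1)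
    (h : a12 ≠ 0 ∨ a32 ≠ 0) (ht : 2 - t ≠ 0) :
    PP t !![a11, a12, a13; a21, a22, a23; a31, a32, a33] := by
  have hd := hdet
  rw [Matrix.det_fin_three] at hd
  simp only [Matrix.of_apply, Matrix.cons_val', Matrix.cons_val_zero,
      Matrix.cons_val_one, Matrix.cons_val_two, Matrix.empty_val', Matrix.cons_val_fin_one,
      Matrix.head_cons, Matrix.tail_cons, Matrix.head_fin_const] at hd
  have hnu : ¬ (a12 * a33 - a13 * a32 = 0 ∧ a11 * a32 - a12 * a31 = 0) := by
    rintro ⟨n1, n2⟩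
    have k1 : a12 * (a11 * a33 - a13 * a31) = 0 := by
      linear_combination a11 * n1 + a13 * n2
    have k2 : a32 * (a11 * a33 - a13 * a31) = 0 := by
      linear_combination a31 * n1 + a33 * n2
    have k3 : a11 * a33 - a13 * a31 = 0 := by
      rcases h with h | h
      · exact (mul_eq_zero.mp k1).resolve_left h
      · exact (mul_eq_zero.mp k2).resolve_left h
    have k4 : (1 : F) = 0 := by
      linear_combination (-1 : F) * hd + a22 * k3 - a21 * n1 - a23 * n2
    exact one_ne_zero k4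
  by_cases ha : a12 = 0
  · have hb : a32 ≠ 0 := by
      rcases h with h | h
      · exact absurd ha h
      · exact h
    by_cases hn1 : a12 * a33 - a13 * a32 = 0
    · have hn2 : a11 * a32 - a12 * a31 ≠ 0 := fun hn2 => hnu ⟨hn1, hn2⟩
      apply PP_of_R t a11 a12 a13 a21 a22 a23 a31 a32 a33 0 1 1 1 hdet
      · norm_num
      · simpa using hb
      · rw [hn1]; simpa using hn2
      · exact ht
    · apply PP_of_R t a11 a12 a13 a21 a22 a23 a31 a32 a33 0 1 1 0 hdet
      · norm_num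
      · simpa using hb
      · simpa using hn1
      · exact ht
  · by_cases hn2 : a11 * a32 - a12 * a31 = 0
    · have hn1 : a12 * a33 - a13 * a32 ≠ 0 := fun hn1 => hnu ⟨hn1, hn2⟩
      apply PP_of_R t a11 a12 a13 a21 a22 a23 a31 a32 a33 1 0 1 1 hdet
      · norm_num
      · simpa using ha
      · rw [hn2]; simpa using hn1
      · exact ht
    · apply PP_of_R t a11 a12 a13 a21 a22 a23 a31 a32 a33 1 0 0 1 hdet
      · norm_num
      · simpa using ha
      · simpa using hn2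
      · exact ht

theorem PP_via (t : F) (h h' A A' : Matrix (Fin 3) (Fin 3) F) (e1 : h * h' = 1)
    (e2 : h' * h = 1) (e3 : h * A * h' = A') (hdet : A.det = 1)
    (H : A'.det = 1 → PP t A') : PP t A := by
  apply PP_of_conj t h h' A e1 e2
  rw [e3]
  apply H
  rw [← e3, det_conj' _ _ _ e1]
  exact hdet

/-- first normalisation step -/
theorem PP_of_nonscalar_comp (t a11 a12 a13 a21 a22 a23 a31 a32 a33 : F)
    (hdet : (!![a11, a12, a13; a21, a22, a23; a31, a32, a33] : Matrix (Fin 3) (Fin 3) F).det = 1)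
    (hns : ¬ (a12 = 0 ∧ a13 = 0 ∧ a21 = 0 ∧ a23 = 0 ∧ a31 = 0 ∧ a32 = 0 ∧ a11 = a22 ∧ a22 = a33))
    (ht : 2 - t ≠ 0) :
    PP t !![a11, a12, a13; a21, a22, a23; a31, a32, a33] := by
  by_cases c1 : a12 ≠ 0 ∨ a32 ≠ 0
  · exact PP_of_col t _ _ _ _ _ _ _ _ _ hdet c1 ht
  push Not at c1
  obtain ⟨z12, z32⟩ := c1
  by_cases c2 : a21 ≠ 0 ∨ a31 ≠ 0
  · -- swap the first two indices
    have e1 : (!![0, 1, 0; 1, 0, 0; 0, 0, 1] : Matrix (Fin 3) (Fin 3) F) *
        !![0, 1, 0; 1, 0, 0; 0, 0, 1] = 1 := by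
      rw [Matrix.one_fin_three]
      simp only [Matrix.mul_fin_three]
      apply m3ext
      all_goals ring1
    have e3 : (!![0, 1, 0; 1, 0, 0; 0, 0, 1] : Matrix (Fin 3) (Fin 3) F) *
        !![a11, a12, a13; a21, a22, a23; a31, a32, a33] * !![0, 1, 0; 1, 0, 0; 0, 0, 1] =
        !![a22, a21, a23; a12, a11, a13; a32, a31, a33] := by
      simp only [Matrix.mul_fin_three]
      apply m3ext
      all_goals ring1
    exact PP_via t _ _ _ _ e1 e1 e3 hdet (fun hdet' => PP_of_col t _ _ _ _ _ _ _ _ _ hdet' c2 ht)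
  push Not at c2
  obtain ⟨z21, z31⟩ := c2
  by_cases c3 : a13 ≠ 0 ∨ a23 ≠ 0
  · -- swap the last two indices
    have e1 : (!![1, 0, 0; 0, 0, 1; 0, 1, 0] : Matrix (Fin 3) (Fin 3) F) *
        !![1, 0, 0; 0, 0, 1; 0, 1, 0] = 1 := by
      rw [Matrix.one_fin_three]
      simp only [Matrix.mul_fin_three]
      apply m3ext
      all_goals ring1
    have e3 : (!![1, 0, 0; 0, 0, 1; 0, 1, 0] : Matrix (Fin 3) (Fin 3) F) *
        !![a11, a12, a13; a21, a22, a23; a31, a32, a33] * !![1, 0, 0; 0, 0, 1; 0, 1, 0] =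
        !![a11, a13, a12; a31, a33, a32; a21, a23, a22] := by
      simp only [Matrix.mul_fin_three]
      apply m3ext
      all_goals ring1
    exact PP_via t _ _ _ _ e1 e1 e3 hdet (fun hdet' => PP_of_col t _ _ _ _ _ _ _ _ _ hdet' c3 ht)
  push Not at c3
  obtain ⟨z13, z23⟩ := c3
  by_cases c4 : a11 = a22
  · have c5 : a22 ≠ a33 := fun c5 => hns ⟨z12, z13, z21, z23, z31, z32, c4, c5⟩
    -- shear
    have e1 : (!![1, 0, 0; 0, 1, 0; 0, 1, 1] : Matrix (Fin 3) (Fin 3) F) *
        !![1, 0, 0; 0, 1, 0; 0, -1, 1] = 1 := by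
      rw [Matrix.one_fin_three]
      simp only [Matrix.mul_fin_three]
      apply m3ext
      all_goals ring1
    have e2 : (!![1, 0, 0; 0, 1, 0; 0, -1, 1] : Matrix (Fin 3) (Fin 3) F) *
        !![1, 0, 0; 0, 1, 0; 0, 1, 1] = 1 := by
      rw [Matrix.one_fin_three]
      simp only [Matrix.mul_fin_three]
      apply m3ext
      all_goals ring1
    have e3 : (!![1, 0, 0; 0, 1, 0; 0, 1, 1] : Matrix (Fin 3) (Fin 3) F) *
        !![a11, a12, a13; a21, a22, a23; a31, a32, a33] * !![1, 0, 0; 0, 1, 0; 0, -1, 1] =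
        !![a11, 0, 0; 0, a22, 0; 0, a22 - a33, a33] := by
      simp only [Matrix.mul_fin_three]
      rw [z12, z13, z21, z23, z31, z32]
      apply m3ext
      all_goals ring1
    exact PP_via t _ _ _ _ e1 e2 e3 hdet
      (fun hdet' => PP_of_col t _ _ _ _ _ _ _ _ _ hdet' (Or.inr (sub_ne_zero.mpr c5)) ht)
  · -- shear
    have e1 : (!![1, 1, 0; 0, 1, 0; 0, 0, 1] : Matrix (Fin 3) (Fin 3) F) *
        !![1, -1, 0; 0, 1, 0; 0, 0, 1] = 1 := by
      rw [Matrix.one_fin_three]
      simp only [Matrix.mul_fin_three]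
      apply m3ext
      all_goals ring1
    have e2 : (!![1, -1, 0; 0, 1, 0; 0, 0, 1] : Matrix (Fin 3) (Fin 3) F) *
        !![1, 1, 0; 0, 1, 0; 0, 0, 1] = 1 := by
      rw [Matrix.one_fin_three]
      simp only [Matrix.mul_fin_three]
      apply m3ext
      all_goals ring1
    have e3 : (!![1, 1, 0; 0, 1, 0; 0, 0, 1] : Matrix (Fin 3) (Fin 3) F) *
        !![a11, a12, a13; a21, a22, a23; a31, a32, a33] * !![1, -1, 0; 0, 1, 0; 0, 0, 1] =
        !![a11, a22 - a11, 0; 0, a22, 0; 0, 0, a33] := by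
      simp only [Matrix.mul_fin_three]
      rw [z12, z13, z21, z23, z31, z32]
      apply m3ext
      all_goals ring1
    exact PP_via t _ _ _ _ e1 e2 e3 hdet
      (fun hdet' => PP_of_col t _ _ _ _ _ _ _ _ _ hdet' (Or.inl (sub_ne_zero.mpr (Ne.symm c4))) ht)

/-- every nonscalar matrix of determinant one is a product of two conjugates of `Xm t` -/
theorem PP_of_nonscalar (t : F) (A : Matrix (Fin 3) (Fin 3) F) (hdet : A.det = 1)
    (hns : ¬ (A 0 1 = 0 ∧ A 0 2 = 0 ∧ A 1 0 = 0 ∧ A 1 2 = 0 ∧ A 2 0 = 0 ∧ A 2 1 = 0 ∧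
      A 0 0 = A 1 1 ∧ A 1 1 = A 2 2))
    (ht : 2 - t ≠ 0) : PP t A := by
  rw [Matrix.eta_fin_three A] at hdet ⊢
  exact PP_of_nonscalar_comp t _ _ _ _ _ _ _ _ _ hdet hns ht

end Cfsg.Agent.Helper28.CC
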