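import Cfsg.Agent.Lib.Helper28.CC3

/-!
# Products of two conjugates of a regular semisimple element of `SL_3`: the groups
-/

set_option autoImplicit false
set_option linter.unusedSimpArgs false

namespace Cfsg.Agent.Helper28.CC

open Matrix

variable {F : Type*} [Field F]

theorem det_Xm (t : F) : (Xm t).det = 1 := by
  rw [Xm, Matrix.det_fin_three]
  simp

/-- the class representative in `SL_3` -/
def XSL (t : F) : Matrix.SpecialLinearGroup (Fin 3) F := ⟨Xm t, det_Xm t⟩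

theorem eq_conj_of_mul_eq (t : F) (B : Matrix (Fin 3) (Fin 3) F)
    (u : Matrix.SpecialLinearGroup (Fin 3) F)
    (h1 : B * (u : Matrix (Fin 3) (Fin 3) F) = (u : Matrix (Fin 3) (Fin 3) F) * Xm t) :
    B = ((u * XSL t * u⁻¹ : Matrix.SpecialLinearGroup (Fin 3) F) : Matrix (Fin 3) (Fin 3) F) := by
  have h2 : (u : Matrix (Fin 3) (Fin 3) F) * ((u⁻¹ : Matrix.SpecialLinearGroup (Fin 3) F) :
      Matrix (Fin 3) (Fin 3) F) = 1 := by
    rw [← Matrix.SpecialLinearGroup.coe_mul, mul_inv_cancel, Matrix.SpecialLinearGroup.coe_one]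
  calc B = B * ((u : Matrix (Fin 3) (Fin 3) F) *
        ((u⁻¹ : Matrix.SpecialLinearGroup (Fin 3) F) : Matrix (Fin 3) (Fin 3) F)) := by
        rw [h2, Matrix.mul_one]
    _ = (B * (u : Matrix (Fin 3) (Fin 3) F)) *
        ((u⁻¹ : Matrix.SpecialLinearGroup (Fin 3) F) : Matrix (Fin 3) (Fin 3) F) := by
        rw [Matrix.mul_assoc]
    _ = (u : Matrix (Fin 3) (Fin 3) F) * Xm t *
        ((u⁻¹ : Matrix.SpecialLinearGroup (Fin 3) F) : Matrix (Fin 3) (Fin 3) F) := by rw [h1]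
    _ = ((u * XSL t * u⁻¹ : Matrix.SpecialLinearGroup (Fin 3) F) :
        Matrix (Fin 3) (Fin 3) F) := by
        rw [Matrix.SpecialLinearGroup.coe_mul, Matrix.SpecialLinearGroup.coe_mul]
        rfl

theorem inCl_SL (t : F) (B : Matrix (Fin 3) (Fin 3) F) (hB : InCl t B) :
    ∃ u : Matrix.SpecialLinearGroup (Fin 3) F,
      B = ((u * XSL t * u⁻¹ : Matrix.SpecialLinearGroup (Fin 3) F) : Matrix (Fin 3) (Fin 3) F) := by
  obtain ⟨g, hg, hBg⟩ := hB
  have hg' : (g * !![(g.det)⁻¹, 0, 0; 0, 1, 0; 0, 0, 1]).det = 1 := by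
    rw [Matrix.det_mul, Matrix.det_fin_three (A := !![(g.det)⁻¹, 0, 0; 0, 1, 0; 0, 0, 1])]
    simp only [Matrix.of_apply, Matrix.cons_val', Matrix.cons_val_zero,
      Matrix.cons_val_one, Matrix.cons_val_two, Matrix.empty_val', Matrix.cons_val_fin_one,
      Matrix.head_cons, Matrix.tail_cons, Matrix.head_fin_const]
    field_simp
    ring1
  have hcomm : (!![(g.det)⁻¹, 0, 0; 0, 1, 0; 0, 0, 1] : Matrix (Fin 3) (Fin 3) F) * Xm t =
      Xm t * !![(g.det)⁻¹, 0, 0; 0, 1, 0; 0, 0, 1] := by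
    simp only [Xm, Matrix.mul_fin_three]
    apply m3ext
    all_goals ring1
  have h1 : B * (g * !![(g.det)⁻¹, 0, 0; 0, 1, 0; 0, 0, 1]) =
      (g * !![(g.det)⁻¹, 0, 0; 0, 1, 0; 0, 0, 1]) * Xm t := by
    rw [← Matrix.mul_assoc, hBg, Matrix.mul_assoc, ← hcomm, Matrix.mul_assoc]
  exact ⟨⟨g * !![(g.det)⁻¹, 0, 0; 0, 1, 0; 0, 0, 1], hg'⟩, eq_conj_of_mul_eq t B _ h1⟩

theorem SL_main (t : F) (ht : 2 - t ≠ 0) (a : Matrix.SpecialLinearGroup (Fin 3) F)
    (ha : a ∉ Subgroup.center (Matrix.SpecialLinearGroup (Fin 3) F)) :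
    ∃ u v : Matrix.SpecialLinearGroup (Fin 3) F,
      a = (u * XSL t * u⁻¹) * (v * XSL t * v⁻¹) := by
  have hns : ¬ ((a : Matrix (Fin 3) (Fin 3) F) 0 1 = 0 ∧ (a : Matrix (Fin 3) (Fin 3) F) 0 2 = 0 ∧
      (a : Matrix (Fin 3) (Fin 3) F) 1 0 = 0 ∧ (a : Matrix (Fin 3) (Fin 3) F) 1 2 = 0 ∧
      (a : Matrix (Fin 3) (Fin 3) F) 2 0 = 0 ∧ (a : Matrix (Fin 3) (Fin 3) F) 2 1 = 0 ∧
      (a : Matrix (Fin 3) (Fin 3) F) 0 0 = (a : Matrix (Fin 3) (Fin 3) F) 1 1 ∧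
      (a : Matrix (Fin 3) (Fin 3) F) 1 1 = (a : Matrix (Fin 3) (Fin 3) F) 2 2) := by
    rintro ⟨h01, h02, h10, h12, h20, h21, e1, e2⟩
    apply ha
    rw [Matrix.SpecialLinearGroup.mem_center_iff]
    refine ⟨(a : Matrix (Fin 3) (Fin 3) F) 0 0, ?_, ?_⟩
    · have h3 := a.det_coe
      rw [Matrix.det_fin_three, h01, h02, h10, h12, h20, h21, ← e2, ← e1] at h3
      rw [Fintype.card_fin]
      linear_combination h3
    · ext i j
      fin_cases i <;> fin_cases j <;>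
        simp [h01, h02, h10, h12, h20, h21, ← e2, ← e1]
  obtain ⟨B, C, hB, hC, hBC⟩ := PP_of_nonscalar t (a : Matrix (Fin 3) (Fin 3) F) a.det_coe hns ht
  obtain ⟨u, rfl⟩ := inCl_SL t B hB
  obtain ⟨v, rfl⟩ := inCl_SL t C hC
  refine ⟨u, v, ?_⟩
  apply Subtype.ext
  rw [Matrix.SpecialLinearGroup.coe_mul]
  exact hBC

theorem PSL_main (t : F) (ht : 2 - t ≠ 0)
    (g : Matrix.ProjectiveSpecialLinearGroup (Fin 3) F) (hg : g ≠ 1) :
    ∃ u v : Matrix.ProjectiveSpecialLinearGroup (Fin 3) F,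
      g = (u * (QuotientGroup.mk (XSL t) : Matrix.ProjectiveSpecialLinearGroup (Fin 3) F) * u⁻¹) *
        (v * (QuotientGroup.mk (XSL t) : Matrix.ProjectiveSpecialLinearGroup (Fin 3) F) * v⁻¹) := by
  obtain ⟨a, rfl⟩ := QuotientGroup.mk_surjective g
  have ha : a ∉ Subgroup.center (Matrix.SpecialLinearGroup (Fin 3) F) :=
    fun h => hg ((QuotientGroup.eq_one_iff a).mpr h)
  obtain ⟨u, v, huv⟩ := SL_main t ht a ha
  refine ⟨QuotientGroup.mk u, QuotientGroup.mk v, ?_⟩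
  rw [huv]
  rfl

theorem Xm_zero_pow : (Xm (0 : F)) ^ 4 = 1 := by
  have h2 : Xm (0 : F) * Xm 0 = !![1, 0, 0; 0, -1, 0; 0, 0, -1] := by
    simp only [Xm, Matrix.mul_fin_three]
    apply m3ext
    all_goals ring1
  have h4 : (4 : ℕ) = 2 + 2 := rfl
  rw [h4, pow_add, pow_two, h2, Matrix.one_fin_three]
  simp only [Matrix.mul_fin_three]
  apply m3ext
  all_goals ring1

theorem Xm_one_pow (h2 : (-1 : F) = 1) : (Xm (1 : F)) ^ 3 = 1 := by
  have e2 : Xm (1 : F) * Xm 1 = !![1, 0, 0; 0, -1, -1; 0, 1, 0] := by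
    simp only [Xm, Matrix.mul_fin_three]
    apply m3ext
    all_goals ring1
  have h3 : Xm (1 : F) ^ 3 = Xm (1 : F) ^ 2 * Xm (1 : F) := pow_succ _ 2
  rw [h3, pow_two, e2, Matrix.one_fin_three]
  simp only [Xm, Matrix.mul_fin_three]
  apply m3ext
  all_goals first | ring1 | linear_combination h2

theorem XSL_zero_pow : (XSL (0 : F)) ^ 4 = 1 := by
  apply Subtype.ext
  rw [Matrix.SpecialLinearGroup.coe_pow]
  exact Xm_zero_pow

theorem XSL_one_pow (h2 : (-1 : F) = 1) : (XSL (1 : F)) ^ 3 = 1 := by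
  apply Subtype.ext
  rw [Matrix.SpecialLinearGroup.coe_pow]
  exact Xm_one_pow h2

/-- The final statement. -/
theorem psl_three_class_square (p : ℕ) [Fact p.Prime] [CharP F p] :
    ∃ x : Matrix.ProjectiveSpecialLinearGroup (Fin 3) F, ¬ p ∣ orderOf x ∧
      ∀ g : Matrix.ProjectiveSpecialLinearGroup (Fin 3) F, g ≠ 1 →
        ∃ u v : Matrix.ProjectiveSpecialLinearGroup (Fin 3) F,
          g = (u * x * u⁻¹) * (v * x * v⁻¹) := by
  by_cases hp : p = 2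
  · subst hp
    have h2 : (-1 : F) = 1 := CharTwo.neg_eq (1 : F)
    refine ⟨QuotientGroup.mk (XSL 1), ?_, PSL_main 1 (by norm_num)⟩
    intro hdvd
    have h3 : orderOf (QuotientGroup.mk (XSL (1 : F)) :
        Matrix.ProjectiveSpecialLinearGroup (Fin 3) F) ∣ 3 := by
      apply orderOf_dvd_of_pow_eq_one
      rw [← QuotientGroup.mk_pow, XSL_one_pow h2]
      rfl
    have := hdvd.trans h3
    omega
  · have h20 : (2 : F) ≠ 0 := by
      intro h
      have h' : ((2 : ℕ) : F) = 0 := by exact_mod_cast h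
      rw [CharP.cast_eq_zero_iff F p 2] at h'
      exact hp ((Nat.prime_dvd_prime_iff_eq (Fact.out) Nat.prime_two).mp h')
    refine ⟨QuotientGroup.mk (XSL 0), ?_, PSL_main 0 (by simpa using h20)⟩
    intro hdvd
    have h4 : orderOf (QuotientGroup.mk (XSL (0 : F)) :
        Matrix.ProjectiveSpecialLinearGroup (Fin 3) F) ∣ 4 := by
      apply orderOf_dvd_of_pow_eq_one
      rw [← QuotientGroup.mk_pow, XSL_zero_pow]
      rfl
    have h5 : p ∣ 2 ^ 2 := hdvd.trans h4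
    have h6 : p ∣ 2 := (Fact.out : p.Prime).dvd_of_dvd_pow h5
    exact hp ((Nat.prime_dvd_prime_iff_eq (Fact.out) Nat.prime_two).mp h6)

end Cfsg.Agent.Helper28.CC
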