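import Mathlib
import Cfsg.Prelude.Def_GeometricClasses
import Cfsg.Agent.Lib.Helper28.SubspaceMax

set_option autoImplicit false

/-! Components of a vector along a decomposition into independent subspaces, the number of
non-zero components, and its behaviour under the stabiliser of the decomposition. -/

namespace Cfsg.Agent.Helper28.DecompComp

open Matrix Cfsg Cfsg.Agent.Helper28
open scoped Classical

variable {F : Type*} [Field F] {n t m : ℕ} (D : Fin t → Submodule F (Fin n → F))

/-- the sum map from families of members to the whole space -/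
noncomputable def sumMap : (∀ i, D i) →ₗ[F] (Fin n → F) :=
  ∑ i, (D i).subtype ∘ₗ LinearMap.proj i

theorem sumMap_apply (μ : ∀ i, D i) : sumMap D μ = ∑ i, (μ i : Fin n → F) := by
  simp [sumMap]

variable {D} (hD : Cfsg.Geo.IsMDecomposition m D)

include hD in
theorem sumMap_surjective : Function.Surjective (sumMap D) := by
  intro x
  have h : x ∈ ⨆ i ∈ (Finset.univ : Finset (Fin t)), D i := by
    have : (⨆ i ∈ (Finset.univ : Finset (Fin t)), D i) = ⨆ i, D i := by simp
    rw [this, hD.iSup_eq_top]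
    exact Submodule.mem_top
  obtain ⟨μ, hμ⟩ := (Submodule.mem_iSup_finset_iff_exists_sum D x).mp h
  exact ⟨μ, by rw [sumMap_apply, hμ]⟩

include hD in
theorem sumMap_injective : Function.Injective (sumMap D) := by
  rw [← LinearMap.ker_eq_bot, LinearMap.ker_eq_bot']
  intro μ hμ
  rw [sumMap_apply] at hμ
  funext i
  have h1 : (μ i : Fin n → F) = -∑ j ∈ Finset.univ.erase i, (μ j : Fin n → F) := by
    rw [eq_neg_iff_add_eq_zero,
      Finset.add_sum_erase Finset.univ (fun j => (μ j : Fin n → F)) (Finset.mem_univ i)]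
    exact hμ
  have h2 : (μ i : Fin n → F) ∈ ⨆ (j) (_ : j ≠ i), D j := by
    rw [h1]
    apply Submodule.neg_mem
    apply Submodule.sum_mem
    intro j hj
    exact Submodule.mem_iSup_of_mem j
      (Submodule.mem_iSup_of_mem (Finset.ne_of_mem_erase hj) (μ j).2)
  have h3 := (Submodule.disjoint_def.mp (hD.indep i)) _ (μ i).2 h2
  exact Subtype.ext h3

/-- the linear equivalence between families of members and the whole space -/
noncomputable def equiv : (∀ i, D i) ≃ₗ[F] (Fin n → F) :=
  LinearEquiv.ofBijective (sumMap D) ⟨sumMap_injective hD, sumMap_surjective hD⟩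

/-- the component of a vector in the `i`-th member -/
noncomputable def comp (i : Fin t) : (Fin n → F) →ₗ[F] (Fin n → F) :=
  (D i).subtype ∘ₗ LinearMap.proj i ∘ₗ (equiv hD).symm.toLinearMap

theorem comp_apply (i : Fin t) (v : Fin n → F) :
    comp hD i v = (((equiv hD).symm v) i : Fin n → F) := rfl

theorem comp_mem (i : Fin t) (v : Fin n → F) : comp hD i v ∈ D i := by
  rw [comp_apply]
  exact Subtype.mem _

theorem sum_comp (v : Fin n → F) : ∑ i, comp hD i v = v := by
  have h := (equiv hD).apply_symm_apply v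
  have h2 : equiv hD ((equiv hD).symm v) = sumMap D ((equiv hD).symm v) := rfl
  rw [h2, sumMap_apply] at h
  exact h

theorem comp_unique (μ : ∀ i, D i) (v : Fin n → F) (h : ∑ i, (μ i : Fin n → F) = v) (i : Fin t) :
    comp hD i v = μ i := by
  have h1 : equiv hD μ = v := by
    show sumMap D μ = v
    rw [sumMap_apply, h]
  rw [comp_apply, ← h1, LinearEquiv.symm_apply_apply]

theorem comp_of_mem_same (i : Fin t) (v : Fin n → F) (hv : v ∈ D i) : comp hD i v = v := by
  have := comp_unique hD (Pi.single i ⟨v, hv⟩) v (by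
    rw [Finset.sum_eq_single i]
    · simp
    · intro j _ hji
      simp [Pi.single_eq_of_ne hji]
    · intro h; exact absurd (Finset.mem_univ _) h) i
  rw [this]
  simp

theorem comp_of_mem_ne (i j : Fin t) (hij : i ≠ j) (v : Fin n → F) (hv : v ∈ D j) :
    comp hD i v = 0 := by
  have := comp_unique hD (Pi.single j ⟨v, hv⟩) v (by
    rw [Finset.sum_eq_single j]
    · simp
    · intro k _ hkj
      simp [Pi.single_eq_of_ne hkj]
    · intro h; exact absurd (Finset.mem_univ _) h) i
  rw [this]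
  simp [Pi.single_eq_of_ne hij]

/-- a vector with two non-zero components lies in no member -/
theorem not_mem_of_two (i₁ i₂ : Fin t) (h12 : i₁ ≠ i₂) (v : Fin n → F) (h1 : comp hD i₁ v ≠ 0)
    (h2 : comp hD i₂ v ≠ 0) (j : Fin t) : v ∉ D j := by
  intro hv
  have e1 : i₁ = j := by
    by_contra hne
    exact h1 (comp_of_mem_ne hD i₁ j hne v hv)
  have e2 : i₂ = j := by
    by_contra hne
    exact h2 (comp_of_mem_ne hD i₂ j hne v hv)
  exact h12 (e1.trans e2.symm)

/-- the number of non-zero components -/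
noncomputable def cnt (v : Fin n → F) : ℕ := ∑ i, if comp hD i v = 0 then 0 else 1

theorem comp_stab (g : GL (Fin n) F) (σ : Equiv.Perm (Fin t))
    (hσ : ∀ i, (D i).map (Matrix.toLin' (g : Matrix (Fin n) (Fin n) F)) = D (σ i))
    (i : Fin t) (v : Fin n → F) :
    comp hD (σ i) ((g : Matrix (Fin n) (Fin n) F) *ᵥ v) =
      (g : Matrix (Fin n) (Fin n) F) *ᵥ comp hD i v := by
  have hmem : ∀ j, (g : Matrix (Fin n) (Fin n) F) *ᵥ comp hD (σ.symm j) v ∈ D j := by
    intro j
    have h1 := hσ (σ.symm j)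
    rw [Equiv.apply_symm_apply] at h1
    rw [← h1]
    exact ⟨_, comp_mem hD _ v, Matrix.toLin'_apply _ _⟩
  have := comp_unique hD (fun j => ⟨_, hmem j⟩) ((g : Matrix (Fin n) (Fin n) F) *ᵥ v) (by
    show ∑ j, (g : Matrix (Fin n) (Fin n) F) *ᵥ comp hD (σ.symm j) v = _
    rw [Equiv.sum_comp σ.symm (fun j => (g : Matrix (Fin n) (Fin n) F) *ᵥ comp hD j v)]
    have h2 : ∀ s : Finset (Fin t), ∑ j ∈ s, (g : Matrix (Fin n) (Fin n) F) *ᵥ comp hD j v =
        (g : Matrix (Fin n) (Fin n) F) *ᵥ ∑ j ∈ s, comp hD j v := by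
      intro s
      induction s using Finset.induction_on with
      | empty => simp
      | insert a s ha ih => rw [Finset.sum_insert ha, Finset.sum_insert ha, Matrix.mulVec_add, ih]
    rw [h2, sum_comp]) (σ i)
  rw [this]
  show (g : Matrix (Fin n) (Fin n) F) *ᵥ comp hD (σ.symm (σ i)) v = _
  rw [Equiv.symm_apply_apply]

theorem mulVec_eq_zero_iff (g : GL (Fin n) F) (v : Fin n → F) :
    (g : Matrix (Fin n) (Fin n) F) *ᵥ v = 0 ↔ v = 0 := by
  constructor
  · intro h
    have := congrArg (fun z => ((g⁻¹ : GL (Fin n) F) : Matrix (Fin n) (Fin n) F) *ᵥ z) h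
    simp only [Matrix.mulVec_mulVec, ← Units.val_mul, inv_mul_cancel, Units.val_one,
      Matrix.one_mulVec, Matrix.mulVec_zero] at this
    exact this
  · intro h
    rw [h, Matrix.mulVec_zero]

/-- the stabiliser of the decomposition preserves the number of non-zero components -/
theorem cnt_stab (g : GL (Fin n) F) (hg : g ∈ Cfsg.Geo.decompositionStabilizer D) (v : Fin n → F) :
    cnt hD ((g : Matrix (Fin n) (Fin n) F) *ᵥ v) = cnt hD v := by
  obtain ⟨σ, hσ⟩ := hg
  unfold cnt
  rw [← Equiv.sum_comp σ]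
  apply Finset.sum_congr rfl
  intro i _
  rw [comp_stab hD g σ hσ i v]
  apply if_congr (mulVec_eq_zero_iff g _) rfl rfl

theorem cnt_of_mem (i : Fin t) (v : Fin n → F) (hv : v ∈ D i) (hv0 : v ≠ 0) : cnt hD v = 1 := by
  unfold cnt
  rw [Finset.sum_eq_single i]
  · rw [comp_of_mem_same hD i v hv, if_neg hv0]
  · intro j _ hji
    rw [comp_of_mem_ne hD j i hji v hv, if_pos rfl]
  · intro h; exact absurd (Finset.mem_univ _) h

theorem cnt_of_two (i₀ i₁ : Fin t) (h01 : i₀ ≠ i₁) (a b : Fin n → F) (ha : a ∈ D i₀)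
    (hb : b ∈ D i₁) (ha0 : a ≠ 0) (hb0 : b ≠ 0) : cnt hD (a + b) = 2 := by
  unfold cnt
  have hrest : ∑ j ∈ (Finset.univ.erase i₀).erase i₁,
      (if comp hD j (a + b) = 0 then 0 else 1 : ℕ) = 0 := by
    apply Finset.sum_eq_zero
    intro j hj
    have hj1 : j ≠ i₁ := Finset.ne_of_mem_erase hj
    have hj0 : j ≠ i₀ := Finset.ne_of_mem_erase (Finset.mem_of_mem_erase hj)
    rw [map_add, comp_of_mem_ne hD j i₀ hj0 a ha, comp_of_mem_ne hD j i₁ hj1 b hb, add_zero,
      if_pos rfl]
  rw [← Finset.add_sum_erase _ _ (Finset.mem_univ i₀),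
    ← Finset.add_sum_erase _ _ (Finset.mem_erase.mpr ⟨h01.symm, Finset.mem_univ i₁⟩),
    hrest, map_add, map_add, comp_of_mem_same hD i₀ a ha,
    comp_of_mem_ne hD i₀ i₁ h01 b hb, comp_of_mem_same hD i₁ b hb,
    comp_of_mem_ne hD i₁ i₀ h01.symm a ha, add_zero, zero_add, if_neg ha0, if_neg hb0]
  rfl

/-- the subgroup of `SL` preserving the number of non-zero components modulo the characteristic -/
noncomputable def KK : Subgroup (GL (Fin n) F) where
  carrier := {g | g ∈ Cfsg.Geo.specialLinear (Fin n) F ∧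
    ∀ v, (cnt hD ((g : Matrix (Fin n) (Fin n) F) *ᵥ v) : F) = (cnt hD v : F)}
  mul_mem' {a b} ha hb :=
    ⟨mul_mem ha.1 hb.1, fun v => by rw [Units.val_mul, ← Matrix.mulVec_mulVec, ha.2, hb.2]⟩
  one_mem' := ⟨one_mem _, fun v => by rw [Units.val_one, Matrix.one_mulVec]⟩
  inv_mem' {a} ha := ⟨inv_mem ha.1, fun v => by
    rw [← ha.2 (((a⁻¹ : GL (Fin n) F) : Matrix (Fin n) (Fin n) F) *ᵥ v), Matrix.mulVec_mulVec,
      ← Units.val_mul, mul_inv_cancel, Units.val_one, Matrix.one_mulVec]⟩

theorem stab_le_KK :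
    Cfsg.Geo.decompositionStabilizer D ⊓ Cfsg.Geo.specialLinear (Fin n) F ≤ KK hD := by
  rintro g ⟨hg, hgS⟩
  exact ⟨hgS, fun v => by rw [cnt_stab hD g hg v]⟩

include hD in
theorem exists_ne_zero (i : Fin t) : ∃ a ∈ D i, a ≠ 0 := by
  have h : D i ≠ ⊥ := by
    rw [← Submodule.one_le_finrank_iff, hD.finrank_eq i]
    exact hD.pos
  exact Submodule.exists_mem_ne_zero_of_ne_bot h

/-- the subgroup `KK` is proper in the special linear group -/
theorem KK_lt : KK hD < Cfsg.Geo.specialLinear (Fin n) F := by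
  rw [lt_iff_le_and_ne]
  refine ⟨fun g hg => hg.1, fun heq => ?_⟩
  have ht := hD.two_le
  obtain ⟨i₀, hi₀⟩ : ∃ i : Fin t, i = ⟨0, by omega⟩ := ⟨_, rfl⟩
  obtain ⟨i₁, hi₁⟩ : ∃ i : Fin t, i = ⟨1, by omega⟩ := ⟨_, rfl⟩
  have h01 : i₀ ≠ i₁ := by rw [hi₀, hi₁]; simp [Fin.ext_iff]
  obtain ⟨a, ha, ha0⟩ := exists_ne_zero hD i₀
  obtain ⟨b, hb, hb0⟩ := exists_ne_zero hD i₁
  have hab : a ∉ Submodule.span F {b} := by
    intro h
    obtain ⟨c, hc⟩ := Submodule.mem_span_singleton.mp h
    have h1 : a ∈ D i₁ := by rw [← hc]; exact (D i₁).smul_mem c hb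
    have := comp_of_mem_ne hD i₀ i₁ h01 a h1
    rw [comp_of_mem_same hD i₀ a ha] at this
    exact ha0 this
  obtain ⟨l, hl0, hl1⟩ := SubspaceMax.exists_dual_vec (Submodule.span F {b}) a hab
  have hlb : l ⬝ᵥ b = 0 := hl0 b (Submodule.mem_span_singleton_self b)
  have hg : tv b l ∈ KK hD := by
    rw [heq]
    exact SubspaceMax.tv_mem_specialLinear b l
  have h := hg.2 a
  rw [tv_mulVec _ _ _ hlb, hl1, one_smul, cnt_of_two hD i₀ i₁ h01 a b ha hb ha0 hb0,
    cnt_of_mem hD i₀ a ha ha0] at h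
  have : (1 : F) = 0 := by
    push_cast at h
    linear_combination h
  exact one_ne_zero this

/-- an element mapping a vector of a member to a vector with two non-zero components does not
stabilise the decomposition -/
theorem not_stab_of_two (g : GL (Fin n) F) (i₀ i₁ i₂ : Fin t) (h12 : i₁ ≠ i₂) (a : Fin n → F)
    (ha : a ∈ D i₀) (h1 : comp hD i₁ ((g : Matrix (Fin n) (Fin n) F) *ᵥ a) ≠ 0)
    (h2 : comp hD i₂ ((g : Matrix (Fin n) (Fin n) F) *ᵥ a) ≠ 0) :
    g ∉ Cfsg.Geo.decompositionStabilizer D := by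
  rintro ⟨σ, hσ⟩
  have hmem : (g : Matrix (Fin n) (Fin n) F) *ᵥ a ∈ D (σ i₀) := by
    rw [← hσ i₀]
    exact ⟨a, ha, Matrix.toLin'_apply _ _⟩
  exact not_mem_of_two hD i₁ i₂ h12 _ h1 h2 (σ i₀) hmem

include hD in
theorem le_count : n ≤ t * m := by
  have h1 : Module.finrank F (Fin n → F) = n := by
    rw [Module.finrank_fintype_fun_eq_card, Fintype.card_fin]
  have h3 := LinearMap.finrank_range_add_finrank_ker (sumMap D)
  rw [LinearMap.range_eq_top.mpr (sumMap_surjective hD), finrank_top, h1,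
    Module.finrank_pi_fintype] at h3
  simp only [hD.finrank_eq] at h3
  simp at h3
  omega

/-! ### coordinates adapted to the decomposition -/

/-- the component of a vector, as an element of the member -/
noncomputable def compSub (i : Fin t) : (Fin n → F) →ₗ[F] D i :=
  LinearMap.proj i ∘ₗ (equiv hD).symm.toLinearMap

theorem compSub_coe (i : Fin t) (v : Fin n → F) : (compSub hD i v : Fin n → F) = comp hD i v := rfl

/-- a basis of the `i`-th member -/
noncomputable def bas (i : Fin t) : Module.Basis (Fin m) F (D i) :=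
  Module.finBasisOfFinrankEq F (D i) (hD.finrank_eq i)

/-- the basis vectors, in the ambient space -/
noncomputable def E (i : Fin t) (j : Fin m) : Fin n → F := (bas hD i j : Fin n → F)

/-- the coordinate functionals -/
noncomputable def X (i : Fin t) (j : Fin m) : Module.Dual F (Fin n → F) :=
  (bas hD i).coord j ∘ₗ compSub hD i

theorem E_mem (i : Fin t) (j : Fin m) : E hD i j ∈ D i := Subtype.mem _

theorem comp_eq_sum (i : Fin t) (v : Fin n → F) : comp hD i v = ∑ j, X hD i j v • E hD i j := by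
  have h := (bas hD i).sum_repr (compSub hD i v)
  have h2 := congrArg (fun z : D i => (z : Fin n → F)) h
  simp only [Submodule.coe_sum, Submodule.coe_smul, compSub_coe] at h2
  rw [← h2]
  rfl

theorem X_E (i i' : Fin t) (j j' : Fin m) :
    X hD i j (E hD i' j') = if i = i' ∧ j = j' then 1 else 0 := by
  show (bas hD i).coord j (compSub hD i (E hD i' j')) = _
  by_cases hi : i = i'
  · subst hi
    have h1 : compSub hD i (E hD i j') = bas hD i j' := by
      apply Subtype.ext
      rw [compSub_coe, comp_of_mem_same hD i _ (E_mem hD i j')]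
      rfl
    rw [h1, Module.Basis.coord_apply, Module.Basis.repr_self, Finsupp.single_apply]
    by_cases hj : j = j'
    · rw [if_pos hj.symm, if_pos ⟨rfl, hj⟩]
    · rw [if_neg (fun h => hj h.symm), if_neg (fun h => hj h.2)]
  · have h1 : compSub hD i (E hD i' j') = 0 := by
      apply Subtype.ext
      rw [compSub_coe, comp_of_mem_ne hD i i' hi _ (E_mem hD i' j')]
      rfl
    rw [h1, map_zero, if_neg (fun h => hi h.1)]

theorem comp_eq_zero_iff (i : Fin t) (v : Fin n → F) :
    comp hD i v = 0 ↔ ∀ j, X hD i j v = 0 := by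
  constructor
  · intro h j
    show (bas hD i).coord j (compSub hD i v) = 0
    have : compSub hD i v = 0 := Subtype.ext h
    rw [this, map_zero]
  · intro h
    rw [comp_eq_sum]
    apply Finset.sum_eq_zero
    intro j _
    rw [h j, zero_smul]

theorem cnt_cast (v : Fin n → F) :
    (cnt hD v : F) = ∑ i, (if comp hD i v = 0 then 0 else 1 : F) := by
  unfold cnt
  rw [Nat.cast_sum]
  apply Finset.sum_congr rfl
  intro i _
  split_ifs <;> simp

/-! ### the maps `v ↦ v + φ v • w` -/

/-- the matrix of `v ↦ v + φ v • w` -/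
noncomputable def TM (φ : Module.Dual F (Fin n → F)) (w : Fin n → F) : Matrix (Fin n) (Fin n) F :=
  1 + vecMulVec w ((dotProductEquiv F (Fin n)).symm φ)

theorem TM_mulVec (φ : Module.Dual F (Fin n → F)) (w v : Fin n → F) :
    TM φ w *ᵥ v = v + φ v • w := by
  unfold TM
  rw [Matrix.add_mulVec, Matrix.one_mulVec, vecMulVec_mulVec, op_smul_eq_smul]
  congr 2
  have := LinearMap.congr_fun ((dotProductEquiv F (Fin n)).apply_symm_apply φ) v
  rw [dotProductEquiv_apply_apply] at this
  exact this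

theorem TM_det (φ : Module.Dual F (Fin n → F)) (w : Fin n → F) : (TM φ w).det = 1 + φ w := by
  unfold TM
  rw [Matrix.vecMulVec_eq Unit, Matrix.det_one_add_replicateCol_mul_replicateRow]
  congr 1
  have := LinearMap.congr_fun ((dotProductEquiv F (Fin n)).apply_symm_apply φ) w
  rw [dotProductEquiv_apply_apply] at this
  exact this

/-- the sum of the first basis vectors of the members `s k` -/
noncomputable def wS {r : ℕ} (s : Fin r → Fin t) (j₀ : Fin m) : Fin n → F := ∑ k, E hD (s k) j₀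

/-- the sum of the coordinate functionals of the members `s k` -/
noncomputable def phiS {r : ℕ} (s : Fin r → Fin t) (j₁ : Fin m) : Module.Dual F (Fin n → F) :=
  ∑ k, X hD (s k) j₁

theorem X_wS {r : ℕ} (s : Fin r → Fin t) (hs : Function.Injective s) (j₀ : Fin m) (i : Fin t)
    (j : Fin m) :
    X hD i j (wS hD s j₀) = if (∃ k, s k = i) ∧ j = j₀ then 1 else 0 := by
  unfold wS
  rw [map_sum]
  simp only [X_E]
  by_cases h : (∃ k, s k = i) ∧ j = j₀
  · obtain ⟨⟨k, hk⟩, hj⟩ := h
    rw [if_pos ⟨⟨k, hk⟩, hj⟩, Finset.sum_eq_single k]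
    · rw [if_pos ⟨hk.symm, hj⟩]
    · intro k' _ hk'
      rw [if_neg]
      rintro ⟨h1, -⟩
      exact hk' (hs (h1.symm.trans hk.symm))
    · intro h; exact absurd (Finset.mem_univ _) h
  · rw [if_neg h]
    apply Finset.sum_eq_zero
    intro k _
    rw [if_neg]
    rintro ⟨h1, h2⟩
    exact h ⟨⟨k, h1.symm⟩, h2⟩

theorem phiS_apply {r : ℕ} (s : Fin r → Fin t) (j₁ : Fin m) (v : Fin n → F) :
    phiS hD s j₁ v = ∑ k, X hD (s k) j₁ v := by
  unfold phiS
  rw [LinearMap.sum_apply]

end Cfsg.Agent.Helper28.DecompComp
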