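import Mathlib
import Cfsg.Prelude.Def_GeometricClasses

set_option autoImplicit false

/-! Components of a vector along a decomposition into independent subspaces (any index type). -/

namespace Cfsg.Agent.Helper28.DecompGen

open Matrix Cfsg
open scoped Classical

variable {F : Type*} [Field F] {ι : Type} [Fintype ι] [DecidableEq ι] {t m : ℕ} (D : Fin t → Submodule F (ι → F))

/-- the sum map from families of members to the whole space -/
noncomputable def sumMap : (∀ i, D i) →ₗ[F] (ι → F) :=
  ∑ i, (D i).subtype ∘ₗ LinearMap.proj i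

theorem sumMap_apply (μ : ∀ i, D i) : sumMap D μ = ∑ i, (μ i : ι → F) := by
  simp [sumMap]

variable {D} (hD : Cfsg.Geo.IsMDecomposition m D)

include hD in
theorem sumMap_surjective : Function.Surjective (sumMap D) := by
  intro x
  have h : x ∈ ⨆ i ∈ (Finset.univ : Finset (Fin t)), D i := by
    have : (⨆ i ∈ (Finset.univ : Finset (Fin t)), D i) = ⨆ i, D i := by simp
    rw [this, hD.iSup_eq_top]
    exact Submodule.mem_top
  obtain ⟨μ, hμ⟩ := (Submodule.mem_iSup_finset_iff_exists_sum D x).mp h
  exact ⟨μ, by rw [sumMap_apply, hμ]⟩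

include hD in
theorem sumMap_injective : Function.Injective (sumMap D) := by
  rw [← LinearMap.ker_eq_bot, LinearMap.ker_eq_bot']
  intro μ hμ
  rw [sumMap_apply] at hμ
  funext i
  have h1 : (μ i : ι → F) = -∑ j ∈ Finset.univ.erase i, (μ j : ι → F) := by
    rw [eq_neg_iff_add_eq_zero,
      Finset.add_sum_erase Finset.univ (fun j => (μ j : ι → F)) (Finset.mem_univ i)]
    exact hμ
  have h2 : (μ i : ι → F) ∈ ⨆ (j) (_ : j ≠ i), D j := by
    rw [h1]
    apply Submodule.neg_mem
    apply Submodule.sum_mem
    intro j hj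
    exact Submodule.mem_iSup_of_mem j
      (Submodule.mem_iSup_of_mem (Finset.ne_of_mem_erase hj) (μ j).2)
  have h3 := (Submodule.disjoint_def.mp (hD.indep i)) _ (μ i).2 h2
  exact Subtype.ext h3

/-- the linear equivalence between families of members and the whole space -/
noncomputable def equiv : (∀ i, D i) ≃ₗ[F] (ι → F) :=
  LinearEquiv.ofBijective (sumMap D) ⟨sumMap_injective hD, sumMap_surjective hD⟩

/-- the component of a vector in the `i`-th member -/
noncomputable def comp (i : Fin t) : (ι → F) →ₗ[F] (ι → F) :=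
  (D i).subtype ∘ₗ LinearMap.proj i ∘ₗ (equiv hD).symm.toLinearMap

theorem comp_apply (i : Fin t) (v : ι → F) :
    comp hD i v = (((equiv hD).symm v) i : ι → F) := rfl

theorem comp_mem (i : Fin t) (v : ι → F) : comp hD i v ∈ D i := by
  rw [comp_apply]
  exact Subtype.mem _

theorem sum_comp (v : ι → F) : ∑ i, comp hD i v = v := by
  have h := (equiv hD).apply_symm_apply v
  have h2 : equiv hD ((equiv hD).symm v) = sumMap D ((equiv hD).symm v) := rfl
  rw [h2, sumMap_apply] at h
  exact h

theorem comp_unique (μ : ∀ i, D i) (v : ι → F) (h : ∑ i, (μ i : ι → F) = v) (i : Fin t) :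
    comp hD i v = μ i := by
  have h1 : equiv hD μ = v := by
    show sumMap D μ = v
    rw [sumMap_apply, h]
  rw [comp_apply, ← h1, LinearEquiv.symm_apply_apply]

theorem comp_of_mem_same (i : Fin t) (v : ι → F) (hv : v ∈ D i) : comp hD i v = v := by
  have := comp_unique hD (Pi.single i ⟨v, hv⟩) v (by
    rw [Finset.sum_eq_single i]
    · simp
    · intro j _ hji
      simp [Pi.single_eq_of_ne hji]
    · intro h; exact absurd (Finset.mem_univ _) h) i
  rw [this]
  simp

theorem comp_of_mem_ne (i j : Fin t) (hij : i ≠ j) (v : ι → F) (hv : v ∈ D j) :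
    comp hD i v = 0 := by
  have := comp_unique hD (Pi.single j ⟨v, hv⟩) v (by
    rw [Finset.sum_eq_single j]
    · simp
    · intro k _ hkj
      simp [Pi.single_eq_of_ne hkj]
    · intro h; exact absurd (Finset.mem_univ _) h) i
  rw [this]
  simp [Pi.single_eq_of_ne hij]

/-- a vector with two non-zero components lies in no member -/
theorem not_mem_of_two (i₁ i₂ : Fin t) (h12 : i₁ ≠ i₂) (v : ι → F) (h1 : comp hD i₁ v ≠ 0)
    (h2 : comp hD i₂ v ≠ 0) (j : Fin t) : v ∉ D j := by
  intro hv
  have e1 : i₁ = j := by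
    by_contra hne
    exact h1 (comp_of_mem_ne hD i₁ j hne v hv)
  have e2 : i₂ = j := by
    by_contra hne
    exact h2 (comp_of_mem_ne hD i₂ j hne v hv)
  exact h12 (e1.trans e2.symm)


end Cfsg.Agent.Helper28.DecompGen
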