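import Mathlib
import Cfsg.Agent.Lib.Helper14.StronglyEmbedded

set_option autoImplicit false

namespace Cfsg.Agent.Helper28

open Cfsg.Agent.Helper14

section DihedralFacts

variable {r : ℕ} [hr : Fact r.Prime]

theorem two_ne_zero_zmod (hr2 : r ≠ 2) : (2 : ZMod r) ≠ 0 := by
  intro h
  have h2 : ((2 : ℕ) : ZMod r) = 0 := by exact_mod_cast h
  rw [ZMod.natCast_eq_zero_iff] at h2
  have := (Nat.prime_dvd_prime_iff_eq hr.out Nat.prime_two).mp h2
  exact hr2 this

/-- In a dihedral group of order `2r`, `r` an odd prime, the involutions are the reflections. -/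
theorem dih_involution (hr2 : r ≠ 2) {x : DihedralGroup r} (hx : x * x = 1) (hx1 : x ≠ 1) :
    ∃ i, x = DihedralGroup.sr i := by
  cases x with
  | r i =>
    exfalso
    apply hx1
    rw [DihedralGroup.r_mul_r, DihedralGroup.one_def] at hx
    have h2 : i + i = 0 := by
      injection hx
    have h3 : (2 : ZMod r) * i = 0 := by rw [two_mul]; exact h2
    rcases mul_eq_zero.mp h3 with h | h
    · exact absurd h (two_ne_zero_zmod hr2)
    · rw [h, DihedralGroup.one_def]
  | sr i => exact ⟨i, rfl⟩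

/-- Reflections are conjugate under rotations when `r` is odd. -/
theorem dih_sr_conj (hr2 : r ≠ 2) (i j : ZMod r) :
    ∃ k : ZMod r, DihedralGroup.r k * DihedralGroup.sr i * (DihedralGroup.r k)⁻¹ = DihedralGroup.sr j := by
  refine ⟨(i - j) * (2 : ZMod r)⁻¹, ?_⟩
  rw [DihedralGroup.r_mul_sr, DihedralGroup.inv_r, DihedralGroup.sr_mul_r]
  congr 1
  have h2 := two_ne_zero_zmod (r := r) hr2
  field_simp
  ring

/-- A nontrivial rotation has order `r`. -/
theorem dih_orderOf_r {k : ZMod r} (hk : k ≠ 0) : orderOf (DihedralGroup.r k) = r := by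
  apply orderOf_eq_prime
  · rw [DihedralGroup.r_pow, DihedralGroup.one_def]
    congr 1
    simp
  · intro h
    rw [DihedralGroup.one_def] at h
    injection h with h
    exact hk h

end DihedralFacts

section Core

variable {G : Type*} [Group G] [Finite G] {r : ℕ} [hr : Fact r.Prime]

/-- Standing hypotheses: `V` is a normal `2`-subgroup, the kernel of a surjection `π` onto the dihedral group of
order `2r` (`r` an odd prime), and `R` is a Sylow `r`-subgroup with `C_V(R) = 1`. -/
structure DihCore (V : Subgroup G) (π : G →* DihedralGroup r) (R : Sylow r G) : Prop where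
  r2 : r ≠ 2
  normal : V.Normal
  pgroup : IsPGroup 2 V
  surj : Function.Surjective π
  ker : π.ker = V
  cent : V ⊓ Subgroup.centralizer ((R : Subgroup G) : Set G) = ⊥

variable {V : Subgroup G} {π : G →* DihedralGroup r} {R : Sylow r G}

theorem DihCore.card_G (h : DihCore V π R) : Nat.card G = Nat.card V * (2 * r) := by
  have h1 := Subgroup.card_mul_index V
  have h2 : V.index = 2 * r := by
    rw [← h.ker, Subgroup.index_ker, MonoidHom.range_eq_top.mpr h.surj, Subgroup.card_top,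
      DihedralGroup.nat_card]
  rw [← h1, h2]

theorem DihCore.card_V (h : DihCore V π R) : ∃ n : ℕ, Nat.card V = 2 ^ n :=
  IsPGroup.iff_card.mp h.pgroup

theorem DihCore.card_R (h : DihCore V π R) : Nat.card (R : Subgroup G) = r := by
  obtain ⟨n, hn⟩ := h.card_V
  obtain ⟨k, hk⟩ := IsPGroup.iff_card.mp R.isPGroup'
  have hG := h.card_G
  rw [hn] at hG
  have hdvd : r ^ k ∣ 2 ^ (n + 1) * r := by
    have : 2 ^ (n + 1) * r = 2 ^ n * (2 * r) := by ring
    rw [this, ← hk, ← hG]
    exact Subgroup.card_subgroup_dvd_card _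
  have hcop : Nat.Coprime (r ^ k) (2 ^ (n + 1)) :=
    Nat.Coprime.pow _ _ ((Nat.coprime_primes hr.out Nat.prime_two).mpr h.r2)
  have hdr : r ^ k ∣ r := hcop.dvd_of_dvd_mul_left hdvd
  have hk1 : k ≤ 1 := by
    by_contra hlt
    push Not at hlt
    have h2 : r ^ 2 ∣ r := (pow_dvd_pow r hlt).trans hdr
    have h3 := Nat.le_of_dvd hr.out.pos h2
    nlinarith [hr.out.two_le]
  have hne : (R : Subgroup G) ≠ ⊥ := R.ne_bot_of_dvd_card (by rw [hG]; exact ⟨2 ^ n * 2, by ring⟩)
  have hk0 : k ≠ 0 := by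
    rintro rfl
    rw [pow_zero] at hk
    exact hne (Subgroup.card_eq_one.mp hk)
  have hk' : k = 1 := by omega
  rw [hk, hk', pow_one]

theorem DihCore.disjoint_R_V (h : DihCore V π R) : (R : Subgroup G) ⊓ V = ⊥ := by
  have : Fact (Nat.Prime 2) := ⟨Nat.prime_two⟩
  exact disjoint_iff.mp (IsPGroup.disjoint_of_ne r 2 h.r2 _ _ R.isPGroup' h.pgroup)

/-- `N_G(R) ∩ V = 1`. -/
theorem DihCore.normalizer_inf (h : DihCore V π R) :
    Subgroup.normalizer ((R : Subgroup G) : Set G) ⊓ V = ⊥ := by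
  rw [eq_bot_iff, ← h.cent]
  intro v hv
  obtain ⟨hvN, hvV⟩ := Subgroup.mem_inf.mp hv
  refine Subgroup.mem_inf.mpr ⟨hvV, ?_⟩
  rw [Subgroup.mem_centralizer_iff]
  intro ρ hρ
  have h1 : v * ρ * v⁻¹ ∈ (R : Subgroup G) := (Subgroup.mem_normalizer_iff.mp hvN ρ).mp hρ
  have h2 : v * ρ * v⁻¹ * ρ⁻¹ ∈ (R : Subgroup G) := mul_mem h1 (inv_mem hρ)
  have h3 : v * ρ * v⁻¹ * ρ⁻¹ ∈ V := by
    have h4 : ρ * v⁻¹ * ρ⁻¹ ∈ V := h.normal.conj_mem _ (V.inv_mem hvV) ρ
    have h5 := V.mul_mem hvV h4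
    have : v * ρ * v⁻¹ * ρ⁻¹ = v * (ρ * v⁻¹ * ρ⁻¹) := by group
    rw [this]
    exact h5
  have h4 : v * ρ * v⁻¹ * ρ⁻¹ ∈ (R : Subgroup G) ⊓ V := Subgroup.mem_inf.mpr ⟨h2, h3⟩
  rw [h.disjoint_R_V, Subgroup.mem_bot] at h4
  calc ρ * v = (v * ρ * v⁻¹ * ρ⁻¹)⁻¹ * (v * ρ) := by group
    _ = v * ρ := by rw [h4]; group

/-- Frattini: `N_G(R) V = G`. -/
theorem DihCore.normalizer_sup (h : DihCore V π R) :
    Subgroup.normalizer ((R : Subgroup G) : Set G) ⊔ V = ⊤ := by
  have hVn := h.normal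
  -- the image of R in the dihedral group has index two
  set Rb := (R : Subgroup G).map π with hRb
  have hRbne : Rb ≠ ⊥ := by
    intro hb
    rw [hRb, Subgroup.map_eq_bot_iff, h.ker] at hb
    have h1 : (R : Subgroup G) ≤ (R : Subgroup G) ⊓ V := le_inf le_rfl hb
    rw [h.disjoint_R_V, le_bot_iff] at h1
    have h2 := h.card_R
    rw [h1, Subgroup.card_bot] at h2
    exact hr.out.one_lt.ne h2
  have hRbcard : Nat.card Rb = r := by
    have hdvd : Nat.card Rb ∣ Nat.card (R : Subgroup G) := Subgroup.card_map_dvd _ _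
    rw [h.card_R] at hdvd
    rcases (Nat.dvd_prime hr.out).mp hdvd with h1 | h1
    · exact absurd (Subgroup.card_eq_one.mp h1) hRbne
    · exact h1
  have hidx : Rb.index = 2 := by
    have h1 := Subgroup.card_mul_index Rb
    rw [hRbcard, DihedralGroup.nat_card] at h1
    have hpos : 0 < r := hr.out.pos
    have : r * Rb.index = r * 2 := by rw [h1]; ring
    exact Nat.eq_of_mul_eq_mul_left hpos this
  have hRbn : Rb.Normal := Subgroup.normal_of_index_eq_two hidx
  set N := Rb.comap π with hN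
  have hNn : N.Normal := hRbn.comap π
  have hRN : (R : Subgroup G) ≤ N := Subgroup.le_comap_map _ _
  have hfr := Sylow.normalizer_sup_eq_top' R hRN
  have hNeq : N = (R : Subgroup G) ⊔ V := by
    rw [hN, hRb, Subgroup.comap_map_eq, h.ker]
  rw [hNeq, ← sup_assoc] at hfr
  have hle : (R : Subgroup G) ≤ Subgroup.normalizer ((R : Subgroup G) : Set G) := Subgroup.le_normalizer
  calc Subgroup.normalizer ((R : Subgroup G) : Set G) ⊔ V
      = (Subgroup.normalizer ((R : Subgroup G) : Set G) ⊔ (R : Subgroup G)) ⊔ V := by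
        rw [sup_of_le_left hle]
    _ = ⊤ := hfr

theorem DihCore.inj_on (h : DihCore V π R) {d d' : G}
    (hd : d ∈ Subgroup.normalizer ((R : Subgroup G) : Set G))
    (hd' : d' ∈ Subgroup.normalizer ((R : Subgroup G) : Set G)) (heq : π d = π d') : d = d' := by
  have h1 : d⁻¹ * d' ∈ Subgroup.normalizer ((R : Subgroup G) : Set G) ⊓ V := by
    refine Subgroup.mem_inf.mpr ⟨mul_mem (inv_mem hd) hd', ?_⟩
    rw [← h.ker, MonoidHom.mem_ker, map_mul, map_inv, heq, inv_mul_cancel]
  rw [h.normalizer_inf, Subgroup.mem_bot] at h1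
  exact inv_mul_eq_one.mp h1

theorem DihCore.exists_mem (h : DihCore V π R) (z : DihedralGroup r) :
    ∃ d ∈ Subgroup.normalizer ((R : Subgroup G) : Set G), π d = z := by
  obtain ⟨g, rfl⟩ := h.surj z
  have hVn := h.normal
  have hg : g ∈ ((Subgroup.normalizer ((R : Subgroup G) : Set G) ⊔ V : Subgroup G) : Set G) := by
    rw [h.normalizer_sup]; trivial
  rw [Subgroup.mul_normal] at hg
  obtain ⟨d, hd, v, hv, rfl⟩ := Set.mem_mul.mp hg
  refine ⟨d, hd, ?_⟩
  have : π v = 1 := by rw [← MonoidHom.mem_ker, h.ker]; exact hv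
  rw [map_mul, this, mul_one]

/-- `N_G(R)` is dihedral of order `2r`. -/
theorem DihCore.nonempty_equiv (h : DihCore V π R) :
    Nonempty (↥(Subgroup.normalizer ((R : Subgroup G) : Set G)) ≃* DihedralGroup r) :=
  ⟨MulEquiv.ofBijective (π.comp (Subgroup.normalizer ((R : Subgroup G) : Set G)).subtype)
    ⟨fun d d' heq => Subtype.ext (h.inj_on d.2 d'.2 heq), fun z => by
      obtain ⟨d, hd, hz⟩ := h.exists_mem z
      exact ⟨⟨d, hd⟩, hz⟩⟩⟩

theorem DihCore.exists_sr (h : DihCore V π R) {t : G} (ht : t * t = 1) (htV : t ∉ V) :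
    ∃ i, π t = DihedralGroup.sr i := by
  apply dih_involution h.r2
  · rw [← map_mul, ht, map_one]
  · intro h1
    apply htV
    rw [← h.ker, MonoidHom.mem_ker]
    exact h1

theorem DihCore.not_mem_V (h : DihCore V π R) {t : G}
    (htD : t ∈ Subgroup.normalizer ((R : Subgroup G) : Set G)) (ht1 : t ≠ 1) : t ∉ V := by
  intro hV
  apply ht1
  have : t ∈ Subgroup.normalizer ((R : Subgroup G) : Set G) ⊓ V := Subgroup.mem_inf.mpr ⟨htD, hV⟩
  rwa [h.normalizer_inf, Subgroup.mem_bot] at this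

/-- Involutions of `N_G(R)` are conjugate in `N_G(R)`. -/
theorem DihCore.conj_in_D (h : DihCore V π R) {t t' : G}
    (htD : t ∈ Subgroup.normalizer ((R : Subgroup G) : Set G))
    (ht'D : t' ∈ Subgroup.normalizer ((R : Subgroup G) : Set G))
    (ht : t * t = 1) (ht' : t' * t' = 1) (ht1 : t ≠ 1) (ht'1 : t' ≠ 1) :
    ∃ d ∈ Subgroup.normalizer ((R : Subgroup G) : Set G), d * t * d⁻¹ = t' := by
  obtain ⟨i, hi⟩ := h.exists_sr ht (h.not_mem_V htD ht1)
  obtain ⟨j, hj⟩ := h.exists_sr ht' (h.not_mem_V ht'D ht'1)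
  obtain ⟨k, hk⟩ := dih_sr_conj h.r2 i j
  obtain ⟨d, hd, hdk⟩ := h.exists_mem (DihedralGroup.r k)
  refine ⟨d, hd, h.inj_on (mul_mem (mul_mem hd htD) (inv_mem hd)) ht'D ?_⟩
  rw [map_mul, map_mul, map_inv, hdk, hi, hk, hj]

/-- Two involutions with distinct images in the dihedral quotient normalize a common Sylow `r`-subgroup. -/
theorem DihCore.exists_sylow_normalized (h : DihCore V π R) {b b' : G} (hb : b * b = 1)
    (hb' : b' * b' = 1) {i j : ZMod r} (hi : π b = DihedralGroup.sr i) (hj : π b' = DihedralGroup.sr j)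
    (hij : i ≠ j) :
    ∃ R' : Sylow r G, b ∈ Subgroup.normalizer ((R' : Subgroup G) : Set G) ∧
      b' ∈ Subgroup.normalizer ((R' : Subgroup G) : Set G) := by
  obtain ⟨n, hn⟩ := h.card_V
  set x := b * b' with hx
  set m := 2 ^ (n + 1) with hm
  set y := x ^ m with hy
  have hGcard : Nat.card G = m * r := by rw [h.card_G, hn, hm]; ring
  have hyr : y ^ r = 1 := by rw [hy, ← pow_mul, ← hGcard]; exact pow_card_eq_one'
  have hπx : π x = DihedralGroup.r (j - i) := by rw [hx, map_mul, hi, hj, DihedralGroup.sr_mul_sr]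
  have hπy : π y = DihedralGroup.r ((j - i) * (m : ZMod r)) := by
    rw [hy, map_pow, hπx, DihedralGroup.r_pow]
  have hm0 : (m : ZMod r) ≠ 0 := by
    rw [hm]
    push_cast
    exact pow_ne_zero _ (two_ne_zero_zmod h.r2)
  have hy1 : y ≠ 1 := by
    intro h1
    rw [h1, map_one, DihedralGroup.one_def] at hπy
    injection hπy with h2
    rcases mul_eq_zero.mp h2.symm with h3 | h3
    · exact hij (sub_eq_zero.mp h3).symm
    · exact hm0 h3
  have hyo : orderOf y = r := orderOf_eq_prime hyr hy1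
  have hbinv : b⁻¹ = b := inv_eq_of_mul_eq_one_right hb
  have hb'inv : b'⁻¹ = b' := inv_eq_of_mul_eq_one_right hb'
  have hbx : b * x * b⁻¹ = x⁻¹ := by
    rw [hx, mul_inv_rev, hbinv, hb'inv]
    calc b * (b * b') * b = (b * b) * b' * b := by group
      _ = b' * b := by rw [hb, one_mul]
  have hb'x : b' * x * b'⁻¹ = x⁻¹ := by
    rw [hx, mul_inv_rev, hbinv, hb'inv]
    calc b' * (b * b') * b' = b' * b * (b' * b') := by group
      _ = b' * b := by rw [hb', mul_one]
  have hby : b * y * b⁻¹ = y⁻¹ := by rw [hy, ← conj_pow, hbx, inv_pow]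
  have hb'y : b' * y * b'⁻¹ = y⁻¹ := by rw [hy, ← conj_pow, hb'x, inv_pow]
  have hcard : Nat.card (Subgroup.zpowers y) = r ^ (Nat.card G).factorization r := by
    rw [Nat.card_zpowers, hyo, ← R.card_eq_multiplicity]
    exact h.card_R.symm
  refine ⟨Sylow.ofCard (Subgroup.zpowers y) hcard, ?_, ?_⟩
  · apply mem_normalizer_of_map_conj_eq
    rw [Sylow.coe_ofCard, MonoidHom.map_zpowers]
    show Subgroup.zpowers (b * y * b⁻¹) = _
    rw [hby, Subgroup.zpowers_inv]
  · apply mem_normalizer_of_map_conj_eq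
    rw [Sylow.coe_ofCard, MonoidHom.map_zpowers]
    show Subgroup.zpowers (b' * y * b'⁻¹) = _
    rw [hb'y, Subgroup.zpowers_inv]

theorem DihCore.succ_ne (j : ZMod r) : j ≠ j + 1 := by
  intro h
  have : Fact (1 < r) := ⟨hr.out.one_lt⟩
  have h1 : (1 : ZMod r) = 0 := by
    have := congrArg (fun t => t - j) h
    simpa using this.symm
  exact one_ne_zero h1

/-- An involution of `N_G(R)` mapping to a prescribed reflection. -/
theorem DihCore.exists_involution (h : DihCore V π R) (j : ZMod r) :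
    ∃ t ∈ Subgroup.normalizer ((R : Subgroup G) : Set G), π t = DihedralGroup.sr j ∧ t * t = 1 ∧ t ≠ 1 := by
  obtain ⟨t, htD, ht⟩ := h.exists_mem (DihedralGroup.sr j)
  refine ⟨t, htD, ht, ?_, ?_⟩
  · apply h.inj_on (mul_mem htD htD) (one_mem _)
    rw [map_mul, ht, DihedralGroup.sr_mul_self, map_one]
  · intro h1
    rw [h1, map_one, DihedralGroup.one_def] at ht
    cases ht

/-- Conjugating a normalizing element back. -/
theorem mem_normalizer_conj_iff {X : Type*} [Group X] (A : Subgroup X) (u b : X) :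
    b ∈ Subgroup.normalizer ((A.map (MulAut.conj u).toMonoidHom : Subgroup X) : Set X) ↔
      u⁻¹ * b * u ∈ Subgroup.normalizer (A : Set X) := by
  rw [normalizer_map_conj, mem_map_conj_iff]

/-- Every involution outside `V` is conjugate to any involution of `N_G(R)`. -/
theorem DihCore.conj_of_involution (h : DihCore V π R) {a b : G}
    (haD : a ∈ Subgroup.normalizer ((R : Subgroup G) : Set G)) (ha : a * a = 1) (ha1 : a ≠ 1)
    (hb : b * b = 1) (hbV : b ∉ V) : ∃ g : G, g * a * g⁻¹ = b := by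
  obtain ⟨j, hj⟩ := h.exists_sr hb hbV
  obtain ⟨t, htD, ht, ht2, ht1⟩ := h.exists_involution (j + 1)
  obtain ⟨R', hbR', -⟩ := h.exists_sylow_normalized hb ht2 hj ht (DihCore.succ_ne j)
  obtain ⟨u, hu⟩ := sylow_exists_conj R R'
  rw [hu, mem_normalizer_conj_iff] at hbR'
  have hb0 : (u⁻¹ * b * u) * (u⁻¹ * b * u) = 1 := by
    calc (u⁻¹ * b * u) * (u⁻¹ * b * u) = u⁻¹ * (b * b) * u := by group
      _ = 1 := by rw [hb]; group
  have hb1 : u⁻¹ * b * u ≠ 1 := by
    intro h1
    apply hbV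
    have : b = u * (u⁻¹ * b * u) * u⁻¹ := by group
    rw [this, h1]
    simp
  obtain ⟨d, -, hd⟩ := h.conj_in_D haD hbR' ha hb0 ha1 hb1
  refine ⟨u * d, ?_⟩
  calc u * d * a * (u * d)⁻¹ = u * (d * a * d⁻¹) * u⁻¹ := by group
    _ = b := by rw [hd]; group

/-- `|C_V(a)|² = |V|` for every involution `a` of `N_G(R)`. -/
theorem DihCore.card_sq (h : DihCore V π R) {a : G}
    (haD : a ∈ Subgroup.normalizer ((R : Subgroup G) : Set G)) (ha : a * a = 1) (ha1 : a ≠ 1) :
    Nat.card ↥(V ⊓ Subgroup.centralizer ({a} : Set G)) ^ 2 = Nat.card V := by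
  have hVn := h.normal
  obtain ⟨i, hi⟩ := h.exists_sr ha (h.not_mem_V haD ha1)
  obtain ⟨a', ha'D, ha'π, ha'2, ha'1⟩ := h.exists_involution (i + 1)
  obtain ⟨d, hd, hda⟩ := h.conj_in_D haD ha'D ha ha'2 ha1 ha'1
  have hπV : ∀ v ∈ V, π v = 1 := by
    intro v hv
    rw [← MonoidHom.mem_ker, h.ker]; exact hv
  set Ca := V ⊓ Subgroup.centralizer ({a} : Set G) with hCa
  set Ca' := V ⊓ Subgroup.centralizer ({a'} : Set G) with hCa'
  have hcomm : ∀ {x t : G}, x ∈ Subgroup.centralizer ({t} : Set G) ↔ t * x = x * t := by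
    intro x t
    rw [Subgroup.mem_centralizer_iff]
    constructor
    · intro hx; exact hx t (Set.mem_singleton t)
    · intro hx y hy
      rw [Set.mem_singleton_iff] at hy
      rw [hy]; exact hx
  -- equal cardinalities
  have hmap : Ca' = Ca.map (MulAut.conj d).toMonoidHom := by
    ext x
    rw [mem_map_conj_iff, hCa, hCa', Subgroup.mem_inf, Subgroup.mem_inf, hcomm, hcomm]
    constructor
    · rintro ⟨hxV, hx⟩
      refine ⟨?_, ?_⟩
      · have := hVn.conj_mem x hxV d⁻¹
        simpa using this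
      · rw [← hda] at hx
        calc a * (d⁻¹ * x * d) = d⁻¹ * ((d * a * d⁻¹) * x) * d := by group
          _ = d⁻¹ * (x * (d * a * d⁻¹)) * d := by rw [hx]
          _ = d⁻¹ * x * d * a := by group
    · rintro ⟨hxV, hx⟩
      refine ⟨?_, ?_⟩
      · have := hVn.conj_mem _ hxV d
        have h2 : d * (d⁻¹ * x * d) * d⁻¹ = x := by group
        rwa [h2] at this
      · rw [← hda]
        calc d * a * d⁻¹ * x = d * (a * (d⁻¹ * x * d)) * d⁻¹ := by group
          _ = d * ((d⁻¹ * x * d) * a) * d⁻¹ := by rw [hx]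
          _ = x * (d * a * d⁻¹) := by group
  have hcard_eq : Nat.card Ca' = Nat.card Ca := by
    rw [hmap, Subgroup.card_map_of_injective (MulAut.conj d).injective]
  -- trivial intersection
  have hdisj : ∀ x : G, x ∈ Ca → x ∈ Ca' → x = 1 := by
    intro x hx hx'
    rw [hCa, Subgroup.mem_inf, hcomm] at hx
    rw [hCa', Subgroup.mem_inf, hcomm] at hx'
    set y := a * a' with hy
    have hyD : y ∈ Subgroup.normalizer ((R : Subgroup G) : Set G) := mul_mem haD ha'D
    have hπy : π y = DihedralGroup.r 1 := by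
      rw [hy, map_mul, hi, ha'π, DihedralGroup.sr_mul_sr]
      congr 1
      ring
    have hyr : y ^ r = 1 := by
      apply h.inj_on (pow_mem hyD r) (one_mem _)
      rw [map_pow, hπy, map_one, DihedralGroup.r_one_pow_n]
    have hy1 : y ≠ 1 := by
      intro h1
      rw [h1, map_one, DihedralGroup.one_def] at hπy
      injection hπy with h2
      have : Fact (1 < r) := ⟨hr.out.one_lt⟩
      exact zero_ne_one h2
    have hyo : orderOf y = r := orderOf_eq_prime hyr hy1
    have hzp : IsPGroup r (Subgroup.zpowers y) :=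
      IsPGroup.of_card (n := 1) (by rw [Nat.card_zpowers, hyo, pow_one])
    have hzN : Subgroup.zpowers y ≤ Subgroup.normalizer ((R : Subgroup G) : Set G) := by
      rw [Subgroup.zpowers_le]; exact hyD
    have hsup : IsPGroup r (Subgroup.zpowers y ⊔ (R : Subgroup G) : Subgroup G) :=
      IsPGroup.to_sup_of_normal_right' hzp R.isPGroup' hzN
    have hmax := R.is_maximal' hsup le_sup_right
    have hzR : Subgroup.zpowers y ≤ (R : Subgroup G) := by
      rw [← hmax]; exact le_sup_left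
    have hzeq : Subgroup.zpowers y = (R : Subgroup G) := by
      apply Subgroup.eq_of_le_of_card_ge hzR
      rw [Nat.card_zpowers, hyo, h.card_R]
    have hxy : y * x = x * y := by
      rw [hy]
      calc a * a' * x = a * (a' * x) := by group
        _ = a * (x * a') := by rw [hx'.2]
        _ = (a * x) * a' := by group
        _ = (x * a) * a' := by rw [hx.2]
        _ = x * (a * a') := by group
    have hxc : x ∈ V ⊓ Subgroup.centralizer ((R : Subgroup G) : Set G) := by
      refine Subgroup.mem_inf.mpr ⟨hx.1, ?_⟩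
      rw [← hzeq, Subgroup.mem_centralizer_iff]
      intro z hz
      obtain ⟨k, rfl⟩ := Subgroup.mem_zpowers_iff.mp hz
      exact ((Commute.zpow_left (show Commute y x from hxy) k)).eq
    rw [h.cent, Subgroup.mem_bot] at hxc
    exact hxc
  -- factorization
  have hfact : ∀ v ∈ V, ∃ u ∈ Ca', ∃ w ∈ Ca, v = u * w := by
    intro v hv
    set b := v * a * v⁻¹ with hb
    have hb2 : b * b = 1 := by
      calc b * b = v * (a * a) * v⁻¹ := by rw [hb]; group
        _ = 1 := by rw [ha]; group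
    have hπb : π b = DihedralGroup.sr i := by
      rw [hb, map_mul, map_mul, map_inv, hπV v hv, hi]
      simp
    obtain ⟨R', hbR', ha'R'⟩ := h.exists_sylow_normalized hb2 ha'2 hπb ha'π (DihCore.succ_ne i)
    obtain ⟨g, hg⟩ := sylow_exists_conj R R'
    -- g = u * d'
    have hgmem : g ∈ ((V ⊔ Subgroup.normalizer ((R : Subgroup G) : Set G) : Subgroup G) : Set G) := by
      rw [sup_comm, h.normalizer_sup]; trivial
    rw [Subgroup.normal_mul] at hgmem
    obtain ⟨u, hu, d', hd', rfl⟩ := Set.mem_mul.mp hgmem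
    rw [conj_mul_map, map_conj_eq_self_of_le_normalizer le_rfl hd'] at hg
    rw [hg, mem_normalizer_conj_iff] at hbR' ha'R'
    have hπu : π u = 1 := hπV u hu
    have h1 : u⁻¹ * a' * u = a' := by
      apply h.inj_on ha'R' ha'D
      rw [map_mul, map_mul, map_inv, hπu]
      simp
    have h2 : u⁻¹ * b * u = a := by
      apply h.inj_on hbR' haD
      rw [map_mul, map_mul, map_inv, hπu, hπb, hi]
      simp
    refine ⟨u, ?_, u⁻¹ * v, ?_, by group⟩
    · rw [hCa', Subgroup.mem_inf, hcomm]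
      refine ⟨hu, ?_⟩
      calc a' * u = u * (u⁻¹ * a' * u) := by group
        _ = u * a' := by rw [h1]
    · rw [hCa, Subgroup.mem_inf, hcomm]
      refine ⟨V.mul_mem (V.inv_mem hu) hv, ?_⟩
      rw [hb] at h2
      calc a * (u⁻¹ * v) = (u⁻¹ * (v * a * v⁻¹) * u) * (u⁻¹ * v) := by rw [h2]
        _ = u⁻¹ * v * a := by group
  -- the bijection
  have hbij : Function.Bijective (fun q : ↥Ca' × ↥Ca => (⟨(q.1 : G) * (q.2 : G),
      V.mul_mem (Subgroup.mem_inf.mp q.1.2).1 (Subgroup.mem_inf.mp q.2.2).1⟩ : ↥V)) := by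
    constructor
    · rintro ⟨u, w⟩ ⟨u', w'⟩ heq
      have heq' : (u : G) * (w : G) = (u' : G) * (w' : G) := congrArg Subtype.val heq
      have h3 : (u' : G)⁻¹ * (u : G) = (w' : G) * (w : G)⁻¹ := by
        calc (u' : G)⁻¹ * (u : G) = (u' : G)⁻¹ * ((u : G) * (w : G)) * (w : G)⁻¹ := by group
          _ = (u' : G)⁻¹ * ((u' : G) * (w' : G)) * (w : G)⁻¹ := by rw [heq']
          _ = (w' : G) * (w : G)⁻¹ := by group
      have h4 : (u' : G)⁻¹ * (u : G) ∈ Ca' := Ca'.mul_mem (Ca'.inv_mem u'.2) u.2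
      have h5 : (u' : G)⁻¹ * (u : G) ∈ Ca := by rw [h3]; exact Ca.mul_mem w'.2 (Ca.inv_mem w.2)
      have h6 := hdisj _ h5 h4
      have h7 : (u : G) = (u' : G) := by
        have := inv_mul_eq_one.mp h6
        exact this.symm
      have h8 : (w : G) = (w' : G) := by
        rw [h7] at heq'
        exact mul_left_cancel heq'
      exact Prod.ext (Subtype.ext h7) (Subtype.ext h8)
    · rintro ⟨v, hv⟩
      obtain ⟨u, hu, w, hw, hvuw⟩ := hfact v hv
      exact ⟨(⟨u, hu⟩, ⟨w, hw⟩), Subtype.ext hvuw.symm⟩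
  have hcard := Nat.card_congr (Equiv.ofBijective _ hbij)
  rw [Nat.card_prod, hcard_eq] at hcard
  rw [pow_two]
  exact hcard

end Core

end Cfsg.Agent.Helper28
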