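import Mathlib
import Cfsg.Agent.Lib.Helper28.InvNCollect

/-!
# Conjugation chains with the conjugators in a subgroup (helper28; for the twisted groups, S2182)

`CJ1 G₁ a b`: `a` and `b` are conjugate under the subgroup `G₁` of `GL`.  A chain of moves (conjugation by `x_r(1)`,
`r` in a list `X` of admissible roots, or by `n_c`, `c` in a list `W` of admissible words) is checked by
`applyChain1`; if `x_r(1) ∈ G₁` for `r ∈ X` and `n_c ∈ G₁` for `c ∈ W`, the ends of the chain are conjugate under `G₁`.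
-/

set_option autoImplicit false
set_option linter.unusedSectionVars false
set_option linter.unusedVariables false

namespace Cfsg.Agent.Helper28.TwC

open Cfsg Cfsg.Lie Cfsg.Agent.Lead.Chev Cfsg.Agent.Helper13.InvN

variable {F : Type*} [Field F] {D : ChevalleyDatum}

/-- conjugacy under a subgroup of `GL` -/
def CJ1 (G₁ : Subgroup (GL D.Idx F)) (a b : GL D.Idx F) : Prop := ∃ c ∈ G₁, c * a * c⁻¹ = b

theorem CJ1.refl (G₁ : Subgroup (GL D.Idx F)) (a : GL D.Idx F) : CJ1 G₁ a a := ⟨1, one_mem _, by group⟩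

theorem CJ1.symm {G₁ : Subgroup (GL D.Idx F)} {a b : GL D.Idx F} (h : CJ1 G₁ a b) : CJ1 G₁ b a := by
  obtain ⟨c, hc, e⟩ := h
  exact ⟨c⁻¹, inv_mem hc, by rw [← e]; group⟩

theorem CJ1.trans {G₁ : Subgroup (GL D.Idx F)} {a b c : GL D.Idx F} (h : CJ1 G₁ a b) (h' : CJ1 G₁ b c) :
    CJ1 G₁ a c := by
  obtain ⟨x, hx, e⟩ := h
  obtain ⟨y, hy, e'⟩ := h'
  exact ⟨y * x, mul_mem hy hx, by rw [← e', ← e]; group⟩

theorem CJ1.of_eq {G₁ : Subgroup (GL D.Idx F)} {a b : GL D.Idx F} (h : a = b) : CJ1 G₁ a b := h ▸ CJ1.refl G₁ a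

/-- conjugacy under a subgroup of the Chevalley group is conjugacy in the Chevalley group -/
theorem CJ1.toCJ {G₁ : Subgroup (GL D.Idx F)} (hle : G₁ ≤ D.group F) {a b : GL D.Idx F} (h : CJ1 G₁ a b) :
    CJ D F a b := by
  obtain ⟨c, hc, e⟩ := h
  exact ⟨c, hle hc, e⟩

/-- monotonicity in the subgroup -/
theorem CJ1.mono {G₁ G₂ : Subgroup (GL D.Idx F)} (hle : G₁ ≤ G₂) {a b : GL D.Idx F} (h : CJ1 G₁ a b) :
    CJ1 G₂ a b := by
  obtain ⟨c, hc, e⟩ := h
  exact ⟨c, hle hc, e⟩

/-- validity of a move relative to the lists of admissible roots and words -/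
def moveOK1 (D : ChevalleyDatum) (X : List ℕ) (W : List (List ℕ)) (m : Move) (L : List ℕ) : Bool :=
  match m with
  | .x r => decide (r ∈ X)
  | .w c => decide (c ∈ W) && c.all (fun i => decide (i < D.rank)) && L.all (fun r => decide (r < D.nroots))

/-- apply a chain of admissible moves -/
def applyChain1 (D : ChevalleyDatum) (fuel : ℕ) (X : List ℕ) (W : List (List ℕ)) :
    List Move → List ℕ → Option (List ℕ)
  | [], L => some L
  | m :: ms, L => if moveOK1 D X W m L then applyChain1 D fuel X W ms (applyMove D fuel m L) else none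

section sound

variable [CharP F 2] (hF : ChevFacts D F) (G₁ : Subgroup (GL D.Idx F)) (X : List ℕ) (W : List (List ℕ))
  (hX : ∀ r ∈ X, xGL D hF.xadd r (1 : F) ∈ G₁) (hW : ∀ c ∈ W, nWordGL D hF.xadd c ∈ G₁)
include hX hW

theorem CJ1.applyMove (fuel : ℕ) (m : Move) (L : List ℕ) (h : moveOK1 D X W m L = true) :
    CJ1 G₁ (xprod hF L) (xprod hF (applyMove D fuel m L)) := by
  cases m with
  | x r =>
    simp only [moveOK1, decide_eq_true_eq] at h
    simp only [Cfsg.Agent.Helper13.InvN.applyMove]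
    rw [xprod_collect, xprod_cons, xprod_append, xprod_cons, xprod_nil, mul_one]
    refine ⟨xGL D hF.xadd r 1, hX r h, ?_⟩
    rw [xGL_one_inv hF, mul_assoc]
  | w c =>
    simp only [moveOK1, Bool.and_eq_true, List.all_eq_true, decide_eq_true_eq] at h
    simp only [Cfsg.Agent.Helper13.InvN.applyMove]
    rw [xprod_collect]
    exact ⟨nWordGL D hF.xadd c, hW c h.1.1, xprod_wmove hF c h.1.2 L h.2⟩

theorem CJ1.applyChain (fuel : ℕ) (ms : List Move) (L L' : List ℕ)
    (h : applyChain1 D fuel X W ms L = some L') : CJ1 G₁ (xprod hF L) (xprod hF L') := by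
  induction ms generalizing L with
  | nil =>
    simp only [applyChain1, Option.some.injEq] at h
    exact CJ1.of_eq (by rw [h])
  | cons m ms ih =>
    simp only [applyChain1] at h
    split_ifs at h with h1
    exact (CJ1.applyMove hF G₁ X W hX hW fuel m L h1).trans (ih _ h)

end sound

end Cfsg.Agent.Helper28.TwC
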