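import Mathlib
import Cfsg.Agent.Lib.Helper28.TwCJ
import Cfsg.Agent.Lib.Lead.TwE6Grp
import Cfsg.Agent.Lib.Lead.ChevOrderAll

/-!
# `²E₆(q)`, `q` even: fusion of the products of root elements over frames of fixed roots (helper28, for S2182)

The twelve positive roots of `E₆` fixed by the graph automorphism form the positive system of a `D₄`.  With the
conjugators `x_r(1)` (`r` a fixed positive root) and `n_v` (`v` one of the four classes `[1]`, `[3]`, `[0,5]`, `[2,4]` of
fundamental roots), all in `²E₆(q)`: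

* `x₇₁ x₆₀ x₄₄ x₃₉ ~ x₇₁ x₆₀ x₄₄` and `x₆₉ x₆₅ x₅₃ ~ x₇₁ x₆₀ x₄₄` under `²E₆(q)` (chains GENERATED by a breadth-first
  search in `U(D₄)(2)`, checked by `decide +kernel` with the verified collector).
-/

set_option autoImplicit false
set_option linter.unusedSectionVars false
set_option linter.unusedVariables false
set_option maxRecDepth 100000

namespace Cfsg.Agent.Helper28.E6T

open Cfsg Cfsg.Lie Cfsg.Agent.Lead.Chev Cfsg.Agent.Helper13.InvN Cfsg.Agent.Helper28.TwC
  Cfsg.Agent.Lead.Tw Cfsg.Agent.Lead.Tw.E6 Cfsg.Agent.Helper6.ChevC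

/-- the positive roots fixed by the graph automorphism -/
def fixPos : List ℕ := [39, 44, 46, 47, 51, 53, 60, 63, 65, 69, 70, 71]

/-- the classes of fundamental roots -/
def clsW : List (List ℕ) := [[1], [3], [0, 5], [2, 4]]

theorem clsW_eq : clsW = Cfsg.Agent.Lead.Tw.E6.S := rfl

theorem fixPos_fixed : ∀ r ∈ fixPos, GE6.gp.π r = r ∧ chevE6.IsPosRoot r := by decide +kernel

/-- the chain `[71, 60, 44, 39] → [44, 60, 71]` -/
def chain4 : List Move :=
  [.x 47, .x 44, .x 51, .x 63, .w [1], .w [3], .w [2, 4], .w [3], .w [1], .w [0, 5], .w [2, 4]]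

/-- the chain `[69, 65, 53] → [44, 60, 71]` -/
def chain3 : List Move := [.w [3], .w [1]]

theorem chain4_ok : applyChain1 chevE6 400 fixPos clsW chain4 [71, 60, 44, 39] = some [44, 60, 71] := by
  decide +kernel

theorem chain3_ok : applyChain1 chevE6 400 fixPos clsW chain3 [69, 65, 53] = some [44, 60, 71] := by
  decide +kernel

theorem sort3_ok : collect chevE6 50 [71, 60, 44] = [44, 60, 71] := by decide +kernel

section

variable {K : Type*} [Field K] [Fintype K] [CharP K 2] {q : ℕ} (hK : Fintype.card K = q ^ 2)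
  (f : K ≃+* K) (hf : ∀ t, f t = t ^ q)
include hK hf

/-- the `TwGroup` facts of `²E₆(q)` -/
theorem twGroupE6 : TwGroup (hF (K := K)) (tw f) (twistedE6 K q) Cfsg.Agent.Lead.Tw.E6.S := by
  rw [twisted_eq hK f hf]
  exact (orthData f).twGroup (corSize_of_mem _ hmem) (corComb_of_mem _ hmem)

/-- `x_r(1) ∈ ²E₆(q)` for a fixed positive root `r` -/
theorem x_fix_mem (r : ℕ) (hr : r ∈ fixPos) : xGL chevE6 (hF (K := K)).xadd r (1 : K) ∈ twistedE6 K q := by
  obtain ⟨h1, h2⟩ := fixPos_fixed r hr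
  apply (twGroupE6 hK f hf).U_le _ (xGL_mem_posUnipotent chevE6 _ r h2 1)
  rw [(tw f).map_x r h2.1]
  have e1 : (tw f).ρ r = r := h1
  have e2 : (tw f).c r 1 = 1 := by
    show ((GE6.gp.ε r : ℤ) : K) * f 1 = 1
    rw [map_one, mul_one]
    rcases GE6.data.hε r with e | e <;> rw [e]
    · simp
    · simp [CharTwo.neg_eq]
  rw [e1, e2]

/-- `n_v ∈ ²E₆(q)` for a class `v` -/
theorem n_cls_mem (c : List ℕ) (hc : c ∈ clsW) : nWordGL chevE6 (hF (K := K)).xadd c ∈ twistedE6 K q :=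
  (twGroupE6 hK f hf).s_mem c hc

/-- conjugacy under `²E₆(q)` from a checked chain -/
theorem cj1_of_chain (fuel : ℕ) (ms : List Move) (L L' : List ℕ)
    (h : applyChain1 chevE6 fuel fixPos clsW ms L = some L') :
    CJ1 (twistedE6 K q) (xprod (hF (K := K)) L) (xprod hF L') :=
  CJ1.applyChain hF (twistedE6 K q) fixPos clsW (x_fix_mem hK f hf) (n_cls_mem hK f hf) fuel ms L L' h

theorem xprod_sort3 : xprod (hF (K := K)) [44, 60, 71] = xprod hF [71, 60, 44] := by
  rw [← sort3_ok, xprod_collect]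

/-- `x₇₁ x₆₀ x₄₄ x₃₉ ~ x₇₁ x₆₀ x₄₄` under `²E₆(q)` -/
theorem fuse4 : CJ1 (twistedE6 K q) (xprod (hF (K := K)) [71, 60, 44, 39]) (xprod hF [71, 60, 44]) := by
  have h := cj1_of_chain hK f hf 400 chain4 _ _ chain4_ok
  rwa [xprod_sort3 hK f hf] at h

/-- `x₆₉ x₆₅ x₅₃ ~ x₇₁ x₆₀ x₄₄` under `²E₆(q)` -/
theorem fuse3 : CJ1 (twistedE6 K q) (xprod (hF (K := K)) [69, 65, 53]) (xprod hF [71, 60, 44]) := by
  have h := cj1_of_chain hK f hf 400 chain3 _ _ chain3_ok
  rwa [xprod_sort3 hK f hf] at h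

end

end Cfsg.Agent.Helper28.E6T
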