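import Mathlib
import Cfsg.Agent.Lib.Helper28.TwCJ
import Cfsg.Agent.Lib.Helper19.InvNBMAIN

/-!
# Part B of the involution theorem relative to a subgroup `G₁` (helper28; for the twisted groups, S2182)

If the elements `x_{±β}(1)`, `β` in a frame, lie in `G₁`, then an element `h n_w ∈ G₁` of square one, `w` acting as the
product of the reflections of the frame, is conjugate UNDER `G₁` to the product of the `x_β(1)`.
(The proof of helper19's `conj_frame_core` with explicit conjugators: `z = ∏ x_{-β}(1)`, `k₁` a power of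
`h n_w (∏ n_β)⁻¹`.)
-/

set_option autoImplicit false
set_option linter.unusedSectionVars false
set_option linter.unusedVariables false

namespace Cfsg.Agent.Helper28.TwC

open Cfsg Cfsg.Lie Cfsg.Agent.Lead.Chev Cfsg.Agent.Helper6.ChevL Cfsg.Agent.Helper13.InvN

variable {F : Type*} [Field F] {D : ChevalleyDatum} (hF : ChevFacts D F) (hS : CorSize D) (hI : CorInj D)
include hF hS hI

theorem zprod_mem (G₁ : Subgroup (GL D.Idx F)) (L : List ℕ)
    (hz : ∀ r ∈ L, xGL D hF.xadd (D.neg r) (1 : F) ∈ G₁) : frame_zprod hF L ∈ G₁ := by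
  unfold frame_zprod
  apply Subgroup.list_prod_mem
  intro x hx
  obtain ⟨r, hr, rfl⟩ := List.mem_map.1 hx
  exact hz r hr

theorem xprod_mem (G₁ : Subgroup (GL D.Idx F)) (L : List ℕ)
    (hy : ∀ r ∈ L, xGL D hF.xadd r (1 : F) ∈ G₁) : xprod hF L ∈ G₁ := by
  unfold xprod
  apply Subgroup.list_prod_mem
  intro x hx
  obtain ⟨r, hr, rfl⟩ := List.mem_map.1 hx
  exact hy r hr

/-- the core: `FRAME` with `z ∈ G₁`, and `TORUS`, as hypotheses -/
theorem conj_frame_core1 (G₁ : Subgroup (GL D.Idx F)) (S : Frame) (hS' : frameOK D S = true)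
    (hframe : ∃ z ∈ G₁, ∃ n ∈ D.monomialSubgroup F,
      z * xprod hF (frameRoots D S) * z⁻¹ = n ∧ n * n = 1 ∧
      ∃ k ∈ D.diagonalSubgroup F, n = k * nWordGL D hF.xadd (frameWord S))
    (hP : xprod hF (frameRoots D S) ∈ G₁)
    (htorus : ∀ h : GL D.Idx F, h ∈ D.diagonalSubgroup F → ∃ m : ℕ, (h ^ m) * (h ^ m) = h)
    (w : List ℕ) (hw : WOK D w)
    (hact : ∀ r < D.nroots, reflWord D w r = reflWord D (frameWord S) r)
    (h : GL D.Idx F) (hh : h ∈ D.diagonalSubgroup F)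
    (ht : h * nWordGL D hF.xadd w ∈ G₁)
    (hsq : (h * nWordGL D hF.xadd w) * (h * nWordGL D hF.xadd w) = 1) :
    CJ1 G₁ (h * nWordGL D hF.xadd w) (xprod hF (frameRoots D S)) := by
  obtain ⟨z, hz, n, hn, ezn, hnn, k, hk, enk⟩ := hframe
  have hfw := bmain_frameWord_ok hF hS hI S hS'
  have hk' := hF.nWordGL_inv_mul_mem_diagonal w (frameWord S) hw hfw hact
  generalize hnw : nWordGL D hF.xadd w = nw at *
  generalize hnf : nWordGL D hF.xadd (frameWord S) = nf at *
  generalize hPP : xprod hF (frameRoots D S) = P at *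
  have hnG : n ∈ G₁ := by
    rw [← ezn]
    exact mul_mem (mul_mem hz hP) (inv_mem hz)
  set k' := nw⁻¹ * nf with hk'def
  have hc1 : nf * k'⁻¹ * nf⁻¹ ∈ D.diagonalSubgroup F := by
    rw [← hnf]
    exact nWordGL_conj_mem_diagonal D hF.xadd (etaOf D) hF.nsimple (frameWord S) hfw _ (inv_mem hk')
  have hc2 : n * k'⁻¹ * n⁻¹ ∈ D.diagonalSubgroup F := by
    have : n * k'⁻¹ * n⁻¹ = k * (nf * k'⁻¹ * nf⁻¹) * k⁻¹ := by rw [enk]; group
    rw [this]
    exact mul_mem (mul_mem hk hc1) (inv_mem hk)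
  set h'' := h * k⁻¹ * (n * k'⁻¹ * n⁻¹) with hh''def
  have hh'' : h'' ∈ D.diagonalSubgroup F := mul_mem (mul_mem hh (inv_mem hk)) hc2
  have et : h * nw = h'' * n := by
    rw [hh''def, enk, hk'def]; group
  have hh''G : h'' ∈ G₁ := by
    have : h'' = (h * nw) * n⁻¹ := by rw [et]; group
    rw [this]
    exact mul_mem ht (inv_mem hnG)
  rw [et] at hsq ⊢
  have hninv : n⁻¹ = n := inv_eq_of_mul_eq_one_left hnn
  have hconj : n * h'' * n⁻¹ = h''⁻¹ := by
    rw [hninv]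
    have : h'' * (n * h'' * n) = 1 := by rw [← hsq]; group
    exact (inv_eq_of_mul_eq_one_right this).symm
  obtain ⟨m, hm⟩ := htorus h'' hh''
  set k₁ := h'' ^ m with hk₁def
  have hk₁G : k₁ ∈ G₁ := pow_mem hh''G m
  have hconj₁ : n * k₁ * n⁻¹ = k₁⁻¹ := by
    have : n * k₁ * n⁻¹ = (n * h'' * n⁻¹) ^ m := by
      rw [hk₁def, conj_pow]
    rw [this, hconj, inv_pow]
  have e1 : k₁ * n * k₁⁻¹ = h'' * n := by
    have : k₁ * n * k₁⁻¹ = k₁ * (n * k₁ * n⁻¹)⁻¹ * n := by group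
    rw [this, hconj₁, inv_inv, hm]
  refine ⟨(k₁ * z)⁻¹, inv_mem (mul_mem hk₁G hz), ?_⟩
  rw [← e1, ← ezn]
  group

section char2

variable [CharP F 2]

/-- **Part B relative to `G₁`** -/
theorem conj_frame1 [Fintype F] (hd : ∀ j < D.rank, D.cartan j (D.simple j) = 2)
    (G₁ : Subgroup (GL D.Idx F)) (S : Frame) (hS' : frameOK D S = true)
    (hy : ∀ r ∈ frameRoots D S, xGL D hF.xadd r (1 : F) ∈ G₁)
    (hz : ∀ r ∈ frameRoots D S, xGL D hF.xadd (D.neg r) (1 : F) ∈ G₁)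
    (w : List ℕ) (hw : WOK D w)
    (hact : ∀ r < D.nroots, reflWord D w r = reflWord D (frameWord S) r)
    (h : GL D.Idx F) (hh : h ∈ D.diagonalSubgroup F)
    (ht : h * nWordGL D hF.xadd w ∈ G₁)
    (hsq : (h * nWordGL D hF.xadd w) * (h * nWordGL D hF.xadd w) = 1) :
    CJ1 G₁ (h * nWordGL D hF.xadd w) (xprod hF (frameRoots D S)) := by
  have hS'' := hS'
  unfold frameOK at hS''
  rw [Bool.and_eq_true, List.all_eq_true, decide_eq_true_eq] at hS''
  obtain ⟨hval, hp⟩ := hS''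
  have hv : ∀ e ∈ S, WOK D e.1 ∧ e.2 < D.rank := by
    intro e he
    have := hval e he
    rw [Bool.and_eq_true, List.all_eq_true, decide_eq_true_eq] at this
    refine ⟨?_, this.2⟩
    intro i hi
    exact of_decide_eq_true (this.1 i hi)
  have hlt : ∀ γ ∈ frameRoots D S, γ < D.nroots := by
    intro γ hγ
    unfold frameRoots at hγ
    obtain ⟨e, he, rfl⟩ := List.mem_map.1 hγ
    unfold froot
    exact reflWord_lt D (etaOf D) hF.facts e.1 (hv e he).1 _ (hF.simple_lt e.2 (hv e he).2)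
  obtain ⟨c1, c2⟩ := frame_conj hF hS hI
    (fun r s hr hs h t u => comm_of_evenComm_B hF hS hI r s hr hs h t u)
    (fun r hr => nGL_eq_conj hF hS hI hd r hr)
    (fun r hr => nGL_sq hF hS hI hd r hr) (frameRoots D S) hlt hp
  obtain ⟨k, hk, ek, -⟩ := frame_mprod_word hF hS hI S hv
  exact conj_frame_core1 hF hS hI G₁ S hS'
    ⟨frame_zprod hF (frameRoots D S), zprod_mem hF hS hI G₁ _ hz,
      frame_mprod hF (frameRoots D S), frame_mprod_mem_monomial hF hS hI _ hlt, c1, c2, k, hk, ek⟩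
    (xprod_mem hF hS hI G₁ _ hy) (fun k hk => diag_sqrt hF hS hI k hk) w hw hact h hh ht hsq

end char2

end Cfsg.Agent.Helper28.TwC
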