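import Mathlib
import Cfsg.Agent.Lib.Helper28.TwFrame
import Cfsg.Agent.Lib.Helper28.E6TwC2
import Cfsg.Agent.Lib.Helper6.ChevLTriv
import Cfsg.Agent.Lib.Lead.TwCore

/-!
# `²E₆(q)`, `q` even: Part B for frames of fixed positive roots (helper28, for S2182)

* `x_negfix_mem`: `x_{-r}(1) ∈ ²E₆(q)` for a positive root `r` fixed by the graph automorphism (conjugate `x_r(1)` by
  `n_{w₀}`, `w₀ r = -r`).
* `conj_frame_tw`: an element `h n_w ∈ ²E₆(q)` of square one, `w` acting as the product of the reflections in a frame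
  of fixed positive roots, is conjugate under `²E₆(q)` to the product of the `x_β(1)` of the frame.
-/

set_option autoImplicit false
set_option linter.unusedSectionVars false
set_option linter.unusedVariables false
set_option maxRecDepth 100000

namespace Cfsg.Agent.Helper28.E6T

open Cfsg Cfsg.Lie Cfsg.Agent.Lead.Chev Cfsg.Agent.Helper13.InvN Cfsg.Agent.Helper28.TwC
  Cfsg.Agent.Lead.Tw Cfsg.Agent.Lead.Tw.E6 Cfsg.Agent.Helper6.ChevC

/-- the word of the longest element -/
def w0E6 : List ℕ := wordOf Cfsg.Agent.Lead.Tw.E6.l₀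

theorem w0E6_ok : (∀ i ∈ w0E6, i < chevE6.rank) ∧ ∀ r ∈ fixPos, reflWord chevE6 w0E6 r = chevE6.neg r := by
  decide +kernel

theorem l₀_mem : ∀ v ∈ Cfsg.Agent.Lead.Tw.E6.l₀, v ∈ Cfsg.Agent.Lead.Tw.E6.S := by decide

/-- all roots of the frame are fixed positive roots -/
def frameFix (S : Frame) : Bool := (frameRoots chevE6 S).all fun r => decide (r ∈ fixPos)

section

variable {K : Type*} [Field K] [Fintype K] [CharP K 2] {q : ℕ} (hK : Fintype.card K = q ^ 2)
  (f : K ≃+* K) (hf : ∀ t, f t = t ^ q)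
include hK hf

/-- `n_{w₀} ∈ ²E₆(q)` -/
theorem n_w0_mem : nWordGL chevE6 (hF (K := K)).xadd w0E6 ∈ twistedE6 K q := by
  rw [twisted_eq hK f hf]
  exact (orthData f).nWordGL_wordOf_mem _ l₀_mem

/-- `x_{-r}(1) ∈ ²E₆(q)` for a fixed positive root `r` -/
theorem x_negfix_mem (r : ℕ) (hr : r ∈ fixPos) :
    xGL chevE6 (hF (K := K)).xadd (chevE6.neg r) (1 : K) ∈ twistedE6 K q := by
  have h1 := xprod_wmove (hF (K := K)) w0E6 w0E6_ok.1 [r]
    (fun s hs => by rw [List.mem_singleton.1 hs]; exact (fixPos_fixed r hr).2.1)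
  rw [List.map_cons, List.map_nil, w0E6_ok.2 r hr, xprod_cons, xprod_cons, xprod_nil, mul_one, mul_one] at h1
  rw [← h1]
  exact mul_mem (mul_mem (n_w0_mem hK f hf) (x_fix_mem hK f hf r hr)) (inv_mem (n_w0_mem hK f hf))

/-- **Part B inside `²E₆(q)`** for a frame of fixed positive roots -/
theorem conj_frame_tw (S : Frame) (hS' : frameOK chevE6 S = true) (hfix : frameFix S = true)
    (w : List ℕ) (hw : WOK chevE6 w)
    (hact : ∀ r < chevE6.nroots, reflWord chevE6 w r = reflWord chevE6 (frameWord S) r)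
    (h : GL chevE6.Idx K) (hh : h ∈ chevE6.diagonalSubgroup K)
    (ht : h * nWordGL chevE6 (hF (K := K)).xadd w ∈ twistedE6 K q)
    (hsq : (h * nWordGL chevE6 (hF (K := K)).xadd w) * (h * nWordGL chevE6 (hF (K := K)).xadd w) = 1) :
    CJ1 (twistedE6 K q) (h * nWordGL chevE6 (hF (K := K)).xadd w) (xprod hF (frameRoots chevE6 S)) := by
  unfold frameFix at hfix
  rw [List.all_eq_true] at hfix
  have hmemR : ∀ r ∈ frameRoots chevE6 S, r ∈ fixPos := fun r hr => of_decide_eq_true (hfix r hr)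
  exact conj_frame1 hF (corSize_of_mem _ hmem) (corInj_of_mem _ hmem)
    (Cfsg.Agent.Helper6.ChevL.diag2_of_mem _ hmem) (twistedE6 K q) S hS'
    (fun r hr => x_fix_mem hK f hf r (hmemR r hr)) (fun r hr => x_negfix_mem hK f hf r (hmemR r hr))
    w hw hact h hh ht hsq

end

end Cfsg.Agent.Helper28.E6T
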