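import Mathlib
import Cfsg.Agent.Lib.Helper16.InvNRankE6

/-!
# Ranks of `t - 1` on the adjoint module of type `E₆` in characteristic 2 for the representatives `x₇₁(1)`,
`x₇₁(1) x₆₀(1)`, `x₇₁(1) x₆₀(1) x₄₄(1)` (all three roots fixed by the graph automorphism) - helper28 for S2182.

Certificates GENERATED (Gaussian elimination over `GF(2)`), checked by `decide +kernel` through helper16's verified
sparse calculator (`Lib/Helper16/InvNRank.lean`).  The rank of `x₇₁(1) - 1` is `rank_E6_1` of helper16.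
-/

set_option autoImplicit false
set_option maxRecDepth 100000

namespace Cfsg.Agent.Helper28.E6T

open Matrix Cfsg Cfsg.Lie Cfsg.Agent.Lead.Chev Cfsg.Agent.Helper13.InvN Cfsg.Agent.Helper16.RK

/-- lower-bound certificate for `[71, 60]` -/
def lbE6t_2 : List (ℕ × List ℕ) :=
  [(66, [0]), (77, [0, 1]), (0, [0, 1, 6]), (24, [7, 24]), (26, [8, 26]), (27, [9, 27]), (55, [10]), (29, [11, 29]), (30, [12, 30]), (58, [13]), (31, [14, 31]), (60, [15]), (61, [16]), (2, [1, 6, 17]), (42, [18]), (44, [19]), (47, [20]), (51, [21]), (67, [22]), (68, [23]), (69, [24]), (70, [25]), (71, [26]), (72, [27]), (73, [28]), (74, [29]), (75, [30]), (76, [31]), (62, [32]), (63, [36]), (64, [39]), (65, [41])]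

/-- upper-bound (kernel) certificate for `[71, 60]` -/
def ubE6t_2 : List (ℕ × List ℕ) :=
  [(2, [2]), (3, [3]), (4, [4]), (5, [0, 5]), (33, [33]), (34, [34]), (35, [35]), (37, [37]), (38, [38]), (40, [40]), (42, [42]), (43, [43]), (44, [44]), (45, [45]), (46, [46]), (47, [47]), (48, [48]), (49, [49]), (50, [50]), (51, [51]), (52, [24, 52]), (53, [26, 53]), (54, [27, 54]), (55, [55]), (56, [29, 56]), (57, [30, 57]), (58, [58]), (59, [31, 59]), (60, [60]), (61, [61]), (62, [62]), (63, [63]), (64, [64]), (65, [65]), (66, [66]), (67, [67]), (68, [68]), (69, [69]), (70, [70]), (71, [71]), (72, [72]), (73, [73]), (74, [74]), (75, [75]), (76, [76]), (77, [77])]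

/-- lower-bound certificate for `[71, 60, 44]` -/
def lbE6t_3 : List (ℕ × List ℕ) :=
  [(50, [2]), (77, [0, 1]), (66, [0, 2]), (0, [0, 17, 33]), (12, [7, 12]), (14, [8, 14]), (27, [9, 27]), (16, [10, 16]), (29, [11, 29]), (30, [24, 30]), (58, [13]), (31, [26, 31]), (60, [15]), (61, [16]), (2, [1, 2, 6, 17]), (21, [18, 21]), (44, [19]), (47, [20]), (51, [21]), (28, [22, 28]), (68, [23]), (57, [12, 24]), (70, [25]), (59, [14, 26]), (72, [27]), (73, [28]), (74, [29]), (75, [30]), (76, [31]), (41, [32, 41]), (3, [1, 6, 17, 33]), (43, [34]), (46, [35]), (63, [36]), (48, [37]), (64, [39]), (49, [40]), (65, [41])]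

/-- upper-bound (kernel) certificate for `[71, 60, 44]` -/
def ubE6t_3 : List (ℕ × List ℕ) :=
  [(3, [3]), (4, [2, 4]), (5, [0, 5]), (38, [38]), (42, [21, 42]), (43, [43]), (44, [44]), (45, [45]), (46, [46]), (47, [47]), (48, [48]), (49, [49]), (50, [50]), (51, [51]), (52, [12, 24, 30, 52]), (53, [14, 26, 31, 53]), (54, [27, 54]), (55, [16, 55]), (56, [29, 56]), (57, [30, 57]), (58, [58]), (59, [31, 59]), (60, [60]), (61, [61]), (62, [41, 62]), (63, [63]), (64, [64]), (65, [65]), (66, [66]), (67, [28, 67]), (68, [68]), (69, [30, 69]), (70, [70]), (71, [31, 71]), (72, [72]), (73, [73]), (74, [74]), (75, [75]), (76, [76]), (77, [77])]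

theorem lbE6t_2_ok : lbCheckVS chevE6 [71, 60] (fun _ => true) (certOf chevE6 lbE6t_2) = true := by decide +kernel

theorem ubE6t_2_ok : ubCheck chevE6 [71, 60] (certOf chevE6 ubE6t_2) = true := by decide +kernel

theorem lbE6t_3_ok : lbCheckVS chevE6 [71, 60, 44] (fun _ => true) (certOf chevE6 lbE6t_3) = true := by decide +kernel

theorem ubE6t_3_ok : ubCheck chevE6 [71, 60, 44] (certOf chevE6 ubE6t_3) = true := by decide +kernel

variable {F : Type*} [Field F] [CharP F 2]

/-- `rank (x₇₁(1) - 1) = 22` (helper16) -/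
theorem rank_t1 (hF : ChevFacts chevE6 F) :
    (((xprod hF [71] : GL chevE6.Idx F) : Matrix chevE6.Idx chevE6.Idx F) - 1).rank = 22 := rank_E6_1 hF

/-- `rank (x₇₁(1) x₆₀(1) - 1) = 32` -/
theorem rank_t2 (hF : ChevFacts chevE6 F) :
    (((xprod hF [71, 60] : GL chevE6.Idx F) : Matrix chevE6.Idx chevE6.Idx F) - 1).rank = 32 := by
  have h1 := xprod_rank_geV hF [71, 60] lbE6t_2 lbE6t_2_ok
  have e1 : lbE6t_2.length = 32 := by decide
  have h2 := xprod_rank_leV hF [71, 60] ubE6t_2 ubE6t_2_ok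
  have e2 : ubE6t_2.length = 46 := by decide
  have e3 : chevE6.rank + chevE6.nroots = 78 := by decide
  omega

/-- `rank (x₇₁(1) x₆₀(1) x₄₄(1) - 1) = 38` -/
theorem rank_t3 (hF : ChevFacts chevE6 F) :
    (((xprod hF [71, 60, 44] : GL chevE6.Idx F) : Matrix chevE6.Idx chevE6.Idx F) - 1).rank = 38 := by
  have h1 := xprod_rank_geV hF [71, 60, 44] lbE6t_3 lbE6t_3_ok
  have e1 : lbE6t_3.length = 38 := by decide
  have h2 := xprod_rank_leV hF [71, 60, 44] ubE6t_3 ubE6t_3_ok
  have e2 : ubE6t_3.length = 40 := by decide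
  have e3 : chevE6.rank + chevE6.nroots = 78 := by decide
  omega

/-- the three representatives are pairwise non-conjugate in `E₆(F)` (a fortiori in the twisted group) -/
theorem reps_not_CJ (hF : ChevFacts chevE6 F) :
    ¬ CJ chevE6 F (xprod hF [71]) (xprod hF [71, 60]) ∧ ¬ CJ chevE6 F (xprod hF [71]) (xprod hF [71, 60, 44]) ∧
      ¬ CJ chevE6 F (xprod hF [71, 60]) (xprod hF [71, 60, 44]) := by
  refine ⟨fun h => ?_, fun h => ?_, fun h => ?_⟩
  · have := rank_eq_of_CJ h
    rw [rank_t1, rank_t2] at this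
    omega
  · have := rank_eq_of_CJ h
    rw [rank_t1, rank_t3] at this
    omega
  · have := rank_eq_of_CJ h
    rw [rank_t2, rank_t3] at this
    omega

end Cfsg.Agent.Helper28.E6T
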