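import Mathlib
import Cfsg.Agent.Lib.Helper28.E6TwB
import Cfsg.Agent.Lib.Helper28.E6TwRank
import Cfsg.Agent.Lib.Helper23.E7Main
import Cfsg.Agent.Lib.Helper25.InvNTABP
import Cfsg.Agent.Lib.Helper6.InvNTABLE
import Cfsg.Agent.Lib.Lead.TwFrob

/-!
# `²E₆(q)`, `q` even: exactly three classes of involutions, from the twisted Part A (helper28, end assembly of S2182)

`HA1` is the twisted version of helper13's `conj_into_N`: every element of square one of `²E₆(q)` is conjugate UNDER
`²E₆(q)` to some `h n_w`, `w` an involution with the condition (M).  Then the table of type `E₆` (all of whose six frames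
consist of positive roots fixed by the graph automorphism), Part B inside `²E₆(q)` (`conj_frame_tw`), the fusions
`fuse4`, `fuse3` and the ranks `22, 32, 38` give exactly three classes.
-/

set_option autoImplicit false
set_option linter.unusedSectionVars false
set_option linter.unusedVariables false
set_option maxRecDepth 100000

namespace Cfsg.Agent.Helper28.E6T

open Cfsg Cfsg.Lie Cfsg.Agent.Lead.Chev Cfsg.Agent.Helper13.InvN Cfsg.Agent.Helper28.TwC
  Cfsg.Agent.Lead.Tw Cfsg.Agent.Lead.Tw.E6 Cfsg.Agent.Helper16.RK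

/-- the three lists of roots -/
def repL : Fin 3 → List ℕ := ![[71], [71, 60], [71, 60, 44]]

/-- the ranks of `t - 1` -/
def repRk : Fin 3 → ℕ := ![22, 32, 38]

theorem repRk_injective : Function.Injective repRk := by decide

theorem frames_fix : ∀ S ∈ tabE6.frames, frameFix S = true := by decide +kernel

theorem frames_roots : ∀ S ∈ tabE6.frames,
    frameRoots chevE6 S ∈ [[71, 60, 44, 39], [69, 65, 53], [71, 60, 44], [71, 60], [71], []] := by
  decide +kernel

theorem rep_chk : ∀ i : Fin 3, (∀ s ∈ repL i, s ∈ fixPos) ∧ (∀ s ∈ repL i, s < chevE6.nroots) ∧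
    (repL i).Pairwise fun r s => evenComm chevE6 r s = true := by decide +kernel

section

variable {K : Type*} [Field K] [CharP K 2]

theorem rank_rep (i : Fin 3) :
    (((xprod (hF (K := K)) (repL i) : GL chevE6.Idx K) : Matrix chevE6.Idx chevE6.Idx K) - 1).rank = repRk i := by
  fin_cases i
  · exact rank_t1 hF
  · exact rank_t2 hF
  · exact rank_t3 hF

theorem rep_sq (i : Fin 3) : xprod (hF (K := K)) (repL i) * xprod hF (repL i) = 1 :=
  Cfsg.Agent.Helper23.E7M.xprod_sq_of_pairwise hF (repL i) (rep_chk i).2.1 (rep_chk i).2.2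

theorem rep_ne_one (i : Fin 3) : xprod (hF (K := K)) (repL i) ≠ 1 := by
  intro h
  have h0 := rank_rep (K := K) i
  rw [h, Units.val_one, sub_self, Matrix.rank_zero] at h0
  revert h0
  fin_cases i <;> simp [repRk]

theorem rep_not_conj (i j : Fin 3)
    (h : CJ chevE6 K (xprod (hF (K := K)) (repL i)) (xprod hF (repL j))) : i = j := by
  have e := rank_eq_of_CJ h
  rw [rank_rep i, rank_rep j] at e
  exact repRk_injective e

end

section

variable {K : Type*} [Field K] [Fintype K] [CharP K 2] {q : ℕ} (hK : Fintype.card K = q ^ 2)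
  (f : K ≃+* K) (hf : ∀ t, f t = t ^ q)
include hK hf

theorem rep_mem (i : Fin 3) : xprod (hF (K := K)) (repL i) ∈ twistedE6 K q :=
  xprod_mem hF (corSize_of_mem _ hmem) (corInj_of_mem _ hmem) (twistedE6 K q) (repL i)
    (fun r hr => x_fix_mem hK f hf r ((rep_chk i).1 r hr))

/-- the representatives as elements of the group -/
def repG (i : Fin 3) : ↥(twistedE6 K q) := ⟨xprod (hF (K := K)) (repL i), rep_mem hK f hf i⟩

theorem repG_order (i : Fin 3) : orderOf (repG hK f hf i) = 2 := by
  have : Fact (Nat.Prime 2) := ⟨Nat.prime_two⟩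
  refine orderOf_eq_prime ?_ ?_
  · apply Subtype.ext
    rw [pow_two]
    exact rep_sq i
  · intro h
    exact rep_ne_one (K := K) i (congrArg Subtype.val h)

/-- every element of square one of `²E₆(q)` is trivial or conjugate under `²E₆(q)` to a representative -/
theorem invol_conj_rep
    (HA1 : ∀ g ∈ twistedE6 K q, g * g = 1 →
      ∃ c ∈ twistedE6 K q, ∃ w, WOK chevE6 w ∧ Invol chevE6 w ∧ CondM chevE6 w ∧
        ∃ h ∈ chevE6.diagonalSubgroup K, c * g * c⁻¹ = h * nWordGL chevE6 (hF (K := K)).xadd w)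
    (g : GL chevE6.Idx K) (hg : g ∈ twistedE6 K q) (hgg : g * g = 1) :
    g = 1 ∨ ∃ i : Fin 3, CJ1 (twistedE6 K q) g (xprod hF (repL i)) := by
  obtain ⟨c, hc, w, hw, hinv, hM, h, hh, e⟩ := HA1 g hg hgg
  obtain ⟨S, hST, hSok, hact⟩ := table_frame (hF (K := K)) (corSize_of_mem _ hmem) (corInj_of_mem _ hmem)
    tabE6 tabE6_ok w hw hinv hM
  have hsq : (h * nWordGL chevE6 (hF (K := K)).xadd w) * (h * nWordGL chevE6 (hF (K := K)).xadd w) = 1 := by
    rw [← e]
    have : c * g * c⁻¹ * (c * g * c⁻¹) = c * (g * g) * c⁻¹ := by group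
    rw [this, hgg]; group
  have ht : h * nWordGL chevE6 (hF (K := K)).xadd w ∈ twistedE6 K q := by
    rw [← e]
    exact mul_mem (mul_mem hc hg) (inv_mem hc)
  have h1 : CJ1 (twistedE6 K q) g (h * nWordGL chevE6 (hF (K := K)).xadd w) := ⟨c, hc, e⟩
  have h2 := h1.trans (conj_frame_tw hK f hf S hSok (frames_fix S hST) w hw hact h hh ht hsq)
  have h3 := frames_roots S hST
  simp only [List.mem_cons, List.mem_nil_iff, or_false] at h3
  rcases h3 with h3 | h3 | h3 | h3 | h3 | h3 <;> rw [h3] at h2
  · exact Or.inr ⟨2, h2.trans (fuse4 hK f hf)⟩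
  · exact Or.inr ⟨2, h2.trans (fuse3 hK f hf)⟩
  · exact Or.inr ⟨2, h2⟩
  · exact Or.inr ⟨1, h2⟩
  · exact Or.inr ⟨0, h2⟩
  · left
    obtain ⟨d, _, ed⟩ := h2
    have hx : xprod (hF (K := K)) ([] : List ℕ) = 1 := rfl
    rw [hx] at ed
    have : g = d⁻¹ * (d * g * d⁻¹) * d := by group
    rw [this, ed]
    group

/-- the statement of S2182, from the twisted Part A -/
theorem main_of_A1
    (HA1 : ∀ g ∈ twistedE6 K q, g * g = 1 →
      ∃ c ∈ twistedE6 K q, ∃ w, WOK chevE6 w ∧ Invol chevE6 w ∧ CondM chevE6 w ∧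
        ∃ h ∈ chevE6.diagonalSubgroup K, c * g * c⁻¹ = h * nWordGL chevE6 (hF (K := K)).xadd w) :
    (ConjClasses.mk '' {g : ↥(twistedE6 K q) | orderOf g = 2}).ncard = 3 := by
  have himg : ConjClasses.mk '' {g : ↥(twistedE6 K q) | orderOf g = 2} =
      Set.range fun i : Fin 3 => ConjClasses.mk (repG hK f hf i) := by
    ext c
    constructor
    · rintro ⟨g, hg, rfl⟩
      have hord : orderOf g = 2 := hg
      have hgg : (g : GL chevE6.Idx K) * (g : GL chevE6.Idx K) = 1 := by
        have h2 : g ^ 2 = 1 := by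
          rw [← hord]
          exact pow_orderOf_eq_one g
        have := congrArg Subtype.val h2
        rw [pow_two] at this
        exact this
      rcases invol_conj_rep hK f hf HA1 g.1 g.2 hgg with h1 | ⟨i, c, hc, e⟩
      · exfalso
        have h1' : g = 1 := Subtype.ext h1
        rw [h1', orderOf_one] at hord
        norm_num at hord
      · refine ⟨i, ?_⟩
        show ConjClasses.mk (repG hK f hf i) = ConjClasses.mk g
        rw [ConjClasses.mk_eq_mk_iff_isConj, isConj_comm, isConj_iff]
        exact ⟨⟨c, hc⟩, Subtype.ext e⟩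
    · rintro ⟨i, rfl⟩
      exact ⟨repG hK f hf i, repG_order hK f hf i, rfl⟩
  have hinj : Function.Injective fun i : Fin 3 => ConjClasses.mk (repG hK f hf i) := by
    intro i j hij
    have hij' : ConjClasses.mk (repG hK f hf i) = ConjClasses.mk (repG hK f hf j) := hij
    rw [ConjClasses.mk_eq_mk_iff_isConj, isConj_iff] at hij'
    obtain ⟨c, hc⟩ := hij'
    refine rep_not_conj i j ⟨c.1, (twGroupE6 hK f hf).le_group c.2, ?_⟩
    exact congrArg Subtype.val hc
  rw [himg, ← Set.image_univ, Set.ncard_image_of_injective _ hinj, Set.ncard_univ]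
  simp

end

/-- the Frobenius `t ↦ t ^ q` of a field of characteristic two with `q²` elements -/
theorem exists_frob_two {K : Type*} [Field K] [Fintype K] [CharP K 2] (q : ℕ) (hK : Fintype.card K = q ^ 2) :
    ∃ f : K ≃+* K, ∀ t, f t = t ^ q := by
  obtain ⟨n, -, hm⟩ := FiniteField.card K 2
  have hdvd : q ∣ 2 ^ (n : ℕ) := by
    rw [← hm, hK]
    exact Dvd.intro_left (q ^ 1) (by ring)
  obtain ⟨k, hk, rfl⟩ := (Nat.dvd_prime_pow Nat.prime_two).1 hdvd
  have hk0 : k ≠ 0 := by
    rintro rfl
    have : 1 < Fintype.card K := Fintype.one_lt_card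
    rw [hK] at this
    norm_num at this
  exact exists_frob (Nat.prime_two.isPrimePow.pow hk0) hK

end Cfsg.Agent.Helper28.E6T
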