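import Mathlib

set_option autoImplicit false

namespace Cfsg.Agent.Helper28.ElemAbTwoAut

open Matrix

theorem zmod2_cases (c : ZMod 2) : c = 0 ∨ c = 1 := by
  revert c; decide

/-- In a finite group of exponent two, a family of endomorphisms closed under composition,
containing the identity and all "transvections" contains every automorphism. -/
theorem aut_mem_of_transvections {U : Type*} [Group U] [Finite U] (h2 : ∀ u : U, u * u = 1)
    (A : (U →* U) → Prop) (hA1 : A (MonoidHom.id U))
    (hAmul : ∀ f g : U →* U, A f → A g → A (f.comp g))
    (hT : ∀ a : U, a ≠ 1 → ∀ (S : Finset U) (y : U),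
      y ∉ Subgroup.closure (insert a (S : Set U)) →
        ∃ τ : U →* U, A τ ∧ (∀ s ∈ S, τ s = s) ∧ τ y = a * y)
    (φ : U ≃* U) : A φ.toMonoidHom := by
  classical
  have hinv : ∀ u : U, u⁻¹ = u := fun u => inv_eq_of_mul_eq_one_right (h2 u)
  have hcomm : ∀ a b : U, a * b = b * a := by
    intro a b
    have h1 : (a * b)⁻¹ = a * b := hinv _
    rw [_root_.mul_inv_rev, hinv, hinv] at h1
    exact h1.symm
  letI : CommGroup U := { (inferInstance : Group U) with mul_comm := hcomm }
  letI : Module (ZMod 2) (Additive U) := AddCommGroup.zmodModule (n := 2) (by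
    intro x
    rw [two_nsmul]
    exact h2 (Additive.toMul x))
  haveI : Fact (Nat.Prime 2) := ⟨Nat.prime_two⟩
  haveI : Finite (Additive U) := inferInstanceAs (Finite U)
  haveI : Module.Finite (ZMod 2) (Additive U) := Module.Finite.of_finite
  let b := Module.finBasis (ZMod 2) (Additive U)
  let L : (U →* U) → (Additive U →ₗ[ZMod 2] Additive U) :=
    fun τ => (MonoidHom.toAdditive τ).toZModLinearMap 2
  have hL : ∀ (τ : U →* U) (v : Additive U), L τ v = Additive.ofMul (τ (Additive.toMul v)) :=
    fun τ v => rfl
  have hLinj : ∀ τ σ : U →* U, L τ = L σ → τ = σ := by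
    intro τ σ h
    ext u
    have := congrArg (fun f => Additive.toMul (f (Additive.ofMul u))) h
    simpa [hL] using this
  have hLcomp : ∀ τ σ : U →* U, L (τ.comp σ) = (L τ).comp (L σ) := by
    intro τ σ
    ext v
    rfl
  have hLid : L (MonoidHom.id U) = LinearMap.id := by
    ext v
    rfl
  -- main claim
  have main : ∀ M : Matrix (Fin (Module.finrank (ZMod 2) (Additive U)))
      (Fin (Module.finrank (ZMod 2) (Additive U))) (ZMod 2),
      M.det ≠ 0 → ∃ τ : U →* U, A τ ∧ L τ = Matrix.toLin b b M := by
    intro M hM
    refine Matrix.diagonal_transvection_induction_of_det_ne_zero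
      (fun M => ∃ τ : U →* U, A τ ∧ L τ = Matrix.toLin b b M) M hM ?_ ?_ ?_
    · intro D hD
      rw [Matrix.det_diagonal, Finset.prod_ne_zero_iff] at hD
      have hD1 : D = fun _ => 1 := by
        funext i
        rcases zmod2_cases (D i) with h | h
        · exact absurd h (hD i (Finset.mem_univ i))
        · exact h
      refine ⟨MonoidHom.id U, hA1, ?_⟩
      rw [hLid, hD1, Matrix.diagonal_one, Matrix.toLin_one]
    · intro t
      rcases zmod2_cases t.c with hc | hc
      · refine ⟨MonoidHom.id U, hA1, ?_⟩
        rw [hLid, Matrix.TransvectionStruct.toMatrix, hc, Matrix.transvection_zero,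
          Matrix.toLin_one]
      · -- a genuine transvection
        have hij : t.i ≠ t.j := t.hij
        have ha1 : Additive.toMul (b t.i) ≠ 1 := by
          intro h
          exact b.ne_zero t.i h
        let S : Finset U := (Finset.univ.filter (fun k => k ≠ t.j)).image
          (fun k => Additive.toMul (b k))
        -- the coordinate kernel
        let H : Subgroup U :=
          { carrier := {u | b.coord t.j (Additive.ofMul u) = 0}
            mul_mem' := by
              intro x y hx hy
              simp only [Set.mem_setOf_eq] at hx hy ⊢
              rw [ofMul_mul, map_add, hx, hy, add_zero]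
            one_mem' := by
              simp only [Set.mem_setOf_eq]
              rw [ofMul_one, map_zero]
            inv_mem' := by
              intro x hx
              simp only [Set.mem_setOf_eq] at hx ⊢
              rw [ofMul_inv, map_neg, hx, neg_zero] }
        have hbk : ∀ k, k ≠ t.j → Additive.toMul (b k) ∈ H := by
          intro k hk
          change b.coord t.j (Additive.ofMul (Additive.toMul (b k))) = 0
          rw [ofMul_toMul, Module.Basis.coord_apply, Module.Basis.repr_self,
            Finsupp.single_apply, if_neg hk]
        have hy : Additive.toMul (b t.j) ∉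
            Subgroup.closure (insert (Additive.toMul (b t.i)) (S : Set U)) := by
          intro h
          have hle : Subgroup.closure (insert (Additive.toMul (b t.i)) (S : Set U)) ≤ H := by
            rw [Subgroup.closure_le]
            intro s hs
            rcases hs with rfl | hs
            · exact hbk t.i hij
            · simp only [S, Finset.coe_image, Set.mem_image, Finset.coe_filter,
                Finset.mem_univ, true_and, Set.mem_setOf_eq] at hs
              obtain ⟨k, hk, rfl⟩ := hs
              exact hbk k hk
          have h1 := hle h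
          change b.coord t.j (Additive.ofMul (Additive.toMul (b t.j))) = 0 at h1
          rw [ofMul_toMul, Module.Basis.coord_apply, Module.Basis.repr_self,
            Finsupp.single_apply, if_pos rfl] at h1
          exact one_ne_zero h1
        obtain ⟨τ, hτA, hτS, hτy⟩ := hT _ ha1 S _ hy
        refine ⟨τ, hτA, ?_⟩
        apply b.ext
        intro k
        rw [Matrix.toLin_self, hL]
        simp only [Matrix.TransvectionStruct.toMatrix, Matrix.transvection, hc, Matrix.add_apply,
          Matrix.one_apply, Matrix.single_apply, add_smul, Finset.sum_add_distrib, ite_smul,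
          one_smul, zero_smul, Finset.sum_ite_eq', Finset.mem_univ, if_true]
        by_cases hk : k = t.j
        · subst hk
          rw [hτy]
          simp
          exact add_comm _ _
        · have hks : Additive.toMul (b k) ∈ S := by
            simp only [S, Finset.mem_image, Finset.mem_filter, Finset.mem_univ, true_and]
            exact ⟨k, hk, rfl⟩
          rw [hτS _ hks]
          have hk' : ¬ t.j = k := fun h => hk h.symm
          simp [hk']
    · intro M N _ _ hM hN
      obtain ⟨τ, hτ, hτM⟩ := hM
      obtain ⟨σ, hσ, hσN⟩ := hN
      refine ⟨τ.comp σ, hAmul τ σ hτ hσ, ?_⟩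
      rw [hLcomp, hτM, hσN, Matrix.toLin_mul b b b]
  -- apply to `φ`
  have hdet : (LinearMap.toMatrix b b (L φ.toMonoidHom)).det ≠ 0 := by
    have h1 : (L φ.toMonoidHom).comp (L φ.symm.toMonoidHom) = LinearMap.id := by
      rw [← hLcomp, ← hLid]
      congr 1
      ext u
      simp
    have h3 : LinearMap.toMatrix b b (L φ.toMonoidHom) *
        LinearMap.toMatrix b b (L φ.symm.toMonoidHom) = 1 := by
      rw [← LinearMap.toMatrix_comp b b b, h1, LinearMap.toMatrix_id]
    intro h0
    have h4 := congrArg Matrix.det h3
    rw [Matrix.det_mul, h0, zero_mul, Matrix.det_one] at h4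
    exact zero_ne_one h4
  obtain ⟨τ, hτ, hτφ⟩ := main _ hdet
  rw [Matrix.toLin_toMatrix] at hτφ
  rw [← hLinj τ φ.toMonoidHom hτφ]
  exact hτ

end Cfsg.Agent.Helper28.ElemAbTwoAut
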