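import Mathlib
import Cfsg.Agent.Lib.Lead.ChevCol
import Cfsg.Agent.Lib.Lead.ChevGL
import Cfsg.Prelude.Def_ChevF4

/-!
# `F₄` in characteristic two: the 26-dimensional invariant subspace of the adjoint module (helper28, S2174)

In characteristic two the coordinate subspace `I` spanned by `h_{p₁}`, `h_{p₂}` and the `e_s`, `s` a short root, is
invariant under every root element `x_r(t)`, hence under the Chevalley group.  With `P` the coordinate projection
onto `I`, the number `rank ((g - 1) * P)` is therefore a conjugacy invariant of `g` in the group.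
-/

set_option autoImplicit false
set_option linter.unusedSectionVars false
set_option linter.unusedSimpArgs false
set_option linter.unusedVariables false

namespace Cfsg.Agent.Helper28.F4D

open Cfsg Cfsg.Lie Cfsg.Agent.Lead.Chev

/-- the short roots of `chevF4` -/
def shortRoots : List ℕ :=
  [3, 7, 8, 9, 10, 11, 12, 13, 14, 18, 19, 20, 27, 28, 29, 33, 34, 35, 36, 37, 38, 39, 40, 44]

/-- the coordinates of the submodule `I` -/
def inS (c : Code) : Bool :=
  match c with
  | .inl i => decide (i < 2)
  | .inr s => shortRoots.contains s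

/-- the codes of the coordinates of `I` -/
def sCodes : List Code := [.inl 0, .inl 1] ++ shortRoots.map Sum.inr

variable {F : Type*} [Field F]

/-- all coefficients are even -/
def evenP (p : LPoly) : Bool := p.all fun a => decide (a.coef % 2 = 0)

theorem evalP_eq_zero_of_evenP [CharP F 2] (v : Val F) (p : LPoly) (h : evenP p = true) :
    evalP v p = 0 := by
  induction p with
  | nil => rfl
  | cons a p ih =>
    simp only [evenP, List.all_cons, Bool.and_eq_true, decide_eq_true_eq] at h
    rw [evalP_cons, ih (by simpa [evenP] using h.2), add_zero]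
    have h2 : (a.coef : F) = 0 := by
      obtain ⟨k, hk⟩ := Int.dvd_of_emod_eq_zero h.1
      rw [hk]
      push_cast
      have : (2 : F) = 0 := by
        have : ((2 : ℕ) : F) = 0 := CharP.cast_eq_zero F 2
        exact_mod_cast this
      rw [this, zero_mul]
    simp [Term.eval, h2]

/-- every entry of the sparse vector outside `I` has even coefficients -/
def vecChk (w : SVec) : Bool := w.all fun e => inS e.1 || evenP e.2

theorem evalV_eq_zero_of_vecChk [CharP F 2] (D : ChevalleyDatum) (v : Val F) (w : SVec)
    (h : vecChk w = true) (idx : D.Idx) (hidx : inS (codeOf D idx) = false) :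
    evalV D v w idx = 0 := by
  unfold evalV
  apply List.sum_eq_zero
  intro x hx
  simp only [List.mem_map] at hx
  obtain ⟨e, he, rfl⟩ := hx
  split_ifs with hc
  · have h1 : (inS e.1 || evenP e.2) = true := by
      simp only [vecChk, List.all_eq_true] at h
      exact h e he
    rw [hc, hidx, Bool.false_or] at h1
    exact evalP_eq_zero_of_evenP v _ h1
  · rfl

/-- the check for the column `c` of `x_r(t)` -/
def colChk (r : ℕ) (c : Code) : Bool := vecChk (applyX chevF4 r pT [(c, pconst 1)])

theorem colChk_all : ∀ r < 48, ∀ c ∈ sCodes, colChk r c = true := by decide +kernel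

theorem mem_sCodes (c : Code) (h : inS c = true) (hc : ∃ idx : chevF4.Idx, c = codeOf chevF4 idx) :
    c ∈ sCodes := by
  obtain ⟨idx, rfl⟩ := hc
  rcases idx with i | s
  · have hi : (codeOf chevF4 (Sum.inl i) : Code) = Sum.inl i.val := rfl
    rw [hi] at h ⊢
    simp only [inS, decide_eq_true_eq] at h
    have : i.val = 0 ∨ i.val = 1 := by omega
    rcases this with h0 | h0 <;> rw [h0] <;> simp [sCodes]
  · have hs : (codeOf chevF4 (Sum.inr s) : Code) = Sum.inr s.val := rfl
    rw [hs] at h ⊢
    simp only [inS, List.contains_iff_mem] at h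
    simp only [sCodes, List.mem_append, List.mem_map]
    right
    exact ⟨s.val, h, rfl⟩

/-- the entries of `x_r(t)` from `I` to the complementary coordinates vanish -/
theorem x_entry_zero [CharP F 2] (r : ℕ) (t : F) (i j : chevF4.Idx)
    (hi : inS (codeOf chevF4 i) = false) (hj : inS (codeOf chevF4 j) = true) :
    chevF4.x F r t i j = 0 := by
  by_cases hr : r < 48
  · have h1 : chevF4.x F r t i j = ((chevF4.x F r t).mulVec (Pi.single j 1)) i := by
      simp [Matrix.mulVec, dotProduct, Pi.single_apply]
    rw [h1, ← bvec_codeOf, x_mulVec_bvec]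
    exact evalV_eq_zero_of_vecChk chevF4 _ _
      (colChk_all r hr _ (mem_sCodes _ hj ⟨j, rfl⟩)) i hi
  · have : chevF4.x F r t = 1 := by
      unfold ChevalleyDatum.x
      rw [dif_neg]
      exact hr
    rw [this, Matrix.one_apply, if_neg]
    rintro rfl
    rw [hj] at hi
    exact Bool.noConfusion hi

/-- the matrix maps `I` into `I` -/
def Inv (M : Matrix chevF4.Idx chevF4.Idx F) : Prop :=
  ∀ i j, inS (codeOf chevF4 i) = false → inS (codeOf chevF4 j) = true → M i j = 0

theorem Inv.one : Inv (1 : Matrix chevF4.Idx chevF4.Idx F) := by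
  intro i j hi hj
  rw [Matrix.one_apply, if_neg]
  rintro rfl
  rw [hj] at hi
  exact Bool.noConfusion hi

theorem Inv.mul {M N : Matrix chevF4.Idx chevF4.Idx F} (hM : Inv M) (hN : Inv N) : Inv (M * N) := by
  intro i j hi hj
  rw [Matrix.mul_apply]
  apply Finset.sum_eq_zero
  intro k _
  by_cases hk : inS (codeOf chevF4 k) = true
  · rw [hM i k hi hk, zero_mul]
  · rw [hN k j (by simpa using hk) hj, mul_zero]

theorem inv_of_mem_group [CharP F 2] (hX : XAdd chevF4 F) (g : GL chevF4.Idx F)
    (hg : g ∈ chevF4.group F) :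
    Inv (g : Matrix chevF4.Idx chevF4.Idx F) ∧
      Inv ((g⁻¹ : GL chevF4.Idx F) : Matrix chevF4.Idx chevF4.Idx F) := by
  unfold ChevalleyDatum.group at hg
  induction hg using Subgroup.closure_induction with
  | mem x hx =>
    obtain ⟨r, t, e⟩ := hx
    have e' : x = xGL chevF4 hX r.val t := by
      apply Units.ext
      rw [e, xGL_val]
      unfold ChevalleyDatum.x
      rw [dif_pos r.2]
    rw [e', xGL_inv, xGL_val, xGL_val]
    exact ⟨fun i j hi hj => x_entry_zero r.val t i j hi hj,
      fun i j hi hj => x_entry_zero r.val (-t) i j hi hj⟩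
  | one => exact ⟨by simpa using Inv.one, by simpa using Inv.one⟩
  | mul x y _ _ hx hy =>
    refine ⟨by simpa using hx.1.mul hy.1, ?_⟩
    rw [mul_inv_rev]
    simpa using hy.2.mul hx.2
  | inv x _ hx => exact ⟨hx.2, by simpa using hx.1⟩

/-- the coordinate projection onto `I` -/
def proj (F : Type*) [Field F] : Matrix chevF4.Idx chevF4.Idx F :=
  Matrix.diagonal fun i => if inS (codeOf chevF4 i) then 1 else 0

theorem mul_proj_apply (M : Matrix chevF4.Idx chevF4.Idx F) (i j : chevF4.Idx) :
    (M * proj F) i j = if inS (codeOf chevF4 j) then M i j else 0 := by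
  unfold proj
  rw [Matrix.mul_diagonal]
  split_ifs <;> simp

theorem proj_mul_apply (M : Matrix chevF4.Idx chevF4.Idx F) (i j : chevF4.Idx) :
    (proj F * M) i j = if inS (codeOf chevF4 i) then M i j else 0 := by
  unfold proj
  rw [Matrix.diagonal_mul]
  split_ifs <;> simp

/-- an invariant matrix satisfies `M P = P M P` -/
theorem Inv.mul_proj {M : Matrix chevF4.Idx chevF4.Idx F} (hM : Inv M) :
    M * proj F = proj F * (M * proj F) := by
  ext i j
  rw [proj_mul_apply, mul_proj_apply]
  by_cases hj : inS (codeOf chevF4 j) = true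
  · by_cases hi : inS (codeOf chevF4 i) = true
    · simp [hi]
    · have hi' : inS (codeOf chevF4 i) = false := by simpa using hi
      simp [hi', hj, hM i j hi' hj]
  · have hj' : inS (codeOf chevF4 j) = false := by simpa using hj
    simp [hj']

/-- one half of the invariance of the truncated rank -/
theorem rank_trunc_le [CharP F 2] (hX : XAdd chevF4 F) (a b c : GL chevF4.Idx F)
    (hc : c ∈ chevF4.group F) (h : c * a * c⁻¹ = b) :
    (((b : Matrix chevF4.Idx chevF4.Idx F) - 1) * proj F).rank ≤
      (((a : Matrix chevF4.Idx chevF4.Idx F) - 1) * proj F).rank := by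
  have hci := (inv_of_mem_group hX c hc).2
  have hb : ((b : Matrix chevF4.Idx chevF4.Idx F) - 1) =
      (c : Matrix chevF4.Idx chevF4.Idx F) * ((a : Matrix chevF4.Idx chevF4.Idx F) - 1) *
        ((c⁻¹ : GL chevF4.Idx F) : Matrix chevF4.Idx chevF4.Idx F) := by
    rw [← h]
    simp only [Units.val_mul, Matrix.mul_sub, Matrix.sub_mul, Matrix.mul_one]
    congr 1
    rw [← Units.val_mul, mul_inv_cancel, Units.val_one]
  have key : ((b : Matrix chevF4.Idx chevF4.Idx F) - 1) * proj F =
      (c : Matrix chevF4.Idx chevF4.Idx F) * ((((a : Matrix chevF4.Idx chevF4.Idx F) - 1) * proj F) *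
        (((c⁻¹ : GL chevF4.Idx F) : Matrix chevF4.Idx chevF4.Idx F) * proj F)) := by
    have h1 := hci.mul_proj
    calc ((b : Matrix chevF4.Idx chevF4.Idx F) - 1) * proj F
        = (c : Matrix chevF4.Idx chevF4.Idx F) * (((a : Matrix chevF4.Idx chevF4.Idx F) - 1) *
            (((c⁻¹ : GL chevF4.Idx F) : Matrix chevF4.Idx chevF4.Idx F) * proj F)) := by
          rw [hb]; simp only [Matrix.mul_assoc]
      _ = (c : Matrix chevF4.Idx chevF4.Idx F) * (((a : Matrix chevF4.Idx chevF4.Idx F) - 1) *
            (proj F * (((c⁻¹ : GL chevF4.Idx F) : Matrix chevF4.Idx chevF4.Idx F) * proj F))) := by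
          rw [← h1]
      _ = _ := by simp only [Matrix.mul_assoc]
  rw [key]
  exact (Matrix.rank_mul_le_right _ _).trans (Matrix.rank_mul_le_left _ _)

/-- `rank ((g - 1) P)` is a conjugacy invariant in the group -/
theorem rank_trunc_eq [CharP F 2] (hX : XAdd chevF4 F) (a b c : GL chevF4.Idx F)
    (hc : c ∈ chevF4.group F) (h : c * a * c⁻¹ = b) :
    (((a : Matrix chevF4.Idx chevF4.Idx F) - 1) * proj F).rank =
      (((b : Matrix chevF4.Idx chevF4.Idx F) - 1) * proj F).rank := by
  apply le_antisymm
  · refine rank_trunc_le hX b a c⁻¹ (inv_mem hc) ?_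
    rw [← h]
    group
  · exact rank_trunc_le hX a b c hc h

end Cfsg.Agent.Helper28.F4D
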