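import Mathlib
import Cfsg.Agent.Lib.Helper28.InvNCollect

/-!
# Rank certificates for products of root elements `x_r(1)` in characteristic two (helper28)

For `Y = xprod hF L` (a product of root elements with parameter `1`) the entries of `Y` are casts of integers
computed by Lead's sparse calculator.  In characteristic two only their parity matters.  For a Boolean predicate `P`
on the coordinates, with `projP P` the coordinate projection, we bound `rank ((Y - 1) * projP P)`:

* from above by the number of non-zero columns (`rank_le_of_ubChk`),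
* from below by a unitriangular submatrix (`le_rank_of_lbChk`).
-/

set_option autoImplicit false
set_option linter.unusedSectionVars false
set_option linter.unusedVariables false

namespace Cfsg.Agent.Helper13.InvN

open Cfsg Cfsg.Lie Cfsg.Agent.Lead.Chev

variable {F : Type*} [Field F] {D : ChevalleyDatum}

/-! ### a unitriangular submatrix bounds the rank from below -/

theorem le_rank_of_tri {n : Type*} [Fintype n] [DecidableEq n] (M : Matrix n n F) (r : ℕ)
    (f g : Fin r → n) (hd : ∀ i, M (f i) (g i) = 1) (hu : ∀ i j, i < j → M (f i) (g j) = 0) :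
    r ≤ M.rank := by
  set N : Matrix (Fin r) (Fin r) F := M.submatrix f g with hN
  have htri : N.BlockTriangular (⇑OrderDual.toDual) := by
    intro i j hij
    exact hu i j (by simpa using hij)
  have hdet : N.det = 1 := by
    rw [Matrix.det_of_isLowerTriangular N htri]
    apply Finset.prod_eq_one
    intro i _
    exact hd i
  have hrank : N.rank = r := by
    have hu : IsUnit N := by
      rw [Matrix.isUnit_iff_isUnit_det, hdet]
      exact isUnit_one
    rw [Matrix.rank_of_isUnit N hu, Fintype.card_fin]
  calc r = N.rank := hrank.symm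
    _ ≤ M.rank := Matrix.rank_submatrix_le M f g

/-! ### integer entries of `xprod` -/

/-- the symbolic word of `xprod L` -/
def wordOne (L : List ℕ) : List (ℕ × LPoly) := L.map fun r => (r, pconst 1)

/-- the valuation with all variables equal to one -/
def val1 (F : Type*) [Field F] : Val F := ⟨1, one_ne_zero, 1, 1⟩

theorem evalWord_wordOne (L : List ℕ) :
    evalWord (val1 F) (wordOne L) = L.map fun r => (r, (1 : F)) := by
  simp [evalWord, wordOne]

theorem xprod_val (hF : ChevFacts D F) (L : List ℕ) :
    ((xprod hF L : GL D.Idx F) : Matrix D.Idx D.Idx F) = D.wordMat F (L.map fun r => (r, (1 : F))) := by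
  have : xprod hF L = wordGL D hF.xadd (L.map fun r => (r, (1 : F))) := by
    unfold xprod wordGL
    rw [List.map_map]
    rfl
  rw [this, wordGL_val]

/-- the sum of the coefficients of a polynomial -/
def sumCoef (p : LPoly) : ℤ := (p.map Term.coef).sum

theorem evalP_val1 (p : LPoly) : evalP (val1 F) p = ((sumCoef p : ℤ) : F) := by
  induction p with
  | nil => simp [sumCoef]
  | cons a p ih =>
    rw [evalP_cons, ih]
    simp [sumCoef, Term.eval, val1]

/-- the column `cj` of `xprod L`, as a sparse vector -/
def colV (D : ChevalleyDatum) (L : List ℕ) (cj : Code) : SVec := applyWord D (wordOne L) (basisV cj)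

/-- the integer behind the entry `(ci, cj)` of `xprod L - 1` -/
def mZ (D : ChevalleyDatum) (L : List ℕ) (ci cj : Code) : ℤ :=
  sumCoef (Cfsg.Agent.Lead.Chev.collect ci (colV D L cj)) - if ci = cj then 1 else 0

theorem xprod_sub_one_apply (hF : ChevFacts D F) (L : List ℕ) (i j : D.Idx) :
    (((xprod hF L : GL D.Idx F) : Matrix D.Idx D.Idx F) - 1) i j =
      ((mZ D L (codeOf D i) (codeOf D j) : ℤ) : F) := by
  have h1 : ((xprod hF L : GL D.Idx F) : Matrix D.Idx D.Idx F) i j =
      (((xprod hF L : GL D.Idx F) : Matrix D.Idx D.Idx F).mulVec (Pi.single j 1)) i := by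
    simp [Matrix.mulVec, dotProduct, Pi.single_apply]
  rw [Matrix.sub_apply, h1, xprod_val, ← evalWord_wordOne, ← evalV_basisV D (val1 F) j, ← evalV_applyWord,
    evalV_apply_eq, evalP_val1]
  unfold mZ colV
  rw [Matrix.one_apply]
  by_cases hij : i = j
  · subst hij
    simp
  · have : codeOf D i ≠ codeOf D j := fun e => hij (codeOf_injective D e)
    simp [hij, this]

/-- the coordinate projection of a Boolean predicate on the codes -/
def projP (D : ChevalleyDatum) (F : Type*) [Field F] (P : Code → Bool) : Matrix D.Idx D.Idx F :=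
  Matrix.diagonal fun i => if P (codeOf D i) then 1 else 0

theorem mul_projP_apply (P : Code → Bool) (M : Matrix D.Idx D.Idx F) (i j : D.Idx) :
    (M * projP D F P) i j = if P (codeOf D j) then M i j else 0 := by
  unfold projP
  rw [Matrix.mul_diagonal]
  split_ifs <;> simp

theorem cast_parity [CharP F 2] (z : ℤ) : ((z : ℤ) : F) = if z % 2 = 0 then 0 else 1 := by
  split_ifs with h
  · exact cast_even z h
  · exact cast_odd z h

/-! ### the upper bound -/

/-- the column `cj` of `xprod L - 1` vanishes modulo two -/
def colZero (D : ChevalleyDatum) (L : List ℕ) (cj : Code) : Bool :=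
  (colV D L cj ++ basisV cj).all fun e => decide (mZ D L e.1 cj % 2 = 0)

theorem mZ_eq_zero_of_not_mem (L : List ℕ) (ci cj : Code)
    (h : ∀ e ∈ colV D L cj ++ basisV cj, e.1 ≠ ci) : mZ D L ci cj = 0 := by
  unfold mZ
  have h1 : ∀ e ∈ colV D L cj, e.1 ≠ ci := fun e he => h e (List.mem_append_left _ he)
  have h2 : ci ≠ cj := by
    intro e
    apply h (cj, pconst 1) (List.mem_append_right _ (by simp [basisV]))
    exact e.symm
  rw [collect_eq_nil ci _ h1, if_neg h2]
  rfl

theorem entry_zero_of_colZero [CharP F 2] (hF : ChevFacts D F) (L : List ℕ) (j : D.Idx)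
    (h : colZero D L (codeOf D j) = true) (i : D.Idx) :
    (((xprod hF L : GL D.Idx F) : Matrix D.Idx D.Idx F) - 1) i j = 0 := by
  rw [xprod_sub_one_apply, cast_parity, if_pos]
  by_cases hex : ∃ e ∈ colV D L (codeOf D j) ++ basisV (codeOf D j), e.1 = codeOf D i
  · obtain ⟨e, he, hc⟩ := hex
    have := List.all_eq_true.1 h e he
    rw [hc] at this
    simpa using this
  · push Not at hex
    rw [mZ_eq_zero_of_not_mem L _ _ hex]
    rfl

/-- every column of `(xprod L - 1) * projP P` outside the list `C` vanishes -/
def ubChk (D : ChevalleyDatum) (L : List ℕ) (P : Code → Bool) (C : List Code) : Bool :=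
  (allCodes D).all fun cj => !(P cj) || (C.any fun c => decide (c = cj)) || colZero D L cj

theorem rank_le_of_ubChk [CharP F 2] (hF : ChevFacts D F) (L : List ℕ) (P : Code → Bool) (C : List Code)
    (h : ubChk D L P C = true) :
    ((((xprod hF L : GL D.Idx F) : Matrix D.Idx D.Idx F) - 1) * projP D F P).rank ≤ C.length := by
  classical
  set M : Matrix D.Idx D.Idx F := (((xprod hF L : GL D.Idx F) : Matrix D.Idx D.Idx F) - 1) * projP D F P
    with hM
  rw [← Matrix.rank_transpose]
  set s : Finset D.Idx := Finset.univ.filter fun j => codeOf D j ∈ C with hs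
  have hsupp : Function.support M.transpose.row ⊆ s := by
    intro j hj
    rw [Function.mem_support] at hj
    by_contra hjs
    apply hj
    funext i
    show M i j = 0
    rw [hM, mul_projP_apply]
    split_ifs with hP
    · have hjC : codeOf D j ∉ C := by
        intro hc
        apply hjs
        rw [hs]
        simp [hc]
      have h1 := List.all_eq_true.1 h _ (codeOf_mem_allCodes D j)
      simp only [hP, Bool.not_true, Bool.false_or, Bool.or_eq_true] at h1
      rcases h1 with h1 | h1
      · exact absurd (by simpa using h1) hjC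
      · exact entry_zero_of_colZero hF L j h1 i
    · rfl
  refine (Matrix.rank_le_card_of_support_subset M.transpose s hsupp).trans ?_
  calc s.card ≤ C.toFinset.card := by
        apply Finset.card_le_card_of_injOn (fun j => codeOf D j)
        · intro j hj
          rw [hs] at hj
          simpa using hj
        · intro a _ b _ e
          exact codeOf_injective D e
    _ ≤ C.length := List.toFinset_card_le C

/-! ### the lower bound -/

/-- a unitriangular certificate: pairs `(fᵢ, gᵢ)` of coordinates with `P gᵢ`, odd entries `(fᵢ, gᵢ)` and even entries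
`(fᵢ, gⱼ)` for `i < j` -/
def lbChk (D : ChevalleyDatum) (L : List ℕ) (P : Code → Bool) (cert : List (D.Idx × D.Idx)) : Bool :=
  (cert.all fun p => P (codeOf D p.2) && decide (mZ D L (codeOf D p.1) (codeOf D p.2) % 2 ≠ 0)) &&
    decide (cert.Pairwise fun p q => mZ D L (codeOf D p.1) (codeOf D q.2) % 2 = 0)

theorem le_rank_of_lbChk [CharP F 2] (hF : ChevFacts D F) (L : List ℕ) (P : Code → Bool)
    (cert : List (D.Idx × D.Idx)) (h : lbChk D L P cert = true) :
    cert.length ≤ ((((xprod hF L : GL D.Idx F) : Matrix D.Idx D.Idx F) - 1) * projP D F P).rank := by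
  classical
  simp only [lbChk, Bool.and_eq_true, List.all_eq_true, decide_eq_true_eq] at h
  obtain ⟨h1, h2⟩ := h
  apply le_rank_of_tri _ cert.length (fun i => (cert.get i).1) (fun i => (cert.get i).2)
  · intro i
    have := h1 (cert.get i) (List.get_mem cert i)
    rw [mul_projP_apply, if_pos this.1, xprod_sub_one_apply, cast_parity, if_neg this.2]
  · intro i j hij
    rw [List.pairwise_iff_get] at h2
    have := h2 i j hij
    have hP := (h1 (cert.get j) (List.get_mem cert j)).1
    rw [mul_projP_apply, if_pos hP, xprod_sub_one_apply, cast_parity, if_pos this]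

/-! ### conjugacy invariance of `rank (g - 1)` -/

theorem rank_sub_one_eq_of_conj {n : Type*} [Fintype n] [DecidableEq n] (a b c : GL n F)
    (h : c * a * c⁻¹ = b) :
    ((a : Matrix n n F) - 1).rank = ((b : Matrix n n F) - 1).rank := by
  have hb : ((b : Matrix n n F) - 1) =
      (c : Matrix n n F) * ((a : Matrix n n F) - 1) * ((c⁻¹ : GL n F) : Matrix n n F) := by
    rw [← h]
    simp only [Units.val_mul, Matrix.mul_sub, Matrix.sub_mul, Matrix.mul_one]
    congr 1
    rw [← Units.val_mul, mul_inv_cancel, Units.val_one]
  have hc : IsUnit (c : Matrix n n F).det := by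
    have : IsUnit (c : Matrix n n F) := ⟨c, rfl⟩
    exact (Matrix.isUnit_iff_isUnit_det _).1 this
  have hci : IsUnit ((c⁻¹ : GL n F) : Matrix n n F).det := by
    have : IsUnit ((c⁻¹ : GL n F) : Matrix n n F) := ⟨c⁻¹, rfl⟩
    exact (Matrix.isUnit_iff_isUnit_det _).1 this
  rw [hb, Matrix.rank_mul_eq_left_of_isUnit_det _ _ hci, Matrix.rank_mul_eq_right_of_isUnit_det _ _ hc]

theorem CJ.rank_eq {a b : GL D.Idx F} (h : CJ D F a b) :
    ((a : Matrix D.Idx D.Idx F) - 1).rank = ((b : Matrix D.Idx D.Idx F) - 1).rank := by
  obtain ⟨c, _, e⟩ := h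
  exact rank_sub_one_eq_of_conj a b c e

end Cfsg.Agent.Helper13.InvN
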