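import Mathlib
import Cfsg.Agent.Lib.Helper28.InvNRank
import Cfsg.Agent.Lib.Helper28.F4DInv

/-!
# `F₄(q)`, `q` even: rank certificates for the four representatives of the classes of involutions (helper28, S2174)

`rank (y - 1)` is `16, 16, 21, 24` for `x₄₇(1)`, `x₄₄(1)`, `x₄₇(1) x₄₄(1)`, `x₃₉(1) x₄₅(1)`, and on the invariant
26-dimensional subspace `rank ((y - 1) P)` is `6` for `x₄₇(1)` and `10` for `x₄₄(1)`.  Only the bounds needed to separate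
the four classes are proved.  GENERATED certificates (python, greedy unitriangular submatrices).
-/

set_option autoImplicit false
set_option linter.unusedSectionVars false
set_option linter.unusedVariables false
set_option maxRecDepth 100000

namespace Cfsg.Agent.Helper28.F4D

open Cfsg Cfsg.Lie Cfsg.Agent.Lead.Chev Cfsg.Agent.Helper13.InvN

/-- the trivial predicate -/
def allP : Code → Bool := fun _ => true

-- ub_47: rank 16, 16 nonzero columns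
def ub_47 : List Code := [.inl 3, .inr 0, .inr 1, .inr 2, .inr 3, .inr 4, .inr 5, .inr 7, .inr 8, .inr 9, .inr 11, .inr 15, .inr 16, .inr 18, .inr 21, .inr 23]
-- ub_44: rank 16, 16 nonzero columns
def ub_44 : List Code := [.inl 0, .inr 0, .inr 1, .inr 2, .inr 3, .inr 4, .inr 5, .inr 6, .inr 7, .inr 8, .inr 9, .inr 10, .inr 11, .inr 12, .inr 13, .inr 14]
-- ub_47_44: rank 21, 22 nonzero columns
def ub_47_44 : List Code := [.inl 0, .inl 3, .inr 0, .inr 1, .inr 2, .inr 3, .inr 4, .inr 5, .inr 6, .inr 7, .inr 8, .inr 9, .inr 10, .inr 11, .inr 12, .inr 13, .inr 14, .inr 15, .inr 16, .inr 18, .inr 21, .inr 23]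
-- ubS_47: rank 6, 6 nonzero columns
def ubS_47 : List Code := [.inr 3, .inr 7, .inr 8, .inr 9, .inr 11, .inr 18]
-- lb_47: rank 16, certificate of size 16
def lb_47 : List (chevF4.Idx × chevF4.Idx) := [(Sum.inr ⟨38, by decide⟩, Sum.inr ⟨8, by decide⟩), (Sum.inr ⟨36, by decide⟩, Sum.inr ⟨7, by decide⟩), (Sum.inr ⟨39, by decide⟩, Sum.inr ⟨9, by decide⟩), (Sum.inr ⟨31, by decide⟩, Sum.inr ⟨4, by decide⟩), (Sum.inr ⟨42, by decide⟩, Sum.inr ⟨15, by decide⟩), (Sum.inr ⟨26, by decide⟩, Sum.inr ⟨2, by decide⟩), (Sum.inl ⟨0, by decide⟩, Sum.inr ⟨0, by decide⟩), (Sum.inr ⟨29, by decide⟩, Sum.inr ⟨3, by decide⟩), (Sum.inr ⟨24, by decide⟩, Sum.inr ⟨1, by decide⟩), (Sum.inr ⟨45, by decide⟩, Sum.inr ⟨21, by decide⟩), (Sum.inr ⟨40, by decide⟩, Sum.inr ⟨11, by decide⟩), (Sum.inr ⟨32, by decide⟩, Sum.inr ⟨5, by decide⟩), (Sum.inr ⟨43, by decide⟩, Sum.inr ⟨16, by decide⟩), (Sum.inr ⟨46, by decide⟩, Sum.inr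 ⟨23, by decide⟩), (Sum.inr ⟨47, by decide⟩, Sum.inl ⟨3, by decide⟩), (Sum.inr ⟨44, by decide⟩, Sum.inr ⟨18, by decide⟩)]
-- lb_44: rank 16, certificate of size 16
def lb_44 : List (chevF4.Idx × chevF4.Idx) := [(Sum.inr ⟨20, by decide⟩, Sum.inr ⟨2, by decide⟩), (Sum.inr ⟨42, by decide⟩, Sum.inr ⟨1, by decide⟩), (Sum.inr ⟨45, by decide⟩, Sum.inr ⟨4, by decide⟩), (Sum.inr ⟨38, by decide⟩, Sum.inr ⟨12, by decide⟩), (Sum.inr ⟨36, by decide⟩, Sum.inr ⟨10, by decide⟩), (Sum.inr ⟨47, by decide⟩, Sum.inr ⟨6, by decide⟩), (Sum.inr ⟨37, by decide⟩, Sum.inr ⟨11, by decide⟩), (Sum.inr ⟨46, by decide⟩, Sum.inr ⟨5, by decide⟩), (Sum.inr ⟨34, by decide⟩, Sum.inr ⟨8, by decide⟩), (Sum.inr ⟨40, by decide⟩, Sum.inr ⟨14, by decide⟩), (Sum.inr ⟨33, by decide⟩, Sum.inr ⟨7, by decide⟩), (Sum.inr ⟨41, by decide⟩, Sum.inr ⟨0, by decide⟩), (Sum.inr ⟨35, by decide⟩, Sum.inr ⟨9, by decide⟩), (Sum.inr ⟨39, by decide⟩,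 Sum.inr ⟨13, by decide⟩), (Sum.inl ⟨1, by decide⟩, Sum.inr ⟨3, by decide⟩), (Sum.inr ⟨44, by decide⟩, Sum.inl ⟨0, by decide⟩)]
-- lb_47_44: rank 21, certificate of size 21
def lb_47_44 : List (chevF4.Idx × chevF4.Idx) := [(Sum.inr ⟨34, by decide⟩, Sum.inr ⟨8, by decide⟩), (Sum.inr ⟨19, by decide⟩, Sum.inr ⟨1, by decide⟩), (Sum.inr ⟨33, by decide⟩, Sum.inr ⟨7, by decide⟩), (Sum.inr ⟨41, by decide⟩, Sum.inr ⟨0, by decide⟩), (Sum.inr ⟨38, by decide⟩, Sum.inr ⟨12, by decide⟩), (Sum.inr ⟨20, by decide⟩, Sum.inr ⟨2, by decide⟩), (Sum.inr ⟨27, by decide⟩, Sum.inr ⟨4, by decide⟩), (Sum.inr ⟨35, by decide⟩, Sum.inr ⟨9, by decide⟩), (Sum.inr ⟨36, by decide⟩, Sum.inr ⟨10, by decide⟩), (Sum.inr ⟨45, by decide⟩, Sum.inr ⟨21, by decide⟩), (Sum.inr ⟨32, by decide⟩, Sum.inr ⟨5, by decide⟩), (Sum.inr ⟨43, by decide⟩, Sum.inr ⟨16, by decide⟩), (Sum.inr ⟨46, by decide⟩, Sum.inr ⟨23, by decide⟩), (Sum.inl ⟨1,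 by decide⟩, Sum.inr ⟨3, by decide⟩), (Sum.inr ⟨37, by decide⟩, Sum.inr ⟨11, by decide⟩), (Sum.inr ⟨39, by decide⟩, Sum.inr ⟨13, by decide⟩), (Sum.inr ⟨29, by decide⟩, Sum.inr ⟨6, by decide⟩), (Sum.inr ⟨47, by decide⟩, Sum.inl ⟨3, by decide⟩), (Sum.inr ⟨40, by decide⟩, Sum.inr ⟨14, by decide⟩), (Sum.inr ⟨42, by decide⟩, Sum.inr ⟨15, by decide⟩), (Sum.inr ⟨44, by decide⟩, Sum.inr ⟨18, by decide⟩)]
-- lb_39_45: rank 24, certificate of size 24
def lb_39_45 : List (chevF4.Idx × chevF4.Idx) := [(Sum.inr ⟨32, by decide⟩, Sum.inr ⟨4, by decide⟩), (Sum.inr ⟨34, by decide⟩, Sum.inr ⟨7, by decide⟩), (Sum.inr ⟨41, by decide⟩, Sum.inr ⟨16, by decide⟩), (Sum.inr ⟨33, by decide⟩, Sum.inr ⟨15, by decide⟩), (Sum.inr ⟨26, by decide⟩, Sum.inr ⟨1, by decide⟩), (Sum.inr ⟨21, by decide⟩, Sum.inr ⟨0, by decide⟩), (Sum.inr ⟨36, by decide⟩, Sum.inr ⟨19, by decide⟩), (Sum.inr ⟨30, by decide⟩, Sum.inr ⟨5, by decide⟩),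 (Sum.inr ⟨29, by decide⟩, Sum.inr ⟨12, by decide⟩), (Sum.inr ⟨31, by decide⟩, Sum.inr ⟨6, by decide⟩), (Sum.inr ⟨35, by decide⟩, Sum.inr ⟨18, by decide⟩), (Sum.inr ⟨28, by decide⟩, Sum.inr ⟨11, by decide⟩), (Sum.inl ⟨3, by decide⟩, Sum.inr ⟨2, by decide⟩), (Sum.inr ⟨42, by decide⟩, Sum.inr ⟨17, by decide⟩), (Sum.inl ⟨0, by decide⟩, Sum.inr ⟨8, by decide⟩), (Sum.inr ⟨27, by decide⟩, Sum.inr ⟨3, by decide⟩), (Sum.inr ⟨45, by decide⟩, Sum.inl ⟨2, by decide⟩), (Sum.inr ⟨39, by decide⟩, Sum.inl ⟨1, by decide⟩), (Sum.inr ⟨44, by decide⟩, Sum.inr ⟨20, by decide⟩), (Sum.inr ⟨37, by decide⟩, Sum.inr ⟨9, by decide⟩), (Sum.inr ⟨46, by decide⟩, Sum.inr ⟨25, by decide⟩), (Sum.inr ⟨40, by decide⟩, Sum.inr ⟨27, by decide⟩), (Sum.inr ⟨47, by decide⟩, Sum.inr ⟨26, by decide⟩), (Sum.inr ⟨38, by decide⟩, Sum.inr ⟨10, by decide⟩)]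
-- lbS_44: rank 10, certificate of size 10
def lbS_44 : List (chevF4.Idx × chevF4.Idx) := [(Sum.inr ⟨38, by decide⟩, Sum.inr ⟨12, by decide⟩), (Sum.inr ⟨33, by decide⟩, Sum.inr ⟨7, by decide⟩), (Sum.inr ⟨39, by decide⟩, Sum.inr ⟨13, by decide⟩), (Sum.inr ⟨37, by decide⟩, Sum.inr ⟨11, by decide⟩), (Sum.inr ⟨36, by decide⟩, Sum.inr ⟨10, by decide⟩), (Sum.inr ⟨40, by decide⟩, Sum.inr ⟨14, by decide⟩), (Sum.inr ⟨35, by decide⟩, Sum.inr ⟨9, by decide⟩), (Sum.inl ⟨1, by decide⟩, Sum.inr ⟨3, by decide⟩), (Sum.inr ⟨34, by decide⟩, Sum.inr ⟨8, by decide⟩), (Sum.inr ⟨44, by decide⟩, Sum.inl ⟨0, by decide⟩)]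

theorem ub_47_chk : ubChk chevF4 [47] allP ub_47 = true := by decide +kernel
theorem ub_44_chk : ubChk chevF4 [44] allP ub_44 = true := by decide +kernel
theorem ub_47_44_chk : ubChk chevF4 [47, 44] allP ub_47_44 = true := by decide +kernel
theorem ubS_47_chk : ubChk chevF4 [47] inS ubS_47 = true := by decide +kernel
theorem lb_47_chk : lbChk chevF4 [47] allP lb_47 = true := by decide +kernel
theorem lb_44_chk : lbChk chevF4 [44] allP lb_44 = true := by decide +kernel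
theorem lb_47_44_chk : lbChk chevF4 [47, 44] allP lb_47_44 = true := by decide +kernel
theorem lb_39_45_chk : lbChk chevF4 [39, 45] allP lb_39_45 = true := by decide +kernel
theorem lbS_44_chk : lbChk chevF4 [44] inS lbS_44 = true := by decide +kernel

variable {F : Type*} [Field F] [CharP F 2]

theorem projP_allP : projP chevF4 F allP = 1 := by
  unfold projP allP
  simp

theorem projP_inS : projP chevF4 F inS = proj F := rfl

/-- the plain rank `rank (xprod L - 1)` -/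
noncomputable def rk (hF : ChevFacts chevF4 F) (L : List ℕ) : ℕ :=
  (((xprod hF L : GL chevF4.Idx F) : Matrix chevF4.Idx chevF4.Idx F) - 1).rank

/-- the rank on the invariant subspace -/
noncomputable def rkS (hF : ChevFacts chevF4 F) (L : List ℕ) : ℕ :=
  ((((xprod hF L : GL chevF4.Idx F) : Matrix chevF4.Idx chevF4.Idx F) - 1) * proj F).rank

theorem rk_47_le (hF : ChevFacts chevF4 F) : rk hF [47] ≤ 16 := by
  have := rank_le_of_ubChk hF [47] allP ub_47 ub_47_chk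
  rw [projP_allP, Matrix.mul_one] at this
  exact this

theorem rk_44_le (hF : ChevFacts chevF4 F) : rk hF [44] ≤ 16 := by
  have := rank_le_of_ubChk hF [44] allP ub_44 ub_44_chk
  rw [projP_allP, Matrix.mul_one] at this
  exact this

theorem rk_47_ge (hF : ChevFacts chevF4 F) : 16 ≤ rk hF [47] := by
  have := le_rank_of_lbChk hF [47] allP lb_47 lb_47_chk
  rw [projP_allP, Matrix.mul_one] at this
  exact this

theorem rk_44_ge (hF : ChevFacts chevF4 F) : 16 ≤ rk hF [44] := by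
  have := le_rank_of_lbChk hF [44] allP lb_44 lb_44_chk
  rw [projP_allP, Matrix.mul_one] at this
  exact this

theorem rk_47_44_le (hF : ChevFacts chevF4 F) : rk hF [47, 44] ≤ 22 := by
  have := rank_le_of_ubChk hF [47, 44] allP ub_47_44 ub_47_44_chk
  rw [projP_allP, Matrix.mul_one] at this
  exact this

theorem rk_47_44_ge (hF : ChevFacts chevF4 F) : 21 ≤ rk hF [47, 44] := by
  have := le_rank_of_lbChk hF [47, 44] allP lb_47_44 lb_47_44_chk
  rw [projP_allP, Matrix.mul_one] at this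
  exact this

theorem rk_39_45_ge (hF : ChevFacts chevF4 F) : 24 ≤ rk hF [39, 45] := by
  have := le_rank_of_lbChk hF [39, 45] allP lb_39_45 lb_39_45_chk
  rw [projP_allP, Matrix.mul_one] at this
  exact this

theorem rkS_47_le (hF : ChevFacts chevF4 F) : rkS hF [47] ≤ 6 := by
  have := rank_le_of_ubChk hF [47] inS ubS_47 ubS_47_chk
  rw [projP_inS] at this
  exact this

theorem rkS_44_ge (hF : ChevFacts chevF4 F) : 10 ≤ rkS hF [44] := by
  have := le_rank_of_lbChk hF [44] inS lbS_44 lbS_44_chk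
  rw [projP_inS] at this
  exact this

end Cfsg.Agent.Helper28.F4D
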