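import Mathlib
import Cfsg.Agent.Lib.Helper28.F4DRank

/-!
# `F₄(q)`, `q` even: the four representatives are pairwise non-conjugate, lie in the group and have order two
(helper28, S2174)
-/

set_option autoImplicit false
set_option linter.unusedSectionVars false
set_option linter.unusedVariables false
set_option maxRecDepth 100000

namespace Cfsg.Agent.Helper28.F4D

open Cfsg Cfsg.Lie Cfsg.Agent.Lead.Chev Cfsg.Agent.Helper13.InvN

variable {F : Type*} [Field F] [CharP F 2]

/-- the representatives of the four classes of involutions -/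
def repsF4 : List (List ℕ) := [[47], [44], [47, 44], [39, 45]]

theorem CJ.rk_eq (hF : ChevFacts chevF4 F) {L L' : List ℕ}
    (h : CJ chevF4 F (xprod hF L) (xprod hF L')) : rk hF L = rk hF L' :=
  CJ.rank_eq h

theorem CJ.rkS_eq (hF : ChevFacts chevF4 F) {L L' : List ℕ}
    (h : CJ chevF4 F (xprod hF L) (xprod hF L')) : rkS hF L = rkS hF L' := by
  obtain ⟨c, hc, e⟩ := h
  exact rank_trunc_eq hF.xadd _ _ c hc e

/-- the representatives are pairwise non-conjugate -/
theorem reps_not_conj (hF : ChevFacts chevF4 F) (L L' : List ℕ) (hL : L ∈ repsF4) (hL' : L' ∈ repsF4)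
    (h : CJ chevF4 F (xprod hF L) (xprod hF L')) : L = L' := by
  have h47 := rk_47_le hF
  have h44 := rk_44_le hF
  have h4744 := rk_47_44_le hF
  have h4744' := rk_47_44_ge hF
  have h3945 := rk_39_45_ge hF
  have hS47 := rkS_47_le hF
  have hS44 := rkS_44_ge hF
  have e1 := CJ.rk_eq hF h
  have e2 := CJ.rkS_eq hF h
  simp only [repsF4, List.mem_cons, List.mem_nil_iff, or_false] at hL hL'
  rcases hL with rfl | rfl | rfl | rfl <;> rcases hL' with rfl | rfl | rfl | rfl <;>
    first
    | rfl
    | (exfalso; omega)

theorem xprod_sq (hF : ChevFacts chevF4 F) (L : List ℕ) (h : collect chevF4 100 (L ++ L) = []) :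
    xprod hF L * xprod hF L = 1 := by
  rw [← xprod_append, ← xprod_collect hF 100, h, xprod_nil]

theorem reps_sq_chk : ∀ L ∈ repsF4, collect chevF4 100 (L ++ L) = [] := by decide +kernel

/-- a representative is not the identity -/
theorem reps_ne_one (hF : ChevFacts chevF4 F) (L : List ℕ) (hL : L ∈ repsF4) : xprod hF L ≠ 1 := by
  intro h
  have h0 : rk hF L = 0 := by
    unfold rk
    rw [h, Units.val_one, sub_self, Matrix.rank_zero]
  have h0' : rkS hF L = 0 := by
    unfold rkS
    rw [h, Units.val_one, sub_self, Matrix.zero_mul, Matrix.rank_zero]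
  have h4744' := rk_47_44_ge hF
  have h3945 := rk_39_45_ge hF
  have hS44 := rkS_44_ge hF
  simp only [repsF4, List.mem_cons, List.mem_nil_iff, or_false] at hL
  rcases hL with rfl | rfl | rfl | rfl
  · have := rk_47_ge hF
    omega
  · omega
  · omega
  · omega

end Cfsg.Agent.Helper28.F4D
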