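import Mathlib
import Cfsg.Agent.Lib.Helper28.InvNCollect
import Cfsg.Agent.Lib.Helper28.F4DNconj
import Cfsg.Agent.Lib.Helper13.InvNTabF4

/-!
# `F₄(q)`, `q` even, Part C2 (helper28, S2174): the product of the `x_β(1)` over each frame of the table `tabF4` is
conjugate to one of the four representatives `x₄₇(1)`, `x₄₄(1)`, `x₄₇(1) x₄₄(1)`, `x₃₉(1) x₄₅(1)`.

GENERATED chains (breadth first search in `U(F₄)(𝔽₂)`): conjugations by positive root elements `x_r(1)` and by Weyl
group elements, checked by the verified collector of `InvNCollect`.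
-/

set_option autoImplicit false
set_option linter.unusedSectionVars false
set_option linter.unusedVariables false
set_option maxRecDepth 100000

namespace Cfsg.Agent.Helper28.F4D

open Cfsg Cfsg.Lie Cfsg.Agent.Lead.Chev Cfsg.Agent.Helper13.InvN

/-- the frame with roots `[47, 41, 30, 25]` -/
def frame0 : Frame := [([3, 2, 1, 2, 3, 0, 1], 2), ([0, 1], 2), ([1], 2), ([], 2)]

theorem chain0 : applyChain chevF4 1000 [.x 27, .x 32, .x 33, .x 29, .w [0], .w [1], .x 27, .x 26, .w [2, 1, 2, 0, 1, 2, 3, 0, 1]] (frameRoots chevF4 frame0) = some [39, 45] := by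
  decide +kernel

/-- the frame with roots `[47, 37, 25]` -/
def frame1 : Frame := [([3, 2, 1, 2, 3, 0, 1], 2), ([1, 2, 1], 0), ([], 2)]

theorem chain1 : applyChain chevF4 1000 [.x 26, .x 38, .x 45, .w [2, 1, 2, 0, 1, 2, 3, 0, 1]] (frameRoots chevF4 frame1) = some [39, 45] := by
  decide +kernel

/-- the frame with roots `[47, 41, 28]` -/
def frame2 : Frame := [([3, 2, 1, 2, 3, 0, 1], 2), ([0, 1], 2), ([2], 1)]

theorem chain2 : applyChain chevF4 1000 [.x 29, .x 32, .x 42, .w [2, 1, 2, 0, 1, 2, 3]] (frameRoots chevF4 frame2) = some [39, 45] := by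
  decide +kernel

/-- the frame with roots `[47, 41, 30]` -/
def frame3 : Frame := [([3, 2, 1, 2, 3, 0, 1], 2), ([0, 1], 2), ([1], 2)]

theorem chain3 : applyChain chevF4 1000 [.x 29, .x 33, .w [0], .w [3], .w [2], .w [1], .x 27] (frameRoots chevF4 frame3) = some [39, 45] := by
  decide +kernel

/-- the frame with roots `[47, 37]` -/
def frame4 : Frame := [([3, 2, 1, 2, 3, 0, 1], 2), ([1, 2, 1], 0)]

theorem chain4 : applyChain chevF4 1000 [.w [2, 3]] (frameRoots chevF4 frame4) = some [39, 45] := by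
  decide +kernel

/-- the frame with roots `[47, 41]` -/
def frame5 : Frame := [([3, 2, 1, 2, 3, 0, 1], 2), ([0, 1], 2)]

theorem chain5 : applyChain chevF4 1000 [.x 29, .w [3, 2, 1, 2, 3]] (frameRoots chevF4 frame5) = some [44, 47] := by
  decide +kernel

/-- the frame with roots `[47]` -/
def frame6 : Frame := [([3, 2, 1, 2, 3, 0, 1], 2)]

theorem chain6 : applyChain chevF4 1000 [.w []] (frameRoots chevF4 frame6) = some [47] := by
  decide +kernel

/-- the frame with roots `[45, 43, 32]` -/
def frame7 : Frame := [([1, 2, 3, 0, 1], 2), ([2, 3, 0, 1], 2), ([2, 3, 1], 2)]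

theorem chain7 : applyChain chevF4 1000 [.x 27, .x 33, .w [0], .w [1], .x 27] (frameRoots chevF4 frame7) = some [39, 45] := by
  decide +kernel

/-- the frame with roots `[45, 39]` -/
def frame8 : Frame := [([1, 2, 3, 0, 1], 2), ([2, 3, 1, 2, 1], 0)]

theorem chain8 : applyChain chevF4 1000 [.w []] (frameRoots chevF4 frame8) = some [39, 45] := by
  decide +kernel

/-- the frame with roots `[44, 32]` -/
def frame9 : Frame := [([0, 1, 2, 3, 1, 2, 1], 0), ([2, 3, 1], 2)]

theorem chain9 : applyChain chevF4 1000 [.w [1, 0]] (frameRoots chevF4 frame9) = some [39, 45] := by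
  decide +kernel

/-- the frame with roots `[44]` -/
def frame10 : Frame := [([0, 1, 2, 3, 1, 2, 1], 0)]

theorem chain10 : applyChain chevF4 1000 [.w []] (frameRoots chevF4 frame10) = some [44] := by
  decide +kernel

theorem frames_eq : tabF4.frames = [frame0, frame1, frame2, frame3, frame4, frame5, frame6, frame7, frame8, frame9, frame10, []] := by
  decide +kernel

variable {F : Type*} [Field F] [CharP F 2]

theorem xprod_47_44 (hF : ChevFacts chevF4 F) : xprod hF [44, 47] = xprod hF [47, 44] := by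
  have h : collect chevF4 100 [47, 44] = [44, 47] := by decide +kernel
  rw [← h, xprod_collect]

/-- Part C2 for `F₄` -/
theorem c2_F4 (hF : ChevFacts chevF4 F) :
    ∀ S ∈ tabF4.frames, S = [] ∨
      ∃ rep ∈ repsF4, CJ chevF4 F (xprod hF (frameRoots chevF4 S)) (xprod hF rep) := by
  intro S hS
  rw [frames_eq] at hS
  simp only [List.mem_cons, List.mem_nil_iff, or_false] at hS
  rcases hS with rfl | rfl | rfl | rfl | rfl | rfl | rfl | rfl | rfl | rfl | rfl | rfl
  · exact Or.inr ⟨[39, 45], by simp [repsF4], CJ.applyChain hF 1000 _ _ _ chain0⟩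
  · exact Or.inr ⟨[39, 45], by simp [repsF4], CJ.applyChain hF 1000 _ _ _ chain1⟩
  · exact Or.inr ⟨[39, 45], by simp [repsF4], CJ.applyChain hF 1000 _ _ _ chain2⟩
  · exact Or.inr ⟨[39, 45], by simp [repsF4], CJ.applyChain hF 1000 _ _ _ chain3⟩
  · exact Or.inr ⟨[39, 45], by simp [repsF4], CJ.applyChain hF 1000 _ _ _ chain4⟩
  · refine Or.inr ⟨[47, 44], by simp [repsF4], ?_⟩
    rw [← xprod_47_44]
    exact CJ.applyChain hF 1000 _ _ _ chain5
  · exact Or.inr ⟨[47], by simp [repsF4], CJ.applyChain hF 1000 _ _ _ chain6⟩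
  · exact Or.inr ⟨[39, 45], by simp [repsF4], CJ.applyChain hF 1000 _ _ _ chain7⟩
  · exact Or.inr ⟨[39, 45], by simp [repsF4], CJ.applyChain hF 1000 _ _ _ chain8⟩
  · exact Or.inr ⟨[39, 45], by simp [repsF4], CJ.applyChain hF 1000 _ _ _ chain9⟩
  · exact Or.inr ⟨[44], by simp [repsF4], CJ.applyChain hF 1000 _ _ _ chain10⟩
  · exact Or.inl rfl

end Cfsg.Agent.Helper28.F4D
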