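import Mathlib
import Cfsg.Agent.Lib.Helper28.F4C2
import Cfsg.Agent.Lib.Lead.ChevFactsAll
import Cfsg.Agent.Lib.Lead.ChevOrderAll

/-!
# `F₄(q)`, `q` even: exactly four classes of involutions (helper28, S2174)

Assembly of Part C2 (`c2_F4`) and Part D (`reps_not_conj`) with the generic theorem "every element of square one is
conjugate to the product of the `x_β(1)` over a frame of the table" (helper13), which enters as the hypothesis `Hgen`.
-/

set_option autoImplicit false
set_option linter.unusedSectionVars false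
set_option linter.unusedVariables false

namespace Cfsg.Agent.Helper28.F4D

open Cfsg Cfsg.Lie Cfsg.Agent.Lead.Chev Cfsg.Agent.Helper13.InvN

variable {F : Type*} [Field F] [CharP F 2]

theorem hmemF4 : chevF4 ∈ [chevG2, chevB2, chevD4, chevF4, chevE6, chevE7, chevE8] := by simp

/-- the facts for `F₄` -/
theorem hF4 : ChevFacts chevF4 F := chevFacts_of_mem chevF4 hmemF4

/-- the four matrices of the statement -/
def mats (F : Type*) [Field F] : List (Matrix chevF4.Idx chevF4.Idx F) :=
  [chevF4.x F 47 1, chevF4.x F 44 1, chevF4.x F 47 1 * chevF4.x F 44 1, chevF4.x F 39 1 * chevF4.x F 45 1]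

theorem xprod_val_mem (hF : ChevFacts chevF4 F) (rep : List ℕ) (h : rep ∈ repsF4) :
    ((xprod hF rep : GL chevF4.Idx F) : Matrix chevF4.Idx chevF4.Idx F) ∈ mats F := by
  simp only [repsF4, List.mem_cons, List.mem_nil_iff, or_false] at h
  rcases h with rfl | rfl | rfl | rfl <;>
    simp [mats, xprod, xGL_val]

theorem eq_xprod_of_val_mem (hF : ChevFacts chevF4 F) (y : GL chevF4.Idx F)
    (h : (y : Matrix chevF4.Idx chevF4.Idx F) ∈ mats F) : ∃ rep ∈ repsF4, y = xprod hF rep := by
  simp only [mats, List.mem_cons, List.mem_nil_iff, or_false] at h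
  rcases h with h | h | h | h
  · exact ⟨[47], by simp [repsF4], Units.ext (by rw [h]; simp [xprod, xGL_val])⟩
  · exact ⟨[44], by simp [repsF4], Units.ext (by rw [h]; simp [xprod, xGL_val])⟩
  · exact ⟨[47, 44], by simp [repsF4], Units.ext (by rw [h]; simp [xprod, xGL_val])⟩
  · exact ⟨[39, 45], by simp [repsF4], Units.ext (by rw [h]; simp [xprod, xGL_val])⟩

theorem xprod_order_two (hF : ChevFacts chevF4 F) (rep : List ℕ) (h : rep ∈ repsF4) :
    orderOf (xprod hF rep) = 2 := by
  have h2 : xprod hF rep ^ 2 = 1 := by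
    rw [pow_two]
    exact xprod_sq hF rep (reps_sq_chk rep h)
  have : Fact (Nat.Prime 2) := ⟨Nat.prime_two⟩
  exact orderOf_eq_prime h2 (reps_ne_one hF rep h)

/-- the statement of S2174, from the generic theorem -/
theorem main_of_gen (hF : ChevFacts chevF4 F)
    (Hgen : ∀ g ∈ chevF4.group F, g * g = 1 →
      ∃ S ∈ tabF4.frames, CJ chevF4 F g (xprod hF (frameRoots chevF4 S))) :
    (∀ y : GL chevF4.Idx F, (y : Matrix chevF4.Idx chevF4.Idx F) ∈ mats F →
      y ∈ chevF4.group F ∧ orderOf y = 2) ∧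
    (∀ g ∈ chevF4.group F, orderOf g = 2 → ∃ y ∈ chevF4.group F,
      (y : Matrix chevF4.Idx chevF4.Idx F) ∈ mats F ∧ ∃ h ∈ chevF4.group F, h * g * h⁻¹ = y) ∧
    (∀ y₁ ∈ chevF4.group F, ∀ y₂ ∈ chevF4.group F,
      (y₁ : Matrix chevF4.Idx chevF4.Idx F) ∈ mats F → (y₂ : Matrix chevF4.Idx chevF4.Idx F) ∈ mats F →
      (∃ h ∈ chevF4.group F, h * y₁ * h⁻¹ = y₂) →
      (y₁ : Matrix chevF4.Idx chevF4.Idx F) = (y₂ : Matrix chevF4.Idx chevF4.Idx F)) := by
  refine ⟨?_, ?_, ?_⟩
  · intro y hy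
    obtain ⟨rep, hrep, rfl⟩ := eq_xprod_of_val_mem hF y hy
    exact ⟨xprod_mem_group hF rep, xprod_order_two hF rep hrep⟩
  · intro g hg hord
    have hgg : g * g = 1 := by
      rw [← pow_two, ← hord]
      exact pow_orderOf_eq_one g
    obtain ⟨S, hS, hcj⟩ := Hgen g hg hgg
    rcases c2_F4 hF S hS with rfl | ⟨rep, hrep, hcj2⟩
    · -- the empty frame: `g` would be the identity
      exfalso
      obtain ⟨c, _, e⟩ := hcj
      have h1 : g = 1 := by
        have : xprod hF (frameRoots chevF4 ([] : Frame)) = 1 := rfl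
        rw [this] at e
        have : g = c⁻¹ * (c * g * c⁻¹) * c := by group
        rw [this, e]
        group
      rw [h1, orderOf_one] at hord
      norm_num at hord
    · obtain ⟨c, hc, e⟩ := hcj.trans hcj2
      exact ⟨xprod hF rep, xprod_mem_group hF rep, xprod_val_mem hF rep hrep, c, hc, e⟩
  · intro y₁ _ y₂ _ h1 h2 hconj
    obtain ⟨r1, hr1, rfl⟩ := eq_xprod_of_val_mem hF y₁ h1
    obtain ⟨r2, hr2, rfl⟩ := eq_xprod_of_val_mem hF y₂ h2
    have := reps_not_conj hF r1 r2 hr1 hr2 hconj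
    rw [this]

end Cfsg.Agent.Helper28.F4D
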