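import Mathlib
import Cfsg.Agent.Lib.Helper13.F4TDefs
import Cfsg.Agent.Lib.Helper3.G2TMAP

/-!
# S2372, piece MAP4 (helper28): the entrywise map `GL(F) → GL(K)` induced by a ring homomorphism, on the
root elements, the Chevalley group, the diagonal subgroup and the positive unipotent subgroup of `F₄`; the
entrywise action of a field automorphism.  All from helper3's datum-generic lemmas `g2tmap_*_gen`.
-/

set_option autoImplicit false
set_option linter.unusedVariables false

namespace Cfsg.Agent.Helper13.F4T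

open Cfsg Cfsg.Lie Cfsg.Agent.Lead.Chev Cfsg.Agent.Lead.Tw Cfsg.Agent.Helper11.G2T

section FK

variable {F : Type*} [Field F] {K : Type*} [Field K] (ι : F →+* K)

theorem f4tmap_coe (g : GL chevF4.Idx F) :
    ((mapGL ι g : GL chevF4.Idx K) : Matrix chevF4.Idx chevF4.Idx K)
      = (g : Matrix chevF4.Idx chevF4.Idx F).map ι := rfl

theorem mapGL_x (r : ℕ) (hr : r < 48) (t : F) :
    mapGL ι (xGL chevF4 (f4F F).xadd r t) = xGL chevF4 (f4F K).xadd r (ι t) :=
  g2tmap_xGL_gen ι chevF4 _ _ r t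

theorem mapGL_group (g : GL chevF4.Idx F) (hg : g ∈ chevF4.group F) : mapGL ι g ∈ chevF4.group K :=
  g2tmap_group_gen ι chevF4 g hg

theorem mapGL_diagonal (g : GL chevF4.Idx F) (hg : g ∈ chevF4.diagonalSubgroup F) :
    mapGL ι g ∈ chevF4.diagonalSubgroup K :=
  g2tmap_diagonal_gen ι chevF4 g hg

theorem mapGL_posUnipotent (g : GL chevF4.Idx F) (hg : g ∈ chevF4.posUnipotent F) :
    mapGL ι g ∈ chevF4.posUnipotent K :=
  g2tmap_posUnipotent_gen ι chevF4 g hg

theorem mapGL_injective : Function.Injective (mapGL ι) :=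
  g2tmap_injective_gen ι chevF4

theorem ev_mapGL (g : GL chevF4.Idx F) (v : ℕ) : ev (mapGL ι g) v = ι (ev g v) := by
  unfold ev
  by_cases hv : v < chevF4.nroots
  · rw [dif_pos hv, dif_pos hv, f4tmap_coe]
    rfl
  · rw [dif_neg hv, dif_neg hv, map_one]

theorem sig_mapGL (f : K ≃+* K) (hf : ∀ t, f (ι t) = ι t) (g : GL chevF4.Idx F) :
    sig f (mapGL ι g) = mapGL ι g :=
  g2tmap_Phi_map_gen ι chevF4 f hf g

theorem sig_x (f : K ≃+* K) (r : ℕ) (hr : r < 48) (t : K) :
    sig f (xGL chevF4 (f4F K).xadd r t) = xGL chevF4 (f4F K).xadd r (f t) :=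
  g2tmap_Phi_xGL_gen chevF4 _ f r t

theorem sig_group (f : K ≃+* K) (g : GL chevF4.Idx K) (hg : g ∈ chevF4.group K) :
    sig f g ∈ chevF4.group K :=
  g2tmap_Phi_group_gen chevF4 f g hg

end FK

end Cfsg.Agent.Helper13.F4T
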