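import Mathlib
import Cfsg.Agent.Lib.Helper13.InvNTabF4

/-!
The Boolean check of the table of type F4 of the involution theorem (kernel evaluation).
-/

set_option autoImplicit false

namespace Cfsg.Agent.Helper28.F4D

open Cfsg Cfsg.Lie Cfsg.Agent.Helper13.InvN

set_option maxRecDepth 100000 in
/-- the table of type F4 passes the check of Part C -/
theorem tabF4_chk : tableChk chevF4 tabF4 = true := by decide +kernel

end Cfsg.Agent.Helper28.F4D
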