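import Mathlib
import Cfsg.Agent.S0754

set_option autoImplicit false

namespace Cfsg.Agent.Helper28

section

variable {F : Type*} [Field F] [Finite F]

/-- An involutory automorphism of a finite field is the `q`-power map, where the field has `q²` elements. -/
theorem exists_q_of_involution (σ : F →+* F) (hσ : σ ≠ RingHom.id F) (hσ2 : ∀ a : F, σ (σ a) = a) :
    ∃ q : ℕ, Nat.card F = q ^ 2 ∧ ∀ a : F, σ a = a ^ q := by
  have : Fintype F := Fintype.ofFinite F
  obtain ⟨p, hp⟩ := CharP.exists F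
  have hpp : Fact p.Prime := ⟨CharP.char_is_prime F p⟩
  letI : Algebra (ZMod p) F := ZMod.algebra F p
  have hbij : Function.Bijective σ :=
    ⟨σ.injective, fun a => ⟨σ a, hσ2 a⟩⟩
  let σe : F ≃+* F := RingEquiv.ofBijective σ hbij
  let σa : F ≃ₐ[ZMod p] F := AlgEquiv.ofRingEquiv (f := σe) (by
    intro c
    obtain ⟨m, rfl⟩ := ZMod.natCast_zmod_surjective c
    simp [σe])
  obtain ⟨⟨k, hkn⟩, hk⟩ := (FiniteField.bijective_frobeniusAlgEquivOfAlgebraic_pow (ZMod p) F).2 σa
  replace hk : FiniteField.frobeniusAlgEquivOfAlgebraic (ZMod p) F ^ k = σa := hk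
  have hσk : ∀ a : F, σ a = a ^ (p ^ (k : ℕ)) := by
    intro a
    have h1 : σa a = σ a := rfl
    rw [← h1, ← hk, AlgEquiv.coe_pow, FiniteField.coe_frobeniusAlgEquivOfAlgebraic_iterate, ZMod.card]
  generalize hn : Module.finrank (ZMod p) F = n at hkn
  have hcard : Fintype.card F = p ^ n := by
    rw [Module.card_eq_pow_finrank (K := ZMod p) (V := F), ZMod.card, hn]
  have hk0 : (k : ℕ) ≠ 0 := by
    intro h0
    apply hσ
    ext a
    rw [hσk a, h0, pow_zero, pow_one, RingHom.id_apply]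
  have hord := FiniteField.orderOf_frobeniusAlgEquivOfAlgebraic (ZMod p) F
  have hsq : FiniteField.frobeniusAlgEquivOfAlgebraic (ZMod p) F ^ (2 * (k : ℕ)) = 1 := by
    rw [two_mul, pow_add, hk]
    ext a
    show σ (σ a) = a
    exact hσ2 a
  have hdvd : n ∣ 2 * (k : ℕ) := by
    rw [← hn, ← hord]
    exact orderOf_dvd_of_pow_eq_one hsq
  have h2k : 2 * (k : ℕ) = n := by
    obtain ⟨c, hc⟩ := hdvd
    have hc1 : c = 1 := by
      rcases c with _ | _ | c
      · omega
      · rfl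
      · exfalso
        have : n * (c + 1 + 1) ≥ n * 2 := Nat.mul_le_mul_left n (by omega)
        omega
    rw [hc, hc1, mul_one]
  refine ⟨p ^ (k : ℕ), ?_, hσk⟩
  rw [Nat.card_eq_fintype_card, hcard, ← h2k, ← pow_mul, mul_comm]

/-- Surjectivity of the norm `x ↦ x σ(x)` onto the nonzero fixed elements. -/
theorem exists_norm_eq (σ : F →+* F) (hσ : σ ≠ RingHom.id F) (hσ2 : ∀ a : F, σ (σ a) = a)
    {μ : F} (hμ : μ ≠ 0) (hfix : σ μ = μ) : ∃ x : F, x * σ x = μ := by
  have : Fintype F := Fintype.ofFinite F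
  obtain ⟨q, hq, hσq⟩ := exists_q_of_involution σ hσ hσ2
  rw [Nat.card_eq_fintype_card] at hq
  have h1 := Cfsg.Agent.S0754.result hq μ hμ (by rw [← hσq]; exact hfix)
  have hpos : 0 < Nat.card {x : F // x ^ (q + 1) = μ} := by rw [h1]; omega
  obtain ⟨⟨x, hx⟩⟩ := (Nat.card_pos_iff.mp hpos).1
  refine ⟨x, ?_⟩
  rw [hσq, ← pow_succ']
  exact hx

end

end Cfsg.Agent.Helper28
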