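import Mathlib
import Cfsg.Agent.Lib.Helper28.LargeExtra

set_option autoImplicit false

namespace Cfsg.Agent.Helper28.FourGroupS3

variable {G : Type*} [Group G]

/-- the four-group `{1, z, x, z x}` generated by two commuting involutions. -/
def fourGroup (z x : G) (hz2 : z * z = 1) (hx2 : x * x = 1) (hzx : z * x = x * z) :
    Subgroup G where
  carrier := {a | a = 1 ∨ a = z ∨ a = x ∨ a = z * x}
  one_mem' := Or.inl rfl
  mul_mem' := by
    have e1 : z * (z * x) = x := by rw [← mul_assoc, hz2, one_mul]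
    have e2 : x * (z * x) = z := by rw [← mul_assoc, ← hzx, mul_assoc, hx2, mul_one]
    have e3 : z * x * z = x := by rw [hzx, mul_assoc, hz2, mul_one]
    have e4 : z * x * x = z := by rw [mul_assoc, hx2, mul_one]
    have e5 : z * x * (z * x) = 1 := by rw [← mul_assoc, e3, hx2]
    rintro a b (rfl | rfl | rfl | rfl) (rfl | rfl | rfl | rfl)
    · left; simp
    · right; left; simp
    · right; right; left; simp
    · right; right; right; simp
    · right; left; simp
    · left; exact hz2
    · right; right; right; rfl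
    · right; right; left; exact e1
    · right; right; left; simp
    · right; right; right; exact hzx.symm
    · left; exact hx2
    · right; left; exact e2
    · right; right; right; simp
    · right; right; left; exact e3
    · right; left; exact e4
    · left; exact e5
  inv_mem' := by
    have hzinv : z⁻¹ = z := inv_eq_of_mul_eq_one_right hz2
    have hxinv : x⁻¹ = x := inv_eq_of_mul_eq_one_right hx2
    rintro a (rfl | rfl | rfl | rfl)
    · left; simp
    · right; left; exact hzinv
    · right; right; left; exact hxinv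
    · right; right; right
      rw [mul_inv_rev, hzinv, hxinv, hzx]

theorem mem_fourGroup {z x : G} {hz2 : z * z = 1} {hx2 : x * x = 1} {hzx : z * x = x * z}
    {a : G} : a ∈ fourGroup z x hz2 hx2 hzx ↔ a = 1 ∨ a = z ∨ a = x ∨ a = z * x := Iff.rfl

/-- If the normalizer of the four-group `V = {1, z, x, z x}` contains elements inducing two
different transpositions of `{z, x, z x}`, then `|N(V) : C(V)| = 6`. -/
theorem relIndex_eq_six [Finite G] (V : Subgroup G) (z x : G)
    (hV : ∀ a, a ∈ V ↔ a = 1 ∨ a = z ∨ a = x ∨ a = z * x)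
    (hz1 : z ≠ 1) (hx1 : x ≠ 1) (hxz : x ≠ z)
    (hz2 : z * z = 1) (hx2 : x * x = 1) (hzx : z * x = x * z)
    (t q : G) (hqz : q * z = z * q) (hqx : q * x * q⁻¹ = z * x)
    (htx : t * x = x * t) (htz : t * z * t⁻¹ = z * x) :
    (Subgroup.centralizer (V : Set G)).relIndex (Subgroup.normalizer (V : Set G)) = 6 := by
  classical
  have hzx1 : z * x ≠ 1 := by
    intro h
    apply hxz
    calc x = z * (z * x) := by rw [← mul_assoc, hz2, one_mul]
      _ = z := by rw [h, mul_one]
  have hzxz : z * x ≠ z := by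
    intro h
    apply hx1
    calc x = z * (z * x) := by rw [← mul_assoc, hz2, one_mul]
      _ = 1 := by rw [h, hz2]
  have hzxx : z * x ≠ x := by
    intro h
    apply hz1
    calc z = (z * x) * x := by rw [mul_assoc, hx2, mul_one]
      _ = 1 := by rw [h, hx2]
  let T : Finset G := {z, x, z * x}
  have hT : ∀ v, v ∈ T ↔ v = z ∨ v = x ∨ v = z * x := by
    intro v
    simp [T]
  have hTcard : T.card = 3 := by
    rw [Finset.card_eq_three]
    exact ⟨z, x, z * x, Ne.symm hxz, Ne.symm hzxz, Ne.symm hzxx, rfl⟩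
  have hTV : ∀ v, v ∈ T ↔ v ∈ V ∧ v ≠ 1 := by
    intro v
    rw [hT, hV]
    constructor
    · rintro (h | h | h)
      · exact ⟨Or.inr (Or.inl h), by rw [h]; exact hz1⟩
      · exact ⟨Or.inr (Or.inr (Or.inl h)), by rw [h]; exact hx1⟩
      · exact ⟨Or.inr (Or.inr (Or.inr h)), by rw [h]; exact hzx1⟩
    · rintro ⟨(h | h | h | h), h1⟩
      · exact absurd h h1
      · exact Or.inl h
      · exact Or.inr (Or.inl h)
      · exact Or.inr (Or.inr h)
  -- conjugation by a normalizing element preserves `T`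
  have hconj : ∀ n ∈ Subgroup.normalizer (V : Set G), ∀ v ∈ T, n * v * n⁻¹ ∈ T := by
    intro n hn v hv
    rw [hTV] at hv ⊢
    refine ⟨(Subgroup.mem_normalizer_iff.mp hn v).mp hv.1, ?_⟩
    intro h
    apply hv.2
    calc v = n⁻¹ * (n * v * n⁻¹) * n := by group
      _ = 1 := by rw [h]; group
  let ρ : ↥(Subgroup.normalizer (V : Set G)) →* Equiv.Perm ↥T :=
    { toFun := fun n =>
        { toFun := fun v => ⟨(n : G) * (v : G) * (n : G)⁻¹, hconj n n.2 v v.2⟩
          invFun := fun v => ⟨(n : G)⁻¹ * (v : G) * (n : G)⁻¹⁻¹,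
            hconj _ (Subgroup.inv_mem _ n.2) v v.2⟩
          left_inv := by
            intro v
            apply Subtype.ext
            simp only
            group
          right_inv := by
            intro v
            apply Subtype.ext
            simp only
            group }
      map_one' := by
        ext v
        simp
      map_mul' := by
        intro m n
        ext v
        simp only [Subgroup.coe_mul, Equiv.coe_fn_mk, Equiv.Perm.coe_mul, Function.comp_apply]
        group }
  have hρ : ∀ (n : ↥(Subgroup.normalizer (V : Set G))) (v : ↥T),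
      ((ρ n v : ↥T) : G) = (n : G) * (v : G) * (n : G)⁻¹ := fun n v => rfl
  have hker : ρ.ker = (Subgroup.centralizer (V : Set G)).subgroupOf
      (Subgroup.normalizer (V : Set G)) := by
    ext n
    rw [MonoidHom.mem_ker, Subgroup.mem_subgroupOf, Subgroup.mem_centralizer_iff]
    constructor
    · intro h a ha
      by_cases ha1 : a = 1
      · rw [ha1]; simp
      · have haT : a ∈ T := (hTV a).mpr ⟨ha, ha1⟩
        have h1 : ρ n ⟨a, haT⟩ = ⟨a, haT⟩ := by rw [h]; rfl
        have h2 : (n : G) * a * (n : G)⁻¹ = a := congrArg Subtype.val h1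
        calc a * (n : G) = ((n : G) * a * (n : G)⁻¹) * (n : G) := by rw [h2]
          _ = (n : G) * a := by group
    · intro h
      ext v
      rw [hρ]
      have hvV : (v : G) ∈ V := ((hTV v).mp v.2).1
      have h1 := h v hvV
      simp only [Equiv.Perm.coe_one, id_eq]
      calc (n : G) * (v : G) * (n : G)⁻¹ = ((v : G) * (n : G)) * (n : G)⁻¹ := by rw [h1]
        _ = v := by group
  rw [Subgroup.relIndex, ← hker, Subgroup.index_ker]
  -- the two transpositions
  have hnorm_of : ∀ n : G, n * z * n⁻¹ ∈ V → n * x * n⁻¹ ∈ V →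
      n ∈ Subgroup.normalizer (V : Set G) := by
    intro n h1 h2
    apply Cfsg.Agent.Helper28.LargeExtra.mem_normalizer_of_conj_mem
    intro v hv
    rcases (hV v).mp hv with rfl | rfl | rfl | rfl
    · simp
    · exact h1
    · exact h2
    · have : n * (z * x) * n⁻¹ = (n * z * n⁻¹) * (n * x * n⁻¹) := by group
      rw [this]; exact V.mul_mem h1 h2
  have hzV : z ∈ V := (hV z).mpr (Or.inr (Or.inl rfl))
  have hxV : x ∈ V := (hV x).mpr (Or.inr (Or.inr (Or.inl rfl)))
  have hzxV : z * x ∈ V := V.mul_mem hzV hxV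
  have eqz : q * z * q⁻¹ = z := by
    calc q * z * q⁻¹ = (z * q) * q⁻¹ := by rw [hqz]
      _ = z := by group
  have eqzx : q * (z * x) * q⁻¹ = x := by
    calc q * (z * x) * q⁻¹ = (q * z * q⁻¹) * (q * x * q⁻¹) := by group
      _ = z * (z * x) := by rw [eqz, hqx]
      _ = x := by rw [← mul_assoc, hz2, one_mul]
  have etx : t * x * t⁻¹ = x := by
    calc t * x * t⁻¹ = (x * t) * t⁻¹ := by rw [htx]
      _ = x := by group
  have hqN : q ∈ Subgroup.normalizer (V : Set G) :=
    hnorm_of q (by rw [eqz]; exact hzV) (by rw [hqx]; exact hzxV)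
  have htN : t ∈ Subgroup.normalizer (V : Set G) :=
    hnorm_of t (by rw [htz]; exact hzxV) (by rw [etx]; exact hxV)
  have hzT : z ∈ T := (hT z).mpr (Or.inl rfl)
  have hxT : x ∈ T := (hT x).mpr (Or.inr (Or.inl rfl))
  have hzxT : z * x ∈ T := (hT _).mpr (Or.inr (Or.inr rfl))
  have hq1 : ρ ⟨q, hqN⟩ ≠ 1 := by
    intro h
    have h1 : ρ ⟨q, hqN⟩ ⟨x, hxT⟩ = ⟨x, hxT⟩ := by rw [h]; rfl
    have h2 : q * x * q⁻¹ = x := congrArg Subtype.val h1
    rw [hqx] at h2
    exact hzxx h2
  have ht1 : ρ ⟨t, htN⟩ ≠ 1 := by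
    intro h
    have h1 : ρ ⟨t, htN⟩ ⟨z, hzT⟩ = ⟨z, hzT⟩ := by rw [h]; rfl
    have h2 : t * z * t⁻¹ = z := congrArg Subtype.val h1
    rw [htz] at h2
    exact hzxz h2
  have hqt : ρ ⟨q, hqN⟩ ≠ ρ ⟨t, htN⟩ := by
    intro h
    have h1 : ρ ⟨q, hqN⟩ ⟨z, hzT⟩ = ρ ⟨t, htN⟩ ⟨z, hzT⟩ := by rw [h]
    have h2 : q * z * q⁻¹ = t * z * t⁻¹ := congrArg Subtype.val h1
    rw [eqz, htz] at h2
    exact hzxz h2.symm
  have hq2 : (ρ ⟨q, hqN⟩) ^ 2 = 1 := by
    ext v
    rw [pow_two]
    simp only [Equiv.Perm.coe_mul, Function.comp_apply, Equiv.Perm.coe_one, id_eq]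
    rw [hρ, hρ]
    simp only
    rcases (hT v).mp v.2 with h | h | h
    · rw [h, eqz, eqz]
    · rw [h, hqx, eqzx]
    · rw [h, eqzx, hqx]
  have hord : orderOf (ρ ⟨q, hqN⟩) = 2 := orderOf_eq_prime hq2 hq1
  have hqr : ρ ⟨q, hqN⟩ ∈ ρ.range := ⟨_, rfl⟩
  have htr : ρ ⟨t, htN⟩ ∈ ρ.range := ⟨_, rfl⟩
  have h2dvd : 2 ∣ Nat.card ρ.range := by
    have h1 : orderOf (⟨ρ ⟨q, hqN⟩, hqr⟩ : ρ.range) = 2 := by
      rw [Subgroup.orderOf_mk]; exact hord
    rw [← h1]
    exact orderOf_dvd_natCard _
  have hcard6 : Nat.card (Equiv.Perm ↥T) = 6 := by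
    rw [Nat.card_eq_fintype_card, Fintype.card_perm, Fintype.card_coe, hTcard]
    rfl
  have hdvd6 : Nat.card ρ.range ∣ 6 := by
    rw [← hcard6]
    exact Subgroup.card_subgroup_dvd_card ρ.range
  have hne2 : Nat.card ρ.range ≠ 2 := by
    intro h
    obtain ⟨y, _, hy2⟩ := (Nat.card_eq_two_iff' (1 : ρ.range)).mp h
    have e1 : (⟨ρ ⟨q, hqN⟩, hqr⟩ : ρ.range) = y := by
      apply hy2
      intro h'
      apply hq1
      exact congrArg Subtype.val h'
    have e2 : (⟨ρ ⟨t, htN⟩, htr⟩ : ρ.range) = y := by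
      apply hy2
      intro h'
      apply ht1
      exact congrArg Subtype.val h'
    apply hqt
    exact congrArg Subtype.val (e1.trans e2.symm)
  have hle : Nat.card ρ.range ≤ 6 := Nat.le_of_dvd (by norm_num) hdvd6
  generalize Nat.card ρ.range = d at *
  interval_cases d <;> omega

end Cfsg.Agent.Helper28.FourGroupS3
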