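import Mathlib
import Cfsg.Agent.Lib.Helper20.FrattiniRank
import Cfsg.Agent.Lib.Helper9.FrattiniElem

/-!
# A subgroup-monotone bound on Frattini indices

`FB X b` says that every subgroup of `X` has Frattini quotient of order at most `b`.
For `p`-groups this predicate is well behaved under subgroups, quotients and extensions.
-/

set_option autoImplicit false

namespace Cfsg.Agent.Helper28.FratRank

/-- every subgroup of `X` has Frattini index at most `b` -/
def FB (X : Type*) [Group X] (b : ℕ) : Prop :=
  ∀ Q : Subgroup X, (frattini ↥Q).index ≤ b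

theorem FB.mono {X : Type*} [Group X] {a b : ℕ} (h : FB X a) (hab : a ≤ b) : FB X b :=
  fun Q => le_trans (h Q) hab

/-- the Frattini index is an isomorphism invariant -/
theorem frattini_index_mulEquiv {X Y : Type*} [Group X] [Group Y] (e : X ≃* Y) :
    (frattini X).index = (frattini Y).index := by
  have h1 : frattini X ≤ (frattini Y).comap e.toMonoidHom :=
    frattini_le_comap_frattini_of_surjective (φ := e.toMonoidHom) e.surjective
  have h2 : frattini Y ≤ (frattini X).comap e.symm.toMonoidHom :=
    frattini_le_comap_frattini_of_surjective (φ := e.symm.toMonoidHom) e.symm.surjective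
  have h3 : (frattini Y).comap e.toMonoidHom ≤ frattini X := by
    intro x hx
    have := h2 hx
    simpa using this
  have h4 : frattini X = (frattini Y).comap e.toMonoidHom := le_antisymm h1 h3
  rw [h4]
  exact Subgroup.index_comap_of_surjective _ e.surjective

theorem frattini_index_top {X : Type*} [Group X] :
    (frattini ↥(⊤ : Subgroup X)).index = (frattini X).index :=
  frattini_index_mulEquiv Subgroup.topEquiv

/-- injective images: the Frattini index of the source is bounded -/
theorem FB.frattini_index_le_of_injective {Y X : Type*} [Group Y] [Group X] {a : ℕ}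
    (h : FB X a) (φ : Y →* X) (hφ : Function.Injective φ) : (frattini Y).index ≤ a := by
  rw [frattini_index_mulEquiv (MonoidHom.ofInjective hφ)]
  exact h φ.range

theorem FB.of_injective {Y X : Type*} [Group Y] [Group X] {a : ℕ}
    (h : FB X a) (φ : Y →* X) (hφ : Function.Injective φ) : FB Y a := by
  intro Q
  exact h.frattini_index_le_of_injective (φ.comp Q.subtype)
    (hφ.comp Q.subtype_injective)

theorem FB.card (X : Type*) [Group X] [Finite X] : FB X (Nat.card X) := by
  intro Q
  have h1 : (frattini ↥Q).index ∣ Nat.card ↥Q := Subgroup.index_dvd_card _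
  have h2 : Nat.card ↥Q ≤ Nat.card X := Subgroup.card_le_card_group Q
  exact le_trans (Nat.le_of_dvd Nat.card_pos h1) h2

/-- a normal subgroup containing all `p`-th powers and commutators contains the Frattini
subgroup -/
theorem frattini_le_of_pow_comm {P : Type*} [Group P] [Finite P] (p : ℕ) [Fact p.Prime]
    (N : Subgroup P) [N.Normal]
    (hpow : ∀ a : P, a ^ p ∈ N) (hcomm : ∀ a b : P, a * b * a⁻¹ * b⁻¹ ∈ N) :
    frattini P ≤ N := by
  have h := Cfsg.Agent.Helper9.frattini_le_ker_of_elementary (p := p) (QuotientGroup.mk' N) ?_ ?_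
  · rwa [QuotientGroup.ker_mk'] at h
  · intro a b
    obtain ⟨a, rfl⟩ := QuotientGroup.mk_surjective a
    obtain ⟨b, rfl⟩ := QuotientGroup.mk_surjective b
    have h1 : ((a * b * a⁻¹ * b⁻¹ : P) : P ⧸ N) = 1 :=
      (QuotientGroup.eq_one_iff _).mpr (hcomm a b)
    have h2 : ((a * b : P) : P ⧸ N) =
        ((a * b * a⁻¹ * b⁻¹ : P) : P ⧸ N) * ((b * a : P) : P ⧸ N) := by
      rw [← QuotientGroup.mk_mul]
      congr 1
      group
    rw [← QuotientGroup.mk_mul, ← QuotientGroup.mk_mul, h2, h1, one_mul]
  · intro a
    obtain ⟨a, rfl⟩ := QuotientGroup.mk_surjective a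
    rw [← QuotientGroup.mk_pow]
    exact (QuotientGroup.eq_one_iff _).mpr (hpow a)

/-- the basic inequality: for a homomorphism out of a finite `p`-group, the Frattini index is
at most the product of the Frattini indices of kernel and range -/
theorem frattini_index_le_ker_mul_range {Q Y : Type*} [Group Q] [Finite Q] [Group Y] {p : ℕ}
    [Fact p.Prime] (hQ : IsPGroup p Q) (φ : Q →* Y) :
    (frattini Q).index ≤ (frattini ↥φ.ker).index * (frattini ↥φ.range).index := by
  classical
  set Φ := frattini Q with hΦ
  set S := φ.ker ⊔ Φ with hS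
  have hΦn : Φ.Normal := by rw [hΦ]; infer_instance
  have h1 : Φ.relIndex S * S.index = Φ.index := Subgroup.relIndex_mul_index le_sup_right
  have h2 : Φ.relIndex S = Φ.relIndex φ.ker := Subgroup.relIndex_sup_right _ _
  -- the kernel part
  have h3 : Φ.relIndex φ.ker ≤ (frattini ↥φ.ker).index := by
    have hle : frattini ↥φ.ker ≤ Φ.subgroupOf φ.ker := by
      haveI : (Φ.subgroupOf φ.ker).Normal := Subgroup.Normal.subgroupOf hΦn _
      apply frattini_le_of_pow_comm p
      · intro a
        rw [Subgroup.mem_subgroupOf]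
        have := Cfsg.Agent.Helper21.pow_mem_frattini_of_isPGroup hQ (a : Q)
        simpa using this
      · intro a b
        rw [Subgroup.mem_subgroupOf]
        have := Cfsg.Agent.Helper21.commutator_mem_frattini_of_isPGroup hQ (a : Q) (b : Q)
        simpa using this
    have hdvd := Subgroup.index_dvd_of_le hle
    have hne : (frattini ↥φ.ker).index ≠ 0 := Subgroup.index_ne_zero_of_finite
    exact Nat.le_of_dvd (Nat.pos_of_ne_zero hne) hdvd
  -- the range part
  have h4 : S.index ≤ (frattini ↥φ.range).index := by
    set f := φ.rangeRestrict with hf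
    have hfs : Function.Surjective f := φ.rangeRestrict_surjective
    have hker : f.ker ≤ S := by
      rw [hf, φ.ker_rangeRestrict]
      exact le_sup_left
    have h5 : (S.map f).index = S.index := Subgroup.index_map_eq S hfs hker
    have hSn : S.Normal := by
      rw [hS]
      infer_instance
    haveI : (S.map f).Normal := Subgroup.Normal.map hSn f hfs
    haveI : Finite ↥φ.range := Finite.of_surjective f hfs
    have hle : frattini ↥φ.range ≤ S.map f := by
      apply frattini_le_of_pow_comm p
      · intro a
        obtain ⟨q, rfl⟩ := hfs a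
        rw [← map_pow]
        apply Subgroup.mem_map_of_mem
        exact le_sup_right (a := φ.ker)
          (Cfsg.Agent.Helper21.pow_mem_frattini_of_isPGroup hQ q)
      · intro a b
        obtain ⟨q, rfl⟩ := hfs a
        obtain ⟨q', rfl⟩ := hfs b
        have : f q * f q' * (f q)⁻¹ * (f q')⁻¹ = f (q * q' * q⁻¹ * q'⁻¹) := by
          simp
        rw [this]
        apply Subgroup.mem_map_of_mem
        exact le_sup_right (a := φ.ker)
          (Cfsg.Agent.Helper21.commutator_mem_frattini_of_isPGroup hQ q q')
    have hdvd := Subgroup.index_dvd_of_le hle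
    have hne : (frattini ↥φ.range).index ≠ 0 := Subgroup.index_ne_zero_of_finite
    rw [← h5]
    exact Nat.le_of_dvd (Nat.pos_of_ne_zero hne) hdvd
  rw [← h1, h2]
  exact Nat.mul_le_mul h3 h4

/-- the extension inequality for `FB` -/
theorem FB.extension {X : Type*} [Group X] [Finite X] {p : ℕ} [Fact p.Prime] (hX : IsPGroup p X)
    (N : Subgroup X) [N.Normal] {a b : ℕ} (hN : FB ↥N a) (hXN : FB (X ⧸ N) b) :
    FB X (a * b) := by
  intro Q
  set φ : ↥Q →* X ⧸ N := (QuotientGroup.mk' N).comp Q.subtype with hφ
  have hQ : IsPGroup p ↥Q := hX.to_subgroup Q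
  have h1 := frattini_index_le_ker_mul_range hQ φ
  have h2 : (frattini ↥φ.range).index ≤ b := hXN φ.range
  have h3 : (frattini ↥φ.ker).index ≤ a := by
    have hmem : ∀ x : ↥φ.ker, ((x : ↥Q) : X) ∈ N := by
      intro x
      have h := x.2
      rw [MonoidHom.mem_ker] at h
      have h' : ((((x : ↥Q) : X) : X ⧸ N)) = 1 := h
      exact (QuotientGroup.eq_one_iff _).mp h'
    let ψ : ↥φ.ker →* ↥N :=
      { toFun := fun x => ⟨((x : ↥Q) : X), hmem x⟩
        map_one' := rfl
        map_mul' := fun _ _ => rfl }
    have hψ : Function.Injective ψ := by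
      intro x y hxy
      have := congrArg (fun z : ↥N => (z : X)) hxy
      exact Subtype.ext (Subtype.ext this)
    exact hN.frattini_index_le_of_injective ψ hψ
  exact le_trans h1 (Nat.mul_le_mul h3 h2)

/-- every subgroup of a cyclic `2`-group has Frattini index at most `2` -/
theorem FB.of_isCyclic {X : Type*} [Group X] [Finite X] (hX : IsPGroup 2 X) [hc : IsCyclic X] :
    FB X 2 := by
  classical
  intro Q
  haveI : Fact (Nat.Prime 2) := ⟨Nat.prime_two⟩
  obtain ⟨g, hg⟩ := (inferInstance : IsCyclic ↥Q).exists_generator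
  have hcl : Subgroup.closure (({g} : Finset ↥Q) : Set ↥Q) = ⊤ := by
    rw [Finset.coe_singleton, ← Subgroup.zpowers_eq_closure]
    rw [eq_top_iff]
    intro x _
    exact hg x
  obtain ⟨r, hr, hidx⟩ := Cfsg.Agent.Helper20.frattini_index_eq_pow_le 2 (hX.to_subgroup Q) {g} hcl
  rw [hidx]
  rw [Finset.card_singleton] at hr
  calc 2 ^ r ≤ 2 ^ 1 := Nat.pow_le_pow_right (by norm_num) hr
    _ = 2 := by norm_num

/-- every subgroup of a `2`-group with a cyclic subgroup of index `2` has Frattini index at
most `4` -/
theorem FB.of_cyclic_index_two {X : Type*} [Group X] [Finite X] (hX : IsPGroup 2 X)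
    (C : Subgroup X) (hC : IsCyclic ↥C) (hidx : C.index = 2) : FB X 4 := by
  haveI : Fact (Nat.Prime 2) := ⟨Nat.prime_two⟩
  haveI : C.Normal := Subgroup.normal_of_index_eq_two hidx
  have h1 : FB ↥C 2 := FB.of_isCyclic (hX.to_subgroup C)
  have h2 : FB (X ⧸ C) 2 := by
    have := FB.card (X ⧸ C)
    have hc : Nat.card (X ⧸ C) = 2 := by
      rw [← hidx]; rfl
    rwa [hc] at this
  exact FB.extension hX C h1 h2

end Cfsg.Agent.Helper28.FratRank
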