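import Mathlib
import Cfsg.Prelude.Def_Solvable
import Cfsg.Agent.Lib.Helper21.GAG39Defs

/-!
# S4839, piece G39-DIHB: two involutions whose product is not of `2`-power order give an element of odd prime
order inverted by the first one.
-/

set_option autoImplicit false
set_option linter.unusedSectionVars false
set_option linter.unusedVariables false

namespace Cfsg.Agent.Helper21.GAG39

open Cfsg
open scoped Pointwise

variable {G : Type*} [Group G] [Finite G] {p : ℕ} [Fact p.Prime] (N : Subgroup G) [N.Normal]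

/-- PIECE G39-DIHB [L0]. -/
theorem exists_inverted_of_bad_pair {Q : Type*} [Group Q] [Finite Q] (a b : Q) (ha : orderOf a = 2)
    (hb : orderOf b = 2) (hab : ¬ ∃ k : ℕ, orderOf (a * b) = 2 ^ k) :
    ∃ s : Q, (orderOf s).Prime ∧ orderOf s ≠ 2 ∧ a * s * a⁻¹ = s⁻¹ := by
  have ha2 : a ^ 2 = 1 := by rw [← ha]; exact pow_orderOf_eq_one a
  have hb2 : b ^ 2 = 1 := by rw [← hb]; exact pow_orderOf_eq_one b
  have hainv : a⁻¹ = a := by
    apply inv_eq_of_mul_eq_one_right
    rw [← pow_two]; exact ha2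
  have hbinv : b⁻¹ = b := by
    apply inv_eq_of_mul_eq_one_right
    rw [← pow_two]; exact hb2
  set c : Q := a * b with hc
  have hconj : a * c * a⁻¹ = c⁻¹ := by
    rw [hc, mul_inv_rev, hainv, hbinv, ← mul_assoc, ← pow_two, ha2, one_mul]
  set m : ℕ := orderOf c with hm
  have hm0 : m ≠ 0 := (orderOf_pos c).ne'
  -- an odd prime divisor of `m`
  obtain ⟨r, hr, hrm, hr2⟩ : ∃ r : ℕ, r.Prime ∧ r ∣ m ∧ r ≠ 2 := by
    by_contra hcon
    push Not at hcon
    apply hab
    exact ⟨_, Nat.eq_prime_pow_of_unique_prime_dvd hm0 (fun {d} hd hdm => hcon d hd hdm)⟩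
  obtain ⟨k, hk⟩ := hrm
  have hk0 : k ≠ 0 := by
    rintro rfl
    rw [mul_zero] at hk
    exact hm0 hk
  have hkm : k ∣ m := ⟨r, by rw [hk, mul_comm]⟩
  have hos : orderOf (c ^ k) = r := by
    rw [orderOf_pow_of_dvd hk0 hkm, ← hm, hk]
    exact Nat.mul_div_cancel _ (Nat.pos_of_ne_zero hk0)
  refine ⟨c ^ k, by rw [hos]; exact hr, by rw [hos]; exact hr2, ?_⟩
  rw [← conj_pow, hconj, inv_pow]

end Cfsg.Agent.Helper21.GAG39
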