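import Mathlib
import Cfsg.Prelude.Def_Solvable
import Cfsg.Agent.Lib.Helper21.GAG39Defs

/-!
# S4839, piece G39-FROBTI: a complement acting fixed-point-freely on the normal subgroup `N` is a TI subgroup.
-/

set_option autoImplicit false
set_option linter.unusedSectionVars false
set_option linter.unusedVariables false

namespace Cfsg.Agent.Helper21.GAG39

open Cfsg
open scoped Pointwise

variable {G : Type*} [Group G] [Finite G] {p : ℕ} [Fact p.Prime] (N : Subgroup G) [N.Normal]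

/-- PIECE G39-FROBTI [L0]. -/
theorem ti_of_fpf (H : Subgroup G) (hH : Subgroup.IsComplement' N H)
    (hfpf : ∀ h ∈ H, h ≠ 1 → ∀ v ∈ N, h * v * h⁻¹ = v → v = 1) :
    ∀ g : G, g ∉ H → H ⊓ (MulAut.conj g • H) = ⊥ := by
  intro g hg
  have hdisj : N ⊓ H = ⊥ := disjoint_iff.1 hH.disjoint
  obtain ⟨⟨⟨n, hn⟩, ⟨h0, hh0⟩⟩, hnh⟩ := hH.2 g
  have hg' : g = n * h0 := hnh.symm
  have hn1 : n ≠ 1 := by
    rintro rfl
    rw [one_mul] at hg'
    exact hg (hg' ▸ hh0)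
  rw [eq_bot_iff]
  rintro x ⟨hxH, hxc⟩
  rw [Subgroup.mem_bot]
  obtain ⟨s, hs, hsx⟩ := (Subgroup.mem_smul_pointwise_iff_exists _ _ _).1 hxc
  have hsx' : g * s * g⁻¹ = x := by
    rw [← hsx]; rfl
  -- `h := h0 s h0⁻¹ ∈ H`, `x = n h n⁻¹`
  set h : G := h0 * s * h0⁻¹ with hh
  have hhH : h ∈ H := H.mul_mem (H.mul_mem hh0 hs) (H.inv_mem hh0)
  have hx : x = n * h * n⁻¹ := by
    rw [← hsx', hg', hh]; group
  -- `x h⁻¹ ∈ N ⊓ H`
  have h1 : x * h⁻¹ ∈ N := by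
    have : x * h⁻¹ = n * (h * n⁻¹ * h⁻¹) := by rw [hx]; group
    rw [this]
    exact N.mul_mem hn (‹N.Normal›.conj_mem _ (N.inv_mem hn) h)
  have h2 : x * h⁻¹ ∈ H := H.mul_mem hxH (H.inv_mem hhH)
  have h3 : x * h⁻¹ ∈ N ⊓ H := ⟨h1, h2⟩
  rw [hdisj, Subgroup.mem_bot] at h3
  have hxh : x = h := by
    rw [← mul_one x, ← inv_mul_cancel h, ← mul_assoc, h3, one_mul]
  by_contra hx1
  have hh1 : h ≠ 1 := by rw [← hxh]; exact hx1
  apply hn1
  apply hfpf h hhH hh1 n hn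
  -- `h n h⁻¹ = n` from `n h n⁻¹ = h`
  have h4 : n * h * n⁻¹ = h := by rw [← hx, hxh]
  calc h * n * h⁻¹ = (n * h * n⁻¹) * n * h⁻¹ := by rw [h4]
    _ = n := by group

end Cfsg.Agent.Helper21.GAG39
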