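import Mathlib

/-!
# S3786 (helper3's farm-out), PIECE YQQ, general part (helper28)

If the `p^n`-th powers of the elements of any `p`-subgroup of a finite group `H` commute, the same holds in
every quotient `H ⧸ N` (`p`-subgroups of the quotient lie in images of Sylow `p`-subgroups of `H`).
-/

set_option autoImplicit false

namespace Cfsg.Agent.Helper3.HHX

theorem yqq_of_comm {H : Type*} [Group H] [Finite H] {p : ℕ} [Fact p.Prime] (N : Subgroup H)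
    [N.Normal] (n : ℕ)
    (hcomm : ∀ S : Subgroup H, IsPGroup p ↥S → ∀ s₁ ∈ S, ∀ s₂ ∈ S,
      s₁ ^ p ^ n * s₂ ^ p ^ n = s₂ ^ p ^ n * s₁ ^ p ^ n)
    (S : Subgroup (H ⧸ N)) (hS : IsPGroup p ↥S) (s₁ s₂ : H ⧸ N) (hs₁ : s₁ ∈ S) (hs₂ : s₂ ∈ S) :
    s₁ ^ p ^ n * s₂ ^ p ^ n = s₂ ^ p ^ n * s₁ ^ p ^ n := by
  obtain ⟨Q, hSQ⟩ := hS.exists_le_sylow
  obtain ⟨P, hP⟩ := Sylow.mapSurjective_surjective (QuotientGroup.mk'_surjective N) p Q
  have hQ : (Q : Subgroup (H ⧸ N)) = (P : Subgroup H).map (QuotientGroup.mk' N) := by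
    rw [← hP, Sylow.coe_mapSurjective]
  have h₁ : s₁ ∈ (P : Subgroup H).map (QuotientGroup.mk' N) := hQ ▸ hSQ hs₁
  have h₂ : s₂ ∈ (P : Subgroup H).map (QuotientGroup.mk' N) := hQ ▸ hSQ hs₂
  obtain ⟨t₁, ht₁, rfl⟩ := h₁
  obtain ⟨t₂, ht₂, rfl⟩ := h₂
  have hc := hcomm (P : Subgroup H) P.isPGroup' t₁ ht₁ t₂ ht₂
  rw [← map_pow, ← map_pow, ← map_mul, ← map_mul, hc]

end Cfsg.Agent.Helper3.HHX
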