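import Mathlib
import Cfsg.Prelude.Def_CaseTheorems
import Cfsg.Prelude.Def_Local
import Cfsg.Agent.Lib.Helper28.HHXYQQ0
import Cfsg.Agent.Lib.Helper26.HHXYQ

/-!
# S3786 (helper3's farm-out), PIECE YQQ (helper28)

`quotient_quotient_pow_comm` : `p^n`-th powers commute in the `p`-subgroups of `(G / O_p(G)) / O_{p'}(G / O_p(G))`.
From piece YQ (`quotient_pow_comm`) and `yqq_of_comm`.
-/

set_option autoImplicit false

namespace Cfsg.Agent.Helper3.HHX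

open Cfsg Subgroup

universe u

variable {G : Type u} [Group G] [Finite G] {p : ℕ} [hp : Fact p.Prime]

/-- PIECE YQQ: the same in `(G / O_p(G)) / O_{p'}(G / O_p(G))`. -/
theorem quotient_quotient_pow_comm (hsol : IsPSolvable p G) (hO : pPrimeCore p G = ⊥) (n : ℕ)
    (hexp : ∀ z : G, (∃ k : ℕ, z ^ p ^ k = 1) → z ^ p ^ (n + 1) = 1)
    (S : Subgroup ((G ⧸ pCore p G) ⧸ pPrimeCore p (G ⧸ pCore p G))) (hS : IsPGroup p ↥S)
    (s₁ s₂ : (G ⧸ pCore p G) ⧸ pPrimeCore p (G ⧸ pCore p G)) (hs₁ : s₁ ∈ S) (hs₂ : s₂ ∈ S) :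
    s₁ ^ p ^ n * s₂ ^ p ^ n = s₂ ^ p ^ n * s₁ ^ p ^ n :=
  yqq_of_comm (pPrimeCore p (G ⧸ pCore p G)) n
    (fun S' hS' t₁ ht₁ t₂ ht₂ => quotient_pow_comm hsol hO n hexp S' hS' t₁ t₂ ht₁ ht₂)
    S hS s₁ s₂ hs₁ hs₂

end Cfsg.Agent.Helper3.HHX
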