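import Mathlib
import Cfsg.Agent.Lib.Helper8.HJDefs
import Cfsg.Agent.Lib.Helper7.PLocal4
import Cfsg.Agent.Lib.Helper7.Bender

/-!
# S3313 piece QS (helper28): the semidirect product `C = K ⋉ Q` and `C_C(Q) ≤ Q`.
-/

set_option autoImplicit false

namespace Cfsg.Agent.Helper8.HJ

open Cfsg

theorem qs {G : Type*} [Group G] [Finite G] (z : G) (hz : orderOf z = 2)
    (hF : Cfsg.generalizedFittingSubgroup ↥(Subgroup.centralizer ({z} : Set G)) =
        Cfsg.pCore 2 ↥(Subgroup.centralizer ({z} : Set G)))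
    (K : Subgroup G)
    (hKC : K ⊔ Qs z = Subgroup.centralizer ({z} : Set G)) (hKQ : K ⊓ Qs z = ⊥) :
    Qs z ≤ Subgroup.centralizer ({z} : Set G) ∧ K ≤ Subgroup.centralizer ({z} : Set G) ∧
      (∀ c ∈ Subgroup.centralizer ({z} : Set G), ∃ k ∈ K, ∃ q ∈ Qs z, c = k * q) ∧
      (∀ x, x ∈ K → x ∈ Qs z → x = 1) ∧
      (∀ c ∈ Subgroup.centralizer ({z} : Set G), ∀ x ∈ Qs z, c * x * c⁻¹ ∈ Qs z) ∧
      (∀ c ∈ Subgroup.centralizer ({z} : Set G), (∀ x ∈ Qs z, c * x = x * c) → c ∈ Qs z) := by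
  classical
  set C : Subgroup G := Subgroup.centralizer ({z} : Set G) with hC
  set P : Subgroup ↥C := Cfsg.pCore 2 ↥C with hP
  have hQdef : Qs z = P.map C.subtype := rfl
  have hPn : P.Normal := Cfsg.Agent.Helper7.pCore_normal 2
  have hQC : Qs z ≤ C := by
    rw [hQdef]; exact Subgroup.map_subtype_le P
  have hKle : K ≤ C := le_sup_left.trans hKC.le
  -- conjugation
  have hnorm : ∀ c ∈ C, ∀ x ∈ Qs z, c * x * c⁻¹ ∈ Qs z := by
    intro c hc x hx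
    rw [hQdef, Subgroup.mem_map] at hx ⊢
    obtain ⟨p, hp, rfl⟩ := hx
    exact ⟨⟨c, hc⟩ * p * ⟨c, hc⟩⁻¹, hPn.conj_mem p hp ⟨c, hc⟩, by simp⟩
  refine ⟨hQC, hKle, ?_, ?_, hnorm, ?_⟩
  · -- products
    intro c hc
    have hc' : c ∈ K ⊔ Qs z := hKC ▸ hc
    let S : Subgroup G :=
      { carrier := {c | ∃ k ∈ K, ∃ q ∈ Qs z, c = k * q}
        one_mem' := ⟨1, K.one_mem, 1, (Qs z).one_mem, by simp⟩
        mul_mem' := by
          rintro x y ⟨k1, hk1, q1, hq1, rfl⟩ ⟨k2, hk2, q2, hq2, rfl⟩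
          refine ⟨k1 * k2, K.mul_mem hk1 hk2, (k2⁻¹ * q1 * k2⁻¹⁻¹) * q2, ?_, ?_⟩
          · exact (Qs z).mul_mem (hnorm _ (C.inv_mem (hKle hk2)) _ hq1) hq2
          · group
        inv_mem' := by
          rintro x ⟨k1, hk1, q1, hq1, rfl⟩
          refine ⟨k1⁻¹, K.inv_mem hk1, k1 * q1⁻¹ * k1⁻¹, ?_, ?_⟩
          · exact hnorm _ (hKle hk1) _ ((Qs z).inv_mem hq1)
          · group }
    have hKS : K ≤ S := fun k hk => ⟨k, hk, 1, (Qs z).one_mem, by simp⟩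
    have hQS : Qs z ≤ S := fun q hq => ⟨1, K.one_mem, q, hq, by simp⟩
    exact (sup_le hKS hQS) hc'
  · intro x hxK hxQ
    have : x ∈ K ⊓ Qs z := ⟨hxK, hxQ⟩
    rw [hKQ] at this
    exact Subgroup.mem_bot.1 this
  · intro c hc hcent
    have hle := Cfsg.Agent.Helper7.centralizer_pCore_le_of_generalizedFittingSubgroup_eq
      (G := ↥C) 2 hF
    have hmem : (⟨c, hc⟩ : ↥C) ∈ Subgroup.centralizer ((Cfsg.pCore 2 ↥C : Subgroup ↥C) : Set ↥C) := by
      rw [Subgroup.mem_centralizer_iff]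
      intro p hp
      have hpQ : (p : G) ∈ Qs z := by
        rw [hQdef, Subgroup.mem_map]
        exact ⟨p, hp, rfl⟩
      have := hcent _ hpQ
      apply Subtype.ext
      simpa using this.symm
    have := hle hmem
    rw [hQdef, Subgroup.mem_map]
    exact ⟨⟨c, hc⟩, this, rfl⟩

end Cfsg.Agent.Helper8.HJ
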