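import Mathlib
import Cfsg.Agent.Lib.Helper8.HJDefs
import Cfsg.Agent.Lib.Helper7.PLocal4
import Cfsg.Agent.Lib.Helper7.Bender
import Cfsg.Agent.Lib.Helper22.ClassTwo

/-!
# S3313 piece QX (helper28): unpacking "`F*(C_G(z))` is extraspecial" into elementary facts on `Qs z`.
-/

set_option autoImplicit false

namespace Cfsg.Agent.Helper8.HJ

open Cfsg

open scoped commutatorElement

/-- In a group of order two every element is `1` or a given non-identity element. -/
theorem qx_two {H : Type*} [Group H] (hc : Nat.card H = 2) (a : H) (ha : a ≠ 1) (x : H) :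
    x = 1 ∨ x = a := by
  classical
  haveI : Finite H := Nat.finite_of_card_ne_zero (by rw [hc]; norm_num)
  haveI := Fintype.ofFinite H
  by_contra h
  push Not at h
  have h3 : ({1, a, x} : Finset H).card = 3 := by
    rw [Finset.card_insert_of_notMem, Finset.card_insert_of_notMem, Finset.card_singleton]
    · simpa using Ne.symm h.2
    · simp only [Finset.mem_insert, Finset.mem_singleton, not_or]
      exact ⟨Ne.symm ha, Ne.symm h.1⟩
  have := Finset.card_le_univ ({1, a, x} : Finset H)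
  rw [h3, ← Nat.card_eq_fintype_card, hc] at this
  omega

theorem qx {G : Type*} [Group G] [Finite G] (z : G) (hz : orderOf z = 2)
    (hex : Cfsg.IsExtraspecial 2 ↥(Cfsg.generalizedFittingSubgroup ↥(Subgroup.centralizer ({z} : Set G)))) :
    Cfsg.generalizedFittingSubgroup ↥(Subgroup.centralizer ({z} : Set G)) =
        Cfsg.pCore 2 ↥(Subgroup.centralizer ({z} : Set G)) ∧
      z ∈ Qs z ∧
      (∀ w ∈ Qs z, (∀ x ∈ Qs z, x * w = w * x) → w = 1 ∨ w = z) ∧
      (∀ x ∈ Qs z, ∀ y ∈ Qs z, x * y * x⁻¹ * y⁻¹ = 1 ∨ x * y * x⁻¹ * y⁻¹ = z) ∧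
      (∀ x ∈ Qs z, x * x = 1 ∨ x * x = z) := by
  classical
  haveI : Fact (Nat.Prime 2) := ⟨Nat.prime_two⟩
  set C : Subgroup G := Subgroup.centralizer ({z} : Set G) with hC
  set F : Subgroup ↥C := Cfsg.generalizedFittingSubgroup ↥C with hFdef
  set P : Subgroup ↥C := Cfsg.pCore 2 ↥C with hP
  obtain ⟨⟨hpg, hfrat, hcomm⟩, hcard⟩ := hex
  have hFn : F.Normal := Cfsg.Agent.Helper7.generalizedFittingSubgroup_normal
  have hPn : P.Normal := Cfsg.Agent.Helper7.pCore_normal 2
  have hFP : F = P := by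
    apply le_antisymm
    · exact Cfsg.Agent.Helper7.le_pCore hFn hpg
    · exact (Cfsg.Agent.Helper7.pCore_le_fittingSubgroup 2).trans
        Cfsg.Agent.Helper7.fittingSubgroup_le_generalizedFittingSubgroup
  have hQdef : Qs z = P.map C.subtype := rfl
  -- the element `z` of `C`
  have hzC : z ∈ C := by
    rw [hC, Subgroup.mem_centralizer_iff]
    intro y hy
    rw [Set.mem_singleton_iff.1 hy]
  set z' : ↥C := ⟨z, hzC⟩ with hz'
  have hz'c : ∀ y : ↥C, y * z' = z' * y := by
    intro y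
    apply Subtype.ext
    have := Subgroup.mem_centralizer_iff.1 y.2
    simpa using (this z rfl).symm
  have hz'o : orderOf z' = 2 := by
    rw [← hz]
    exact Subgroup.orderOf_mk z hzC
  -- `⟨z'⟩` is a normal 2-subgroup of `C`
  have hz'P : z' ∈ P := by
    have hn : (Subgroup.zpowers z').Normal := by
      refine ⟨fun x hx g => ?_⟩
      rw [Subgroup.mem_zpowers_iff] at hx ⊢
      obtain ⟨k, rfl⟩ := hx
      refine ⟨k, ?_⟩
      have hcomm' : Commute g (z' ^ k) := Commute.zpow_right (hz'c g) k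
      rw [hcomm'.eq, mul_inv_cancel_right]
    have hp : IsPGroup 2 ↥(Subgroup.zpowers z') := by
      apply IsPGroup.of_card (n := 1)
      rw [Nat.card_zpowers, hz'o, pow_one]
    exact Cfsg.Agent.Helper7.le_pCore hn hp (Subgroup.mem_zpowers z')
  have hz'F : z' ∈ F := hFP ▸ hz'P
  set z'' : ↥F := ⟨z', hz'F⟩ with hz''
  have hz''1 : z'' ≠ 1 := by
    intro h
    have h1 : z' = 1 := congrArg Subtype.val h
    rw [h1, orderOf_one] at hz'o
    norm_num at hz'o
  have hz''c : z'' ∈ Subgroup.center ↥F := by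
    rw [Subgroup.mem_center_iff]
    intro y
    apply Subtype.ext
    exact hz'c y
  set zc : ↥(Subgroup.center ↥F) := ⟨z'', hz''c⟩ with hzc
  have hzc1 : zc ≠ 1 := by
    intro h
    exact hz''1 (congrArg Subtype.val h)
  -- elements of the centre
  have hcen : ∀ f : ↥F, f ∈ Subgroup.center ↥F → f = 1 ∨ f = z'' := by
    intro f hf
    rcases qx_two hcard zc hzc1 ⟨f, hf⟩ with h | h
    · left; exact congrArg Subtype.val h
    · right; exact congrArg Subtype.val h
  -- lifting from `Qs z` to `F`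
  have hlift : ∀ x ∈ Qs z, ∃ f : ↥F, ((f : ↥C) : G) = x := by
    intro x hx
    rw [hQdef, Subgroup.mem_map] at hx
    obtain ⟨p, hp, rfl⟩ := hx
    exact ⟨⟨p, hFP ▸ hp⟩, rfl⟩
  have hdown : ∀ f : ↥F, ((f : ↥C) : G) ∈ Qs z := by
    intro f
    rw [hQdef, Subgroup.mem_map]
    exact ⟨f, hFP ▸ f.2, rfl⟩
  have hval : ∀ f : ↥F, (f = 1 ∨ f = z'') → (((f : ↥C) : G) = 1 ∨ ((f : ↥C) : G) = z) := by
    rintro f (rfl | rfl)
    · left; rfl
    · right; rfl
  refine ⟨hFP, ?_, ?_, ?_, ?_⟩
  · rw [hQdef, Subgroup.mem_map]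
    exact ⟨z', hz'P, rfl⟩
  · intro w hw hwc
    obtain ⟨f, rfl⟩ := hlift w hw
    apply hval
    apply hcen
    rw [Subgroup.mem_center_iff]
    intro y
    apply Subtype.ext
    apply Subtype.ext
    exact hwc _ (hdown y)
  · intro x hx y hy
    obtain ⟨f, rfl⟩ := hlift x hx
    obtain ⟨g, rfl⟩ := hlift y hy
    have h1 : ⁅f, g⁆ ∈ Subgroup.center ↥F := by
      rw [← hcomm, commutator_def]
      exact Subgroup.commutator_mem_commutator (Subgroup.mem_top f) (Subgroup.mem_top g)
    have := hval _ (hcen _ h1)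
    simpa [commutatorElement_def] using this
  · intro x hx
    obtain ⟨f, rfl⟩ := hlift x hx
    have h1 : f ^ 2 ∈ Subgroup.center ↥F := by
      rw [← hfrat]
      exact Cfsg.Agent.Helper22.pow_prime_mem_frattini hpg f
    have := hval _ (hcen _ h1)
    simpa [pow_two] using this

end Cfsg.Agent.Helper8.HJ
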