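import Mathlib
import Cfsg.Agent.Lib.Helper8.HJDefs
import Cfsg.Agent.S1875

/-!
# S3313 piece THOMPSON (helper28): the Thompson order formula for two classes of involutions,
with denominators cleared.
-/

set_option autoImplicit false

namespace Cfsg.Agent.Helper8.HJ

open Cfsg

theorem thompson {G : Type*} [Group G] [Finite G] (z t : G) (hz : orderOf z = 2) (ht : orderOf t = 2)
    (hzt : ¬ IsConj z t) (hcl : ∀ x : G, orderOf x = 2 → IsConj x z ∨ IsConj x t) :
    Nat.card G = Nat.card ↥(Subgroup.centralizer ({t} : Set G)) * rr z t z +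
      Nat.card ↥(Subgroup.centralizer ({z} : Set G)) * rr z t t := by
  classical
  have hne : z ≠ t := fun h => hzt (h ▸ IsConj.refl z)
  have hW2 : ∀ w ∈ ({z, t} : Finset G), orderOf w = 2 := by
    intro w hw
    rcases Finset.mem_insert.1 hw with rfl | hw
    · exact hz
    · rw [Finset.mem_singleton.1 hw]; exact ht
  have hWrep : ∀ x : G, orderOf x = 2 → ∃ w ∈ ({z, t} : Finset G), IsConj x w ∧
      ∀ w' ∈ ({z, t} : Finset G), IsConj x w' → w' = w := by
    intro x hx
    rcases hcl x hx with h | h
    · refine ⟨z, by simp, h, ?_⟩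
      intro w' hw' hxw'
      rcases Finset.mem_insert.1 hw' with rfl | hw'
      · rfl
      · rw [Finset.mem_singleton.1 hw'] at hxw'
        exact absurd (h.symm.trans hxw') hzt
    · refine ⟨t, by simp, h, ?_⟩
      intro w' hw' hxw'
      rcases Finset.mem_insert.1 hw' with rfl | hw'
      · exact absurd (hxw'.symm.trans h) hzt
      · exact Finset.mem_singleton.1 hw'
  have h := Cfsg.Agent.S1875.result z t hz ht hzt ({z, t} : Finset G) hW2 hWrep
  rw [Finset.sum_pair hne] at h
  have hcz : (Nat.card ↥(Subgroup.centralizer ({z} : Set G)) : ℚ) ≠ 0 := by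
    exact_mod_cast Nat.card_pos.ne'
  have hct : (Nat.card ↥(Subgroup.centralizer ({t} : Set G)) : ℚ) ≠ 0 := by
    exact_mod_cast Nat.card_pos.ne'
  have h2 : (Nat.card G : ℚ) =
      (Nat.card ↥(Subgroup.centralizer ({t} : Set G)) : ℚ) * (rr z t z : ℚ) +
        (Nat.card ↥(Subgroup.centralizer ({z} : Set G)) : ℚ) * (rr z t t : ℚ) := by
    rw [h]
    unfold rr
    field_simp
  exact_mod_cast h2

end Cfsg.Agent.Helper8.HJ
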