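import Mathlib
import Cfsg.Prelude.Def_MonsterType
import Cfsg.Agent.Lib.Helper28.LargeExtra
import Cfsg.Agent.Lib.Helper28.FourGroupS3
import Cfsg.Agent.Lib.Helper28.FStarExtra
import Cfsg.Agent.Lib.Helper14.SThree
import Cfsg.Agent.Lib.Helper27.ExtraCrit

set_option autoImplicit false

/-! A pair of "orthogonal" large extraspecial subgroups `Q_z`, `Q_x` (with `x ∈ Q_z`,
`z ∈ Q_x`) and the subgroup `X = ⟨Q_z, Q_x⟩`. -/

namespace Cfsg.Agent.Helper28.LargePair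

open Cfsg Cfsg.Agent.Helper14 Cfsg.Agent.Helper28.LargeExtra Cfsg.Agent.Helper28.FourGroupS3
  Cfsg.Agent.Helper28.FStarExtra

variable {G : Type*} [Group G]

/-- squares of an extraspecial-like group lie in `{1, z}` -/
theorem sq_mem {E : Subgroup G} {z : G} (h : ExtraLike E z) {a : G} (ha : a ∈ E) :
    a * a = 1 ∨ a * a = z := by
  apply h.cent
  intro b hb
  have hza : z * a = a * z := h.central a ha
  rcases h.conj_eq ha hb with h1 | h1
  · have e : a * b = b * a := by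
      calc a * b = (a * b * a⁻¹) * a := by group
        _ = b * a := by rw [h1]
    calc a * a * b = a * (a * b) := by group
      _ = a * (b * a) := by rw [e]
      _ = (a * b) * a := by group
      _ = b * a * a := by rw [e]
      _ = b * (a * a) := by group
  · have e : a * b = z * b * a := by
      calc a * b = (a * b * a⁻¹) * a := by group
        _ = z * b * a := by rw [h1]
    calc a * a * b = a * (a * b) := by group
      _ = a * (z * b * a) := by rw [e]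
      _ = (a * z) * b * a := by group
      _ = (z * a) * b * a := by rw [hza]
      _ = z * (a * b) * a := by group
      _ = z * (z * b * a) * a := by rw [e]
      _ = (z * z) * b * a * a := by group
      _ = b * (a * a) := by rw [h.sq]; group

theorem isPGroup_two {E : Subgroup G} {z : G} (h : ExtraLike E z) : IsPGroup 2 E := by
  intro a
  refine ⟨2, ?_⟩
  apply Subtype.ext
  rw [Subgroup.coe_pow, Subgroup.coe_one]
  have h4 : (a : G) ^ 2 ^ 2 = ((a : G) * a) * ((a : G) * a) := by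
    rw [show (2 : ℕ) ^ 2 = 2 + 2 from rfl, pow_add, pow_two]
  rw [h4]
  rcases sq_mem h a.2 with h1 | h1
  · rw [h1, one_mul]
  · rw [h1, h.sq]

theorem perm3_normal_mem : ∀ τ σ : Equiv.Perm (Fin 3), τ ≠ 1 → σ ^ 3 = 1 →
    σ = 1 ∨ σ = τ ∨ σ = τ⁻¹ ∨ ∃ ρ, σ = τ * (ρ * τ * ρ⁻¹) := by decide

/-- a non-trivial normal subgroup of a copy of `S₃` contains all elements of order three -/
theorem mem_of_normal_of_cube {S : Type*} [Group S] (e : S ≃* Equiv.Perm (Fin 3))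
    (N : Subgroup S) [hN : N.Normal] (hne : N ≠ ⊥) (t : S) (ht : t ^ 3 = 1) : t ∈ N := by
  obtain ⟨n, hn, hn1⟩ := (Subgroup.ne_bot_iff_exists_ne_one (H := N)).mp hne |>.imp
    (fun n hn => hn) |> fun ⟨n, hn1⟩ => (⟨(n : S), n.2, fun h0 => hn1 (Subtype.ext h0)⟩ :
      ∃ n : S, n ∈ N ∧ n ≠ 1)
  have h1 : e n ≠ 1 := by
    intro h0
    apply hn1
    apply e.injective
    rw [h0, map_one]
  have h2 : (e t) ^ 3 = 1 := by rw [← map_pow, ht, map_one]
  rcases perm3_normal_mem (e n) (e t) h1 h2 with h3 | h3 | h3 | ⟨ρ, h3⟩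
  · have : t = 1 := by
      apply e.injective
      rw [h3, map_one]
    rw [this]; exact N.one_mem
  · have : t = n := e.injective h3
    rw [this]; exact hn
  · have : t = n⁻¹ := by
      apply e.injective
      rw [h3, map_inv]
    rw [this]; exact N.inv_mem hn
  · have : t = n * (e.symm ρ * n * (e.symm ρ)⁻¹) := by
      apply e.injective
      rw [h3, map_mul, map_mul, map_mul, map_inv, MulEquiv.apply_symm_apply]
    rw [this]
    exact N.mul_mem hn (hN.conj_mem n hn _)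

/-- commutators with a fixed subgroup `P` land in `E` for a join, if they do for both
factors, and the factors normalize `E`. -/
theorem comm_mem_of_gens {N E S T P : Subgroup G}
    (hN : ∀ n ∈ N, ∀ e ∈ E, n * e * n⁻¹ ∈ E) (hS : S ≤ N) (hT : T ≤ N)
    (hgS : ∀ s ∈ S, ∀ p ∈ P, s * p * s⁻¹ * p⁻¹ ∈ E)
    (hgT : ∀ t ∈ T, ∀ p ∈ P, t * p * t⁻¹ * p⁻¹ ∈ E) :
    ∀ r ∈ S ⊔ T, ∀ p ∈ P, r * p * r⁻¹ * p⁻¹ ∈ E := by
  let K : Subgroup G :=
    { carrier := {r | r ∈ N ∧ ∀ p ∈ P, r * p * r⁻¹ * p⁻¹ ∈ E}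
      one_mem' := ⟨N.one_mem, fun p _ => by simp⟩
      mul_mem' := by
        rintro a b ⟨ha1, ha2⟩ ⟨hb1, hb2⟩
        refine ⟨N.mul_mem ha1 hb1, ?_⟩
        intro p hp
        have e : a * b * p * (a * b)⁻¹ * p⁻¹ =
            (a * (b * p * b⁻¹ * p⁻¹) * a⁻¹) * (a * p * a⁻¹ * p⁻¹) := by group
        rw [e]
        exact E.mul_mem (hN a ha1 _ (hb2 p hp)) (ha2 p hp)
      inv_mem' := by
        rintro a ⟨ha1, ha2⟩
        refine ⟨N.inv_mem ha1, ?_⟩
        intro p hp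
        have e : a⁻¹ * p * a⁻¹⁻¹ * p⁻¹ = a⁻¹ * (a * p * a⁻¹ * p⁻¹)⁻¹ * a⁻¹⁻¹ := by group
        rw [e]
        exact hN _ (N.inv_mem ha1) _ (E.inv_mem (ha2 p hp)) }
  have hle : S ⊔ T ≤ K :=
    sup_le (fun s hs => ⟨hS hs, hgS s hs⟩) (fun t ht => ⟨hT ht, hgT t ht⟩)
  intro r hr
  exact (hle hr).2

/-- The symmetric data of two orthogonal singular involutions. -/
structure Pair (Qz Qx : Subgroup G) (z x : G) : Prop where
  ez : ExtraLike Qz z
  ex : ExtraLike Qx x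
  nz : Subgroup.centralizer ({z} : Set G) ≤ Subgroup.normalizer (Qz : Set G)
  nx : Subgroup.centralizer ({x} : Set G) ≤ Subgroup.normalizer (Qx : Set G)
  xQ : x ∈ Qz
  zQ : z ∈ Qx
  ne : x ≠ z
  braid : ∀ q ∈ Qz, ∀ q' ∈ Qx, q * x * q⁻¹ = z * x → q' * z * q'⁻¹ = z * x →
    Qz.map (MulAut.conj q').toMonoidHom = Qx.map (MulAut.conj q).toMonoidHom

namespace Pair

variable {Qz Qx : Subgroup G} {z x : G}

theorem comm (h : Pair Qz Qx z x) : z * x = x * z := h.ez.central x h.xQ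

theorem symm (h : Pair Qz Qx z x) : Pair Qx Qz x z where
  ez := h.ex
  ex := h.ez
  nz := h.nx
  nx := h.nz
  xQ := h.zQ
  zQ := h.xQ
  ne := h.ne.symm
  braid := by
    intro q hq q' hq' h1 h2
    rw [← h.comm] at h1 h2
    exact (h.braid q' hq' q hq h2 h1).symm

theorem x_inv (h : Pair Qz Qx z x) : x⁻¹ = x := inv_eq_of_mul_eq_one_right h.ex.sq

theorem z_inv (h : Pair Qz Qx z x) : z⁻¹ = z := inv_eq_of_mul_eq_one_right h.ez.sq

end Pair

/-- `C_Q(x)` as a subgroup of the ambient group -/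
abbrev cen (Q : Subgroup G) (x : G) : Subgroup G := Q ⊓ Subgroup.centralizer ({x} : Set G)

theorem mem_cen {Q : Subgroup G} {x a : G} : a ∈ cen Q x ↔ a ∈ Q ∧ a * x = x * a := by
  unfold cen
  rw [Subgroup.mem_inf, Subgroup.mem_centralizer_singleton_iff]

namespace Pair

variable {Qz Qx : Subgroup G} {z x : G}

theorem conj_mem_Qx (h : Pair Qz Qx z x) {c y : G} (hc : c * x = x * c) (hy : y ∈ Qx) :
    c * y * c⁻¹ ∈ Qx :=
  (Subgroup.mem_normalizer_iff.mp (h.nx (Subgroup.mem_centralizer_singleton_iff.mpr hc)) y).mp hy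

theorem conj_mem_Qz (h : Pair Qz Qx z x) {c y : G} (hc : c * z = z * c) (hy : y ∈ Qz) :
    c * y * c⁻¹ ∈ Qz :=
  h.symm.conj_mem_Qx hc hy

theorem Qz_comm_z (h : Pair Qz Qx z x) {u : G} (hu : u ∈ Qz) : u * z = z * u :=
  (h.ez.central u hu).symm

theorem Qx_comm_x (h : Pair Qz Qx z x) {u : G} (hu : u ∈ Qx) : u * x = x * u :=
  (h.ex.central u hu).symm

theorem comm_mem_E (h : Pair Qz Qx z x) {a b : G} (ha : a ∈ cen Qz x) (hb : b ∈ cen Qx z) :
    a * b * a⁻¹ * b⁻¹ ∈ Qz ⊓ Qx := by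
  rw [mem_cen] at ha hb
  refine Subgroup.mem_inf.mpr ⟨?_, ?_⟩
  · have h1 : b * a⁻¹ * b⁻¹ ∈ Qz := h.conj_mem_Qz hb.2 (Qz.inv_mem ha.1)
    have : a * b * a⁻¹ * b⁻¹ = a * (b * a⁻¹ * b⁻¹) := by group
    rw [this]
    exact Qz.mul_mem ha.1 h1
  · have h1 : a * b * a⁻¹ ∈ Qx := h.conj_mem_Qx ha.2 hb.1
    exact Qx.mul_mem h1 (Qx.inv_mem hb.1)

theorem conj_cen (h : Pair Qz Qx z x) {a b : G} (ha : a ∈ cen Qz x) (hb : b ∈ cen Qx z) :
    b * a * b⁻¹ ∈ cen Qz x := by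
  rw [mem_cen] at ha hb ⊢
  refine ⟨h.conj_mem_Qz hb.2 ha.1, ?_⟩
  have hbx : b * x = x * b := h.Qx_comm_x hb.1
  have hbx' : b⁻¹ * x = x * b⁻¹ := by
    calc b⁻¹ * x = b⁻¹ * (x * b) * b⁻¹ := by group
      _ = b⁻¹ * (b * x) * b⁻¹ := by rw [hbx]
      _ = x * b⁻¹ := by group
  calc b * a * b⁻¹ * x = b * a * (b⁻¹ * x) := by group
    _ = b * a * (x * b⁻¹) := by rw [hbx']
    _ = b * (a * x) * b⁻¹ := by group
    _ = b * (x * a) * b⁻¹ := by rw [ha.2]
    _ = (b * x) * a * b⁻¹ := by group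
    _ = (x * b) * a * b⁻¹ := by rw [hbx]
    _ = x * (b * a * b⁻¹) := by group

/-- the set `C_{Q_x}(z) C_{Q_z}(x)` as a subgroup -/
def prodSub (h : Pair Qz Qx z x) : Subgroup G where
  carrier := {r | ∃ b ∈ cen Qx z, ∃ a ∈ cen Qz x, r = b * a}
  one_mem' := ⟨1, Subgroup.one_mem _, 1, Subgroup.one_mem _, by simp⟩
  mul_mem' := by
    rintro _ _ ⟨b1, hb1, a1, ha1, rfl⟩ ⟨b2, hb2, a2, ha2, rfl⟩
    refine ⟨b1 * b2, Subgroup.mul_mem _ hb1 hb2, (b2⁻¹ * a1 * b2⁻¹⁻¹) * a2, ?_, by group⟩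
    exact Subgroup.mul_mem _ (h.conj_cen ha1 (Subgroup.inv_mem _ hb2)) ha2
  inv_mem' := by
    rintro _ ⟨b, hb, a, ha, rfl⟩
    refine ⟨b⁻¹, Subgroup.inv_mem _ hb, b * a⁻¹ * b⁻¹, ?_, by group⟩
    exact h.conj_cen (Subgroup.inv_mem _ ha) hb

theorem mem_R_iff (h : Pair Qz Qx z x) {r : G} :
    r ∈ cen Qx z ⊔ cen Qz x ↔ ∃ b ∈ cen Qx z, ∃ a ∈ cen Qz x, r = b * a := by
  constructor
  · intro hr
    have hle : cen Qx z ⊔ cen Qz x ≤ h.prodSub := by
      apply sup_le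
      · intro b hb
        exact ⟨b, hb, 1, Subgroup.one_mem _, by simp⟩
      · intro a ha
        exact ⟨1, Subgroup.one_mem _, a, ha, by simp⟩
    exact hle hr
  · rintro ⟨b, hb, a, ha, rfl⟩
    exact Subgroup.mul_mem_sup hb ha

theorem R_comm_z (h : Pair Qz Qx z x) {r : G} (hr : r ∈ cen Qx z ⊔ cen Qz x) : r * z = z * r := by
  obtain ⟨b, hb, a, ha, rfl⟩ := h.mem_R_iff.mp hr
  rw [mem_cen] at ha hb
  have haz : a * z = z * a := h.Qz_comm_z ha.1
  calc b * a * z = b * (a * z) := by group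
    _ = b * (z * a) := by rw [haz]
    _ = (b * z) * a := by group
    _ = (z * b) * a := by rw [hb.2]
    _ = z * (b * a) := by group

theorem R_symm (h : Pair Qz Qx z x) : cen Qz x ⊔ cen Qx z = cen Qx z ⊔ cen Qz x := sup_comm _ _

theorem R_comm_x (h : Pair Qz Qx z x) {r : G} (hr : r ∈ cen Qx z ⊔ cen Qz x) : r * x = x * r := by
  rw [← h.R_symm] at hr
  exact h.symm.R_comm_z hr

/-- `C_{Q_z}(x)` is normal in `Q_z`. -/
theorem conj_cen_self (h : Pair Qz Qx z x) {u a : G} (hu : u ∈ Qz) (ha : a ∈ cen Qz x) :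
    u * a * u⁻¹ ∈ cen Qz x := by
  rw [mem_cen] at ha ⊢
  refine ⟨Qz.mul_mem (Qz.mul_mem hu ha.1) (Qz.inv_mem hu), ?_⟩
  have haz : a * z = z * a := h.Qz_comm_z ha.1
  -- `u⁻¹ x u` is `x` or `z x`
  have h1 : u⁻¹ * x * u⁻¹⁻¹ = x ∨ u⁻¹ * x * u⁻¹⁻¹ = z * x := h.ez.conj_eq (Qz.inv_mem hu) h.xQ
  have key : ∀ x', u⁻¹ * x * u⁻¹⁻¹ = x' → a * x' = x' * a → u * a * u⁻¹ * x = x * (u * a * u⁻¹) := by
    intro x' e1 e2
    have e3 : x = u * x' * u⁻¹ := by rw [← e1]; group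
    calc u * a * u⁻¹ * x = u * a * u⁻¹ * (u * x' * u⁻¹) := by rw [← e3]
      _ = u * (a * x') * u⁻¹ := by group
      _ = u * (x' * a) * u⁻¹ := by rw [e2]
      _ = (u * x' * u⁻¹) * (u * a * u⁻¹) := by group
      _ = x * (u * a * u⁻¹) := by rw [← e3]
  rcases h1 with h1 | h1
  · exact key x h1 ha.2
  · apply key (z * x) h1
    calc a * (z * x) = (a * z) * x := by group
      _ = (z * a) * x := by rw [haz]
      _ = z * (a * x) := by group
      _ = z * (x * a) := by rw [ha.2]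
      _ = z * x * a := by group

/-- `[u, c] ∈ C_{Q_z}(x)` for `u ∈ Q_z` and `c` centralizing `z` and `x`. -/
theorem comm_mem_cen' (h : Pair Qz Qx z x) {u b : G} (hu : u ∈ Qz) (hbz : b * z = z * b)
    (hbx : b * x = x * b) : u * b * u⁻¹ * b⁻¹ ∈ cen Qz x := by
  rw [mem_cen]
  constructor
  · have h1 : b * u⁻¹ * b⁻¹ ∈ Qz := h.conj_mem_Qz hbz (Qz.inv_mem hu)
    have : u * b * u⁻¹ * b⁻¹ = u * (b * u⁻¹ * b⁻¹) := by group
    rw [this]
    exact Qz.mul_mem hu h1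
  · have h1 : u⁻¹ * x * u⁻¹⁻¹ = x ∨ u⁻¹ * x * u⁻¹⁻¹ = z * x := h.ez.conj_eq (Qz.inv_mem hu) h.xQ
    have key : ∀ x', u⁻¹ * x * u⁻¹⁻¹ = x' → b * x' = x' * b →
        u * b * u⁻¹ * b⁻¹ * x = x * (u * b * u⁻¹ * b⁻¹) := by
      intro x' e1 e2
      have e3 : x = u * x' * u⁻¹ := by rw [← e1]; group
      have e4 : b⁻¹ * x = x * b⁻¹ := by
        calc b⁻¹ * x = b⁻¹ * (x * b) * b⁻¹ := by group
          _ = b⁻¹ * (b * x) * b⁻¹ := by rw [hbx]
          _ = x * b⁻¹ := by group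
      have e5 : u⁻¹ * x = x' * u⁻¹ := by rw [← e1]; group
      calc u * b * u⁻¹ * b⁻¹ * x = u * b * u⁻¹ * (b⁻¹ * x) := by group
        _ = u * b * u⁻¹ * (x * b⁻¹) := by rw [e4]
        _ = u * b * (u⁻¹ * x) * b⁻¹ := by group
        _ = u * b * (x' * u⁻¹) * b⁻¹ := by rw [e5]
        _ = u * (b * x') * u⁻¹ * b⁻¹ := by group
        _ = u * (x' * b) * u⁻¹ * b⁻¹ := by rw [e2]
        _ = (u * x' * u⁻¹) * (u * b * u⁻¹ * b⁻¹) := by group
        _ = x * (u * b * u⁻¹ * b⁻¹) := by rw [← e3]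
    rcases h1 with h1 | h1
    · exact key x h1 hbx
    · apply key (z * x) h1
      calc b * (z * x) = (b * z) * x := by group
        _ = (z * b) * x := by rw [hbz]
        _ = z * (b * x) := by group
        _ = z * (x * b) := by rw [hbx]
        _ = z * x * b := by group

theorem comm_mem_cen (h : Pair Qz Qx z x) {u b : G} (hu : u ∈ Qz) (hb : b ∈ cen Qx z) :
    u * b * u⁻¹ * b⁻¹ ∈ cen Qz x := by
  rw [mem_cen] at hb
  exact h.comm_mem_cen' hu hb.2 (h.Qx_comm_x hb.1)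

/-- `Q_z` normalizes `R`. -/
theorem Qz_conj_R (h : Pair Qz Qx z x) {u r : G} (hu : u ∈ Qz) (hr : r ∈ cen Qx z ⊔ cen Qz x) :
    u * r * u⁻¹ ∈ cen Qx z ⊔ cen Qz x := by
  obtain ⟨b, hb, a, ha, rfl⟩ := h.mem_R_iff.mp hr
  have h1 : u * b * u⁻¹ * b⁻¹ ∈ cen Qx z ⊔ cen Qz x :=
    Subgroup.mem_sup_right (h.comm_mem_cen hu hb)
  have h2 : u * a * u⁻¹ ∈ cen Qx z ⊔ cen Qz x := Subgroup.mem_sup_right (h.conj_cen_self hu ha)
  have h3 : b ∈ cen Qx z ⊔ cen Qz x := Subgroup.mem_sup_left hb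
  have : u * (b * a) * u⁻¹ = (u * b * u⁻¹ * b⁻¹) * b * (u * a * u⁻¹) := by group
  rw [this]
  exact Subgroup.mul_mem _ (Subgroup.mul_mem _ h1 h3) h2

theorem Qx_conj_R (h : Pair Qz Qx z x) {u r : G} (hu : u ∈ Qx) (hr : r ∈ cen Qx z ⊔ cen Qz x) :
    u * r * u⁻¹ ∈ cen Qx z ⊔ cen Qz x := by
  rw [← h.R_symm] at hr ⊢
  exact h.symm.Qz_conj_R hu hr

/-- `X = ⟨Q_z, Q_x⟩` normalizes `R`. -/
theorem X_le_normalizer_R (h : Pair Qz Qx z x) :
    Qz ⊔ Qx ≤ Subgroup.normalizer ((cen Qx z ⊔ cen Qz x : Subgroup G) : Set G) := by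
  apply sup_le
  · intro u hu
    rw [Subgroup.mem_normalizer_iff]
    intro r
    constructor
    · exact h.Qz_conj_R hu
    · intro hr
      have := h.Qz_conj_R (Qz.inv_mem hu) hr
      have e : u⁻¹ * (u * r * u⁻¹) * u⁻¹⁻¹ = r := by group
      rw [e] at this
      exact this
  · intro u hu
    rw [Subgroup.mem_normalizer_iff]
    intro r
    constructor
    · exact h.Qx_conj_R hu
    · intro hr
      have := h.Qx_conj_R (Qx.inv_mem hu) hr
      have e : u⁻¹ * (u * r * u⁻¹) * u⁻¹⁻¹ = r := by group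
      rw [e] at this
      exact this

theorem X_conj_R (h : Pair Qz Qx z x) {u r : G} (hu : u ∈ Qz ⊔ Qx)
    (hr : r ∈ cen Qx z ⊔ cen Qz x) : u * r * u⁻¹ ∈ cen Qx z ⊔ cen Qz x :=
  (Subgroup.mem_normalizer_iff.mp (h.X_le_normalizer_R hu) r).mp hr

theorem R_le_X (h : Pair Qz Qx z x) : cen Qx z ⊔ cen Qz x ≤ Qz ⊔ Qx :=
  sup_le (inf_le_left.trans le_sup_right) (inf_le_left.trans le_sup_left)

theorem R_normal (h : Pair Qz Qx z x) :
    ((cen Qx z ⊔ cen Qz x).subgroupOf (Qz ⊔ Qx)).Normal := by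
  constructor
  intro n hn u
  rw [Subgroup.mem_subgroupOf] at hn ⊢
  exact h.X_conj_R u.2 hn

theorem z_ne_one (h : Pair Qz Qx z x) : z ≠ 1 := h.ez.ne_one

theorem zx_ne_x (h : Pair Qz Qx z x) : z * x ≠ x := by
  intro e
  apply h.z_ne_one
  calc z = (z * x) * x⁻¹ := by group
    _ = 1 := by rw [e]; group

theorem zx_ne_z (h : Pair Qz Qx z x) : z * x ≠ z := by
  intro e
  apply h.ex.ne_one
  calc x = z⁻¹ * (z * x) := by group
    _ = 1 := by rw [e]; group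

/-- coset decomposition of `Q_z` modulo `C_{Q_z}(x)` -/
theorem Qz_cases (h : Pair Qz Qx z x) {q u : G} (hq : q ∈ Qz) (hqx : q * x * q⁻¹ = z * x)
    (hu : u ∈ Qz) : u ∈ cen Qz x ∨ q⁻¹ * u ∈ cen Qz x := by
  rcases h.ez.conj_eq hu h.xQ with h1 | h1
  · left
    rw [mem_cen]
    refine ⟨hu, ?_⟩
    calc u * x = (u * x * u⁻¹) * u := by group
      _ = x * u := by rw [h1]
  · right
    rw [mem_cen]
    refine ⟨Qz.mul_mem (Qz.inv_mem hq) hu, ?_⟩
    have e1 : q⁻¹ * (z * x) = x * q⁻¹ := by rw [← hqx]; group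
    calc q⁻¹ * u * x = q⁻¹ * ((u * x * u⁻¹) * u) := by group
      _ = (q⁻¹ * (z * x)) * u := by rw [h1]; group
      _ = x * q⁻¹ * u := by rw [e1]
      _ = x * (q⁻¹ * u) := by group

theorem exists_q (h : Pair Qz Qx z x) : ∃ q ∈ Qz, q * x * q⁻¹ = z * x :=
  h.ez.exists_noncomm h.xQ h.ex.ne_one h.ne

theorem exists_q' (h : Pair Qz Qx z x) : ∃ q' ∈ Qx, q' * z * q'⁻¹ = z * x := by
  obtain ⟨q', h1, h2⟩ := h.symm.exists_q
  exact ⟨q', h1, by rw [h2, h.comm]⟩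

/-- `q` is not in `R` -/
theorem q_not_mem_R (h : Pair Qz Qx z x) {q : G} (hqx : q * x * q⁻¹ = z * x) :
    q ∉ cen Qx z ⊔ cen Qz x := by
  intro hq
  have h1 := h.R_comm_x hq
  apply h.zx_ne_x
  rw [← hqx, h1]
  group

/-- the action of `q q'` on `z` -/
theorem qq'_z (h : Pair Qz Qx z x) {q q' : G} (hq : q ∈ Qz)
    (hqx : q * x * q⁻¹ = z * x) (hq'z : q' * z * q'⁻¹ = z * x) :
    (q * q') * z * (q * q')⁻¹ = x := by
  have hqz : q * z * q⁻¹ = z := h.ez.conj_z hq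
  calc (q * q') * z * (q * q')⁻¹ = q * (q' * z * q'⁻¹) * q⁻¹ := by group
    _ = q * (z * x) * q⁻¹ := by rw [hq'z]
    _ = (q * z * q⁻¹) * (q * x * q⁻¹) := by group
    _ = z * (z * x) := by rw [hqz, hqx]
    _ = (z * z) * x := by group
    _ = x := by rw [h.ez.sq, one_mul]

end Pair

/-- the quotient map `X → X / R` -/
abbrev qmap (Qz Qx : Subgroup G) (z x : G)
    [((cen Qx z ⊔ cen Qz x).subgroupOf (Qz ⊔ Qx)).Normal] :
    ↥(Qz ⊔ Qx) →* ↥(Qz ⊔ Qx) ⧸ (cen Qx z ⊔ cen Qz x).subgroupOf (Qz ⊔ Qx) :=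
  QuotientGroup.mk' ((cen Qx z ⊔ cen Qz x).subgroupOf (Qz ⊔ Qx))

namespace Pair

variable {Qz Qx : Subgroup G} {z x : G}

section Quot

variable (h : Pair Qz Qx z x)
  [hn : ((cen Qx z ⊔ cen Qz x).subgroupOf (Qz ⊔ Qx)).Normal]

include h

omit hn in
theorem qq'_pow_not_comm {q q' : G} (hq : q ∈ Qz)
    (hqx : q * x * q⁻¹ = z * x) (hq'z : q' * z * q'⁻¹ = z * x) :
    ¬ (q * q') * z = z * (q * q') := by
  intro e
  apply h.ne
  rw [← h.qq'_z hq hqx hq'z, e]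
  group

theorem mk_Qz {q u : G} (hq : q ∈ Qz) (hqx : q * x * q⁻¹ = z * x) (hu : u ∈ Qz) :
    (QuotientGroup.mk' ((cen Qx z ⊔ cen Qz x).subgroupOf (Qz ⊔ Qx))
        ⟨u, Subgroup.mem_sup_left hu⟩ = 1) ∨
    (QuotientGroup.mk' ((cen Qx z ⊔ cen Qz x).subgroupOf (Qz ⊔ Qx))
        ⟨u, Subgroup.mem_sup_left hu⟩ =
      QuotientGroup.mk' ((cen Qx z ⊔ cen Qz x).subgroupOf (Qz ⊔ Qx))
        ⟨q, Subgroup.mem_sup_left hq⟩) := by
  rcases h.Qz_cases hq hqx hu with h1 | h1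
  · left
    rw [QuotientGroup.mk'_apply, QuotientGroup.eq_one_iff, Subgroup.mem_subgroupOf]
    exact Subgroup.mem_sup_right h1
  · right
    symm
    rw [QuotientGroup.mk'_apply, QuotientGroup.mk'_apply, QuotientGroup.eq,
      Subgroup.mem_subgroupOf]
    exact Subgroup.mem_sup_right h1

theorem mk_Qx {q' u : G} (hq' : q' ∈ Qx) (hq'z : q' * z * q'⁻¹ = z * x) (hu : u ∈ Qx) :
    (QuotientGroup.mk' ((cen Qx z ⊔ cen Qz x).subgroupOf (Qz ⊔ Qx))
        ⟨u, Subgroup.mem_sup_right hu⟩ = 1) ∨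
    (QuotientGroup.mk' ((cen Qx z ⊔ cen Qz x).subgroupOf (Qz ⊔ Qx))
        ⟨u, Subgroup.mem_sup_right hu⟩ =
      QuotientGroup.mk' ((cen Qx z ⊔ cen Qz x).subgroupOf (Qz ⊔ Qx))
        ⟨q', Subgroup.mem_sup_right hq'⟩) := by
  have hq'z' : q' * z * q'⁻¹ = x * z := by rw [hq'z, h.comm]
  rcases h.symm.Qz_cases hq' hq'z' hu with h1 | h1
  · left
    rw [QuotientGroup.mk'_apply, QuotientGroup.eq_one_iff, Subgroup.mem_subgroupOf]
    exact Subgroup.mem_sup_left h1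
  · right
    symm
    rw [QuotientGroup.mk'_apply, QuotientGroup.mk'_apply, QuotientGroup.eq,
      Subgroup.mem_subgroupOf]
    exact Subgroup.mem_sup_left h1


theorem mk_eq_one_iff {u : G} (hu : u ∈ Qz ⊔ Qx) :
    qmap Qz Qx z x ⟨u, hu⟩ = 1 ↔ u ∈ cen Qx z ⊔ cen Qz x := by
  rw [QuotientGroup.mk'_apply, QuotientGroup.eq_one_iff, Subgroup.mem_subgroupOf]

omit hn in
theorem z_mem_R : z ∈ cen Qx z ⊔ cen Qz x :=
  Subgroup.mem_sup_right (mem_cen.mpr ⟨h.ez.mem, h.comm⟩)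

omit hn in
theorem x_mem_R : x ∈ cen Qx z ⊔ cen Qz x :=
  Subgroup.mem_sup_left (mem_cen.mpr ⟨h.ex.mem, h.comm.symm⟩)

theorem mk_q_sq {q : G} (hq : q ∈ Qz) :
    qmap Qz Qx z x ⟨q, Subgroup.mem_sup_left hq⟩ * qmap Qz Qx z x ⟨q, Subgroup.mem_sup_left hq⟩ = 1 := by
  rw [← map_mul, h.mk_eq_one_iff]
  change q * q ∈ _
  rcases sq_mem h.ez hq with h1 | h1
  · rw [h1]; exact Subgroup.one_mem _
  · rw [h1]; exact h.z_mem_R

theorem mk_q'_sq {q' : G} (hq' : q' ∈ Qx) :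
    qmap Qz Qx z x ⟨q', Subgroup.mem_sup_right hq'⟩ * qmap Qz Qx z x ⟨q', Subgroup.mem_sup_right hq'⟩ = 1 := by
  rw [← map_mul, h.mk_eq_one_iff]
  change q' * q' ∈ _
  rcases sq_mem h.ex hq' with h1 | h1
  · rw [h1]; exact Subgroup.one_mem _
  · rw [h1]; exact h.x_mem_R

theorem mk_braid {q q' : G} (hq : q ∈ Qz) (hq' : q' ∈ Qx)
    (hqx : q * x * q⁻¹ = z * x) (hq'z : q' * z * q'⁻¹ = z * x) :
    qmap Qz Qx z x ⟨q', Subgroup.mem_sup_right hq'⟩ * qmap Qz Qx z x ⟨q, Subgroup.mem_sup_left hq⟩ *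
        (qmap Qz Qx z x ⟨q', Subgroup.mem_sup_right hq'⟩)⁻¹ =
      qmap Qz Qx z x ⟨q, Subgroup.mem_sup_left hq⟩ * qmap Qz Qx z x ⟨q', Subgroup.mem_sup_right hq'⟩ *
        (qmap Qz Qx z x ⟨q, Subgroup.mem_sup_left hq⟩)⁻¹ := by
  have hb := h.braid q hq q' hq' hqx hq'z
  have h1 : q' * q * q'⁻¹ ∈ Qz.map (MulAut.conj q').toMonoidHom := by
    rw [mem_map_conj]
    have : q'⁻¹ * (q' * q * q'⁻¹) * q' = q := by group
    rw [this]; exact hq
  rw [hb, mem_map_conj] at h1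
  set y := q⁻¹ * (q' * q * q'⁻¹) * q with hy
  have hyq : q' * q * q'⁻¹ = q * y * q⁻¹ := by rw [hy]; group
  rcases h.mk_Qx hq' hq'z h1 with h2 | h2
  · exfalso
    rw [h.mk_eq_one_iff] at h2
    have h3 : q * y * q⁻¹ ∈ cen Qx z ⊔ cen Qz x := h.X_conj_R (Subgroup.mem_sup_left hq) h2
    rw [← hyq] at h3
    have h4 := h.X_conj_R (Subgroup.mem_sup_right (Qx.inv_mem hq')) h3
    have e : q'⁻¹ * (q' * q * q'⁻¹) * q'⁻¹⁻¹ = q := by group
    rw [e] at h4
    exact h.q_not_mem_R hqx h4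
  · have e1 : (⟨q', Subgroup.mem_sup_right hq'⟩ : ↥(Qz ⊔ Qx)) * ⟨q, Subgroup.mem_sup_left hq⟩ *
        (⟨q', Subgroup.mem_sup_right hq'⟩ : ↥(Qz ⊔ Qx))⁻¹ =
        ⟨q, Subgroup.mem_sup_left hq⟩ * ⟨y, Subgroup.mem_sup_right h1⟩ *
        (⟨q, Subgroup.mem_sup_left hq⟩ : ↥(Qz ⊔ Qx))⁻¹ := by
      apply Subtype.ext
      exact hyq
    have e2 := congrArg (qmap Qz Qx z x) e1
    rw [map_mul, map_mul, map_inv, map_mul, map_mul, map_inv, h2] at e2
    exact e2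

theorem mk_qq'_ne_one {q q' : G} (hq : q ∈ Qz) (hq' : q' ∈ Qx)
    (hqx : q * x * q⁻¹ = z * x) (hq'z : q' * z * q'⁻¹ = z * x) :
    qmap Qz Qx z x ⟨q, Subgroup.mem_sup_left hq⟩ * qmap Qz Qx z x ⟨q', Subgroup.mem_sup_right hq'⟩ ≠ 1 := by
  intro e
  rw [← map_mul, h.mk_eq_one_iff] at e
  exact h.qq'_pow_not_comm hq hqx hq'z (h.R_comm_z e)

theorem exists_iso {q q' : G} (hq : q ∈ Qz) (hq' : q' ∈ Qx)
    (hqx : q * x * q⁻¹ = z * x) (hq'z : q' * z * q'⁻¹ = z * x) :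
    ∃ e : (↥(Qz ⊔ Qx) ⧸ (cen Qx z ⊔ cen Qz x).subgroupOf (Qz ⊔ Qx)) ≃* Equiv.Perm (Fin 3),
      (qmap Qz Qx z x ⟨q, Subgroup.mem_sup_left hq⟩ *
        qmap Qz Qx z x ⟨q', Subgroup.mem_sup_right hq'⟩) ^ 3 = 1 := by
  set a := qmap Qz Qx z x ⟨q, Subgroup.mem_sup_left hq⟩ with ha_def
  set b := qmap Qz Qx z x ⟨q', Subgroup.mem_sup_right hq'⟩ with hb_def
  have ha : a * a = 1 := h.mk_q_sq hq
  have hb : b * b = 1 := h.mk_q'_sq hq'
  have hbr : b * a * b⁻¹ = a * b * a⁻¹ := h.mk_braid hq hq' hqx hq'z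
  have hne : a * b ≠ 1 := h.mk_qq'_ne_one hq hq' hqx hq'z
  have hainv : a⁻¹ = a := inv_eq_of_mul_eq_one_right ha
  have hbinv : b⁻¹ = b := inv_eq_of_mul_eq_one_right hb
  rw [hainv, hbinv] at hbr
  have hy3 : (a * b) ^ 3 = 1 := by
    calc (a * b) ^ 3 = a * (b * a * b) * a * b := by
          rw [pow_succ, pow_two]; group
      _ = a * (a * b * a) * a * b := by rw [hbr]
      _ = (a * a) * b * (a * a) * b := by group
      _ = 1 := by rw [ha, one_mul, mul_one, hb]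
  have hinv : a * (a * b) * a⁻¹ = (a * b)⁻¹ := by
    rw [mul_inv_rev, hainv, hbinv, ← mul_assoc, ha, one_mul]
  let φ := Cfsg.Agent.Helper14.SThree.embHom ha hy3 hinv
  have hinj : Function.Injective φ :=
    Cfsg.Agent.Helper14.SThree.embHom_injective ha hy3 hinv hne
  have haφ : a ∈ φ.range := by
    refine ⟨Equiv.swap 1 2, ?_⟩
    change Cfsg.Agent.Helper14.SThree.emb a (a * b) (Equiv.swap 1 2) = a
    unfold Cfsg.Agent.Helper14.SThree.emb
    rw [show ((Equiv.swap (1 : Fin 3) 2) 0 : Fin 3) = 0 from by decide,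
      show ((Equiv.swap (1 : Fin 3) 2) 1 : Fin 3) = 2 from by decide]
    simp
  have hyφ : a * b ∈ φ.range := by
    refine ⟨finRotate 3, ?_⟩
    change Cfsg.Agent.Helper14.SThree.emb a (a * b) (finRotate 3) = a * b
    unfold Cfsg.Agent.Helper14.SThree.emb
    rw [show ((finRotate 3) 0 : Fin 3) = 1 from by decide,
      show ((finRotate 3) 1 : Fin 3) = 2 from by decide]
    simp
  have hbφ : b ∈ φ.range := by
    have : b = a * (a * b) := by rw [← mul_assoc, ha, one_mul]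
    rw [this]
    exact φ.range.mul_mem haφ hyφ
  have hsurj : Function.Surjective φ := by
    rw [← MonoidHom.range_eq_top]
    let T : Subgroup G := (φ.range.comap (qmap Qz Qx z x)).map (Subgroup.subtype _)
    have hT : ∀ u, u ∈ T ↔ ∃ hu : u ∈ Qz ⊔ Qx, qmap Qz Qx z x ⟨u, hu⟩ ∈ φ.range := by
      intro u
      constructor
      · rintro ⟨v, hv, rfl⟩
        exact ⟨v.2, hv⟩
      · rintro ⟨hu, hv⟩
        exact ⟨⟨u, hu⟩, hv, rfl⟩
    have hXT : Qz ⊔ Qx ≤ T := by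
      apply sup_le
      · intro u hu
        rw [hT]
        refine ⟨Subgroup.mem_sup_left hu, ?_⟩
        rcases h.mk_Qz hq hqx hu with h1 | h1
        · rw [h1]; exact φ.range.one_mem
        · rw [h1]; exact haφ
      · intro u hu
        rw [hT]
        refine ⟨Subgroup.mem_sup_right hu, ?_⟩
        rcases h.mk_Qx hq' hq'z hu with h1 | h1
        · rw [h1]; exact φ.range.one_mem
        · rw [h1]; exact hbφ
    rw [eq_top_iff]
    intro t _
    obtain ⟨v, rfl⟩ := QuotientGroup.mk'_surjective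
      ((cen Qx z ⊔ cen Qz x).subgroupOf (Qz ⊔ Qx)) t
    obtain ⟨hu, hv⟩ := (hT v).mp (hXT v.2)
    exact hv
  exact ⟨(MulEquiv.ofBijective φ ⟨hinj, hsurj⟩).symm, hy3⟩

/-- a subgroup between `R` and `X`, normal in `X`, and missing `q q'`, equals `R`. -/
theorem le_R_of_normal {q q' : G} (hq : q ∈ Qz) (hq' : q' ∈ Qx)
    (hqx : q * x * q⁻¹ = z * x) (hq'z : q' * z * q'⁻¹ = z * x)
    (P : Subgroup G) (hRP : cen Qx z ⊔ cen Qz x ≤ P) (hPX : P ≤ Qz ⊔ Qx)
    (hnorm : Qz ⊔ Qx ≤ Subgroup.normalizer (P : Set G)) (hqq' : q * q' ∉ P) :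
    P ≤ cen Qx z ⊔ cen Qz x := by
  obtain ⟨e, hy3⟩ := h.exists_iso hq hq' hqx hq'z
  have hPn : (P.subgroupOf (Qz ⊔ Qx)).Normal := by
    constructor
    intro n hn u
    rw [Subgroup.mem_subgroupOf] at hn ⊢
    exact (Subgroup.mem_normalizer_iff.mp (hnorm u.2) n).mp hn
  have hN'n : ((P.subgroupOf (Qz ⊔ Qx)).map (qmap Qz Qx z x)).Normal :=
    Subgroup.Normal.map hPn _ (QuotientGroup.mk'_surjective _)
  by_contra hcon
  have hne : (P.subgroupOf (Qz ⊔ Qx)).map (qmap Qz Qx z x) ≠ ⊥ := by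
    intro h0
    apply hcon
    intro p hp
    have h1 : qmap Qz Qx z x ⟨p, hPX hp⟩ ∈ (P.subgroupOf (Qz ⊔ Qx)).map (qmap Qz Qx z x) :=
      ⟨⟨p, hPX hp⟩, by rw [SetLike.mem_coe, Subgroup.mem_subgroupOf]; exact hp, rfl⟩
    rw [h0, Subgroup.mem_bot, h.mk_eq_one_iff] at h1
    exact h1
  have h2 := mem_of_normal_of_cube e _ hne _ hy3
  obtain ⟨c, hc, hc2⟩ := h2
  rw [SetLike.mem_coe, Subgroup.mem_subgroupOf] at hc
  rw [← map_mul] at hc2
  have h3 : c⁻¹ * (⟨q, Subgroup.mem_sup_left hq⟩ * ⟨q', Subgroup.mem_sup_right hq'⟩) ∈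
      (cen Qx z ⊔ cen Qz x).subgroupOf (Qz ⊔ Qx) := by
    rw [← QuotientGroup.eq]
    exact hc2
  rw [Subgroup.mem_subgroupOf] at h3
  have h4 := hRP h3
  apply hqq'
  have h5 := P.mul_mem hc h4
  have e5 : (c : G) * ((c⁻¹ * (⟨q, Subgroup.mem_sup_left hq⟩ *
      ⟨q', Subgroup.mem_sup_right hq'⟩) : ↥(Qz ⊔ Qx)) : G) = q * q' := by
    simp
  rw [e5] at h5
  exact h5

theorem pow_two_not_mem {q q' : G} (hq : q ∈ Qz) (hq' : q' ∈ Qx)
    (hqx : q * x * q⁻¹ = z * x) (hq'z : q' * z * q'⁻¹ = z * x) (k : ℕ) :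
    (q * q') ^ 2 ^ k ∉ cen Qx z ⊔ cen Qz x := by
  obtain ⟨e, hy3⟩ := h.exists_iso hq hq' hqx hq'z
  intro hmem
  have hX : (q * q') ^ 2 ^ k ∈ Qz ⊔ Qx :=
    Subgroup.pow_mem _ (Subgroup.mul_mem _ (Subgroup.mem_sup_left hq)
      (Subgroup.mem_sup_right hq')) _
  have h1 := (h.mk_eq_one_iff hX).mpr hmem
  have h2 : (⟨(q * q') ^ 2 ^ k, hX⟩ : ↥(Qz ⊔ Qx)) =
      (⟨q, Subgroup.mem_sup_left hq⟩ * ⟨q', Subgroup.mem_sup_right hq'⟩) ^ 2 ^ k := by
    apply Subtype.ext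
    simp
  rw [h2, map_pow, map_mul] at h1
  have h3 := eq_one_of_pow_eq_one_of_coprime h1 hy3 (by
    apply Nat.Coprime.pow_left
    norm_num)
  exact h.mk_qq'_ne_one hq hq' hqx hq'z h3

end Quot

/-- membership in the four-group `⟨z, x⟩` -/
def InV (z x v : G) : Prop := v = 1 ∨ v = z ∨ v = x ∨ v = z * x

theorem inV_symm (h : Pair Qz Qx z x) {v : G} : InV x z v ↔ InV z x v := by
  unfold InV
  rw [h.comm]
  tauto

theorem mem_V_iff (h : Pair Qz Qx z x) {v : G} :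
    v ∈ Subgroup.closure ({z, x} : Set G) ↔ InV z x v := by
  unfold InV
  rw [← mem_fourGroup (hz2 := h.ez.sq) (hx2 := h.ex.sq) (hzx := h.comm)]
  constructor
  · intro hv
    have hle : Subgroup.closure ({z, x} : Set G) ≤ fourGroup z x h.ez.sq h.ex.sq h.comm := by
      rw [Subgroup.closure_le]
      intro a ha
      rw [SetLike.mem_coe, mem_fourGroup]
      rcases ha with rfl | ha
      · right; left; rfl
      · rw [Set.mem_singleton_iff] at ha
        right; right; left; exact ha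
    exact hle hv
  · intro hv
    rw [mem_fourGroup] at hv
    have hz : z ∈ Subgroup.closure ({z, x} : Set G) :=
      Subgroup.subset_closure (Set.mem_insert _ _)
    have hx : x ∈ Subgroup.closure ({z, x} : Set G) :=
      Subgroup.subset_closure (Set.mem_insert_of_mem _ rfl)
    rcases hv with rfl | rfl | rfl | rfl
    · exact Subgroup.one_mem _
    · exact hz
    · exact hx
    · exact Subgroup.mul_mem _ hz hx

theorem Qz_conj_InV (h : Pair Qz Qx z x) {u v : G} (hu : u ∈ Qz) (hv : InV z x v) :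
    InV z x (u * v * u⁻¹) := by
  have hz : u * z * u⁻¹ = z := h.ez.conj_z hu
  have hx := h.ez.conj_eq hu h.xQ
  unfold InV at hv ⊢
  rcases hv with rfl | rfl | rfl | rfl
  · left; group
  · right; left; exact hz
  · rcases hx with hx | hx
    · right; right; left; exact hx
    · right; right; right; exact hx
  · have e : u * (z * x) * u⁻¹ = (u * z * u⁻¹) * (u * x * u⁻¹) := by group
    rcases hx with hx | hx
    · right; right; right
      rw [e, hz, hx]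
    · right; right; left
      rw [e, hz, hx, ← mul_assoc, h.ez.sq, one_mul]

theorem Qx_conj_InV (h : Pair Qz Qx z x) {u v : G} (hu : u ∈ Qx) (hv : InV z x v) :
    InV z x (u * v * u⁻¹) :=
  h.inV_symm.mp (h.symm.Qz_conj_InV hu (h.inV_symm.mpr hv))

/-- the subgroup of elements normalizing the four-group -/
def normV (h : Pair Qz Qx z x) : Subgroup G where
  carrier := {u | ∀ v, InV z x v → InV z x (u * v * u⁻¹) ∧ InV z x (u⁻¹ * v * u)}
  one_mem' := by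
    intro v hv
    simpa using hv
  mul_mem' := by
    intro a b ha hb v hv
    constructor
    · have := (ha _ (hb v hv).1).1
      have e : a * b * v * (a * b)⁻¹ = a * (b * v * b⁻¹) * a⁻¹ := by group
      rw [e]; exact this
    · have := (hb _ (ha v hv).2).2
      have e : (a * b)⁻¹ * v * (a * b) = b⁻¹ * (a⁻¹ * v * a) * b := by group
      rw [e]; exact this
  inv_mem' := by
    intro a ha v hv
    constructor
    · have := (ha v hv).2
      simpa using this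
    · have := (ha v hv).1
      simpa using this

theorem X_le_normV (h : Pair Qz Qx z x) : Qz ⊔ Qx ≤ h.normV := by
  apply sup_le
  · intro u hu v hv
    refine ⟨h.Qz_conj_InV hu hv, ?_⟩
    have := h.Qz_conj_InV (Qz.inv_mem hu) hv
    simpa using this
  · intro u hu v hv
    refine ⟨h.Qx_conj_InV hu hv, ?_⟩
    have := h.Qx_conj_InV (Qx.inv_mem hu) hv
    simpa using this

theorem X_conj_InV (h : Pair Qz Qx z x) {u v : G} (hu : u ∈ Qz ⊔ Qx) (hv : InV z x v) :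
    InV z x (u * v * u⁻¹) := (h.X_le_normV hu v hv).1

/-- an element commuting with `z` and `x` commutes with the four-group -/
theorem comm_InV {c v : G} (hcz : c * z = z * c) (hcx : c * x = x * c) (hv : InV z x v) :
    c * v = v * c := by
  unfold InV at hv
  rcases hv with rfl | rfl | rfl | rfl
  · simp
  · exact hcz
  · exact hcx
  · calc c * (z * x) = (c * z) * x := by group
      _ = (z * c) * x := by rw [hcz]
      _ = z * (c * x) := by group
      _ = z * (x * c) := by rw [hcx]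
      _ = z * x * c := by group

theorem isPGroup_R (h : Pair Qz Qx z x) : IsPGroup 2 (cen Qx z ⊔ cen Qz x : Subgroup G) := by
  apply IsPGroup.to_sup_of_normal_right' ((isPGroup_two h.ex).to_le inf_le_left)
    ((isPGroup_two h.ez).to_le inf_le_left)
  intro b hb
  rw [Subgroup.mem_normalizer_iff]
  intro a
  constructor
  · intro ha
    exact h.conj_cen ha hb
  · intro ha
    have := h.conj_cen ha (Subgroup.inv_mem _ hb)
    have e : b⁻¹ * (b * a * b⁻¹) * b⁻¹⁻¹ = a := by group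
    rw [e] at this
    exact this

/-- `C_X(V) = R`. -/
theorem X_inf_cent (h : Pair Qz Qx z x) :
    (Qz ⊔ Qx) ⊓ (Subgroup.centralizer ({z} : Set G) ⊓ Subgroup.centralizer ({x} : Set G)) =
      cen Qx z ⊔ cen Qz x := by
  haveI := h.R_normal
  obtain ⟨q, hq, hqx⟩ := h.exists_q
  obtain ⟨q', hq', hq'z⟩ := h.exists_q'
  apply le_antisymm
  · apply h.le_R_of_normal hq hq' hqx hq'z
    · apply le_inf h.R_le_X
      intro r hr
      exact Subgroup.mem_inf.mpr ⟨Subgroup.mem_centralizer_singleton_iff.mpr (h.R_comm_z hr),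
        Subgroup.mem_centralizer_singleton_iff.mpr (h.R_comm_x hr)⟩
    · exact inf_le_left
    · intro u hu
      have key : ∀ w ∈ Qz ⊔ Qx, ∀ p ∈ (Qz ⊔ Qx) ⊓ (Subgroup.centralizer ({z} : Set G) ⊓
          Subgroup.centralizer ({x} : Set G)), w * p * w⁻¹ ∈ (Qz ⊔ Qx) ⊓
          (Subgroup.centralizer ({z} : Set G) ⊓ Subgroup.centralizer ({x} : Set G)) := by
        intro w hw p hp
        obtain ⟨hp1, hp23⟩ := Subgroup.mem_inf.mp hp
        obtain ⟨hp2, hp3⟩ := Subgroup.mem_inf.mp hp23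
        rw [Subgroup.mem_centralizer_singleton_iff] at hp2 hp3
        have hcomm : ∀ v, InV z x v → (w * p * w⁻¹) * v = v * (w * p * w⁻¹) := by
          intro v hv
          have h1 := (h.X_le_normV hw v hv).2
          have h2 := comm_InV hp2 hp3 h1
          calc w * p * w⁻¹ * v = w * (p * (w⁻¹ * v * w)) * w⁻¹ := by group
            _ = w * ((w⁻¹ * v * w) * p) * w⁻¹ := by rw [h2]
            _ = v * (w * p * w⁻¹) := by group
        refine Subgroup.mem_inf.mpr ⟨Subgroup.mul_mem _ (Subgroup.mul_mem _ hw hp1)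
          (Subgroup.inv_mem _ hw), Subgroup.mem_inf.mpr ⟨?_, ?_⟩⟩
        · rw [Subgroup.mem_centralizer_singleton_iff]
          exact hcomm z (Or.inr (Or.inl rfl))
        · rw [Subgroup.mem_centralizer_singleton_iff]
          exact hcomm x (Or.inr (Or.inr (Or.inl rfl)))
      rw [Subgroup.mem_normalizer_iff]
      intro p
      constructor
      · exact key u hu p
      · intro hp
        have := key u⁻¹ (Subgroup.inv_mem _ hu) _ hp
        have e : u⁻¹ * (u * p * u⁻¹) * u⁻¹⁻¹ = p := by group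
        rw [e] at this
        exact this
    · intro hmem
      have := (Subgroup.mem_inf.mp (Subgroup.mem_inf.mp hmem).2).1
      rw [Subgroup.mem_centralizer_singleton_iff] at this
      exact h.qq'_pow_not_comm hq hqx hq'z this
  · apply le_inf h.R_le_X
    intro r hr
    exact Subgroup.mem_inf.mpr ⟨Subgroup.mem_centralizer_singleton_iff.mpr (h.R_comm_z hr),
      Subgroup.mem_centralizer_singleton_iff.mpr (h.R_comm_x hr)⟩

/-- `R = O_2(X)`. -/
theorem R_eq_pCoreOf (h : Pair Qz Qx z x) :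
    cen Qx z ⊔ cen Qz x = pCoreOf 2 (Qz ⊔ Qx) := by
  haveI := h.R_normal
  obtain ⟨q, hq, hqx⟩ := h.exists_q
  obtain ⟨q', hq', hq'z⟩ := h.exists_q'
  apply le_antisymm
  · exact le_pCoreOf h.R_le_X h.X_le_normalizer_R h.isPGroup_R
  · apply h.le_R_of_normal hq hq' hqx hq'z
    · exact le_pCoreOf h.R_le_X h.X_le_normalizer_R h.isPGroup_R
    · exact pCoreOf_le _ _
    · exact le_normalizer_pCoreOf _ _
    · intro hmem
      obtain ⟨k, hk⟩ := pCoreOf_isPGroup 2 (Qz ⊔ Qx) ⟨q * q', hmem⟩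
      have hk' : (q * q') ^ 2 ^ k = 1 := by
        have := congrArg Subtype.val hk
        rwa [Subgroup.coe_pow, Subgroup.coe_one] at this
      apply h.pow_two_not_mem hq hq' hqx hq'z k
      rw [hk']
      exact Subgroup.one_mem _

theorem exists_iso' (h : Pair Qz Qx z x) :
    ∃ _ : ((cen Qx z ⊔ cen Qz x).subgroupOf (Qz ⊔ Qx)).Normal,
      Nonempty ((↥(Qz ⊔ Qx) ⧸ (cen Qx z ⊔ cen Qz x).subgroupOf (Qz ⊔ Qx)) ≃*
        Equiv.Perm (Fin 3)) := by
  haveI := h.R_normal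
  obtain ⟨q, hq, hqx⟩ := h.exists_q
  obtain ⟨q', hq', hq'z⟩ := h.exists_q'
  obtain ⟨e, _⟩ := h.exists_iso hq hq' hqx hq'z
  exact ⟨h.R_normal, ⟨e⟩⟩

/-- `N_G(V) = X C_G(V)`. -/
theorem normalizer_decomp (h : Pair Qz Qx z x) {y : G}
    (hy : ∀ v, InV z x v → InV z x (y * v * y⁻¹)) :
    ∃ u ∈ Qz ⊔ Qx, ∃ c, c * z = z * c ∧ c * x = x * c ∧ y = u * c := by
  obtain ⟨q, hq, hqx⟩ := h.exists_q
  obtain ⟨q', hq', hq'z⟩ := h.exists_q'
  have hqX : q ∈ Qz ⊔ Qx := Subgroup.mem_sup_left hq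
  have hq'X : q' ∈ Qz ⊔ Qx := Subgroup.mem_sup_right hq'
  have hp := h.qq'_z hq hqx hq'z
  have hz_in : InV z x z := Or.inr (Or.inl rfl)
  have hx_in : InV z x x := Or.inr (Or.inr (Or.inl rfl))
  -- step 1
  have step1 : ∃ u1 ∈ Qz ⊔ Qx, u1 * (y * z * y⁻¹) * u1⁻¹ = z := by
    rcases hy z hz_in with e | e | e | e
    · exfalso
      apply h.z_ne_one
      calc z = y⁻¹ * (y * z * y⁻¹) * y := by group
        _ = 1 := by rw [e]; group
    · exact ⟨1, Subgroup.one_mem _, by rw [e]; group⟩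
    · refine ⟨(q * q')⁻¹, Subgroup.inv_mem _ (Subgroup.mul_mem _ hqX hq'X), ?_⟩
      rw [e, ← hp]; group
    · refine ⟨q'⁻¹, Subgroup.inv_mem _ hq'X, ?_⟩
      rw [e, ← hq'z]; group
  obtain ⟨u1, hu1, e1⟩ := step1
  have hy1z : (u1 * y) * z * (u1 * y)⁻¹ = z := by
    calc (u1 * y) * z * (u1 * y)⁻¹ = u1 * (y * z * y⁻¹) * u1⁻¹ := by group
      _ = z := e1
  have hy1 : ∀ v, InV z x v → InV z x ((u1 * y) * v * (u1 * y)⁻¹) := by
    intro v hv
    have := h.X_conj_InV hu1 (hy v hv)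
    have e : u1 * y * v * (u1 * y)⁻¹ = u1 * (y * v * y⁻¹) * u1⁻¹ := by group
    rw [e]; exact this
  have comm_of_conj : ∀ c w : G, c * w * c⁻¹ = w → c * w = w * c := by
    intro c w e
    calc c * w = (c * w * c⁻¹) * c := by group
      _ = w * c := by rw [e]
  rcases hy1 x hx_in with e | e | e | e
  · exfalso
    apply h.ex.ne_one
    calc x = (u1 * y)⁻¹ * ((u1 * y) * x * (u1 * y)⁻¹) * (u1 * y) := by group
      _ = 1 := by rw [e]; group
  · exfalso
    apply h.ne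
    calc x = (u1 * y)⁻¹ * ((u1 * y) * x * (u1 * y)⁻¹) * (u1 * y) := by group
      _ = (u1 * y)⁻¹ * ((u1 * y) * z * (u1 * y)⁻¹) * (u1 * y) := by rw [e, hy1z]
      _ = z := by group
  · refine ⟨u1⁻¹, Subgroup.inv_mem _ hu1, u1 * y, comm_of_conj _ _ hy1z, comm_of_conj _ _ e,
      by group⟩
  · refine ⟨u1⁻¹ * q, Subgroup.mul_mem _ (Subgroup.inv_mem _ hu1) hqX, q⁻¹ * (u1 * y), ?_, ?_,
      by group⟩
    · apply comm_of_conj
      have hqz : q⁻¹ * z * q = z := by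
        have := h.ez.conj_z (Qz.inv_mem hq)
        simpa using this
      calc q⁻¹ * (u1 * y) * z * (q⁻¹ * (u1 * y))⁻¹
          = q⁻¹ * ((u1 * y) * z * (u1 * y)⁻¹) * q := by group
        _ = z := by rw [hy1z, hqz]
    · apply comm_of_conj
      calc q⁻¹ * (u1 * y) * x * (q⁻¹ * (u1 * y))⁻¹
          = q⁻¹ * ((u1 * y) * x * (u1 * y)⁻¹) * q := by group
        _ = q⁻¹ * (q * x * q⁻¹) * q := by rw [e, hqx]
        _ = x := by group

/-- `C_G(V)` normalizes `X`. -/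
theorem cent_conj_X (h : Pair Qz Qx z x) {c u : G} (hcz : c * z = z * c) (hcx : c * x = x * c)
    (hu : u ∈ Qz ⊔ Qx) : c * u * c⁻¹ ∈ Qz ⊔ Qx := by
  have hle : Qz ⊔ Qx ≤ (Qz ⊔ Qx).comap (MulAut.conj c).toMonoidHom := by
    apply sup_le
    · intro w hw
      rw [Subgroup.mem_comap]
      exact Subgroup.mem_sup_left (h.conj_mem_Qz hcz hw)
    · intro w hw
      rw [Subgroup.mem_comap]
      exact Subgroup.mem_sup_right (h.conj_mem_Qx hcx hw)
  have := hle hu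
  rw [Subgroup.mem_comap] at this
  exact this

/-- `[X, C_G(V)] ≤ R`. -/
theorem comm_X_cent (h : Pair Qz Qx z x) {c u : G} (hcz : c * z = z * c) (hcx : c * x = x * c)
    (hu : u ∈ Qz ⊔ Qx) : u * c * u⁻¹ * c⁻¹ ∈ cen Qx z ⊔ cen Qz x := by
  let K : Subgroup G :=
    { carrier := {u | u ∈ Qz ⊔ Qx ∧ u * c * u⁻¹ * c⁻¹ ∈ cen Qx z ⊔ cen Qz x}
      one_mem' := ⟨Subgroup.one_mem _, by simp⟩
      mul_mem' := by
        rintro a b ⟨ha1, ha2⟩ ⟨hb1, hb2⟩
        refine ⟨Subgroup.mul_mem _ ha1 hb1, ?_⟩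
        have e : a * b * c * (a * b)⁻¹ * c⁻¹ =
            (a * (b * c * b⁻¹ * c⁻¹) * a⁻¹) * (a * c * a⁻¹ * c⁻¹) := by group
        rw [e]
        exact Subgroup.mul_mem _ (h.X_conj_R ha1 hb2) ha2
      inv_mem' := by
        rintro a ⟨ha1, ha2⟩
        refine ⟨Subgroup.inv_mem _ ha1, ?_⟩
        have e : a⁻¹ * c * a⁻¹⁻¹ * c⁻¹ = a⁻¹ * (a * c * a⁻¹ * c⁻¹)⁻¹ * a⁻¹⁻¹ := by group
        rw [e]
        exact h.X_conj_R (Subgroup.inv_mem _ ha1) (Subgroup.inv_mem _ ha2) }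
  have hle : Qz ⊔ Qx ≤ K := by
    apply sup_le
    · intro w hw
      exact ⟨Subgroup.mem_sup_left hw, Subgroup.mem_sup_right (h.comm_mem_cen' hw hcz hcx)⟩
    · intro w hw
      exact ⟨Subgroup.mem_sup_right hw, Subgroup.mem_sup_left (h.symm.comm_mem_cen' hw hcx hcz)⟩
  exact (hle hu).2

/-! ### The structure of `R` -/

theorem inf_cen_eq (h : Pair Qz Qx z x) : cen Qx z ⊓ cen Qz x = Qz ⊓ Qx := by
  ext e
  constructor
  · intro he
    obtain ⟨h1, h2⟩ := Subgroup.mem_inf.mp he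
    exact Subgroup.mem_inf.mpr ⟨(mem_cen.mp h2).1, (mem_cen.mp h1).1⟩
  · intro he
    obtain ⟨h1, h2⟩ := Subgroup.mem_inf.mp he
    exact Subgroup.mem_inf.mpr ⟨mem_cen.mpr ⟨h2, h.Qz_comm_z h1⟩, mem_cen.mpr ⟨h1, h.Qx_comm_x h2⟩⟩

theorem E_le_cenz (h : Pair Qz Qx z x) : Qz ⊓ Qx ≤ cen Qz x := by
  rw [← h.inf_cen_eq]; exact inf_le_right

theorem E_le_cenx (h : Pair Qz Qx z x) : Qz ⊓ Qx ≤ cen Qx z := by
  rw [← h.inf_cen_eq]; exact inf_le_left

theorem E_le_R (h : Pair Qz Qx z x) : Qz ⊓ Qx ≤ cen Qx z ⊔ cen Qz x :=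
  h.E_le_cenz.trans le_sup_right

/-- `E` has trivial commutators -/
theorem E_comm (h : Pair Qz Qx z x) {a b : G} (ha : a ∈ Qz ⊓ Qx) (hb : b ∈ Qz ⊓ Qx) :
    a * b = b * a := by
  obtain ⟨ha1, ha2⟩ := Subgroup.mem_inf.mp ha
  obtain ⟨hb1, hb2⟩ := Subgroup.mem_inf.mp hb
  have h1 := h.ez.comm a ha1 b hb1
  have h2 := h.ex.comm a ha2 b hb2
  have h3 : a * b * a⁻¹ * b⁻¹ = 1 := by
    rcases h1 with h1 | h1
    · exact h1
    · rcases h2 with h2 | h2
      · exact h2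
      · exfalso
        exact h.ne (h2.symm.trans h1)
  calc a * b = (a * b * a⁻¹ * b⁻¹) * (b * a) := by group
    _ = b * a := by rw [h3, one_mul]

theorem E_sq (h : Pair Qz Qx z x) {a : G} (ha : a ∈ Qz ⊓ Qx) : a * a = 1 := by
  obtain ⟨ha1, ha2⟩ := Subgroup.mem_inf.mp ha
  rcases sq_mem h.ez ha1 with h1 | h1
  · exact h1
  · rcases sq_mem h.ex ha2 with h2 | h2
    · exact h2
    · exfalso
      exact h.ne (h2.symm.trans h1)

theorem E_elemAb (h : Pair Qz Qx z x) : Cfsg.IsElementaryAbelian 2 (Qz ⊓ Qx) := by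
  refine ⟨⟨⟨fun a b => Subtype.ext (h.E_comm a.2 b.2)⟩⟩, ?_⟩
  intro a ha
  rw [pow_two]
  exact h.E_sq ha

/-- elements centralizing `z` and `x` normalize `E` -/
theorem cent_conj_E (h : Pair Qz Qx z x) {c e : G}
    (hc : c ∈ Subgroup.centralizer ({z} : Set G) ⊓ Subgroup.centralizer ({x} : Set G))
    (he : e ∈ Qz ⊓ Qx) : c * e * c⁻¹ ∈ Qz ⊓ Qx := by
  obtain ⟨hc1, hc2⟩ := Subgroup.mem_inf.mp hc
  rw [Subgroup.mem_centralizer_singleton_iff] at hc1 hc2
  obtain ⟨he1, he2⟩ := Subgroup.mem_inf.mp he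
  exact Subgroup.mem_inf.mpr ⟨h.conj_mem_Qz hc1 he1, h.conj_mem_Qx hc2 he2⟩

theorem R_le_CV (h : Pair Qz Qx z x) : cen Qx z ⊔ cen Qz x ≤
    Subgroup.centralizer ({z} : Set G) ⊓ Subgroup.centralizer ({x} : Set G) := by
  intro r hr
  exact Subgroup.mem_inf.mpr ⟨Subgroup.mem_centralizer_singleton_iff.mpr (h.R_comm_z hr),
    Subgroup.mem_centralizer_singleton_iff.mpr (h.R_comm_x hr)⟩

theorem z_mem_E (h : Pair Qz Qx z x) : z ∈ Qz ⊓ Qx := Subgroup.mem_inf.mpr ⟨h.ez.mem, h.zQ⟩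

theorem x_mem_E (h : Pair Qz Qx z x) : x ∈ Qz ⊓ Qx := Subgroup.mem_inf.mpr ⟨h.xQ, h.ex.mem⟩

/-- `[R, C_{Q_z}(x)] ≤ E` -/
theorem comm_R_cenz (h : Pair Qz Qx z x) :
    ∀ r ∈ cen Qx z ⊔ cen Qz x, ∀ a ∈ cen Qz x, r * a * r⁻¹ * a⁻¹ ∈ Qz ⊓ Qx := by
  apply comm_mem_of_gens (N := Subgroup.centralizer ({z} : Set G) ⊓
    Subgroup.centralizer ({x} : Set G)) (fun n hn e he => h.cent_conj_E hn he)
    (le_sup_left.trans h.R_le_CV) (le_sup_right.trans h.R_le_CV)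
  · intro b hb a ha
    have h1 := h.comm_mem_E ha hb
    have e : b * a * b⁻¹ * a⁻¹ = (a * b * a⁻¹ * b⁻¹)⁻¹ := by group
    rw [e]
    exact Subgroup.inv_mem _ h1
  · intro a' ha' a ha
    rcases h.ez.comm a' (mem_cen.mp ha').1 a (mem_cen.mp ha).1 with h1 | h1
    · rw [h1]; exact Subgroup.one_mem _
    · rw [h1]; exact h.z_mem_E

theorem comm_R_cenx (h : Pair Qz Qx z x) :
    ∀ r ∈ cen Qx z ⊔ cen Qz x, ∀ b ∈ cen Qx z, r * b * r⁻¹ * b⁻¹ ∈ Qz ⊓ Qx := by
  intro r hr b hb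
  rw [← h.R_symm] at hr
  have := h.symm.comm_R_cenz r hr b hb
  rw [inf_comm] at this
  exact this

/-- `[R, R] ≤ E` -/
theorem comm_R_R (h : Pair Qz Qx z x) :
    ∀ r ∈ cen Qx z ⊔ cen Qz x, ∀ s ∈ cen Qx z ⊔ cen Qz x, r * s * r⁻¹ * s⁻¹ ∈ Qz ⊓ Qx := by
  apply comm_mem_of_gens (N := Subgroup.centralizer ({z} : Set G) ⊓
    Subgroup.centralizer ({x} : Set G)) (fun n hn e he => h.cent_conj_E hn he)
    (le_sup_left.trans h.R_le_CV) (le_sup_right.trans h.R_le_CV)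
  · intro b hb s hs
    have h1 := h.comm_R_cenx s hs b hb
    have e : b * s * b⁻¹ * s⁻¹ = (s * b * s⁻¹ * b⁻¹)⁻¹ := by group
    rw [e]
    exact Subgroup.inv_mem _ h1
  · intro a ha s hs
    have h1 := h.comm_R_cenz s hs a ha
    have e : a * s * a⁻¹ * s⁻¹ = (s * a * s⁻¹ * a⁻¹)⁻¹ := by group
    rw [e]
    exact Subgroup.inv_mem _ h1

/-- squares of `R` lie in `E` -/
theorem sq_R (h : Pair Qz Qx z x) {r : G} (hr : r ∈ cen Qx z ⊔ cen Qz x) :
    r ^ 2 ∈ Qz ⊓ Qx := by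
  obtain ⟨b, hb, a, ha, rfl⟩ := h.mem_R_iff.mp hr
  have h1 : b * b ∈ Qz ⊓ Qx := by
    rcases sq_mem h.ex (mem_cen.mp hb).1 with e | e
    · rw [e]; exact Subgroup.one_mem _
    · rw [e]; exact h.x_mem_E
  have h2 : a * a ∈ Qz ⊓ Qx := by
    rcases sq_mem h.ez (mem_cen.mp ha).1 with e | e
    · rw [e]; exact Subgroup.one_mem _
    · rw [e]; exact h.z_mem_E
  have h3 : b⁻¹ * a * b⁻¹⁻¹ * a⁻¹ ∈ Qz ⊓ Qx := by
    have := h.comm_mem_E ha (Subgroup.inv_mem _ hb)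
    have e : b⁻¹ * a * b⁻¹⁻¹ * a⁻¹ = (a * b⁻¹ * a⁻¹ * b⁻¹⁻¹)⁻¹ := by group
    rw [e]
    exact Subgroup.inv_mem _ this
  have e : (b * a) ^ 2 = (b * b) * (b⁻¹ * a * b⁻¹⁻¹ * a⁻¹) * (a * a) := by
    rw [pow_two]; group
  rw [e]
  exact Subgroup.mul_mem _ (Subgroup.mul_mem _ h1 h3) h2

/-- `[X, E] ≤ V` elementwise -/
theorem comm_X_E (h : Pair Qz Qx z x) :
    ∀ u ∈ Qz ⊔ Qx, ∀ e ∈ Qz ⊓ Qx, u * e * u⁻¹ * e⁻¹ ∈ Subgroup.closure ({z, x} : Set G) := by
  have hzV : z ∈ Subgroup.closure ({z, x} : Set G) := h.mem_V_iff.mpr (Or.inr (Or.inl rfl))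
  have hxV : x ∈ Subgroup.closure ({z, x} : Set G) :=
    h.mem_V_iff.mpr (Or.inr (Or.inr (Or.inl rfl)))
  apply comm_mem_of_gens (N := h.normV)
  · intro n hn e he
    rw [h.mem_V_iff] at he ⊢
    exact (hn e he).1
  · exact le_sup_left.trans h.X_le_normV
  · exact le_sup_right.trans h.X_le_normV
  · intro u hu e he
    rcases h.ez.comm u hu e (Subgroup.mem_inf.mp he).1 with h1 | h1
    · rw [h1]; exact Subgroup.one_mem _
    · rw [h1]; exact hzV
  · intro u hu e he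
    rcases h.ex.comm u hu e (Subgroup.mem_inf.mp he).2 with h1 | h1
    · rw [h1]; exact Subgroup.one_mem _
    · rw [h1]; exact hxV

/-- an element of `R` centralizing `R` lies in `V` -/
theorem center_R_le (h : Pair Qz Qx z x) {c : G} (hc : c ∈ cen Qx z ⊔ cen Qz x)
    (hcomm : ∀ r ∈ cen Qx z ⊔ cen Qz x, c * r = r * c) : InV z x c := by
  obtain ⟨q, hq, hqx⟩ := h.exists_q
  have hcz := h.R_comm_z hc
  apply h.ez.hyperplane_cent h.xQ h.ex.sq hq hqx (h.conj_mem_Qz hcz hq)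
  intro r hr hrx
  exact hcomm r (Subgroup.mem_sup_right (mem_cen.mpr ⟨hr, hrx⟩))

theorem V_le_R (h : Pair Qz Qx z x) {v : G} (hv : InV z x v) : v ∈ cen Qx z ⊔ cen Qz x := by
  apply h.E_le_R
  rcases hv with rfl | rfl | rfl | rfl
  · exact Subgroup.one_mem _
  · exact h.z_mem_E
  · exact h.x_mem_E
  · exact Subgroup.mul_mem _ h.z_mem_E h.x_mem_E

end Pair

theorem mem_cent_V_iff {z x c : G} :
    c ∈ Subgroup.centralizer ((Subgroup.closure ({z, x} : Set G) : Subgroup G) : Set G) ↔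
      c * z = z * c ∧ c * x = x * c := by
  rw [Subgroup.centralizer_closure, Subgroup.mem_centralizer_iff]
  constructor
  · intro hc
    exact ⟨(hc z (Set.mem_insert _ _)).symm, (hc x (Set.mem_insert_of_mem _ rfl)).symm⟩
  · rintro ⟨h1, h2⟩ v hv
    rcases hv with rfl | hv
    · exact h1.symm
    · rw [Set.mem_singleton_iff] at hv
      rw [hv]; exact h2.symm

theorem cent_V_eq {z x : G} :
    Subgroup.centralizer ((Subgroup.closure ({z, x} : Set G) : Subgroup G) : Set G) =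
      Subgroup.centralizer ({z} : Set G) ⊓ Subgroup.centralizer ({x} : Set G) := by
  ext c
  rw [mem_cent_V_iff, Subgroup.mem_inf, Subgroup.mem_centralizer_singleton_iff,
    Subgroup.mem_centralizer_singleton_iff]

/-- The pair attached to an extraspecial-like subgroup and a conjugate of its central
involution lying in it. -/
theorem mkPair' [Finite G] {Q : Subgroup G} {z : G} (hEz : ExtraLike Q z)
    (hNz : Subgroup.centralizer ({z} : Set G) ≤ Subgroup.normalizer (Q : Set G))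
    (g : G) (hgQ : g * z * g⁻¹ ∈ Q) (hxz : g * z * g⁻¹ ≠ z) :
    Pair Q (Q.map (MulAut.conj g).toMonoidHom) z (g * z * g⁻¹) := by
  have hpz : IsPGroup 2 ↥Q := isPGroup_two hEz
  refine ⟨hEz, hEz.conj g, hNz, normalizer_conj hNz g, hgQ, z_mem_conj hEz hpz hNz g hgQ hxz,
    hxz, ?_⟩
  intro q hq q' hq' hqx hq'z
  ext y
  rw [mem_map_conj, mem_map_conj, mem_map_conj]
  have hn : q'⁻¹ * q * g ∈ Subgroup.normalizer (Q : Set G) := by
    apply hNz
    rw [Subgroup.mem_centralizer_singleton_iff]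
    have e : (q'⁻¹ * q * g) * z * (q'⁻¹ * q * g)⁻¹ = z := by
      calc (q'⁻¹ * q * g) * z * (q'⁻¹ * q * g)⁻¹
          = q'⁻¹ * (q * (g * z * g⁻¹) * q⁻¹) * q' := by group
        _ = q'⁻¹ * (q' * z * q'⁻¹) * q' := by rw [hqx, hq'z]
        _ = z := by group
    calc (q'⁻¹ * q * g) * z = ((q'⁻¹ * q * g) * z * (q'⁻¹ * q * g)⁻¹) * (q'⁻¹ * q * g) := by
          group
      _ = z * (q'⁻¹ * q * g) := by rw [e]
  have h1 := Subgroup.mem_normalizer_iff.mp hn (g⁻¹ * (q⁻¹ * y * q) * g)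
  have e : (q'⁻¹ * q * g) * (g⁻¹ * (q⁻¹ * y * q) * g) * (q'⁻¹ * q * g)⁻¹ = q'⁻¹ * y * q' := by
    group
  rw [e] at h1
  exact h1.symm

open scoped commutatorElement in
/-- an extraspecial-like subgroup that is non-abelian, normal in `C(z)` and normalizes no
odd-order subgroup is a large extraspecial subgroup -/
theorem isLargeExtraspecial_of_extraLike [Finite G] {E : Subgroup G} {z : G}
    (h : ExtraLike E z) (hna : ∃ a ∈ E, ∃ b ∈ E, a * b ≠ b * a)
    (hN : Subgroup.centralizer ({z} : Set G) ≤ Subgroup.normalizer (E : Set G))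
    (hlarge : ∀ K : Subgroup G, Odd (Nat.card K) → E ≤ Subgroup.normalizer (K : Set G) → K = ⊥) :
    Cfsg.IsLargeExtraspecial E := by
  have hzc : (⟨z, h.mem⟩ : ↥E) ∈ Subgroup.center ↥E := by
    rw [Subgroup.mem_center_iff]
    intro b
    apply Subtype.ext
    exact (h.central b b.2).symm
  have hzZ : z ∈ (Subgroup.center ↥E).map E.subtype := ⟨⟨z, h.mem⟩, hzc, rfl⟩
  refine ⟨?_, ?_, ?_, hlarge⟩
  · apply Cfsg.Agent.Helper27.isExtraspecial_two_of_data (isPGroup_two h) ⟨z, h.mem⟩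
    · intro e
      exact h.ne_one (congrArg Subtype.val e)
    · intro a
      apply Subtype.ext
      exact (h.central a a.2).symm
    · intro c hc
      have h1 : ∀ b ∈ E, (c : G) * b = b * c := by
        intro b hb
        exact (congrArg Subtype.val (hc ⟨b, hb⟩)).symm
      rcases h.cent c h1 with e | e
      · left; exact Subtype.ext e
      · right; exact Subtype.ext e
    · intro a b
      rcases h.comm a a.2 b b.2 with e | e
      · left
        apply Subtype.ext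
        rw [commutatorElement_def]
        exact e
      · right
        apply Subtype.ext
        rw [commutatorElement_def]
        exact e
    · intro a
      rcases sq_mem h a.2 with e | e
      · left
        apply Subtype.ext
        rw [pow_two]
        exact e
      · right
        apply Subtype.ext
        rw [pow_two]
        exact e
    · obtain ⟨a, ha, b, hb, hab⟩ := hna
      refine ⟨⟨a, ha⟩, ⟨b, hb⟩, ?_⟩
      intro e
      apply hab
      have e1 : a * b * a⁻¹ * b⁻¹ = 1 := by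
        have := congrArg Subtype.val e
        rw [commutatorElement_def] at this
        exact this
      calc a * b = (a * b * a⁻¹ * b⁻¹) * (b * a) := by group
        _ = b * a := by rw [e1, one_mul]
  · apply le_antisymm
    · intro c hc
      have h1 : ∀ b ∈ E, c * b = b * c := by
        intro b hb
        exact (Subgroup.mem_centralizer_iff.mp hc b hb).symm
      rcases h.cent c h1 with e | e
      · rw [e]; exact Subgroup.one_mem _
      · rw [e]; exact hzZ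
    · rintro _ ⟨c, hc, rfl⟩
      rw [Subgroup.mem_centralizer_iff]
      intro b hb
      have h1 := Subgroup.mem_center_iff.mp hc ⟨b, hb⟩
      exact congrArg Subtype.val h1
  · intro c hc
    apply hN
    rw [Subgroup.mem_centralizer_singleton_iff]
    exact (Subgroup.mem_centralizer_iff.mp hc z hzZ).symm

/-- The pair attached to a large extraspecial subgroup and a conjugate of its central
involution lying in it. -/
theorem mkPair [Finite G] (Q : Subgroup G) (hQ : Cfsg.IsLargeExtraspecial Q) (z : G)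
    (hz : ((Subgroup.center ↥Q).map Q.subtype) = Subgroup.zpowers z) (hz2 : orderOf z = 2)
    (g : G) (hgH : g ∉ Subgroup.centralizer ({z} : Set G)) (hgQ : g * z * g⁻¹ ∈ Q) :
    Pair Q (Q.map (MulAut.conj g).toMonoidHom) z (g * z * g⁻¹) := by
  obtain ⟨hL1, hL2, hL3, -⟩ := hQ
  obtain ⟨z0, hEz0, hZ⟩ := exists_extraLike Q hL1 hL2
  have hz1 : z ≠ 1 := by
    intro h
    rw [h, orderOf_one] at hz2
    omega
  have hzz0 : z = z0 := by
    have h1 : z ∈ (Subgroup.center ↥Q).map Q.subtype := by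
      rw [hz]; exact Subgroup.mem_zpowers z
    rcases (hZ z).mp h1 with h | h
    · exact absurd h hz1
    · exact h
  subst hzz0
  have hEz := hEz0
  have hpz : IsPGroup 2 ↥Q := hL1.1.1
  have hNz : Subgroup.centralizer ({z} : Set G) ≤ Subgroup.normalizer (Q : Set G) := by
    intro c hc
    apply hL3
    rw [Subgroup.mem_centralizer_iff]
    intro a ha
    rcases (hZ a).mp ha with rfl | rfl
    · simp
    · exact Subgroup.mem_centralizer_singleton_iff.mp hc |>.symm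
  have hxz : g * z * g⁻¹ ≠ z := by
    intro h
    apply hgH
    rw [Subgroup.mem_centralizer_singleton_iff]
    calc g * z = (g * z * g⁻¹) * g := by group
      _ = z * g := by rw [h]
  refine ⟨hEz, hEz.conj g, hNz, normalizer_conj hNz g, hgQ, z_mem_conj hEz hpz hNz g hgQ hxz,
    hxz, ?_⟩
  intro q hq q' hq' hqx hq'z
  ext y
  rw [mem_map_conj, mem_map_conj, mem_map_conj]
  have hn : q'⁻¹ * q * g ∈ Subgroup.normalizer (Q : Set G) := by
    apply hNz
    rw [Subgroup.mem_centralizer_singleton_iff]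
    have e : (q'⁻¹ * q * g) * z * (q'⁻¹ * q * g)⁻¹ = z := by
      calc (q'⁻¹ * q * g) * z * (q'⁻¹ * q * g)⁻¹
          = q'⁻¹ * (q * (g * z * g⁻¹) * q⁻¹) * q' := by group
        _ = q'⁻¹ * (q' * z * q'⁻¹) * q' := by rw [hqx, hq'z]
        _ = z := by group
    calc (q'⁻¹ * q * g) * z = ((q'⁻¹ * q * g) * z * (q'⁻¹ * q * g)⁻¹) * (q'⁻¹ * q * g) := by
          group
      _ = z * (q'⁻¹ * q * g) := by rw [e]
  have h1 := Subgroup.mem_normalizer_iff.mp hn (g⁻¹ * (q⁻¹ * y * q) * g)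
  have e : (q'⁻¹ * q * g) * (g⁻¹ * (q⁻¹ * y * q) * g) * (q'⁻¹ * q * g)⁻¹ = q'⁻¹ * y * q' := by
    group
  rw [e] at h1
  exact h1.symm

end Cfsg.Agent.Helper28.LargePair
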