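import Mathlib
import Cfsg.Prelude.Def_MonsterType
import Cfsg.Agent.Lib.Helper28.LargePair

/-!
# The centralizer of an involution in a group containing `2^{n+1} : GL_{n+1}(2)`

Shared library of helper28.  The datum is an elementary abelian `2`-subgroup `U` with
coordinates `elt : (Fin (n+1) → ZMod 2) → G`, a complement `M` acting faithfully and fully on
`U`, such that centralizers of non-identity elements of `U` lie in `U M`.
-/

set_option autoImplicit false

namespace Cfsg.Agent.Helper28.Holo

open Cfsg.Agent.Helper28.LargeExtra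

abbrev Vec (n : ℕ) := Fin (n + 1) → ZMod 2

/-- the first basis vector -/
def e0 (n : ℕ) : Vec n := Pi.single 0 1

theorem zmod2_cases (c : ZMod 2) : c = 0 ∨ c = 1 := by
  revert c; decide

theorem vec_add_self {n : ℕ} (v : Vec n) : v + v = 0 := by
  funext i
  have : ∀ a : ZMod 2, a + a = 0 := by decide
  exact this (v i)

theorem vec_neg {n : ℕ} (v : Vec n) : -v = v := by
  rw [neg_eq_iff_add_eq_zero, vec_add_self]

theorem vec_sub {n : ℕ} (v w : Vec n) : v - w = v + w := by
  rw [sub_eq_add_neg, vec_neg]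

theorem e0_ne_zero (n : ℕ) : e0 n ≠ 0 := by
  intro h
  have := congrFun h 0
  simp [e0] at this

variable {G : Type*} [Group G]

structure Data (U M : Subgroup G) (n : ℕ) (elt : Vec n → G) : Prop where
  elt_add : ∀ v w, elt (v + w) = elt v * elt w
  elt_inj : Function.Injective elt
  elt_mem : ∀ v, elt v ∈ U
  elt_surj : ∀ u ∈ U, ∃ v, elt v = u
  norm : M ≤ Subgroup.normalizer (U : Set G)
  inf : U ⊓ M = ⊥
  faith : ∀ m ∈ M, (∀ v, m * elt v * m⁻¹ = elt v) → m = 1
  full : ∀ f : Vec n ≃+ Vec n, ∃ m ∈ M, ∀ v, m * elt v * m⁻¹ = elt (f v)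
  cent : ∀ v, v ≠ 0 → Subgroup.centralizer ({elt v} : Set G) ≤ U ⊔ M

open Classical in
/-- the action on coordinates of an element normalizing `U` -/
noncomputable def act {n : ℕ} (elt : Vec n → G) (g : G) (v : Vec n) : Vec n :=
  if hx : ∃ w, elt w = g * elt v * g⁻¹ then Classical.choose hx else 0

namespace Data

variable {U M : Subgroup G} {n : ℕ} {elt : Vec n → G}

theorem elt_zero (h : Data U M n elt) : elt 0 = 1 := by
  have h1 := h.elt_add 0 0
  rw [add_zero] at h1
  calc elt 0 = (elt 0)⁻¹ * (elt 0 * elt 0) := by group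
    _ = (elt 0)⁻¹ * elt 0 := by rw [← h1]
    _ = 1 := by group

theorem elt_sq (h : Data U M n elt) (v : Vec n) : elt v * elt v = 1 := by
  rw [← h.elt_add, vec_add_self, h.elt_zero]

theorem elt_inv (h : Data U M n elt) (v : Vec n) : (elt v)⁻¹ = elt v :=
  inv_eq_of_mul_eq_one_right (h.elt_sq v)

theorem elt_comm (h : Data U M n elt) (v w : Vec n) : elt v * elt w = elt w * elt v := by
  rw [← h.elt_add, ← h.elt_add, add_comm]

theorem elt_ne_one (h : Data U M n elt) {v : Vec n} (hv : v ≠ 0) : elt v ≠ 1 := by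
  intro e
  apply hv
  apply h.elt_inj
  rw [e, h.elt_zero]

theorem elt_eq_one (h : Data U M n elt) {v : Vec n} (e : elt v = 1) : v = 0 := by
  by_contra hv
  exact h.elt_ne_one hv e

theorem U_comm (h : Data U M n elt) {a b : G} (ha : a ∈ U) (hb : b ∈ U) : a * b = b * a := by
  obtain ⟨v, rfl⟩ := h.elt_surj a ha
  obtain ⟨w, rfl⟩ := h.elt_surj b hb
  exact h.elt_comm v w

theorem U_sq (h : Data U M n elt) {a : G} (ha : a ∈ U) : a * a = 1 := by
  obtain ⟨v, rfl⟩ := h.elt_surj a ha
  exact h.elt_sq v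

/-! ### The action on coordinates -/

theorem exists_conj (h : Data U M n elt) {g : G} (hg : g ∈ Subgroup.normalizer (U : Set G))
    (v : Vec n) : ∃ w, elt w = g * elt v * g⁻¹ :=
  h.elt_surj _ ((Subgroup.mem_normalizer_iff.mp hg _).mp (h.elt_mem v))

theorem act_spec (h : Data U M n elt) {g : G} (hg : g ∈ Subgroup.normalizer (U : Set G))
    (v : Vec n) : elt (act elt g v) = g * elt v * g⁻¹ := by
  unfold act
  rw [dif_pos (h.exists_conj hg v)]
  exact Classical.choose_spec (h.exists_conj hg v)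

theorem act_eq (h : Data U M n elt) {g : G} {v w : Vec n}
    (e : g * elt v * g⁻¹ = elt w) : act elt g v = w := by
  unfold act
  have hx : ∃ w, elt w = g * elt v * g⁻¹ := ⟨w, e.symm⟩
  rw [dif_pos hx]
  apply h.elt_inj
  rw [Classical.choose_spec hx, e]

theorem act_one (h : Data U M n elt) (v : Vec n) : act elt 1 v = v := by
  apply h.act_eq
  group

theorem act_mul (h : Data U M n elt) {g k : G} (hg : g ∈ Subgroup.normalizer (U : Set G))
    (hk : k ∈ Subgroup.normalizer (U : Set G)) (v : Vec n) :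
    act elt (g * k) v = act elt g (act elt k v) := by
  apply h.act_eq
  rw [h.act_spec hg, h.act_spec hk]
  group

theorem act_add (h : Data U M n elt) {g : G} (hg : g ∈ Subgroup.normalizer (U : Set G))
    (v w : Vec n) : act elt g (v + w) = act elt g v + act elt g w := by
  apply h.act_eq
  rw [h.elt_add, h.elt_add, h.act_spec hg, h.act_spec hg]
  group

theorem act_zero (h : Data U M n elt) {g : G} (hg : g ∈ Subgroup.normalizer (U : Set G)) :
    act elt g 0 = 0 := by
  apply h.act_eq
  rw [h.elt_zero]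
  group

theorem act_inv_act (h : Data U M n elt) {g : G} (hg : g ∈ Subgroup.normalizer (U : Set G))
    (v : Vec n) : act elt g⁻¹ (act elt g v) = v := by
  rw [← h.act_mul (Subgroup.inv_mem _ hg) hg, inv_mul_cancel, h.act_one]

theorem act_act_inv (h : Data U M n elt) {g : G} (hg : g ∈ Subgroup.normalizer (U : Set G))
    (v : Vec n) : act elt g (act elt g⁻¹ v) = v := by
  rw [← h.act_mul hg (Subgroup.inv_mem _ hg), mul_inv_cancel, h.act_one]

/-- the additive automorphism induced by a normalizing element -/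
noncomputable def actEquiv (h : Data U M n elt) {g : G}
    (hg : g ∈ Subgroup.normalizer (U : Set G)) : Vec n ≃+ Vec n where
  toFun := act elt g
  invFun := act elt g⁻¹
  left_inv := h.act_inv_act hg
  right_inv := h.act_act_inv hg
  map_add' := h.act_add hg

theorem act_smul (h : Data U M n elt) {g : G} (hg : g ∈ Subgroup.normalizer (U : Set G))
    (c : ZMod 2) (v : Vec n) : act elt g (c • v) = c • act elt g v := by
  rcases zmod2_cases c with rfl | rfl
  · rw [zero_smul, zero_smul, h.act_zero hg]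
  · rw [one_smul, one_smul]

theorem act_of_U (h : Data U M n elt) {u : G} (hu : u ∈ U) (v : Vec n) : act elt u v = v := by
  apply h.act_eq
  obtain ⟨w, rfl⟩ := h.elt_surj u hu
  rw [h.elt_comm w v, mul_assoc, mul_inv_cancel, mul_one]

theorem U_le_normalizer (_h : Data U M n elt) : U ≤ Subgroup.normalizer (U : Set G) :=
  Subgroup.le_normalizer

theorem eq_of_act_eq (h : Data U M n elt) {m m' : G} (hm : m ∈ M) (hm' : m' ∈ M)
    (e : ∀ v, act elt m v = act elt m' v) : m = m' := by
  have h1 : m'⁻¹ * m = 1 := by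
    apply h.faith _ (M.mul_mem (M.inv_mem hm') hm)
    intro v
    have h2 := h.act_spec (Subgroup.mul_mem _ (Subgroup.inv_mem _ (h.norm hm')) (h.norm hm)) v
    rw [← h2, h.act_mul (Subgroup.inv_mem _ (h.norm hm')) (h.norm hm), e v,
      h.act_inv_act (h.norm hm')]
  calc m = m' * (m'⁻¹ * m) := by group
    _ = m' := by rw [h1, mul_one]

/-! ### The product `U M` -/

theorem exists_mul_of_mem_sup (h : Data U M n elt) {g : G} (hg : g ∈ U ⊔ M) :
    ∃ u ∈ U, ∃ m ∈ M, g = u * m := by
  let S : Subgroup G :=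
    { carrier := {g | ∃ u ∈ U, ∃ m ∈ M, g = u * m}
      one_mem' := ⟨1, U.one_mem, 1, M.one_mem, (mul_one 1).symm⟩
      mul_mem' := by
        rintro _ _ ⟨u, hu, m, hm, rfl⟩ ⟨u', hu', m', hm', rfl⟩
        refine ⟨u * (m * u' * m⁻¹), U.mul_mem hu
          ((Subgroup.mem_normalizer_iff.mp (h.norm hm) u').mp hu'), m * m', M.mul_mem hm hm', ?_⟩
        group
      inv_mem' := by
        rintro _ ⟨u, hu, m, hm, rfl⟩
        refine ⟨m⁻¹ * u⁻¹ * m⁻¹⁻¹, (Subgroup.mem_normalizer_iff.mp (h.norm (M.inv_mem hm)) u⁻¹).mp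
          (U.inv_mem hu), m⁻¹, M.inv_mem hm, ?_⟩
        group }
  have hU : U ≤ S := fun u hu => ⟨u, hu, 1, M.one_mem, (mul_one u).symm⟩
  have hM : M ≤ S := fun m hm => ⟨1, U.one_mem, m, hm, (one_mul m).symm⟩
  exact (sup_le hU hM) hg

theorem sup_le_normalizer (h : Data U M n elt) : U ⊔ M ≤ Subgroup.normalizer (U : Set G) :=
  sup_le Subgroup.le_normalizer h.norm

theorem cent_le (h : Data U M n elt) {v : Vec n} (hv : v ≠ 0) :
    Subgroup.centralizer ({elt v} : Set G) ≤ Subgroup.normalizer (U : Set G) :=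
  (h.cent v hv).trans h.sup_le_normalizer

/-- `C_G(U) ≤ U` -/
theorem mem_U_of_comm (h : Data U M n elt) {g : G} (hg : ∀ v, g * elt v = elt v * g) :
    g ∈ U := by
  have h1 : g ∈ Subgroup.centralizer ({elt (e0 n)} : Set G) :=
    Subgroup.mem_centralizer_singleton_iff.mpr (hg _)
  obtain ⟨u, hu, m, hm, rfl⟩ := h.exists_mul_of_mem_sup (h.cent _ (e0_ne_zero n) h1)
  have hm1 : m = 1 := by
    apply h.faith m hm
    intro v
    have h2 := hg v
    have h3 : u * elt v = elt v * u := h.U_comm hu (h.elt_mem v)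
    have h4 : m * elt v = elt v * m := by
      calc m * elt v = u⁻¹ * (u * m * elt v) := by group
        _ = u⁻¹ * (elt v * (u * m)) := by rw [h2]
        _ = u⁻¹ * (elt v * u) * m := by group
        _ = u⁻¹ * (u * elt v) * m := by rw [h3]
        _ = elt v * m := by group
    rw [h4]; group
  rw [hm1, mul_one]
  exact hu

theorem mem_U_of_act (h : Data U M n elt) {g : G} (hg : g ∈ Subgroup.normalizer (U : Set G))
    (e : ∀ v, act elt g v = v) : g ∈ U := by
  apply h.mem_U_of_comm
  intro v
  have h1 := h.act_spec hg v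
  rw [e v] at h1
  calc g * elt v = (g * elt v * g⁻¹) * g := by group
    _ = elt v * g := by rw [← h1]

end Data

end Cfsg.Agent.Helper28.Holo
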