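import Mathlib
import Cfsg.Prelude.Def_MonsterType
import Cfsg.Agent.Lib.Helper28.HoloA

/-!
# The subgroup `Q0` of the centralizer of `z` acting trivially on `U / ⟨z⟩` and `⟨z⟩`

Shared library of helper28 (continuation of `HoloA`).
-/

set_option autoImplicit false

namespace Cfsg.Agent.Helper28.Holo

open Cfsg.Agent.Helper28.LargeExtra

theorem vec_eq_add_smul_e0 {n : ℕ} (v w : Vec n) (hw : ∀ i, i ≠ 0 → w i = v i) :
    w = v + (w 0 + v 0) • e0 n := by
  funext i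
  by_cases hi : i = 0
  · subst hi
    simp only [e0, Pi.add_apply, Pi.smul_apply, Pi.single_eq_same, smul_eq_mul, mul_one]
    have : ∀ a b : ZMod 2, a = b + (a + b) := by decide
    exact this _ _
  · simp only [e0, Pi.add_apply, Pi.smul_apply, Pi.single_eq_of_ne hi, smul_eq_mul, mul_zero,
      add_zero]
    exact hw i hi

theorem smul_e0_apply_of_ne {n : ℕ} (c : ZMod 2) {i : Fin (n + 1)} (hi : i ≠ 0) :
    (c • e0 n) i = 0 := by
  simp [e0, Pi.single_eq_of_ne hi]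

theorem smul_e0_eq_zero {n : ℕ} {c : ZMod 2} (h : c • e0 n = 0) : c = 0 := by
  have := congrFun h 0
  simpa [e0] using this

theorem dot_e0 {n : ℕ} (a : Vec n) : dotProduct a (e0 n) = a 0 := by
  simp [e0]

theorem tau_invol {n : ℕ} (a : Vec n) (ha : a 0 = 0) (v : Vec n) :
    (v + (dotProduct a v) • e0 n) + (dotProduct a (v + (dotProduct a v) • e0 n)) • e0 n = v := by
  rw [dotProduct_add, dotProduct_smul, dot_e0, ha, smul_zero, add_zero, add_assoc, vec_add_self,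
    add_zero]

/-- the transvection `v ↦ v + (a ⬝ᵥ v) • e0`, for `a 0 = 0` -/
def tau {n : ℕ} (a : Vec n) (ha : a 0 = 0) : Vec n ≃+ Vec n where
  toFun v := v + (dotProduct a v) • e0 n
  invFun v := v + (dotProduct a v) • e0 n
  left_inv := tau_invol a ha
  right_inv := tau_invol a ha
  map_add' v w := by rw [dotProduct_add, add_smul]; abel

variable {G : Type*} [Group G]

namespace Data

variable {U M : Subgroup G} {n : ℕ} {elt : Vec n → G}

/-- the candidate for `O₂(C_G(z))` -/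
def Q0 (h : Data U M n elt) : Subgroup G where
  carrier := {c | c ∈ Subgroup.normalizer (U : Set G) ∧ ∀ v i, i ≠ 0 → act elt c v i = v i}
  one_mem' := ⟨Subgroup.one_mem _, fun v i _ => by rw [h.act_one]⟩
  mul_mem' := by
    rintro a b ⟨ha, ha'⟩ ⟨hb, hb'⟩
    refine ⟨Subgroup.mul_mem _ ha hb, fun v i hi => ?_⟩
    rw [h.act_mul ha hb, ha' _ i hi, hb' v i hi]
  inv_mem' := by
    rintro a ⟨ha, ha'⟩
    refine ⟨Subgroup.inv_mem _ ha, fun v i hi => ?_⟩
    have := ha' (act elt a⁻¹ v) i hi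
    rw [h.act_act_inv ha] at this
    exact this.symm

theorem Q0_act (h : Data U M n elt) {c : G} (hc : c ∈ h.Q0) (v : Vec n) :
    ∃ k : ZMod 2, act elt c v = v + k • e0 n :=
  ⟨_, vec_eq_add_smul_e0 v _ (hc.2 v)⟩

theorem act_injective (h : Data U M n elt) {g : G} (hg : g ∈ Subgroup.normalizer (U : Set G)) :
    Function.Injective (act elt g) := (h.actEquiv hg).injective

theorem Q0_act_e0 (h : Data U M n elt) {c : G} (hc : c ∈ h.Q0) : act elt c (e0 n) = e0 n := by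
  obtain ⟨k, hk⟩ := h.Q0_act hc (e0 n)
  rcases zmod2_cases k with rfl | rfl
  · rw [hk, zero_smul, add_zero]
  · exfalso
    rw [one_smul, vec_add_self] at hk
    have h1 : act elt c (e0 n) = act elt c 0 := by rw [hk, h.act_zero hc.1]
    exact e0_ne_zero n (h.act_injective hc.1 h1)

theorem act_eq_self_iff (h : Data U M n elt) {g : G} (hg : g ∈ Subgroup.normalizer (U : Set G))
    (v : Vec n) : act elt g v = v ↔ g * elt v = elt v * g := by
  constructor
  · intro e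
    have h1 := h.act_spec hg v
    rw [e] at h1
    calc g * elt v = (g * elt v * g⁻¹) * g := by group
      _ = elt v * g := by rw [← h1]
  · intro e
    apply h.act_eq
    rw [e]; group

theorem Q0_le_cent (h : Data U M n elt) :
    h.Q0 ≤ Subgroup.centralizer ({elt (e0 n)} : Set G) := by
  intro c hc
  rw [Subgroup.mem_centralizer_singleton_iff]
  exact (h.act_eq_self_iff hc.1 _).mp (h.Q0_act_e0 hc)

theorem U_le_Q0 (h : Data U M n elt) : U ≤ h.Q0 :=
  fun u hu => ⟨Subgroup.le_normalizer hu, fun v i _ => by rw [h.act_of_U hu]⟩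

theorem cent_act_e0 (h : Data U M n elt) {c : G}
    (hc : c ∈ Subgroup.centralizer ({elt (e0 n)} : Set G)) : act elt c (e0 n) = e0 n :=
  (h.act_eq_self_iff (h.cent_le (e0_ne_zero n) hc) _).mpr
    (Subgroup.mem_centralizer_singleton_iff.mp hc)

theorem conj_mem_Q0 (h : Data U M n elt) {c q : G}
    (hc : c ∈ Subgroup.centralizer ({elt (e0 n)} : Set G)) (hq : q ∈ h.Q0) :
    c * q * c⁻¹ ∈ h.Q0 := by
  have hcN := h.cent_le (e0_ne_zero n) hc
  have hce := h.cent_act_e0 hc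
  refine ⟨Subgroup.mul_mem _ (Subgroup.mul_mem _ hcN hq.1) (Subgroup.inv_mem _ hcN),
    fun v i hi => ?_⟩
  obtain ⟨k, hk⟩ := h.Q0_act hq (act elt c⁻¹ v)
  rw [h.act_mul (Subgroup.mul_mem _ hcN hq.1) (Subgroup.inv_mem _ hcN), h.act_mul hcN hq.1, hk,
    h.act_add hcN, h.act_act_inv hcN, h.act_smul hcN, hce, Pi.add_apply,
    smul_e0_apply_of_ne k hi, add_zero]

theorem Q0_sq_mem (h : Data U M n elt) {q : G} (hq : q ∈ h.Q0) : q * q ∈ U := by
  apply h.mem_U_of_act (Subgroup.mul_mem _ hq.1 hq.1)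
  intro v
  obtain ⟨k, hk⟩ := h.Q0_act hq v
  rw [h.act_mul hq.1 hq.1, hk, h.act_add hq.1, h.act_smul hq.1, h.Q0_act_e0 hq, hk, add_assoc,
    vec_add_self, add_zero]

theorem Q0_isPGroup (h : Data U M n elt) : IsPGroup 2 h.Q0 := by
  rintro ⟨q, hq⟩
  refine ⟨2, Subtype.ext ?_⟩
  have h1 : q ^ 2 ^ 2 = (q * q) * (q * q) := by
    have : (2 : ℕ) ^ 2 = 2 + 2 := by norm_num
    rw [this, pow_add, pow_two]
  rw [Subgroup.coe_pow, Subgroup.coe_one]
  show q ^ 2 ^ 2 = 1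
  rw [h1]
  exact h.U_sq (h.Q0_sq_mem hq)

theorem isPGroup_U (h : Data U M n elt) : IsPGroup 2 U := by
  rintro ⟨u, hu⟩
  refine ⟨1, Subtype.ext ?_⟩
  rw [Subgroup.coe_pow, Subgroup.coe_one, pow_one, pow_two]
  exact h.U_sq hu

theorem Q0_M_comm (h : Data U M n elt) {m m' : G} (hm : m ∈ M) (hmQ : m ∈ h.Q0) (hm' : m' ∈ M)
    (hm'Q : m' ∈ h.Q0) : m * m' = m' * m := by
  apply h.eq_of_act_eq (M.mul_mem hm hm') (M.mul_mem hm' hm)
  intro v
  obtain ⟨k, hk⟩ := h.Q0_act hmQ v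
  obtain ⟨k', hk'⟩ := h.Q0_act hm'Q v
  rw [h.act_mul hmQ.1 hm'Q.1, h.act_mul hm'Q.1 hmQ.1, hk, hk', h.act_add hmQ.1, h.act_add hm'Q.1,
    h.act_smul hmQ.1, h.act_smul hm'Q.1, h.Q0_act_e0 hmQ, h.Q0_act_e0 hm'Q, hk, hk']
  abel

theorem Q0_decomp (h : Data U M n elt) {c : G} (hc : c ∈ h.Q0) :
    ∃ u ∈ U, ∃ m ∈ M, m ∈ h.Q0 ∧ c = u * m := by
  obtain ⟨u, hu, m, hm, rfl⟩ :=
    h.exists_mul_of_mem_sup (h.cent _ (e0_ne_zero n) (h.Q0_le_cent hc))
  refine ⟨u, hu, m, hm, ?_, rfl⟩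
  have : m = u⁻¹ * (u * m) := by group
  rw [this]
  exact h.Q0.mul_mem (h.Q0.inv_mem (h.U_le_Q0 hu)) hc

/-- membership in `{1, z}` -/
def InZ (elt : Vec n → G) (x : G) : Prop := x = 1 ∨ x = elt (e0 n)

theorem inZ_mul (h : Data U M n elt) {x y : G} (hx : InZ elt x) (hy : InZ elt y) :
    InZ elt (x * y) := by
  rcases hx with rfl | rfl <;> rcases hy with rfl | rfl
  · left; rw [one_mul]
  · right; rw [one_mul]
  · right; rw [mul_one]
  · left; exact h.elt_sq _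

theorem inZ_inv (h : Data U M n elt) {x : G} (hx : InZ elt x) : InZ elt x⁻¹ := by
  rcases hx with rfl | rfl
  · left; exact inv_one
  · right; exact h.elt_inv _

theorem inZ_mem_U (h : Data U M n elt) {x : G} (hx : InZ elt x) : x ∈ U := by
  rcases hx with rfl | rfl
  · exact U.one_mem
  · exact h.elt_mem _

theorem inZ_smul (h : Data U M n elt) (k : ZMod 2) : InZ elt (elt (k • e0 n)) := by
  rcases zmod2_cases k with rfl | rfl
  · left; rw [zero_smul, h.elt_zero]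
  · right; rw [one_smul]

theorem Q0_comm_U (h : Data U M n elt) {q u : G} (hq : q ∈ h.Q0) (hu : u ∈ U) :
    InZ elt (q * u * q⁻¹ * u⁻¹) := by
  obtain ⟨v, rfl⟩ := h.elt_surj u hu
  obtain ⟨k, hk⟩ := h.Q0_act hq v
  have h1 := h.act_spec hq.1 v
  rw [← h1, hk, h.elt_add, h.elt_comm v, mul_inv_cancel_right]
  exact h.inZ_smul k

theorem U_comm_Q0 (h : Data U M n elt) {q u : G} (hq : q ∈ h.Q0) (hu : u ∈ U) :
    InZ elt (u * q * u⁻¹ * q⁻¹) := by
  have := h.inZ_inv (h.Q0_comm_U hq hu)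
  have e : (q * u * q⁻¹ * u⁻¹)⁻¹ = u * q * u⁻¹ * q⁻¹ := by group
  rwa [e] at this

theorem Q0_comm (h : Data U M n elt) {a b : G} (ha : a ∈ h.Q0) (hb : b ∈ h.Q0) :
    InZ elt (a * b * a⁻¹ * b⁻¹) := by
  obtain ⟨u, hu, m, hm, hmQ, rfl⟩ := h.Q0_decomp ha
  obtain ⟨u', hu', m', hm', hm'Q, hb'⟩ := h.Q0_decomp hb
  have e1 : u * m * b * (u * m)⁻¹ * b⁻¹
      = u * (m * b * m⁻¹ * b⁻¹) * u⁻¹ * (u * b * u⁻¹ * b⁻¹) := by group
  have hB := h.Q0_M_comm hm hmQ hm' hm'Q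
  have hB' : m' * m⁻¹ = m⁻¹ * m' := by
    calc m' * m⁻¹ = m⁻¹ * (m * m') * m⁻¹ := by group
      _ = m⁻¹ * (m' * m) * m⁻¹ := by rw [hB]
      _ = m⁻¹ * m' := by group
  have e2 : m * b * m⁻¹ * b⁻¹ = m * u' * m⁻¹ * u'⁻¹ := by
    rw [hb']
    calc m * (u' * m') * m⁻¹ * (u' * m')⁻¹ = m * u' * (m' * m⁻¹) * m'⁻¹ * u'⁻¹ := by group
      _ = m * u' * (m⁻¹ * m') * m'⁻¹ * u'⁻¹ := by rw [hB']
      _ = m * u' * m⁻¹ * u'⁻¹ := by group
  have ht := h.Q0_comm_U hmQ hu'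
  have ht'' := h.U_comm_Q0 hb hu
  rw [e1, e2]
  have e3 : u * (m * u' * m⁻¹ * u'⁻¹) * u⁻¹ = m * u' * m⁻¹ * u'⁻¹ := by
    rw [h.U_comm hu (h.inZ_mem_U ht), mul_inv_cancel_right]
  rw [e3]
  exact h.inZ_mul ht ht''

theorem exists_tau (h : Data U M n elt) (a : Vec n) (ha : a 0 = 0) :
    ∃ m ∈ M, m ∈ h.Q0 ∧ ∀ v, act elt m v = v + (dotProduct a v) • e0 n := by
  obtain ⟨m, hm, hmv⟩ := h.full (tau a ha)
  have hact : ∀ v, act elt m v = v + (dotProduct a v) • e0 n := fun v => h.act_eq (hmv v)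
  refine ⟨m, hm, ⟨h.norm hm, fun v i hi => ?_⟩, hact⟩
  rw [hact, Pi.add_apply, smul_e0_apply_of_ne _ hi, add_zero]

theorem Q0_act_dot (h : Data U M n elt) {q : G} (hq : q ∈ h.Q0) :
    ∃ a : Vec n, a 0 = 0 ∧ ∀ v, act elt q v = v + (dotProduct a v) • e0 n := by
  let φ : Vec n →+ ZMod 2 :=
    { toFun := fun v => act elt q v 0 + v 0
      map_zero' := by rw [h.act_zero hq.1]; simp
      map_add' := fun v w => by rw [h.act_add hq.1]; simp only [Pi.add_apply]; ring }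
  have hφ : ∀ v, φ v = act elt q v 0 + v 0 := fun v => rfl
  refine ⟨fun i => φ (Pi.single i 1), ?_, fun v => ?_⟩
  · show φ (e0 n) = 0
    rw [hφ, h.Q0_act_e0 hq]
    exact CharTwo.add_self_eq_zero _
  · have h1 := vec_eq_add_smul_e0 v _ (hq.2 v)
    have h2 : φ v = dotProduct (fun i => φ (Pi.single i 1)) v := by
      conv_lhs => rw [← Finset.univ_sum_single v]
      rw [map_sum]
      unfold dotProduct
      apply Finset.sum_congr rfl
      intro i _
      rcases zmod2_cases (v i) with e | e <;> rw [e]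
      · rw [Pi.single_zero, map_zero, mul_zero]
      · rw [mul_one]
    rw [← h2, hφ]
    exact h1

end Data

end Cfsg.Agent.Helper28.Holo
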