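import Mathlib
import Cfsg.Prelude.Def_MonsterType
import Cfsg.Agent.Lib.Helper28.HoloB

/-!
# `Q0` is a large extraspecial subgroup of order `2^(2n+1)`

Shared library of helper28 (continuation of `HoloB`).
-/

set_option autoImplicit false

namespace Cfsg.Agent.Helper28.Holo

open Cfsg.Agent.Helper28.LargeExtra

variable {G : Type*} [Group G]

theorem last_ne_zero {n : ℕ} (hn : 1 ≤ n) : Fin.last n ≠ 0 := by
  intro e
  have := congrArg Fin.val e
  simp at this
  omega

theorem cons_zero_tail {n : ℕ} (a : Vec n) (ha : a 0 = 0) :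
    (Fin.cons 0 (Fin.tail a) : Vec n) = a := by
  have := Fin.cons_self_tail a
  rw [ha] at this
  exact this

namespace Data

variable {U M : Subgroup G} {n : ℕ} {elt : Vec n → G}

theorem extraLike (h : Data U M n elt) : ExtraLike h.Q0 (elt (e0 n)) where
  mem := h.U_le_Q0 (h.elt_mem _)
  ne_one := h.elt_ne_one (e0_ne_zero n)
  sq := h.elt_sq _
  comm := fun a ha b hb => h.Q0_comm ha hb
  cent := by
    intro c hc
    have hcU : c ∈ U := h.mem_U_of_comm (fun v => hc _ (h.U_le_Q0 (h.elt_mem v)))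
    obtain ⟨x, rfl⟩ := h.elt_surj c hcU
    have hx : ∀ j, j ≠ 0 → x j = 0 := by
      intro j hj
      obtain ⟨m, hm, hmQ, hmv⟩ :=
        h.exists_tau (Pi.single j 1) (Pi.single_eq_of_ne (Ne.symm hj) 1)
      have h1 : act elt m x = x := (h.act_eq_self_iff hmQ.1 x).mpr (hc m hmQ).symm
      rw [hmv, single_dotProduct, one_mul] at h1
      have h2 : x j • e0 n = 0 := by simpa using h1
      exact smul_e0_eq_zero h2
    have hx' : x = (x 0) • e0 n := by
      funext i
      by_cases hi : i = 0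
      · subst hi; simp [e0]
      · rw [hx i hi, smul_e0_apply_of_ne _ hi]
    rcases zmod2_cases (x 0) with e | e
    · left; rw [hx', e, zero_smul, h.elt_zero]
    · right; rw [hx', e, one_smul]
  central := fun b hb => (Subgroup.mem_centralizer_singleton_iff.mp (h.Q0_le_cent hb)).symm

theorem Q0_nonabelian (h : Data U M n elt) (hn : 1 ≤ n) :
    ∃ a ∈ h.Q0, ∃ b ∈ h.Q0, a * b ≠ b * a := by
  have hj := last_ne_zero hn
  obtain ⟨m, hm, hmQ, hmv⟩ :=
    h.exists_tau (Pi.single (Fin.last n) 1) (Pi.single_eq_of_ne (Ne.symm hj) 1)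
  refine ⟨m, hmQ, elt (Pi.single (Fin.last n) 1), h.U_le_Q0 (h.elt_mem _), fun e => ?_⟩
  have h1 : act elt m (Pi.single (Fin.last n) 1) = Pi.single (Fin.last n) 1 :=
    (h.act_eq_self_iff hmQ.1 _).mpr e
  rw [hmv, single_dotProduct, one_mul, Pi.single_eq_same, one_smul] at h1
  exact e0_ne_zero n (by simpa using h1)

theorem cent_le_normalizer_Q0 (h : Data U M n elt) [Finite G] :
    Subgroup.centralizer ({elt (e0 n)} : Set G) ≤ Subgroup.normalizer (h.Q0 : Set G) :=
  fun _ hc => mem_normalizer_of_conj_mem (fun _ hq => h.conj_mem_Q0 hc hq)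

theorem fpf (h : Data U M n elt) {K : Subgroup G} (hK : Odd (Nat.card K))
    (hUK : U ≤ Subgroup.normalizer (K : Set G)) {v : Vec n} (hv : v ≠ 0) :
    ∀ k ∈ K, k * elt v = elt v * k → k = 1 := by
  intro k hk hkv
  have hkN : k ∈ Subgroup.normalizer (U : Set G) :=
    h.cent_le hv (Subgroup.mem_centralizer_singleton_iff.mpr hkv)
  have hkU : k ∈ U := by
    apply h.mem_U_of_comm
    intro w
    have hx1 : k * elt w * k⁻¹ * (elt w)⁻¹ ∈ U :=
      U.mul_mem ((Subgroup.mem_normalizer_iff.mp hkN _).mp (h.elt_mem w))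
        (U.inv_mem (h.elt_mem w))
    have hx2 : k * elt w * k⁻¹ * (elt w)⁻¹ ∈ K := by
      have h3 : elt w * k⁻¹ * (elt w)⁻¹ ∈ K :=
        (Subgroup.mem_normalizer_iff.mp (hUK (h.elt_mem w)) _).mp (K.inv_mem hk)
      have e : k * elt w * k⁻¹ * (elt w)⁻¹ = k * (elt w * k⁻¹ * (elt w)⁻¹) := by group
      rw [e]; exact K.mul_mem hk h3
    have hx := eq_one_of_mem_two_of_mem_odd h.isPGroup_U hK hx1 hx2
    calc k * elt w = (k * elt w * k⁻¹ * (elt w)⁻¹) * elt w * k := by group
      _ = elt w * k := by rw [hx, one_mul]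
  exact eq_one_of_mem_two_of_mem_odd h.isPGroup_U hK hkU hk

theorem large (h : Data U M n elt) [Finite G] (hn : 1 ≤ n) (K : Subgroup G)
    (hK : Odd (Nat.card K)) (hQK : h.Q0 ≤ Subgroup.normalizer (K : Set G)) : K = ⊥ := by
  have hj := last_ne_zero hn
  have hUK : U ≤ Subgroup.normalizer (K : Set G) := h.U_le_Q0.trans hQK
  have hconj : ∀ v, ∀ k ∈ K, elt v * k * (elt v)⁻¹ ∈ K := fun v k hk =>
    (Subgroup.mem_normalizer_iff.mp (hUK (h.elt_mem v)) k).mp hk
  have hs : (Pi.single (Fin.last n) 1 : Vec n) ≠ 0 := by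
    intro e
    have := congrFun e (Fin.last n)
    simp at this
  have hsum : e0 n + Pi.single (Fin.last n) 1 ≠ 0 := by
    intro e
    have := congrFun e 0
    simp [e0, Pi.single_eq_of_ne (Ne.symm hj)] at this
  apply odd_eq_bot_of_fpf_four K hK (elt (e0 n)) (elt (Pi.single (Fin.last n) 1)) (h.elt_sq _)
    (h.elt_sq _) (h.elt_comm _ _) (hconj _) (hconj _) (h.fpf hK hUK (e0_ne_zero n))
    (h.fpf hK hUK hs)
  rw [← h.elt_add]
  exact h.fpf hK hUK hsum

theorem isLargeExtraspecial (h : Data U M n elt) [Finite G] (hn : 1 ≤ n) :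
    Cfsg.IsLargeExtraspecial h.Q0 :=
  Cfsg.Agent.Helper28.LargePair.isLargeExtraspecial_of_extraLike h.extraLike
    (h.Q0_nonabelian hn) h.cent_le_normalizer_Q0 (h.large hn)

theorem isElementaryAbelian_U (h : Data U M n elt) : Cfsg.IsElementaryAbelian 2 U :=
  ⟨⟨⟨fun a b => Subtype.ext (h.U_comm a.2 b.2)⟩⟩, fun a ha => by
    rw [pow_two]; exact h.U_sq ha⟩

theorem card_U (h : Data U M n elt) : Nat.card U = 2 ^ (n + 1) := by
  have e : Vec n ≃ U := Equiv.ofBijective (fun v => ⟨elt v, h.elt_mem v⟩)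
    ⟨fun v w hvw => h.elt_inj (congrArg Subtype.val hvw), fun u => by
      obtain ⟨v, hv⟩ := h.elt_surj u u.2
      exact ⟨v, Subtype.ext hv⟩⟩
  rw [← Nat.card_congr e, Nat.card_fun, Nat.card_zmod, Nat.card_fin]

/-! ### The order of `Q0` -/

/-- a chosen element of `M ∩ Q0` inducing the transvection with functional `(0, w)` -/
noncomputable def mTau (h : Data U M n elt) (w : Fin n → ZMod 2) : G :=
  Classical.choose (h.exists_tau (Fin.cons 0 w) (Fin.cons_zero _ _))

theorem mTau_mem (h : Data U M n elt) (w : Fin n → ZMod 2) : h.mTau w ∈ M :=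
  (Classical.choose_spec (h.exists_tau (Fin.cons 0 w) (Fin.cons_zero _ _))).1

theorem mTau_mem_Q0 (h : Data U M n elt) (w : Fin n → ZMod 2) : h.mTau w ∈ h.Q0 :=
  (Classical.choose_spec (h.exists_tau (Fin.cons 0 w) (Fin.cons_zero _ _))).2.1

theorem mTau_act (h : Data U M n elt) (w : Fin n → ZMod 2) (v : Vec n) :
    act elt (h.mTau w) v = v + (dotProduct (Fin.cons 0 w : Vec n) v) • e0 n :=
  (Classical.choose_spec (h.exists_tau (Fin.cons 0 w) (Fin.cons_zero _ _))).2.2 v

theorem card_Q0 (h : Data U M n elt) : Nat.card h.Q0 = 2 ^ (2 * n + 1) := by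
  let f : Vec n × (Fin n → ZMod 2) → h.Q0 := fun p =>
    ⟨elt p.1 * h.mTau p.2, h.Q0.mul_mem (h.U_le_Q0 (h.elt_mem _)) (h.mTau_mem_Q0 _)⟩
  have hact : ∀ (p : Vec n × (Fin n → ZMod 2)) (x : Vec n),
      act elt (elt p.1 * h.mTau p.2) x = x + (dotProduct (Fin.cons 0 p.2 : Vec n) x) • e0 n := by
    intro p x
    rw [h.act_mul (Subgroup.le_normalizer (h.elt_mem _)) (h.mTau_mem_Q0 _).1,
      h.act_of_U (h.elt_mem _), h.mTau_act]
  have hinj : Function.Injective f := by
    rintro ⟨v, w⟩ ⟨v', w'⟩ hp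
    have hp' : elt v * h.mTau w = elt v' * h.mTau w' := congrArg Subtype.val hp
    have hw : w = w' := by
      funext j
      have h1 := hact (v, w) (Pi.single j.succ 1)
      have h2 := hact (v', w') (Pi.single j.succ 1)
      simp only at h1 h2
      rw [hp', h2, dotProduct_single, dotProduct_single, Fin.cons_succ, Fin.cons_succ, mul_one,
        mul_one] at h1
      have h3 : w' j • e0 n = w j • e0 n := add_left_cancel h1
      have h4 := congrFun h3 0
      simpa [e0] using h4.symm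
    subst hw
    have hv : elt v = elt v' := mul_right_cancel hp'
    rw [h.elt_inj hv]
  have hsurj : Function.Surjective f := by
    rintro ⟨c, hc⟩
    obtain ⟨u, hu, m, hm, hmQ, rfl⟩ := h.Q0_decomp hc
    obtain ⟨v, rfl⟩ := h.elt_surj u hu
    obtain ⟨a, ha0, ha⟩ := h.Q0_act_dot hmQ
    refine ⟨(v, Fin.tail a), Subtype.ext ?_⟩
    show elt v * h.mTau (Fin.tail a) = elt v * m
    congr 1
    apply h.eq_of_act_eq (h.mTau_mem _) hm
    intro x
    rw [h.mTau_act, ha, cons_zero_tail a ha0]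
  rw [← Nat.card_congr (Equiv.ofBijective f ⟨hinj, hsurj⟩), Nat.card_prod, Nat.card_fun,
    Nat.card_fun, Nat.card_zmod, Nat.card_fin, Nat.card_fin, ← pow_add]
  congr 1
  omega

end Data

end Cfsg.Agent.Helper28.Holo
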