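import Mathlib
import Cfsg.Prelude.Def_MonsterType
import Cfsg.Agent.Lib.Helper28.HoloC

/-!
# A normal `2`-subgroup of `C_G(z)` lies in `Q0`

Shared library of helper28 (continuation of `HoloC`).
-/

set_option autoImplicit false

namespace Cfsg.Agent.Helper28.Holo

open Cfsg.Agent.Helper28.LargeExtra

variable {G : Type*} [Group G]

theorem vec_decomp {n : ℕ} (v : Vec n) :
    v = (Fin.cons 0 (Fin.tail v) : Vec n) + (v 0) • e0 n := by
  funext i
  refine Fin.cases ?_ (fun j => ?_) i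
  · simp [e0]
  · simp [e0, Fin.tail]

theorem tail_add {n : ℕ} (v w : Vec n) : Fin.tail (v + w) = Fin.tail v + Fin.tail w := rfl

theorem tail_smul_e0 {n : ℕ} (k : ZMod 2) : Fin.tail (k • e0 n) = 0 := by
  funext j
  simp [Fin.tail, e0]

theorem cons_zero_zero {n : ℕ} : (Fin.cons 0 0 : Vec n) = 0 := by
  funext i
  refine Fin.cases ?_ (fun j => ?_) i <;> simp

theorem cons_add {n : ℕ} (a b : ZMod 2) (w w' : Fin n → ZMod 2) :
    (Fin.cons (a + b) (w + w') : Vec n) = Fin.cons a w + Fin.cons b w' := by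
  funext i
  refine Fin.cases ?_ (fun j => ?_) i <;> simp

/-- an additive functional on `Vec n` is a dot product -/
theorem addHom_eq_dot {n : ℕ} (φ : Vec n →+ ZMod 2) (v : Vec n) :
    φ v = dotProduct (fun i => φ (Pi.single i 1)) v := by
  conv_lhs => rw [← Finset.univ_sum_single v]
  rw [map_sum]
  unfold dotProduct
  apply Finset.sum_congr rfl
  intro i _
  rcases zmod2_cases (v i) with e | e <;> rw [e]
  · rw [Pi.single_zero, map_zero, mul_zero]
  · rw [mul_one]

theorem elem_invol {n : ℕ} {i j : Fin (n + 1)} (hij : i ≠ j) (v : Vec n) :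
    (v + v i • (Pi.single j 1 : Vec n)) + (v + v i • (Pi.single j 1 : Vec n)) i •
      (Pi.single j 1 : Vec n) = v := by
  have h1 : (v + v i • (Pi.single j 1 : Vec n)) i = v i := by
    simp [Pi.single_eq_of_ne hij]
  rw [h1, add_assoc, vec_add_self, add_zero]

/-- the elementary transvection `v ↦ v + v i • e_j` -/
def elemT {n : ℕ} (i j : Fin (n + 1)) (hij : i ≠ j) : Vec n ≃+ Vec n where
  toFun v := v + v i • (Pi.single j 1 : Vec n)
  invFun v := v + v i • (Pi.single j 1 : Vec n)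
  left_inv := elem_invol hij
  right_inv := elem_invol hij
  map_add' v w := by rw [Pi.add_apply, add_smul]; abel

namespace Data

variable {U M : Subgroup G} {n : ℕ} {elt : Vec n → G}

theorem tail_act (h : Data U M n elt) {g : G}
    (hg : g ∈ Subgroup.centralizer ({elt (e0 n)} : Set G)) (v : Vec n) :
    Fin.tail (act elt g v) = Fin.tail (act elt g (Fin.cons 0 (Fin.tail v) : Vec n)) := by
  have hgN := h.cent_le (e0_ne_zero n) hg
  conv_lhs => rw [vec_decomp v]
  rw [h.act_add hgN, h.act_smul hgN, h.cent_act_e0 hg, tail_add, tail_smul_e0, add_zero]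

/-- the action of a subgroup of `C_G(z)` on `U / ⟨z⟩` in coordinates -/
noncomputable def tailAction (h : Data U M n elt) (P : Subgroup G)
    (hP : P ≤ Subgroup.centralizer ({elt (e0 n)} : Set G)) : MulAction ↥P (Fin n → ZMod 2) where
  smul p w := Fin.tail (act elt (p : G) (Fin.cons 0 w : Vec n))
  one_smul w := by
    show Fin.tail (act elt ((1 : ↥P) : G) (Fin.cons 0 w : Vec n)) = w
    rw [Subgroup.coe_one, h.act_one, Fin.tail_cons]
  mul_smul p q w := by
    show Fin.tail (act elt ((p * q : ↥P) : G) (Fin.cons 0 w : Vec n)) =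
      Fin.tail (act elt (p : G)
        (Fin.cons 0 (Fin.tail (act elt (q : G) (Fin.cons 0 w : Vec n))) : Vec n))
    rw [Subgroup.coe_mul, h.act_mul (h.cent_le (e0_ne_zero n) (hP p.2))
      (h.cent_le (e0_ne_zero n) (hP q.2)), h.tail_act (hP p.2)]

theorem exists_fixed (h : Data U M n elt) (hn : 1 ≤ n) {P : Subgroup G}
    (hP : P ≤ Subgroup.centralizer ({elt (e0 n)} : Set G)) (hP2 : IsPGroup 2 P) :
    ∃ w : Fin n → ZMod 2, w ≠ 0 ∧
      ∀ p ∈ P, Fin.tail (act elt p (Fin.cons 0 w : Vec n)) = w := by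
  letI := h.tailAction P hP
  have hdvd : 2 ∣ Nat.card (Fin n → ZMod 2) := by
    rw [Nat.card_fun, Nat.card_zmod, Nat.card_fin]
    exact dvd_pow_self 2 (by omega)
  have h0 : (0 : Fin n → ZMod 2) ∈ MulAction.fixedPoints ↥P (Fin n → ZMod 2) := by
    intro p
    show Fin.tail (act elt (p : G) (Fin.cons 0 0 : Vec n)) = 0
    rw [cons_zero_zero, h.act_zero (h.cent_le (e0_ne_zero n) (hP p.2))]
    rfl
  obtain ⟨w, hw, hw0⟩ :=
    hP2.exists_fixed_point_of_prime_dvd_card_of_fixed_point (Fin n → ZMod 2) hdvd h0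
  exact ⟨w, fun e => hw0 e.symm, fun p hp => hw ⟨p, hp⟩⟩

/-- the vectors on which `P` acts trivially modulo `e0` -/
def fixS (h : Data U M n elt) (P : Subgroup G)
    (hPN : P ≤ Subgroup.normalizer (U : Set G)) : AddSubgroup (Vec n) where
  carrier := {v | ∀ p ∈ P, ∀ i, i ≠ 0 → act elt p v i = v i}
  zero_mem' := fun p hp i _ => by rw [h.act_zero (hPN hp)]
  add_mem' := fun {v w} hv hw p hp i hi => by
    rw [h.act_add (hPN hp), Pi.add_apply, Pi.add_apply, hv p hp i hi, hw p hp i hi]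
  neg_mem' := fun {v} hv => by rw [vec_neg]; exact hv

theorem mem_fixS (h : Data U M n elt) (P : Subgroup G)
    (hPN : P ≤ Subgroup.normalizer (U : Set G)) (v : Vec n) :
    v ∈ h.fixS P hPN ↔ ∀ p ∈ P, ∀ i, i ≠ 0 → act elt p v i = v i := Iff.rfl

theorem le_Q0_of_normal (h : Data U M n elt) (hn : 1 ≤ n) {P : Subgroup G}
    (hP : P ≤ Subgroup.centralizer ({elt (e0 n)} : Set G)) (hP2 : IsPGroup 2 P)
    (hnorm : ∀ c ∈ Subgroup.centralizer ({elt (e0 n)} : Set G), ∀ p ∈ P, c⁻¹ * p * c ∈ P) :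
    P ≤ h.Q0 := by
  have hCN := h.cent_le (e0_ne_zero n)
  have hPN : P ≤ Subgroup.normalizer (U : Set G) := hP.trans hCN
  -- invariance of `fixS` under the centralizer
  have hinv : ∀ c ∈ Subgroup.centralizer ({elt (e0 n)} : Set G), ∀ v ∈ h.fixS P hPN,
      act elt c v ∈ h.fixS P hPN := by
    intro c hc v hv p hp i hi
    have hcN := hCN hc
    have hp' := hnorm c hc p hp
    have e1 : p * c = c * (c⁻¹ * p * c) := by group
    have h1 : act elt p (act elt c v) = act elt c (act elt (c⁻¹ * p * c) v) := by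
      rw [← h.act_mul (hPN hp) hcN, e1, h.act_mul hcN (hPN hp')]
    have h2 := vec_eq_add_smul_e0 v _ (hv _ hp')
    rw [h1, h2, h.act_add hcN, h.act_smul hcN, h.cent_act_e0 hc, Pi.add_apply,
      smul_e0_apply_of_ne _ hi, add_zero]
  -- a vector outside `⟨e0⟩` in `fixS`
  obtain ⟨w, hw0, hw⟩ := h.exists_fixed hn hP hP2
  have hv : (Fin.cons 0 w : Vec n) ∈ h.fixS P hPN := by
    intro p hp i hi
    obtain ⟨j, rfl⟩ := Fin.exists_succ_eq_of_ne_zero hi
    have := congrFun (hw p hp) j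
    rw [Fin.cons_succ]
    exact this
  obtain ⟨j0, hj0⟩ : ∃ j, w j ≠ 0 := by
    by_contra hcon
    push Not at hcon
    exact hw0 (funext hcon)
  have hwj : w j0 = 1 := by
    rcases zmod2_cases (w j0) with e | e
    · exact absurd e hj0
    · exact e
  set i0 : Fin (n + 1) := j0.succ with hi0
  have hi00 : i0 ≠ 0 := Fin.succ_ne_zero j0
  have hvi : (Fin.cons 0 w : Vec n) i0 = 1 := by rw [hi0, Fin.cons_succ, hwj]
  -- all other basis vectors
  have hbasis : ∀ j, j ≠ i0 → (Pi.single j 1 : Vec n) ∈ h.fixS P hPN := by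
    intro j hj
    obtain ⟨m, hm, hmv⟩ := h.full (elemT i0 j (Ne.symm hj))
    have hact : ∀ x, act elt m x = x + x i0 • (Pi.single j 1 : Vec n) :=
      fun x => h.act_eq (hmv x)
    have hmC : m ∈ Subgroup.centralizer ({elt (e0 n)} : Set G) := by
      rw [Subgroup.mem_centralizer_singleton_iff]
      apply (h.act_eq_self_iff (h.norm hm) _).mp
      rw [hact]
      have : (e0 n) i0 = 0 := by simp [e0, Pi.single_eq_of_ne hi00]
      rw [this, zero_smul, add_zero]
    have h1 := hinv m hmC _ hv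
    rw [hact, hvi, one_smul] at h1
    have h2 := (h.fixS P hPN).add_mem hv h1
    rw [← add_assoc, vec_add_self, zero_add] at h2
    exact h2
  have hsmul : ∀ (k : ZMod 2) (j), j ≠ i0 → (Pi.single j k : Vec n) ∈ h.fixS P hPN := by
    intro k j hj
    rcases zmod2_cases k with rfl | rfl
    · rw [Pi.single_zero]; exact (h.fixS P hPN).zero_mem
    · exact hbasis j hj
  have hi0mem : (Pi.single i0 1 : Vec n) ∈ h.fixS P hPN := by
    have h1 := Finset.univ_sum_single (Fin.cons 0 w : Vec n)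
    rw [← Finset.add_sum_erase Finset.univ _ (Finset.mem_univ i0), hvi] at h1
    have h2 : (∑ x ∈ Finset.univ.erase i0, (Pi.single x ((Fin.cons 0 w : Vec n) x) : Vec n)) ∈
        h.fixS P hPN := by
      apply AddSubgroup.sum_mem
      intro x hx
      exact hsmul _ x (Finset.ne_of_mem_erase hx)
    obtain ⟨S, hS, hSeq⟩ : ∃ S : Vec n, S ∈ h.fixS P hPN ∧
        Pi.single i0 1 + S = (Fin.cons 0 w : Vec n) := ⟨_, h2, h1⟩
    have h5 : (Pi.single i0 1 : Vec n) = (Fin.cons 0 w : Vec n) + S := by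
      rw [← hSeq, add_assoc, vec_add_self, add_zero]
    rw [h5]
    exact (h.fixS P hPN).add_mem hv hS
  have htop : ∀ x : Vec n, x ∈ h.fixS P hPN := by
    intro x
    rw [← Finset.univ_sum_single x]
    apply AddSubgroup.sum_mem
    intro j _
    by_cases hj : j = i0
    · subst hj
      rcases zmod2_cases (x i0) with e | e <;> rw [e]
      · rw [Pi.single_zero]; exact (h.fixS P hPN).zero_mem
      · exact hi0mem
    · exact hsmul _ j hj
  intro p hp
  exact ⟨hPN hp, fun v i hi => htop v p hp i hi⟩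

theorem pCore_eq_Q0 (h : Data U M n elt) [Finite G] (hn : 1 ≤ n) :
    (Cfsg.pCore 2 ↥(Subgroup.centralizer ({elt (e0 n)} : Set G))).map
      (Subgroup.centralizer ({elt (e0 n)} : Set G)).subtype = h.Q0 := by
  apply le_antisymm
  · apply h.le_Q0_of_normal hn (Cfsg.Agent.Helper14.pCoreOf_le 2 _)
      (Cfsg.Agent.Helper14.pCoreOf_isPGroup 2 _)
    intro c hc p hp
    have h1 := Cfsg.Agent.Helper14.le_normalizer_pCoreOf 2 _ (Subgroup.inv_mem _ hc)
    have h2 := (Subgroup.mem_normalizer_iff.mp h1 p).mp hp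
    rw [inv_inv] at h2
    exact h2
  · exact Cfsg.Agent.Helper14.le_pCoreOf h.Q0_le_cent h.cent_le_normalizer_Q0 h.Q0_isPGroup

end Data

end Cfsg.Agent.Helper28.Holo
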