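import Mathlib
import Cfsg.Prelude.Def_MonsterType
import Cfsg.Agent.Lib.Helper28.HoloD

/-!
# The complement `K0 ≅ GL_n(2)` to `Q0` in `C_G(z)`, and the main theorem

Shared library of helper28 (continuation of `HoloD`).
-/

set_option autoImplicit false

namespace Cfsg.Agent.Helper28.Holo

open Cfsg.Agent.Helper28.LargeExtra

variable {G : Type*} [Group G]

theorem tail_e0 {n : ℕ} : Fin.tail (e0 n) = 0 := by
  funext j
  simp [Fin.tail, e0]

theorem cons_one_zero {n : ℕ} : (Fin.cons 1 0 : Vec n) = e0 n := by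
  funext i
  refine Fin.cases ?_ (fun j => ?_) i <;> simp [e0]

/-- the block diagonal automorphism `1 ⊕ L` -/
def blockEquiv {n : ℕ} (L : (Fin n → ZMod 2) ≃ₗ[ZMod 2] (Fin n → ZMod 2)) : Vec n ≃+ Vec n where
  toFun v := Fin.cons (v 0) (L (Fin.tail v))
  invFun v := Fin.cons (v 0) (L.symm (Fin.tail v))
  left_inv v := by
    show (Fin.cons ((Fin.cons (v 0) (L (Fin.tail v)) : Vec n) 0)
      (L.symm (Fin.tail (Fin.cons (v 0) (L (Fin.tail v)) : Vec n))) : Vec n) = v
    rw [Fin.cons_zero, Fin.tail_cons, LinearEquiv.symm_apply_apply, Fin.cons_self_tail]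
  right_inv v := by
    show (Fin.cons ((Fin.cons (v 0) (L.symm (Fin.tail v)) : Vec n) 0)
      (L (Fin.tail (Fin.cons (v 0) (L.symm (Fin.tail v)) : Vec n))) : Vec n) = v
    rw [Fin.cons_zero, Fin.tail_cons, LinearEquiv.apply_symm_apply, Fin.cons_self_tail]
  map_add' v w := by
    show (Fin.cons ((v + w) 0) (L (Fin.tail (v + w))) : Vec n) =
      Fin.cons (v 0) (L (Fin.tail v)) + Fin.cons (w 0) (L (Fin.tail w))
    rw [Pi.add_apply, tail_add, map_add, cons_add]

namespace Data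

variable {U M : Subgroup G} {n : ℕ} {elt : Vec n → G}

/-- the complement: elements of `M` fixing `e0` and the coordinate functional `v ↦ v 0` -/
def K0 (h : Data U M n elt) : Subgroup G where
  carrier := {m | m ∈ M ∧ act elt m (e0 n) = e0 n ∧ ∀ v, act elt m v 0 = v 0}
  one_mem' := ⟨M.one_mem, h.act_one _, fun v => by rw [h.act_one]⟩
  mul_mem' := by
    rintro a b ⟨ha, ha1, ha2⟩ ⟨hb, hb1, hb2⟩
    refine ⟨M.mul_mem ha hb, ?_, fun v => ?_⟩
    · rw [h.act_mul (h.norm ha) (h.norm hb), hb1, ha1]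
    · rw [h.act_mul (h.norm ha) (h.norm hb), ha2, hb2]
  inv_mem' := by
    rintro a ⟨ha, ha1, ha2⟩
    refine ⟨M.inv_mem ha, ?_, fun v => ?_⟩
    · conv_lhs => rw [← ha1]
      exact h.act_inv_act (h.norm ha) _
    · have := ha2 (act elt a⁻¹ v)
      rw [h.act_act_inv (h.norm ha)] at this
      exact this.symm

theorem K0_le_cent (h : Data U M n elt) :
    h.K0 ≤ Subgroup.centralizer ({elt (e0 n)} : Set G) := by
  intro m hm
  rw [Subgroup.mem_centralizer_singleton_iff]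
  exact (h.act_eq_self_iff (h.norm hm.1) _).mp hm.2.1

theorem Q0_inf_K0 (h : Data U M n elt) : h.Q0 ⊓ h.K0 = ⊥ := by
  rw [eq_bot_iff]
  intro c hc
  obtain ⟨hcQ, hcK⟩ := Subgroup.mem_inf.mp hc
  rw [Subgroup.mem_bot]
  apply h.eq_of_act_eq hcK.1 M.one_mem
  intro v
  rw [h.act_one]
  funext i
  by_cases hi : i = 0
  · subst hi; exact hcK.2.2 v
  · exact hcQ.2 v i hi

theorem Q0_sup_K0 (h : Data U M n elt) :
    h.Q0 ⊔ h.K0 = Subgroup.centralizer ({elt (e0 n)} : Set G) := by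
  apply le_antisymm (sup_le h.Q0_le_cent h.K0_le_cent)
  intro c hc
  obtain ⟨u, hu, m, hm, rfl⟩ := h.exists_mul_of_mem_sup (h.cent _ (e0_ne_zero n) hc)
  have hmC : m ∈ Subgroup.centralizer ({elt (e0 n)} : Set G) := by
    have : m = u⁻¹ * (u * m) := by group
    rw [this]
    exact Subgroup.mul_mem _ (Subgroup.inv_mem _ (h.Q0_le_cent (h.U_le_Q0 hu))) hc
  have hmN := h.norm hm
  have hme := h.cent_act_e0 hmC
  have hme' : act elt m⁻¹ (e0 n) = e0 n := by
    conv_lhs => rw [← hme]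
    exact h.act_inv_act hmN _
  let ψ : Vec n →+ ZMod 2 :=
    { toFun := fun v => v 0 + act elt m⁻¹ v 0
      map_zero' := by rw [h.act_zero (Subgroup.inv_mem _ hmN)]; simp
      map_add' := fun v w => by
        rw [h.act_add (Subgroup.inv_mem _ hmN)]; simp only [Pi.add_apply]; ring }
  have hψ : ∀ v, ψ v = v 0 + act elt m⁻¹ v 0 := fun v => rfl
  have hb0 : (fun i => ψ (Pi.single i 1)) 0 = 0 := by
    show ψ (e0 n) = 0
    rw [hψ, hme']; exact CharTwo.add_self_eq_zero _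
  obtain ⟨q, hq, hqQ, hqv⟩ := h.exists_tau (fun i => ψ (Pi.single i 1)) hb0
  have hk : q * m ∈ h.K0 := by
    refine ⟨M.mul_mem hq hm, ?_, fun v => ?_⟩
    · rw [h.act_mul hqQ.1 hmN, hme, h.Q0_act_e0 hqQ]
    · rw [h.act_mul hqQ.1 hmN, hqv, ← addHom_eq_dot, hψ, h.act_inv_act hmN, Pi.add_apply,
        Pi.smul_apply]
      have h1 : (e0 n) 0 = 1 := by simp [e0]
      rw [h1, smul_eq_mul, mul_one]
      have : ∀ a b : ZMod 2, a + (a + b) = b := by decide
      exact this _ _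
  have e : u * m = (u * q⁻¹) * (q * m) := by group
  rw [e]
  exact Subgroup.mul_mem _
    (Subgroup.mem_sup_left (h.Q0.mul_mem (h.U_le_Q0 hu) (h.Q0.inv_mem hqQ)))
    (Subgroup.mem_sup_right hk)

theorem K0_act_cons (h : Data U M n elt) {m : G} (hm : m ∈ h.K0) (w : Fin n → ZMod 2) :
    act elt m (Fin.cons 0 w : Vec n) =
      Fin.cons 0 (Fin.tail (act elt m (Fin.cons 0 w : Vec n))) := by
  have h1 := hm.2.2 (Fin.cons 0 w : Vec n)
  rw [Fin.cons_zero] at h1
  have h2 := Fin.cons_self_tail (act elt m (Fin.cons 0 w : Vec n))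
  rw [h1] at h2
  exact h2.symm

/-- the linear automorphism of `U / ⟨z⟩` induced by an element of `K0` -/
noncomputable def linK (h : Data U M n elt) (m : h.K0) :
    (Fin n → ZMod 2) ≃ₗ[ZMod 2] (Fin n → ZMod 2) where
  toFun w := Fin.tail (act elt (m : G) (Fin.cons 0 w : Vec n))
  map_add' w w' := by
    have : (Fin.cons 0 (w + w') : Vec n) = Fin.cons 0 w + Fin.cons 0 w' := by
      have := cons_add (n := n) 0 0 w w'
      rwa [add_zero] at this
    rw [this, h.act_add (h.norm m.2.1)]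
    rfl
  map_smul' c w := by
    rcases zmod2_cases c with rfl | rfl
    · simp only [zero_smul, RingHom.id_apply]
      rw [cons_zero_zero, h.act_zero (h.norm m.2.1)]
      rfl
    · simp only [one_smul, RingHom.id_apply]
  invFun w := Fin.tail (act elt (m : G)⁻¹ (Fin.cons 0 w : Vec n))
  left_inv w := by
    show Fin.tail (act elt (m : G)⁻¹
      (Fin.cons 0 (Fin.tail (act elt (m : G) (Fin.cons 0 w : Vec n))) : Vec n)) = w
    rw [← h.K0_act_cons m.2, h.act_inv_act (h.norm m.2.1), Fin.tail_cons]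
  right_inv w := by
    have hm' := h.K0.inv_mem m.2
    show Fin.tail (act elt (m : G)
      (Fin.cons 0 (Fin.tail (act elt (m : G)⁻¹ (Fin.cons 0 w : Vec n))) : Vec n)) = w
    rw [← h.K0_act_cons hm', h.act_act_inv (h.norm m.2.1), Fin.tail_cons]

theorem linK_apply (h : Data U M n elt) (m : h.K0) (w : Fin n → ZMod 2) :
    h.linK m w = Fin.tail (act elt (m : G) (Fin.cons 0 w : Vec n)) := rfl

theorem linK_mul (h : Data U M n elt) (m m' : h.K0) :
    h.linK (m * m') = h.linK m * h.linK m' := by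
  apply LinearEquiv.ext
  intro w
  rw [LinearEquiv.mul_apply, linK_apply, linK_apply, linK_apply, Subgroup.coe_mul,
    h.act_mul (h.norm m.2.1) (h.norm m'.2.1), ← h.K0_act_cons m'.2]

theorem linK_injective (h : Data U M n elt) : Function.Injective h.linK := by
  intro m m' e
  apply Subtype.ext
  apply h.eq_of_act_eq m.2.1 m'.2.1
  intro v
  have h1 : Fin.tail (act elt (m : G) (Fin.cons 0 (Fin.tail v) : Vec n)) =
      Fin.tail (act elt (m' : G) (Fin.cons 0 (Fin.tail v) : Vec n)) :=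
    LinearEquiv.congr_fun e (Fin.tail v)
  rw [vec_decomp v, h.act_add (h.norm m.2.1), h.act_add (h.norm m'.2.1),
    h.act_smul (h.norm m.2.1), h.act_smul (h.norm m'.2.1), m.2.2.1, m'.2.2.1,
    h.K0_act_cons m.2, h.K0_act_cons m'.2, h1]

theorem linK_surjective (h : Data U M n elt) : Function.Surjective h.linK := by
  intro L
  obtain ⟨m, hm, hmv⟩ := h.full (blockEquiv L)
  have hact : ∀ v, act elt m v = Fin.cons (v 0) (L (Fin.tail v)) := fun v => h.act_eq (hmv v)
  have hmK : m ∈ h.K0 := by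
    refine ⟨hm, ?_, fun v => ?_⟩
    · rw [hact, tail_e0, map_zero]
      have : (e0 n) 0 = 1 := by simp [e0]
      rw [this, cons_one_zero]
    · rw [hact, Fin.cons_zero]
  refine ⟨⟨m, hmK⟩, ?_⟩
  apply LinearEquiv.ext
  intro w
  rw [linK_apply]
  show Fin.tail (act elt m (Fin.cons 0 w : Vec n)) = L w
  rw [hact, Fin.tail_cons, Fin.tail_cons]

/-- `K0 ≅ GL_n(2)` -/
theorem K0_equiv (h : Data U M n elt) :
    Nonempty (↥h.K0 ≃* Matrix.GeneralLinearGroup (Fin n) (ZMod 2)) := by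
  have e1 : ↥h.K0 ≃* ((Fin n → ZMod 2) ≃ₗ[ZMod 2] (Fin n → ZMod 2)) :=
    MulEquiv.mk' (Equiv.ofBijective h.linK ⟨h.linK_injective, h.linK_surjective⟩) h.linK_mul
  exact ⟨e1.trans (Matrix.GeneralLinearGroup.toLin.trans
    (LinearMap.GeneralLinearGroup.generalLinearEquiv (ZMod 2) (Fin n → ZMod 2))).symm⟩

/-- the main theorem on the centralizer of `z = elt e0` -/
theorem main (h : Data U M n elt) [Finite G] (hn : 1 ≤ n) (Q : Subgroup G)
    (hQ : Q = (Cfsg.pCore 2 ↥(Subgroup.centralizer ({elt (e0 n)} : Set G))).map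
      (Subgroup.centralizer ({elt (e0 n)} : Set G)).subtype) :
    Cfsg.IsExtraspecial 2 ↥Q ∧ Nat.card ↥Q = 2 ^ (2 * n + 1) ∧
    (∃ E : Subgroup G, E ≤ Q ∧ Cfsg.IsElementaryAbelian 2 E ∧ Nat.card ↥E = 2 ^ (n + 1)) ∧
    Cfsg.IsLargeExtraspecial Q ∧
    ∃ K : Subgroup G, K ≤ Subgroup.centralizer ({elt (e0 n)} : Set G) ∧ Q ⊓ K = ⊥ ∧
      Q ⊔ K = Subgroup.centralizer ({elt (e0 n)} : Set G) ∧
      Nonempty (↥K ≃* Matrix.GeneralLinearGroup (Fin n) (ZMod 2)) := by
  have hQ0 : Q = h.Q0 := by rw [hQ]; exact h.pCore_eq_Q0 hn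
  subst hQ0
  have hL := h.isLargeExtraspecial hn
  exact ⟨hL.1, h.card_Q0, ⟨U, h.U_le_Q0, h.isElementaryAbelian_U, h.card_U⟩, hL,
    h.K0, h.K0_le_cent, h.Q0_inf_K0, h.Q0_sup_K0, h.K0_equiv⟩

end Data

end Cfsg.Agent.Helper28.Holo
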