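import Mathlib
import Cfsg.Prelude.Def_MonsterType
import Cfsg.Agent.Lib.Helper28.HoloE

/-!
# Coordinates on an elementary abelian `2`-group with a prescribed first basis vector

Shared library of helper28 (continuation of `HoloE`).
-/

set_option autoImplicit false

namespace Cfsg.Agent.Helper28.Holo

theorem exists_coords {U : Type*} [Group U] [Finite U] (hcomm : ∀ a b : U, a * b = b * a)
    (hsq : ∀ a : U, a * a = 1) (n : ℕ) (hcard : Nat.card U = 2 ^ (n + 1)) (z : U) (hz : z ≠ 1) :
    ∃ E : Vec n → U, Function.Bijective E ∧ (∀ v w, E (v + w) = E v * E w) ∧ E (e0 n) = z := by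
  letI : CommGroup U := { (inferInstance : Group U) with mul_comm := hcomm }
  letI : Module (ZMod 2) (Additive U) := AddCommGroup.zmodModule (n := 2) (by
    intro x
    rw [two_nsmul]
    exact congrArg Additive.ofMul (hsq (Additive.toMul x)))
  have hfin : Module.finrank (ZMod 2) (Additive U) = n + 1 := by
    have h1 := Module.natCard_eq_pow_finrank (K := ZMod 2) (V := Additive U)
    rw [Nat.card_zmod] at h1
    have h2 : Nat.card (Additive U) = 2 ^ (n + 1) := hcard
    rw [h2] at h1
    exact (Nat.pow_right_injective (le_refl 2) h1).symm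
  let z' : Additive U := Additive.ofMul z
  have hz' : z' ≠ 0 := fun e => hz (congrArg Additive.toMul e)
  have hli : LinearIndepOn (ZMod 2) id ({z'} : Set (Additive U)) :=
    (linearIndepOn_singleton_iff (ZMod 2)).mpr hz'
  let b := Module.Basis.extend hli
  have hzmem : z' ∈ hli.extend (Set.subset_univ _) :=
    Module.Basis.subset_extend hli (Set.mem_singleton z')
  have hcardι : Nat.card ↥(hli.extend (Set.subset_univ _)) = n + 1 := by
    rw [← Module.finrank_eq_nat_card_basis b, hfin]
  have : Finite ↥(hli.extend (Set.subset_univ _)) := Nat.finite_of_card_ne_zero (by omega)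
  have e1 : ↥(hli.extend (Set.subset_univ _)) ≃ Fin (n + 1) := Finite.equivFinOfCardEq hcardι
  let e := e1.trans (Equiv.swap (e1 ⟨z', hzmem⟩) 0)
  have he : e ⟨z', hzmem⟩ = 0 := by simp [e]
  let b' := b.reindex e
  have hb' : b' 0 = z' := by
    rw [Module.Basis.reindex_apply, ← he, Equiv.symm_apply_apply]
    exact Module.Basis.extend_apply_self hli _
  let ℓ := b'.equivFun.symm
  refine ⟨fun v => Additive.toMul (ℓ v), ?_, ?_, ?_⟩
  · exact Additive.toMul.bijective.comp ℓ.bijective
  · intro v w
    show Additive.toMul (ℓ (v + w)) = Additive.toMul (ℓ v) * Additive.toMul (ℓ w)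
    rw [map_add]
    rfl
  · show Additive.toMul (ℓ (e0 n)) = z
    have : ℓ (e0 n) = z' := by
      show b'.equivFun.symm (e0 n) = z'
      rw [Module.Basis.equivFun_symm_apply, Finset.sum_eq_single 0]
      · rw [hb']; simp [e0]
      · intro j _ hj
        simp [e0, Pi.single_eq_of_ne hj]
      · intro h0
        exact absurd (Finset.mem_univ _) h0
    rw [this]
    rfl

end Cfsg.Agent.Helper28.Holo
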