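import Mathlib
import Cfsg.Prelude.Def_MonsterType
import Cfsg.Agent.Lib.Helper28.HoloF

/-!
# The holomorph datum inside `SL_{n+2}(2)`: transvections with centre `e₀`

Shared library of helper28.
-/

set_option autoImplicit false

namespace Cfsg.Agent.Helper28.HoloSL

open Cfsg.Agent.Helper28.Holo Cfsg.Agent.Helper28.LargeExtra Matrix

abbrev Mat (n : ℕ) := Matrix (Fin (n + 2)) (Fin (n + 2)) (ZMod 2)
abbrev SLn (n : ℕ) := Matrix.SpecialLinearGroup (Fin (n + 2)) (ZMod 2)
abbrev RV (n : ℕ) := Fin (n + 2) → ZMod 2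

/-- first basis vector -/
def eps (n : ℕ) : RV n := Pi.single 0 1

theorem det_eq_one_of_mul_eq_one {k : ℕ} (A B : Matrix (Fin k) (Fin k) (ZMod 2))
    (h : A * B = 1) : A.det = 1 := by
  have h1 : A.det * B.det = 1 := by rw [← Matrix.det_mul, h, Matrix.det_one]
  have : ∀ a b : ZMod 2, a * b = 1 → a = 1 := by decide
  exact this _ _ h1

theorem mat_ext_vecMul {k : ℕ} (A A' : Matrix (Fin k) (Fin k) (ZMod 2))
    (h : ∀ x, x ᵥ* A = x ᵥ* A') : A = A' := by
  ext i j
  have := congrFun (h (Pi.single i 1)) j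
  simpa [Matrix.single_one_vecMul] using this

variable {n : ℕ}

theorem dot_eps (x : RV n) : x ⬝ᵥ eps n = x 0 := by simp [eps]

theorem eps_dot (x : RV n) : eps n ⬝ᵥ x = x 0 := by simp [eps]

/-- the matrix `1 + ε₀ bᵀ` -/
def tmat (n : ℕ) (b : RV n) : Mat n := 1 + Matrix.vecMulVec (eps n) b

theorem tmat_mul (b b' : RV n) (hb : b 0 = 0) : tmat n b * tmat n b' = tmat n (b + b') := by
  unfold tmat
  simp only [Matrix.add_mul, Matrix.mul_add, Matrix.one_mul, Matrix.mul_one]
  rw [Matrix.vecMulVec_mul_vecMulVec, dot_eps, hb, zero_smul, Matrix.vecMulVec_zero, add_zero,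
    Matrix.vecMulVec_add]
  abel

theorem tmat_zero : tmat n 0 = 1 := by
  unfold tmat
  rw [Matrix.vecMulVec_zero, add_zero]

theorem tmat_sq (b : RV n) (hb : b 0 = 0) : tmat n b * tmat n b = 1 := by
  rw [tmat_mul b b hb, vec_add_self (n := n + 1) b, tmat_zero]

theorem tmat_mulVec_eps (b : RV n) (hb : b 0 = 0) : tmat n b *ᵥ eps n = eps n := by
  unfold tmat
  rw [Matrix.add_mulVec, Matrix.one_mulVec, Matrix.vecMulVec_mulVec, dot_eps, hb]
  simp

theorem vecMul_tmat (x b : RV n) : x ᵥ* tmat n b = x + x 0 • b := by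
  unfold tmat
  rw [Matrix.vecMul_add, Matrix.vecMul_one, Matrix.vecMul_vecMulVec, dot_eps]

theorem mul_tmat (g : Mat n) (b : RV n) (hg : g *ᵥ eps n = eps n) :
    g * tmat n b = g + Matrix.vecMulVec (eps n) b := by
  unfold tmat
  rw [Matrix.mul_add, Matrix.mul_one, Matrix.mul_vecMulVec, hg]

theorem tmat_mul' (g : Mat n) (b : RV n) :
    tmat n b * g = g + Matrix.vecMulVec (eps n) (b ᵥ* g) := by
  unfold tmat
  rw [Matrix.add_mul, Matrix.one_mul, Matrix.vecMulVec_mul]

theorem vecMulVec_eps_inj {b b' : RV n}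
    (h : Matrix.vecMulVec (eps n) b = Matrix.vecMulVec (eps n) b') : b = b' := by
  funext j
  have := congrFun (congrFun h 0) j
  simpa [Matrix.vecMulVec_apply, eps] using this

/-- the coordinates on the group of transvections with centre `ε₀` -/
def elt (n : ℕ) (v : Vec n) : SLn n :=
  ⟨tmat n (Fin.cons 0 v), det_eq_one_of_mul_eq_one _ _ (tmat_sq _ (Fin.cons_zero _ _))⟩

theorem coe_elt (v : Vec n) : ((elt n v : SLn n) : Mat n) = tmat n (Fin.cons 0 v) := rfl

theorem elt_add (v w : Vec n) : elt n (v + w) = elt n v * elt n w := by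
  apply Subtype.ext
  rw [Matrix.SpecialLinearGroup.coe_mul, coe_elt, coe_elt, coe_elt,
    tmat_mul _ _ (Fin.cons_zero _ _)]
  congr 1
  have := cons_add (n := n + 1) 0 0 v w
  rw [add_zero] at this
  exact this

theorem elt_zero : elt n 0 = 1 := by
  apply Subtype.ext
  rw [coe_elt, Matrix.SpecialLinearGroup.coe_one, cons_zero_zero (n := n + 1), tmat_zero]

theorem elt_sq (v : Vec n) : elt n v * elt n v = 1 := by
  rw [← elt_add, vec_add_self, elt_zero]

theorem elt_inj : Function.Injective (elt n) := by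
  intro v w h
  have h1 : tmat n (Fin.cons 0 v) = tmat n (Fin.cons 0 w) := congrArg Subtype.val h
  unfold tmat at h1
  have h2 := vecMulVec_eps_inj (add_left_cancel h1)
  have h3 := congrArg Fin.tail h2
  rw [Fin.tail_cons, Fin.tail_cons] at h3
  exact h3

/-- the group of transvections with centre `ε₀` -/
def Usub (n : ℕ) : Subgroup (SLn n) where
  carrier := Set.range (elt n)
  one_mem' := ⟨0, elt_zero⟩
  mul_mem' := by
    rintro _ _ ⟨v, rfl⟩ ⟨w, rfl⟩
    exact ⟨v + w, elt_add v w⟩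
  inv_mem' := by
    rintro _ ⟨v, rfl⟩
    exact ⟨v, (inv_eq_of_mul_eq_one_right (elt_sq v)).symm⟩

/-- the complement: matrices fixing the vector `ε₀` and the functional `ε₀ᵀ` -/
def Msub (n : ℕ) : Subgroup (SLn n) where
  carrier := {g | (g : Mat n) *ᵥ eps n = eps n ∧ eps n ᵥ* (g : Mat n) = eps n}
  one_mem' := by
    constructor
    · rw [Matrix.SpecialLinearGroup.coe_one, Matrix.one_mulVec]
    · rw [Matrix.SpecialLinearGroup.coe_one, Matrix.vecMul_one]
  mul_mem' := by
    rintro a b ⟨ha1, ha2⟩ ⟨hb1, hb2⟩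
    constructor
    · rw [Matrix.SpecialLinearGroup.coe_mul, ← Matrix.mulVec_mulVec, hb1, ha1]
    · rw [Matrix.SpecialLinearGroup.coe_mul, ← Matrix.vecMul_vecMul, ha2, hb2]
  inv_mem' := by
    rintro a ⟨ha1, ha2⟩
    have h1 : ((a⁻¹ : SLn n) : Mat n) * (a : Mat n) = 1 := by
      rw [← Matrix.SpecialLinearGroup.coe_mul, inv_mul_cancel, Matrix.SpecialLinearGroup.coe_one]
    have h2 : (a : Mat n) * ((a⁻¹ : SLn n) : Mat n) = 1 := by
      rw [← Matrix.SpecialLinearGroup.coe_mul, mul_inv_cancel, Matrix.SpecialLinearGroup.coe_one]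
    constructor
    · conv_lhs => rw [← ha1]
      rw [Matrix.mulVec_mulVec, h1, Matrix.one_mulVec]
    · conv_lhs => rw [← ha2]
      rw [Matrix.vecMul_vecMul, h2, Matrix.vecMul_one]

theorem inv_mul_coe (g : SLn n) : ((g⁻¹ : SLn n) : Mat n) * (g : Mat n) = 1 := by
  rw [← Matrix.SpecialLinearGroup.coe_mul, inv_mul_cancel, Matrix.SpecialLinearGroup.coe_one]

theorem mul_inv_coe (g : SLn n) : (g : Mat n) * ((g⁻¹ : SLn n) : Mat n) = 1 := by
  rw [← Matrix.SpecialLinearGroup.coe_mul, mul_inv_cancel, Matrix.SpecialLinearGroup.coe_one]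

theorem rv_decomp (x : RV n) : x = (Fin.cons 0 (Fin.tail x) : RV n) + x 0 • eps n :=
  vec_decomp (n := n + 1) x

theorem cons_tail_of_zero (x : RV n) (hx : x 0 = 0) : (Fin.cons 0 (Fin.tail x) : RV n) = x :=
  cons_zero_tail (n := n + 1) x hx

/-- conjugation formula -/
theorem conj_elt {g : SLn n} (hg : g ∈ Msub n) (v : Vec n) :
    g * elt n v * g⁻¹ =
      elt n (Fin.tail ((Fin.cons 0 v : RV n) ᵥ* ((g⁻¹ : SLn n) : Mat n))) := by
  have hginv := (Msub n).inv_mem hg
  set b : RV n := Fin.cons 0 v with hb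
  set b' : RV n := b ᵥ* ((g⁻¹ : SLn n) : Mat n) with hb'
  have hb'0 : b' 0 = 0 := by
    rw [← dot_eps b', hb', ← Matrix.dotProduct_mulVec, hginv.1, dot_eps, hb, Fin.cons_zero]
  have h1 : g * elt n v = elt n (Fin.tail b') * g := by
    apply Subtype.ext
    rw [Matrix.SpecialLinearGroup.coe_mul, Matrix.SpecialLinearGroup.coe_mul, coe_elt, coe_elt,
      cons_tail_of_zero b' hb'0, mul_tmat _ _ hg.1, tmat_mul', hb', Matrix.vecMul_vecMul,
      inv_mul_coe, Matrix.vecMul_one]
  rw [h1]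
  group

theorem Msub_le_normalizer : Msub n ≤ Subgroup.normalizer ((Usub n : Subgroup (SLn n)) : Set (SLn n)) := by
  intro g hg
  apply mem_normalizer_of_conj_mem
  rintro _ ⟨v, rfl⟩
  rw [conj_elt hg]
  exact ⟨_, rfl⟩

theorem U_inf_M : Usub n ⊓ Msub n = ⊥ := by
  rw [eq_bot_iff]
  rintro g ⟨⟨v, rfl⟩, hM⟩
  rw [Subgroup.mem_bot]
  have h1 : eps n ᵥ* ((elt n v : SLn n) : Mat n) = eps n := hM.2
  rw [coe_elt, vecMul_tmat] at h1
  have h2 : (eps n) 0 = 1 := by simp [eps]
  rw [h2, one_smul] at h1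
  have h3 : (Fin.cons 0 v : RV n) = 0 := by
    have := add_left_cancel (h1.trans (add_zero _).symm)
    exact this
  have h4 := congrArg Fin.tail h3
  rw [Fin.tail_cons] at h4
  have h5 : v = 0 := h4
  rw [h5, elt_zero]

theorem M_faith (g : SLn n) (hg : g ∈ Msub n) (h : ∀ v, g * elt n v * g⁻¹ = elt n v) : g = 1 := by
  apply Subtype.ext
  rw [Matrix.SpecialLinearGroup.coe_one]
  apply mat_ext_vecMul
  intro x
  rw [Matrix.vecMul_one]
  have key : ∀ v : Vec n, (Fin.cons 0 v : RV n) ᵥ* (g : Mat n) = Fin.cons 0 v := by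
    intro v
    have h1 : g * elt n v = elt n v * g := by
      have := h v
      calc g * elt n v = (g * elt n v * g⁻¹) * g := by group
        _ = elt n v * g := by rw [this]
    have h2 := congrArg Subtype.val h1
    rw [Matrix.SpecialLinearGroup.coe_mul, Matrix.SpecialLinearGroup.coe_mul, coe_elt,
      mul_tmat _ _ hg.1, tmat_mul'] at h2
    exact (vecMulVec_eps_inj (add_left_cancel h2)).symm
  conv_lhs => rw [rv_decomp x]
  rw [Matrix.add_vecMul, Matrix.smul_vecMul, key, hg.2]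
  exact (rv_decomp x).symm

end Cfsg.Agent.Helper28.HoloSL
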