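import Mathlib
import Cfsg.Prelude.Def_MonsterType
import Cfsg.Agent.Lib.Helper28.HoloSL

/-!
# The holomorph datum inside `SL_{n+2}(2)`, continued

Shared library of helper28.
-/

set_option autoImplicit false

namespace Cfsg.Agent.Helper28.HoloSL

open Cfsg.Agent.Helper28.Holo Cfsg.Agent.Helper28.LargeExtra Matrix

/-- block diagonal additive automorphism `1 ⊕ f` -/
def blockAdd {k : ℕ} (f : (Fin k → ZMod 2) ≃+ (Fin k → ZMod 2)) :
    (Fin (k + 1) → ZMod 2) ≃+ (Fin (k + 1) → ZMod 2) where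
  toFun v := Fin.cons (v 0) (f (Fin.tail v))
  invFun v := Fin.cons (v 0) (f.symm (Fin.tail v))
  left_inv v := by
    show (Fin.cons ((Fin.cons (v 0) (f (Fin.tail v)) : Fin (k + 1) → ZMod 2) 0)
      (f.symm (Fin.tail (Fin.cons (v 0) (f (Fin.tail v)) : Fin (k + 1) → ZMod 2))) :
        Fin (k + 1) → ZMod 2) = v
    rw [Fin.cons_zero, Fin.tail_cons, AddEquiv.symm_apply_apply, Fin.cons_self_tail]
  right_inv v := by
    show (Fin.cons ((Fin.cons (v 0) (f.symm (Fin.tail v)) : Fin (k + 1) → ZMod 2) 0)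
      (f (Fin.tail (Fin.cons (v 0) (f.symm (Fin.tail v)) : Fin (k + 1) → ZMod 2))) :
        Fin (k + 1) → ZMod 2) = v
    rw [Fin.cons_zero, Fin.tail_cons, AddEquiv.apply_symm_apply, Fin.cons_self_tail]
  map_add' v w := by
    show (Fin.cons ((v + w) 0) (f (Fin.tail (v + w))) : Fin (k + 1) → ZMod 2) =
      Fin.cons (v 0) (f (Fin.tail v)) + Fin.cons (w 0) (f (Fin.tail w))
    rw [Pi.add_apply, tail_add, map_add, cons_add]

theorem blockAdd_apply {k : ℕ} (f : (Fin k → ZMod 2) ≃+ (Fin k → ZMod 2))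
    (v : Fin (k + 1) → ZMod 2) : blockAdd f v = Fin.cons (v 0) (f (Fin.tail v)) := rfl

/-- the matrix whose `i`-th row is `B eᵢ` -/
def rowMat {k : ℕ} (B : (Fin k → ZMod 2) →+ (Fin k → ZMod 2)) : Matrix (Fin k) (Fin k) (ZMod 2) :=
  Matrix.of fun i j => B (Pi.single i 1) j

theorem vecMul_rowMat {k : ℕ} (B : (Fin k → ZMod 2) →+ (Fin k → ZMod 2)) (x : Fin k → ZMod 2) :
    x ᵥ* rowMat B = B x := by
  funext j
  conv_rhs => rw [← Finset.univ_sum_single x]
  rw [map_sum, Finset.sum_apply]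
  simp only [Matrix.vecMul, dotProduct]
  apply Finset.sum_congr rfl
  intro i _
  rcases zmod2_cases (x i) with e | e <;> rw [e]
  · simp
  · simp [rowMat]

theorem rowMat_mul_symm {k : ℕ} (B : (Fin k → ZMod 2) ≃+ (Fin k → ZMod 2)) :
    rowMat B.toAddMonoidHom * rowMat B.symm.toAddMonoidHom = 1 := by
  apply mat_ext_vecMul
  intro x
  rw [← Matrix.vecMul_vecMul, vecMul_rowMat, vecMul_rowMat, Matrix.vecMul_one]
  exact B.symm_apply_apply x

variable {n : ℕ}

theorem M_full (f : Vec n ≃+ Vec n) :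
    ∃ m ∈ Msub n, ∀ v, m * elt n v * m⁻¹ = elt n (f v) := by
  let B : RV n ≃+ RV n := blockAdd f.symm
  have hdet : (rowMat B.toAddMonoidHom).det = 1 :=
    det_eq_one_of_mul_eq_one _ _ (rowMat_mul_symm B)
  let g : SLn n := ⟨rowMat B.toAddMonoidHom, hdet⟩
  have hvm : ∀ x : RV n, x ᵥ* (g : Mat n) = B x := fun x => vecMul_rowMat _ x
  have hgM : g ∈ Msub n := by
    constructor
    · funext i
      show (fun j => rowMat B.toAddMonoidHom i j) ⬝ᵥ eps n = eps n i
      rw [dot_eps]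
      show B (Pi.single i 1) 0 = eps n i
      rw [blockAdd_apply, Fin.cons_zero]
      simp only [eps, Pi.single_apply]
      by_cases hi : i = 0
      · subst hi; simp
      · rw [if_neg (Ne.symm hi), if_neg hi]
    · rw [hvm, blockAdd_apply]
      have h1 : Fin.tail (eps n) = 0 := tail_e0 (n := n + 1)
      have h2 : (eps n) 0 = 1 := by simp [eps]
      rw [h1, h2, map_zero]
      exact cons_one_zero (n := n + 1)
  refine ⟨g, hgM, fun v => ?_⟩
  have h1 : g * elt n v = elt n (f v) * g := by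
    apply Subtype.ext
    rw [Matrix.SpecialLinearGroup.coe_mul, Matrix.SpecialLinearGroup.coe_mul, coe_elt, coe_elt,
      mul_tmat _ _ hgM.1, tmat_mul', hvm, blockAdd_apply, Fin.cons_zero, Fin.tail_cons,
      AddEquiv.symm_apply_apply]
  rw [h1]
  group

theorem cent_le (v : Vec n) (hv : v ≠ 0) :
    Subgroup.centralizer ({elt n v} : Set (SLn n)) ≤ Usub n ⊔ Msub n := by
  intro g hg
  rw [Subgroup.mem_centralizer_singleton_iff] at hg
  have h2 := congrArg Subtype.val hg
  rw [Matrix.SpecialLinearGroup.coe_mul, Matrix.SpecialLinearGroup.coe_mul, coe_elt,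
    tmat_mul'] at h2
  unfold tmat at h2
  rw [Matrix.mul_add, Matrix.mul_one, Matrix.mul_vecMulVec] at h2
  have h3 := add_left_cancel h2
  obtain ⟨j, hj⟩ : ∃ j, v j ≠ 0 := by
    by_contra hc
    push Not at hc
    exact hv (funext hc)
  have hvj : v j = 1 := by
    rcases zmod2_cases (v j) with e | e
    · exact absurd e hj
    · exact e
  have h4 : ∀ i, ((g : Mat n) *ᵥ eps n) i =
      eps n i * ((Fin.cons 0 v : RV n) ᵥ* (g : Mat n)) j.succ := by
    intro i
    have := congrFun (congrFun h3 i) j.succ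
    rw [Matrix.vecMulVec_apply, Matrix.vecMulVec_apply, Fin.cons_succ, hvj, mul_one] at this
    exact this
  obtain ⟨c, hc⟩ : ∃ c : ZMod 2, c = ((Fin.cons 0 v : RV n) ᵥ* (g : Mat n)) j.succ := ⟨_, rfl⟩
  rw [← hc] at h4
  have h5 : (g : Mat n) *ᵥ eps n = c • eps n := by
    funext i
    rw [h4 i, Pi.smul_apply, smul_eq_mul, mul_comm]
  have hc1 : c = 1 := by
    rcases zmod2_cases c with e | e
    · exfalso
      rw [e, zero_smul] at h5
      have h6 : eps n = 0 := by
        calc eps n = (((g⁻¹ : SLn n) : Mat n) * (g : Mat n)) *ᵥ eps n := by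
              rw [inv_mul_coe, Matrix.one_mulVec]
          _ = ((g⁻¹ : SLn n) : Mat n) *ᵥ ((g : Mat n) *ᵥ eps n) := by
              rw [Matrix.mulVec_mulVec]
          _ = 0 := by rw [h5, Matrix.mulVec_zero]
      have h7 := congrFun h6 0
      simp [eps] at h7
    · exact e
  rw [hc1, one_smul] at h5
  obtain ⟨r, hr⟩ : ∃ r : RV n, r = eps n ᵥ* (g : Mat n) := ⟨_, rfl⟩
  have heps0 : (eps n) 0 = 1 := by simp [eps]
  have hr0 : r 0 = 1 := by
    rw [← dot_eps r, hr, ← Matrix.dotProduct_mulVec, h5, dot_eps, heps0]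
  have hb'0 : (r + eps n) 0 = 0 := by
    rw [Pi.add_apply, hr0, heps0]
    decide
  have hu : ((elt n (Fin.tail (r + eps n)) : SLn n) : Mat n) = tmat n (r + eps n) := by
    rw [coe_elt, cons_tail_of_zero _ hb'0]
  have hm : g * elt n (Fin.tail (r + eps n)) ∈ Msub n := by
    constructor
    · rw [Matrix.SpecialLinearGroup.coe_mul, ← Matrix.mulVec_mulVec, hu,
        tmat_mulVec_eps _ hb'0, h5]
    · rw [Matrix.SpecialLinearGroup.coe_mul, ← Matrix.vecMul_vecMul, hu, ← hr, vecMul_tmat,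
        hr0, one_smul, ← add_assoc, vec_add_self (n := n + 1), zero_add]
  have e : g = (g * elt n (Fin.tail (r + eps n))) * elt n (Fin.tail (r + eps n)) := by
    rw [mul_assoc, elt_sq, mul_one]
  rw [e]
  exact Subgroup.mul_mem _ (Subgroup.mem_sup_right hm) (Subgroup.mem_sup_left ⟨_, rfl⟩)

theorem coe_elt_e0 : ((elt n (e0 n) : SLn n) : Mat n) = Matrix.transvection 0 1 1 := by
  rw [coe_elt]
  unfold tmat Matrix.transvection
  congr 1
  ext i j
  rw [Matrix.vecMulVec_apply]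
  refine Fin.cases ?_ (fun j' => ?_) j
  · simp [eps, Matrix.single_apply]
  · rw [Fin.cons_succ]
    by_cases hj : j' = 0
    · subst hj
      simp [eps, e0, Matrix.single_apply, Pi.single_apply, eq_comm]
    · have h1 : (1 : Fin (n + 2)) ≠ j'.succ := by
        intro e
        apply hj
        have : (0 : Fin (n + 1)).succ = j'.succ := e
        exact (Fin.succ_injective _ this).symm
      simp [eps, e0, Matrix.single_apply, Pi.single_apply, hj, h1]

theorem data (n : ℕ) : Data (Usub n) (Msub n) n (elt n) where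
  elt_add := elt_add
  elt_inj := elt_inj
  elt_mem := fun v => ⟨v, rfl⟩
  elt_surj := fun _ hu => hu
  norm := Msub_le_normalizer
  inf := U_inf_M
  faith := M_faith
  full := M_full
  cent := cent_le

theorem gl_equiv_sl (k : ℕ) :
    Nonempty (Matrix.GeneralLinearGroup (Fin k) (ZMod 2) ≃*
      Matrix.SpecialLinearGroup (Fin k) (ZMod 2)) := by
  have hsurj : Function.Surjective
      (Matrix.SpecialLinearGroup.toGL :
        Matrix.SpecialLinearGroup (Fin k) (ZMod 2) → Matrix.GeneralLinearGroup (Fin k) (ZMod 2)) := by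
    intro A
    have hdet : (A : Matrix (Fin k) (Fin k) (ZMod 2)).det = 1 :=
      det_eq_one_of_mul_eq_one _ ((A⁻¹ : Matrix.GeneralLinearGroup (Fin k) (ZMod 2)) :
        Matrix (Fin k) (Fin k) (ZMod 2)) (by
          rw [← Matrix.GeneralLinearGroup.coe_mul, mul_inv_cancel,
            Matrix.GeneralLinearGroup.coe_one])
    exact ⟨⟨A.val, hdet⟩, Units.ext rfl⟩
  exact ⟨(MulEquiv.ofBijective Matrix.SpecialLinearGroup.toGL
    ⟨Matrix.SpecialLinearGroup.toGL_injective, hsurj⟩).symm⟩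

theorem main_SL (n : ℕ) (hn : 1 ≤ n) (z : SLn n)
    (hz : (z : Mat n) = Matrix.transvection 0 1 1) (Q : Subgroup (SLn n))
    (hQ : Q = (Cfsg.pCore 2 ↥(Subgroup.centralizer ({z} : Set (SLn n)))).map
      (Subgroup.centralizer ({z} : Set (SLn n))).subtype) :
    Cfsg.IsExtraspecial 2 ↥Q ∧ Nat.card ↥Q = 2 ^ (2 * n + 1) ∧
    (∃ E : Subgroup (SLn n), E ≤ Q ∧ Cfsg.IsElementaryAbelian 2 E ∧
      Nat.card ↥E = 2 ^ (n + 1)) ∧
    Cfsg.IsLargeExtraspecial Q ∧
    ∃ K : Subgroup (SLn n), K ≤ Subgroup.centralizer ({z} : Set (SLn n)) ∧ Q ⊓ K = ⊥ ∧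
      Q ⊔ K = Subgroup.centralizer ({z} : Set (SLn n)) ∧
      Nonempty (↥K ≃* Matrix.SpecialLinearGroup (Fin n) (ZMod 2)) := by
  have hzelt : z = elt n (e0 n) := Subtype.ext (hz.trans coe_elt_e0.symm)
  subst hzelt
  obtain ⟨h1, h2, h3, h4, K, hK1, hK2, hK3, ⟨e⟩⟩ := (data n).main hn Q hQ
  obtain ⟨e'⟩ := gl_equiv_sl n
  exact ⟨h1, h2, h3, h4, K, hK1, hK2, hK3, ⟨e.trans e'⟩⟩

end Cfsg.Agent.Helper28.HoloSL
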