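import Mathlib
import Cfsg.Prelude.Def_CaseTheorems
import Cfsg.Agent.Lib.Helper28.FratRank

/-!
# Linear 2-groups: preliminaries

Scalar actions on modules of prime cardinality, restriction of a linear action to an invariant
submodule, groups with a cyclic subgroup of index two.
-/

set_option autoImplicit false

namespace Cfsg.Agent.Helper28.IrrTwo

open Cfsg.Agent.Helper28.FratRank

section Scalar

variable {r : ℕ} [Fact r.Prime] {V : Type*} [AddCommGroup V] [Module (ZMod r) V] [Finite V]

/-- a group acting faithfully and linearly on a module with `r` elements embeds into the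
multiplicative monoid of `ZMod r` -/
theorem exists_injective_scalar (hcard : Nat.card V = r) {P : Type*} [Group P]
    (ρ : P →* (V ≃ₗ[ZMod r] V)) (hρ : Function.Injective ρ) :
    ∃ f : P →* ZMod r, Function.Injective f ∧ ∀ g, f g ≠ 0 := by
  classical
  have hr : r.Prime := Fact.out
  haveI : Nontrivial V := by
    rw [← Finite.one_lt_card_iff_nontrivial, hcard]
    exact hr.one_lt
  obtain ⟨v₀, hv₀⟩ := exists_ne (0 : V)
  have hinj : Function.Injective (fun c : ZMod r => c • v₀) := smul_left_injective (ZMod r) hv₀
  have hbij : Function.Bijective (fun c : ZMod r => c • v₀) := by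
    apply hinj.bijective_of_nat_card_le
    rw [hcard, Nat.card_zmod]
  have hsurj := hbij.2
  choose f hf using fun g : P => hsurj (ρ g v₀)
  have hf' : ∀ g, f g • v₀ = ρ g v₀ := hf
  have h1 : f 1 = 1 := by
    apply hinj
    show f 1 • v₀ = (1 : ZMod r) • v₀
    rw [hf', map_one, one_smul]
    rfl
  have hmul : ∀ g h, f (g * h) = f g * f h := by
    intro g h
    apply hinj
    show f (g * h) • v₀ = (f g * f h) • v₀
    rw [hf', map_mul, LinearEquiv.mul_apply, ← hf' h, map_smul, ← hf' g, smul_smul, mul_comm]
  refine ⟨{ toFun := f, map_one' := h1, map_mul' := hmul }, ?_, ?_⟩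
  · intro g h hgh
    have hgh' : f g = f h := hgh
    apply hρ
    apply LinearEquiv.ext
    intro w
    obtain ⟨c, rfl⟩ := hsurj w
    show ρ g (c • v₀) = ρ h (c • v₀)
    rw [map_smul, map_smul, ← hf' g, ← hf' h, hgh']
  · intro g hg
    have hg' : f g = 0 := hg
    have := hf' g
    rw [hg', zero_smul] at this
    apply hv₀
    have h2 : ρ g v₀ = ρ g 0 := by rw [← this, map_zero]
    exact (ρ g).injective h2

theorem isCyclic_of_card_eq_prime (hcard : Nat.card V = r) {P : Type*} [Group P] [Finite P]
    (ρ : P →* (V ≃ₗ[ZMod r] V)) (hρ : Function.Injective ρ) : IsCyclic P := by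
  obtain ⟨f, hf, -⟩ := exists_injective_scalar hcard ρ hρ
  exact isCyclic_of_subgroup_isDomain f hf

theorem card_le_of_card_eq_prime (hcard : Nat.card V = r) {P : Type*} [Group P] [Finite P]
    (ρ : P →* (V ≃ₗ[ZMod r] V)) (hρ : Function.Injective ρ) : Nat.card P ≤ r - 1 := by
  classical
  obtain ⟨f, hf, hne⟩ := exists_injective_scalar hcard ρ hρ
  have hr : r.Prime := Fact.out
  haveI : NeZero r := ⟨hr.ne_zero⟩
  let F : P → (ZMod r)ˣ := fun g => Units.mk0 (f g) (hne g)
  have hF : Function.Injective F := by
    intro g h hgh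
    apply hf
    have := congrArg Units.val hgh
    simpa [F] using this
  have h1 := Nat.card_le_card_of_injective F hF
  have h2 : Nat.card (ZMod r)ˣ = r - 1 := by
    rw [Nat.card_eq_fintype_card, ZMod.card_units]
  rwa [h2] at h1

end Scalar

section Restrict

variable {r : ℕ} {V : Type*} [AddCommGroup V] [Module (ZMod r) V]

/-- restriction of a linear action to an invariant submodule -/
noncomputable def restrictHom {H : Type*} [Group H] (τ : H →* (V ≃ₗ[ZMod r] V))
    (U : Submodule (ZMod r) V) (hU : ∀ h : H, ∀ w ∈ U, τ h w ∈ U) :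
    H →* (↥U ≃ₗ[ZMod r] ↥U) where
  toFun h :=
    LinearEquiv.ofLinear
      ((τ h).toLinearMap.restrict (p := U) (q := U) (fun w hw => hU h w hw))
      ((τ h⁻¹).toLinearMap.restrict (p := U) (q := U) (fun w hw => hU h⁻¹ w hw))
      (by
        apply LinearMap.ext
        intro w
        apply Subtype.ext
        simp only [LinearMap.comp_apply, LinearMap.restrict_coe_apply, LinearEquiv.coe_coe,
          LinearMap.id_apply]
        rw [← LinearEquiv.mul_apply, ← map_mul, mul_inv_cancel, map_one]
        rfl)
      (by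
        apply LinearMap.ext
        intro w
        apply Subtype.ext
        simp only [LinearMap.comp_apply, LinearMap.restrict_coe_apply, LinearEquiv.coe_coe,
          LinearMap.id_apply]
        rw [← LinearEquiv.mul_apply, ← map_mul, inv_mul_cancel, map_one]
        rfl)
  map_one' := by
    apply LinearEquiv.ext
    intro w
    apply Subtype.ext
    simp only [LinearEquiv.ofLinear_apply, LinearMap.restrict_coe_apply, LinearEquiv.coe_coe]
    rw [map_one]
    rfl
  map_mul' g h := by
    apply LinearEquiv.ext
    intro w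
    apply Subtype.ext
    simp only [LinearEquiv.ofLinear_apply, LinearMap.restrict_coe_apply, LinearEquiv.coe_coe,
      LinearEquiv.mul_apply]
    rw [map_mul]
    rfl

@[simp]
theorem restrictHom_apply {H : Type*} [Group H] (τ : H →* (V ≃ₗ[ZMod r] V))
    (U : Submodule (ZMod r) V) (hU : ∀ h : H, ∀ w ∈ U, τ h w ∈ U) (h : H) (w : ↥U) :
    ((restrictHom τ U hU h w : ↥U) : V) = τ h (w : V) := rfl

end Restrict

section CycTwo

/-- a finite group with an element of half the group order has a cyclic subgroup of index two -/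
theorem exists_cyclic_index_two_of_orderOf {X : Type*} [Group X] [Finite X] (x : X)
    (h : 2 * orderOf x = Nat.card X) : ∃ C : Subgroup X, IsCyclic ↥C ∧ C.index = 2 := by
  refine ⟨Subgroup.zpowers x, inferInstance, ?_⟩
  have h1 := Subgroup.index_mul_card (Subgroup.zpowers x)
  rw [Nat.card_zpowers, ← h] at h1
  have hpos : 0 < orderOf x := orderOf_pos x
  exact Nat.eq_of_mul_eq_mul_right hpos h1

theorem exists_cyclic_index_two_of_quaternion {X : Type*} [Group X] [Finite X] (n : ℕ)
    (e : X ≃* QuaternionGroup n) : ∃ C : Subgroup X, IsCyclic ↥C ∧ C.index = 2 := by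
  haveI : Finite (QuaternionGroup n) := Finite.of_equiv _ e.toEquiv
  have hn : n ≠ 0 := by
    intro h
    have := orderOf_pos (QuaternionGroup.a 1 : QuaternionGroup n)
    rw [QuaternionGroup.orderOf_a_one, h] at this
    simp at this
  haveI : NeZero n := ⟨hn⟩
  have hcard : Nat.card X = 4 * n := by
    rw [Nat.card_congr e.toEquiv, Nat.card_eq_fintype_card, QuaternionGroup.card]
  apply exists_cyclic_index_two_of_orderOf (e.symm (QuaternionGroup.a 1))
  rw [MulEquiv.orderOf_eq, QuaternionGroup.orderOf_a_one, hcard]
  ring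

theorem exists_cyclic_index_two_of_dihedral {X : Type*} [Group X] [Finite X] (n : ℕ)
    (e : X ≃* DihedralGroup n) : ∃ C : Subgroup X, IsCyclic ↥C ∧ C.index = 2 := by
  have hcard : Nat.card X = 2 * n := by
    rw [Nat.card_congr e.toEquiv, DihedralGroup.nat_card]
  apply exists_cyclic_index_two_of_orderOf (e.symm (DihedralGroup.r 1))
  rw [MulEquiv.orderOf_eq, DihedralGroup.orderOf_r_one, hcard]

theorem exists_cyclic_index_two_of_quasiDihedral {X : Type*} [Group X] [Finite X]
    (h : Cfsg.IsQuasiDihedral X) : ∃ C : Subgroup X, IsCyclic ↥C ∧ C.index = 2 := by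
  obtain ⟨n, -, hcard, x, y, hx, -, -⟩ := h
  apply exists_cyclic_index_two_of_orderOf x
  rw [hx, hcard, pow_succ]
  ring

end CycTwo

end Cfsg.Agent.Helper28.IrrTwo
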