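import Mathlib
import Cfsg.Agent.Lib.Helper28.IrrTwoA

/-!
# Linear 2-groups: restriction to a block of imprimitivity
-/

set_option autoImplicit false

namespace Cfsg.Agent.Helper28.IrrTwo

open Cfsg.Agent.Helper28.FratRank

theorem perm_fin_two_of_orderOf : ∀ σ : Equiv.Perm (Fin 2), σ ≠ 1 → σ 0 = 1 ∧ σ 1 = 0 := by
  decide

section

variable {r : ℕ} [Fact r.Prime] {V : Type*} [AddCommGroup V] [Module (ZMod r) V]
  {P : Type*} [Group P]

/-- if `P` is irreducible on `V`, `H` has index two, `A` and `g₀ A` are disjoint, then `H` is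
irreducible on `A` -/
theorem restrict_irreducible (ρ : P →* (V ≃ₗ[ZMod r] V))
    (hirr : ∀ W : Submodule (ZMod r) V, (∀ g : P, ∀ w ∈ W, ρ g w ∈ W) → W = ⊥ ∨ W = ⊤)
    (H : Subgroup P) (hidx : H.index = 2) (g₀ : P) (hg₀ : g₀ ∉ H)
    (A B : Submodule (ZMod r) V) (hAB : A.map (ρ g₀ : V →ₗ[ZMod r] V) = B) (hdisj : Disjoint A B)
    (U : Submodule (ZMod r) V) (hUA : U ≤ A) (hU : ∀ h ∈ H, ∀ w ∈ U, ρ h w ∈ U) :
    U = ⊥ ∨ U = A := by
  have hn : H.Normal := Subgroup.normal_of_index_eq_two hidx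
  set T := U ⊔ U.map (ρ g₀ : V →ₗ[ZMod r] V) with hT
  have hTH : ∀ h ∈ H, ∀ w ∈ T, ρ h w ∈ T := by
    intro h hh w hw
    rw [hT, Submodule.mem_sup] at hw
    obtain ⟨u, hu, v, hv, rfl⟩ := hw
    rw [Submodule.mem_map] at hv
    obtain ⟨u', hu', rfl⟩ := hv
    rw [map_add]
    apply Submodule.add_mem
    · exact Submodule.mem_sup_left (hU h hh u hu)
    · apply Submodule.mem_sup_right
      rw [Submodule.mem_map]
      refine ⟨ρ (g₀⁻¹ * h * g₀) u', hU _ ?_ u' hu', ?_⟩
      · have := hn.conj_mem h hh g₀⁻¹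
        simpa using this
      · show ρ g₀ (ρ (g₀⁻¹ * h * g₀) u') = ρ h (ρ g₀ u')
        rw [← LinearEquiv.mul_apply, ← LinearEquiv.mul_apply, ← map_mul, ← map_mul]
        congr 2
        group
  have hTg : ∀ w ∈ T, ρ g₀ w ∈ T := by
    intro w hw
    rw [hT, Submodule.mem_sup] at hw
    obtain ⟨u, hu, v, hv, rfl⟩ := hw
    rw [Submodule.mem_map] at hv
    obtain ⟨u', hu', rfl⟩ := hv
    rw [map_add]
    apply Submodule.add_mem
    · apply Submodule.mem_sup_right
      exact Submodule.mem_map_of_mem hu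
    · apply Submodule.mem_sup_left
      have h2 : g₀ * g₀ ∈ H := Subgroup.mul_self_mem_of_index_two hidx g₀
      have := hU _ h2 u' hu'
      rw [map_mul, LinearEquiv.mul_apply] at this
      exact this
  have hTP : ∀ g : P, ∀ w ∈ T, ρ g w ∈ T := by
    intro g w hw
    by_cases hg : g ∈ H
    · exact hTH g hg w hw
    · have h1 : g₀⁻¹ * g ∈ H := by
        rw [Subgroup.mul_mem_iff_of_index_two hidx, Subgroup.inv_mem_iff]
        exact ⟨fun h => absurd h hg₀, fun h => absurd h hg⟩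
      have h2 : g = g₀ * (g₀⁻¹ * g) := by group
      rw [h2, map_mul, LinearEquiv.mul_apply]
      exact hTg _ (hTH _ h1 w hw)
  rcases hirr T hTP with h | h
  · left
    rw [eq_bot_iff, ← h]
    exact le_sup_left
  · right
    apply le_antisymm hUA
    intro a ha
    have haT : a ∈ T := by rw [h]; exact Submodule.mem_top
    rw [hT, Submodule.mem_sup] at haT
    obtain ⟨u, hu, v, hv, rfl⟩ := haT
    have hvB : v ∈ B := by
      rw [← hAB]
      exact Submodule.map_mono hUA hv
    have hvA : v ∈ A := by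
      have : v = (u + v) - u := by abel
      rw [this]
      exact A.sub_mem ha (hUA hu)
    have hv0 : v = 0 := by
      have := (Submodule.disjoint_def.mp hdisj) v hvA hvB
      exact this
    rw [hv0, add_zero]
    exact hu

end

end Cfsg.Agent.Helper28.IrrTwo
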