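import Mathlib
import Cfsg.Agent.S3380
import Cfsg.Agent.Lib.Helper28.IrrTwoB

/-!
# Linear 2-groups: the Frattini index bound

A `2`-group acting faithfully and irreducibly on a finite module `V` over `ZMod r`, `r` odd:
every subgroup has Frattini index at most `beta (card V) ≤ card V - 1`.
-/

set_option autoImplicit false

universe u

namespace Cfsg.Agent.Helper28.IrrTwo

open Cfsg.Agent.Helper28.FratRank

/-- the bound -/
def beta (n : ℕ) : ℕ := if n = 3 then 2 else (n - 1) / 2

theorem two_le_beta {n : ℕ} (hodd : Odd n) (h3 : 3 ≤ n) : 2 ≤ beta n := by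
  unfold beta
  split_ifs with h
  · exact le_refl 2
  · obtain ⟨k, hk⟩ := hodd
    omega

theorem four_le_beta {n : ℕ} (h9 : 9 ≤ n) : 4 ≤ beta n := by
  unfold beta
  split_ifs with h
  · omega
  · omega

theorem beta_le {n : ℕ} (h3 : 3 ≤ n) : beta n ≤ n - 1 := by
  unfold beta
  split_ifs with h
  · omega
  · omega

theorem beta_sq {w : ℕ} (hodd : Odd w) (h3 : w ≠ 3) : beta w * beta w * 2 ≤ beta (w * w) := by
  obtain ⟨k, rfl⟩ := hodd
  have h1 : beta (2 * k + 1) = k := by
    unfold beta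
    rw [if_neg h3]
    omega
  have h2 : (2 * k + 1) * (2 * k + 1) ≠ 3 := by
    intro h
    rcases Nat.lt_or_ge k 1 with hk | hk
    · interval_cases k
      simp at h
    · nlinarith
  have h3' : beta ((2 * k + 1) * (2 * k + 1)) = 2 * (k * k) + 2 * k := by
    unfold beta
    rw [if_neg h2]
    have : (2 * k + 1) * (2 * k + 1) - 1 = 2 * (2 * (k * k) + 2 * k) := by
      have : (2 * k + 1) * (2 * k + 1) = 2 * (2 * (k * k) + 2 * k) + 1 := by ring
      omega
    rw [this, Nat.mul_div_cancel_left _ (by norm_num : 0 < 2)]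
  rw [h1, h3']
  nlinarith

section

variable {r : ℕ} [Fact r.Prime]

theorem card_eq_pow (V : Type*) [AddCommGroup V] [Module (ZMod r) V] [Finite V] :
    Nat.card V = r ^ Module.finrank (ZMod r) V := by
  haveI : Module.Finite (ZMod r) V := Module.Finite.of_finite
  rw [Module.natCard_eq_pow_finrank (K := ZMod r) (V := V), Nat.card_zmod]

theorem card_odd (hr2 : r ≠ 2) (V : Type*) [AddCommGroup V] [Module (ZMod r) V] [Finite V] :
    Odd (Nat.card V) := by
  have hr : r.Prime := Fact.out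
  rw [card_eq_pow (r := r) V]
  exact (hr.odd_of_ne_two hr2).pow

theorem three_le_card (hr2 : r ≠ 2) (V : Type*) [AddCommGroup V] [Module (ZMod r) V] [Finite V]
    [Nontrivial V] : 3 ≤ Nat.card V := by
  have h1 := card_odd hr2 V
  have h2 : 1 < Nat.card V := Finite.one_lt_card
  obtain ⟨k, hk⟩ := h1
  omega

/-- the imprimitive step -/
theorem step (hr2 : r ≠ 2) {V : Type u} [AddCommGroup V] [Module (ZMod r) V] [Finite V]
    [Nontrivial V] {P : Type u} [Group P] [Finite P] (hP : IsPGroup 2 P)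
    (ρ : P →* (V ≃ₗ[ZMod r] V)) (hρ : Function.Injective ρ)
    (hirr : ∀ W : Submodule (ZMod r) V, (∀ g : P, ∀ w ∈ W, ρ g w ∈ W) → W = ⊥ ∨ W = ⊤)
    (IH : ∀ (V' : Type u) [AddCommGroup V'] [Module (ZMod r) V'] [Finite V'] [Nontrivial V']
      (P' : Type u) [Group P'] [Finite P'], IsPGroup 2 P' →
      ∀ ρ' : P' →* (V' ≃ₗ[ZMod r] V'), Function.Injective ρ' →
      (∀ W : Submodule (ZMod r) V', (∀ g : P', ∀ w ∈ W, ρ' g w ∈ W) → W = ⊥ ∨ W = ⊤) →
      Nat.card V' < Nat.card V → FB P' (beta (Nat.card V')))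
    (H : Subgroup P) (W : Fin 2 → Submodule (ZMod r) V) (hidx : H.index = 2)
    (hsup : iSup W = ⊤) (hind : iSupIndep W)
    (hinv : ∀ h ∈ H, ∀ i, ∀ w ∈ W i, ρ h w ∈ W i)
    (hunf : ∀ i, ∃ h ∈ H, h ≠ 1 ∧ ∀ w ∈ W i, ρ h w = w)
    (hperm : ∀ g : P, g ∉ H → ∃ σ : Equiv.Perm (Fin 2), orderOf σ = 2 ∧
      ∀ i, (W i).map (ρ g : V →ₗ[ZMod r] V) = W (σ i)) :
    FB P (beta (Nat.card V)) := by
  classical
  have hr : r.Prime := Fact.out
  haveI : Fact (Nat.Prime 2) := ⟨Nat.prime_two⟩
  haveI hn : H.Normal := Subgroup.normal_of_index_eq_two hidx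
  -- an element outside `H`
  obtain ⟨g₀, hg₀⟩ : ∃ g₀ : P, g₀ ∉ H := by
    by_contra hcon
    push Not at hcon
    have : H = ⊤ := by rw [eq_top_iff]; intro x _; exact hcon x
    rw [this, Subgroup.index_top] at hidx
    norm_num at hidx
  obtain ⟨σ, hσ2, hσ⟩ := hperm g₀ hg₀
  have hσne : σ ≠ 1 := by
    intro h; rw [h, orderOf_one] at hσ2; norm_num at hσ2
  obtain ⟨hσ0, hσ1⟩ := perm_fin_two_of_orderOf σ hσne
  have h01 : (W 0).map (ρ g₀ : V →ₗ[ZMod r] V) = W 1 := by rw [hσ 0, hσ0]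
  have h10 : (W 1).map (ρ g₀ : V →ₗ[ZMod r] V) = W 0 := by rw [hσ 1, hσ1]
  have hdisj : Disjoint (W 0) (W 1) := hind.pairwiseDisjoint (by decide : (0 : Fin 2) ≠ 1)
  have hsup2 : W 0 ⊔ W 1 = ⊤ := by
    rw [eq_top_iff, ← hsup]
    apply iSup_le
    intro i
    fin_cases i
    · exact le_sup_left
    · exact le_sup_right
  have hcompl : IsCompl (W 0) (W 1) := ⟨hdisj, codisjoint_iff.mpr hsup2⟩
  have hcardV : Nat.card V = Nat.card ↥(W 0) * Nat.card ↥(W 1) := by
    rw [← Nat.card_prod]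
    exact (Nat.card_congr (Submodule.prodEquivOfIsCompl _ _ hcompl).toEquiv).symm
  have hcard01 : Nat.card ↥(W 1) = Nat.card ↥(W 0) := by
    have := Nat.card_congr ((ρ g₀).submoduleMap (W 0)).toEquiv
    rw [this]
    exact congrArg (fun S : Submodule (ZMod r) V => Nat.card ↥S) h01.symm
  have hW0 : W 0 ≠ ⊥ := by
    intro h
    have h1 : W 1 = ⊥ := by rw [← h01, h, Submodule.map_bot]
    rw [h, h1, sup_bot_eq] at hsup2
    exact bot_ne_top hsup2
  have hW1 : W 1 ≠ ⊥ := by
    intro h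
    have h1 : W 0 = ⊥ := by rw [← h10, h, Submodule.map_bot]
    exact hW0 h1
  have hWne : ∀ i, W i ≠ ⊥ := by
    intro i
    fin_cases i
    · exact hW0
    · exact hW1
  haveI hWnt : ∀ i, Nontrivial ↥(W i) := fun i => Submodule.nontrivial_iff_ne_bot.mpr (hWne i)
  set w := Nat.card ↥(W 0) with hw
  have hcardW : ∀ i, Nat.card ↥(W i) = w := by
    intro i
    fin_cases i
    · rfl
    · exact hcard01
  have hVw : Nat.card V = w * w := by rw [hcardV, hcard01]
  have hwodd : Odd w := card_odd hr2 ↥(W 0)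
  have hw3 : 3 ≤ w := three_le_card hr2 ↥(W 0)
  have hwlt : w < Nat.card V := by
    rw [hVw]
    nlinarith
  -- for each `i` the block `W i` is moved by `g₀` to a disjoint block
  have hmove : ∀ i, ∃ j, (W i).map (ρ g₀ : V →ₗ[ZMod r] V) = W j ∧ Disjoint (W i) (W j) := by
    intro i
    fin_cases i
    · exact ⟨1, h01, hdisj⟩
    · exact ⟨0, h10, hdisj.symm⟩
  -- the restricted actions
  set τ : ↥H →* (V ≃ₗ[ZMod r] V) := ρ.comp H.subtype with hτ
  have hU : ∀ i, ∀ h : ↥H, ∀ x ∈ W i, τ h x ∈ W i := fun i h x hx => hinv h.1 h.2 i x hx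
  set ρ_ : ∀ i, ↥H →* (↥(W i) ≃ₗ[ZMod r] ↥(W i)) := fun i => restrictHom τ (W i) (hU i) with hρ_
  have hρ_irr : ∀ i, ∀ U₀ : Submodule (ZMod r) ↥(W i),
      (∀ h : ↥H, ∀ x ∈ U₀, ρ_ i h x ∈ U₀) → U₀ = ⊥ ∨ U₀ = ⊤ := by
    intro i U₀ hU₀
    obtain ⟨j, hij, hdij⟩ := hmove i
    have hle : U₀.map (W i).subtype ≤ W i := Submodule.map_subtype_le _ _
    have hinvU : ∀ h ∈ H, ∀ x ∈ U₀.map (W i).subtype, ρ h x ∈ U₀.map (W i).subtype := by
      intro h hh x hx
      rw [Submodule.mem_map] at hx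
      obtain ⟨x₀, hx₀, rfl⟩ := hx
      rw [Submodule.mem_map]
      refine ⟨ρ_ i ⟨h, hh⟩ x₀, hU₀ _ x₀ hx₀, ?_⟩
      rfl
    rcases restrict_irreducible ρ hirr H hidx g₀ hg₀ (W i) (W j) hij hdij _ hle hinvU with h | h
    · left
      rw [eq_bot_iff]
      intro x hx
      have h1 : (x : V) ∈ U₀.map (W i).subtype := Submodule.mem_map_of_mem hx
      rw [h, Submodule.mem_bot] at h1
      rw [Submodule.mem_bot]
      exact Subtype.ext h1
    · right
      rw [eq_top_iff]
      intro x _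
      have h1 : (x : V) ∈ U₀.map (W i).subtype := by rw [h]; exact x.2
      rw [Submodule.mem_map] at h1
      obtain ⟨y, hy, hyx⟩ := h1
      have : y = x := Subtype.ext hyx
      rwa [← this]
  -- the induction hypothesis applied to the two blocks
  have key : ∀ i, FB (↥H ⧸ (ρ_ i).ker) (beta w) := by
    intro i
    have h2 : IsPGroup 2 (↥H ⧸ (ρ_ i).ker) := (hP.to_subgroup H).to_quotient _
    have hlt : Nat.card ↥(W i) < Nat.card V := by rw [hcardW i]; exact hwlt
    have := IH ↥(W i) (↥H ⧸ (ρ_ i).ker) h2 (QuotientGroup.kerLift (ρ_ i))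
      (QuotientGroup.kerLift_injective (ρ_ i)) ?_ hlt
    · rwa [hcardW i] at this
    · intro U₀ hU₀
      apply hρ_irr i U₀
      intro h x hx
      have := hU₀ (QuotientGroup.mk h) x hx
      rwa [QuotientGroup.kerLift_mk] at this
  -- the kernel of the first action embeds into the second quotient
  set N : Subgroup ↥H := (ρ_ 0).ker with hN
  have hsplit : ∀ v : V, ∃ a ∈ W 0, ∃ b ∈ W 1, a + b = v := by
    intro v
    have : v ∈ W 0 ⊔ W 1 := by rw [hsup2]; exact Submodule.mem_top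
    exact Submodule.mem_sup.mp this
  have htriv : ∀ i, ∀ x : ↥H, x ∈ (ρ_ i).ker → ∀ a ∈ W i, ρ (x : P) a = a := by
    intro i x hx a ha
    rw [MonoidHom.mem_ker] at hx
    have h1 : ((ρ_ i x ⟨a, ha⟩ : ↥(W i)) : V) = a := by rw [hx]; rfl
    exact h1
  set ψ : ↥N →* ↥H ⧸ (ρ_ 1).ker := (QuotientGroup.mk' (ρ_ 1).ker).comp N.subtype with hψ
  have hψinj : Function.Injective ψ := by
    rw [injective_iff_map_eq_one]
    intro x hx
    have h1 : (x : ↥H) ∈ (ρ_ 1).ker := by
      have : ((x : ↥H) : ↥H ⧸ (ρ_ 1).ker) = 1 := hx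
      exact (QuotientGroup.eq_one_iff _).mp this
    have h0 : (x : ↥H) ∈ (ρ_ 0).ker := x.2
    have h2 : ρ ((x : ↥H) : P) = 1 := by
      apply LinearEquiv.ext
      intro v
      obtain ⟨a, ha, b, hb, rfl⟩ := hsplit v
      rw [map_add, htriv 0 _ h0 a ha, htriv 1 _ h1 b hb]
      rfl
    have h3 : ((x : ↥H) : P) = 1 := hρ (by rw [h2, map_one])
    exact Subtype.ext (Subtype.ext h3)
  have hFN : FB ↥N (beta w) := (key 1).of_injective ψ hψinj
  have hFH : FB ↥H (beta w * beta w) := FB.extension (hP.to_subgroup H) N hFN (key 0)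
  have hFQ : FB (P ⧸ H) 2 := by
    have := FB.card (P ⧸ H)
    have hc : Nat.card (P ⧸ H) = 2 := by rw [← hidx]; rfl
    rwa [hc] at this
  have hFP : FB P (beta w * beta w * 2) := FB.extension hP H hFH hFQ
  by_cases hw3' : w = 3
  · -- the case `card V = 9`
    have hV9 : Nat.card V = 9 := by rw [hVw, hw3']
    rw [hV9]
    have hb9 : beta 9 = 4 := by decide
    rw [hb9]
    -- `r = 3`
    have hr3 : r = 3 := by
      have h1 := card_eq_pow (r := r) ↥(W 0)
      rw [← hw, hw3'] at h1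
      have hk : Module.finrank (ZMod r) ↥(W 0) ≠ 0 := by
        intro h0
        rw [h0, pow_zero] at h1
        norm_num at h1
      have hdvd : r ∣ 3 := by
        rw [h1]
        exact dvd_pow_self r hk
      exact (Nat.prime_dvd_prime_iff_eq hr Nat.prime_three).mp hdvd
    have hcardWr : ∀ i, Nat.card ↥(W i) = r := by
      intro i
      rw [hcardW i, hw3', hr3]
    have hq : ∀ i, Nat.card (↥H ⧸ (ρ_ i).ker) ≤ 2 := by
      intro i
      have := card_le_of_card_eq_prime (hcardWr i) (QuotientGroup.kerLift (ρ_ i))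
        (QuotientGroup.kerLift_injective (ρ_ i))
      omega
    have hNcard : Nat.card ↥N ≤ 2 :=
      le_trans (Nat.card_le_card_of_injective ψ hψinj) (hq 1)
    have hHcard : Nat.card ↥H ≤ 4 := by
      rw [Subgroup.card_eq_card_quotient_mul_card_subgroup N]
      calc Nat.card (↥H ⧸ N) * Nat.card ↥N ≤ 2 * 2 := Nat.mul_le_mul (hq 0) hNcard
        _ = 4 := by norm_num
    have hPcard : Nat.card P ≤ 8 := by
      rw [← Subgroup.card_mul_index H, hidx]
      omega
    -- `P` is not commutative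
    have hnc : ¬ ∀ x y : P, x * y = y * x := by
      intro hcomm
      obtain ⟨h, hh, hne, hfix⟩ := hunf 0
      apply hne
      apply hρ
      rw [map_one]
      apply LinearEquiv.ext
      intro v
      obtain ⟨a, ha, b, hb, rfl⟩ := hsplit v
      rw [map_add, hfix a ha]
      have hb' : b ∈ (W 0).map (ρ g₀ : V →ₗ[ZMod r] V) := by rw [h01]; exact hb
      rw [Submodule.mem_map] at hb'
      obtain ⟨a', ha', rfl⟩ := hb'
      have h1 : ρ h (ρ g₀ a') = ρ g₀ (ρ h a') := by
        rw [← LinearEquiv.mul_apply, ← LinearEquiv.mul_apply, ← map_mul, ← map_mul, hcomm]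
      show a + ρ h (ρ g₀ a') = _
      rw [h1, hfix a' ha']
      rfl
    intro Q
    by_contra hcon
    push Not at hcon
    obtain ⟨e, he⟩ := (hP.to_subgroup Q).index (frattini ↥Q)
    have h1 : (frattini ↥Q).index ∣ Nat.card ↥Q := Subgroup.index_dvd_card _
    have h2 : Nat.card ↥Q ≤ Nat.card P := Subgroup.card_le_card_group Q
    have h3 : (frattini ↥Q).index ≤ Nat.card ↥Q := Nat.le_of_dvd Nat.card_pos h1
    have he3 : 3 ≤ e := by
      by_contra h
      push Not at h
      have : 2 ^ e ≤ 2 ^ 2 := Nat.pow_le_pow_right (by norm_num) (by omega)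
      rw [he] at hcon
      omega
    have h8 : 8 ≤ (frattini ↥Q).index := by
      rw [he]
      calc 8 = 2 ^ 3 := by norm_num
        _ ≤ 2 ^ e := Nat.pow_le_pow_right (by norm_num) he3
    have hQ8 : Nat.card ↥Q = 8 := by omega
    have hF8 : (frattini ↥Q).index = 8 := by omega
    have hP8 : Nat.card P = 8 := by omega
    have hFbot : frattini ↥Q = ⊥ := by
      have h4 := Subgroup.card_mul_index (frattini ↥Q)
      rw [hF8, hQ8] at h4
      have h5 : Nat.card ↥(frattini ↥Q) = 1 := by omega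
      exact Subgroup.card_eq_one.mp h5
    have hQtop : Q = ⊤ := Subgroup.eq_top_of_card_eq Q (by rw [hQ8, hP8])
    apply hnc
    intro x y
    have hx : x ∈ Q := by rw [hQtop]; exact Subgroup.mem_top x
    have hy : y ∈ Q := by rw [hQtop]; exact Subgroup.mem_top y
    have h6 := Cfsg.Agent.Helper21.commutator_mem_frattini_of_isPGroup (hP.to_subgroup Q)
      (⟨x, hx⟩ : ↥Q) ⟨y, hy⟩
    rw [hFbot, Subgroup.mem_bot] at h6
    have h7 := congrArg (fun z : ↥Q => (z : P)) h6
    simp only [Subgroup.coe_mul, Subgroup.coe_inv, Subgroup.coe_one] at h7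
    calc x * y = (x * y * x⁻¹ * y⁻¹) * (y * x) := by group
      _ = y * x := by rw [h7, one_mul]
  · rw [hVw]
    exact hFP.mono (beta_sq hwodd hw3')

/-- **Main theorem.** A `2`-group acting faithfully and irreducibly on a finite `ZMod r`-module
(`r` odd): all subgroups have Frattini index at most `beta (card V)`. -/
theorem main (hr2 : r ≠ 2) : ∀ n : ℕ, ∀ (V : Type u) [AddCommGroup V] [Module (ZMod r) V]
    [Finite V] [Nontrivial V] (P : Type u) [Group P] [Finite P], IsPGroup 2 P →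
    ∀ ρ : P →* (V ≃ₗ[ZMod r] V), Function.Injective ρ →
    (∀ W : Submodule (ZMod r) V, (∀ g : P, ∀ w ∈ W, ρ g w ∈ W) → W = ⊥ ∨ W = ⊤) →
    Nat.card V = n → FB P (beta n) := by
  intro n
  induction n using Nat.strong_induction_on with
  | _ n ih =>
    intro V _ _ _ _ P _ _ hP ρ hρ hirr hn
    subst hn
    have hr : r.Prime := Fact.out
    have hr3 : 3 ≤ r := by
      have := hr.two_le
      omega
    by_cases hc : IsCyclic P
    · exact (FB.of_isCyclic hP).mono (two_le_beta (card_odd hr2 V) (three_le_card hr2 V))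
    · have h9 : 9 ≤ Nat.card V := by
        have hcard := card_eq_pow (r := r) V
        rcases Nat.lt_or_ge (Module.finrank (ZMod r) V) 2 with hk | hk
        · interval_cases hk' : Module.finrank (ZMod r) V
          · rw [pow_zero] at hcard
            have : 1 < Nat.card V := Finite.one_lt_card
            omega
          · rw [pow_one] at hcard
            exact absurd (isCyclic_of_card_eq_prime hcard ρ hρ) hc
        · rw [hcard]
          calc 9 = 3 ^ 2 := by norm_num
            _ ≤ r ^ 2 := Nat.pow_le_pow_left hr3 2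
            _ ≤ r ^ Module.finrank (ZMod r) V := Nat.pow_le_pow_right (by omega) hk
      by_cases hC : ∃ C : Subgroup P, IsCyclic ↥C ∧ C.index = 2
      · obtain ⟨C, hCc, hCi⟩ := hC
        exact (FB.of_cyclic_index_two hP C hCc hCi).mono (four_le_beta h9)
      · obtain ⟨H, W, hidx, hsup, hind, hinv, hunf, hperm⟩ :=
          Cfsg.Agent.S3380.result r 2 hP ρ hρ hirr hc
            (fun m ⟨e⟩ => hC (exists_cyclic_index_two_of_quaternion m e))
            (fun m ⟨e⟩ => hC (exists_cyclic_index_two_of_dihedral m e))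
            (fun h => hC (exists_cyclic_index_two_of_quasiDihedral h))
        exact step hr2 hP ρ hρ hirr
          (fun V' _ _ _ _ P' _ _ hP' ρ' hρ' hirr' hlt => ih _ hlt V' P' hP' ρ' hρ' hirr' rfl)
          H W hidx hsup hind hinv hunf hperm

end

end Cfsg.Agent.Helper28.IrrTwo
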