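import Mathlib
import Cfsg.Agent.Lib.Helper28.IrrTwoC

/-!
# From an elementary abelian normal subgroup to a module

A `2`-subgroup `P` acting faithfully and irreducibly by conjugation on an abelian normal
subgroup `N` of odd prime exponent has `[P : Φ(P)] ≤ |N| - 1`.
-/

set_option autoImplicit false

universe u

namespace Cfsg.Agent.Helper28.IrrTwo

open Cfsg.Agent.Helper28.FratRank

/-- a multiplicative automorphism of a commutative group of exponent `r`, as a linear
automorphism of the additive version -/
def toLin {A : Type u} [CommGroup A] (r : ℕ) [Fact r.Prime] [Module (ZMod r) (Additive A)]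
    (e : A ≃* A) : Additive A ≃ₗ[ZMod r] Additive A :=
  { toFun := MulEquiv.toAdditive e
    map_add' := (MulEquiv.toAdditive e).map_add
    map_smul' := fun c v => ZMod.map_smul (MulEquiv.toAdditive e) c v
    invFun := (MulEquiv.toAdditive e).symm
    left_inv := (MulEquiv.toAdditive e).left_inv
    right_inv := (MulEquiv.toAdditive e).right_inv }

theorem toLin_apply {A : Type u} [CommGroup A] (r : ℕ) [Fact r.Prime]
    [Module (ZMod r) (Additive A)] (e : A ≃* A) (v : Additive A) :
    toLin r e v = Additive.ofMul (e (Additive.toMul v)) := rfl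

/-- the generic version, with the module structure given -/
theorem frattini_index_le_of_mulAut_aux {A : Type u} [CommGroup A] [Finite A] [Nontrivial A]
    (r : ℕ) [Fact r.Prime] [Module (ZMod r) (Additive A)] (hr2 : r ≠ 2)
    {P : Type u} [Group P] [Finite P] (hP : IsPGroup 2 P) (φ : P →* MulAut A)
    (hinj : Function.Injective φ)
    (hirr : ∀ M : Subgroup A, (∀ g : P, ∀ x ∈ M, φ g x ∈ M) → M = ⊥ ∨ M = ⊤) :
    (frattini P).index ≤ Nat.card A - 1 := by
  classical
  haveI : Nontrivial (Additive A) := inferInstanceAs (Nontrivial A)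
  haveI : Finite (Additive A) := inferInstanceAs (Finite A)
  let ρ : P →* (Additive A ≃ₗ[ZMod r] Additive A) :=
    { toFun := fun g => toLin r (φ g)
      map_one' := by
        apply LinearEquiv.ext
        intro v
        rw [toLin_apply, map_one]
        simp
      map_mul' := by
        intro g h
        apply LinearEquiv.ext
        intro v
        rw [LinearEquiv.mul_apply, toLin_apply, toLin_apply, toLin_apply, map_mul]
        simp }
  have hρapp : ∀ (g : P) (v : Additive A), ρ g v = Additive.ofMul (φ g (Additive.toMul v)) :=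
    fun g v => rfl
  have hρinj : Function.Injective ρ := by
    rw [injective_iff_map_eq_one]
    intro g hg
    apply hinj
    rw [map_one]
    apply MulEquiv.ext
    intro x
    have := hρapp g (Additive.ofMul x)
    rw [hg] at this
    have h2 := congrArg Additive.toMul this
    simpa using h2.symm
  have hρirr : ∀ W : Submodule (ZMod r) (Additive A),
      (∀ g : P, ∀ w ∈ W, ρ g w ∈ W) → W = ⊥ ∨ W = ⊤ := by
    intro W hW
    let M : Subgroup A :=
      { carrier := {x | Additive.ofMul x ∈ W}
        one_mem' := W.zero_mem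
        mul_mem' := by
          intro a b ha hb
          exact W.add_mem ha hb
        inv_mem' := by
          intro a ha
          exact W.neg_mem ha }
    have hMP : ∀ g : P, ∀ x ∈ M, φ g x ∈ M := by
      intro g x hx
      exact hW g _ hx
    rcases hirr M hMP with h | h
    · left
      rw [eq_bot_iff]
      intro v hv
      have h1 : Additive.toMul v ∈ M := hv
      rw [h, Subgroup.mem_bot] at h1
      rw [Submodule.mem_bot]
      exact congrArg Additive.ofMul h1
    · right
      rw [eq_top_iff]
      intro v _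
      have h1 : Additive.toMul v ∈ M := by rw [h]; exact Subgroup.mem_top _
      exact h1
  have hmain := main (r := r) hr2 (Nat.card (Additive A)) (Additive A) P hP ρ hρinj hρirr rfl
  have h1 := hmain ⊤
  rw [frattini_index_top] at h1
  have hcard : Nat.card (Additive A) = Nat.card A := rfl
  rw [hcard] at h1
  have h3 : 3 ≤ Nat.card A := by
    rw [← hcard]
    exact three_le_card hr2 (Additive A)
  exact le_trans h1 (beta_le h3)

/-- the generic version: a `2`-group acting faithfully and irreducibly on a commutative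
group of odd prime exponent -/
theorem frattini_index_le_of_mulAut {A : Type u} [CommGroup A] [Finite A] [Nontrivial A]
    (r : ℕ) [Fact r.Prime] (hr2 : r ≠ 2) (hexp : ∀ a : A, a ^ r = 1)
    {P : Type u} [Group P] [Finite P] (hP : IsPGroup 2 P) (φ : P →* MulAut A)
    (hinj : Function.Injective φ)
    (hirr : ∀ M : Subgroup A, (∀ g : P, ∀ x ∈ M, φ g x ∈ M) → M = ⊥ ∨ M = ⊤) :
    (frattini P).index ≤ Nat.card A - 1 := by
  have hmod : ∀ v : Additive A, r • v = 0 := fun v =>
    congrArg Additive.ofMul (hexp (Additive.toMul v))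
  letI : Module (ZMod r) (Additive A) := AddCommGroup.zmodModule hmod
  exact frattini_index_le_of_mulAut_aux r hr2 hP φ hinj hirr

theorem frattini_index_le_of_conj_action {G : Type u} [Group G] [Finite G] (N P : Subgroup G)
    [hNn : N.Normal] (hcomm : ∀ a b : ↥N, a * b = b * a) (r : ℕ) [Fact r.Prime] (hr2 : r ≠ 2)
    (hexp : ∀ a : ↥N, a ^ r = 1) (hNne : N ≠ ⊥) (hP : IsPGroup 2 ↥P)
    (hfaith : ∀ g ∈ P, (∀ x ∈ N, g * x * g⁻¹ = x) → g = 1)
    (hirr : ∀ M : Subgroup G, M ≤ N → (∀ g ∈ P, ∀ x ∈ M, g * x * g⁻¹ ∈ M) → M = ⊥ ∨ M = N) :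
    (frattini ↥P).index ≤ Nat.card ↥N - 1 := by
  classical
  letI : CommGroup ↥N := { (inferInstance : Group ↥N) with mul_comm := hcomm }
  haveI : Nontrivial ↥N := (Subgroup.nontrivial_iff_ne_bot N).mpr hNne
  let φ : ↥P →* MulAut ↥N := (MulAut.conjNormal (H := N)).comp P.subtype
  have hφ : ∀ (g : ↥P) (x : ↥N), ((φ g x : ↥N) : G) = (g : G) * x * (g : G)⁻¹ := by
    intro g x
    show ((MulAut.conjNormal (g : G) x : ↥N) : G) = _
    rw [MulAut.conjNormal_apply]
  refine frattini_index_le_of_mulAut (A := ↥N) r hr2 hexp hP φ ?_ ?_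
  · rw [injective_iff_map_eq_one]
    intro g hg
    apply Subtype.ext
    apply hfaith g g.2
    intro x hx
    have := hφ g ⟨x, hx⟩
    rw [hg] at this
    exact this.symm
  · intro M hM
    have hMN : M.map N.subtype ≤ N := by
      rintro _ ⟨x, _, rfl⟩
      exact x.2
    have hMP : ∀ g ∈ P, ∀ x ∈ M.map N.subtype, g * x * g⁻¹ ∈ M.map N.subtype := by
      rintro g hg _ ⟨x, hx, rfl⟩
      refine ⟨φ ⟨g, hg⟩ x, hM ⟨g, hg⟩ x hx, ?_⟩
      exact hφ ⟨g, hg⟩ x
    rcases hirr _ hMN hMP with h | h
    · left
      rw [eq_bot_iff]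
      intro x hx
      have h1 : (x : G) ∈ M.map N.subtype := ⟨x, hx, rfl⟩
      rw [h, Subgroup.mem_bot] at h1
      rw [Subgroup.mem_bot]
      exact Subtype.ext h1
    · right
      rw [eq_top_iff]
      intro x _
      have h1 : (x : G) ∈ M.map N.subtype := by rw [h]; exact x.2
      obtain ⟨y, hy, hyx⟩ := h1
      have : y = x := Subtype.ext hyx
      rwa [← this]

/-- a subgroup normalized by both factors of `N ⊔ P = ⊤` is normal -/
theorem normal_of_sup_eq_top {G : Type*} [Group G] (N P M : Subgroup G) (hprod : N ⊔ P = ⊤)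
    (hMN : ∀ n ∈ N, ∀ x ∈ M, n * x * n⁻¹ ∈ M) (hMP : ∀ p ∈ P, ∀ x ∈ M, p * x * p⁻¹ ∈ M) :
    M.Normal := by
  constructor
  intro x hx g
  have hg : g ∈ N ⊔ P := by rw [hprod]; exact Subgroup.mem_top g
  rw [Subgroup.sup_eq_closure] at hg
  have key : ∀ g ∈ Subgroup.closure ((N : Set G) ∪ P), ∀ x ∈ M, g * x * g⁻¹ ∈ M ∧ g⁻¹ * x * g ∈ M := by
    intro g hg
    induction hg using Subgroup.closure_induction with
    | mem y hy =>
      intro x hx
      rcases hy with hy | hy
      · refine ⟨hMN y hy x hx, ?_⟩
        have := hMN y⁻¹ (N.inv_mem hy) x hx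
        simpa using this
      · refine ⟨hMP y hy x hx, ?_⟩
        have := hMP y⁻¹ (P.inv_mem hy) x hx
        simpa using this
    | one =>
      intro x hx
      simpa using hx
    | mul a b _ _ ha hb =>
      intro x hx
      constructor
      · have h1 := (hb x hx).1
        have h2 := (ha _ h1).1
        have : a * b * x * (a * b)⁻¹ = a * (b * x * b⁻¹) * a⁻¹ := by group
        rw [this]
        exact h2
      · have h1 := (ha x hx).2
        have h2 := (hb _ h1).2
        have : (a * b)⁻¹ * x * (a * b) = b⁻¹ * (a⁻¹ * x * a) * b := by group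
        rw [this]
        exact h2
    | inv a _ ha =>
      intro x hx
      constructor
      · have := (ha x hx).2
        simpa using this
      · have := (ha x hx).1
        simpa using this
  exact (key g hg x hx).1

end Cfsg.Agent.Helper28.IrrTwo
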