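import Mathlib
import Cfsg.Prelude.Def_LocalStructure
import Cfsg.Agent.Lib.Helper14.StronglyEmbedded

set_option autoImplicit false

namespace Cfsg.Agent.Helper28

open Cfsg Cfsg.Agent.Helper14

variable {H : Type*} [Group H]

/-- A subgroup normalizing `T` normalizes the ambient centre of `T`. -/
theorem le_normalizer_ambientCenter {N T : Subgroup H} (h : N ≤ Subgroup.normalizer (T : Set H)) :
    N ≤ Subgroup.normalizer ((T ⊓ Subgroup.centralizer (T : Set H) : Subgroup H) : Set H) :=
  le_normalizer_inf h (le_normalizer_centralizer_of_le_normalizer h)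

/-- If `Q` is a nontrivial large `p`-subgroup inside the Sylow `p`-subgroup `T`, then `N(T) ≤ N(Q)`. -/
theorem large_normalizer_sylow_le [Finite H] {p : ℕ} [Fact p.Prime] {Q : Subgroup H} (hQ1 : Q ≠ ⊥)
    (hL : IsLarge Q) (T : Sylow p H) (hQT : Q ≤ (T : Subgroup H)) :
    Subgroup.normalizer ((T : Subgroup H) : Set H) ≤ Subgroup.normalizer (Q : Set H) := by
  have hTne : (T : Subgroup H) ≠ ⊥ := fun hb => hQ1 (le_bot_iff.mp (hb ▸ hQT))
  have hZne := inf_centralizer_ne_bot T.isPGroup' hTne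
  have hZC : (T : Subgroup H) ⊓ Subgroup.centralizer ((T : Subgroup H) : Set H) ≤
      Subgroup.centralizer (Q : Set H) := inf_le_right.trans (Subgroup.centralizer_le hQT)
  exact (le_normalizer_ambientCenter le_rfl).trans (hL.2 _ hZC hZne)

/-- A nontrivial large `p`-subgroup is weakly closed in every Sylow `p`-subgroup containing it, in the strong
form: a conjugating element normalizes it. -/
theorem large_mem_normalizer [Finite H] {p : ℕ} [Fact p.Prime] {Q : Subgroup H} (hQ1 : Q ≠ ⊥)
    (hL : IsLarge Q) (T : Sylow p H) (hQT : Q ≤ (T : Subgroup H)) {g : H}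
    (hg : Q.map (MulAut.conj g).toMonoidHom ≤ (T : Subgroup H)) :
    g ∈ Subgroup.normalizer (Q : Set H) := by
  set N := Subgroup.normalizer (Q : Set H) with hN
  have hTN : (T : Subgroup H) ≤ N :=
    Subgroup.le_normalizer.trans (large_normalizer_sylow_le hQ1 hL T hQT)
  -- the conjugate Sylow subgroup
  have hQT' : Q ≤ ((g⁻¹ • T : Sylow p H) : Subgroup H) := by
    rw [sylow_smul_coe]
    calc Q = (Q.map (MulAut.conj g).toMonoidHom).map (MulAut.conj g⁻¹).toMonoidHom :=
          (map_conj_inv_map_conj Q g).symm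
      _ ≤ (T : Subgroup H).map (MulAut.conj g⁻¹).toMonoidHom := Subgroup.map_mono hg
  have hT'N : ((g⁻¹ • T : Sylow p H) : Subgroup H) ≤ N :=
    Subgroup.le_normalizer.trans (large_normalizer_sylow_le hQ1 hL _ hQT')
  have h1 := isSylowOf_of_sylow_le T hTN
  have h2 := isSylowOf_of_sylow_le (g⁻¹ • T) hT'N
  obtain ⟨n, hn, hnT⟩ := h1.exists_conj h2
  rw [sylow_smul_coe] at hnT
  -- n⁻¹ g⁻¹ normalizes T
  have hfix : (T : Subgroup H).map (MulAut.conj (n⁻¹ * g⁻¹)).toMonoidHom = (T : Subgroup H) := by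
    rw [conj_mul_map, hnT, map_conj_inv_map_conj]
  have hmem : n⁻¹ * g⁻¹ ∈ N :=
    large_normalizer_sylow_le hQ1 hL T hQT (mem_normalizer_of_map_conj_eq hfix)
  have : g = (n * (n⁻¹ * g⁻¹))⁻¹ := by group
  rw [this]
  exact N.inv_mem (N.mul_mem hn hmem)

/-- Same as `large_mem_normalizer`, with an arbitrary `p`-subgroup in place of the Sylow subgroup. -/
theorem large_mem_normalizer' [Finite H] {p : ℕ} [Fact p.Prime] {Q : Subgroup H} (hQ1 : Q ≠ ⊥)
    (hL : IsLarge Q) {R : Subgroup H} (hR : IsPGroup p R) (hQR : Q ≤ R) {g : H}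
    (hg : Q.map (MulAut.conj g).toMonoidHom ≤ R) :
    g ∈ Subgroup.normalizer (Q : Set H) := by
  obtain ⟨T, hT⟩ := hR.exists_le_sylow
  exact large_mem_normalizer hQ1 hL T (hQR.trans hT) (hg.trans hT)

/-- For a nontrivial large `p`-subgroup `Q` and `g ∉ N(Q)`, the centralizers of `Q` and of its conjugate by `g`
meet trivially. -/
theorem large_centralizer_inf_eq_bot [Finite H] {p : ℕ} [Fact p.Prime] {Q : Subgroup H} (hQp : IsPGroup p Q)
    (hQ1 : Q ≠ ⊥) (hL : IsLarge Q) {g : H} (hg : g ∉ Subgroup.normalizer (Q : Set H)) :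
    Subgroup.centralizer (Q : Set H) ⊓
      Subgroup.centralizer ((Q.map (MulAut.conj g).toMonoidHom : Subgroup H) : Set H) = ⊥ := by
  by_contra hne
  apply hg
  set Q' := Q.map (MulAut.conj g).toMonoidHom with hQ'
  set U := Subgroup.centralizer (Q : Set H) ⊓ Subgroup.centralizer ((Q' : Subgroup H) : Set H) with hU
  have hNU : Subgroup.normalizer (U : Set H) ≤ Subgroup.normalizer (Q : Set H) := hL.2 U inf_le_left hne
  have hQ'CU : Q' ≤ Subgroup.centralizer (U : Set H) := by
    rw [Subgroup.le_centralizer_iff]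
    exact inf_le_right
  have hQ'N : Q' ≤ Subgroup.normalizer (Q : Set H) :=
    (hQ'CU.trans (Subgroup.centralizer_le_normalizer _)).trans hNU
  have hQ'p : IsPGroup p Q' := hQp.map _
  have hsup : IsPGroup p (Q ⊔ Q' : Subgroup H) := IsPGroup.to_sup_of_normal_left' hQp hQ'p hQ'N
  exact large_mem_normalizer' hQ1 hL hsup le_sup_left le_sup_right

end Cfsg.Agent.Helper28
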