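import Mathlib
import Cfsg.Prelude.Def_MonsterType
import Cfsg.Agent.Lib.Helper28.LargePair

set_option autoImplicit false

/-! The image of `C_Q(t)` in `C_G(t)/⟨t⟩` is a large extraspecial subgroup. -/

namespace Cfsg.Agent.Helper28.LargeQuot

open Cfsg Cfsg.Agent.Helper28.LargeExtra Cfsg.Agent.Helper28.LargePair
  Cfsg.Agent.Helper28.FStarExtra

variable {G : Type*} [Group G]

theorem mem_zpowers_of_sq {t a : G} (ht2 : t * t = 1) :
    a ∈ Subgroup.zpowers t ↔ a = 1 ∨ a = t := by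
  have htinv : t⁻¹ = t := inv_eq_of_mul_eq_one_right ht2
  constructor
  · intro ha
    let S : Subgroup G :=
      { carrier := {a | a = 1 ∨ a = t}
        one_mem' := Or.inl rfl
        mul_mem' := by
          rintro a b (rfl | rfl) (rfl | rfl)
          · left; simp
          · right; simp
          · right; simp
          · left; exact ht2
        inv_mem' := by
          rintro a (rfl | rfl)
          · left; simp
          · right; exact htinv }
    have hle : Subgroup.zpowers t ≤ S := by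
      rw [Subgroup.zpowers_le]
      exact Or.inr rfl
    exact hle ha
  · rintro (rfl | rfl)
    · exact Subgroup.one_mem _
    · exact Subgroup.mem_zpowers _

section

variable (t : G)
  [hn : ((Subgroup.zpowers t).subgroupOf (Subgroup.centralizer ({t} : Set G))).Normal]

/-- the quotient map `C_G(t) → C_G(t)/⟨t⟩` -/
abbrev qm : ↥(Subgroup.centralizer ({t} : Set G)) →*
    ↥(Subgroup.centralizer ({t} : Set G)) ⧸
      (Subgroup.zpowers t).subgroupOf (Subgroup.centralizer ({t} : Set G)) :=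
  QuotientGroup.mk' ((Subgroup.zpowers t).subgroupOf (Subgroup.centralizer ({t} : Set G)))

theorem qm_eq_iff (ht2 : t * t = 1) (a b : ↥(Subgroup.centralizer ({t} : Set G))) :
    qm t a = qm t b ↔ (a : G)⁻¹ * b = 1 ∨ (a : G)⁻¹ * b = t := by
  rw [QuotientGroup.mk'_apply, QuotientGroup.mk'_apply, QuotientGroup.eq, Subgroup.mem_subgroupOf,
    mem_zpowers_of_sq ht2]
  rfl

theorem qm_eq_one_iff (ht2 : t * t = 1) (a : ↥(Subgroup.centralizer ({t} : Set G))) :
    qm t a = 1 ↔ (a : G) = 1 ∨ (a : G) = t := by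
  rw [QuotientGroup.mk'_apply, QuotientGroup.eq_one_iff, Subgroup.mem_subgroupOf,
    mem_zpowers_of_sq ht2]

end

theorem large_quot [Finite G] {Q : Subgroup G} {z t : G}
    [hn : ((Subgroup.zpowers t).subgroupOf (Subgroup.centralizer ({t} : Set G))).Normal]
    (hEz : ExtraLike Q z)
    (hNz : Subgroup.centralizer ({z} : Set G) ≤ Subgroup.normalizer (Q : Set G))
    (ht2 : t * t = 1) (htQ : t ∈ Q) (ht1 : t ≠ 1) (htz : t ≠ z)
    (hnc : ∀ c : G, c * t = t * c → c * z * c⁻¹ ≠ z * t)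
    (hCP : ∀ c : G, c * z = z * c → c * t = t * c →
      (∀ p ∈ Q ⊓ Subgroup.centralizer ({t} : Set G),
        p⁻¹ * (c * p * c⁻¹) = 1 ∨ p⁻¹ * (c * p * c⁻¹) = t) → c ∈ Q)
    {x y q : G} (hxP : x ∈ Q ⊓ Subgroup.centralizer ({t} : Set G)) (hy : y * t = t * y)
    (hyz : y * z * y⁻¹ = x) (hxz : x ≠ z) (hxzt : x ≠ z * t)
    (hqP : q ∈ Q ⊓ Subgroup.centralizer ({t} : Set G)) (hqx : q * x * q⁻¹ = z * x) :
    Cfsg.IsLargeExtraspecial (((Q ⊓ Subgroup.centralizer ({t} : Set G)).subgroupOf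
      (Subgroup.centralizer ({t} : Set G))).map
      (QuotientGroup.mk' ((Subgroup.zpowers t).subgroupOf
        (Subgroup.centralizer ({t} : Set G))))) := by
  have htinv : t⁻¹ = t := inv_eq_of_mul_eq_one_right ht2
  have hz1 : z ≠ 1 := hEz.ne_one
  have hzt : z * t = t * z := hEz.central t htQ
  have hPle : Q ⊓ Subgroup.centralizer ({t} : Set G) ≤ Subgroup.centralizer ({t} : Set G) :=
    inf_le_right
  have hzP : z ∈ Q ⊓ Subgroup.centralizer ({t} : Set G) :=
    Subgroup.mem_inf.mpr ⟨hEz.mem, Subgroup.mem_centralizer_singleton_iff.mpr hzt⟩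
  have hmem : ∀ v, v ∈ ((Q ⊓ Subgroup.centralizer ({t} : Set G)).subgroupOf
      (Subgroup.centralizer ({t} : Set G))).map (qm t) ↔
      ∃ p, ∃ hp : p ∈ Q ⊓ Subgroup.centralizer ({t} : Set G), qm t ⟨p, hPle hp⟩ = v := by
    intro v
    constructor
    · rintro ⟨p, hp, rfl⟩
      rw [SetLike.mem_coe, Subgroup.mem_subgroupOf] at hp
      exact ⟨p.1, hp, rfl⟩
    · rintro ⟨p, hp, rfl⟩
      exact ⟨⟨p, hPle hp⟩, by rw [SetLike.mem_coe, Subgroup.mem_subgroupOf]; exact hp, rfl⟩
  -- conjugating `z` inside `C(t)`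
  have hconjz : ∀ c : G, c * t = t * c →
      (z⁻¹ * (c * z * c⁻¹) = 1 ∨ z⁻¹ * (c * z * c⁻¹) = t) → c * z = z * c := by
    intro c hct hc
    rcases hc with e | e
    · have e2 : c * z * c⁻¹ = z := by
        calc c * z * c⁻¹ = z * (z⁻¹ * (c * z * c⁻¹)) := by group
          _ = z := by rw [e, mul_one]
      calc c * z = (c * z * c⁻¹) * c := by group
        _ = z * c := by rw [e2]
    · exfalso
      apply hnc c hct
      calc c * z * c⁻¹ = z * (z⁻¹ * (c * z * c⁻¹)) := by group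
        _ = z * t := by rw [e]
  -- the key: an element of `C(t)` acting trivially on `P` modulo `t`
  have hkey : ∀ c : G, c * t = t * c →
      (∀ p ∈ Q ⊓ Subgroup.centralizer ({t} : Set G),
        p⁻¹ * (c * p * c⁻¹) = 1 ∨ p⁻¹ * (c * p * c⁻¹) = t) →
      c = 1 ∨ c = z ∨ c = t ∨ c = z * t := by
    intro c hct hc
    have hcz : c * z = z * c := hconjz c hct (hc z hzP)
    have hcQ : c ∈ Q := hCP c hcz hct hc
    have hcomm : ∀ r ∈ Q, r * t = t * r → c * r = r * c := by
      intro r hr hrt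
      have hrP : r ∈ Q ⊓ Subgroup.centralizer ({t} : Set G) :=
        Subgroup.mem_inf.mpr ⟨hr, Subgroup.mem_centralizer_singleton_iff.mpr hrt⟩
      have h1 := hc r hrP
      have h2 := hEz.comm r⁻¹ (Q.inv_mem hr) c hcQ
      have e : r⁻¹ * c * r⁻¹⁻¹ * c⁻¹ = r⁻¹ * (c * r * c⁻¹) := by group
      rw [e] at h2
      have h3 : r⁻¹ * (c * r * c⁻¹) = 1 := by
        rcases h2 with h2 | h2
        · exact h2
        · rcases h1 with h1 | h1
          · exact h1
          · exfalso
            exact htz (h1.symm.trans h2)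
      calc c * r = r * (r⁻¹ * (c * r * c⁻¹)) * c := by group
        _ = r * c := by rw [h3, mul_one]
    obtain ⟨q0, hq0, hq0t⟩ := hEz.exists_noncomm htQ ht1 htz
    have hyq : c * q0 * c⁻¹ ∈ Q := Q.mul_mem (Q.mul_mem hcQ hq0) (Q.inv_mem hcQ)
    exact hEz.hyperplane_cent htQ ht2 hq0 hq0t hyq hcomm
  have hztC : z * t * t = t * (z * t) := by
    rw [mul_assoc, ht2, mul_one, ← mul_assoc, ← hzt, mul_assoc, ht2, mul_one]
  -- the extraspecial-like structure of the image
  have hEbar : ExtraLike (((Q ⊓ Subgroup.centralizer ({t} : Set G)).subgroupOf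
      (Subgroup.centralizer ({t} : Set G))).map (qm t)) (qm t ⟨z, hPle hzP⟩) := by
    refine ⟨(hmem _).mpr ⟨z, hzP, rfl⟩, ?_, ?_, ?_, ?_, ?_⟩
    · intro e
      rw [qm_eq_one_iff t ht2] at e
      rcases e with e | e
      · exact hz1 e
      · exact htz e.symm
    · rw [← map_mul]
      have : (⟨z, hPle hzP⟩ : ↥(Subgroup.centralizer ({t} : Set G))) * ⟨z, hPle hzP⟩ = 1 := by
        apply Subtype.ext
        exact hEz.sq
      rw [this, map_one]
    · intro a ha b hb
      obtain ⟨a, haP, rfl⟩ := (hmem _).mp ha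
      obtain ⟨b, hbP, rfl⟩ := (hmem _).mp hb
      rw [← map_inv, ← map_inv, ← map_mul, ← map_mul, ← map_mul]
      rcases hEz.comm a (Subgroup.mem_inf.mp haP).1 b (Subgroup.mem_inf.mp hbP).1 with e | e
      · left
        have : (⟨a, hPle haP⟩ : ↥(Subgroup.centralizer ({t} : Set G))) * ⟨b, hPle hbP⟩ *
            (⟨a, hPle haP⟩ : ↥(Subgroup.centralizer ({t} : Set G)))⁻¹ *
            (⟨b, hPle hbP⟩ : ↥(Subgroup.centralizer ({t} : Set G)))⁻¹ = 1 := by
          apply Subtype.ext
          exact e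
        rw [this, map_one]
      · right
        congr 1
        apply Subtype.ext
        exact e
    · intro c hc
      obtain ⟨c, rfl⟩ := QuotientGroup.mk'_surjective _ c
      have hct : (c : G) * t = t * c := Subgroup.mem_centralizer_singleton_iff.mp c.2
      have hcp : ∀ p ∈ Q ⊓ Subgroup.centralizer ({t} : Set G),
          p⁻¹ * ((c : G) * p * (c : G)⁻¹) = 1 ∨ p⁻¹ * ((c : G) * p * (c : G)⁻¹) = t := by
        intro p hp
        have h1 := hc (qm t ⟨p, hPle hp⟩) ((hmem _).mpr ⟨p, hp, rfl⟩)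
        rw [← map_mul, ← map_mul] at h1
        have h2 := (qm_eq_iff t ht2 _ _).mp h1.symm
        have e : ((⟨p, hPle hp⟩ * c : ↥(Subgroup.centralizer ({t} : Set G))) : G)⁻¹ *
            ((c * ⟨p, hPle hp⟩ : ↥(Subgroup.centralizer ({t} : Set G))) : G) =
            (c : G)⁻¹ * (p⁻¹ * ((c : G) * p * (c : G)⁻¹)) * (c : G) := by
          simp only [Subgroup.coe_mul]
          group
        rw [e] at h2
        rcases h2 with h2 | h2
        · left
          calc p⁻¹ * ((c : G) * p * (c : G)⁻¹)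
              = (c : G) * ((c : G)⁻¹ * (p⁻¹ * ((c : G) * p * (c : G)⁻¹)) * (c : G)) * (c : G)⁻¹ := by
                group
            _ = 1 := by rw [h2]; group
        · right
          calc p⁻¹ * ((c : G) * p * (c : G)⁻¹)
              = (c : G) * ((c : G)⁻¹ * (p⁻¹ * ((c : G) * p * (c : G)⁻¹)) * (c : G)) * (c : G)⁻¹ := by
                group
            _ = ((c : G) * t) * (c : G)⁻¹ := by rw [h2]
            _ = t := by rw [hct]; group
      rcases hkey c hct hcp with e | e | e | e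
      · left
        rw [qm_eq_one_iff t ht2]
        left; exact e
      · right
        congr 1
        apply Subtype.ext
        exact e
      · left
        rw [qm_eq_one_iff t ht2]
        right; exact e
      · right
        rw [qm_eq_iff t ht2]
        right
        rw [e]
        change (z * t)⁻¹ * z = t
        rw [mul_inv_rev, mul_assoc, inv_mul_cancel, mul_one, htinv]
    · intro b hb
      obtain ⟨b, hbP, rfl⟩ := (hmem _).mp hb
      rw [← map_mul, ← map_mul]
      congr 1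
      apply Subtype.ext
      exact hEz.central b (Subgroup.mem_inf.mp hbP).1
  -- normality in the centralizer of the central involution
  have hNbar : Subgroup.centralizer ({qm t ⟨z, hPle hzP⟩} : Set _) ≤
      Subgroup.normalizer ((((Q ⊓ Subgroup.centralizer ({t} : Set G)).subgroupOf
      (Subgroup.centralizer ({t} : Set G))).map (qm t) : Subgroup _) : Set _) := by
    intro c hc
    obtain ⟨c, rfl⟩ := QuotientGroup.mk'_surjective _ c
    have hct : (c : G) * t = t * c := Subgroup.mem_centralizer_singleton_iff.mp c.2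
    rw [Subgroup.mem_centralizer_singleton_iff, ← map_mul, ← map_mul] at hc
    have h2 := (qm_eq_iff t ht2 _ _).mp hc.symm
    have e : ((⟨z, hPle hzP⟩ * c : ↥(Subgroup.centralizer ({t} : Set G))) : G)⁻¹ *
        ((c * ⟨z, hPle hzP⟩ : ↥(Subgroup.centralizer ({t} : Set G))) : G) =
        (c : G)⁻¹ * (z⁻¹ * ((c : G) * z * (c : G)⁻¹)) * (c : G) := by
      simp only [Subgroup.coe_mul]
      group
    rw [e] at h2
    have h3 : z⁻¹ * ((c : G) * z * (c : G)⁻¹) = 1 ∨ z⁻¹ * ((c : G) * z * (c : G)⁻¹) = t := by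
      rcases h2 with h2 | h2
      · left
        calc z⁻¹ * ((c : G) * z * (c : G)⁻¹)
            = (c : G) * ((c : G)⁻¹ * (z⁻¹ * ((c : G) * z * (c : G)⁻¹)) * (c : G)) * (c : G)⁻¹ := by
              group
          _ = 1 := by rw [h2]; group
      · right
        calc z⁻¹ * ((c : G) * z * (c : G)⁻¹)
            = (c : G) * ((c : G)⁻¹ * (z⁻¹ * ((c : G) * z * (c : G)⁻¹)) * (c : G)) * (c : G)⁻¹ := by
              group
          _ = ((c : G) * t) * (c : G)⁻¹ := by rw [h2]
          _ = t := by rw [hct]; group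
    have hcz : (c : G) * z = z * c := hconjz c hct h3
    apply mem_normalizer_of_conj_mem
    intro v hv
    obtain ⟨p, hpP, rfl⟩ := (hmem _).mp hv
    have hcpQ : (c : G) * p * (c : G)⁻¹ ∈ Q :=
      (Subgroup.mem_normalizer_iff.mp (hNz (Subgroup.mem_centralizer_singleton_iff.mpr hcz)) p).mp
        (Subgroup.mem_inf.mp hpP).1
    have hcpC : (c : G) * p * (c : G)⁻¹ ∈ Subgroup.centralizer ({t} : Set G) :=
      Subgroup.mul_mem _ (Subgroup.mul_mem _ c.2 (hPle hpP)) (Subgroup.inv_mem _ c.2)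
    rw [hmem]
    refine ⟨(c : G) * p * (c : G)⁻¹, Subgroup.mem_inf.mpr ⟨hcpQ, hcpC⟩, ?_⟩
    rw [← map_inv, ← map_mul, ← map_mul]
    congr 1
  -- a conjugate of the central involution
  have hyC : y ∈ Subgroup.centralizer ({t} : Set G) :=
    Subgroup.mem_centralizer_singleton_iff.mpr hy
  have hconj : qm t ⟨y, hyC⟩ * qm t ⟨z, hPle hzP⟩ * (qm t ⟨y, hyC⟩)⁻¹ = qm t ⟨x, hPle hxP⟩ := by
    rw [← map_inv, ← map_mul, ← map_mul]
    congr 1
    apply Subtype.ext
    exact hyz
  have hxbar : qm t ⟨x, hPle hxP⟩ ≠ qm t ⟨z, hPle hzP⟩ := by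
    intro e
    rcases (qm_eq_iff t ht2 _ _).mp e with e | e
    · apply hxz
      change x⁻¹ * z = 1 at e
      calc x = x * (x⁻¹ * z) := by rw [e, mul_one]
        _ = z := by group
    · apply hxzt
      change x⁻¹ * z = t at e
      calc x = z * (x⁻¹ * z)⁻¹ := by group
        _ = z * t := by rw [e, htinv]
  have hlarge := large_of_conj hEbar (isPGroup_two hEbar) hNbar (qm t ⟨y, hyC⟩)
    (by rw [hconj]; exact (hmem _).mpr ⟨x, hxP, rfl⟩) (by rw [hconj]; exact hxbar)
  apply isLargeExtraspecial_of_extraLike hEbar ?_ hNbar hlarge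
  refine ⟨qm t ⟨q, hPle hqP⟩, (hmem _).mpr ⟨q, hqP, rfl⟩, qm t ⟨x, hPle hxP⟩,
    (hmem _).mpr ⟨x, hxP, rfl⟩, ?_⟩
  intro e
  rw [← map_mul, ← map_mul] at e
  have h2 := (qm_eq_iff t ht2 _ _).mp e
  have hzc : z * (q * x) = (q * x) * z :=
    hEz.central _ (Q.mul_mem (Subgroup.mem_inf.mp hqP).1 (Subgroup.mem_inf.mp hxP).1)
  have e2 : ((⟨q, hPle hqP⟩ * ⟨x, hPle hxP⟩ : ↥(Subgroup.centralizer ({t} : Set G))) : G)⁻¹ *
      ((⟨x, hPle hxP⟩ * ⟨q, hPle hqP⟩ : ↥(Subgroup.centralizer ({t} : Set G))) : G) = z := by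
    simp only [Subgroup.coe_mul]
    have e3 : x * q = z⁻¹ * (q * x) := by
      calc x * q = z⁻¹ * ((z * x) * q) := by group
        _ = z⁻¹ * ((q * x * q⁻¹) * q) := by rw [hqx]
        _ = z⁻¹ * (q * x) := by group
    have e4 : (q * x)⁻¹ * z⁻¹ = z⁻¹ * (q * x)⁻¹ := by
      calc (q * x)⁻¹ * z⁻¹ = (z * (q * x))⁻¹ := by group
        _ = ((q * x) * z)⁻¹ := by rw [hzc]
        _ = z⁻¹ * (q * x)⁻¹ := by group
    calc (q * x)⁻¹ * (x * q) = ((q * x)⁻¹ * z⁻¹) * (q * x) := by rw [e3]; group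
      _ = z⁻¹ * (q * x)⁻¹ * (q * x) := by rw [e4]
      _ = z⁻¹ := by group
      _ = z := hEz.inv_eq
  rw [e2] at h2
  rcases h2 with h2 | h2
  · exact hz1 h2
  · exact htz h2.symm

end Cfsg.Agent.Helper28.LargeQuot
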