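import Mathlib
import Cfsg.Prelude.Def_MonsterType
import Cfsg.Prelude.Def_CaseTheorems
import Cfsg.Agent.Lib.Helper28.LargePair
import Cfsg.Agent.Lib.Helper28.LargeQuot
import Cfsg.Agent.Lib.Helper22.PPrimeCore
import Cfsg.Agent.S0022

set_option autoImplicit false

/-! The image of `C_Q(A)` in `C_G(A) A / A`, for `A` of odd order, is a large extraspecial
subgroup. -/

namespace Cfsg.Agent.Helper28.LargeQuotOdd

open Cfsg Cfsg.Agent.Helper28.LargeExtra Cfsg.Agent.Helper28.LargePair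
  Cfsg.Agent.Helper28.FStarExtra Cfsg.Agent.Helper28.LargeQuot Cfsg.Agent.Helper14

/-- A finite group of order not divisible by `4` with a central involution `z` is the product
of its odd core and `⟨z⟩`. -/
theorem odd_core_decomp {H : Type*} [Group H] [Finite H] (z : H) (hz2 : z * z = 1)
    (hz1 : z ≠ 1) (hzc : ∀ h : H, h * z = z * h) (h4 : ¬ 4 ∣ Nat.card H) (c : H) :
    c ∈ Cfsg.oddCore H ∨ c * z ∈ Cfsg.oddCore H := by
  have hNn : (Subgroup.zpowers z).Normal := by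
    constructor
    intro n hn g
    rw [mem_zpowers_of_sq hz2] at hn ⊢
    rcases hn with rfl | rfl
    · left; group
    · right
      calc g * n * g⁻¹ = (g * n) * g⁻¹ := by group
        _ = (n * g) * g⁻¹ := by rw [hzc g]
        _ = n := by group
  have hord : orderOf z = 2 := by
    apply orderOf_eq_prime
    · rw [pow_two]; exact hz2
    · exact hz1
  have hcardN : Nat.card (Subgroup.zpowers z) = 2 := by
    rw [Nat.card_zpowers, hord]
  have hidx : 2 * (Subgroup.zpowers z).index = Nat.card H := by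
    rw [← hcardN]; exact Subgroup.card_mul_index _
  have hodd : ¬ 2 ∣ (Subgroup.zpowers z).index := by
    intro h
    apply h4
    rw [← hidx]
    obtain ⟨m, hm⟩ := h
    exact ⟨m, by rw [hm]; ring⟩
  have hcop : Nat.Coprime (Nat.card (Subgroup.zpowers z)) (Subgroup.zpowers z).index := by
    rw [hcardN, Nat.coprime_two_left]
    exact Nat.odd_iff.mpr (Nat.two_dvd_ne_zero.mp hodd)
  obtain ⟨K, hK⟩ := Subgroup.exists_right_complement'_of_coprime hcop
  have hcardK : Nat.card K = (Subgroup.zpowers z).index := by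
    have h1 := hK.card_mul_card
    rw [hcardN] at h1
    omega
  have hdec : ∀ g : H, ∃ n ∈ Subgroup.zpowers z, ∃ k ∈ K, g = n * k := by
    intro g
    obtain ⟨⟨n, k⟩, hnk⟩ := hK.2 g
    exact ⟨n.1, n.2, k.1, k.2, hnk.symm⟩
  have hKn : K.Normal := by
    constructor
    intro k hk g
    obtain ⟨n, hn, k', hk', rfl⟩ := hdec g
    rw [mem_zpowers_of_sq hz2] at hn
    have e : n * k' * k * (n * k')⁻¹ = k' * k * k'⁻¹ := by
      rcases hn with rfl | rfl
      · group
      · calc n * k' * k * (n * k')⁻¹ = n * (k' * k * k'⁻¹) * n⁻¹ := by group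
          _ = ((k' * k * k'⁻¹) * n) * n⁻¹ := by rw [hzc (k' * k * k'⁻¹)]
          _ = k' * k * k'⁻¹ := by group
    rw [e]
    exact K.mul_mem (K.mul_mem hk' hk) (K.inv_mem hk')
  have hKle : K ≤ Cfsg.oddCore H := by
    apply Cfsg.Agent.Helper22.le_pPrimeCore 2 K hKn
    rw [hcardK, Nat.coprime_comm, Nat.coprime_two_left]
    exact Nat.odd_iff.mpr (Nat.two_dvd_ne_zero.mp hodd)
  obtain ⟨n, hn, k, hk, rfl⟩ := hdec c
  rw [mem_zpowers_of_sq hz2] at hn
  rcases hn with rfl | rfl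
  · left
    rw [one_mul]; exact hKle hk
  · right
    have e : n * k * n = k := by
      calc n * k * n = n * (k * n) := by group
        _ = n * (n * k) := by rw [hzc k]
        _ = (n * n) * k := by group
        _ = k := by rw [hz2, one_mul]
    rw [e]; exact hKle hk

variable {G : Type*} [Group G]

/-- Under the coprime action of an odd-order group `A` centralizing `z` and `x`, some element
of `C_{Q_z}(A)` moves `x`. -/
theorem exists_q_cent [Finite G] {Qz Qx : Subgroup G} {z x : G} (h : Pair Qz Qx z x)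
    (A : Subgroup G) (hAz : A ≤ Subgroup.centralizer ({z} : Set G))
    (hAx : A ≤ Subgroup.centralizer ({x} : Set G)) (hAodd : Odd (Nat.card ↥A)) :
    ∃ q ∈ Qz ⊓ Subgroup.centralizer (A : Set G), q * x * q⁻¹ = z * x := by
  haveI : Fact (Nat.Prime 2) := ⟨Nat.prime_two⟩
  have hpz : IsPGroup 2 ↥Qz := isPGroup_two h.ez
  obtain ⟨k, hk, hkx⟩ := h.exists_q
  have hAQ : A ≤ Subgroup.normalizer (Qz : Set G) := hAz.trans h.nz
  have hcop : (Nat.card ↥A).Coprime (Nat.card ↥Qz) := by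
    obtain ⟨n, hn⟩ := hpz.exists_card_eq
    rw [hn]
    apply Nat.Coprime.pow_right
    rw [Nat.coprime_comm, Nat.coprime_two_left]
    exact hAodd
  have hsolv : Group.IsSolvable ↥Qz := by
    haveI := hpz.isNilpotent
    infer_instance
  have hNK : cen Qz x ≤ Qz := inf_le_left
  have hNn : Qz ≤ Subgroup.normalizer ((cen Qz x : Subgroup G) : Set G) := by
    intro u hu
    rw [Subgroup.mem_normalizer_iff]
    intro a
    constructor
    · exact h.conj_cen_self hu
    · intro ha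
      have := h.conj_cen_self (Qz.inv_mem hu) ha
      have e : u⁻¹ * (u * a * u⁻¹) * u⁻¹⁻¹ = a := by group
      rw [e] at this
      exact this
  have hAconj : ∀ a ∈ A, ∀ r ∈ cen Qz x, a * r * a⁻¹ ∈ cen Qz x := by
    intro a ha r hr
    have haz : a * z = z * a := Subgroup.mem_centralizer_singleton_iff.mp (hAz ha)
    have hax : a * x = x * a := Subgroup.mem_centralizer_singleton_iff.mp (hAx ha)
    rw [mem_cen] at hr ⊢
    refine ⟨h.conj_mem_Qz haz hr.1, ?_⟩
    have hax' : a⁻¹ * x = x * a⁻¹ := by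
      calc a⁻¹ * x = a⁻¹ * (x * a) * a⁻¹ := by group
        _ = a⁻¹ * (a * x) * a⁻¹ := by rw [hax]
        _ = x * a⁻¹ := by group
    calc a * r * a⁻¹ * x = a * r * (a⁻¹ * x) := by group
      _ = a * r * (x * a⁻¹) := by rw [hax']
      _ = a * (r * x) * a⁻¹ := by group
      _ = a * (x * r) * a⁻¹ := by rw [hr.2]
      _ = (a * x) * r * a⁻¹ := by group
      _ = (x * a) * r * a⁻¹ := by rw [hax]
      _ = x * (a * r * a⁻¹) := by group
  have hNA : A ≤ Subgroup.normalizer ((cen Qz x : Subgroup G) : Set G) := by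
    intro a ha
    rw [Subgroup.mem_normalizer_iff]
    intro r
    constructor
    · exact hAconj a ha r
    · intro hr
      have := hAconj a⁻¹ (A.inv_mem ha) _ hr
      have e : a⁻¹ * (a * r * a⁻¹) * a⁻¹⁻¹ = r := by group
      rw [e] at this
      exact this
  have hfix : ∀ a ∈ A, a * k * a⁻¹ * k⁻¹ ∈ cen Qz x := by
    intro a ha
    have haz : a * z = z * a := Subgroup.mem_centralizer_singleton_iff.mp (hAz ha)
    have hax : a * x = x * a := Subgroup.mem_centralizer_singleton_iff.mp (hAx ha)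
    have h1 := h.comm_mem_cen' hk haz hax
    have e : a * k * a⁻¹ * k⁻¹ = (k * a * k⁻¹ * a⁻¹)⁻¹ := by group
    rw [e]
    exact Subgroup.inv_mem _ h1
  obtain ⟨c, hc, hcN⟩ := Cfsg.Agent.S0022.result A Qz hAQ hcop (Or.inr hsolv) (cen Qz x) hNK hNn hNA
    k hk hfix
  refine ⟨c, hc, ?_⟩
  rw [mem_cen] at hcN
  have e1 : (k⁻¹ * c) * x * (k⁻¹ * c)⁻¹ = x := by
    calc (k⁻¹ * c) * x * (k⁻¹ * c)⁻¹ = (x * (k⁻¹ * c)) * (k⁻¹ * c)⁻¹ := by rw [hcN.2]
      _ = x := by group
  calc c * x * c⁻¹ = k * ((k⁻¹ * c) * x * (k⁻¹ * c)⁻¹) * k⁻¹ := by group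
    _ = k * x * k⁻¹ := by rw [e1]
    _ = z * x := hkx

/-- an element of odd order `a'` with `a' r⁻¹` a `2`-element, commuting with the `2`-element
`r`, is trivial -/
theorem comm_of_comm_mem_odd {Q A : Subgroup G} (hQ : IsPGroup 2 Q) (hAodd : Odd (Nat.card ↥A))
    {c r : G} (hr : r ∈ Q) (hrA : ∀ a ∈ A, a * r = r * a) (hcr : c⁻¹ * r⁻¹ * c * r ∈ A) :
    c * r = r * c := by
  obtain ⟨k, hk⟩ := hQ ⟨r, hr⟩
  have hrk : r ^ 2 ^ k = 1 := by
    have := congrArg Subtype.val hk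
    rwa [Subgroup.coe_pow, Subgroup.coe_one] at this
  have hrk' : r⁻¹ ^ 2 ^ k = 1 := by rw [inv_pow, hrk, inv_one]
  set a' := c⁻¹ * r⁻¹ * c * r with ha'
  have hcomm : Commute a' r⁻¹ := by
    have := hrA a' hcr
    exact (Commute.inv_right this)
  have e1 : (a' * r⁻¹) ^ 2 ^ k = a' ^ 2 ^ k := by
    rw [hcomm.mul_pow, hrk', mul_one]
  have e2 : a' * r⁻¹ = c⁻¹ * r⁻¹ * c := by rw [ha']; group
  have e3 : (c⁻¹ * r⁻¹ * c) ^ 2 ^ k = 1 := by
    have : c⁻¹ * r⁻¹ * c = c⁻¹ * r⁻¹ * c⁻¹⁻¹ := by group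
    rw [this, conj_pow, hrk']
    group
  have h1 : a' ^ 2 ^ k = 1 := by rw [← e1, e2, e3]
  have h2 : a' ^ (Nat.card A) = 1 := by
    have h3 : (⟨a', hcr⟩ : A) ^ (Nat.card A) = 1 := pow_card_eq_one'
    have h4 := congrArg Subtype.val h3
    rwa [Subgroup.coe_pow, Subgroup.coe_one] at h4
  have hcop : Nat.Coprime (2 ^ k) (Nat.card A) := by
    apply Nat.Coprime.pow_left
    rw [Nat.coprime_two_left]
    exact hAodd
  have h5 := eq_one_of_pow_eq_one_of_coprime h1 h2 hcop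
  calc c * r = r * c * (c⁻¹ * r⁻¹ * c * r) := by group
    _ = r * c := by rw [← ha', h5, mul_one]

theorem large_quot_odd [Finite G] {Q : Subgroup G} {z : G} {A M : Subgroup G}
    [hn : (A.subgroupOf M).Normal]
    (hEz : ExtraLike Q z)
    (hNz : Subgroup.centralizer ({z} : Set G) ≤ Subgroup.normalizer (Q : Set G))
    (hAz : A ≤ Subgroup.centralizer ({z} : Set G)) (hAodd : Odd (Nat.card ↥A))
    (hM : M = Subgroup.centralizer (A : Set G) ⊔ A)
    (hcent : ∀ c : G, (∀ a ∈ A, c * a = a * c) →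
      (∀ r ∈ Q ⊓ Subgroup.centralizer (A : Set G), c * r = r * c) → c ∈ A ∨ c * z ∈ A)
    {x y q : G} (hxR : x ∈ Q ⊓ Subgroup.centralizer (A : Set G))
    (hy : y ∈ Subgroup.centralizer (A : Set G)) (hyz : y * z * y⁻¹ = x) (hxz : x ≠ z)
    (hqR : q ∈ Q ⊓ Subgroup.centralizer (A : Set G)) (hqx : q * x * q⁻¹ = z * x) :
    Cfsg.IsLargeExtraspecial (((Q ⊓ Subgroup.centralizer (A : Set G)).subgroupOf M).map
      (QuotientGroup.mk' (A.subgroupOf M))) := by
  have hpz : IsPGroup 2 ↥Q := isPGroup_two hEz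
  have hz1 : z ≠ 1 := hEz.ne_one
  have hCAM : Subgroup.centralizer (A : Set G) ≤ M := by rw [hM]; exact le_sup_left
  have hAM : A ≤ M := by rw [hM]; exact le_sup_right
  have hRM : Q ⊓ Subgroup.centralizer (A : Set G) ≤ M := inf_le_right.trans hCAM
  have hzR : z ∈ Q ⊓ Subgroup.centralizer (A : Set G) := by
    refine Subgroup.mem_inf.mpr ⟨hEz.mem, ?_⟩
    rw [Subgroup.mem_centralizer_iff]
    intro a ha
    exact Subgroup.mem_centralizer_singleton_iff.mp (hAz ha)
  have hzA : z ∉ A := by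
    intro h
    exact hz1 (eq_one_of_mem_two_of_mem_odd hpz hAodd hEz.mem h)
  have hπeq : ∀ a b : ↥M, QuotientGroup.mk' (A.subgroupOf M) a =
      QuotientGroup.mk' (A.subgroupOf M) b ↔ (a : G)⁻¹ * b ∈ A := by
    intro a b
    rw [QuotientGroup.mk'_apply, QuotientGroup.mk'_apply, QuotientGroup.eq,
      Subgroup.mem_subgroupOf]
    rfl
  have hπone : ∀ a : ↥M, QuotientGroup.mk' (A.subgroupOf M) a = 1 ↔ (a : G) ∈ A := by
    intro a
    rw [QuotientGroup.mk'_apply, QuotientGroup.eq_one_iff, Subgroup.mem_subgroupOf]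
  have hcomA : ∀ c ∈ Subgroup.centralizer (A : Set G), ∀ a ∈ A, c * a = a * c := by
    intro c hc a ha
    exact (Subgroup.mem_centralizer_iff.mp hc a ha).symm
  have hdecomp : ∀ m ∈ M, ∃ c ∈ Subgroup.centralizer (A : Set G), ∃ a ∈ A, m = c * a := by
    let S : Subgroup G :=
      { carrier := {m | ∃ c ∈ Subgroup.centralizer (A : Set G), ∃ a ∈ A, m = c * a}
        one_mem' := ⟨1, Subgroup.one_mem _, 1, Subgroup.one_mem _, by simp⟩
        mul_mem' := by
          rintro _ _ ⟨c1, hc1, a1, ha1, rfl⟩ ⟨c2, hc2, a2, ha2, rfl⟩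
          refine ⟨c1 * c2, Subgroup.mul_mem _ hc1 hc2, a1 * a2, A.mul_mem ha1 ha2, ?_⟩
          have := hcomA c2 hc2 a1 ha1
          calc c1 * a1 * (c2 * a2) = c1 * (a1 * c2) * a2 := by group
            _ = c1 * (c2 * a1) * a2 := by rw [this]
            _ = c1 * c2 * (a1 * a2) := by group
        inv_mem' := by
          rintro _ ⟨c, hc, a, ha, rfl⟩
          refine ⟨c⁻¹, Subgroup.inv_mem _ hc, a⁻¹, A.inv_mem ha, ?_⟩
          have := hcomA c⁻¹ (Subgroup.inv_mem _ hc) a⁻¹ (A.inv_mem ha)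
          calc (c * a)⁻¹ = a⁻¹ * c⁻¹ := by group
            _ = c⁻¹ * a⁻¹ := this.symm }
    have hle : M ≤ S := by
      rw [hM]
      apply sup_le
      · intro c hc
        exact ⟨c, hc, 1, Subgroup.one_mem _, by simp⟩
      · intro a ha
        exact ⟨1, Subgroup.one_mem _, a, ha, by simp⟩
    intro m hm
    exact hle hm
  have hsurj : ∀ v : ↥M ⧸ A.subgroupOf M, ∃ c, ∃ hc : c ∈ Subgroup.centralizer (A : Set G),
      QuotientGroup.mk' (A.subgroupOf M) ⟨c, hCAM hc⟩ = v := by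
    intro v
    obtain ⟨m, rfl⟩ := QuotientGroup.mk'_surjective _ v
    obtain ⟨c, hc, a, ha, hm⟩ := hdecomp m.1 m.2
    refine ⟨c, hc, ?_⟩
    rw [hπeq]
    change c⁻¹ * (m : G) ∈ A
    rw [hm]
    have : c⁻¹ * (c * a) = a := by group
    rw [this]; exact ha
  have hmem : ∀ v, v ∈ ((Q ⊓ Subgroup.centralizer (A : Set G)).subgroupOf M).map
      (QuotientGroup.mk' (A.subgroupOf M)) ↔
      ∃ r, ∃ hr : r ∈ Q ⊓ Subgroup.centralizer (A : Set G),
        QuotientGroup.mk' (A.subgroupOf M) ⟨r, hRM hr⟩ = v := by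
    intro v
    constructor
    · rintro ⟨p, hp, rfl⟩
      rw [SetLike.mem_coe, Subgroup.mem_subgroupOf] at hp
      exact ⟨p.1, hp, rfl⟩
    · rintro ⟨p, hp, rfl⟩
      exact ⟨⟨p, hRM hp⟩, by rw [SetLike.mem_coe, Subgroup.mem_subgroupOf]; exact hp, rfl⟩
  -- commuting modulo `A` implies commuting
  have hodd : ∀ (c : G) (hc : c ∈ Subgroup.centralizer (A : Set G))
      (r : G) (hr : r ∈ Q ⊓ Subgroup.centralizer (A : Set G)),
      QuotientGroup.mk' (A.subgroupOf M) ⟨c, hCAM hc⟩ *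
        QuotientGroup.mk' (A.subgroupOf M) ⟨r, hRM hr⟩ =
      QuotientGroup.mk' (A.subgroupOf M) ⟨r, hRM hr⟩ *
        QuotientGroup.mk' (A.subgroupOf M) ⟨c, hCAM hc⟩ → c * r = r * c := by
    intro c hc r hr e
    rw [← map_mul, ← map_mul] at e
    have h1 := (hπeq _ _).mp e.symm
    have e2 : ((⟨r, hRM hr⟩ * ⟨c, hCAM hc⟩ : ↥M) : G)⁻¹ * ((⟨c, hCAM hc⟩ * ⟨r, hRM hr⟩ : ↥M) : G) =
        c⁻¹ * r⁻¹ * c * r := by
      simp only [Subgroup.coe_mul]
      group
    rw [e2] at h1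
    obtain ⟨hr1, hr2⟩ := Subgroup.mem_inf.mp hr
    exact comm_of_comm_mem_odd hpz hAodd hr1
      (fun a ha => Subgroup.mem_centralizer_iff.mp hr2 a ha) h1
  -- the extraspecial-like structure of the image
  have hEbar : ExtraLike (((Q ⊓ Subgroup.centralizer (A : Set G)).subgroupOf M).map
      (QuotientGroup.mk' (A.subgroupOf M)))
      (QuotientGroup.mk' (A.subgroupOf M) ⟨z, hRM hzR⟩) := by
    refine ⟨(hmem _).mpr ⟨z, hzR, rfl⟩, ?_, ?_, ?_, ?_, ?_⟩
    · intro e
      rw [hπone] at e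
      exact hzA e
    · rw [← map_mul]
      have : (⟨z, hRM hzR⟩ : ↥M) * ⟨z, hRM hzR⟩ = 1 := by
        apply Subtype.ext
        exact hEz.sq
      rw [this, map_one]
    · intro a ha b hb
      obtain ⟨a, haP, rfl⟩ := (hmem _).mp ha
      obtain ⟨b, hbP, rfl⟩ := (hmem _).mp hb
      rw [← map_inv, ← map_inv, ← map_mul, ← map_mul, ← map_mul]
      rcases hEz.comm a (Subgroup.mem_inf.mp haP).1 b (Subgroup.mem_inf.mp hbP).1 with e | e
      · left
        have : (⟨a, hRM haP⟩ : ↥M) * ⟨b, hRM hbP⟩ * (⟨a, hRM haP⟩ : ↥M)⁻¹ *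
            (⟨b, hRM hbP⟩ : ↥M)⁻¹ = 1 := by
          apply Subtype.ext
          exact e
        rw [this, map_one]
      · right
        congr 1
        apply Subtype.ext
        exact e
    · intro c hc
      obtain ⟨c, hcA, rfl⟩ := hsurj c
      have hcr : ∀ r ∈ Q ⊓ Subgroup.centralizer (A : Set G), c * r = r * c := by
        intro r hr
        exact hodd c hcA r hr (hc _ ((hmem _).mpr ⟨r, hr, rfl⟩))
      rcases hcent c (hcomA c hcA) hcr with h1 | h1
      · left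
        rw [hπone]
        exact h1
      · right
        rw [hπeq]
        change c⁻¹ * z ∈ A
        have hcz := hcr z hzR
        have e : c⁻¹ * z = (c * z)⁻¹ := by
          calc c⁻¹ * z = c⁻¹ * (z * c) * c⁻¹ := by group
            _ = c⁻¹ * (c * z) * c⁻¹ := by rw [hcz]
            _ = z * c⁻¹ := by group
            _ = z⁻¹ * c⁻¹ := by rw [hEz.inv_eq]
            _ = (c * z)⁻¹ := by group
        rw [e]
        exact A.inv_mem h1
    · intro b hb
      obtain ⟨b, hbP, rfl⟩ := (hmem _).mp hb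
      rw [← map_mul, ← map_mul]
      congr 1
      apply Subtype.ext
      exact hEz.central b (Subgroup.mem_inf.mp hbP).1
  have hNbar : Subgroup.centralizer ({QuotientGroup.mk' (A.subgroupOf M) ⟨z, hRM hzR⟩} : Set _) ≤
      Subgroup.normalizer ((((Q ⊓ Subgroup.centralizer (A : Set G)).subgroupOf M).map
      (QuotientGroup.mk' (A.subgroupOf M)) : Subgroup _) : Set _) := by
    intro c hc
    obtain ⟨c, hcA, rfl⟩ := hsurj c
    rw [Subgroup.mem_centralizer_singleton_iff] at hc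
    have hcz : c * z = z * c := hodd c hcA z hzR hc
    apply mem_normalizer_of_conj_mem
    intro v hv
    obtain ⟨p, hpP, rfl⟩ := (hmem _).mp hv
    have hcpQ : c * p * c⁻¹ ∈ Q :=
      (Subgroup.mem_normalizer_iff.mp (hNz (Subgroup.mem_centralizer_singleton_iff.mpr hcz)) p).mp
        (Subgroup.mem_inf.mp hpP).1
    have hcpC : c * p * c⁻¹ ∈ Subgroup.centralizer (A : Set G) :=
      Subgroup.mul_mem _ (Subgroup.mul_mem _ hcA (Subgroup.mem_inf.mp hpP).2)
        (Subgroup.inv_mem _ hcA)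
    rw [hmem]
    refine ⟨c * p * c⁻¹, Subgroup.mem_inf.mpr ⟨hcpQ, hcpC⟩, ?_⟩
    rw [← map_inv, ← map_mul, ← map_mul]
    congr 1
  have hconj : QuotientGroup.mk' (A.subgroupOf M) ⟨y, hCAM hy⟩ *
      QuotientGroup.mk' (A.subgroupOf M) ⟨z, hRM hzR⟩ *
      (QuotientGroup.mk' (A.subgroupOf M) ⟨y, hCAM hy⟩)⁻¹ =
      QuotientGroup.mk' (A.subgroupOf M) ⟨x, hRM hxR⟩ := by
    rw [← map_inv, ← map_mul, ← map_mul]
    congr 1
    apply Subtype.ext
    exact hyz
  have hxbar : QuotientGroup.mk' (A.subgroupOf M) ⟨x, hRM hxR⟩ ≠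
      QuotientGroup.mk' (A.subgroupOf M) ⟨z, hRM hzR⟩ := by
    intro e
    rw [hπeq] at e
    change x⁻¹ * z ∈ A at e
    have h1 : x⁻¹ * z ∈ Q := Q.mul_mem (Q.inv_mem (Subgroup.mem_inf.mp hxR).1) hEz.mem
    have h2 := eq_one_of_mem_two_of_mem_odd hpz hAodd h1 e
    apply hxz
    calc x = x * (x⁻¹ * z) := by rw [h2, mul_one]
      _ = z := by group
  have hlarge := large_of_conj hEbar (isPGroup_two hEbar) hNbar
    (QuotientGroup.mk' (A.subgroupOf M) ⟨y, hCAM hy⟩)
    (by rw [hconj]; exact (hmem _).mpr ⟨x, hxR, rfl⟩) (by rw [hconj]; exact hxbar)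
  apply isLargeExtraspecial_of_extraLike hEbar ?_ hNbar hlarge
  refine ⟨QuotientGroup.mk' (A.subgroupOf M) ⟨q, hRM hqR⟩, (hmem _).mpr ⟨q, hqR, rfl⟩,
    QuotientGroup.mk' (A.subgroupOf M) ⟨x, hRM hxR⟩, (hmem _).mpr ⟨x, hxR, rfl⟩, ?_⟩
  intro e
  rw [← map_mul, ← map_mul, hπeq] at e
  have hzc : z * (q * x) = (q * x) * z :=
    hEz.central _ (Q.mul_mem (Subgroup.mem_inf.mp hqR).1 (Subgroup.mem_inf.mp hxR).1)
  have e2 : ((⟨q, hRM hqR⟩ * ⟨x, hRM hxR⟩ : ↥M) : G)⁻¹ *
      ((⟨x, hRM hxR⟩ * ⟨q, hRM hqR⟩ : ↥M) : G) = z := by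
    simp only [Subgroup.coe_mul]
    have e3 : x * q = z⁻¹ * (q * x) := by
      calc x * q = z⁻¹ * ((z * x) * q) := by group
        _ = z⁻¹ * ((q * x * q⁻¹) * q) := by rw [hqx]
        _ = z⁻¹ * (q * x) := by group
    have e4 : (q * x)⁻¹ * z⁻¹ = z⁻¹ * (q * x)⁻¹ := by
      calc (q * x)⁻¹ * z⁻¹ = (z * (q * x))⁻¹ := by group
        _ = ((q * x) * z)⁻¹ := by rw [hzc]
        _ = z⁻¹ * (q * x)⁻¹ := by group
    calc (q * x)⁻¹ * (x * q) = ((q * x)⁻¹ * z⁻¹) * (q * x) := by rw [e3]; group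
      _ = z⁻¹ * (q * x)⁻¹ * (q * x) := by rw [e4]
      _ = z⁻¹ := by group
      _ = z := hEz.inv_eq
  rw [e2] at e
  exact hzA e

end Cfsg.Agent.Helper28.LargeQuotOdd
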