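import Mathlib
import Cfsg.Agent.Lib.Helper16.SylowNormal
import Cfsg.Agent.Lib.Helper9.FrattiniElem

/-!
# General lemmas used for the structure of `F*(G)` when `G` has a large extraspecial subgroup

Shared library of helper28.
-/

set_option autoImplicit false

namespace Cfsg.Agent.Helper28.LargeStruct

variable {G : Type*} [Group G]

/-- uniqueness of the decomposition in an internal direct product -/
theorem decomp_unique {A B : Subgroup G} (hinf : A ⊓ B = ⊥) {a a' b b' : G}
    (ha : a ∈ A) (ha' : a' ∈ A) (hb : b ∈ B) (hb' : b' ∈ B) (h : a * b = a' * b') :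
    a = a' ∧ b = b' := by
  have h1 : a'⁻¹ * a = b' * b⁻¹ := by
    calc a'⁻¹ * a = a'⁻¹ * (a * b) * b⁻¹ := by group
      _ = a'⁻¹ * (a' * b') * b⁻¹ := by rw [h]
      _ = b' * b⁻¹ := by group
  have h2 : a'⁻¹ * a ∈ A ⊓ B := by
    refine Subgroup.mem_inf.mpr ⟨A.mul_mem (A.inv_mem ha') ha, ?_⟩
    rw [h1]
    exact B.mul_mem hb' (B.inv_mem hb)
  rw [hinf, Subgroup.mem_bot] at h2
  have h3 : b' * b⁻¹ = 1 := by rw [← h1]; exact h2
  exact ⟨(inv_mul_eq_one.mp h2).symm, (mul_inv_eq_one.mp h3).symm⟩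

/-- elements of the join of two commuting subgroups are products -/
theorem exists_mul_of_mem_sup {A B : Subgroup G} (hcomm : ∀ a ∈ A, ∀ b ∈ B, a * b = b * a)
    {m : G} (hm : m ∈ A ⊔ B) : ∃ a ∈ A, ∃ b ∈ B, m = a * b := by
  let S : Subgroup G :=
    { carrier := {m | ∃ a ∈ A, ∃ b ∈ B, m = a * b}
      one_mem' := ⟨1, A.one_mem, 1, B.one_mem, (mul_one 1).symm⟩
      mul_mem' := by
        rintro _ _ ⟨a, ha, b, hb, rfl⟩ ⟨a', ha', b', hb', rfl⟩
        refine ⟨a * a', A.mul_mem ha ha', b * b', B.mul_mem hb hb', ?_⟩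
        have := hcomm a' ha' b hb
        calc a * b * (a' * b') = a * (b * a') * b' := by group
          _ = a * (a' * b) * b' := by rw [this]
          _ = a * a' * (b * b') := by group
      inv_mem' := by
        rintro _ ⟨a, ha, b, hb, rfl⟩
        refine ⟨a⁻¹, A.inv_mem ha, b⁻¹, B.inv_mem hb, ?_⟩
        have := hcomm a⁻¹ (A.inv_mem ha) b⁻¹ (B.inv_mem hb)
        calc (a * b)⁻¹ = b⁻¹ * a⁻¹ := by group
          _ = a⁻¹ * b⁻¹ := this.symm }
  have hA : A ≤ S := fun a ha => ⟨a, ha, 1, B.one_mem, (mul_one a).symm⟩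
  have hB : B ≤ S := fun b hb => ⟨1, A.one_mem, b, hb, (one_mul b).symm⟩
  exact (sup_le hA hB) hm

/-- the index of `T ∩ H` in `H` divides the index of `T` for subnormal `H` -/
theorem relIndex_dvd_index_of_isSubnormal [Finite G] (T : Subgroup G) {H : Subgroup G}
    (hH : H.IsSubnormal) : T.relIndex H ∣ T.index := by
  induction hH with
  | top => rw [Subgroup.relIndex_top_right]
  | step H K h_le hSubn hN ih =>
    haveI := hN
    have h1 := Cfsg.Agent.Helper16.relIndex_dvd_index_of_normal_right' (T.subgroupOf K)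
      (H.subgroupOf K)
    rw [Subgroup.relIndex_subgroupOf h_le] at h1
    exact h1.trans ih

/-- a Sylow subgroup meets a subnormal subgroup in a Sylow subgroup -/
theorem exists_sylow_subgroupOf [Finite G] {p : ℕ} [Fact p.Prime] (T : Sylow p G)
    {H : Subgroup G} (hH : H.IsSubnormal) :
    ∃ R : Sylow p ↥H, (R : Subgroup ↥H) = (T : Subgroup G).subgroupOf H := by
  have h2 : ¬ p ∣ ((T : Subgroup G).subgroupOf H).index := by
    intro h
    have h' : p ∣ (T : Subgroup G).relIndex H := h
    exact T.not_dvd_index (h'.trans (relIndex_dvd_index_of_isSubnormal _ hH))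
  exact ⟨IsPGroup.toSylow (P := (T : Subgroup G).subgroupOf H) T.2.comap_subtype h2,
    IsPGroup.toSylow_coe _ _⟩

/-- a non-abelian simple group cannot have a Sylow `2`-subgroup of order two -/
theorem false_of_sylow_le_two {L : Type*} [Group L] [Finite L] [IsSimpleGroup L]
    (R : Sylow 2 L) (t : L) (ht : t ≠ 1) (htR : t ∈ R) (hR : ∀ x ∈ R, x = 1 ∨ x = t)
    (hnc : ∃ a b : L, a * b ≠ b * a) : False := by
  have hP : Subgroup.normalizer ((R : Subgroup L) : Set L) ≤
      Subgroup.centralizer ((R : Subgroup L) : Set L) := by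
    intro n hn
    rw [Subgroup.mem_centralizer_iff]
    intro x hx
    rcases hR x hx with rfl | rfl
    · simp
    · have h1 : n * x * n⁻¹ ∈ (R : Subgroup L) := (Subgroup.mem_normalizer_iff.mp hn x).mp hx
      rcases hR _ h1 with h2 | h2
      · exfalso
        apply ht
        calc x = n⁻¹ * (n * x * n⁻¹) * n := by group
          _ = 1 := by rw [h2]; group
      · calc x * n = (n * x * n⁻¹) * n := by rw [h2]
          _ = n * x := by group
  have hc := MonoidHom.ker_transferSylow_isComplement' R hP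
  rcases (MonoidHom.normal_ker (MonoidHom.transferSylow R hP)).eq_bot_or_eq_top with h | h
  · -- `R = ⊤`
    have h1 := hc.sup_eq_top
    rw [h, bot_sup_eq] at h1
    obtain ⟨a, b, hab⟩ := hnc
    apply hab
    have ha : a ∈ (R : Subgroup L) := by rw [h1]; exact Subgroup.mem_top a
    have hb : b ∈ (R : Subgroup L) := by rw [h1]; exact Subgroup.mem_top b
    rcases hR a ha with rfl | rfl
    · simp
    · rcases hR b hb with rfl | rfl
      · simp
      · rfl
  · have h1 := hc.disjoint
    rw [h, disjoint_iff, top_inf_eq] at h1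
    apply ht
    have : t ∈ (R : Subgroup L) := htR
    rw [h1, Subgroup.mem_bot] at this
    exact this

/-- if squares and commutators of a finite group `P` lie in the normal subgroup `N`, then the
Frattini subgroup lies in `N` -/
theorem frattini_le_of_quot_elem {P : Type*} [Group P] [Finite P] (N : Subgroup P) [N.Normal]
    (hsq : ∀ a : P, a * a ∈ N) (hcomm : ∀ a b : P, a * b * a⁻¹ * b⁻¹ ∈ N) :
    frattini P ≤ N := by
  haveI : Fact (Nat.Prime 2) := ⟨Nat.prime_two⟩
  have h := Cfsg.Agent.Helper9.frattini_le_ker_of_elementary (p := 2) (QuotientGroup.mk' N) ?_ ?_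
  · rwa [QuotientGroup.ker_mk'] at h
  · intro a b
    obtain ⟨a, rfl⟩ := QuotientGroup.mk_surjective a
    obtain ⟨b, rfl⟩ := QuotientGroup.mk_surjective b
    have h1 : ((a * b * a⁻¹ * b⁻¹ : P) : P ⧸ N) = 1 :=
      (QuotientGroup.eq_one_iff _).mpr (hcomm a b)
    have h2 : ((a * b : P) : P ⧸ N) = ((a * b * a⁻¹ * b⁻¹ : P) : P ⧸ N) * ((b * a : P) : P ⧸ N) := by
      rw [← QuotientGroup.mk_mul]
      congr 1
      group
    rw [← QuotientGroup.mk_mul, ← QuotientGroup.mk_mul, h2, h1, one_mul]
  · intro a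
    obtain ⟨a, rfl⟩ := QuotientGroup.mk_surjective a
    rw [pow_two, ← QuotientGroup.mk_mul]
    exact (QuotientGroup.eq_one_iff _).mpr (hsq a)

end Cfsg.Agent.Helper28.LargeStruct
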