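import Mathlib
import Cfsg.Prelude.Def_MonsterType
import Cfsg.Agent.Lib.Helper28.LargeStructA
import Cfsg.Agent.Lib.Helper28.LargePair
import Cfsg.Agent.Lib.Helper7.FStarP
import Cfsg.Agent.Lib.Helper7.Layer3

/-!
# The generalized Fitting subgroup of a group with a large extraspecial subgroup

Shared library of helper28.
-/

set_option autoImplicit false

namespace Cfsg.Agent.Helper28.LargeStruct

open Cfsg.Agent.Helper28.LargeExtra Cfsg.Agent.Helper28.FStarExtra Cfsg.Agent.Helper7
open scoped commutatorElement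

universe u

variable {G : Type u} [Group G]

/-- conjugating by an element of the normalizer preserves the centralizer -/
theorem conj_mem_centralizer {N : Subgroup G} {q v : G}
    (hq : q ∈ Subgroup.normalizer (N : Set G)) (hv : v ∈ Subgroup.centralizer (N : Set G)) :
    q * v * q⁻¹ ∈ Subgroup.centralizer (N : Set G) := by
  rw [Subgroup.mem_centralizer_iff]
  intro a ha
  have hq' := Subgroup.inv_mem _ hq
  have h1 : q⁻¹ * a * q⁻¹⁻¹ ∈ N := (Subgroup.mem_normalizer_iff.mp hq' a).mp ha
  have h2 := Subgroup.mem_centralizer_iff.mp hv _ h1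
  calc a * (q * v * q⁻¹) = q * ((q⁻¹ * a * q⁻¹⁻¹) * v) * q⁻¹ := by group
    _ = q * (v * (q⁻¹ * a * q⁻¹⁻¹)) * q⁻¹ := by rw [h2]
    _ = q * v * q⁻¹ * a := by group

/-- no component lies in the centralizer of `z` -/
theorem comp_not_le_cent [Finite G] {Q : Subgroup G} {z : G} (hEz : ExtraLike Q z)
    (hpz : IsPGroup 2 Q)
    (hNz : Subgroup.centralizer ({z} : Set G) ≤ Subgroup.normalizer (Q : Set G))
    {L : Subgroup G} (hL : Cfsg.IsComponent L) :
    ¬ L ≤ Subgroup.centralizer ({z} : Set G) := by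
  intro h
  haveI : Fact (Nat.Prime 2) := ⟨Nat.prime_two⟩
  have h1 : ⁅L, Q⁆ = ⊥ :=
    component_commutator_solvable_eq_bot L Q hL (isSolvable_of_isPGroup hpz) (h.trans hNz)
  have h2 := Subgroup.commutator_eq_bot_iff_le_centralizer.mp h1
  have h3 : ∀ l ∈ L, l = 1 ∨ l = z := by
    intro l hl
    apply hEz.cent
    intro b hb
    exact (Subgroup.mem_centralizer_iff.mp (h2 hl) b hb).symm
  have h4 : ⁅L, L⁆ = ⊥ := by
    rw [Subgroup.commutator_eq_bot_iff_le_centralizer]
    intro a ha
    rw [Subgroup.mem_centralizer_iff]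
    intro b hb
    rcases h3 a ha with rfl | rfl
    · simp
    · rcases h3 b hb with rfl | rfl
      · simp
      · rfl
  rw [component_perfect hL] at h4
  exact component_ne_bot hL h4

/-- a `Q`-invariant subnormal subgroup of `C(z)` is trivial when `O_2(G) = 1` -/
theorem subnormal_eq_bot [Finite G] {Q : Subgroup G} {z : G} (hEz : ExtraLike Q z)
    (hpz : IsPGroup 2 Q)
    (hNz : Subgroup.centralizer ({z} : Set G) ≤ Subgroup.normalizer (Q : Set G))
    (h2 : Cfsg.pCore 2 G = ⊥) {K : Subgroup G} (hK : K.IsSubnormal)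
    (hKz : K ≤ Subgroup.centralizer ({z} : Set G))
    (hQK : Q ≤ Subgroup.normalizer (K : Set G)) : K = ⊥ := by
  haveI : Fact (Nat.Prime 2) := ⟨Nat.prime_two⟩
  have hKQ : K ≤ Subgroup.normalizer (Q : Set G) := hKz.trans hNz
  have h1 : K ⊓ Q = ⊥ := by
    have hn : ((K ⊓ Q).subgroupOf K).Normal := by
      rw [Subgroup.normal_subgroupOf_iff_le_normalizer inf_le_left]
      exact le_trans (le_inf Subgroup.le_normalizer hKQ) Subgroup.inf_normalizer_le_normalizer_inf
    have hsn : (K ⊓ Q).IsSubnormal := Subgroup.IsSubnormal.trans inf_le_left hn.isSubnormal hK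
    have := subnormal_isPGroup_le_pCore 2 (K ⊓ Q) hsn (hpz.to_le inf_le_right)
    rw [h2] at this
    exact le_bot_iff.mp this
  have h3 : ∀ k ∈ K, k = 1 ∨ k = z := by
    intro k hk
    apply hEz.cent
    intro q hq
    have h4 : k * q * k⁻¹ * q⁻¹ ∈ K ⊓ Q := by
      refine Subgroup.mem_inf.mpr ⟨?_, ?_⟩
      · have : q * k⁻¹ * q⁻¹ ∈ K :=
          (Subgroup.mem_normalizer_iff.mp (hQK hq) k⁻¹).mp (K.inv_mem hk)
        have e : k * q * k⁻¹ * q⁻¹ = k * (q * k⁻¹ * q⁻¹) := by group
        rw [e]; exact K.mul_mem hk this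
      · have : k * q * k⁻¹ ∈ Q := (Subgroup.mem_normalizer_iff.mp (hKQ hk) q).mp hq
        exact Q.mul_mem this (Q.inv_mem hq)
    rw [h1, Subgroup.mem_bot] at h4
    calc k * q = (k * q * k⁻¹ * q⁻¹) * (q * k) := by group
      _ = q * k := by rw [h4, one_mul]
  have h5 : IsPGroup 2 K := by
    intro k
    refine ⟨1, ?_⟩
    apply Subtype.ext
    rw [pow_one, Subgroup.coe_pow, Subgroup.coe_one, pow_two]
    rcases h3 k k.2 with h | h
    · rw [h, one_mul]
    · rw [h]; exact hEz.sq
  have := subnormal_isPGroup_le_pCore 2 K hK h5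
  rw [h2] at this
  exact le_bot_iff.mp this

/-- `O_{2'}(G) = 1` -/
theorem pPrimeCore_eq_bot [Finite G] {Q : Subgroup G}
    (hlarge : ∀ K : Subgroup G, Odd (Nat.card K) → Q ≤ Subgroup.normalizer (K : Set G) → K = ⊥) :
    Cfsg.pPrimeCore 2 G = ⊥ := by
  apply hlarge
  · exact (Cfsg.Agent.Helper22.card_pPrimeCore_coprime (G := G) 2).odd_of_right
  · haveI := pPrimeCore_characteristic (G := G) 2
    haveI : (Cfsg.pPrimeCore 2 G).Normal := Subgroup.normal_of_characteristic _
    rw [Subgroup.normalizer_eq_top]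
    exact le_top

/-- the case `O_2(G) ≠ 1`. -/
theorem case_one [Finite G] {Q : Subgroup G} {z : G} (hEz : ExtraLike Q z)
    (hpz : IsPGroup 2 Q)
    (hNz : Subgroup.centralizer ({z} : Set G) ≤ Subgroup.normalizer (Q : Set G))
    (hlarge : ∀ K : Subgroup G, Odd (Nat.card K) → Q ≤ Subgroup.normalizer (K : Set G) → K = ⊥)
    (h2 : Cfsg.pCore 2 G ≠ ⊥) :
    IsMulCommutative ↥(Subgroup.normalClosure ({z} : Set G)) ∧
      Cfsg.generalizedFittingSubgroup G = Cfsg.pCore 2 G := by
  haveI : Fact (Nat.Prime 2) := ⟨Nat.prime_two⟩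
  have hPp : IsPGroup 2 ↥(Cfsg.pCore 2 G) := pCore_isPGroup 2
  haveI := pCore_characteristic (G := G) 2
  haveI hPn : (Cfsg.pCore 2 G).Normal := Subgroup.normal_of_characteristic _
  haveI : Nontrivial ↥(Cfsg.pCore 2 G) := (Subgroup.nontrivial_iff_ne_bot _).mpr h2
  haveI := hPp.center_nontrivial
  haveI hZn : ((Subgroup.center ↥(Cfsg.pCore 2 G)).map (Cfsg.pCore 2 G).subtype).Normal :=
    ConjAct.normal_of_characteristic_of_normal
  have hZne : (Subgroup.center ↥(Cfsg.pCore 2 G)).map (Cfsg.pCore 2 G).subtype ≠ ⊥ := by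
    intro h
    rw [Subgroup.map_eq_bot_iff_of_injective _ (Cfsg.pCore 2 G).subtype_injective] at h
    exact (Subgroup.nontrivial_iff_ne_bot _).mp inferInstance h
  have hzZ : z ∈ (Subgroup.center ↥(Cfsg.pCore 2 G)).map (Cfsg.pCore 2 G).subtype :=
    z_mem_normal hEz hpz hlarge _ hZne
  have hMZ : Subgroup.normalClosure ({z} : Set G) ≤
      (Subgroup.center ↥(Cfsg.pCore 2 G)).map (Cfsg.pCore 2 G).subtype :=
    Subgroup.normalClosure_le_normal (Set.singleton_subset_iff.mpr hzZ)
  refine ⟨⟨⟨fun a b => Subtype.ext ?_⟩⟩, ?_⟩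
  · obtain ⟨a', ha', hae⟩ := hMZ a.2
    obtain ⟨b', hb', hbe⟩ := hMZ b.2
    have h1 := Subgroup.mem_center_iff.mp ha' b'
    have h3 := congrArg Subtype.val h1
    rw [Subgroup.coe_mul, Subgroup.coe_mul]
    rw [← hae, ← hbe]
    exact h3.symm
  · have hY : Cfsg.pPrimeCore 2 G = ⊥ := pPrimeCore_eq_bot hlarge
    have hE : Cfsg.layer G = ⊥ := by
      rw [layer_eq_bot_iff]
      intro L hL
      apply comp_not_le_cent hEz hpz hNz hL
      have h3 := component_commutator_fittingSubgroup hL
      have h4 := Subgroup.commutator_eq_bot_iff_le_centralizer.mp h3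
      intro l hl
      rw [Subgroup.mem_centralizer_singleton_iff]
      have hzF : z ∈ Cfsg.fittingSubgroup G := by
        have : Cfsg.pCore 2 G ≤ Cfsg.fittingSubgroup G :=
          le_fittingSubgroup _ hPp.isNilpotent
        exact this (Subgroup.map_subtype_le _ hzZ)
      exact (Subgroup.mem_centralizer_iff.mp (h4 hl) z hzF).symm
    exact generalizedFittingSubgroup_eq_pCore_of_layer_eq_bot 2 hY hE

/-- the case `O_2(G) = 1`: `F(G) = 1` and `M = E(G) = F*(G)`. -/
theorem case_two_basic [Finite G] {Q : Subgroup G} {z : G} (hEz : ExtraLike Q z)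
    (hpz : IsPGroup 2 Q)
    (hNz : Subgroup.centralizer ({z} : Set G) ≤ Subgroup.normalizer (Q : Set G))
    (hlarge : ∀ K : Subgroup G, Odd (Nat.card K) → Q ≤ Subgroup.normalizer (K : Set G) → K = ⊥)
    (h2 : Cfsg.pCore 2 G = ⊥) :
    Cfsg.fittingSubgroup G = ⊥ ∧ Cfsg.generalizedFittingSubgroup G = Cfsg.layer G ∧
      Subgroup.normalClosure ({z} : Set G) = Cfsg.layer G := by
  haveI : Fact (Nat.Prime 2) := ⟨Nat.prime_two⟩
  have hY : Cfsg.pPrimeCore 2 G = ⊥ := pPrimeCore_eq_bot hlarge
  have hF : Cfsg.fittingSubgroup G = ⊥ := by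
    have := fittingSubgroup_le_pCore_of_pPrimeCore_eq_bot 2 hY
    rw [h2] at this
    exact le_bot_iff.mp this
  have hgF : Cfsg.generalizedFittingSubgroup G = Cfsg.layer G := by
    unfold Cfsg.generalizedFittingSubgroup
    rw [hF, sup_bot_eq]
  refine ⟨hF, hgF, ?_⟩
  have hEne : Cfsg.layer G ≠ ⊥ := by
    intro h
    have h3 := centralizer_generalizedFittingSubgroup_le (G := G)
    rw [hgF, h] at h3
    have h4 : z ∈ Subgroup.centralizer (((⊥ : Subgroup G)) : Set G) := by
      rw [Subgroup.mem_centralizer_iff]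
      intro a ha
      have : a = 1 := Subgroup.mem_bot.mp ha
      rw [this, one_mul, mul_one]
    exact hEz.ne_one (Subgroup.mem_bot.mp (h3 h4))
  have hzE : z ∈ Cfsg.layer G := z_mem_normal hEz hpz hlarge _ hEne
  apply le_antisymm
  · exact Subgroup.normalClosure_le_normal (Set.singleton_subset_iff.mpr hzE)
  · conv_lhs => unfold Cfsg.layer
    apply sSup_le
    intro L hL
    rcases component_le_or_commutator_eq_bot' L (Subgroup.normalClosure ({z} : Set G)) hL
      (Subgroup.Normal.isSubnormal inferInstance) with h | h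
    · exact h
    · exfalso
      apply comp_not_le_cent hEz hpz hNz hL
      exact (Subgroup.commutator_eq_bot_iff_le_centralizer.mp h).trans
        (Subgroup.centralizer_le (Set.singleton_subset_iff.mpr
          (Subgroup.subset_normalClosure (Set.mem_singleton z))))

/-- a subnormal subgroup has trivial centre when `F(G) = 1` -/
theorem inf_centralizer_eq_bot [Finite G] (hF : Cfsg.fittingSubgroup G = ⊥) {N : Subgroup G}
    (hN : N.IsSubnormal) : N ⊓ Subgroup.centralizer (N : Set G) = ⊥ := by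
  rw [← map_subtype_center]
  have h1 : ((Subgroup.center ↥N).map N.subtype).IsSubnormal :=
    (Subgroup.Normal.isSubnormal inferInstance).trans' hN
  have h2 : Group.IsNilpotent ↥((Subgroup.center ↥N).map N.subtype) :=
    isNilpotent_map_subtype _ (isNilpotent_of_isMulCommutative _)
  have := subnormal_nilpotent_le_fittingSubgroup _ h1 h2
  rw [hF] at this
  exact le_bot_iff.mp this

/-- components are simple when `F(G) = 1` -/
theorem component_isSimpleGroup [Finite G] (hF : Cfsg.fittingSubgroup G = ⊥) {L : Subgroup G}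
    (hL : Cfsg.IsComponent L) : IsSimpleGroup ↥L := by
  have h1 := inf_centralizer_eq_bot hF hL.1
  rw [← map_subtype_center] at h1
  have h2 : Subgroup.center ↥L = ⊥ :=
    (Subgroup.map_eq_bot_iff_of_injective _ L.subtype_injective).mp h1
  haveI := hL.2.2
  exact ((QuotientGroup.quotientBot.symm).trans
    (QuotientGroup.quotientMulEquivOfEq h2.symm)).isSimpleGroup

/-- the decomposition `E(G) = N × C_{E(G)}(N)` -/
theorem layer_decomp [Finite G] (hF : Cfsg.fittingSubgroup G = ⊥) {N : Subgroup G}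
    (hNE : N ≤ Cfsg.layer G) (hnorm : Cfsg.layer G ≤ Subgroup.normalizer (N : Set G))
    (hcomp : ∀ X : Subgroup G, Cfsg.IsComponent X → X ≤ N ∨ X ≤ Subgroup.centralizer (N : Set G)) :
    N.IsSubnormal ∧ N ⊓ (Subgroup.centralizer (N : Set G) ⊓ Cfsg.layer G) = ⊥ ∧
      Cfsg.layer G ≤ N ⊔ (Subgroup.centralizer (N : Set G) ⊓ Cfsg.layer G) := by
  have hsn : N.IsSubnormal :=
    Subgroup.IsSubnormal.trans hNE
      ((Subgroup.normal_subgroupOf_iff_le_normalizer hNE).mpr hnorm).isSubnormal
      (Subgroup.Normal.isSubnormal inferInstance)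
  refine ⟨hsn, ?_, ?_⟩
  · rw [eq_bot_iff, ← inf_centralizer_eq_bot hF hsn]
    exact inf_le_inf_left _ inf_le_left
  · conv_lhs => unfold Cfsg.layer
    apply sSup_le
    intro X hX
    rcases hcomp X hX with h | h
    · exact h.trans le_sup_left
    · exact (le_inf h (component_le_layer hX)).trans le_sup_right

/-- a `Q`-invariant product of components containing all components it does not centralize is
the whole layer. -/
theorem eq_layer_of_invariant [Finite G] {Q : Subgroup G} {z : G} (hEz : ExtraLike Q z)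
    (hpz : IsPGroup 2 Q)
    (hNz : Subgroup.centralizer ({z} : Set G) ≤ Subgroup.normalizer (Q : Set G))
    (hlarge : ∀ K : Subgroup G, Odd (Nat.card K) → Q ≤ Subgroup.normalizer (K : Set G) → K = ⊥)
    (h2 : Cfsg.pCore 2 G = ⊥) {N : Subgroup G}
    (hNE : N ≤ Cfsg.layer G) (hnorm : Cfsg.layer G ≤ Subgroup.normalizer (N : Set G))
    (hcomp : ∀ X : Subgroup G, Cfsg.IsComponent X → X ≤ N ∨ X ≤ Subgroup.centralizer (N : Set G))
    (hQN : Q ≤ Subgroup.normalizer (N : Set G))
    (hex : ∃ L : Subgroup G, Cfsg.IsComponent L ∧ L ≤ N) : N = Cfsg.layer G := by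
  obtain ⟨hF, -, hM⟩ := case_two_basic hEz hpz hNz hlarge h2
  obtain ⟨-, hinf, hsup⟩ := layer_decomp hF hNE hnorm hcomp
  have hzE : z ∈ Cfsg.layer G := by
    rw [← hM]
    exact Subgroup.subset_normalClosure (Set.mem_singleton z)
  have hcomm : ∀ a ∈ N, ∀ b ∈ Subgroup.centralizer (N : Set G) ⊓ Cfsg.layer G, a * b = b * a := by
    intro a ha b hb
    exact Subgroup.mem_centralizer_iff.mp (Subgroup.mem_inf.mp hb).1 a ha
  obtain ⟨n, hn, k, hk, hznk⟩ := exists_mul_of_mem_sup hcomm (hsup hzE)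
  -- conjugation by normalizing elements preserves `K`
  have hconjK : ∀ q ∈ Subgroup.normalizer (N : Set G),
      ∀ v ∈ Subgroup.centralizer (N : Set G) ⊓ Cfsg.layer G,
        q * v * q⁻¹ ∈ Subgroup.centralizer (N : Set G) ⊓ Cfsg.layer G := by
    intro q hq v hv
    refine Subgroup.mem_inf.mpr ⟨conj_mem_centralizer hq (Subgroup.mem_inf.mp hv).1, ?_⟩
    exact (inferInstance : (Cfsg.layer G).Normal).conj_mem _ (Subgroup.mem_inf.mp hv).2 q
  have hk' : ∀ q ∈ Q, q * k * q⁻¹ = k := by
    intro q hq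
    have h3 : q * n * q⁻¹ ∈ N := (Subgroup.mem_normalizer_iff.mp (hQN hq) n).mp hn
    have h4 := hconjK q (hQN hq) k hk
    have h5 : (q * n * q⁻¹) * (q * k * q⁻¹) = n * k := by
      calc (q * n * q⁻¹) * (q * k * q⁻¹) = q * (n * k) * q⁻¹ := by group
        _ = q * z * q⁻¹ := by rw [hznk]
        _ = z := hEz.conj_z hq
        _ = n * k := hznk
    exact (decomp_unique hinf h3 hn h4 hk h5).2
  have hk1 : k = 1 ∨ k = z := by
    apply hEz.cent
    intro b hb
    have := hk' b hb
    calc k * b = (b * k * b⁻¹) * b := by rw [this]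
      _ = b * k := by group
  obtain ⟨L, hL, hLN⟩ := hex
  rcases hk1 with hk1 | hk1
  · -- `z ∈ N`
    have hzN : z ∈ N := by rw [hznk, hk1, mul_one]; exact hn
    have hKz : Subgroup.centralizer (N : Set G) ⊓ Cfsg.layer G ≤
        Subgroup.centralizer ({z} : Set G) := by
      intro v hv
      rw [Subgroup.mem_centralizer_singleton_iff]
      exact (Subgroup.mem_centralizer_iff.mp (Subgroup.mem_inf.mp hv).1 z hzN).symm
    have hKn : Cfsg.layer G ≤ Subgroup.normalizer
        ((Subgroup.centralizer (N : Set G) ⊓ Cfsg.layer G : Subgroup G) : Set G) := by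
      intro e he
      exact mem_normalizer_of_conj_mem (hconjK e (hnorm he))
    have hKsn : (Subgroup.centralizer (N : Set G) ⊓ Cfsg.layer G).IsSubnormal :=
      Subgroup.IsSubnormal.trans inf_le_right
        ((Subgroup.normal_subgroupOf_iff_le_normalizer inf_le_right).mpr hKn).isSubnormal
        (Subgroup.Normal.isSubnormal inferInstance)
    have hQK : Q ≤ Subgroup.normalizer
        ((Subgroup.centralizer (N : Set G) ⊓ Cfsg.layer G : Subgroup G) : Set G) := by
      intro q hq
      exact mem_normalizer_of_conj_mem (hconjK q (hQN hq))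
    have hK := subnormal_eq_bot hEz hpz hNz h2 hKsn hKz hQK
    rw [hK, sup_bot_eq] at hsup
    exact le_antisymm hNE hsup
  · exfalso
    apply comp_not_le_cent hEz hpz hNz hL
    intro l hl
    rw [Subgroup.mem_centralizer_singleton_iff]
    have hzC : z ∈ Subgroup.centralizer (N : Set G) := by
      rw [← hk1]; exact (Subgroup.mem_inf.mp hk).1
    exact Subgroup.mem_centralizer_iff.mp hzC l (hLN hl)

end Cfsg.Agent.Helper28.LargeStruct
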