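import Mathlib
import Cfsg.Prelude.Def_MonsterType
import Cfsg.Agent.Lib.Helper28.LargeStructB

/-!
# The two-component case for a large extraspecial subgroup

Shared library of helper28.
-/

set_option autoImplicit false

namespace Cfsg.Agent.Helper28.LargeStruct

open Cfsg.Agent.Helper28.LargeExtra Cfsg.Agent.Helper28.FStarExtra Cfsg.Agent.Helper7
  Cfsg.Agent.Helper28.LargePair

universe u

variable {G : Type u} [Group G]

/-- commutators in a central product -/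
theorem comm_prod {A B : Subgroup G} (hcomm : ∀ a ∈ A, ∀ b ∈ B, a * b = b * a) {d e a b : G}
    (hd : d ∈ A) (he : e ∈ A) (ha : a ∈ B) (hb : b ∈ B) :
    (d * a) * (e * b) * (d * a)⁻¹ * (e * b)⁻¹ =
      (d * e * d⁻¹ * e⁻¹) * (a * b * a⁻¹ * b⁻¹) := by
  let φ : ↥A × ↥B →* G := MonoidHom.noncommCoprod A.subtype B.subtype
    (fun x y => hcomm x x.2 y y.2)
  have h1 : ∀ x : ↥A × ↥B, φ x = (x.1 : G) * (x.2 : G) := fun x =>
    MonoidHom.noncommCoprod_apply _ _ _ x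
  have h2 := h1 ((⟨d, hd⟩, ⟨a, ha⟩) * (⟨e, he⟩, ⟨b, hb⟩) * (⟨d, hd⟩, ⟨a, ha⟩)⁻¹ *
    (⟨e, he⟩, ⟨b, hb⟩)⁻¹)
  rw [map_mul, map_mul, map_mul, map_inv, map_inv, h1, h1] at h2
  exact h2

/-- `z` is central in every Sylow `2`-subgroup containing `Q`. -/
theorem sylow_comm_z [Finite G] {Q : Subgroup G} {z : G} (hEz : ExtraLike Q z)
    (T : Sylow 2 G) (hQT : Q ≤ (T : Subgroup G)) : ∀ b ∈ (T : Subgroup G), b * z = z * b := by
  haveI : Fact (Nat.Prime 2) := ⟨Nat.prime_two⟩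
  haveI : Nontrivial ↥(T : Subgroup G) := by
    refine ⟨⟨⟨z, hQT hEz.mem⟩, 1, ?_⟩⟩
    intro h
    exact hEz.ne_one (congrArg Subtype.val h)
  haveI := T.isPGroup'.center_nontrivial
  obtain ⟨c, hc1⟩ := exists_ne (1 : Subgroup.center ↥(T : Subgroup G))
  have hcz : ((c : ↥(T : Subgroup G)) : G) = z := by
    have hcomm : ∀ b ∈ Q, ((c : ↥(T : Subgroup G)) : G) * b = b * ((c : ↥(T : Subgroup G)) : G) := by
      intro b hb
      have h1 := Subgroup.mem_center_iff.mp c.2 ⟨b, hQT hb⟩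
      exact (congrArg Subtype.val h1).symm
    rcases hEz.cent _ hcomm with h1 | h1
    · exfalso
      apply hc1
      apply Subtype.ext
      apply Subtype.ext
      exact h1
    · exact h1
  intro b hb
  have h1 := Subgroup.mem_center_iff.mp c.2 ⟨b, hb⟩
  have h2 := congrArg Subtype.val h1
  rw [← hcz]
  exact h2

/-- closure of conjugation under joins -/
theorem conj_mem_of_sup {A B N : Subgroup G} {q : G} (hA : ∀ a ∈ A, q * a * q⁻¹ ∈ N)
    (hB : ∀ b ∈ B, q * b * q⁻¹ ∈ N) : ∀ v ∈ A ⊔ B, q * v * q⁻¹ ∈ N := by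
  have h : A ⊔ B ≤ N.comap (MulAut.conj q).toMonoidHom := by
    apply sup_le
    · intro a ha
      rw [Subgroup.mem_comap]
      simpa using hA a ha
    · intro b hb
      rw [Subgroup.mem_comap]
      simpa using hB b hb
  intro v hv
  have := h hv
  rw [Subgroup.mem_comap] at this
  simpa using this

/-- if `g L g⁻¹ = L'` then `g⁻¹ L' g = L` -/
theorem map_conj_inv_of_eq {L L' : Subgroup G} {g : G}
    (h : L.map (MulAut.conj g).toMonoidHom = L') : L'.map (MulAut.conj g⁻¹).toMonoidHom = L := by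
  ext y
  rw [mem_map_conj, ← h, mem_map_conj]
  have e : g⁻¹ * (g⁻¹⁻¹ * y * g⁻¹) * g = y := by group
  rw [e]

/-- the working context: a simple component `L`, an element `u` of `Q` moving it, and the
decomposition `z = z₁ w`. -/
structure Ctx (Q : Subgroup G) (z : G) (L : Subgroup G) (u z₁ w : G) : Prop where
  ez : ExtraLike Q z
  pz : IsPGroup 2 Q
  nz : Subgroup.centralizer ({z} : Set G) ≤ Subgroup.normalizer (Q : Set G)
  hu : u ∈ Q
  hinf : L ⊓ Subgroup.centralizer (L : Set G) = ⊥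
  hz₁ : z₁ ∈ L
  hw : w ∈ Subgroup.centralizer (L : Set G)
  hzw : z = z₁ * w
  hconj : ∀ x ∈ L, u * x * u⁻¹ ∈ Subgroup.centralizer (L : Set G)

namespace Ctx

variable {Q : Subgroup G} {z : G} {L : Subgroup G} {u z₁ w : G}

theorem extract (h : Ctx Q z L u z₁ w) {x y : G} (hx : x ∈ L)
    (hy : y ∈ Subgroup.centralizer (L : Set G)) (hxy : x * y = 1 ∨ x * y = z) :
    x = 1 ∨ x = z₁ := by
  rcases hxy with e | e
  · left
    exact (decomp_unique h.hinf hx L.one_mem hy (Subgroup.one_mem _) (by rw [e, mul_one])).1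
  · right
    exact (decomp_unique h.hinf hx h.hz₁ hy h.hw (by rw [e, h.hzw])).1

theorem comm_z (h : Ctx Q z L u z₁ w) {d : G} (hd : d ∈ L) (hdz : d * z₁ = z₁ * d) :
    d * z = z * d := by
  have hw := Subgroup.mem_centralizer_iff.mp h.hw d hd
  rw [h.hzw]
  calc d * (z₁ * w) = (d * z₁) * w := by group
    _ = z₁ * (d * w) := by rw [hdz]; group
    _ = z₁ * w * d := by rw [hw]; group

theorem comm_z₁ (h : Ctx Q z L u z₁ w) {d : G} (hd : d ∈ L) (hdz : d * z = z * d) :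
    d * z₁ = z₁ * d := by
  have hw := Subgroup.mem_centralizer_iff.mp h.hw d hd
  have e : z₁ = z * w⁻¹ := by rw [h.hzw]; group
  have hw' : d * w⁻¹ = w⁻¹ * d := by
    calc d * w⁻¹ = w⁻¹ * (w * d) * w⁻¹ := by group
      _ = w⁻¹ * (d * w) * w⁻¹ := by rw [hw]
      _ = w⁻¹ * d := by group
  rw [e]
  calc d * (z * w⁻¹) = (d * z) * w⁻¹ := by group
    _ = z * (d * w⁻¹) := by rw [hdz]; group
    _ = z * w⁻¹ * d := by rw [hw']; group

theorem r_mem (h : Ctx Q z L u z₁ w) {d : G} (hd : d ∈ L) (hdz : d * z₁ = z₁ * d) :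
    d * (u * d⁻¹ * u⁻¹) ∈ Q := by
  have h1 : d ∈ Subgroup.normalizer (Q : Set G) :=
    h.nz (Subgroup.mem_centralizer_singleton_iff.mpr (h.comm_z hd hdz))
  have h2 : d * u * d⁻¹ ∈ Q := (Subgroup.mem_normalizer_iff.mp h1 u).mp h.hu
  have e : d * (u * d⁻¹ * u⁻¹) = (d * u * d⁻¹) * u⁻¹ := by group
  rw [e]
  exact Q.mul_mem h2 (Q.inv_mem h.hu)

theorem e_mem (h : Ctx Q z L u z₁ w) {d : G} (hd : d ∈ L) :
    u * d⁻¹ * u⁻¹ ∈ Subgroup.centralizer (L : Set G) := h.hconj _ (L.inv_mem hd)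

theorem de_comm (h : Ctx Q z L u z₁ w) {d : G} (hd : d ∈ L) :
    d * (u * d⁻¹ * u⁻¹) = (u * d⁻¹ * u⁻¹) * d :=
  Subgroup.mem_centralizer_iff.mp (h.e_mem hd) d hd

theorem exists_pow (h : Ctx Q z L u z₁ w) {d : G} (hd : d ∈ L) (hdz : d * z₁ = z₁ * d) :
    ∃ k : ℕ, d ^ (2 ^ k) = 1 := by
  obtain ⟨k, hk⟩ := h.pz ⟨_, h.r_mem hd hdz⟩
  have hk' : (d * (u * d⁻¹ * u⁻¹)) ^ (2 ^ k) = 1 := by
    have := congrArg Subtype.val hk
    rwa [Subgroup.coe_pow, Subgroup.coe_one] at this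
  have hc : Commute d (u * d⁻¹ * u⁻¹) := h.de_comm hd
  rw [hc.mul_pow] at hk'
  refine ⟨k, ?_⟩
  have h3 : (u * d⁻¹ * u⁻¹) ^ (2 ^ k) ∈ Subgroup.centralizer (L : Set G) :=
    Subgroup.pow_mem _ (h.e_mem hd) _
  exact (decomp_unique h.hinf (L.pow_mem hd _) L.one_mem h3 (Subgroup.one_mem _)
    (by rw [hk', mul_one])).1

theorem aux_three (d e u' : G) (hc : d * e = e * d) :
    (d * e) * u' * (d * e)⁻¹ * u'⁻¹ =
      d * (e * (u' * d⁻¹ * u'⁻¹) * (u' * e⁻¹ * u'⁻¹)) := by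
  have : (d * e)⁻¹ = d⁻¹ * e⁻¹ := by rw [hc]; group
  rw [this]; group

theorem three (h : Ctx Q z L u z₁ w) {u' : G} (hu' : u' ∈ Q)
    (h1 : ∀ x ∈ L, u' * x * u'⁻¹ ∈ Subgroup.centralizer (L : Set G))
    (h2 : ∀ x ∈ L, u' * (u * x * u⁻¹) * u'⁻¹ ∈ Subgroup.centralizer (L : Set G))
    {d : G} (hd : d ∈ L) (hdz : d * z₁ = z₁ * d) : d = 1 ∨ d = z₁ := by
  have hr := h.r_mem hd hdz
  have hs := h.ez.comm _ hr u' hu'
  rw [aux_three _ _ _ (h.de_comm hd)] at hs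
  have e1 : (u * d⁻¹ * u⁻¹)⁻¹ = u * d * u⁻¹ := by group
  rw [e1] at hs
  refine h.extract hd ?_ hs
  exact Subgroup.mul_mem _ (Subgroup.mul_mem _ (h.e_mem hd) (h1 _ (L.inv_mem hd))) (h2 _ hd)

theorem sq (h : Ctx Q z L u z₁ w) {d : G} (hd : d ∈ L) (hdz : d * z₁ = z₁ * d) :
    d * d = 1 ∨ d * d = z₁ := by
  have hr := sq_mem h.ez (h.r_mem hd hdz)
  have hc : Commute (u * d⁻¹ * u⁻¹) d := (h.de_comm hd).symm
  rw [hc.mul_mul_mul_comm] at hr
  exact h.extract (L.mul_mem hd hd) (Subgroup.mul_mem _ (h.e_mem hd) (h.e_mem hd)) hr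

theorem comm (h : Ctx Q z L u z₁ w) {d e : G} (hd : d ∈ L) (hdz : d * z₁ = z₁ * d)
    (he : e ∈ L) (hez : e * z₁ = z₁ * e) :
    d * e * d⁻¹ * e⁻¹ = 1 ∨ d * e * d⁻¹ * e⁻¹ = z₁ := by
  have hr := h.ez.comm _ (h.r_mem hd hdz) _ (h.r_mem he hez)
  have hcomm : ∀ a ∈ L, ∀ b ∈ Subgroup.centralizer (L : Set G), a * b = b * a :=
    fun a ha b hb => Subgroup.mem_centralizer_iff.mp hb a ha
  rw [comm_prod hcomm hd he (h.e_mem hd) (h.e_mem he)] at hr
  refine h.extract (L.mul_mem (L.mul_mem (L.mul_mem hd he) (L.inv_mem hd)) (L.inv_mem he)) ?_ hr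
  exact Subgroup.mul_mem _ (Subgroup.mul_mem _ (Subgroup.mul_mem _ (h.e_mem hd) (h.e_mem he))
    (Subgroup.inv_mem _ (h.e_mem hd))) (Subgroup.inv_mem _ (h.e_mem he))

theorem inQ (h : Ctx Q z L u z₁ w) {d : G} (hd : d ∈ L) (hdQ : d ∈ Q) : d = 1 ∨ d = z₁ := by
  have hr := h.ez.comm d hdQ u h.hu
  have e : d * u * d⁻¹ * u⁻¹ = d * (u * d⁻¹ * u⁻¹) := by group
  rw [e] at hr
  exact h.extract hd (h.e_mem hd) hr

/-- `C_L(z₁)` is a Sylow `2`-subgroup of `L`. -/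
theorem exists_sylow [Finite G] (h : Ctx Q z L u z₁ w) (hL : L.IsSubnormal) :
    ∃ R : Sylow 2 ↥L, (R : Subgroup ↥L) = (Subgroup.centralizer ({z₁} : Set G)).subgroupOf L := by
  haveI : Fact (Nat.Prime 2) := ⟨Nat.prime_two⟩
  obtain ⟨T, hQT⟩ := h.pz.exists_le_sylow
  have hzT := sylow_comm_z h.ez T hQT
  obtain ⟨R, hR⟩ := exists_sylow_subgroupOf T hL
  refine ⟨R, ?_⟩
  have hD : IsPGroup 2 ↥((Subgroup.centralizer ({z₁} : Set G)).subgroupOf L) := by
    intro x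
    obtain ⟨k, hk⟩ := h.exists_pow x.1.2
      (Subgroup.mem_centralizer_singleton_iff.mp (Subgroup.mem_subgroupOf.mp x.2))
    refine ⟨k, ?_⟩
    apply Subtype.ext
    apply Subtype.ext
    rw [Subgroup.coe_pow, Subgroup.coe_pow, Subgroup.coe_one, Subgroup.coe_one]
    exact hk
  have hle : (R : Subgroup ↥L) ≤ (Subgroup.centralizer ({z₁} : Set G)).subgroupOf L := by
    rw [hR]
    intro x hx
    rw [Subgroup.mem_subgroupOf] at hx ⊢
    rw [Subgroup.mem_centralizer_singleton_iff]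
    exact h.comm_z₁ x.2 (hzT _ hx)
  exact (R.is_maximal' hD hle).symm

theorem false_of_small [Finite G] (h : Ctx Q z L u z₁ w) (hL : L.IsSubnormal)
    [IsSimpleGroup ↥L] (hnc : ¬ IsMulCommutative ↥L) (hz₁ : z₁ ≠ 1)
    (hsmall : ∀ d ∈ L, d * z₁ = z₁ * d → d = 1 ∨ d = z₁) : False := by
  obtain ⟨R, hR⟩ := h.exists_sylow hL
  apply false_of_sylow_le_two R ⟨z₁, h.hz₁⟩
  · intro e
    exact hz₁ (congrArg Subtype.val e)
  · show _ ∈ (R : Subgroup ↥L)
    rw [hR, Subgroup.mem_subgroupOf, Subgroup.mem_centralizer_singleton_iff]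
  · intro x hx
    have hx' : x ∈ (R : Subgroup ↥L) := hx
    rw [hR, Subgroup.mem_subgroupOf, Subgroup.mem_centralizer_singleton_iff] at hx'
    rcases hsmall x x.2 hx' with e | e
    · left; exact Subtype.ext e
    · right; exact Subtype.ext e
  · by_contra hcon
    push Not at hcon
    exact hnc ⟨⟨hcon⟩⟩

theorem frattini_le (h : Ctx Q z L u z₁ w) (R : Sylow 2 ↥L)
    (hR : (R : Subgroup ↥L) = (Subgroup.centralizer ({z₁} : Set G)).subgroupOf L) [Finite ↥L] :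
    (frattini ↥(R : Subgroup ↥L)).map ((L.subtype).comp (R : Subgroup ↥L).subtype) ≤
      Subgroup.zpowers z₁ := by
  have hD : ∀ x : ↥(R : Subgroup ↥L), ((x : ↥L) : G) * z₁ = z₁ * ((x : ↥L) : G) := by
    intro x
    have hx : (x : ↥L) ∈ (Subgroup.centralizer ({z₁} : Set G)).subgroupOf L := by
      rw [← hR]; exact x.2
    rw [Subgroup.mem_subgroupOf, Subgroup.mem_centralizer_singleton_iff] at hx
    exact hx
  have hmem : ∀ g : G, (g = 1 ∨ g = z₁) → g ∈ Subgroup.zpowers z₁ := by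
    rintro g (rfl | rfl)
    · exact Subgroup.one_mem _
    · exact Subgroup.mem_zpowers _
  haveI hNn : ((Subgroup.zpowers z₁).comap
      ((L.subtype).comp (R : Subgroup ↥L).subtype)).Normal := by
    refine ⟨fun n hn g => ?_⟩
    rw [Subgroup.mem_comap] at hn ⊢
    obtain ⟨k, hk⟩ := Subgroup.mem_zpowers_iff.mp hn
    have hc : Commute ((g : ↥L) : G) z₁ := hD g
    have hc' : Commute ((g : ↥L) : G) (z₁ ^ k) := hc.zpow_right k
    have e : ((L.subtype).comp (R : Subgroup ↥L).subtype) (g * n * g⁻¹) =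
        ((g : ↥L) : G) * (((L.subtype).comp (R : Subgroup ↥L).subtype) n) * ((g : ↥L) : G)⁻¹ := by
      simp
    rw [e, ← hk, hc'.eq]
    have e2 : z₁ ^ k * ((g : ↥L) : G) * ((g : ↥L) : G)⁻¹ = z₁ ^ k := by group
    rw [e2]
    exact Subgroup.zpow_mem _ (Subgroup.mem_zpowers _) _
  rw [Subgroup.map_le_iff_le_comap]
  apply frattini_le_of_quot_elem
  · intro a
    rw [Subgroup.mem_comap]
    apply hmem
    have := h.sq (a : ↥L).2 (hD a)
    simpa using this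
  · intro a b
    rw [Subgroup.mem_comap]
    apply hmem
    have := h.comm (a : ↥L).2 (hD a) (b : ↥L).2 (hD b)
    simpa using this

theorem Q_ne [Finite G] (h : Ctx Q z L u z₁ w) (hL : L.IsSubnormal)
    [IsSimpleGroup ↥L] (hnc : ¬ IsMulCommutative ↥L) (hz₁ : z₁ ≠ 1) :
    Q ≠ (Cfsg.pCore 2 ↥(Subgroup.centralizer ({z} : Set G))).map
      (Subgroup.centralizer ({z} : Set G)).subtype := by
  haveI : Fact (Nat.Prime 2) := ⟨Nat.prime_two⟩
  intro hQe
  apply h.false_of_small hL hnc hz₁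
  intro d hd hdz
  have hdC : d ∈ Subgroup.centralizer ({z} : Set G) :=
    Subgroup.mem_centralizer_singleton_iff.mpr (h.comm_z hd hdz)
  have hsn : (L.subgroupOf (Subgroup.centralizer ({z} : Set G))).IsSubnormal := hL.subgroupOf
  have hp : IsPGroup 2 ↥(L.subgroupOf (Subgroup.centralizer ({z} : Set G))) := by
    intro x
    obtain ⟨k, hk⟩ := h.exists_pow (Subgroup.mem_subgroupOf.mp x.2)
      (h.comm_z₁ (Subgroup.mem_subgroupOf.mp x.2)
        (Subgroup.mem_centralizer_singleton_iff.mp x.1.2))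
    refine ⟨k, ?_⟩
    apply Subtype.ext
    apply Subtype.ext
    rw [Subgroup.coe_pow, Subgroup.coe_pow, Subgroup.coe_one, Subgroup.coe_one]
    exact hk
  have hle := subnormal_isPGroup_le_pCore 2 _ hsn hp
  have hdQ : d ∈ Q := by
    rw [hQe]
    exact ⟨⟨d, hdC⟩, hle (Subgroup.mem_subgroupOf.mpr hd), rfl⟩
  exact h.inQ hd hdQ

end Ctx

end Cfsg.Agent.Helper28.LargeStruct
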