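import Mathlib

set_option autoImplicit false

namespace Cfsg.Agent.Helper28.S8

/-- The standard fixed-point-free involution of `Fin 8`. -/
def m0f : Fin 8 → Fin 8 := ![1, 0, 3, 2, 5, 4, 7, 6]

/-- The criterion for lying in the maximal normal 2-subgroup of the centraliser of `m`. -/
def CritF (m τ : Fin 8 → Fin 8) : Prop :=
  (∀ a, τ (m a) = m (τ a)) ∧ ((∀ a, τ a = a ∨ τ a = m a) ∨ (∀ a, τ a ≠ a ∧ τ a ≠ m a))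

instance decCritF (m τ : Fin 8 → Fin 8) : Decidable (CritF m τ) := by
  unfold CritF; infer_instance

def GoodF (f τ : Fin 8 → Fin 8) : Prop :=
  (∀ a, τ (τ a) = a) ∧ (∃ a, τ a ≠ a) ∧ CritF m0f τ ∧ CritF f τ

instance decGoodF (f τ : Fin 8 → Fin 8) : Decidable (GoodF f τ) := by
  unfold GoodF; infer_instance

def swapF (a b : Fin 8) : Fin 8 → Fin 8 := fun i => if i = a then b else if i = b then a else i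

def PF (f : Fin 8 → Fin 8) : Prop :=
  (∃ a, f a = m0f a ∧ GoodF f (swapF a (m0f a))) ∨ GoodF f (m0f ∘ f) ∨
    GoodF f ((m0f ∘ f) ∘ (m0f ∘ f))

instance decPF (f : Fin 8 → Fin 8) : Decidable (PF f) := by
  unfold PF; infer_instance

def L8 (b0 b1 b2 b3 b4 b5 b6 b7 : Fin 8) : Prop := PF ![b0, b1, b2, b3, b4, b5, b6, b7]

instance decL8 (b0 b1 b2 b3 b4 b5 b6 b7 : Fin 8) : Decidable (L8 b0 b1 b2 b3 b4 b5 b6 b7) := by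
  unfold L8; infer_instance

def L7 (b0 b1 b2 b3 b4 b5 b6 : Fin 8) : Prop := ∀ b7 : Fin 8, (b7 ≠ 7 ∧ (b0 = 7 ↔ b7 = 0) ∧ (b1 = 7 ↔ b7 = 1) ∧ (b2 = 7 ↔ b7 = 2) ∧ (b3 = 7 ↔ b7 = 3) ∧ (b4 = 7 ↔ b7 = 4) ∧ (b5 = 7 ↔ b7 = 5) ∧ (b6 = 7 ↔ b7 = 6)) → L8 b0 b1 b2 b3 b4 b5 b6 b7

instance decL7 (b0 b1 b2 b3 b4 b5 b6 : Fin 8) : Decidable (L7 b0 b1 b2 b3 b4 b5 b6) := by
  unfold L7; infer_instance

def L6 (b0 b1 b2 b3 b4 b5 : Fin 8) : Prop := ∀ b6 : Fin 8, (b6 ≠ 6 ∧ (b0 = 6 ↔ b6 = 0) ∧ (b1 = 6 ↔ b6 = 1) ∧ (b2 = 6 ↔ b6 = 2) ∧ (b3 = 6 ↔ b6 = 3) ∧ (b4 = 6 ↔ b6 = 4) ∧ (b5 = 6 ↔ b6 = 5)) → L7 b0 b1 b2 b3 b4 b5 b6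

instance decL6 (b0 b1 b2 b3 b4 b5 : Fin 8) : Decidable (L6 b0 b1 b2 b3 b4 b5) := by
  unfold L6; infer_instance

def L5 (b0 b1 b2 b3 b4 : Fin 8) : Prop := ∀ b5 : Fin 8, (b5 ≠ 5 ∧ (b0 = 5 ↔ b5 = 0) ∧ (b1 = 5 ↔ b5 = 1) ∧ (b2 = 5 ↔ b5 = 2) ∧ (b3 = 5 ↔ b5 = 3) ∧ (b4 = 5 ↔ b5 = 4)) → L6 b0 b1 b2 b3 b4 b5

instance decL5 (b0 b1 b2 b3 b4 : Fin 8) : Decidable (L5 b0 b1 b2 b3 b4) := by
  unfold L5; infer_instance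

def L4 (b0 b1 b2 b3 : Fin 8) : Prop := ∀ b4 : Fin 8, (b4 ≠ 4 ∧ (b0 = 4 ↔ b4 = 0) ∧ (b1 = 4 ↔ b4 = 1) ∧ (b2 = 4 ↔ b4 = 2) ∧ (b3 = 4 ↔ b4 = 3)) → L5 b0 b1 b2 b3 b4

instance decL4 (b0 b1 b2 b3 : Fin 8) : Decidable (L4 b0 b1 b2 b3) := by
  unfold L4; infer_instance

def L3 (b0 b1 b2 : Fin 8) : Prop := ∀ b3 : Fin 8, (b3 ≠ 3 ∧ (b0 = 3 ↔ b3 = 0) ∧ (b1 = 3 ↔ b3 = 1) ∧ (b2 = 3 ↔ b3 = 2)) → L4 b0 b1 b2 b3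

instance decL3 (b0 b1 b2 : Fin 8) : Decidable (L3 b0 b1 b2) := by
  unfold L3; infer_instance

def L2 (b0 b1 : Fin 8) : Prop := ∀ b2 : Fin 8, (b2 ≠ 2 ∧ (b0 = 2 ↔ b2 = 0) ∧ (b1 = 2 ↔ b2 = 1)) → L3 b0 b1 b2

instance decL2 (b0 b1 : Fin 8) : Decidable (L2 b0 b1) := by
  unfold L2; infer_instance

def L1 (b0 : Fin 8) : Prop := ∀ b1 : Fin 8, (b1 ≠ 1 ∧ (b0 = 1 ↔ b1 = 0)) → L2 b0 b1

instance decL1 (b0 : Fin 8) : Decidable (L1 b0) := by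
  unfold L1; infer_instance

def L0  : Prop := ∀ b0 : Fin 8, (b0 ≠ 0) → L1 b0

instance decL0  : Decidable (L0 ) := by
  unfold L0; infer_instance

theorem critF_def (m τ : Fin 8 → Fin 8) : CritF m τ ↔
    (∀ a, τ (m a) = m (τ a)) ∧ ((∀ a, τ a = a ∨ τ a = m a) ∨ (∀ a, τ a ≠ a ∧ τ a ≠ m a)) := Iff.rfl

theorem goodF_def (f τ : Fin 8 → Fin 8) : GoodF f τ ↔
    (∀ a, τ (τ a) = a) ∧ (∃ a, τ a ≠ a) ∧ CritF m0f τ ∧ CritF f τ := Iff.rfl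

theorem pF_def (f : Fin 8 → Fin 8) : PF f ↔
    ((∃ a, f a = m0f a ∧ GoodF f (swapF a (m0f a))) ∨ GoodF f (m0f ∘ f) ∨
      GoodF f ((m0f ∘ f) ∘ (m0f ∘ f))) := Iff.rfl

set_option maxRecDepth 100000 in
theorem CL0 : L0 := by
  decide

/-- The combinatorial lemma on pairs of perfect matchings of eight points. -/
theorem CL (f : Fin 8 → Fin 8) (hinv : ∀ a, f (f a) = a) (hfpf : ∀ a, f a ≠ a) : PF f := by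
  have hiff : ∀ i j : Fin 8, f i = j ↔ f j = i := by
    intro i j
    constructor
    · intro h; rw [← h, hinv]
    · intro h; rw [← h, hinv]
  have h := CL0 (f 0) (hfpf 0) (f 1) ⟨hfpf 1, hiff 0 1⟩ (f 2) ⟨hfpf 2, hiff 0 2, hiff 1 2⟩ (f 3) ⟨hfpf 3, hiff 0 3, hiff 1 3, hiff 2 3⟩ (f 4) ⟨hfpf 4, hiff 0 4, hiff 1 4, hiff 2 4, hiff 3 4⟩ (f 5) ⟨hfpf 5, hiff 0 5, hiff 1 5, hiff 2 5, hiff 3 5, hiff 4 5⟩ (f 6) ⟨hfpf 6, hiff 0 6, hiff 1 6, hiff 2 6, hiff 3 6, hiff 4 6, hiff 5 6⟩ (f 7) ⟨hfpf 7, hiff 0 7, hiff 1 7, hiff 2 7, hiff 3 7, hiff 4 7, hiff 5 7, hiff 6 7⟩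

  have hf : ![f 0, f 1, f 2, f 3, f 4, f 5, f 6, f 7] = f := by
    funext a
    fin_cases a <;> rfl
  unfold L8 at h
  rwa [hf] at h

end Cfsg.Agent.Helper28.S8
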