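import Mathlib
import Cfsg.Agent.Lib.Lead.NC2Defs

/-!
# S3894 (n = 2), piece N2-WITNS: for `q ≥ 4` and `x` without eigenvector there is `y` commuting with `x`,
of determinant `1`, with `y * y` not scalar (`y = det(a + x)⁻¹ • (a + x)²` for a suitable `a`).
-/

set_option autoImplicit false

namespace Cfsg.Agent.Lead.NC2

open Matrix

variable {F : Type*} [Field F]

/-- the square of `p + q X` by Cayley–Hamilton. -/
theorem nc2_witns_sq (X : Matrix (Fin 2) (Fin 2) F) (p q : F) :
    (p • (1 : Matrix (Fin 2) (Fin 2) F) + q • X) * (p • (1 : Matrix (Fin 2) (Fin 2) F) + q • X) =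
      (p * p - X.det * (q * q)) • (1 : Matrix (Fin 2) (Fin 2) F) +
        (2 * p * q + X.trace * (q * q)) • X := by
  ext i j
  fin_cases i <;> fin_cases j <;>
    simp [Matrix.mul_apply, Fin.sum_univ_two, Matrix.trace_fin_two, Matrix.det_fin_two] <;> ring

theorem nc2_witns_not_isScalar {x : GL (Fin 2) F} (hx : NoEig x) :
    ¬ IsScalar (x : Matrix (Fin 2) (Fin 2) F) := by
  rintro ⟨c, hc⟩
  refine hx (fun i => if i = 0 then 1 else 0) c ?_ ?_
  · intro h
    have := congrFun h 0
    simp at this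
  · rw [hc, Matrix.smul_mulVec, Matrix.one_mulVec]

theorem nc2_witns_det_add_ne_zero {x : GL (Fin 2) F} (hx : NoEig x) (a : F) :
    (a • (1 : Matrix (Fin 2) (Fin 2) F) + (x : Matrix (Fin 2) (Fin 2) F)).det ≠ 0 := by
  intro h
  obtain ⟨v, hv0, hv⟩ := Matrix.exists_mulVec_eq_zero_iff.2 h
  refine hx v (-a) hv0 ?_
  rw [Matrix.add_mulVec, Matrix.smul_mulVec, Matrix.one_mulVec] at hv
  rw [neg_smul]
  exact eq_neg_of_add_eq_zero_right hv

section fin

variable [Fintype F]

theorem nc2_witns_exists_nonroot (hq : 4 ≤ Fintype.card F) (p : Polynomial F) (hp : p ≠ 0)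
    (hdeg : p.natDegree ≤ 3) : ∃ a : F, p.eval a ≠ 0 := by
  classical
  by_contra h
  push Not at h
  have h1 : Fintype.card F ≤ p.roots.toFinset.card := by
    rw [← Finset.card_univ]
    apply Finset.card_le_card
    intro a _
    rw [Multiset.mem_toFinset, Polynomial.mem_roots hp]
    exact h a
  have h2 := Multiset.toFinset_card_le p.roots
  have h3 := Polynomial.card_roots' p
  omega

theorem nc2_witns_exists_coef (hq : 4 ≤ Fintype.card F) {τ d : F}
    (hchar2 : (2 : F) = 0 → τ ≠ 0) :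
    ∃ a : F, (2 * a + τ) * (2 * (a * a - d) + τ * (2 * a + τ)) ≠ 0 := by
  by_cases h2 : (2 : F) = 0
  · refine ⟨0, ?_⟩
    have hτ := hchar2 h2
    simp only [h2, zero_mul, zero_add]
    exact mul_ne_zero hτ (mul_ne_zero hτ hτ)
  · let p : Polynomial F :=
      (Polynomial.C 2 * Polynomial.X + Polynomial.C τ) *
        (Polynomial.C 2 * Polynomial.X ^ 2 + Polynomial.C (2 * τ) * Polynomial.X +
          Polynomial.C (τ * τ - 2 * d))
    have hp1 : (Polynomial.C (2 : F) * Polynomial.X + Polynomial.C τ) ≠ 0 := by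
      intro h
      have := Polynomial.degree_linear (a := (2 : F)) (b := τ) h2
      rw [h] at this
      simp at this
    have hp2 : (Polynomial.C (2 : F) * Polynomial.X ^ 2 + Polynomial.C (2 * τ) * Polynomial.X +
          Polynomial.C (τ * τ - 2 * d)) ≠ 0 := by
      intro h
      have := Polynomial.degree_quadratic (a := (2 : F)) (b := 2 * τ) (c := τ * τ - 2 * d) h2
      rw [h] at this
      simp at this
    have hp : p ≠ 0 := mul_ne_zero hp1 hp2
    have hdeg : p.natDegree ≤ 3 := by
      refine le_trans Polynomial.natDegree_mul_le ?_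
      have h1 := Polynomial.natDegree_linear_le (a := (2 : F)) (b := τ)
      have h2' := Polynomial.natDegree_quadratic_le (a := (2 : F)) (b := 2 * τ)
        (c := τ * τ - 2 * d)
      omega
    obtain ⟨a, ha⟩ := nc2_witns_exists_nonroot hq p hp hdeg
    refine ⟨a, ?_⟩
    intro h
    apply ha
    simp only [p, Polynomial.eval_mul, Polynomial.eval_add, Polynomial.eval_C, Polynomial.eval_X,
      Polynomial.eval_pow]
    linear_combination h

theorem nc2_witns_trace_ne_zero {x : GL (Fin 2) F} (hx : NoEig x) (h2 : (2 : F) = 0) :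
    (x : Matrix (Fin 2) (Fin 2) F).trace ≠ 0 := by
  intro ht
  have : CharP F 2 := CharTwo.of_one_ne_zero_of_two_eq_zero one_ne_zero h2
  have hchar : ringChar F = 2 := ringChar.eq F 2
  obtain ⟨e, he⟩ := FiniteField.isSquare_of_char_two hchar (x : Matrix (Fin 2) (Fin 2) F).det
  have hdet : ((x : Matrix (Fin 2) (Fin 2) F) - e • (1 : Matrix (Fin 2) (Fin 2) F)).det = 0 := by
    rw [Matrix.det_fin_two] at he ⊢
    rw [Matrix.trace_fin_two] at ht
    simp only [Matrix.sub_apply, Matrix.smul_apply, Matrix.one_apply_eq, smul_eq_mul, mul_one,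
      Matrix.one_apply_ne (show (0 : Fin 2) ≠ 1 by decide),
      Matrix.one_apply_ne (show (1 : Fin 2) ≠ 0 by decide), mul_zero, sub_zero]
    linear_combination he - e * ht + (e * e) * h2
  obtain ⟨v, hv0, hv⟩ := Matrix.exists_mulVec_eq_zero_iff.2 hdet
  refine hx v e hv0 ?_
  rw [Matrix.sub_mulVec, Matrix.smul_mulVec, Matrix.one_mulVec, sub_eq_zero] at hv
  exact hv

theorem exists_pow_four_not_scalar (hq : 4 ≤ Fintype.card F) {x : GL (Fin 2) F} (hx : NoEig x) :
    ∃ y : GL (Fin 2) F, y * x = x * y ∧ (y : Matrix (Fin 2) (Fin 2) F).det = 1 ∧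
      ¬ IsScalar ((y : Matrix (Fin 2) (Fin 2) F) * (y : Matrix (Fin 2) (Fin 2) F)) := by
  set X : Matrix (Fin 2) (Fin 2) F := (x : Matrix (Fin 2) (Fin 2) F) with hX
  obtain ⟨a, ha⟩ := nc2_witns_exists_coef hq (τ := X.trace) (d := X.det)
    (fun h2 => nc2_witns_trace_ne_zero hx h2)
  set M : Matrix (Fin 2) (Fin 2) F := a • (1 : Matrix (Fin 2) (Fin 2) F) + X with hM
  have hδ : M.det ≠ 0 := nc2_witns_det_add_ne_zero hx a
  set δ : F := M.det with hδdef
  set Y : Matrix (Fin 2) (Fin 2) F := δ⁻¹ • (M * M) with hY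
  have hYdet : Y.det = 1 := by
    rw [hY, Matrix.det_smul, Matrix.det_mul, Fintype.card_fin, ← hδdef]
    field_simp
  have hMM : M * M = (a * a - X.det) • (1 : Matrix (Fin 2) (Fin 2) F) +
      (2 * a + X.trace) • X := by
    have := nc2_witns_sq X a 1
    rw [one_smul] at this
    rw [hM, this]
    congr 2 <;> ring
  have hcM : Commute M X := ((Commute.one_left X).smul_left a).add_left (Commute.refl X)
  have hcY : Commute Y X := (hcM.mul_left hcM).smul_left δ⁻¹
  refine ⟨Matrix.GeneralLinearGroup.mkOfDetNeZero Y (by rw [hYdet]; exact one_ne_zero), ?_, ?_, ?_⟩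
  · apply Units.ext
    rw [Units.val_mul, Units.val_mul]
    exact hcY
  · exact hYdet
  · rintro ⟨c, hc⟩
    have hYY : Y * Y = (δ⁻¹ * δ⁻¹) • ((M * M) * (M * M)) := by
      rw [hY, smul_mul_assoc, mul_smul_comm, smul_smul]
    have h4 := nc2_witns_sq X (a * a - X.det) (2 * a + X.trace)
    rw [← hMM] at h4
    have hc' : (Y * Y : Matrix (Fin 2) (Fin 2) F) = c • 1 := hc
    rw [hYY, h4] at hc'
    -- `B • X` is scalar, so `X` is scalar
    set A : F := (a * a - X.det) * (a * a - X.det) -
      X.det * ((2 * a + X.trace) * (2 * a + X.trace)) with hA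
    set B : F := 2 * (a * a - X.det) * (2 * a + X.trace) +
      X.trace * ((2 * a + X.trace) * (2 * a + X.trace)) with hB
    have hB0 : B ≠ 0 := by
      intro h
      apply ha
      rw [hB] at h
      linear_combination h
    apply nc2_witns_not_isScalar hx
    refine ⟨B⁻¹ * (δ * δ * c - A), ?_⟩
    have h5 : B • X = (δ * δ * c - A) • (1 : Matrix (Fin 2) (Fin 2) F) := by
      have h6 := congrArg (fun Z : Matrix (Fin 2) (Fin 2) F => (δ * δ) • Z) hc'
      simp only [smul_smul] at h6
      have h7 : δ * δ * (δ⁻¹ * δ⁻¹) = 1 := by field_simp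
      rw [h7, one_smul] at h6
      rw [sub_smul, ← h6]
      abel
    rw [← hX]
    calc X = B⁻¹ • (B • X) := by rw [smul_smul, inv_mul_cancel₀ hB0, one_smul]
      _ = (B⁻¹ * (δ * δ * c - A)) • (1 : Matrix (Fin 2) (Fin 2) F) := by rw [h5, smul_smul]

end fin

end Cfsg.Agent.Lead.NC2
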