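import Mathlib
import Cfsg.Prelude.Def_GeometricClasses
import Cfsg.Agent.Lib.Helper28.Transvec
import Cfsg.Agent.Lib.Helper11.UnitaryGen2
import Cfsg.Agent.Lib.Helper11.UnitarySimple

/-!
# Unitary transvections as elements of `GL ι F`, any index type (helper28)
-/

set_option autoImplicit false

namespace Cfsg.Agent.Helper28.SuGen

open Cfsg Matrix Cfsg.Agent.Helper28 Cfsg.Agent.Helper11.Herm
open Cfsg.Agent.Helper11

variable {F : Type*} [Field F] {ι : Type} [Fintype ι] [DecidableEq ι] (φ : F →+* F)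

theorem gl_ext (g h : GL ι F)
    (H : ∀ x, (g : Matrix ι ι F) *ᵥ x = (h : Matrix ι ι F) *ᵥ x) : g = h := by
  apply Units.ext
  rw [Matrix.ext_iff_mulVec]
  exact H

open scoped Classical in
/-- the unitary transvection `x ↦ x + c h(x,v) v` in `GL` (the identity if `v` is not isotropic) -/
noncomputable def UT (v : ι → F) (c : F) : GL ι F :=
  if h : hdot φ v v = 0 then
    ⟨Herm.tv φ v c, Herm.tv φ v (-c),
      by rw [tv_mul_tv φ v h, add_neg_cancel, tv_zero_right],
      by rw [tv_mul_tv φ v h, neg_add_cancel, tv_zero_right]⟩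
  else 1

theorem UT_val (v : ι → F) (hv : hdot φ v v = 0) (c : F) :
    ((UT φ v c : GL ι F) : Matrix ι ι F) = Herm.tv φ v c := by
  unfold UT
  rw [dif_pos hv]

theorem UT_mulVec (v : ι → F) (hv : hdot φ v v = 0) (c : F) (x : ι → F) :
    ((UT φ v c : GL ι F) : Matrix ι ι F) *ᵥ x = x + (c * hdot φ x v) • v := by
  rw [UT_val φ v hv, Herm.tv_mulVec]

theorem UT_mem_UG (hφφ : ∀ x, φ (φ x) = x) (v : ι → F) (hv : hdot φ v v = 0) (c : F)
    (hc : c + φ c = 0) : UT φ v c ∈ UG ι φ := by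
  rw [mem_UG_iff, UT_val φ v hv]
  apply isU_tv φ hφφ
  rw [hv, mul_zero, add_zero, hc]

theorem UT_mem_SL (v : ι → F) (hv : hdot φ v v = 0) (c : F) :
    UT φ v c ∈ Cfsg.Geo.specialLinear ι F := by
  rw [mem_specialLinear_iff]
  apply Units.ext
  rw [Matrix.GeneralLinearGroup.val_det_apply, UT_val φ v hv, det_tv, hv, mul_zero, add_zero,
    Units.val_one]

theorem inv_mulVec_mulVec (g : GL ι F) (x : ι → F) :
    (g : Matrix ι ι F) *ᵥ (((g⁻¹ : GL ι F) : Matrix ι ι F) *ᵥ x) = x := by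
  rw [Matrix.mulVec_mulVec, ← Units.val_mul, mul_inv_cancel, Units.val_one, Matrix.one_mulVec]

theorem mulVec_inv_mulVec (g : GL ι F) (x : ι → F) :
    ((g⁻¹ : GL ι F) : Matrix ι ι F) *ᵥ ((g : Matrix ι ι F) *ᵥ x) = x := by
  rw [Matrix.mulVec_mulVec, ← Units.val_mul, inv_mul_cancel, Units.val_one, Matrix.one_mulVec]

theorem hdot_inv (g : GL ι F) (hg : g ∈ UG ι φ) (x v : ι → F) :
    hdot φ (((g⁻¹ : GL ι F) : Matrix ι ι F) *ᵥ x) v =
      hdot φ x ((g : Matrix ι ι F) *ᵥ v) := by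
  have := IsU.hdot_mulVec φ ((mem_UG_iff φ g).mp hg)
    (((g⁻¹ : GL ι F) : Matrix ι ι F) *ᵥ x) v
  rw [inv_mulVec_mulVec] at this
  exact this.symm

theorem conj_UT (g : GL ι F) (hg : g ∈ UG ι φ) (v : ι → F) (hv : hdot φ v v = 0)
    (c : F) : g * UT φ v c * g⁻¹ = UT φ ((g : Matrix ι ι F) *ᵥ v) c := by
  have hgv : hdot φ ((g : Matrix ι ι F) *ᵥ v) ((g : Matrix ι ι F) *ᵥ v) = 0 := by
    rw [IsU.hdot_mulVec φ ((mem_UG_iff φ g).mp hg), hv]
  apply gl_ext
  intro x
  rw [Units.val_mul, Units.val_mul, ← Matrix.mulVec_mulVec, ← Matrix.mulVec_mulVec,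
    UT_mulVec φ v hv, UT_mulVec φ _ hgv, Matrix.mulVec_add, inv_mulVec_mulVec, Matrix.mulVec_smul,
    hdot_inv φ g hg]

/-- the isotropic vectors all of whose transvections lie in `M` -/
def Cen (M : Subgroup (GL ι F)) : Set (ι → F) :=
  {v | hdot φ v v = 0 ∧ ∀ c : F, c + φ c = 0 → UT φ v c ∈ M}

theorem cen_smul (M : Subgroup (GL ι F)) (g : GL ι F) (hgM : g ∈ M)
    (hg : g ∈ UG ι φ) (v : ι → F) (hv : v ∈ Cen φ M) :
    (g : Matrix ι ι F) *ᵥ v ∈ Cen φ M := by
  refine ⟨by rw [IsU.hdot_mulVec φ ((mem_UG_iff φ g).mp hg), hv.1], fun c hc => ?_⟩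
  rw [← conj_UT φ g hg v hv.1]
  exact M.mul_mem (M.mul_mem hgM (hv.2 c hc)) (M.inv_mem hgM)

theorem cen_scalar (hφφ : ∀ x, φ (φ x) = x) (M : Subgroup (GL ι F)) (b : F) (v : ι → F)
    (hv : v ∈ Cen φ M) : b • v ∈ Cen φ M := by
  have hbv : hdot φ (b • v) (b • v) = 0 := by
    rw [hdot_smul_left, hdot_smul_right, hv.1, mul_zero, mul_zero]
  refine ⟨hbv, fun c hc => ?_⟩
  have : UT φ (b • v) c = UT φ v (b * φ b * c) := by
    apply gl_ext
    intro x
    rw [UT_mulVec φ _ hbv, UT_mulVec φ _ hv.1, hdot_smul_right, smul_smul]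
    congr 2
    ring
  rw [this]
  apply hv.2
  rw [map_mul, map_mul, hφφ]
  linear_combination (b * φ b) * hc

/-- hyperbolic line closure -/
theorem cen_line (hφφ : ∀ x, φ (φ x) = x) (M : Subgroup (GL ι F)) (hMU : M ≤ UG ι φ)
    (x z : ι → F) (hx : x ∈ Cen φ M) (hz : z ∈ Cen φ M) (c : F) (hc : c + φ c = 0) :
    x + (c * hdot φ x z) • z ∈ Cen φ M := by
  have h1 := cen_smul φ M (UT φ z c) (hz.2 c hc) (UT_mem_UG φ hφφ z hz.1 c hc) x hx
  rwa [UT_mulVec φ z hz.1] at h1

theorem stab_of_maps [Finite F] (S : Set (ι → F)) (g : GL ι F)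
    (h : ∀ v ∈ S, (g : Matrix ι ι F) *ᵥ v ∈ S) : g ∈ Cfsg.stabilizing (Cfsg.glToMat ι F) S := by
  have hpow : ∀ k : ℕ, ∀ v ∈ S, ((g ^ k : GL ι F) : Matrix ι ι F) *ᵥ v ∈ S := by
    intro k
    induction k with
    | zero => intro v hv; rw [pow_zero, Units.val_one, Matrix.one_mulVec]; exact hv
    | succ k ih =>
      intro v hv
      rw [pow_succ, Units.val_mul, ← Matrix.mulVec_mulVec]
      exact ih _ (h v hv)
  have hinv : g⁻¹ = g ^ (orderOf g - 1) := by
    rw [inv_eq_iff_mul_eq_one, ← pow_succ']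
    have : 0 < orderOf g := orderOf_pos g
    rw [show orderOf g - 1 + 1 = orderOf g by omega]
    exact pow_orderOf_eq_one g
  intro v
  constructor
  · exact h v
  · intro hv
    have hv' : (g : Matrix ι ι F) *ᵥ v ∈ S := hv
    have := hpow (orderOf g - 1) _ hv'
    rwa [← hinv, mulVec_inv_mulVec] at this

/-- the special unitary group inside `GL` -/
abbrev SUg (ι : Type) [Fintype ι] [DecidableEq ι] (φ : F →+* F) : Subgroup (GL ι F) :=
  UG ι φ ⊓ Cfsg.Geo.specialLinear ι F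

/-- generation: a subgroup containing all unitary transvections contains `SU` -/
theorem sug_le_of_UT [Finite F] (hφ : φ ≠ RingHom.id F) (hφφ : ∀ x, φ (φ x) = x)
    (hN1 : ∀ c : F, c ≠ 0 → φ c = c → ∃ l : F, l ≠ 0 ∧ l * φ l = c) (hn : 4 ≤ Fintype.card ι)
    (M : Subgroup (GL ι F))
    (hM : ∀ v : ι → F, hdot φ v v = 0 → ∀ c : F, c + φ c = 0 → UT φ v c ∈ M) :
    SUg ι φ ≤ M := by
  have key : ∀ A : Matrix ι ι F, A ∈ TM φ → ∀ g : GL ι F,
      (g : Matrix ι ι F) = A → g ∈ M := by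
    intro A hA
    induction hA using Submonoid.closure_induction with
    | mem A hA =>
      obtain ⟨v, c, hv, hc, rfl⟩ := hA
      intro g hg
      have : g = UT φ v c := by
        apply Units.ext
        rw [hg, UT_val φ v hv]
      rw [this]
      exact hM v hv c hc
    | one =>
      intro g hg
      have : g = 1 := Units.ext hg
      rw [this]
      exact one_mem _
    | mul A B hA hB ihA ihB =>
      intro g hg
      have hdA : IsUnit A.det := by
        rw [(isU_of_mem_TM φ hφφ hA).2]; exact isUnit_one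
      have hdB : IsUnit B.det := by
        rw [(isU_of_mem_TM φ hφφ hB).2]; exact isUnit_one
      have : g = Matrix.GeneralLinearGroup.mk'' A hdA * Matrix.GeneralLinearGroup.mk'' B hdB := by
        apply Units.ext
        rw [hg, Units.val_mul]
        rfl
      rw [this]
      exact M.mul_mem (ihA _ rfl) (ihB _ rfl)
  intro g hg
  have hdet : (g : Matrix ι ι F).det = 1 := by
    have := (mem_specialLinear_iff g).mp hg.2
    have h2 := congrArg Units.val this
    rwa [Matrix.GeneralLinearGroup.val_det_apply, Units.val_one] at h2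
  have hne : Nonempty ι := by
    rw [← Fintype.card_pos_iff]; omega
  obtain ⟨i0⟩ := hne
  exact key _ (mem_TM_of_isU_of_det φ hφ hφφ hN1 (Or.inl hn) i0 _
    ((mem_UG_iff φ g).mp hg.1) hdet) g rfl

/-- transfer of maximality along a group isomorphism -/
theorem isMaximalIn_of_equiv {G G' : Type*} [Group G] [Group G'] (Θ : G ≃* G')
    (K H : Subgroup G) (K' H' : Subgroup G') (hK : ∀ g, g ∈ K ↔ Θ g ∈ K')
    (hH : ∀ g, g ∈ H ↔ Θ g ∈ H') (h : Cfsg.Geo.IsMaximalIn K' H') : Cfsg.Geo.IsMaximalIn K H := by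
  have hKc : K = K'.comap Θ.toMonoidHom := by
    ext g; exact hK g
  have hHc : H = H'.comap Θ.toMonoidHom := by
    ext g; exact hH g
  obtain ⟨hlt, hmax⟩ := h
  refine ⟨?_, ?_⟩
  · rw [lt_iff_le_and_ne] at hlt ⊢
    refine ⟨?_, ?_⟩
    · intro g hg
      exact (hK g).mpr (hlt.1 ((hH g).mp hg))
    · intro heq
      apply hlt.2
      ext g'
      obtain ⟨g, rfl⟩ := Θ.surjective g'
      rw [← hK, ← hH, heq]
  · intro M hHM hMK
    have h1 : H' ≤ M.map Θ.toMonoidHom := by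
      intro g' hg'
      obtain ⟨g, rfl⟩ := Θ.surjective g'
      exact ⟨g, hHM ((hH g).mpr hg'), rfl⟩
    have h2 : M.map Θ.toMonoidHom ≤ K' := by
      rintro _ ⟨g, hg, rfl⟩
      exact (hK g).mp (hMK hg)
    rcases hmax _ h1 h2 with h3 | h3
    · left
      ext g
      constructor
      · intro hg
        have : Θ g ∈ M.map Θ.toMonoidHom := ⟨g, hg, rfl⟩
        rw [h3] at this
        exact (hH g).mpr this
      · intro hg; exact hHM hg
    · right
      ext g
      constructor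
      · intro hg; exact hMK hg
      · intro hg
        have : Θ g ∈ M.map Θ.toMonoidHom := by rw [h3]; exact (hK g).mp hg
        obtain ⟨g₂, hg₂, hgg⟩ := this
        have : g₂ = g := Θ.injective hgg
        rw [← this]; exact hg₂

end Cfsg.Agent.Helper28.SuGen
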