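import Mathlib
import Cfsg.Agent.Lib.Helper2.OrthGen
import Cfsg.Agent.Lib.Helper2.OrthCenter
import Cfsg.Agent.Lib.Helper28.SuGen
import Cfsg.Agent.Lib.Helper17.OmegaElts

set_option autoImplicit false
set_option linter.unusedSectionVars false

/-! Full root groups (Eichler transformations with a given singular centre) inside a subgroup of
an orthogonal group, and the closure properties used for the maximality of stabilisers. -/

namespace Cfsg.Agent.Helper28.OrthRoot

open QuadraticMap Matrix Cfsg.Agent.Helper28.Siegel Cfsg.Agent.Helper28.WittQuad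
  Cfsg.Agent.Helper17.Spinor Cfsg.Agent.Helper2.Orth

variable {F : Type*} [Field F] {ι : Type} [Fintype ι] [DecidableEq ι] {Q : QuadraticForm F (ι → F)}

theorem Q_sub_eq (x y : ι → F) : Q (x - y) = Q x + Q y - polar Q x y := by
  have h := Q_sub_smul Q x y 1
  rw [one_smul] at h
  rw [h]
  ring

/-- the non-zero singular vectors all of whose Eichler transformations lie in `M` -/
def Rt (M : Subgroup (Cfsg.isometryGroup F (⇑Q))) : Set (ι → F) :=
  {z | z ≠ 0 ∧ Q z = 0 ∧ ∀ b, polar Q z b = 0 → eichG Q z b ∈ M}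

theorem smul_eq_zero_iff' (g : Cfsg.isometryGroup F (⇑Q)) (v : ι → F) : g • v = 0 ↔ v = 0 := by
  constructor
  · intro h
    have := congrArg (fun x => g⁻¹ • x) h
    simp only [inv_smul_smul] at this
    rw [this, Cfsg.Agent.Helper2.Orth.smul_def, Matrix.mulVec_zero]
  · intro h
    rw [h, Cfsg.Agent.Helper2.Orth.smul_def, Matrix.mulVec_zero]

theorem rt_smul (M : Subgroup (Cfsg.isometryGroup F (⇑Q))) (g : Cfsg.isometryGroup F (⇑Q))
    (hg : g ∈ M) (z : ι → F) (hz : z ∈ Rt M) : g • z ∈ Rt M := by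
  obtain ⟨hz0, hzQ, hzM⟩ := hz
  refine ⟨fun h => hz0 ((smul_eq_zero_iff' g z).mp h), by rw [Q_smul Q, hzQ], fun b hb => ?_⟩
  have hb' : polar Q z (g⁻¹ • b) = 0 := by
    rw [← polar_smul_smul Q g, smul_inv_smul]
    exact hb
  have := eichG_conj g hzQ hb'
  rw [smul_inv_smul] at this
  rw [← this]
  exact M.mul_mem (M.mul_mem hg (hzM _ hb')) (M.inv_mem hg)

theorem rt_scalar (M : Subgroup (Cfsg.isometryGroup F (⇑Q))) (a : F) (ha : a ≠ 0) (z : ι → F)
    (hz : z ∈ Rt M) : a • z ∈ Rt M := by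
  obtain ⟨hz0, hzQ, hzM⟩ := hz
  refine ⟨smul_ne_zero ha hz0, by rw [QuadraticMap.map_smul, hzQ, smul_zero], fun b hb => ?_⟩
  rw [polar_smul_left, smul_eq_mul] at hb
  have hzb : polar Q z b = 0 := (mul_eq_zero.mp hb).resolve_left ha
  rw [eichG_smul_left hzQ hzb]
  apply hzM
  rw [polar_smul_right, hzb, smul_zero]

/-- the key closure property: from a non-orthogonal pair of centres one gets every singular vector
not orthogonal to the second one -/
theorem star (M : Subgroup (Cfsg.isometryGroup F (⇑Q))) (z z' : ι → F) (hz : z ∈ Rt M)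
    (hz' : z' ∈ Rt M) (hzz' : polar Q z z' ≠ 0) (y : ι → F) (hy : Q y = 0)
    (hyz' : polar Q y z' ≠ 0) : y ∈ Rt M := by
  obtain ⟨c, hc⟩ : ∃ c, c = polar Q y z' := ⟨_, rfl⟩
  rw [← hc] at hyz'
  obtain ⟨z₁, hz₁def⟩ : ∃ z₁, z₁ = (c / polar Q z z') • z := ⟨_, rfl⟩
  have hz₁ : z₁ ∈ Rt M := by
    rw [hz₁def]
    exact rt_scalar M _ (div_ne_zero hyz' hzz') z hz
  have hz₁z' : polar Q z₁ z' = c := by
    rw [hz₁def, polar_smul_left, smul_eq_mul, div_mul_cancel₀ _ hzz']
  have hz₁Q : Q z₁ = 0 := hz₁.2.1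
  obtain ⟨b, hbdef⟩ : ∃ b, b = c⁻¹ • (z₁ - y) := ⟨_, rfl⟩
  have hz'b : polar Q z' b = 0 := by
    rw [hbdef, polar_smul_right, polar_sub_right, polar_comm Q z' z₁, polar_comm Q z' y, hz₁z',
      ← hc, sub_self, smul_zero]
  have hE : eichG Q z' b ∈ M := hz'.2.2 b hz'b
  have hQb : Q b = -(c⁻¹ * c⁻¹ * polar Q z₁ y) := by
    rw [hbdef, QuadraticMap.map_smul, Q_sub_eq, hz₁Q, hy, smul_eq_mul]
    ring
  have hbz₁ : polar Q b z₁ = -(c⁻¹ * polar Q z₁ y) := by
    rw [hbdef, polar_smul_left, polar_sub_left, Cfsg.Agent.Helper2.Orth.polar_self_of_singular Q hz₁Q,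
      polar_comm Q y z₁,
      smul_eq_mul]
    ring
  have himg : eichG Q z' b • z₁ = y := by
    rw [eichG_smul hz'.2.1 hz'b, eich_apply, polar_comm Q z' z₁, hz₁z', hbz₁, hQb, hbdef]
    have hcc : c⁻¹ * c = 1 := inv_mul_cancel₀ hyz'
    have e1 : c • c⁻¹ • (z₁ - y) = z₁ - y := by rw [smul_smul, mul_comm, hcc, one_smul]
    have e2 : (-(c⁻¹ * c⁻¹ * polar Q z₁ y)) • c • z' = (-(c⁻¹ * polar Q z₁ y)) • z' := by
      rw [smul_smul]
      congr 1
      calc -(c⁻¹ * c⁻¹ * polar Q z₁ y) * c = -(c⁻¹ * polar Q z₁ y) * (c⁻¹ * c) := by ring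
        _ = -(c⁻¹ * polar Q z₁ y) := by rw [hcc, mul_one]
    rw [e1, e2]
    abel
  rw [← himg]
  exact rt_smul M _ hE z₁ hz₁

/-- a singular partner -/
theorem exists_sing_partner (hQ : (polarBilin Q).Nondegenerate) {x : ι → F} (hx0 : x ≠ 0)
    (hx : Q x = 0) : ∃ y, Q y = 0 ∧ polar Q y x = 1 := by
  obtain ⟨w, hw⟩ := exists_polar_eq_one hQ hx0
  refine ⟨w - Q w • x, ?_, ?_⟩
  · rw [Q_sub_smul, hx, polar_comm Q w x, hw]
    ring
  · rw [polar_sub_left, polar_smul_left, Cfsg.Agent.Helper2.Orth.polar_self_of_singular Q hx,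
      polar_comm Q w x, hw, smul_zero, sub_zero]

/-- a non-singular vector orthogonal to a hyperbolic pair, in dimension at least three -/
theorem exists_nonsing_perp (hQ : (polarBilin Q).Nondegenerate) {x z : ι → F} (hx : Q x = 0)
    (hz : Q z = 0) (hd : polar Q x z ≠ 0) (w : ι → F) (hw : ∀ a b : F, w ≠ a • x + b • z) :
    ∃ e, polar Q e x = 0 ∧ polar Q e z = 0 ∧ Q e ≠ 0 := by
  by_contra hcon
  push Not at hcon
  obtain ⟨d, hddef⟩ : ∃ d, d = polar Q x z := ⟨_, rfl⟩
  rw [← hddef] at hd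
  have hxx := Cfsg.Agent.Helper2.Orth.polar_self_of_singular Q hx
  have hzz := Cfsg.Agent.Helper2.Orth.polar_self_of_singular Q hz
  have hzx : polar Q z x = d := by rw [polar_comm, hddef]
  -- the projection to the orthogonal complement of the pair
  have hproj : ∀ v : ι → F, polar Q (v - (polar Q v z / d) • x - (polar Q v x / d) • z) x = 0 ∧
      polar Q (v - (polar Q v z / d) • x - (polar Q v x / d) • z) z = 0 := by
    intro v
    constructor
    · rw [polar_sub_left, polar_sub_left, polar_smul_left, polar_smul_left, hxx, hzx, smul_eq_mul,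
        smul_eq_mul, mul_zero, sub_zero, div_mul_cancel₀ _ hd, sub_self]
    · rw [polar_sub_left, polar_sub_left, polar_smul_left, polar_smul_left, hzz, ← hddef,
        smul_eq_mul, smul_eq_mul, mul_zero, sub_zero, div_mul_cancel₀ _ hd, sub_self]
  obtain ⟨w', hw'def⟩ : ∃ w', w' = w - (polar Q w z / d) • x - (polar Q w x / d) • z := ⟨_, rfl⟩
  have hw'0 : w' ≠ 0 := by
    intro h
    apply hw (polar Q w z / d) (polar Q w x / d)
    rw [hw'def, sub_sub, sub_eq_zero] at h
    exact h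
  have hw'x : polar Q w' x = 0 := by rw [hw'def]; exact (hproj w).1
  have hw'z : polar Q w' z = 0 := by rw [hw'def]; exact (hproj w).2
  apply hw'0
  apply hQ.1
  intro v
  obtain ⟨v', hv'def⟩ : ∃ v', v' = v - (polar Q v z / d) • x - (polar Q v x / d) • z := ⟨_, rfl⟩
  have hv : v = v' + (polar Q v z / d) • x + (polar Q v x / d) • z := by
    rw [hv'def]; abel
  have hv'x : polar Q v' x = 0 := by rw [hv'def]; exact (hproj v).1
  have hv'z : polar Q v' z = 0 := by rw [hv'def]; exact (hproj v).2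
  have h1 : polar Q w' v' = 0 := by
    have e1 := hcon w' hw'x hw'z
    have e2 := hcon v' hv'x hv'z
    have e3 := hcon (w' + v') (by rw [polar_add_left, hw'x, hv'x, add_zero])
      (by rw [polar_add_left, hw'z, hv'z, add_zero])
    rw [Q_add' Q, e1, e2, zero_add, zero_add] at e3
    exact e3
  show polar Q w' v = 0
  rw [hv, polar_add_right, polar_add_right, polar_smul_right, polar_smul_right, h1, hw'x, hw'z,
    smul_zero, smul_zero, add_zero, add_zero]

/-- any two non-zero singular vectors have a common singular non-neighbour -/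
theorem diam2 (hQ : (polarBilin Q).Nondegenerate)
    (hdim : ∀ x z : ι → F, ∃ w : ι → F, ∀ a b : F, w ≠ a • x + b • z) {x z : ι → F}
    (hx0 : x ≠ 0) (hx : Q x = 0) (hz0 : z ≠ 0) (hz : Q z = 0) :
    ∃ y, Q y = 0 ∧ polar Q y z ≠ 0 ∧ polar Q y x ≠ 0 := by
  have hxx := Cfsg.Agent.Helper2.Orth.polar_self_of_singular Q hx
  have hzz := Cfsg.Agent.Helper2.Orth.polar_self_of_singular Q hz
  by_cases hd : polar Q x z = 0
  · obtain ⟨y₀, hy₀, hy₀z⟩ := exists_sing_partner hQ hz0 hz
    obtain ⟨y₁, hy₁, hy₁x⟩ := exists_sing_partner hQ hx0 hx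
    by_cases h0 : polar Q y₀ x = 0
    · by_cases h1 : polar Q y₁ z = 0
      · refine ⟨y₀ + y₁ - polar Q y₀ y₁ • z, ?_, ?_, ?_⟩
        · rw [Q_sub_smul, Q_add' Q, hy₀, hy₁, hz, polar_add_left, hy₀z, h1]
          ring
        · rw [polar_sub_left, polar_add_left, polar_smul_left, hy₀z, h1, hzz, smul_zero, sub_zero,
            add_zero]
          exact one_ne_zero
        · rw [polar_sub_left, polar_add_left, polar_smul_left, h0, hy₁x, polar_comm Q z x, hd,
            smul_zero, sub_zero, zero_add]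
          exact one_ne_zero
      · exact ⟨y₁, hy₁, h1, by rw [hy₁x]; exact one_ne_zero⟩
    · exact ⟨y₀, hy₀, by rw [hy₀z]; exact one_ne_zero, h0⟩
  · obtain ⟨w, hw⟩ := hdim x z
    obtain ⟨e, hex, hez, hQe⟩ := exists_nonsing_perp hQ hx hz hd w hw
    refine ⟨x + (-(Q e) / polar Q x z) • z + e, ?_, ?_, ?_⟩
    · rw [Q_add' Q, Q_add' Q, hx, QuadraticMap.map_smul, hz, polar_smul_right, polar_add_left,
        polar_smul_left, polar_comm Q x e, polar_comm Q z e, hex, hez, smul_eq_mul, smul_eq_mul,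
        smul_eq_mul, mul_zero, div_mul_cancel₀ _ hd]
      ring
    · rw [polar_add_left, polar_add_left, polar_smul_left, hzz, hez, smul_zero, add_zero, add_zero]
      exact hd
    · rw [polar_add_left, polar_add_left, polar_smul_left, hxx, hex, polar_comm Q z x, smul_eq_mul,
        div_mul_cancel₀ _ hd, zero_add, add_zero]
      exact neg_ne_zero.mpr hQe

/-- a non-orthogonal pair of centres forces all singular vectors to be centres -/
theorem rt_all (hQ : (polarBilin Q).Nondegenerate)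
    (hdim : ∀ x z : ι → F, ∃ w : ι → F, ∀ a b : F, w ≠ a • x + b • z)
    (M : Subgroup (Cfsg.isometryGroup F (⇑Q))) (z z' : ι → F) (hz : z ∈ Rt M) (hz' : z' ∈ Rt M)
    (hzz' : polar Q z z' ≠ 0) (x : ι → F) (hx0 : x ≠ 0) (hx : Q x = 0) : x ∈ Rt M := by
  obtain ⟨y, hy, hyz', hyx⟩ := diam2 hQ hdim hx0 hx hz'.1 hz'.2.1
  have hyR : y ∈ Rt M := star M z z' hz hz' hzz' y hy hyz'
  exact star M z' y hz' hyR (by rw [polar_comm]; exact hyz') x hx (by rw [polar_comm]; exact hyx)

theorem eichGroup_le (M : Subgroup (Cfsg.isometryGroup F (⇑Q)))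
    (h : ∀ x : ι → F, x ≠ 0 → Q x = 0 → x ∈ Rt M) : eichGroup Q ≤ M := by
  unfold eichGroup
  rw [Subgroup.closure_le]
  rintro g ⟨z, b, hz, hzb, rfl⟩
  by_cases hz0 : z = 0
  · rw [hz0, eichG_zero_left]
    exact M.one_mem
  · exact (h z hz0 hz).2.2 b hzb

/-! ### transfer of maximality along an injective homomorphism -/

theorem maximal_map {G G' : Type*} [Group G] [Group G'] (f : G →* G') (hf : Function.Injective f)
    (K H : Subgroup G) (h : Cfsg.Geo.IsMaximalIn K H) :
    Cfsg.Geo.IsMaximalIn (K.map f) (H.map f) := by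
  refine ⟨(Subgroup.map_lt_map_iff_of_injective hf).mpr h.1, fun M hHM hMK => ?_⟩
  have hM : M = (M.comap f).map f := by
    rw [Subgroup.map_comap_eq, inf_eq_right.mpr]
    exact hMK.trans (Subgroup.map_le_range f K)
  have h1 : H ≤ M.comap f := by
    rw [← Subgroup.map_le_iff_le_comap]
    exact hHM
  have h2 : M.comap f ≤ K := by
    intro x hx
    have : f x ∈ K.map f := hMK hx
    obtain ⟨y, hy, hyx⟩ := this
    rw [← hf hyx]
    exact hy
  rcases h.2 _ h1 h2 with h3 | h3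
  · left; rw [hM, h3]
  · right; rw [hM, h3]

theorem inf_map_eq {G G' : Type*} [Group G] [Group G'] (f : G →* G') (hf : Function.Injective f)
    (A : Subgroup G') (B : Subgroup G) : A ⊓ B.map f = (A.comap f ⊓ B).map f := by
  ext x
  constructor
  · rintro ⟨hxA, y, hy, rfl⟩
    exact ⟨y, ⟨hxA, hy⟩, rfl⟩
  · rintro ⟨y, ⟨hyA, hyB⟩, rfl⟩
    exact ⟨hyA, y, hyB, rfl⟩

/-! ### stabilisers of totally singular subspaces -/

/-- the stabiliser of a subspace in the isometry group -/
def StabG (Q : QuadraticForm F (ι → F)) (W : Submodule F (ι → F)) :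
    Subgroup (Cfsg.isometryGroup F (⇑Q)) :=
  (Cfsg.Geo.subspaceStabilizer W).comap (Cfsg.isometryGroup F (⇑Q)).subtype

theorem mem_stabG_iff (W : Submodule F (ι → F)) (g : Cfsg.isometryGroup F (⇑Q)) :
    g ∈ StabG Q W ↔ ∀ v, v ∈ W ↔ g • v ∈ W := Iff.rfl

theorem mem_stabG_of_maps [Finite F] (W : Submodule F (ι → F)) (g : Cfsg.isometryGroup F (⇑Q))
    (h : ∀ v ∈ W, g • v ∈ W) : g ∈ StabG Q W :=
  Cfsg.Agent.Helper28.SuGen.stab_of_maps (W : Set (ι → F)) (g : GL ι F) h

theorem polar_eich_diag {z b : ι → F} (y : ι → F) (hy : Q y = 0) :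
    polar Q y (eich Q z b y) = -(Q b * polar Q z y * polar Q z y) := by
  rw [polar_eich, Cfsg.Agent.Helper2.Orth.polar_self_of_singular Q hy, polar_comm Q y z,
    polar_comm Q y b]
  ring

section ts

variable [Finite F] (hQ : (polarBilin Q).Nondegenerate)
  (hdim : ∀ x z : ι → F, ∃ w : ι → F, ∀ a b : F, w ≠ a • x + b • z)
  (hΩ : Cfsg.Omega F (⇑Q) = eichGroup Q)
  (W : Submodule F (ι → F)) (hW : ∀ w ∈ W, Q w = 0)

include hW in
theorem polar_ts (u v : ι → F) (hu : u ∈ W) (hv : v ∈ W) : polar Q u v = 0 := by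
  unfold polar
  rw [hW u hu, hW v hv, hW _ (W.add_mem hu hv)]
  ring

include hW in
theorem eichG_mem_stabG_of_center (z b : ι → F) (hz : z ∈ W) (hzb : polar Q z b = 0) :
    eichG Q z b ∈ StabG Q W := by
  apply mem_stabG_of_maps
  intro v hv
  rw [eichG_smul (hW z hz) hzb, eich_apply, polar_ts W hW z v hz hv, zero_smul, sub_zero,
    zero_smul, smul_zero, sub_zero]
  exact W.add_mem hv (W.smul_mem _ hz)

theorem eichG_mem_stabG_of_perp (z b : ι → F) (hz : Q z = 0) (hzb : polar Q z b = 0)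
    (hzW : ∀ w ∈ W, polar Q z w = 0) (hbW : ∀ w ∈ W, polar Q b w = 0) :
    eichG Q z b ∈ StabG Q W := by
  apply mem_stabG_of_maps
  intro v hv
  rw [eichG_smul hz hzb, eich_apply, hzW v hv, hbW v hv]
  simp only [zero_smul, smul_zero, sub_zero, add_zero]
  exact hv

include hQ hdim hΩ hW in
/-- a subgroup of `Ω` properly containing the stabiliser of a totally singular subspace is `Ω` -/
theorem ts_top
    (hExt : ∀ y : ι → F, Q y = 0 → y ∉ W → (∀ w ∈ W, polar Q y w = 0) →
      ∃ z b : ι → F, Q z = 0 ∧ polar Q z b = 0 ∧ (∀ w ∈ W, polar Q z w = 0) ∧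
        (∀ w ∈ W, polar Q b w = 0) ∧ polar Q z y ≠ 0 ∧ Q b ≠ 0)
    (M : Subgroup (Cfsg.isometryGroup F (⇑Q))) (hHM : StabG Q W ⊓ Cfsg.Omega F (⇑Q) ≤ M)
    (hMΩ : M ≤ Cfsg.Omega F (⇑Q)) (hne : M ≠ StabG Q W ⊓ Cfsg.Omega F (⇑Q)) :
    M = Cfsg.Omega F (⇑Q) := by
  -- the non-zero vectors of `W` are centres
  have hWR : ∀ z ∈ W, z ≠ 0 → z ∈ Rt M := by
    intro z hz hz0
    refine ⟨hz0, hW z hz, fun b hb => hHM ⟨eichG_mem_stabG_of_center W hW z b hz hb, ?_⟩⟩
    rw [hΩ]
    exact eichG_mem (hW z hz) hb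
  -- an element of `M` moving `W`
  obtain ⟨g, hgM, hgH⟩ : ∃ g ∈ M, g ∉ StabG Q W ⊓ Cfsg.Omega F (⇑Q) := by
    by_contra hcon
    push Not at hcon
    exact hne (le_antisymm hcon hHM)
  have hgS : g ∉ StabG Q W := fun h => hgH ⟨h, hMΩ hgM⟩
  obtain ⟨w, hwW, hgw⟩ : ∃ w ∈ W, g • w ∉ W := by
    by_contra hcon
    push Not at hcon
    exact hgS (mem_stabG_of_maps W g hcon)
  have hw0 : w ≠ 0 := by
    intro h
    apply hgw
    rw [h, (smul_eq_zero_iff' g 0).mpr rfl]
    exact W.zero_mem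
  have hyR : g • w ∈ Rt M := rt_smul M g hgM w (hWR w hwW hw0)
  -- a non-orthogonal pair of centres
  have hpair : ∃ z z' : ι → F, z ∈ Rt M ∧ z' ∈ Rt M ∧ polar Q z z' ≠ 0 := by
    by_cases hB : ∀ w' ∈ W, polar Q (g • w) w' = 0
    · obtain ⟨z, b, hz, hzb, hzW, hbW, hzy, hb⟩ := hExt (g • w) hyR.2.1 hgw hB
      have hh : eichG Q z b ∈ M := hHM ⟨eichG_mem_stabG_of_perp W z b hz hzb hzW hbW, by
        rw [hΩ]; exact eichG_mem hz hzb⟩
      refine ⟨g • w, eichG Q z b • (g • w), hyR, rt_smul M _ hh _ hyR, ?_⟩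
      rw [eichG_smul hz hzb, polar_eich_diag _ hyR.2.1]
      exact neg_ne_zero.mpr (mul_ne_zero (mul_ne_zero hb hzy) hzy)
    · push Not at hB
      obtain ⟨w', hw'W, hw'⟩ := hB
      have hw'0 : w' ≠ 0 := by
        intro h
        rw [h, polar_zero_right] at hw'
        exact hw' rfl
      exact ⟨g • w, w', hyR, hWR w' hw'W hw'0, hw'⟩
  obtain ⟨z, z', hz, hz', hzz'⟩ := hpair
  apply le_antisymm hMΩ
  rw [hΩ]
  exact eichGroup_le M (fun x hx0 hx => rt_all hQ hdim M z z' hz hz' hzz' x hx0 hx)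

end ts

/-! ### dimension bounds -/

section bounds

variable [Finite F] (hQ : (polarBilin Q).Nondegenerate) (wi : ℕ)
  (hwi : ∀ U : Submodule F (ι → F), (∀ u ∈ U, Q u = 0) → Module.finrank F U ≤ wi)

include hwi in
theorem exists_nonsing_mem (U : Submodule F (ι → F)) (hU : wi < Module.finrank F U) :
    ∃ u ∈ U, Q u ≠ 0 := by
  by_contra hcon
  push Not at hcon
  have := hwi U hcon
  omega

theorem hdim_of_card (hcard : 3 ≤ Fintype.card ι) (x z : ι → F) :
    ∃ w : ι → F, ∀ a b : F, w ≠ a • x + b • z := by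
  by_contra hcon
  push Not at hcon
  have htop : Submodule.span F {x, z} = ⊤ := by
    rw [eq_top_iff]
    intro w _
    obtain ⟨a, b, hab⟩ := hcon w
    rw [Submodule.mem_span_pair]
    exact ⟨a, b, hab.symm⟩
  have h1 : Module.finrank F (Submodule.span F ({x, z} : Set (ι → F))) ≤ 2 := by
    classical
    have := finrank_span_finset_le_card (R := F) ({x, z} : Finset (ι → F))
    have h2 : ({x, z} : Finset (ι → F)).card ≤ 2 := Finset.card_le_two
    rw [Finset.coe_insert, Finset.coe_singleton] at this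
    exact this.trans h2
  rw [htop, finrank_top, Module.finrank_fintype_fun_eq_card] at h1
  omega

include hQ hwi in
/-- an Eichler transformation not stabilising a non-zero totally singular subspace -/
theorem exists_out (hwi1 : wi + 1 < Fintype.card ι) (W : Submodule F (ι → F)) (hW0 : W ≠ ⊥)
    (hW : ∀ w ∈ W, Q w = 0) : ∃ g ∈ eichGroup Q, g ∉ StabG Q W := by
  obtain ⟨w, hwW, hw0⟩ := Submodule.exists_mem_ne_zero_of_ne_bot hW0
  obtain ⟨y₀, hy₀, hy₀w⟩ := exists_sing_partner hQ hw0 (hW w hwW)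
  have hfr := LinearMap.BilinForm.finrank_orthogonal hQ (Submodule.span F {y₀})
  have h4 : Module.finrank F ↥(Submodule.span F {y₀}) ≤ 1 := by
    classical
    have := finrank_span_finset_le_card (R := F) ({y₀} : Finset (ι → F))
    rw [Finset.coe_singleton, Finset.card_singleton] at this
    exact this
  rw [Module.finrank_fintype_fun_eq_card] at hfr
  obtain ⟨b, hbmem, hb⟩ := exists_nonsing_mem wi hwi
    (LinearMap.BilinForm.orthogonal (polarBilin Q) (Submodule.span F {y₀})) (by omega)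
  have hy₀b : polar Q y₀ b = 0 :=
    (Cfsg.Agent.Helper17.Spinor.mem_orthogonal_iff' Q _ b).1 hbmem y₀
      (Submodule.mem_span_singleton_self y₀)
  refine ⟨eichG Q y₀ b, eichG_mem hy₀ hy₀b, fun hmem => ?_⟩
  have h1 := ((mem_stabG_iff W _).mp hmem w).mp hwW
  have h2 := polar_ts W hW w _ hwW h1
  rw [eichG_smul hy₀ hy₀b, polar_eich_diag _ (hW w hwW), hy₀w, mul_one, mul_one] at h2
  exact hb (neg_eq_zero.mp h2)

include hQ hwi in
/-- the extension hypothesis of `ts_top` from the bound on totally singular subspaces -/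
theorem exists_ext (W : Submodule F (ι → F)) (hW : ∀ w ∈ W, Q w = 0)
    (hk : Module.finrank F W = wi ∨ Module.finrank F W + wi + 1 < Fintype.card ι)
    (y : ι → F) (hy : Q y = 0) (hyW : y ∉ W) (hyp : ∀ w ∈ W, polar Q y w = 0) :
    ∃ z b : ι → F, Q z = 0 ∧ polar Q z b = 0 ∧ (∀ w ∈ W, polar Q z w = 0) ∧
      (∀ w ∈ W, polar Q b w = 0) ∧ polar Q z y ≠ 0 ∧ Q b ≠ 0 := by
  have h1 : Module.finrank F ↥(Submodule.span F {y}) ≤ 1 := by
    classical
    have := finrank_span_finset_le_card (R := F) ({y} : Finset (ι → F))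
    rw [Finset.coe_singleton, Finset.card_singleton] at this
    exact this
  rcases hk with hk | hk
  · -- `W` is maximal totally singular: no such `y`
    exfalso
    have hts : ∀ u ∈ W ⊔ Submodule.span F {y}, Q u = 0 := by
      intro u hu
      obtain ⟨w, hw, v, hv, rfl⟩ := Submodule.mem_sup.mp hu
      obtain ⟨c, rfl⟩ := Submodule.mem_span_singleton.mp hv
      rw [Q_add' Q, hW w hw, QuadraticMap.map_smul, hy, polar_smul_right, polar_comm Q w y,
        hyp w hw]
      simp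
    have h2 := hwi _ hts
    have hlt : W < W ⊔ Submodule.span F {y} := by
      apply lt_of_le_of_ne le_sup_left
      intro h
      apply hyW
      rw [h]
      exact Submodule.mem_sup_right (Submodule.mem_span_singleton_self y)
    have h3 := Submodule.finrank_lt_finrank_of_lt hlt
    omega
  · obtain ⟨z₀, hz₀W, hz₀y⟩ := exists_perp_partner hQ W hyW
    obtain ⟨z, hzdef⟩ : ∃ z, z = z₀ - Q z₀ • y := ⟨_, rfl⟩
    have hz : Q z = 0 := by
      rw [hzdef, Q_sub_smul, hy, hz₀y]
      ring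
    have hzy : polar Q z y = 1 := by
      rw [hzdef, polar_sub_left, polar_smul_left,
        Cfsg.Agent.Helper2.Orth.polar_self_of_singular Q hy, hz₀y, smul_zero, sub_zero]
    have hzW : ∀ w ∈ W, polar Q z w = 0 := by
      intro w hw
      rw [hzdef, polar_sub_left, polar_smul_left, hz₀W w hw, hyp w hw, smul_zero, sub_zero]
    have hfr := LinearMap.BilinForm.finrank_orthogonal hQ (W ⊔ Submodule.span F {z})
    have h4 : Module.finrank F ↥(Submodule.span F {z}) ≤ 1 := by
      classical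
      have := finrank_span_finset_le_card (R := F) ({z} : Finset (ι → F))
      rw [Finset.coe_singleton, Finset.card_singleton] at this
      exact this
    have h5 := Submodule.finrank_add_le_finrank_add_finrank W (Submodule.span F {z})
    rw [Module.finrank_fintype_fun_eq_card] at hfr
    obtain ⟨b, hbmem, hb⟩ := exists_nonsing_mem wi hwi
      (LinearMap.BilinForm.orthogonal (polarBilin Q) (W ⊔ Submodule.span F {z})) (by omega)
    have hbo := (Cfsg.Agent.Helper17.Spinor.mem_orthogonal_iff' Q _ b).1 hbmem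
    refine ⟨z, b, hz, ?_, hzW, ?_, ?_, hb⟩
    · exact hbo z (Submodule.mem_sup_right (Submodule.mem_span_singleton_self z))
    · intro w hw
      rw [polar_comm]
      exact hbo w (Submodule.mem_sup_left hw)
    · rw [hzy]
      exact one_ne_zero

end bounds

/-- **maximality of the stabiliser of a totally singular subspace** in `Ω`, inside `GL` -/
theorem maximal_ts [Fintype F] (hQ : (polarBilin Q).Nondegenerate)
    (hΩ : Cfsg.Omega F (⇑Q) = eichGroup Q) (wi : ℕ)
    (hwi : ∀ U : Submodule F (ι → F), (∀ u ∈ U, Q u = 0) → Module.finrank F U ≤ wi)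
    (hwi1 : wi + 1 < Fintype.card ι) (hcard : 3 ≤ Fintype.card ι)
    (W : Submodule F (ι → F)) (hW0 : W ≠ ⊥) (hW : ∀ w ∈ W, Q w = 0)
    (hk : Module.finrank F W = wi ∨ Module.finrank F W + wi + 1 < Fintype.card ι) :
    Cfsg.Geo.IsMaximalIn (Cfsg.Geo.omegaGL (⇑Q))
      (Cfsg.Geo.subspaceStabilizer W ⊓ Cfsg.Geo.omegaGL (⇑Q)) := by
  have hinj : Function.Injective (Cfsg.isometryGroup F (⇑Q)).subtype := Subtype.val_injective
  have h1 : Cfsg.Geo.subspaceStabilizer W ⊓ Cfsg.Geo.omegaGL (⇑Q) =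
      (StabG Q W ⊓ Cfsg.Omega F (⇑Q)).map (Cfsg.isometryGroup F (⇑Q)).subtype := by
    unfold Cfsg.Geo.omegaGL StabG
    exact inf_map_eq _ hinj _ _
  rw [h1]
  unfold Cfsg.Geo.omegaGL
  apply maximal_map _ hinj
  refine ⟨?_, fun M hHM hMΩ => ?_⟩
  · apply lt_of_le_of_ne inf_le_right
    intro heq
    obtain ⟨g, hg, hgS⟩ := exists_out hQ wi hwi hwi1 W hW0 hW
    rw [← hΩ, ← heq] at hg
    exact hgS hg.1
  · by_cases hM : M = StabG Q W ⊓ Cfsg.Omega F (⇑Q)
    · left; exact hM
    · right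
      exact ts_top hQ (hdim_of_card hcard) hΩ W hW
        (fun y hy hyW hyp => exists_ext hQ wi hwi W hW hk y hy hyW hyp) M hHM hMΩ hM

/-- a totally singular subspace has at most half the dimension -/
theorem two_mul_finrank_ts_le (hQ : (polarBilin Q).Nondegenerate) (U : Submodule F (ι → F))
    (hU : ∀ u ∈ U, Q u = 0) : 2 * Module.finrank F U ≤ Fintype.card ι := by
  have hle : U ≤ LinearMap.BilinForm.orthogonal (polarBilin Q) U := by
    intro x hx
    rw [Cfsg.Agent.Helper17.Spinor.mem_orthogonal_iff']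
    intro y hy
    unfold polar
    rw [hU x hx, hU y hy, hU (y + x) (U.add_mem hy hx)]
    ring
  have h2 := LinearMap.BilinForm.finrank_orthogonal hQ U
  have h3 := Submodule.finrank_mono hle
  have h4 := Submodule.finrank_le U
  rw [Module.finrank_fintype_fun_eq_card] at h2 h4
  omega

end Cfsg.Agent.Helper28.OrthRoot
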