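import Mathlib
import Cfsg.Agent.Lib.Helper28.OrthRoot
import Cfsg.Agent.Lib.Helper13.Hyperbolic

/-!
# Subfield subgroups of orthogonal groups (helper28), part A: rational vectors, the Eichler
transformations with rational data, the rational Eichler group and hyperbolic frames
-/

set_option autoImplicit false
set_option linter.unusedSectionVars false

namespace Cfsg.Agent.H28OrSub

open QuadraticMap Matrix Cfsg.Agent.Helper2.Orth Cfsg.Agent.Helper28.WittQuad

variable {F : Type*} [Field F] {ι : Type} [Fintype ι] [DecidableEq ι]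

/-! ### rational vectors -/

/-- vectors with all coordinates in the subfield -/
def RatV (F₀ : Subfield F) (v : ι → F) : Prop := ∀ i, v i ∈ F₀

section rat
variable {F₀ : Subfield F}

theorem ratV_zero : RatV F₀ (0 : ι → F) := fun _ => F₀.zero_mem

theorem ratV_add {u v : ι → F} (hu : RatV F₀ u) (hv : RatV F₀ v) : RatV F₀ (u + v) :=
  fun i => F₀.add_mem (hu i) (hv i)

theorem ratV_sub {u v : ι → F} (hu : RatV F₀ u) (hv : RatV F₀ v) : RatV F₀ (u - v) :=
  fun i => F₀.sub_mem (hu i) (hv i)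

theorem ratV_neg {u : ι → F} (hu : RatV F₀ u) : RatV F₀ (-u) := fun i => F₀.neg_mem (hu i)

theorem ratV_smul {c : F} (hc : c ∈ F₀) {u : ι → F} (hu : RatV F₀ u) : RatV F₀ (c • u) :=
  fun i => F₀.mul_mem hc (hu i)

theorem ratV_single (j : ι) : RatV F₀ (Pi.single j (1 : F) : ι → F) := by
  intro i
  by_cases h : i = j
  · subst h
    rw [Pi.single_eq_same]
    exact F₀.one_mem
  · rw [Pi.single_eq_of_ne h]
    exact F₀.zero_mem

theorem ratV_sum {κ : Type*} (s : Finset κ) (f : κ → (ι → F)) (h : ∀ k ∈ s, RatV F₀ (f k)) :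
    RatV F₀ (∑ k ∈ s, f k) := by
  intro i
  rw [Finset.sum_apply]
  exact F₀.sum_mem (fun k hk => h k hk i)

/-- a scalar multiple of a rational vector with a non-zero rational... is rational only for
rational scalars -/
theorem mem_of_ratV_smul {c : F} {u : ι → F} (hu : RatV F₀ u) (hu0 : u ≠ 0)
    (h : RatV F₀ (c • u)) : c ∈ F₀ := by
  obtain ⟨j, hj⟩ : ∃ j, u j ≠ 0 := by
    by_contra hcon
    push Not at hcon
    exact hu0 (funext hcon)
  have h1 := h j
  rw [Pi.smul_apply, smul_eq_mul] at h1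
  have h2 : c = c * u j * (u j)⁻¹ := by
    rw [mul_assoc, mul_inv_cancel₀ hj, mul_one]
  rw [h2]
  exact F₀.mul_mem h1 (F₀.inv_mem (hu j))

end rat

/-! ### the standing data -/

variable (Q : QuadraticForm F (ι → F)) (F₀ : Subfield F)

/-- the form takes values in the subfield on rational vectors -/
def RatQ : Prop := ∀ u : ι → F, RatV F₀ u → Q u ∈ F₀

variable {Q F₀}

theorem polar_rat (hR : RatQ Q F₀) {u v : ι → F} (hu : RatV F₀ u) (hv : RatV F₀ v) :
    polar Q u v ∈ F₀ := by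
  unfold polar
  exact F₀.sub_mem (F₀.sub_mem (hR _ (ratV_add hu hv)) (hR _ hu)) (hR _ hv)

/-! ### Eichler transformations -/

theorem E_smul {z b : ι → F} (hz : Q z = 0) (hzb : polar Q z b = 0) (x : ι → F) :
    eichG Q z b • x = x + (polar Q b x • z - polar Q z x • b - Q b • polar Q z x • z) := by
  rw [eichG_smul hz hzb, eich_apply]

/-- the Eichler transformation for two orthogonal singular vectors -/
theorem E_smul_sing {z b : ι → F} (hz : Q z = 0) (hb : Q b = 0) (hzb : polar Q z b = 0)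
    (x : ι → F) : eichG Q z b • x = x + (polar Q b x • z - polar Q z x • b) := by
  rw [E_smul hz hzb, hb, zero_smul, sub_zero]

theorem E_swap {z b : ι → F} (hz : Q z = 0) (hb : Q b = 0) (hzb : polar Q z b = 0) :
    eichG Q z b = eichG Q b (-z) := by
  apply ext_smul
  intro x
  rw [E_smul_sing hz hb hzb,
    E_smul_sing hb (by rw [QuadraticMap.map_neg, hz]) (by rw [polar_neg_right, polar_comm, hzb, neg_zero]),
    polar_neg_left]
  module

theorem E_fix {z b : ι → F} (hz : Q z = 0) (hzb : polar Q z b = 0) {x : ι → F}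
    (hzx : polar Q z x = 0) (hbx : polar Q b x = 0) : eichG Q z b • x = x := by
  rw [E_smul hz hzb, hzx, hbx]
  simp

/-- the commutator formula: conjugating a root element with centre `z` by an Eichler
transformation fixing `z` -/
theorem E_comm {a b' z w : ι → F} (ha : Q a = 0) (hab : polar Q a b' = 0) (hz : Q z = 0)
    (haz : polar Q a z = 0) (hbz : polar Q b' z = 0) (hzw : polar Q z w = 0) :
    eichG Q a b' * eichG Q z w * (eichG Q a b')⁻¹ * (eichG Q z w)⁻¹ =
      eichG Q z (polar Q b' w • a - polar Q a w • b' - Q b' • polar Q a w • a) := by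
  have h1 : eichG Q a b' • z = z := E_fix ha hab haz hbz
  have h2 : eichG Q a b' • w =
      w + (polar Q b' w • a - polar Q a w • b' - Q b' • polar Q a w • a) := E_smul ha hab w
  have hzw' : polar Q z (eichG Q a b' • w) = 0 := by
    have h3 := polar_smul_smul Q (eichG Q a b') z w
    rw [h1] at h3
    rw [h3, hzw]
  rw [eichG_conj _ hz hzw, h1, eichG_inv hz hzw,
    eichG_mul hz hzw' (by rw [polar_neg_right, hzw, neg_zero]), h2]
  congr 1
  abel

/-- the special case of the commutator formula with `a` orthogonal to `w` -/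
theorem E_comm' {a b' z w : ι → F} (ha : Q a = 0) (hab : polar Q a b' = 0) (hz : Q z = 0)
    (haz : polar Q a z = 0) (hbz : polar Q b' z = 0) (hzw : polar Q z w = 0)
    (haw : polar Q a w = 0) :
    eichG Q a b' * eichG Q z w * (eichG Q a b')⁻¹ * (eichG Q z w)⁻¹ =
      eichG Q z (polar Q b' w • a) := by
  rw [E_comm ha hab hz haz hbz hzw, haw]
  congr 1
  simp

/-- membership of a commutator -/
theorem comm_mem {G : Type*} [Group G] (M : Subgroup G) {g h : G} (hg : g ∈ M) (hh : h ∈ M) :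
    g * h * g⁻¹ * h⁻¹ ∈ M :=
  M.mul_mem (M.mul_mem (M.mul_mem hg hh) (M.inv_mem hg)) (M.inv_mem hh)

/-- if `g` and the commutator lie in `M` -/
theorem comm_mem' {G : Type*} [Group G] (M : Subgroup G) {g h : G} (hg : g ∈ M) (hh : h ∈ M) :
    g * h * g⁻¹ ∈ M :=
  M.mul_mem (M.mul_mem hg hh) (M.inv_mem hg)

/-! ### the rational Eichler group -/

variable (Q F₀)

/-- the group generated by the Eichler transformations with rational data -/
def R0 : Subgroup ↥(Cfsg.isometryGroup F (⇑Q)) :=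
  Subgroup.closure {g | ∃ z b : ι → F, RatV F₀ z ∧ RatV F₀ b ∧ Q z = 0 ∧ polar Q z b = 0 ∧
    g = eichG Q z b}

variable {Q F₀}

theorem E_mem_R0 {z b : ι → F} (hzr : RatV F₀ z) (hbr : RatV F₀ b) (hz : Q z = 0)
    (hzb : polar Q z b = 0) : eichG Q z b ∈ R0 Q F₀ :=
  Subgroup.subset_closure ⟨z, b, hzr, hbr, hz, hzb, rfl⟩

theorem R0_le_eichGroup : R0 Q F₀ ≤ eichGroup Q := by
  unfold R0
  rw [Subgroup.closure_le]
  rintro g ⟨z, b, -, -, hz, hzb, rfl⟩
  exact eichG_mem hz hzb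

theorem E_rat (hR : RatQ Q F₀) {z b : ι → F} (hzr : RatV F₀ z) (hbr : RatV F₀ b) (hz : Q z = 0)
    (hzb : polar Q z b = 0) {x : ι → F} (hx : RatV F₀ x) : RatV F₀ (eichG Q z b • x) := by
  rw [E_smul hz hzb]
  refine ratV_add hx (ratV_sub (ratV_sub (ratV_smul (polar_rat hR hbr hx) hzr)
    (ratV_smul (polar_rat hR hzr hx) hbr)) ?_)
  exact ratV_smul (hR _ hbr) (ratV_smul (polar_rat hR hzr hx) hzr)

theorem R0_rat' (hR : RatQ Q F₀) {g : ↥(Cfsg.isometryGroup F (⇑Q))} (hg : g ∈ R0 Q F₀) :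
    (∀ x : ι → F, RatV F₀ x → RatV F₀ (g • x)) ∧
      (∀ x : ι → F, RatV F₀ x → RatV F₀ (g⁻¹ • x)) := by
  unfold R0 at hg
  induction hg using Subgroup.closure_induction with
  | mem g hg =>
    obtain ⟨z, b, hzr, hbr, hz, hzb, rfl⟩ := hg
    refine ⟨fun x hx => E_rat hR hzr hbr hz hzb hx, fun x hx => ?_⟩
    rw [eichG_inv hz hzb]
    exact E_rat hR hzr (ratV_neg hbr) hz (by rw [polar_neg_right, hzb, neg_zero]) hx
  | one =>
    refine ⟨fun x hx => by rw [one_smul]; exact hx, fun x hx => by rw [inv_one, one_smul]; exact hx⟩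
  | mul g h _ _ ihg ihh =>
    refine ⟨fun x hx => by rw [mul_smul]; exact ihg.1 _ (ihh.1 x hx), fun x hx => ?_⟩
    rw [_root_.mul_inv_rev, mul_smul]
    exact ihh.2 _ (ihg.2 x hx)
  | inv g _ ih =>
    refine ⟨ih.2, fun x hx => ?_⟩
    rw [inv_inv]
    exact ih.1 x hx

theorem R0_rat (hR : RatQ Q F₀) {g : ↥(Cfsg.isometryGroup F (⇑Q))} (hg : g ∈ R0 Q F₀)
    {x : ι → F} (hx : RatV F₀ x) : RatV F₀ (g • x) := (R0_rat' hR hg).1 x hx

theorem R0_rat_inv (hR : RatQ Q F₀) {g : ↥(Cfsg.isometryGroup F (⇑Q))} (hg : g ∈ R0 Q F₀)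
    {x : ι → F} (hx : RatV F₀ x) : RatV F₀ (g⁻¹ • x) := (R0_rat' hR hg).2 x hx

/-! ### linearity of the action -/

theorem smul_smul_comm (g : ↥(Cfsg.isometryGroup F (⇑Q))) (c : F) (v : ι → F) :
    g • (c • v) = c • (g • v) := by
  rw [Cfsg.Agent.Helper2.Orth.smul_def, Cfsg.Agent.Helper2.Orth.smul_def, Matrix.mulVec_smul]

theorem smul_add_g (g : ↥(Cfsg.isometryGroup F (⇑Q))) (u v : ι → F) :
    g • (u + v) = g • u + g • v := by
  rw [Cfsg.Agent.Helper2.Orth.smul_def, Cfsg.Agent.Helper2.Orth.smul_def,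
    Cfsg.Agent.Helper2.Orth.smul_def, Matrix.mulVec_add]

theorem smul_sub_g (g : ↥(Cfsg.isometryGroup F (⇑Q))) (u v : ι → F) :
    g • (u - v) = g • u - g • v := by
  rw [Cfsg.Agent.Helper2.Orth.smul_def, Cfsg.Agent.Helper2.Orth.smul_def,
    Cfsg.Agent.Helper2.Orth.smul_def, Matrix.mulVec_sub]

theorem smul_neg_g (g : ↥(Cfsg.isometryGroup F (⇑Q))) (u : ι → F) :
    g • (-u) = -(g • u) := by
  rw [Cfsg.Agent.Helper2.Orth.smul_def, Cfsg.Agent.Helper2.Orth.smul_def, Matrix.mulVec_neg]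

theorem smul_zero_g (g : ↥(Cfsg.isometryGroup F (⇑Q))) : g • (0 : ι → F) = 0 := by
  rw [Cfsg.Agent.Helper2.Orth.smul_def, Matrix.mulVec_zero]

theorem smul_ne_zero_g (g : ↥(Cfsg.isometryGroup F (⇑Q))) {v : ι → F} (hv : v ≠ 0) :
    g • v ≠ 0 := by
  intro h
  apply hv
  have := congrArg (fun x => g⁻¹ • x) h
  simp only [inv_smul_smul] at this
  rw [this, smul_zero_g]

theorem polar_smul_left_g (g : ↥(Cfsg.isometryGroup F (⇑Q))) (u v : ι → F) :
    polar Q (g • u) v = polar Q u (g⁻¹ • v) := by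
  rw [← polar_smul_smul Q g u (g⁻¹ • v), smul_inv_smul]

/-! ### elements normalising the rational structure -/

variable (F₀)

/-- elements mapping rational vectors to a scalar multiple of rational vectors -/
def InN (g : ↥(Cfsg.isometryGroup F (⇑Q))) : Prop :=
  ∃ s : F, s ≠ 0 ∧ ∀ v : ι → F, RatV F₀ v → RatV F₀ (s • (g • v))

variable {F₀}

theorem inN_one : InN F₀ (1 : ↥(Cfsg.isometryGroup F (⇑Q))) :=
  ⟨1, one_ne_zero, fun v hv => by rw [one_smul, one_smul]; exact hv⟩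

theorem inN_mul {k₁ k₂ : ↥(Cfsg.isometryGroup F (⇑Q))} (h₁ : InN F₀ k₁) (h₂ : InN F₀ k₂) :
    InN F₀ (k₁ * k₂) := by
  obtain ⟨s₁, hs₁, h₁⟩ := h₁
  obtain ⟨s₂, hs₂, h₂⟩ := h₂
  refine ⟨s₁ * s₂, mul_ne_zero hs₁ hs₂, fun v hv => ?_⟩
  have := h₁ _ (h₂ v hv)
  rwa [smul_smul_comm k₁ s₂, smul_smul, ← mul_smul] at this

theorem inN_pow {k : ↥(Cfsg.isometryGroup F (⇑Q))} (h : InN F₀ k) (m : ℕ) : InN F₀ (k ^ m) := by
  induction m with
  | zero => rw [pow_zero]; exact inN_one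
  | succ m ih => rw [pow_succ]; exact inN_mul ih h

theorem inv_eq_pow' {G : Type*} [Group G] [Finite G] (g : G) : g⁻¹ = g ^ (orderOf g - 1) := by
  rw [inv_eq_iff_mul_eq_one, ← pow_succ']
  have : 0 < orderOf g := orderOf_pos g
  rw [show orderOf g - 1 + 1 = orderOf g by omega]
  exact pow_orderOf_eq_one g

theorem inN_inv [Finite F] {k : ↥(Cfsg.isometryGroup F (⇑Q))} (h : InN F₀ k) : InN F₀ k⁻¹ := by
  rw [inv_eq_pow' k]
  exact inN_pow h _

variable (Q F₀)

/-- the normaliser of the rational structure -/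
def N0 [Finite F] : Subgroup ↥(Cfsg.isometryGroup F (⇑Q)) where
  carrier := {k | InN F₀ k}
  mul_mem' := fun h₁ h₂ => inN_mul h₁ h₂
  one_mem' := inN_one
  inv_mem' := fun h => inN_inv h

variable {Q F₀}

theorem mem_N0_iff [Finite F] {k : ↥(Cfsg.isometryGroup F (⇑Q))} :
    k ∈ N0 Q F₀ ↔ InN F₀ k := Iff.rfl

theorem R0_le_N0 [Finite F] (hR : RatQ Q F₀) : R0 Q F₀ ≤ N0 Q F₀ := fun g hg =>
  ⟨1, one_ne_zero, fun v hv => by rw [one_smul]; exact R0_rat hR hg hv⟩

end Cfsg.Agent.H28OrSub
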