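import Mathlib
import Cfsg.Agent.Lib.Helper28.OrSubA

/-!
# Subfield subgroups of orthogonal groups (helper28), part B: the quadratic form over the
subfield, rational hyperbolic frames adapted to given vectors (by Witt's lemma over the subfield)
and the transitivity of the rational Eichler group on rational singular vectors
-/

set_option autoImplicit false
set_option linter.unusedSectionVars false

namespace Cfsg.Agent.H28OrSub

open QuadraticMap Matrix Cfsg.Agent.Helper2.Orth Cfsg.Agent.Helper28.WittQuad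

universe u v

/-! ### hyperbolic families in a quadratic space over a finite field -/

section hypfam
open Cfsg.Agent.Helper13 Module

variable {K : Type u} [Field K] [Fintype K]

theorem exists_hypFam (k : ℕ) : ∀ (V : Type v) [AddCommGroup V] [Module K V]
    [FiniteDimensional K V] (Q : QuadraticForm K V), (polarBilin Q).Nondegenerate →
    2 * k + 1 ≤ finrank K V → ∃ (e f : Fin k → V), HypFam Q e f := by
  induction k with
  | zero =>
    intro V _ _ _ Q _ _
    exact ⟨Fin.elim0, Fin.elim0, fun i => i.elim0, fun i => i.elim0, fun i => i.elim0⟩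
  | succ k ih =>
    intro V _ _ _ Q hQ hdim
    obtain ⟨v, hv0, hQv⟩ := exists_singular Q hQ (by omega)
    obtain ⟨f₀, hQf, hvf⟩ := exists_hyp_partner Q hQ hv0 hQv
    have hW := finrank_hypCompl Q hQv hQf hvf
    have hWnd := nondeg_hypCompl Q hQ hQv hQf hvf
    obtain ⟨e', f', hfam⟩ :=
      ih (hypCompl Q v f₀) (Q.comp (hypCompl Q v f₀).subtype) hWnd (by omega)
    have hpol : ∀ a b : hypCompl Q v f₀,
        polar (Q.comp (hypCompl Q v f₀).subtype) a b = polar Q (a : V) (b : V) := by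
      intro a b; simp [polar]
    have hfam' : HypFam Q (fun i => (e' i : V)) (fun i => (f' i : V)) := by
      obtain ⟨h1, h2, h3⟩ := hfam
      refine ⟨fun i => h1 i, fun i j => ?_, fun i j => ?_⟩
      · rw [← hpol]; exact h2 i j
      · rw [← hpol, ← hpol]; exact h3 i j
    refine ⟨Fin.cons v (fun i => (e' i : V)), Fin.cons f₀ (fun i => (f' i : V)), ?_⟩
    apply HypFam.cons hfam' hQv hQf hvf
    intro i
    have h1 : polar Q v (e' i : V) = 0 := (e' i).2.1
    have h2 : polar Q f₀ (e' i : V) = 0 := (e' i).2.2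
    have h3 : polar Q v (f' i : V) = 0 := (f' i).2.1
    have h4 : polar Q f₀ (f' i : V) = 0 := (f' i).2.2
    exact ⟨by rw [polar_comm]; exact h1, by rw [polar_comm]; exact h3,
      by rw [polar_comm]; exact h2, by rw [polar_comm]; exact h4⟩

theorem hypFrame_of_hypFam {V : Type v} [AddCommGroup V] [Module K V] {Q : QuadraticForm K V}
    {k : ℕ} {e f : Fin k → V} (h : HypFam Q e f) : HypFrame Q e f where
  qe i := (h.1 i).1
  qf i := (h.1 i).2
  ee i j := (h.2.2 i j).1
  ff i j := (h.2.2 i j).2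
  ef i j := h.2.1 i j

end hypfam

variable {F : Type u} [Field F] {ι : Type} [Fintype ι] [DecidableEq ι]

/-! ### frames -/

section frame
variable {V : Type*} [AddCommGroup V] [Module F V] {Q : QuadraticForm F V} {k : ℕ}
  {e f : Fin k → V}

theorem hf_ef_same (h : HypFrame Q e f) (i : Fin k) : polar Q (e i) (f i) = 1 := by
  rw [h.ef, if_pos rfl]

theorem hf_ef_ne (h : HypFrame Q e f) {i j : Fin k} (hij : i ≠ j) :
    polar Q (e i) (f j) = 0 := by
  rw [h.ef, if_neg hij]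

theorem hf_fe_same (h : HypFrame Q e f) (i : Fin k) : polar Q (f i) (e i) = 1 := by
  rw [polar_comm, hf_ef_same h]

theorem hf_fe_ne (h : HypFrame Q e f) {i j : Fin k} (hij : i ≠ j) :
    polar Q (f i) (e j) = 0 := by
  rw [polar_comm, hf_ef_ne h (Ne.symm hij)]

theorem hf_e_ne_zero (h : HypFrame Q e f) (i : Fin k) : e i ≠ 0 := by
  intro h0
  have := hf_ef_same h i
  rw [h0, polar_zero_left] at this
  exact zero_ne_one this

theorem hf_f_ne_zero (h : HypFrame Q e f) (i : Fin k) : f i ≠ 0 := by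
  intro h0
  have := hf_ef_same h i
  rw [h0, polar_zero_right] at this
  exact zero_ne_one this

theorem hf_linearIndependent_e (h : HypFrame Q e f) : LinearIndependent F e := by
  rw [linearIndependent_iff']
  intro s g hg i hi
  have h1 : polar Q (∑ j ∈ s, g j • e j) (f i) = 0 := by rw [hg, polar_zero_left]
  rw [show polar Q (∑ j ∈ s, g j • e j) (f i) = polarBilin Q (∑ j ∈ s, g j • e j) (f i) from rfl,
    map_sum, LinearMap.sum_apply] at h1
  simp only [map_smul, LinearMap.smul_apply, polarBilin_apply_apply, h.ef, smul_eq_mul,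
    mul_ite, mul_one, mul_zero] at h1
  rw [Finset.sum_ite_eq' s i, if_pos hi] at h1
  exact h1

/-- swapping the two halves of a frame at no cost -/
theorem hf_swap (h : HypFrame Q e f) : HypFrame Q f e where
  qe := h.qf
  qf := h.qe
  ee := h.ff
  ff := h.ee
  ef i j := by rw [h.fe]

end frame

/-! ### vectors over the subfield -/

variable {Q : QuadraticForm F (ι → F)} (F₀ : Subfield F)

/-- the embedding of vectors over the subfield -/
def emb (x : ι → ↥F₀) : ι → F := fun i => (x i : F)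

theorem emb_apply (x : ι → ↥F₀) (i : ι) : emb F₀ x i = (x i : F) := rfl

theorem emb_add (x y : ι → ↥F₀) : emb F₀ (x + y) = emb F₀ x + emb F₀ y := by
  funext i
  simp [emb]

theorem emb_sub (x y : ι → ↥F₀) : emb F₀ (x - y) = emb F₀ x - emb F₀ y := by
  funext i
  simp [emb]

theorem emb_neg (x : ι → ↥F₀) : emb F₀ (-x) = -emb F₀ x := by
  funext i
  simp [emb]

theorem emb_smul (c : ↥F₀) (x : ι → ↥F₀) : emb F₀ (c • x) = (c : F) • emb F₀ x := by
  funext i
  simp [emb]

theorem emb_zero : emb F₀ (0 : ι → ↥F₀) = 0 := by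
  funext i
  simp [emb]

theorem emb_injective : Function.Injective (emb F₀ : (ι → ↥F₀) → (ι → F)) := by
  intro x y h
  funext i
  exact Subtype.ext (congrFun h i)

theorem emb_eq_zero_iff (x : ι → ↥F₀) : emb F₀ x = 0 ↔ x = 0 := by
  rw [← emb_zero F₀]
  exact (emb_injective F₀).eq_iff

theorem ratV_emb (x : ι → ↥F₀) : RatV F₀ (emb F₀ x) := fun i => (x i).2

variable {F₀}

theorem exists_emb {v : ι → F} (hv : RatV F₀ v) : ∃ x : ι → ↥F₀, emb F₀ x = v :=
  ⟨fun i => ⟨v i, hv i⟩, rfl⟩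

theorem emb_single (j : ι) :
    emb F₀ (Pi.single j (1 : ↥F₀)) = (Pi.single j (1 : F) : ι → F) := by
  funext i
  by_cases h : i = j
  · subst h
    simp [emb]
  · simp [emb, Pi.single_eq_of_ne h]

/-! ### the form over the subfield -/

/-- a vector orthogonal to the standard basis is zero -/
theorem eq_zero_of_perp_single (hQ : (polarBilin Q).Nondegenerate) {v : ι → F}
    (h : ∀ j, polar Q v (Pi.single j 1) = 0) : v = 0 := by
  apply hQ.1 v
  intro w
  have h1 : polarBilin Q v = 0 := by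
    apply (Pi.basisFun F ι).ext
    intro j
    rw [Pi.basisFun_apply, polarBilin_apply_apply, h j, LinearMap.zero_apply]
  rw [h1, LinearMap.zero_apply]

variable (Q F₀)

/-- the quadratic form over the subfield -/
noncomputable def Q₀ (hR : RatQ Q F₀) : QuadraticForm ↥F₀ (ι → ↥F₀) :=
  QuadraticMap.ofPolar (fun x => (⟨Q (emb F₀ x), hR _ (ratV_emb F₀ x)⟩ : ↥F₀))
    (by
      intro a x
      apply Subtype.ext
      show Q (emb F₀ (a • x)) = ((a * a) • (⟨Q (emb F₀ x), hR _ (ratV_emb F₀ x)⟩ : ↥F₀) : ↥F₀)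
      rw [emb_smul, QuadraticMap.map_smul]
      simp)
    (by
      intro x x' y
      apply Subtype.ext
      unfold polar
      simp only [emb_add, Subfield.coe_add, Subfield.coe_sub]
      have := polar_add_left Q (emb F₀ x) (emb F₀ x') (emb F₀ y)
      unfold polar at this
      linear_combination this)
    (by
      intro a x y
      apply Subtype.ext
      unfold polar
      simp only [emb_add, emb_smul, Subfield.coe_sub, smul_eq_mul, Subfield.coe_mul]
      have := polar_smul_left Q (a : F) (emb F₀ x) (emb F₀ y)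
      unfold polar at this
      rw [smul_eq_mul] at this
      linear_combination this)

variable {Q F₀}

theorem Q₀_coe (hR : RatQ Q F₀) (x : ι → ↥F₀) : ((Q₀ Q F₀ hR x : ↥F₀) : F) = Q (emb F₀ x) := rfl

theorem polar_Q₀_coe (hR : RatQ Q F₀) (x y : ι → ↥F₀) :
    ((polar (Q₀ Q F₀ hR) x y : ↥F₀) : F) = polar Q (emb F₀ x) (emb F₀ y) := by
  unfold polar
  simp only [Subfield.coe_sub, Q₀_coe, emb_add]

theorem Q₀_eq_zero_iff (hR : RatQ Q F₀) (x : ι → ↥F₀) :
    Q₀ Q F₀ hR x = 0 ↔ Q (emb F₀ x) = 0 := by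
  rw [← Q₀_coe hR]
  exact ⟨fun h => by rw [h]; rfl, fun h => Subtype.ext h⟩

theorem polar_Q₀_eq_zero_iff (hR : RatQ Q F₀) (x y : ι → ↥F₀) :
    polar (Q₀ Q F₀ hR) x y = 0 ↔ polar Q (emb F₀ x) (emb F₀ y) = 0 := by
  rw [← polar_Q₀_coe hR]
  exact ⟨fun h => by rw [h]; rfl, fun h => Subtype.ext h⟩

theorem polar_Q₀_eq_one_iff (hR : RatQ Q F₀) (x y : ι → ↥F₀) :
    polar (Q₀ Q F₀ hR) x y = 1 ↔ polar Q (emb F₀ x) (emb F₀ y) = 1 := by
  rw [← polar_Q₀_coe hR]
  exact ⟨fun h => by rw [h]; rfl, fun h => Subtype.ext h⟩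

theorem Q₀_nondeg (hQ : (polarBilin Q).Nondegenerate) (hR : RatQ Q F₀) :
    (polarBilin (Q₀ Q F₀ hR)).Nondegenerate := by
  apply Cfsg.Agent.Helper13.nondeg_of_polar
  intro x hx
  rw [← emb_eq_zero_iff F₀]
  apply eq_zero_of_perp_single hQ
  intro j
  rw [← emb_single (F₀ := F₀), ← polar_Q₀_eq_zero_iff hR]
  exact hx _

/-! ### rational frames -/

variable (Q F₀)

/-- a hyperbolic frame of rational vectors -/
structure RFrame (k : ℕ) where
  e : Fin k → (ι → F)
  f : Fin k → (ι → F)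
  re : ∀ i, RatV F₀ (e i)
  rf : ∀ i, RatV F₀ (f i)
  fr : HypFrame Q e f

variable {Q F₀}

/-- a frame over the subfield gives a rational frame -/
noncomputable def RFrame.ofSub (hR : RatQ Q F₀) {k : ℕ} {e f : Fin k → (ι → ↥F₀)}
    (h : HypFrame (Q₀ Q F₀ hR) e f) : RFrame Q F₀ k where
  e := fun i => emb F₀ (e i)
  f := fun i => emb F₀ (f i)
  re := fun i => ratV_emb F₀ _
  rf := fun i => ratV_emb F₀ _
  fr :=
    { qe := fun i => (Q₀_eq_zero_iff hR _).mp (h.qe i)
      qf := fun i => (Q₀_eq_zero_iff hR _).mp (h.qf i)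
      ee := fun i j => (polar_Q₀_eq_zero_iff hR _ _).mp (h.ee i j)
      ff := fun i j => (polar_Q₀_eq_zero_iff hR _ _).mp (h.ff i j)
      ef := fun i j => by
        by_cases hij : i = j
        · rw [if_pos hij]
          apply (polar_Q₀_eq_one_iff hR _ _).mp
          rw [h.ef, if_pos hij]
        · rw [if_neg hij]
          apply (polar_Q₀_eq_zero_iff hR _ _).mp
          rw [h.ef, if_neg hij] }

section exist
variable [Fintype F]

theorem exists_frame₀ (hQ : (polarBilin Q).Nondegenerate) (hR : RatQ Q F₀) (k : ℕ)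
    (hk : 2 * k + 1 ≤ Fintype.card ι) :
    ∃ e f : Fin k → (ι → ↥F₀), HypFrame (Q₀ Q F₀ hR) e f := by
  classical
  haveI : Fintype ↥F₀ := Fintype.ofFinite _
  obtain ⟨e, f, h⟩ := exists_hypFam k (ι → ↥F₀) (Q₀ Q F₀ hR) (Q₀_nondeg hQ hR)
    (by rw [Module.finrank_fintype_fun_eq_card]; exact hk)
  exact ⟨e, f, hypFrame_of_hypFam h⟩

/-- a frame over the subfield whose first vectors are prescribed -/
theorem exists_frame₀_adapt (hQ : (polarBilin Q).Nondegenerate) (hR : RatQ Q F₀) (k : ℕ)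
    (hk : 2 * k + 1 ≤ Fintype.card ι) (j : ℕ) (hjk : j ≤ k) (x : Fin j → (ι → ↥F₀))
    (hli : LinearIndependent ↥F₀ x) (hx : ∀ i, Q₀ Q F₀ hR (x i) = 0)
    (hxx : ∀ i i', polar (Q₀ Q F₀ hR) (x i) (x i') = 0) :
    ∃ e f : Fin k → (ι → ↥F₀), HypFrame (Q₀ Q F₀ hR) e f ∧ ∀ i, e (Fin.castLE hjk i) = x i := by
  obtain ⟨e, f, h⟩ := exists_frame₀ hQ hR k hk
  have hli' : LinearIndependent ↥F₀ (fun i : Fin j => e (Fin.castLE hjk i)) :=
    (hf_linearIndependent_e h).comp _ (Fin.castLE_injective hjk)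
  obtain ⟨g, hg, hgx⟩ := witt_family (Q₀_nondeg hQ hR) j _ x hli' hli
    (fun i => by rw [h.qe, hx]) (fun i i' => by rw [h.ee, hxx])
  exact ⟨fun i => g (e i), fun i => g (f i), h.map g.toLinearMap hg, fun i => hgx i⟩

theorem exists_frame (hQ : (polarBilin Q).Nondegenerate) (hR : RatQ Q F₀) (k : ℕ)
    (hk : 2 * k + 1 ≤ Fintype.card ι) : Nonempty (RFrame Q F₀ k) := by
  obtain ⟨e, f, h⟩ := exists_frame₀ hQ hR k hk
  exact ⟨RFrame.ofSub hR h⟩

/-- a rational frame starting with a given rational singular vector -/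
theorem exists_frame_adapt1 (hQ : (polarBilin Q).Nondegenerate) (hR : RatQ Q F₀) (k : ℕ)
    (hk : 2 * k + 1 ≤ Fintype.card ι) (hk1 : 1 ≤ k) {z : ι → F} (hzr : RatV F₀ z) (hz0 : z ≠ 0)
    (hz : Q z = 0) : ∃ fr : RFrame Q F₀ k, fr.e ⟨0, hk1⟩ = z := by
  obtain ⟨z₀, rfl⟩ := exists_emb hzr
  have hli : LinearIndependent ↥F₀ (fun _ : Fin 1 => z₀) := by
    apply linearIndependent_unique_iff.mpr
    intro h
    apply hz0
    have : z₀ = 0 := h
    rw [this, emb_zero]
  obtain ⟨e, f, h, he⟩ := exists_frame₀_adapt hQ hR k hk 1 hk1 (fun _ => z₀) hli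
    (fun _ => (Q₀_eq_zero_iff hR _).mpr hz)
    (fun _ _ => by
      rw [polar_Q₀_eq_zero_iff hR, polar_self, hz, smul_zero])
  refine ⟨RFrame.ofSub hR h, ?_⟩
  show emb F₀ (e ⟨0, hk1⟩) = emb F₀ z₀
  rw [← he 0]
  rfl

/-- a rational frame starting with a given pair of rational orthogonal singular vectors -/
theorem exists_frame_adapt2 (hQ : (polarBilin Q).Nondegenerate) (hR : RatQ Q F₀) (k : ℕ)
    (hk : 2 * k + 1 ≤ Fintype.card ι) (hk2 : 2 ≤ k) {z b : ι → F} (hzr : RatV F₀ z)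
    (hbr : RatV F₀ b) (hz0 : z ≠ 0) (hz : Q z = 0) (hb : Q b = 0) (hzb : polar Q z b = 0)
    (hind : ∀ t : F, b ≠ t • z) :
    ∃ fr : RFrame Q F₀ k, fr.e ⟨0, by omega⟩ = z ∧ fr.e ⟨1, by omega⟩ = b := by
  obtain ⟨z₀, rfl⟩ := exists_emb hzr
  obtain ⟨b₀, rfl⟩ := exists_emb hbr
  have hli : LinearIndependent ↥F₀ ![z₀, b₀] := by
    rw [LinearIndependent.pair_iff]
    intro s t hst
    have h1 : (s : F) • emb F₀ z₀ + (t : F) • emb F₀ b₀ = 0 := by
      rw [← emb_smul, ← emb_smul, ← emb_add, hst, emb_zero]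
    by_cases ht : t = 0
    · rw [ht] at h1
      simp only [ZeroMemClass.coe_zero, zero_smul, add_zero] at h1
      rcases smul_eq_zero.mp h1 with h2 | h2
      · exact ⟨Subtype.ext h2, ht⟩
      · exact absurd h2 hz0
    · exfalso
      have ht' : (t : F) ≠ 0 := fun h => ht (Subtype.ext h)
      apply hind (-(s : F) / (t : F))
      have h2 : (t : F) • emb F₀ b₀ = -((s : F) • emb F₀ z₀) := eq_neg_of_add_eq_zero_right h1
      have h3 : emb F₀ b₀ = (t : F)⁻¹ • ((t : F) • emb F₀ b₀) := by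
        rw [smul_smul, inv_mul_cancel₀ ht', one_smul]
      rw [h3, h2, smul_neg, smul_smul, ← neg_smul]
      congr 1
      field_simp
  have hxs : ∀ i : Fin 2, Q₀ Q F₀ hR (![z₀, b₀] i) = 0 := by
    intro i
    fin_cases i
    · exact (Q₀_eq_zero_iff hR _).mpr hz
    · exact (Q₀_eq_zero_iff hR _).mpr hb
  have hxx : ∀ i i' : Fin 2, polar (Q₀ Q F₀ hR) (![z₀, b₀] i) (![z₀, b₀] i') = 0 := by
    intro i i'
    rw [polar_Q₀_eq_zero_iff hR]
    fin_cases i <;> fin_cases i'
    · show polar Q (emb F₀ z₀) (emb F₀ z₀) = 0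
      rw [polar_self, hz, smul_zero]
    · exact hzb
    · show polar Q (emb F₀ b₀) (emb F₀ z₀) = 0
      rw [polar_comm, hzb]
    · show polar Q (emb F₀ b₀) (emb F₀ b₀) = 0
      rw [polar_self, hb, smul_zero]
  obtain ⟨e, f, h, he⟩ := exists_frame₀_adapt hQ hR k hk 2 hk2 ![z₀, b₀] hli hxs hxx
  refine ⟨RFrame.ofSub hR h, ?_, ?_⟩
  · show emb F₀ (e ⟨0, by omega⟩) = emb F₀ z₀
    rw [show z₀ = ![z₀, b₀] 0 from rfl, ← he 0]
    rfl
  · show emb F₀ (e ⟨1, by omega⟩) = emb F₀ b₀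
    rw [show b₀ = ![z₀, b₀] 1 from rfl, ← he 1]
    rfl

end exist

/-! ### lifting the Eichler group over the subfield -/

theorem emb_eich (hR : RatQ Q F₀) {z b : ι → ↥F₀} (hz : Q₀ Q F₀ hR z = 0)
    (hzb : polar (Q₀ Q F₀ hR) z b = 0) (x : ι → ↥F₀) :
    eichG Q (emb F₀ z) (emb F₀ b) • emb F₀ x = emb F₀ (eichG (Q₀ Q F₀ hR) z b • x) := by
  rw [E_smul ((Q₀_eq_zero_iff hR _).mp hz) ((polar_Q₀_eq_zero_iff hR _ _).mp hzb),
    E_smul hz hzb, emb_add, emb_sub, emb_sub, emb_smul, emb_smul, emb_smul, emb_smul,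
    polar_Q₀_coe, polar_Q₀_coe, Q₀_coe]

theorem lift_eich (hR : RatQ Q F₀) {t : ↥(Cfsg.isometryGroup ↥F₀ (⇑(Q₀ Q F₀ hR)))}
    (ht : t ∈ eichGroup (Q₀ Q F₀ hR)) :
    ∃ t' ∈ R0 Q F₀, ∀ x : ι → ↥F₀, t' • emb F₀ x = emb F₀ (t • x) := by
  unfold eichGroup at ht
  induction ht using Subgroup.closure_induction with
  | mem g hg =>
    obtain ⟨z, b, hz, hzb, rfl⟩ := hg
    exact ⟨eichG Q (emb F₀ z) (emb F₀ b),
      E_mem_R0 (ratV_emb F₀ z) (ratV_emb F₀ b) ((Q₀_eq_zero_iff hR _).mp hz)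
        ((polar_Q₀_eq_zero_iff hR _ _).mp hzb), fun x => emb_eich hR hz hzb x⟩
  | one => exact ⟨1, Subgroup.one_mem _, fun x => by rw [one_smul, one_smul]⟩
  | mul g h _ _ ihg ihh =>
    obtain ⟨g', hg', hg⟩ := ihg
    obtain ⟨h', hh', hh⟩ := ihh
    exact ⟨g' * h', Subgroup.mul_mem _ hg' hh', fun x => by rw [mul_smul, hh, hg, mul_smul]⟩
  | inv g _ ih =>
    obtain ⟨g', hg', hg⟩ := ih
    refine ⟨g'⁻¹, Subgroup.inv_mem _ hg', fun x => ?_⟩
    rw [inv_smul_eq_iff, hg, smul_inv_smul]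

/-- the rational Eichler group is transitive on the non-zero rational singular vectors -/
theorem trans_sing [Fintype F] (hQ : (polarBilin Q).Nondegenerate) (hR : RatQ Q F₀)
    (hcard : 5 ≤ Fintype.card ι) {z z' : ι → F} (hzr : RatV F₀ z) (hz0 : z ≠ 0) (hz : Q z = 0)
    (hzr' : RatV F₀ z') (hz0' : z' ≠ 0) (hz' : Q z' = 0) :
    ∃ t ∈ R0 Q F₀, t • z = z' := by
  obtain ⟨x, rfl⟩ := exists_emb hzr
  obtain ⟨x', rfl⟩ := exists_emb hzr'
  obtain ⟨e, f, h⟩ := exists_frame₀ hQ hR 2 (by omega)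
  obtain ⟨t, ht, htx⟩ := eich_trans_singular (Q₀_nondeg hQ hR) h
    (u := x) (u' := x') (fun h0 => hz0 (by rw [h0, emb_zero]))
    ((Q₀_eq_zero_iff hR _).mpr hz) (fun h0 => hz0' (by rw [h0, emb_zero]))
    ((Q₀_eq_zero_iff hR _).mpr hz')
  obtain ⟨t', ht', h'⟩ := lift_eich hR ht
  exact ⟨t', ht', by rw [h', htx]⟩

/-! ### recognising rational vectors by their products with rational vectors -/

theorem ratV_of_polar (hQ : (polarBilin Q).Nondegenerate) (hR : RatQ Q F₀) {u : ι → F}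
    (h : ∀ v : ι → F, RatV F₀ v → polar Q v u ∈ F₀) : RatV F₀ u := by
  let ψ : Module.Dual ↥F₀ (ι → ↥F₀) :=
    { toFun := fun x => ⟨polar Q (emb F₀ x) u, h _ (ratV_emb F₀ x)⟩
      map_add' := by
        intro x y
        apply Subtype.ext
        show polar Q (emb F₀ (x + y)) u = polar Q (emb F₀ x) u + polar Q (emb F₀ y) u
        rw [emb_add, polar_add_left]
      map_smul' := by
        intro c x
        apply Subtype.ext
        show polar Q (emb F₀ (c • x)) u = (c : F) * polar Q (emb F₀ x) u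
        rw [emb_smul, polar_smul_left, smul_eq_mul] }
  obtain ⟨d, hd⟩ := exists_repr (Q₀_nondeg hQ hR) ψ
  have h1 : u - emb F₀ d = 0 := by
    apply eq_zero_of_perp_single hQ
    intro j
    rw [← emb_single (F₀ := F₀), polar_sub_left, polar_comm Q u, sub_eq_zero]
    have h2 := congrArg (Subtype.val) (hd (Pi.single j 1))
    rw [polar_Q₀_coe] at h2
    rw [h2]
    rfl
  rw [sub_eq_zero.mp h1]
  exact ratV_emb F₀ d

/-- a non-zero rational vector has a rational vector with product one -/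
theorem exists_rat_polar_one (hQ : (polarBilin Q).Nondegenerate) (hR : RatQ Q F₀) {r : ι → F}
    (hr : RatV F₀ r) (hr0 : r ≠ 0) : ∃ v : ι → F, RatV F₀ v ∧ polar Q r v = 1 := by
  obtain ⟨j, hj⟩ : ∃ j, polar Q r (Pi.single j 1) ≠ 0 := by
    by_contra hcon
    push Not at hcon
    exact hr0 (eq_zero_of_perp_single hQ hcon)
  have hm : polar Q r (Pi.single j 1) ∈ F₀ := polar_rat hR hr (ratV_single j)
  refine ⟨(polar Q r (Pi.single j 1))⁻¹ • Pi.single j 1, ratV_smul (F₀.inv_mem hm) (ratV_single j),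
    ?_⟩
  rw [polar_smul_right, smul_eq_mul, inv_mul_cancel₀ hj]

end Cfsg.Agent.H28OrSub
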