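import Mathlib
import Cfsg.Agent.Lib.Helper28.SubspaceMax

set_option autoImplicit false
set_option linter.unusedSectionVars false

/-! The similarity group of a symplectic form is a maximal subgroup of the special linear group. -/

namespace Cfsg.Agent.Helper28.SpInSL

open Matrix Cfsg Cfsg.Agent.Helper28 Cfsg.Agent.Helper28.SubspaceMax

variable {F : Type*} [Field F] {n : ℕ} {f : (Fin n → F) → (Fin n → F) → F}

/-- the vector representing the functional `x ↦ f x a` -/
def fv (f : (Fin n → F) → (Fin n → F) → F) (a : Fin n → F) : Fin n → F :=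
  fun j => f (Pi.single j 1) a

theorem fv_dot (hf : Cfsg.Geo.IsBilinearForm f) (a x : Fin n → F) : fv f a ⬝ᵥ x = f x a := by
  let L : (Fin n → F) →ₗ[F] F :=
    { toFun := fun x => f x a
      map_add' := fun x y => hf.add_left x y a
      map_smul' := fun c x => by simp [hf.smul_left] }
  have h := LinearMap.pi_apply_eq_sum_univ L x
  show fv f a ⬝ᵥ x = L x
  rw [h]
  unfold dotProduct fv
  apply Finset.sum_congr rfl
  intro i _
  rw [smul_eq_mul, mul_comm]
  congr 1
  show f (Pi.single i 1) a = f (fun j => if i = j then 1 else 0) a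
  congr 1
  ext j
  rw [Pi.single_apply]
  by_cases h : j = i
  · rw [if_pos h, if_pos h.symm]
  · rw [if_neg h, if_neg (Ne.symm h)]

theorem fv_add (hf : Cfsg.Geo.IsBilinearForm f) (a b : Fin n → F) :
    fv f (a + b) = fv f a + fv f b := by
  ext j
  simp only [fv, Pi.add_apply, hf.add_right]

theorem fv_smul (hf : Cfsg.Geo.IsBilinearForm f) (c : F) (a : Fin n → F) :
    fv f (c • a) = c • fv f a := by
  ext j
  simp only [fv, Pi.smul_apply, hf.smul_right, smul_eq_mul]

theorem f_zero_left (hf : Cfsg.Geo.IsBilinearForm f) (a : Fin n → F) : f 0 a = 0 := by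
  have := hf.smul_left 0 0 a
  rwa [zero_smul, zero_mul] at this

theorem f_zero_right (hf : Cfsg.Geo.IsBilinearForm f) (a : Fin n → F) : f a 0 = 0 := by
  have := hf.smul_right 0 a 0
  rwa [zero_smul, zero_mul] at this

theorem f_neg_left (hf : Cfsg.Geo.IsBilinearForm f) (a b : Fin n → F) : f (-a) b = - f a b := by
  have := hf.smul_left (-1) a b
  rwa [neg_one_smul, neg_one_mul] at this

theorem f_neg_right (hf : Cfsg.Geo.IsBilinearForm f) (a b : Fin n → F) : f a (-b) = - f a b := by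
  have := hf.smul_right (-1) a b
  rwa [neg_one_smul, neg_one_mul] at this

theorem f_sub_left (hf : Cfsg.Geo.IsBilinearForm f) (a b c : Fin n → F) :
    f (a - b) c = f a c - f b c := by
  rw [sub_eq_add_neg, hf.add_left, f_neg_left hf, ← sub_eq_add_neg]

theorem f_sub_right (hf : Cfsg.Geo.IsBilinearForm f) (a b c : Fin n → F) :
    f a (b - c) = f a b - f a c := by
  rw [sub_eq_add_neg, hf.add_right, f_neg_right hf, ← sub_eq_add_neg]

/-- every functional is represented -/
theorem fv_surjective (hf : Cfsg.Geo.IsSymplecticForm f) (l : Fin n → F) : ∃ a, fv f a = l := by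
  let L : (Fin n → F) →ₗ[F] (Fin n → F) :=
    { toFun := fun a => fv f a
      map_add' := fun a b => fv_add hf.bilinear a b
      map_smul' := fun c a => fv_smul hf.bilinear c a }
  have hinj : Function.Injective L := by
    rw [← LinearMap.ker_eq_bot, LinearMap.ker_eq_bot']
    intro a ha
    by_contra ha0
    obtain ⟨⟨x, hx⟩, -⟩ := hf.nondegenerate a ha0
    apply hx
    rw [← fv_dot hf.bilinear]
    show L a ⬝ᵥ x = 0
    rw [ha, zero_dotProduct]
  exact (LinearMap.injective_iff_surjective.mp hinj) l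

/-! ### general transvections with a fixed centre -/

theorem tv_mul_tv (u l l' : Fin n → F) (h : l ⬝ᵥ u = 0) (h' : l' ⬝ᵥ u = 0) :
    tv u l * tv u l' = tv u (l + l') := by
  have h'' : (l + l') ⬝ᵥ u = 0 := by rw [add_dotProduct, h, h', add_zero]
  apply Units.ext
  rw [Units.val_mul, tv_val _ _ h, tv_val _ _ h', tv_val _ _ h'', mul_add, add_mul, add_mul, mul_one,
    one_mul, mul_one, vecMulVec_mul_vecMulVec, h, zero_smul, vecMulVec_add, vecMulVec_zero]
  abel

theorem tv_zero_right (u : Fin n → F) : tv u 0 = 1 := by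
  apply Units.ext
  rw [tv_val _ _ (zero_dotProduct u), vecMulVec_zero, add_zero, Units.val_one]

theorem tv_inv (u l : Fin n → F) (h : l ⬝ᵥ u = 0) : (tv u l)⁻¹ = tv u (-l) := by
  rw [inv_eq_iff_mul_eq_one, tv_mul_tv u l (-l) h (by rw [neg_dotProduct, h, neg_zero]),
    add_neg_cancel, tv_zero_right]

/-- the axes of the transvections of `M` with centre `u` -/
def Ax (M : Subgroup (GL (Fin n) F)) (u : Fin n → F) : Set (Fin n → F) :=
  {l | l ⬝ᵥ u = 0 ∧ tv u l ∈ M}

theorem ax_add (M : Subgroup (GL (Fin n) F)) (u l l' : Fin n → F) (hl : l ∈ Ax M u)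
    (hl' : l' ∈ Ax M u) : l + l' ∈ Ax M u := by
  refine ⟨by rw [add_dotProduct, hl.1, hl'.1, add_zero], ?_⟩
  rw [← tv_mul_tv u l l' hl.1 hl'.1]
  exact M.mul_mem hl.2 hl'.2

theorem ax_neg (M : Subgroup (GL (Fin n) F)) (u l : Fin n → F) (hl : l ∈ Ax M u) :
    -l ∈ Ax M u := by
  refine ⟨by rw [neg_dotProduct, hl.1, neg_zero], ?_⟩
  rw [← tv_inv u l hl.1]
  exact M.inv_mem hl.2

theorem ax_sub (M : Subgroup (GL (Fin n) F)) (u l l' : Fin n → F) (hl : l ∈ Ax M u)
    (hl' : l' ∈ Ax M u) : l - l' ∈ Ax M u := by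
  rw [sub_eq_add_neg]
  exact ax_add M u _ _ hl (ax_neg M u _ hl')

/-! ### symplectic transvections -/

section symp

variable (hf : Cfsg.Geo.IsSymplecticForm f)

include hf in
theorem fv_dot_self (u : Fin n → F) (c : F) : (c • fv f u) ⬝ᵥ u = 0 := by
  rw [smul_dotProduct, fv_dot hf.bilinear, hf.alternating, smul_zero]

include hf in
theorem st_mulVec (u x : Fin n → F) (c : F) :
    ((tv u (c • fv f u) : GL (Fin n) F) : Matrix (Fin n) (Fin n) F) *ᵥ x = x + (c * f x u) • u := by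
  rw [tv_mulVec _ _ _ (fv_dot_self hf u c), smul_dotProduct, fv_dot hf.bilinear, smul_eq_mul]

include hf in
/-- symplectic transvections are isometries of determinant one -/
theorem st_mem (u : Fin n → F) (c : F) :
    tv u (c • fv f u) ∈ Cfsg.Geo.similarityGroup f ⊓ Cfsg.Geo.specialLinear (Fin n) F := by
  refine ⟨⟨1, fun x y => ?_⟩, tv_mem_specialLinear _ _⟩
  rw [st_mulVec hf, st_mulVec hf, hf.bilinear.add_left, hf.bilinear.add_right, hf.bilinear.add_right,
    hf.bilinear.smul_left, hf.bilinear.smul_left, hf.bilinear.smul_right, hf.bilinear.smul_right,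
    hf.alternating, hf.skew u y, Units.val_one]
  ring

include hf in
/-- the key closure property: a non-symplectic axis forces all axes -/
theorem ax_all (M : Subgroup (GL (Fin n) F))
    (hHM : Cfsg.Geo.similarityGroup f ⊓ Cfsg.Geo.specialLinear (Fin n) F ≤ M)
    (u l₀ w₁ : Fin n → F) (hl₀ : l₀ ∈ Ax M u) (hw₁ : f w₁ u = 0) (hlw : l₀ ⬝ᵥ w₁ ≠ 0) :
    u ∈ Cen M := by
  have hperp : ∀ w : Fin n → F, f w u = 0 → fv f w ⬝ᵥ u = 0 := by
    intro w hw
    rw [fv_dot hf.bilinear, hf.skew, hw, neg_zero]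
  -- step 1: multiples of `fv w` for `w ⊥ u`
  have h1 : ∀ w : Fin n → F, f w u = 0 → ∀ c : F, (c * (l₀ ⬝ᵥ w)) • fv f w ∈ Ax M u := by
    intro w hw c
    have hfix : ((tv w ((-c) • fv f w) : GL (Fin n) F) : Matrix (Fin n) (Fin n) F) *ᵥ u = u := by
      rw [st_mulVec hf, hf.skew, hw, neg_zero, mul_zero, zero_smul, add_zero]
    have hmem : tv w ((-c) • fv f w) ∈ M := hHM (st_mem hf w (-c))
    -- conjugate
    obtain ⟨l', hl'def⟩ : ∃ l', l' = l₀ ᵥ*
        (((tv w ((-c) • fv f w))⁻¹ : GL (Fin n) F) : Matrix (Fin n) (Fin n) F) := ⟨_, rfl⟩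
    have hl'g : l' ᵥ* ((tv w ((-c) • fv f w) : GL (Fin n) F) : Matrix (Fin n) (Fin n) F) = l₀ := by
      rw [hl'def, Matrix.vecMul_vecMul, ← Units.val_mul, inv_mul_cancel, Units.val_one,
        Matrix.vecMul_one]
    obtain ⟨h0, hconj⟩ := conj_tv (tv w ((-c) • fv f w)) u l₀ u l' hl₀.1 hfix.symm hl'g
    have hl'M : l' ∈ Ax M u := by
      refine ⟨h0, ?_⟩
      rw [← hconj]
      exact M.mul_mem (M.mul_mem hmem hl₀.2) (M.inv_mem hmem)
    have hl'val : l' = l₀ + (c * (l₀ ⬝ᵥ w)) • fv f w := by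
      rw [hl'def, tv_inv _ _ (fv_dot_self hf w (-c)), vecMul_tv _ _ _ (by
        rw [neg_dotProduct, fv_dot_self hf w (-c), neg_zero])]
      rw [neg_smul, neg_neg, smul_smul, mul_comm]
    have := ax_sub M u _ _ hl'M hl₀
    rw [hl'val, add_sub_cancel_left] at this
    exact this
  -- step 2: `fv w` itself when the axis does not vanish at `w`
  have h2 : ∀ w : Fin n → F, f w u = 0 → l₀ ⬝ᵥ w ≠ 0 → fv f w ∈ Ax M u := by
    intro w hw hne
    have := h1 w hw (l₀ ⬝ᵥ w)⁻¹
    rwa [inv_mul_cancel₀ hne, one_smul] at this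
  -- step 3: all `w ⊥ u`
  have h3 : ∀ w : Fin n → F, f w u = 0 → fv f w ∈ Ax M u := by
    intro w hw
    by_cases hne : l₀ ⬝ᵥ w = 0
    · have hsum : f (w + w₁) u = 0 := by rw [hf.bilinear.add_left, hw, hw₁, add_zero]
      have hne' : l₀ ⬝ᵥ (w + w₁) ≠ 0 := by rw [dotProduct_add, hne, zero_add]; exact hlw
      have := ax_sub M u _ _ (h2 _ hsum hne') (h2 _ hw₁ hlw)
      rwa [fv_add hf.bilinear, add_sub_cancel_right] at this
    · exact h2 w hw hne
  intro l
  by_cases hl : l ⬝ᵥ u = 0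
  · obtain ⟨a, rfl⟩ := fv_surjective hf l
    rw [fv_dot hf.bilinear] at hl
    have : f a u = 0 := by rw [hf.skew, hl, neg_zero]
    exact (h3 a this).2
  · rw [tv_of_not _ _ hl]
    exact M.one_mem

include hf in
/-- symplectic transvections act transitively on the non-zero vectors -/
theorem exists_move (u v : Fin n → F) (hu : u ≠ 0) (hv : v ≠ 0) :
    ∃ g ∈ Cfsg.Geo.similarityGroup f ⊓ Cfsg.Geo.specialLinear (Fin n) F,
      (g : Matrix (Fin n) (Fin n) F) *ᵥ u = v := by
  have hstep : ∀ a b : Fin n → F, f a b ≠ 0 →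
      ∃ g ∈ Cfsg.Geo.similarityGroup f ⊓ Cfsg.Geo.specialLinear (Fin n) F,
        (g : Matrix (Fin n) (Fin n) F) *ᵥ a = b := by
    intro a b hab
    refine ⟨tv (b - a) ((f a b)⁻¹ • fv f (b - a)), st_mem hf _ _, ?_⟩
    rw [st_mulVec hf, f_sub_right hf.bilinear, hf.alternating, sub_zero, inv_mul_cancel₀ hab,
      one_smul]
    abel
  by_cases huv : f u v = 0
  · obtain ⟨-, ⟨w₁, hw₁⟩⟩ := hf.nondegenerate u hu
    obtain ⟨⟨w₂, hw₂⟩, -⟩ := hf.nondegenerate v hv
    have hex : ∃ w, f u w ≠ 0 ∧ f w v ≠ 0 := by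
      by_cases h1 : f w₁ v = 0
      · by_cases h2 : f u w₂ = 0
        · refine ⟨w₁ + w₂, ?_, ?_⟩
          · rw [hf.bilinear.add_right, h2, add_zero]; exact hw₁
          · rw [hf.bilinear.add_left, h1, zero_add]; exact hw₂
        · exact ⟨w₂, h2, hw₂⟩
      · exact ⟨w₁, hw₁, h1⟩
    obtain ⟨w, hw1, hw2⟩ := hex
    obtain ⟨g₁, hg₁, hg₁u⟩ := hstep u w hw1
    obtain ⟨g₂, hg₂, hg₂w⟩ := hstep w v hw2
    refine ⟨g₂ * g₁, Subgroup.mul_mem _ hg₂ hg₁, ?_⟩
    rw [Units.val_mul, ← Matrix.mulVec_mulVec, hg₁u, hg₂w]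
  · exact hstep u v huv

include hf in
/-- an invertible matrix that does not enlarge the orthogonality relation is a similarity -/
theorem similarity_of_ker (g : GL (Fin n) F)
    (h : ∀ u y : Fin n → F, f ((g : Matrix (Fin n) (Fin n) F) *ᵥ y)
      ((g : Matrix (Fin n) (Fin n) F) *ᵥ u) = 0 → f y u = 0) :
    g ∈ Cfsg.Geo.similarityGroup f := by
  have hb := hf.bilinear
  -- pointwise proportionality
  have hpt : ∀ u : Fin n → F, ∃ c : F, ∀ x : Fin n → F,
      f x u = c * f ((g : Matrix (Fin n) (Fin n) F) *ᵥ x) ((g : Matrix (Fin n) (Fin n) F) *ᵥ u) := by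
    intro u
    by_cases h0 : ∀ y : Fin n → F, f ((g : Matrix (Fin n) (Fin n) F) *ᵥ y)
        ((g : Matrix (Fin n) (Fin n) F) *ᵥ u) = 0
    · exact ⟨0, fun x => by rw [zero_mul]; exact h u x (h0 x)⟩
    · push Not at h0
      obtain ⟨y₀, hy₀⟩ := h0
      refine ⟨f y₀ u / f ((g : Matrix (Fin n) (Fin n) F) *ᵥ y₀)
        ((g : Matrix (Fin n) (Fin n) F) *ᵥ u), fun x => ?_⟩
      have hk := h u (x - (f ((g : Matrix (Fin n) (Fin n) F) *ᵥ x)
        ((g : Matrix (Fin n) (Fin n) F) *ᵥ u) / f ((g : Matrix (Fin n) (Fin n) F) *ᵥ y₀)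
        ((g : Matrix (Fin n) (Fin n) F) *ᵥ u)) • y₀) (by
          rw [Matrix.mulVec_sub, Matrix.mulVec_smul, f_sub_left hb, hb.smul_left,
            div_mul_cancel₀ _ hy₀, sub_self])
      rw [f_sub_left hb, hb.smul_left, sub_eq_zero] at hk
      rw [hk]
      field_simp
  have hg0 : ∀ v : Fin n → F, (g : Matrix (Fin n) (Fin n) F) *ᵥ v = 0 → v = 0 := by
    intro v hv
    have := congrArg (fun z => ((g⁻¹ : GL (Fin n) F) : Matrix (Fin n) (Fin n) F) *ᵥ z) hv
    simp only [Matrix.mulVec_mulVec, Matrix.mulVec_zero] at this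
    rwa [← Units.val_mul, inv_mul_cancel, Units.val_one, Matrix.one_mulVec] at this
  have hgsurj : ∀ z : Fin n → F, ∃ x, (g : Matrix (Fin n) (Fin n) F) *ᵥ x = z := by
    intro z
    refine ⟨((g⁻¹ : GL (Fin n) F) : Matrix (Fin n) (Fin n) F) *ᵥ z, ?_⟩
    rw [Matrix.mulVec_mulVec, ← Units.val_mul, mul_inv_cancel, Units.val_one, Matrix.one_mulVec]
  by_cases hex : ∃ u₀ : Fin n → F, u₀ ≠ 0
  · obtain ⟨u₀, hu₀⟩ := hex
    obtain ⟨c₀, hc₀⟩ := hpt u₀
    have hc₀ne : c₀ ≠ 0 := by
      intro hc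
      obtain ⟨⟨x, hx⟩, -⟩ := hf.nondegenerate u₀ hu₀
      apply hx
      rw [hc₀ x, hc, zero_mul]
    have hall : ∀ u x : Fin n → F, f x u = c₀ * f ((g : Matrix (Fin n) (Fin n) F) *ᵥ x)
        ((g : Matrix (Fin n) (Fin n) F) *ᵥ u) := by
      intro u x
      by_cases hdep : ∃ a : F, u = a • u₀
      · obtain ⟨a, rfl⟩ := hdep
        rw [hb.smul_right, hc₀ x, Matrix.mulVec_smul, hb.smul_right]
        ring
      · push Not at hdep
        obtain ⟨c₁, hc₁⟩ := hpt u
        obtain ⟨c₃, hc₃⟩ := hpt (u₀ + u)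
        have hz : (c₃ - c₀) • u₀ + (c₃ - c₁) • u = 0 := by
          apply hg0
          by_contra hne
          obtain ⟨⟨z, hz⟩, -⟩ := hf.nondegenerate _ hne
          obtain ⟨x', rfl⟩ := hgsurj z
          apply hz
          have e1 := hc₃ x'
          rw [hb.add_right, hc₀ x', hc₁ x', Matrix.mulVec_add, hb.add_right] at e1
          rw [Matrix.mulVec_add, Matrix.mulVec_smul, Matrix.mulVec_smul, hb.add_right,
            hb.smul_right, hb.smul_right]
          linear_combination -e1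
        have h31 : c₃ = c₁ := by
          by_contra hne
          have hne' : c₃ - c₁ ≠ 0 := sub_ne_zero.mpr hne
          apply hdep (-(c₃ - c₀) / (c₃ - c₁))
          have : (c₃ - c₁) • u = -((c₃ - c₀) • u₀) := eq_neg_of_add_eq_zero_right hz
          calc u = (c₃ - c₁)⁻¹ • ((c₃ - c₁) • u) := by
                rw [smul_smul, inv_mul_cancel₀ hne', one_smul]
            _ = (-(c₃ - c₀) / (c₃ - c₁)) • u₀ := by
                rw [this, smul_neg, smul_smul, ← neg_smul]
                congr 1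
                field_simp
        have h30 : c₃ = c₀ := by
          rw [h31, sub_self, zero_smul, add_zero] at hz
          rcases smul_eq_zero.mp hz with h' | h'
          · rw [h31]; exact sub_eq_zero.mp h'
          · exact absurd h' hu₀
        rw [hc₁ x, ← h31, h30]
    refine ⟨Units.mk0 c₀⁻¹ (inv_ne_zero hc₀ne), fun u v => ?_⟩
    rw [Units.val_mk0, hall v u, ← mul_assoc, inv_mul_cancel₀ hc₀ne, one_mul]
  · push Not at hex
    refine ⟨1, fun u v => ?_⟩
    rw [hex u, hex v, Matrix.mulVec_zero, Units.val_one, one_mul]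

include hf in
/-- a subgroup of the special linear group properly containing the symplectic similarities is
everything -/
theorem sp_top (hn : 2 ≤ n) (M : Subgroup (GL (Fin n) F))
    (hHM : Cfsg.Geo.similarityGroup f ⊓ Cfsg.Geo.specialLinear (Fin n) F ≤ M)
    (hMS : M ≤ Cfsg.Geo.specialLinear (Fin n) F)
    (hM : M ≠ Cfsg.Geo.similarityGroup f ⊓ Cfsg.Geo.specialLinear (Fin n) F) :
    M = Cfsg.Geo.specialLinear (Fin n) F := by
  have hb := hf.bilinear
  obtain ⟨g, hgM, hgS⟩ : ∃ g ∈ M, g ∉ Cfsg.Geo.similarityGroup f := by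
    by_contra hcon
    push Not at hcon
    exact hM (le_antisymm (fun x hx => ⟨hcon x hx, hMS hx⟩) hHM)
  obtain ⟨u₀, y, hgy, hyu⟩ : ∃ u₀ y : Fin n → F, f ((g : Matrix (Fin n) (Fin n) F) *ᵥ y)
      ((g : Matrix (Fin n) (Fin n) F) *ᵥ u₀) = 0 ∧ f y u₀ ≠ 0 := by
    by_contra hcon
    push Not at hcon
    exact hgS (similarity_of_ker hf g hcon)
  have hu₀ : u₀ ≠ 0 := by
    intro h
    rw [h, f_zero_right hb] at hyu
    exact hyu rfl
  -- the conjugated transvection
  obtain ⟨l', hl'def⟩ : ∃ l', l' = fv f u₀ ᵥ*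
      (((g⁻¹ : GL (Fin n) F)) : Matrix (Fin n) (Fin n) F) := ⟨_, rfl⟩
  have hl'g : l' ᵥ* (g : Matrix (Fin n) (Fin n) F) = (1 : F) • fv f u₀ := by
    rw [hl'def, Matrix.vecMul_vecMul, ← Units.val_mul, inv_mul_cancel, Units.val_one,
      Matrix.vecMul_one, one_smul]
  obtain ⟨h0, hconj⟩ := conj_tv g u₀ ((1 : F) • fv f u₀) _ l' (fv_dot_self hf u₀ 1) rfl hl'g
  have hl'M : l' ∈ Ax M ((g : Matrix (Fin n) (Fin n) F) *ᵥ u₀) := by
    refine ⟨h0, ?_⟩
    rw [← hconj]
    exact M.mul_mem (M.mul_mem hgM (hHM (st_mem hf u₀ 1))) (M.inv_mem hgM)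
  have hl'w : l' ⬝ᵥ ((g : Matrix (Fin n) (Fin n) F) *ᵥ y) ≠ 0 := by
    rw [Matrix.dotProduct_mulVec, hl'g, one_smul, fv_dot hb]
    exact hyu
  have hcen := ax_all hf M hHM _ l' _ hl'M hgy hl'w
  have hgu₀ : (g : Matrix (Fin n) (Fin n) F) *ᵥ u₀ ≠ 0 := by
    intro h
    rw [h, f_zero_right hb] at hgy
    have := congrArg (fun z => ((g⁻¹ : GL (Fin n) F) : Matrix (Fin n) (Fin n) F) *ᵥ z) h
    simp only [Matrix.mulVec_mulVec, Matrix.mulVec_zero] at this
    rw [← Units.val_mul, inv_mul_cancel, Units.val_one, Matrix.one_mulVec] at this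
    exact hu₀ this
  apply le_antisymm hMS
  apply specialLinear_le_of_tv hn
  intro v l
  by_cases hv : v = 0
  · have : tv v l = 1 := by
      apply Units.ext
      rw [hv, tv_val _ _ (dotProduct_zero l), Matrix.zero_vecMulVec, add_zero, Units.val_one]
    rw [this]
    exact M.one_mem
  · obtain ⟨h, hh, hhv⟩ := exists_move hf _ v hgu₀ hv
    have := cen_smul M h (hHM hh) _ hcen
    rw [hhv] at this
    exact this l

include hf in
/-- some element of the special linear group is not a similarity -/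
theorem exists_not_similarity (hn : 3 ≤ n) :
    ∃ g ∈ Cfsg.Geo.specialLinear (Fin n) F, g ∉ Cfsg.Geo.similarityGroup f := by
  have hb := hf.bilinear
  by_contra hcon
  push Not at hcon
  obtain ⟨u, hudef⟩ : ∃ u : Fin n → F, u = Pi.single (⟨0, by omega⟩ : Fin n) 1 := ⟨_, rfl⟩
  have hu0 : u ≠ 0 := by
    intro h
    have := congrFun h ⟨0, by omega⟩
    rw [hudef, Pi.single_eq_same] at this
    exact one_ne_zero this
  obtain ⟨⟨x₀, hx₀⟩, -⟩ := hf.nondegenerate u hu0
  have key : ∀ k : Fin n, k ≠ ⟨0, by omega⟩ → ∀ y : Fin n → F,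
      y k * f x₀ u = x₀ k * f y u := by
    intro k hk y
    have hlu : (Pi.single k (1 : F) : Fin n → F) ⬝ᵥ u = 0 := by
      rw [hudef, single_dotProduct, one_mul, Pi.single_eq_of_ne hk]
    obtain ⟨c, hc⟩ := hcon (tv u (Pi.single k 1)) (tv_mem_specialLinear _ _)
    have hc1 : (c : F) = 1 := by
      have := hc x₀ u
      rw [tv_mulVec _ _ _ hlu, tv_mulVec _ _ _ hlu, hlu, zero_smul, add_zero, hb.add_left,
        hb.smul_left, hf.alternating, mul_zero, add_zero] at this
      have h2 : ((c : F) - 1) * f x₀ u = 0 := by linear_combination -this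
      rcases mul_eq_zero.mp h2 with h3 | h3
      · linear_combination h3
      · exact absurd h3 hx₀
    have := hc y x₀
    rw [tv_mulVec _ _ _ hlu, tv_mulVec _ _ _ hlu, hc1, one_mul, hb.add_left, hb.add_right,
      hb.add_right, hb.smul_left, hb.smul_left, hb.smul_right, hb.smul_right, hf.alternating,
      single_dotProduct, single_dotProduct, one_mul, one_mul, hf.skew u x₀] at this
    linear_combination -this
  have h1 := key ⟨1, by omega⟩ (by intro h; simp [Fin.ext_iff] at h)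
  have h2 := key ⟨2, by omega⟩ (by intro h; simp [Fin.ext_iff] at h)
  -- evaluate
  have e1 := h1 (Pi.single ⟨1, by omega⟩ 1)
  have e2 := h2 (Pi.single ⟨1, by omega⟩ 1)
  have e3 := h2 (Pi.single ⟨2, by omega⟩ 1)
  rw [Pi.single_eq_same, one_mul] at e1 e3
  rw [Pi.single_eq_of_ne (by intro h; simp [Fin.ext_iff] at h), zero_mul] at e2
  have hfe1 : f (Pi.single (⟨1, by omega⟩ : Fin n) 1) u ≠ 0 := by
    intro h
    rw [h, mul_zero] at e1
    exact hx₀ e1
  have hx2 : x₀ ⟨2, by omega⟩ = 0 := by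
    rcases mul_eq_zero.mp e2.symm with h | h
    · exact h
    · exact absurd h hfe1
  rw [hx2, zero_mul] at e3
  exact hx₀ e3

include hf in
/-- **the symplectic similarities form a maximal subgroup of the special linear group** -/
theorem maximal_sp (hn : 3 ≤ n) :
    Cfsg.Geo.IsMaximalIn (Cfsg.Geo.specialLinear (Fin n) F)
      (Cfsg.Geo.similarityGroup f ⊓ Cfsg.Geo.specialLinear (Fin n) F) := by
  refine ⟨?_, fun M hHM hMS => ?_⟩
  · apply lt_of_le_of_ne inf_le_right
    intro heq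
    obtain ⟨g, hg, hgS⟩ := exists_not_similarity hf hn
    rw [← heq] at hg
    exact hgS hg.1
  · by_cases hM : M = Cfsg.Geo.similarityGroup f ⊓ Cfsg.Geo.specialLinear (Fin n) F
    · left; exact hM
    · right; exact sp_top hf (by omega) M hHM hMS hM

end symp

end Cfsg.Agent.Helper28.SpInSL
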