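import Mathlib
import Cfsg.Prelude.Def_GeometricClasses
import Cfsg.Agent.Lib.Helper28.SpInSL

/-!
# Subfield subgroups of `SL_n` (helper28), part A: elementary transvections and generation
-/

set_option autoImplicit false

namespace Cfsg.Agent.Helper28.Subf

open Matrix Cfsg Cfsg.Agent.Helper28 Cfsg.Agent.Helper28.SubspaceMax Cfsg.Agent.Helper28.SpInSL

variable {F : Type*} [Field F] {n : ℕ}

/-- the commutator of two transvections, the axis of the first killing the centre of the second -/
theorem tv_comm (u φ v ψ : Fin n → F) (h1 : φ ⬝ᵥ u = 0) (h2 : ψ ⬝ᵥ v = 0) (h3 : φ ⬝ᵥ v = 0) :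
    tv u φ * tv v ψ * (tv u φ)⁻¹ * (tv v ψ)⁻¹ = tv v (-(ψ ⬝ᵥ u) • φ) := by
  have hu : v = ((tv u φ : GL (Fin n) F) : Matrix (Fin n) (Fin n) F) *ᵥ v := by
    rw [tv_mulVec _ _ _ h1, h3, zero_smul, add_zero]
  have hl : (ψ - (ψ ⬝ᵥ u) • φ) ᵥ* ((tv u φ : GL (Fin n) F) : Matrix (Fin n) (Fin n) F) = ψ := by
    rw [vecMul_tv _ _ _ h1, sub_dotProduct, smul_dotProduct, h1, smul_zero, sub_zero]
    abel
  obtain ⟨h4, h5⟩ := conj_tv (tv u φ) v ψ v (ψ - (ψ ⬝ᵥ u) • φ) h2 hu hl
  rw [h5, tv_inv v ψ h2, tv_mul_tv v _ _ h4 (by rw [neg_dotProduct, h2, neg_zero])]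
  congr 1
  rw [neg_smul]
  abel

/-- the elementary transvection `1 + a E_{ij}` -/
noncomputable def xe (i j : Fin n) (a : F) : GL (Fin n) F := tv (Pi.single i 1) (Pi.single j a)

theorem single_dot_single (i j : Fin n) (a b : F) :
    (Pi.single j a : Fin n → F) ⬝ᵥ (Pi.single i b : Fin n → F) = if i = j then a * b else 0 := by
  rw [single_dotProduct, Pi.single_apply]
  by_cases h : j = i
  · rw [if_pos h, if_pos h.symm]
  · rw [if_neg h, if_neg (fun h' => h h'.symm), mul_zero]

theorem single_dot_single_ne {i j : Fin n} (hij : i ≠ j) (a b : F) :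
    (Pi.single j a : Fin n → F) ⬝ᵥ (Pi.single i b : Fin n → F) = 0 := by
  rw [single_dot_single, if_neg hij]

theorem xe_mul {i j : Fin n} (hij : i ≠ j) (a b : F) : xe i j a * xe i j b = xe i j (a + b) := by
  unfold xe
  rw [tv_mul_tv _ _ _ (single_dot_single_ne hij _ _) (single_dot_single_ne hij _ _), Pi.single_add]

theorem xe_inv {i j : Fin n} (hij : i ≠ j) (a : F) : (xe i j a)⁻¹ = xe i j (-a) := by
  unfold xe
  rw [tv_inv _ _ (single_dot_single_ne hij _ _), Pi.single_neg]

theorem xe_comm {i j k : Fin n} (hij : i ≠ j) (hjk : j ≠ k) (hik : i ≠ k) (a b : F) :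
    xe j k b * xe i j a * (xe j k b)⁻¹ * (xe i j a)⁻¹ = xe i k (-(a * b)) := by
  unfold xe
  rw [tv_comm _ _ _ _ (single_dot_single_ne hjk _ _) (single_dot_single_ne hij _ _)
    (single_dot_single_ne hik _ _)]
  congr 1
  rw [single_dot_single, if_pos rfl, mul_one]
  funext l
  rw [Pi.smul_apply, Pi.single_apply, Pi.single_apply, smul_eq_mul]
  split_ifs <;> ring

/-- a subgroup containing all elementary transvections contains the special linear group -/
theorem specialLinear_le_of_xe (hn : 2 ≤ n) (M : Subgroup (GL (Fin n) F))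
    (hM : ∀ (i j : Fin n), i ≠ j → ∀ a : F, xe i j a ∈ M) :
    Cfsg.Geo.specialLinear (Fin n) F ≤ M := by
  haveI : Nontrivial (Fin n) := Fin.nontrivial_iff_two_le.mpr hn
  have key : ∀ s : Matrix.SpecialLinearGroup (Fin n) F, Matrix.SpecialLinearGroup.toGL s ∈ M := by
    intro s
    have htr : ∀ (i j : Fin n) (hij : i ≠ j) (a : F),
        Matrix.SpecialLinearGroup.toGL (Matrix.SpecialLinearGroup.transvection hij a) ∈ M := by
      intro i j hij a
      have h0 : (Pi.single j a : Fin n → F) ⬝ᵥ (Pi.single i 1 : Fin n → F) = 0 :=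
        single_dot_single_ne hij _ _
      have : Matrix.SpecialLinearGroup.toGL (Matrix.SpecialLinearGroup.transvection hij a)
          = xe i j a := by
        unfold xe
        apply Units.ext
        rw [tv_val _ _ h0, Matrix.SpecialLinearGroup.coe_GL_coe_matrix,
          Matrix.SpecialLinearGroup.transvection_coe]
        congr 1
        ext x y
        rw [vecMulVec_apply, Matrix.single_apply]
        by_cases hx : i = x
        · by_cases hy : j = y
          · subst hx; subst hy; simp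
          · subst hx; simp [hy, Pi.single_eq_of_ne (Ne.symm hy)]
        · simp [hx, Pi.single_eq_of_ne (Ne.symm hx)]
      rw [this]
      exact hM i j hij a
    refine Matrix.SpecialLinearGroup.diagonal_transvection_induction'
      (fun s => Matrix.SpecialLinearGroup.toGL s ∈ M) s ?_ htr ?_
    · intro i j hij c hc
      show Matrix.SpecialLinearGroup.toGL _ ∈ M
      rw [Cfsg.Agent.Helper2.diag2n_eq_transvections hij c hc]
      simp only [map_mul]
      exact mul_mem (mul_mem (mul_mem (htr _ _ _ _) (htr _ _ _ _)) (htr _ _ _ _))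
        (mul_mem (mul_mem (htr _ _ _ _) (htr _ _ _ _)) (htr _ _ _ _))
    · intro A B hA hB
      show Matrix.SpecialLinearGroup.toGL (A * B) ∈ M
      rw [map_mul]
      exact mul_mem hA hB
  intro g hg
  have hdet : (g : Matrix (Fin n) (Fin n) F).det = 1 := by
    have := (mem_specialLinear_iff g).mp hg
    have h2 := congrArg Units.val this
    rwa [Matrix.GeneralLinearGroup.val_det_apply, Units.val_one] at h2
  have : g = Matrix.SpecialLinearGroup.toGL ⟨(g : Matrix (Fin n) (Fin n) F), hdet⟩ := by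
    apply Units.ext
    rfl
  rw [this]
  exact key _

section partA

variable [Fintype F] (F₀ : Subfield F)

/-- a proper overfield of prime degree is everything: a subalgebra version -/
theorem subalgebra_eq_top (r : ℕ) (hr : r.Prime) (hcard : Fintype.card F = Nat.card F₀ ^ r)
    (L : Subalgebra F₀ F) (a₀ : F) (ha₀ : a₀ ∉ F₀) (haL : a₀ ∈ L) : L = ⊤ := by
  classical
  haveI : Fintype F₀ := Fintype.ofFinite _
  have h1 := Module.card_eq_pow_finrank (K := F₀) (V := F)
  rw [hcard, Nat.card_eq_fintype_card] at h1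
  have h2 : 2 ≤ Fintype.card F₀ := Fintype.one_lt_card
  have h3 : r = Module.finrank F₀ F := Nat.pow_right_injective h2 h1
  have hp : (Module.finrank F₀ F).Prime := h3 ▸ hr
  have hs := Subalgebra.isSimpleOrder_of_finrank_prime F₀ F hp
  rcases hs.eq_bot_or_eq_top L with h | h
  · exfalso
    rw [h, Algebra.mem_bot] at haL
    obtain ⟨x, hx⟩ := haL
    apply ha₀
    rw [← hx]
    exact x.2
  · exact h

variable (M : Subgroup (GL (Fin n) F))

/-- moving the column index of an elementary transvection of `M` -/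
theorem xe_move_col (hrat : ∀ i j : Fin n, i ≠ j → ∀ a ∈ F₀, xe i j a ∈ M)
    {i j l : Fin n} (hij : i ≠ j) (hjl : j ≠ l) (hil : i ≠ l) (a : F) (h : xe i j a ∈ M) :
    xe i l a ∈ M := by
  have h1 : xe j l (-1 : F) ∈ M := hrat j l hjl _ (F₀.neg_mem F₀.one_mem)
  have h2 := xe_comm hij hjl hil a (-1 : F)
  have h3 : -(a * (-1 : F)) = a := by ring
  rw [h3] at h2
  rw [← h2]
  exact M.mul_mem (M.mul_mem (M.mul_mem h1 h) (M.inv_mem h1)) (M.inv_mem h)

/-- moving the row index of an elementary transvection of `M` -/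
theorem xe_move_row (hrat : ∀ i j : Fin n, i ≠ j → ∀ a ∈ F₀, xe i j a ∈ M)
    {i j k : Fin n} (hij : i ≠ j) (hki : k ≠ i) (hkj : k ≠ j) (a : F) (h : xe i j a ∈ M) :
    xe k j a ∈ M := by
  have h1 : xe k i (-1 : F) ∈ M := hrat k i hki _ (F₀.neg_mem F₀.one_mem)
  have h2 := xe_comm hki hij hkj (-1 : F) a
  have h3 : -((-1 : F) * a) = a := by ring
  rw [h3] at h2
  rw [← h2]
  exact M.mul_mem (M.mul_mem (M.mul_mem h h1) (M.inv_mem h)) (M.inv_mem h1)

theorem exists_third (hn : 3 ≤ n) (i j : Fin n) : ∃ m : Fin n, m ≠ i ∧ m ≠ j := by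
  by_contra hcon
  push Not at hcon
  have h0 : ∀ m : Fin n, m = i ∨ m = j := fun m => by
    by_cases h : m = i
    · exact Or.inl h
    · exact Or.inr (hcon m h)
  have hsub : (Finset.univ : Finset (Fin n)) ⊆ {i, j} := by
    intro m _
    rcases h0 m with h | h <;> simp [h]
  have := Finset.card_le_card hsub
  rw [Finset.card_univ, Fintype.card_fin] at this
  have h2 : ({i, j} : Finset (Fin n)).card ≤ 2 := Finset.card_le_two
  omega

/-- one elementary transvection of `M` gives all those with the same coefficient -/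
theorem xe_spread (hn : 3 ≤ n) (hrat : ∀ i j : Fin n, i ≠ j → ∀ a ∈ F₀, xe i j a ∈ M)
    {i j : Fin n} (hij : i ≠ j) (a : F) (h : xe i j a ∈ M) (k l : Fin n) (hkl : k ≠ l) :
    xe k l a ∈ M := by
  have col : ∀ {i j l : Fin n}, i ≠ j → i ≠ l → xe i j a ∈ M → xe i l a ∈ M := by
    intro i j l hij hil h
    by_cases hjl : j = l
    · rw [← hjl]; exact h
    · exact xe_move_col F₀ M hrat hij hjl hil a h
  have row : ∀ {i j k : Fin n}, i ≠ j → k ≠ j → xe i j a ∈ M → xe k j a ∈ M := by
    intro i j k hij hkj h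
    by_cases hki : k = i
    · rw [hki]; exact h
    · exact xe_move_row F₀ M hrat hij hki hkj a h
  by_cases hli : l = i
  · -- target `(k, i)` with `k ≠ i`
    subst hli
    by_cases hkj : k = j
    · subst hkj
      obtain ⟨m, hml, hmk⟩ := exists_third hn l k
      have h1 : xe l m a ∈ M := col hij (Ne.symm hml) h
      have h2 : xe k m a ∈ M := row (Ne.symm hml) (Ne.symm hmk) h1
      exact col (Ne.symm hmk) hkl h2
    · have h1 : xe k j a ∈ M := row hij hkj h
      exact col hkj hkl h1
  · have h1 : xe i l a ∈ M := col hij (Ne.symm hli) h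
    exact row (Ne.symm hli) hkl h1

/-- Part A: an elementary transvection with a coefficient outside the subfield forces `SL ≤ M` -/
theorem partA (hn : 3 ≤ n) (r : ℕ) (hr : r.Prime) (hcard : Fintype.card F = Nat.card F₀ ^ r)
    (hrat : ∀ i j : Fin n, i ≠ j → ∀ a ∈ F₀, xe i j a ∈ M)
    {i₀ j₀ : Fin n} (hij : i₀ ≠ j₀) (a₀ : F) (ha₀ : a₀ ∉ F₀) (hx : xe i₀ j₀ a₀ ∈ M) :
    Cfsg.Geo.specialLinear (Fin n) F ≤ M := by
  obtain ⟨i1, j1, k1, h12, h23, h13⟩ : ∃ i j k : Fin n, i ≠ j ∧ j ≠ k ∧ i ≠ k := by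
    obtain ⟨m, hm1, hm2⟩ := exists_third hn i₀ j₀
    exact ⟨i₀, j₀, m, hij, Ne.symm hm2, Ne.symm hm1⟩
  let L : Subalgebra F₀ F :=
    { carrier := {a | ∀ i j : Fin n, i ≠ j → xe i j a ∈ M}
      mul_mem' := by
        intro a b ha hb
        have h1 : xe i1 k1 (-(a * b)) ∈ M := by
          rw [← xe_comm h12 h23 h13 a b]
          exact M.mul_mem (M.mul_mem (M.mul_mem (hb _ _ h23) (ha _ _ h12)) (M.inv_mem (hb _ _ h23)))
            (M.inv_mem (ha _ _ h12))
        have h2 : xe i1 k1 (a * b) ∈ M := by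
          have := M.inv_mem h1
          rwa [xe_inv h13, neg_neg] at this
        exact fun i j hij' => xe_spread F₀ M hn hrat h13 _ h2 i j hij'
      add_mem' := by
        intro a b ha hb i j hij'
        rw [← xe_mul hij']
        exact M.mul_mem (ha i j hij') (hb i j hij')
      algebraMap_mem' := by
        intro x i j hij'
        exact hrat i j hij' _ x.2 }
  have hL : L = ⊤ := subalgebra_eq_top F₀ r hr hcard L a₀ ha₀
    (fun i j hij' => xe_spread F₀ M hn hrat hij a₀ hx i j hij')
  apply specialLinear_le_of_xe (by omega) M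
  intro i j hij' a
  have : a ∈ L := by rw [hL]; exact Algebra.mem_top
  exact this i j hij'

end partA

end Cfsg.Agent.Helper28.Subf
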