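import Mathlib
import Cfsg.Agent.Lib.Helper28.OrSubB
import Cfsg.Agent.Lib.Helper28.SubfA

/-!
# Subfield subgroups of orthogonal groups (helper28), part C: decomposition along a rational
frame, and the overgroups of the rational Eichler group containing an irrational long root element
-/

set_option autoImplicit false
set_option linter.unusedSectionVars false

namespace Cfsg.Agent.H28OrSub

open QuadraticMap Matrix Cfsg.Agent.Helper2.Orth Cfsg.Agent.Helper28.WittQuad
  Cfsg.Agent.Helper28.OrthRoot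

variable {F : Type*} [Field F] {ι : Type} [Fintype ι] [DecidableEq ι]
  {Q : QuadraticForm F (ι → F)} {F₀ : Subfield F}

/-! ### the decomposition along a frame -/

theorem polar_sum_right {κ : Type*} (s : Finset κ) (x : ι → F) (g : κ → (ι → F)) :
    polar Q x (∑ i ∈ s, g i) = ∑ i ∈ s, polar Q x (g i) := by
  show polarBilin Q x (∑ i ∈ s, g i) = ∑ i ∈ s, polarBilin Q x (g i)
  rw [map_sum]

theorem polar_sum_left {κ : Type*} (s : Finset κ) (x : ι → F) (g : κ → (ι → F)) :
    polar Q (∑ i ∈ s, g i) x = ∑ i ∈ s, polar Q (g i) x := by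
  rw [polar_comm, polar_sum_right]
  exact Finset.sum_congr rfl (fun i _ => polar_comm _ _ _)

section proj
variable {k : ℕ} (fr : RFrame Q F₀ k)

/-- the component orthogonal to the frame -/
def RFrame.proj (v : ι → F) : ι → F :=
  v - ∑ i, (polar Q (fr.f i) v • fr.e i + polar Q (fr.e i) v • fr.f i)

theorem RFrame.polar_e_proj (j : Fin k) (v : ι → F) : polar Q (fr.e j) (fr.proj v) = 0 := by
  unfold RFrame.proj
  rw [polar_sub_right, polar_sum_right]
  simp only [polar_add_right, polar_smul_right, fr.fr.ee, fr.fr.ef, smul_eq_mul, mul_zero,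
    zero_add, mul_ite, mul_one]
  rw [Finset.sum_ite_eq Finset.univ j, if_pos (Finset.mem_univ j), sub_self]

theorem RFrame.polar_f_proj (j : Fin k) (v : ι → F) : polar Q (fr.f j) (fr.proj v) = 0 := by
  unfold RFrame.proj
  rw [polar_sub_right, polar_sum_right]
  simp only [polar_add_right, polar_smul_right, fr.fr.ff, fr.fr.fe, smul_eq_mul, mul_zero,
    add_zero, mul_ite, mul_one]
  rw [Finset.sum_ite_eq Finset.univ j, if_pos (Finset.mem_univ j), sub_self]

theorem RFrame.ratV_proj (hR : RatQ Q F₀) {v : ι → F} (hv : RatV F₀ v) : RatV F₀ (fr.proj v) := by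
  unfold RFrame.proj
  apply ratV_sub hv
  apply ratV_sum
  intro i _
  exact ratV_add (ratV_smul (polar_rat hR (fr.rf i) hv) (fr.re i))
    (ratV_smul (polar_rat hR (fr.re i) hv) (fr.rf i))

theorem RFrame.decomp (v : ι → F) :
    v = ∑ i, (polar Q (fr.f i) v • fr.e i + polar Q (fr.e i) v • fr.f i) + fr.proj v := by
  unfold RFrame.proj
  abel

end proj

/-- sums of elements of a set closed under addition -/
theorem sum_mem_of_add {κ : Type*} (S : Set (ι → F)) (h0 : (0 : ι → F) ∈ S)
    (hadd : ∀ u v, u ∈ S → v ∈ S → u + v ∈ S) (s : Finset κ) (g : κ → (ι → F))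
    (h : ∀ i ∈ s, g i ∈ S) : ∑ i ∈ s, g i ∈ S := by
  classical
  induction s using Finset.induction_on with
  | empty => rw [Finset.sum_empty]; exact h0
  | insert a s ha ih =>
    rw [Finset.sum_insert ha]
    exact hadd _ _ (h a (Finset.mem_insert_self a s))
      (ih (fun i hi => h i (Finset.mem_insert_of_mem hi)))

/-- the rational vectors orthogonal to the first frame vector are generated by the frame vectors
and singular vectors built from the complement of the frame -/
theorem span_perp (hR : RatQ Q F₀) (fr : RFrame Q F₀ 4) (S : Set (ι → F))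
    (hadd : ∀ u v, u ∈ S → v ∈ S → u + v ∈ S) (hsmul : ∀ c ∈ F₀, ∀ u ∈ S, c • u ∈ S)
    (he : ∀ i, fr.e i ∈ S) (hf : ∀ i, i ≠ 0 → fr.f i ∈ S)
    (hd : ∀ d : ι → F, RatV F₀ d → (∀ i, polar Q (fr.e i) d = 0) → (∀ i, polar Q (fr.f i) d = 0) →
      d + fr.e 1 - Q d • fr.f 1 ∈ S)
    {a : ι → F} (ha : RatV F₀ a) (ha0 : polar Q (fr.e 0) a = 0) : a ∈ S := by
  have h0 : (0 : ι → F) ∈ S := by
    have := hsmul 0 F₀.zero_mem _ (he 0)
    rwa [zero_smul] at this
  rw [fr.decomp a]
  apply hadd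
  · apply sum_mem_of_add S h0 hadd
    intro i _
    apply hadd
    · exact hsmul _ (polar_rat hR (fr.rf i) ha) _ (he i)
    · by_cases hi : i = 0
      · rw [hi, ha0, zero_smul]
        exact h0
      · exact hsmul _ (polar_rat hR (fr.re i) ha) _ (hf i hi)
  · have hdr := fr.ratV_proj hR ha
    have h1 := hd _ hdr (fun i => fr.polar_e_proj i a) (fun i => fr.polar_f_proj i a)
    have h2 : fr.proj a = (fr.proj a + fr.e 1 - Q (fr.proj a) • fr.f 1) + ((-1 : F) • fr.e 1 +
        Q (fr.proj a) • fr.f 1) := by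
      module
    rw [h2]
    apply hadd _ _ h1
    apply hadd
    · exact hsmul _ (F₀.neg_mem F₀.one_mem) _ (he 1)
    · exact hsmul _ (hR _ hdr) _ (hf 1 (by decide))

/-! ### transfer of root elements -/

section transfer
variable {M : Subgroup ↥(Cfsg.isometryGroup F (⇑Q))}

/-- moving the second vector of a root element within a rational totally singular plane -/
theorem transfer (hM : R0 Q F₀ ≤ M) {z w₁ w₂ b' : ι → F} (hw₂r : RatV F₀ w₂) (hb'r : RatV F₀ b')
    (hz : Q z = 0) (hw₂ : Q w₂ = 0) (hzw₁ : polar Q z w₁ = 0) (hzw₂ : polar Q z w₂ = 0)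
    (hw₂w₁ : polar Q w₂ w₁ = 0) (hw₂b' : polar Q w₂ b' = 0) (hb'z : polar Q b' z = 0)
    (hb'w₁ : polar Q b' w₁ = 1) {c : F} (h : eichG Q z (c • w₁) ∈ M) :
    eichG Q z (c • w₂) ∈ M := by
  have hg : eichG Q w₂ b' ∈ M := hM (E_mem_R0 hw₂r hb'r hw₂ hw₂b')
  have h1 := E_comm' (a := w₂) (b' := b') (z := z) (w := c • w₁) hw₂ hw₂b' hz
    (by rw [polar_comm, hzw₂]) hb'z (by rw [polar_smul_right, hzw₁, smul_zero])
    (by rw [polar_smul_right, hw₂w₁, smul_zero])
  rw [polar_smul_right, hb'w₁, smul_eq_mul, mul_one] at h1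
  rw [← h1]
  exact comm_mem M hg h

end transfer

/-! ### an irrational long root element gives everything -/

section partA
variable [Fintype F] {M : Subgroup ↥(Cfsg.isometryGroup F (⇑Q))}

theorem single_decomp (b : ι → F) : b = ∑ j, b j • (Pi.single j (1 : F) : ι → F) := by
  funext i
  rw [Finset.sum_apply]
  simp only [Pi.smul_apply, smul_eq_mul]
  rw [Finset.sum_eq_single i]
  · rw [Pi.single_eq_same, mul_one]
  · intro j _ hji
    rw [Pi.single_eq_of_ne (Ne.symm hji), mul_zero]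
  · intro h
    exact absurd (Finset.mem_univ i) h

theorem partA (hQ : (polarBilin Q).Nondegenerate) (hR : RatQ Q F₀)
    (hcard : 9 ≤ Fintype.card ι) (r : ℕ) (hr : r.Prime)
    (hcardF : Fintype.card F = Nat.card F₀ ^ r) (hM : R0 Q F₀ ≤ M) (fr : RFrame Q F₀ 4)
    {c₀ : F} (hc₀ : c₀ ∉ F₀) (h : eichG Q (fr.e 0) (c₀ • fr.e 1) ∈ M) : eichGroup Q ≤ M := by
  have hf := fr.fr
  have qe := hf.qe
  have qf := hf.qf
  -- shorthand facts
  have ee : ∀ i j, polar Q (fr.e i) (fr.e j) = 0 := hf.ee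
  have ff : ∀ i j, polar Q (fr.f i) (fr.f j) = 0 := hf.ff
  have ef : ∀ i j, i ≠ j → polar Q (fr.e i) (fr.f j) = 0 := fun i j hij => hf_ef_ne hf hij
  have fe : ∀ i j, i ≠ j → polar Q (fr.f i) (fr.e j) = 0 := fun i j hij => hf_fe_ne hf hij
  have fe1 : ∀ i, polar Q (fr.f i) (fr.e i) = 1 := hf_fe_same hf
  have ef1 : ∀ i, polar Q (fr.e i) (fr.f i) = 1 := hf_ef_same hf
  let L : Subalgebra ↥F₀ F :=
    { carrier := {s | eichG Q (fr.e 0) (s • fr.e 1) ∈ M}
      mul_mem' := by
        intro s t hs ht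
        have h1 : eichG Q (fr.e 0) (t • fr.e 2) ∈ M :=
          transfer hM (fr.re 2) (fr.rf 1) (qe 0) (qe 2) (ee 0 1) (ee 0 2) (ee 2 1)
            (ef 2 1 (by decide)) (fe 1 0 (by decide)) (fe1 1) ht
        have h2 : eichG Q (fr.e 2) ((-t) • fr.e 0) ∈ M := by
          have h3 := E_swap (qe 0) (by rw [QuadraticMap.map_smul, qe 2, smul_zero] :
            Q (t • fr.e 2) = 0) (by rw [polar_smul_right, ee 0 2, smul_zero])
          rw [eichG_smul_left (qe 2) (by rw [polar_neg_right, ee 2 0, neg_zero])] at h3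
          rw [h3] at h1
          rwa [smul_neg, ← neg_smul] at h1
        have h4 : eichG Q (fr.e 2) ((-t) • fr.f 1) ∈ M :=
          transfer hM (fr.rf 1) (fr.rf 0) (qe 2) (qf 1) (ee 2 0) (ef 2 1 (by decide))
            (fe 1 0 (by decide)) (ff 1 0) (fe 0 2 (by decide)) (fe1 0) h2
        have h5 := E_comm' (a := fr.e 2) (b' := (-t) • fr.f 1) (z := fr.e 0) (w := s • fr.e 1)
          (qe 2) (by rw [polar_smul_right, ef 2 1 (by decide), smul_zero]) (qe 0) (ee 2 0)
          (by rw [polar_smul_left, fe 1 0 (by decide), smul_zero])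
          (by rw [polar_smul_right, ee 0 1, smul_zero])
          (by rw [polar_smul_right, ee 2 1, smul_zero])
        rw [polar_smul_left, polar_smul_right, fe1 1, smul_eq_mul, smul_eq_mul, mul_one] at h5
        have h6 : eichG Q (fr.e 0) ((-t * s) • fr.e 2) ∈ M := by
          rw [← h5]
          exact comm_mem M h4 hs
        have h7 : eichG Q (fr.e 0) ((-t * s) • fr.e 1) ∈ M :=
          transfer hM (fr.re 1) (fr.rf 2) (qe 0) (qe 1) (ee 0 2) (ee 0 1) (ee 1 2)
            (ef 1 2 (by decide)) (fe 2 0 (by decide)) (fe1 2) h6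
        have h8 := M.inv_mem h7
        rw [eichG_inv (qe 0) (by rw [polar_smul_right, ee 0 1, smul_zero]), ← neg_smul] at h8
        have h9 : -(-t * s) = s * t := by ring
        rw [h9] at h8
        exact h8
      add_mem' := by
        intro s t hs ht
        show eichG Q (fr.e 0) ((s + t) • fr.e 1) ∈ M
        rw [add_smul, ← eichG_mul (qe 0) (by rw [polar_smul_right, ee 0 1, smul_zero])
          (by rw [polar_smul_right, ee 0 1, smul_zero])]
        exact M.mul_mem hs ht
      algebraMap_mem' := by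
        intro x
        exact hM (E_mem_R0 (fr.re 0) (ratV_smul x.2 (fr.re 1)) (qe 0)
          (by rw [polar_smul_right, ee 0 1, smul_zero])) }
  have hL : L = ⊤ := Cfsg.Agent.Helper28.Subf.subalgebra_eq_top F₀ r hr hcardF L c₀ hc₀ h
  have hall : ∀ c : F, eichG Q (fr.e 0) (c • fr.e 1) ∈ M := by
    intro c
    have : c ∈ L := by rw [hL]; exact Algebra.mem_top
    exact this
  -- the set of second vectors
  let S : Set (ι → F) := {v | polar Q (fr.e 0) v = 0 ∧ ∀ c : F, eichG Q (fr.e 0) (c • v) ∈ M}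
  have hSadd : ∀ u v, u ∈ S → v ∈ S → u + v ∈ S := by
    rintro u v ⟨hu0, hu⟩ ⟨hv0, hv⟩
    refine ⟨by rw [polar_add_right, hu0, hv0, add_zero], fun c => ?_⟩
    rw [smul_add, ← eichG_mul (qe 0) (by rw [polar_smul_right, hu0, smul_zero])
      (by rw [polar_smul_right, hv0, smul_zero])]
    exact M.mul_mem (hu c) (hv c)
  have hSsmul : ∀ c : F, ∀ u ∈ S, c • u ∈ S := by
    rintro c u ⟨hu0, hu⟩
    refine ⟨by rw [polar_smul_right, hu0, smul_zero], fun c' => ?_⟩
    rw [smul_smul]
    exact hu _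
  have hSe1 : fr.e 1 ∈ S := ⟨ee 0 1, hall⟩
  have hSe : ∀ i, fr.e i ∈ S := by
    intro i
    by_cases hi0 : i = 0
    · rw [hi0]
      refine ⟨ee 0 0, fun c => ?_⟩
      rw [eichG_self_smul (qe 0)]
      exact M.one_mem
    by_cases hi1 : i = 1
    · rw [hi1]; exact hSe1
    refine ⟨ee 0 i, fun c => ?_⟩
    exact transfer hM (fr.re i) (fr.rf 1) (qe 0) (qe i) (ee 0 1) (ee 0 i) (ee i 1)
      (ef i 1 hi1) (fe 1 0 (by decide)) (fe1 1) (hall c)
  have hSf : ∀ i, i ≠ 0 → fr.f i ∈ S := by
    intro i hi0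
    by_cases hi1 : i = 1
    · rw [hi1]
      refine ⟨ef 0 1 (by decide), fun c => ?_⟩
      exact transfer hM (fr.rf 1) (fr.rf 2) (qe 0) (qf 1) (ee 0 2) (ef 0 1 (by decide))
        (fe 1 2 (by decide)) (ff 1 2) (fe 2 0 (by decide)) (fe1 2) ((hSe 2).2 c)
    refine ⟨ef 0 i (Ne.symm hi0), fun c => ?_⟩
    exact transfer hM (fr.rf i) (fr.rf 1) (qe 0) (qf i) (ee 0 1) (ef 0 i (Ne.symm hi0))
      (fe i 1 hi1) (ff i 1) (fe 1 0 (by decide)) (fe1 1) (hall c)
  have hSd : ∀ d : ι → F, RatV F₀ d → (∀ i, polar Q (fr.e i) d = 0) →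
      (∀ i, polar Q (fr.f i) d = 0) → d + fr.e 1 - Q d • fr.f 1 ∈ S := by
    intro d hdr hde hdf
    have hd0 : polar Q (fr.e 0) d = 0 := hde 0
    have hdS : d ∈ S := by
      refine ⟨hd0, fun c => ?_⟩
      have hg : eichG Q (fr.f 1) d ∈ M := hM (E_mem_R0 (fr.rf 1) hdr (qf 1) (hdf 1))
      have h1 := E_comm (a := fr.f 1) (b' := d) (z := fr.e 0) (w := c • fr.e 1) (qf 1) (hdf 1)
        (qe 0) (fe 1 0 (by decide)) (by rw [polar_comm, hd0])
        (by rw [polar_smul_right, ee 0 1, smul_zero])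
      have h2 : polar Q d (c • fr.e 1) = 0 := by
        rw [polar_smul_right, polar_comm, hde 1, smul_zero]
      rw [h2, polar_smul_right, fe1 1, smul_eq_mul, mul_one, zero_smul, zero_sub] at h1
      have h3 : eichG Q (fr.e 0) (-(c • d) - Q d • c • fr.f 1) ∈ M := by
        rw [← h1]
        exact comm_mem M hg (hall c)
      have h4 : eichG Q (fr.e 0) ((Q d * c) • fr.f 1) ∈ M := (hSf 1 (by decide)).2 _
      have h5 := M.mul_mem h3 h4
      rw [eichG_mul (qe 0) (by
          rw [polar_sub_right, polar_neg_right, polar_smul_right, polar_smul_right,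
            polar_smul_right, hd0, ef 0 1 (by decide)]
          simp)
        (by rw [polar_smul_right, ef 0 1 (by decide), smul_zero])] at h5
      have h6 : -(c • d) - Q d • c • fr.f 1 + (Q d * c) • fr.f 1 = -(c • d) := by
        rw [smul_smul]
        abel
      rw [h6] at h5
      have h7 := M.inv_mem h5
      rwa [eichG_inv (qe 0) (by rw [polar_neg_right, polar_smul_right, hd0, smul_zero, neg_zero]),
        neg_neg] at h7
    have h1 : d + fr.e 1 - Q d • fr.f 1 = d + (fr.e 1 + (-(Q d)) • fr.f 1) := by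
      module
    rw [h1]
    exact hSadd _ _ hdS (hSadd _ _ hSe1 (hSsmul _ _ (hSf 1 (by decide))))
  have hSall : ∀ a : ι → F, RatV F₀ a → polar Q (fr.e 0) a = 0 → a ∈ S := by
    intro a ha ha0
    exact span_perp hR fr S hSadd (fun c _ u hu => hSsmul c u hu) hSe hSf hSd ha ha0
  -- the first frame vector is a full centre
  have he0 : fr.e 0 ∈ Rt M := by
    refine ⟨hf_e_ne_zero hf 0, qe 0, fun b hb => ?_⟩
    let A : Set (ι → F) := {v | polar Q (fr.e 0) v = 0 ∧ eichG Q (fr.e 0) v ∈ M}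
    have hA0 : (0 : ι → F) ∈ A := ⟨polar_zero_right _ _, by rw [eichG_zero]; exact M.one_mem⟩
    have hAadd : ∀ u v, u ∈ A → v ∈ A → u + v ∈ A := by
      rintro u v ⟨hu0, hu⟩ ⟨hv0, hv⟩
      refine ⟨by rw [polar_add_right, hu0, hv0, add_zero], ?_⟩
      rw [← eichG_mul (qe 0) hu0 hv0]
      exact M.mul_mem hu hv
    have hb' : b = ∑ j, b j • ((Pi.single j (1 : F) : ι → F) -
        polar Q (fr.e 0) (Pi.single j 1) • fr.f 0) := by
      have h1 : ∑ j, b j • ((Pi.single j (1 : F) : ι → F) -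
          polar Q (fr.e 0) (Pi.single j 1) • fr.f 0) =
          ∑ j, b j • (Pi.single j (1 : F) : ι → F) -
            (∑ j, polar Q (fr.e 0) (b j • (Pi.single j (1 : F) : ι → F))) • fr.f 0 := by
        rw [Finset.sum_smul, ← Finset.sum_sub_distrib]
        apply Finset.sum_congr rfl
        intro j _
        rw [smul_sub, polar_smul_right, smul_smul, smul_eq_mul]
      rw [h1, ← polar_sum_right, ← single_decomp b, hb, zero_smul, sub_zero]
    have hbA : b ∈ A := by
      rw [hb']
      apply sum_mem_of_add A hA0 hAadd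
      intro j _
      have h2 : (Pi.single j (1 : F) : ι → F) - polar Q (fr.e 0) (Pi.single j 1) • fr.f 0 ∈ S := by
        apply hSall
        · exact ratV_sub (ratV_single j)
            (ratV_smul (polar_rat hR (fr.re 0) (ratV_single j)) (fr.rf 0))
        · rw [polar_sub_right, polar_smul_right, ef1 0, smul_eq_mul, mul_one, sub_self]
      exact ⟨by rw [polar_smul_right, h2.1, smul_zero], h2.2 _⟩
    exact hbA.2
  have hf0 : fr.f 0 ∈ Rt M := by
    obtain ⟨t, ht, htz⟩ := trans_sing hQ hR (by omega) (fr.re 0) (hf_e_ne_zero hf 0) (qe 0)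
      (fr.rf 0) (hf_f_ne_zero hf 0) (qf 0)
    rw [← htz]
    exact rt_smul M t (hM ht) _ he0
  apply eichGroup_le
  intro x hx0 hx
  exact rt_all hQ (hdim_of_card (by omega)) M (fr.e 0) (fr.f 0) he0 hf0
    (by rw [ef1 0]; exact one_ne_zero) x hx0 hx

end partA

end Cfsg.Agent.H28OrSub
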