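import Mathlib
import Cfsg.Agent.Lib.Helper28.OrSubC

/-!
# Subfield subgroups of orthogonal groups (helper28), part D: overgroups of the rational Eichler
group without irrational long root elements: the root groups with rational centre are rational,
and the stabiliser of a rational singular point normalises the rational structure
-/

set_option autoImplicit false
set_option linter.unusedSectionVars false

namespace Cfsg.Agent.H28OrSub

open QuadraticMap Matrix Cfsg.Agent.Helper2.Orth Cfsg.Agent.Helper28.WittQuad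
  Cfsg.Agent.Helper28.OrthRoot

variable {F : Type*} [Field F] {ι : Type} [Fintype ι] [DecidableEq ι]
  {Q : QuadraticForm F (ι → F)} {F₀ : Subfield F}

theorem Q_lin2 (x y : ι → F) (a : F) : Q (x + a • y) = Q x + a * a * Q y + a * polar Q x y := by
  rw [Q_add' Q, QuadraticMap.map_smul, polar_smul_right, smul_eq_mul, smul_eq_mul]

/-- a product decomposition of long root elements in a totally singular plane -/
theorem E_ts {p q r : ι → F} (hp : Q p = 0) (hq : Q q = 0) (hr : Q r = 0)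
    (hpq : polar Q p q = 0) (hpr : polar Q p r = 0) (hqr : polar Q q r = 0) (ν ν' l : F) :
    eichG Q (p + ν • r) (l • (q + ν' • r)) =
      eichG Q p (l • q) * eichG Q r (l • (ν • q - ν' • p)) := by
  have hpp := polar_self_of_singular Q hp
  have hqq := polar_self_of_singular Q hq
  have hrr := polar_self_of_singular Q hr
  have hqp : polar Q q p = 0 := by rw [polar_comm, hpq]
  have hrp : polar Q r p = 0 := by rw [polar_comm, hpr]
  have hrq : polar Q r q = 0 := by rw [polar_comm, hqr]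
  have h1 : Q (p + ν • r) = 0 := by rw [Q_lin2, hp, hr, hpr]; ring
  have h2 : Q (l • (q + ν' • r)) = 0 := by
    rw [QuadraticMap.map_smul, Q_lin2, hq, hr, hqr]; simp
  have h3 : polar Q (p + ν • r) (l • (q + ν' • r)) = 0 := by
    simp only [polar_add_left, polar_add_right, polar_smul_left, polar_smul_right, hpq, hpr, hrq,
      hrr, smul_eq_mul]
    ring
  have h4 : Q (l • q) = 0 := by rw [QuadraticMap.map_smul, hq, smul_zero]
  have h5 : polar Q p (l • q) = 0 := by rw [polar_smul_right, hpq, smul_zero]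
  have h6 : Q (l • (ν • q - ν' • p)) = 0 := by
    rw [QuadraticMap.map_smul, sub_eq_add_neg, ← neg_smul, Q_add' Q, QuadraticMap.map_smul,
      QuadraticMap.map_smul, hq, hp, polar_smul_left, polar_smul_right, hqp]
    simp
  have h7 : polar Q r (l • (ν • q - ν' • p)) = 0 := by
    simp only [polar_sub_right, polar_smul_right, hrq, hrp, smul_eq_mul]
    ring
  apply ext_smul
  intro x
  rw [mul_smul, E_smul_sing h1 h2 h3, E_smul_sing hr h6 h7, E_smul_sing hp h4 h5]
  simp only [polar_add_left, polar_add_right, polar_sub_left, polar_sub_right, polar_smul_left,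
    polar_smul_right, hpq, hpr, hqr, hqp, hrp, hrq, hpp, hqq, hrr, smul_eq_mul]
  module

/-! ### the singular vectors built from the complement of a frame -/

section dtype
variable (fr : RFrame Q F₀ 4) {d : ι → F}

theorem Q_dtype (hde : ∀ i, polar Q (fr.e i) d = 0) (hdf : ∀ i, polar Q (fr.f i) d = 0) :
    Q (d + fr.e 1 - Q d • fr.f 1) = 0 := by
  have h1 : d + fr.e 1 - Q d • fr.f 1 = (d + fr.e 1) + (-(Q d)) • fr.f 1 := by module
  rw [h1, Q_lin2, Q_add' Q, fr.fr.qe, fr.fr.qf, polar_add_left, polar_comm Q d (fr.e 1), hde 1,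
    polar_comm Q d (fr.f 1), hdf 1, hf_ef_same fr.fr]
  ring

theorem polar_e_dtype (hde : ∀ i, polar Q (fr.e i) d = 0) {j : Fin 4} (hj : j ≠ 1) :
    polar Q (fr.e j) (d + fr.e 1 - Q d • fr.f 1) = 0 := by
  rw [polar_sub_right, polar_add_right, polar_smul_right, hde j, fr.fr.ee, hf_ef_ne fr.fr hj]
  simp

theorem polar_f_dtype (hdf : ∀ i, polar Q (fr.f i) d = 0) {j : Fin 4} (hj : j ≠ 1) :
    polar Q (fr.f j) (d + fr.e 1 - Q d • fr.f 1) = 0 := by
  rw [polar_sub_right, polar_add_right, polar_smul_right, hdf j, fr.fr.ff, hf_fe_ne fr.fr hj]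
  simp

theorem ratV_dtype (hR : RatQ Q F₀) (hd : RatV F₀ d) : RatV F₀ (d + fr.e 1 - Q d • fr.f 1) :=
  ratV_sub (ratV_add hd (fr.re 1)) (ratV_smul (hR _ hd) (fr.rf 1))

/-- distinct frame vectors are not proportional -/
theorem e_not_smul {i j : Fin 4} (hij : i ≠ j) (t : F) : fr.e j ≠ t • fr.e i := by
  intro h
  have h1 := hf_ef_same fr.fr j
  rw [h, polar_smul_left, hf_ef_ne fr.fr hij, smul_zero] at h1
  exact zero_ne_one h1

end dtype

/-! ### the standing hypothesis -/

variable (F₀)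

/-- an overgroup of the rational Eichler group without irrational long root elements along
rational totally singular lines -/
structure Hyp (M : Subgroup ↥(Cfsg.isometryGroup F (⇑Q))) : Prop where
  hR : R0 Q F₀ ≤ M
  hD : ∀ z b : ι → F, RatV F₀ z → RatV F₀ b → z ≠ 0 → Q z = 0 → Q b = 0 → polar Q z b = 0 →
    (∀ t : F, b ≠ t • z) → ∀ c : F, eichG Q z (c • b) ∈ M → c ∈ F₀

variable {F₀}

/-- the dichotomy for overgroups of the rational Eichler group -/
theorem dichotomy [Fintype F] (hQ : (polarBilin Q).Nondegenerate) (hR : RatQ Q F₀)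
    (hcard : 9 ≤ Fintype.card ι) (r : ℕ) (hr : r.Prime)
    (hcardF : Fintype.card F = Nat.card F₀ ^ r) {M : Subgroup ↥(Cfsg.isometryGroup F (⇑Q))}
    (hM : R0 Q F₀ ≤ M) : eichGroup Q ≤ M ∨ Hyp F₀ M := by
  by_cases h : Hyp F₀ M
  · exact Or.inr h
  · left
    by_contra hle
    apply h
    refine ⟨hM, ?_⟩
    intro z b hzr hbr hz0 hz hb hzb hind c hc
    by_contra hcF
    obtain ⟨fr, h0, h1⟩ := exists_frame_adapt2 hQ hR 4 (by omega) (by omega) hzr hbr hz0 hz hb hzb
      hind
    apply hle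
    apply partA hQ hR hcard r hr hcardF hM fr hcF
    have e0 : fr.e 0 = z := h0
    have e1 : fr.e 1 = b := h1
    rw [e0, e1]
    exact hc

section partB
variable {M : Subgroup ↥(Cfsg.isometryGroup F (⇑Q))}

/-! ### the root group with a rational centre -/

theorem pairing_core (hyp : Hyp F₀ M) {z a b' a' b'' w : ι → F} (har : RatV F₀ a)
    (hb'r : RatV F₀ b') (ha'r : RatV F₀ a') (hb''r : RatV F₀ b'') (hz : Q z = 0) (ha : Q a = 0)
    (hb' : Q b' = 0) (ha' : Q a' = 0) (haz : polar Q a z = 0) (hb'z : polar Q b' z = 0)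
    (ha'z : polar Q a' z = 0) (hb''z : polar Q b'' z = 0) (hab' : polar Q a b' = 0)
    (ha'a : polar Q a' a = 0) (ha'b' : polar Q a' b' = 0) (ha'b'' : polar Q a' b'' = 0)
    (hb''b' : polar Q b'' b' = 1) (hb''a : polar Q b'' a = 0)
    (hDa' : ∀ c : F, eichG Q z (c • a') ∈ M → c ∈ F₀) (hzw : polar Q z w = 0)
    (hw : eichG Q z w ∈ M) : polar Q a w ∈ F₀ := by
  have hg1 : eichG Q a b' ∈ M := hyp.hR (E_mem_R0 har hb'r ha hab')
  have h1 := E_comm (a := a) (b' := b') (z := z) (w := w) ha hab' hz haz hb'z hzw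
  rw [hb', zero_smul, sub_zero] at h1
  have h2 : eichG Q z (polar Q b' w • a - polar Q a w • b') ∈ M := by
    rw [← h1]
    exact comm_mem M hg1 hw
  have hza : polar Q z a = 0 := by rw [polar_comm, haz]
  have hzb' : polar Q z b' = 0 := by rw [polar_comm, hb'z]
  have hg2 : eichG Q a' b'' ∈ M := hyp.hR (E_mem_R0 ha'r hb''r ha' ha'b'')
  have h3 := E_comm' (a := a') (b' := b'') (z := z) (w := polar Q b' w • a - polar Q a w • b')
    ha' ha'b'' hz ha'z hb''z
    (by rw [polar_sub_right, polar_smul_right, polar_smul_right, hza, hzb']; simp)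
    (by rw [polar_sub_right, polar_smul_right, polar_smul_right, ha'a, ha'b']; simp)
  rw [polar_sub_right, polar_smul_right, polar_smul_right, hb''a, hb''b', smul_zero, zero_sub,
    smul_eq_mul, mul_one] at h3
  have h4 : eichG Q z ((-polar Q a w) • a') ∈ M := by
    rw [← h3]
    exact comm_mem M hg2 h2
  have h5 := hDa' _ h4
  have h6 := F₀.neg_mem h5
  rwa [neg_neg] at h6

/-- a root element with rational centre in `M` has a rational vector modulo the centre: the
version for the first vector of a frame -/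
theorem pairing_fr (hyp : Hyp F₀ M) (hQ : (polarBilin Q).Nondegenerate) (hR : RatQ Q F₀)
    (fr : RFrame Q F₀ 4) {w : ι → F} (hzw : polar Q (fr.e 0) w = 0)
    (hw : eichG Q (fr.e 0) w ∈ M) :
    ∃ (w₀ : ι → F) (ν : F), RatV F₀ w₀ ∧ w = w₀ + ν • fr.e 0 := by
  have hf := fr.fr
  have qe := hf.qe
  have qf := hf.qf
  have ee : ∀ i j, polar Q (fr.e i) (fr.e j) = 0 := hf.ee
  have ff : ∀ i j, polar Q (fr.f i) (fr.f j) = 0 := hf.ff
  have ef : ∀ i j, i ≠ j → polar Q (fr.e i) (fr.f j) = 0 := fun i j hij => hf_ef_ne hf hij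
  have fe : ∀ i j, i ≠ j → polar Q (fr.f i) (fr.e j) = 0 := fun i j hij => hf_fe_ne hf hij
  have fe1 : ∀ i, polar Q (fr.f i) (fr.e i) = 1 := hf_fe_same hf
  have ef1 : ∀ i, polar Q (fr.e i) (fr.f i) = 1 := hf_ef_same hf
  have hDe : ∀ l : Fin 4, l ≠ 0 → ∀ c : F, eichG Q (fr.e 0) (c • fr.e l) ∈ M → c ∈ F₀ := by
    intro l hl c hc
    exact hyp.hD _ _ (fr.re 0) (fr.re l) (hf_e_ne_zero hf 0) (qe 0) (qe l) (ee 0 l)
      (e_not_smul fr (Ne.symm hl)) c hc
  -- the frame vectors
  have key : ∀ i j l : Fin 4, i ≠ 0 → j ≠ 0 → l ≠ 0 → i ≠ j → i ≠ l → j ≠ l →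
      polar Q (fr.e i) w ∈ F₀ ∧ polar Q (fr.f i) w ∈ F₀ := by
    intro i j l hi hj hl hij hil hjl
    constructor
    · exact pairing_core hyp (fr.re i) (fr.re j) (fr.re l) (fr.rf j) (qe 0) (qe i) (qe j) (qe l)
        (ee i 0) (ee j 0) (ee l 0) (fe j 0 hj) (ee i j) (ee l i) (ee l j) (ef l j (Ne.symm hjl))
        (fe1 j) (fe j i (Ne.symm hij)) (hDe l hl) hzw hw
    · exact pairing_core hyp (fr.rf i) (fr.re j) (fr.re l) (fr.rf j) (qe 0) (qf i) (qe j) (qe l)
        (fe i 0 hi) (ee j 0) (ee l 0) (fe j 0 hj) (fe i j hij) (ef l i (Ne.symm hil)) (ee l j)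
        (ef l j (Ne.symm hjl)) (fe1 j) (ff j i) (hDe l hl) hzw hw
  let S : Set (ι → F) := {a | polar Q a w ∈ F₀}
  have hSadd : ∀ u v, u ∈ S → v ∈ S → u + v ∈ S := by
    intro u v hu hv
    show polar Q (u + v) w ∈ F₀
    rw [polar_add_left]
    exact F₀.add_mem hu hv
  have hSsmul : ∀ c ∈ F₀, ∀ u ∈ S, c • u ∈ S := by
    intro c hc u hu
    show polar Q (c • u) w ∈ F₀
    rw [polar_smul_left]
    exact F₀.mul_mem hc hu
  have hSe : ∀ i, fr.e i ∈ S := by
    intro i
    fin_cases i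
    · show polar Q (fr.e 0) w ∈ F₀
      rw [hzw]
      exact F₀.zero_mem
    · exact (key 1 2 3 (by decide) (by decide) (by decide) (by decide) (by decide) (by decide)).1
    · exact (key 2 1 3 (by decide) (by decide) (by decide) (by decide) (by decide) (by decide)).1
    · exact (key 3 1 2 (by decide) (by decide) (by decide) (by decide) (by decide) (by decide)).1
  have hSf : ∀ i, i ≠ 0 → fr.f i ∈ S := by
    intro i hi
    fin_cases i
    · exact absurd rfl hi
    · exact (key 1 2 3 (by decide) (by decide) (by decide) (by decide) (by decide) (by decide)).2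
    · exact (key 2 1 3 (by decide) (by decide) (by decide) (by decide) (by decide) (by decide)).2
    · exact (key 3 1 2 (by decide) (by decide) (by decide) (by decide) (by decide) (by decide)).2
  have hSd : ∀ d : ι → F, RatV F₀ d → (∀ i, polar Q (fr.e i) d = 0) →
      (∀ i, polar Q (fr.f i) d = 0) → d + fr.e 1 - Q d • fr.f 1 ∈ S := by
    intro d hdr hde hdf
    have p0 := polar_e_dtype fr hde (j := 0) (by decide)
    have p2 := polar_e_dtype fr hde (j := 2) (by decide)
    have p3 := polar_e_dtype fr hde (j := 3) (by decide)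
    have p2' := polar_f_dtype fr hdf (j := 2) (by decide)
    exact pairing_core hyp (ratV_dtype fr hR hdr) (fr.re 2) (fr.re 3) (fr.rf 2) (qe 0)
      (Q_dtype fr hde hdf) (qe 2) (qe 3) (by rw [polar_comm, p0]) (ee 2 0) (ee 3 0)
      (fe 2 0 (by decide)) (by rw [polar_comm, p2]) p3 (ee 3 2) (ef 3 2 (by decide)) (fe1 2) p2'
      (hDe 3 (by decide)) hzw hw
  have hSall : ∀ a : ι → F, RatV F₀ a → polar Q (fr.e 0) a = 0 → polar Q a w ∈ F₀ :=
    fun a ha ha0 => span_perp hR fr S hSadd hSsmul hSe hSf hSd ha ha0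
  refine ⟨w - polar Q (fr.f 0) w • fr.e 0, polar Q (fr.f 0) w, ?_, by abel⟩
  apply ratV_of_polar hQ hR
  intro v hv
  have hv' : RatV F₀ (v - polar Q (fr.e 0) v • fr.f 0) :=
    ratV_sub hv (ratV_smul (polar_rat hR (fr.re 0) hv) (fr.rf 0))
  have h1 := hSall _ hv' (by
    rw [polar_sub_right, polar_smul_right, ef1 0, smul_eq_mul, mul_one, sub_self])
  have h2 : polar Q v (w - polar Q (fr.f 0) w • fr.e 0) =
      polar Q (v - polar Q (fr.e 0) v • fr.f 0) w := by
    rw [polar_sub_right, polar_sub_left, polar_smul_right, polar_smul_left, polar_comm Q v (fr.e 0)]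
    simp only [smul_eq_mul]
    ring
  rw [h2]
  exact h1

section fin
variable [Fintype F]

/-- a root element of `M` with rational centre has a rational vector modulo the centre -/
theorem pairing (hyp : Hyp F₀ M) (hQ : (polarBilin Q).Nondegenerate) (hR : RatQ Q F₀)
    (hcard : 9 ≤ Fintype.card ι) {z w : ι → F} (hzr : RatV F₀ z) (hz0 : z ≠ 0) (hz : Q z = 0)
    (hzw : polar Q z w = 0) (hw : eichG Q z w ∈ M) :
    ∃ (w₀ : ι → F) (ν : F), RatV F₀ w₀ ∧ w = w₀ + ν • z := by
  obtain ⟨fr, h0⟩ := exists_frame_adapt1 hQ hR 4 (by omega) (by omega) hzr hz0 hz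
  have e0 : fr.e 0 = z := h0
  have := pairing_fr hyp hQ hR fr (by rw [e0]; exact hzw) (by rw [e0]; exact hw)
  rwa [e0] at this

end fin

/-! ### the stabiliser of a rational singular point -/

/-- the key computation for the stabiliser of the first vector of a frame -/
theorem step1_core (hyp : Hyp F₀ M) (hQ : (polarBilin Q).Nondegenerate) (hR : RatQ Q F₀)
    (fr : RFrame Q F₀ 4) {k : ↥(Cfsg.isometryGroup F (⇑Q))} (hk : k ∈ M) {c : F} (hc0 : c ≠ 0)
    (hcc : c * c ∈ F₀) (hke : k • fr.e 0 = c • fr.e 0)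
    (hA1 : ∀ b : ι → F, RatV F₀ b → polar Q (fr.e 0) b = 0 →
      ∃ (b' : ι → F) (ν : F), RatV F₀ b' ∧ c • (k • b) = b' + ν • fr.e 0)
    {a b v' : ι → F} (har : RatV F₀ a) (hbr : RatV F₀ b) (hvr : RatV F₀ v')
    (ha0 : polar Q (fr.e 0) a = 0) (hb0 : polar Q (fr.e 0) b = 0) (hv0 : polar Q (fr.e 0) v' = 0)
    (ha : Q a = 0) (hb : Q b = 0) (hab : polar Q a b = 0) (hvb : polar Q v' b = 1)
    (hva : polar Q v' a = 0) : RatV F₀ (c • (k • a)) := by
  have qe0 := fr.fr.qe 0
  have hee := polar_self_of_singular Q qe0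
  -- the map `A`
  have hAQ : ∀ v : ι → F, Q (c • (k • v)) = c * c * Q v := by
    intro v
    rw [QuadraticMap.map_smul, Q_smul Q, smul_eq_mul]
  have hAB : ∀ u v : ι → F, polar Q (c • (k • u)) (c • (k • v)) = c * c * polar Q u v := by
    intro u v
    rw [polar_smul_left, polar_smul_right, polar_smul_smul Q, smul_eq_mul, smul_eq_mul, mul_assoc]
  have hAperp : ∀ v : ι → F, polar Q (fr.e 0) v = 0 → polar Q (fr.e 0) (c • (k • v)) = 0 := by
    intro v hv
    have h1 : polar Q (c • fr.e 0) (k • v) = 0 := by rw [← hke, polar_smul_smul Q, hv]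
    rw [polar_smul_left, smul_eq_mul] at h1
    rw [polar_smul_right, (mul_eq_zero.mp h1).resolve_left hc0, smul_zero]
  obtain ⟨a', ν, ha'r, hAa⟩ := hA1 a har ha0
  obtain ⟨b', νb, hb'r, hAb⟩ := hA1 b hbr hb0
  obtain ⟨v'', νv, hv''r, hAv⟩ := hA1 v' hvr hv0
  -- orthogonality to the first frame vector
  have ha'0 : polar Q (fr.e 0) a' = 0 := by
    have h1 := hAperp a ha0
    rw [hAa, polar_add_right, polar_smul_right, hee, smul_zero, add_zero] at h1
    exact h1
  have hb'0 : polar Q (fr.e 0) b' = 0 := by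
    have h1 := hAperp b hb0
    rw [hAb, polar_add_right, polar_smul_right, hee, smul_zero, add_zero] at h1
    exact h1
  have hv''0 : polar Q (fr.e 0) v'' = 0 := by
    have h1 := hAperp v' hv0
    rw [hAv, polar_add_right, polar_smul_right, hee, smul_zero, add_zero] at h1
    exact h1
  have ha'0' : polar Q a' (fr.e 0) = 0 := by rw [polar_comm, ha'0]
  have hb'0' : polar Q b' (fr.e 0) = 0 := by rw [polar_comm, hb'0]
  have hv''0' : polar Q v'' (fr.e 0) = 0 := by rw [polar_comm, hv''0]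
  -- norms and products
  have hQa' : Q a' = 0 := by
    have h1 := hAQ a
    rw [hAa, Q_lin2, qe0, ha'0', ha] at h1
    linear_combination h1
  have hQb' : Q b' = 0 := by
    have h1 := hAQ b
    rw [hAb, Q_lin2, qe0, hb'0', hb] at h1
    linear_combination h1
  have ha'b' : polar Q a' b' = 0 := by
    have h1 := hAB a b
    rw [hAa, hAb, hab] at h1
    simp only [polar_add_left, polar_add_right, polar_smul_left, polar_smul_right, ha'0', hb'0,
      hee, smul_eq_mul] at h1
    linear_combination h1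
  have hv''b' : polar Q v'' b' = c * c := by
    have h1 := hAB v' b
    rw [hAv, hAb, hvb] at h1
    simp only [polar_add_left, polar_add_right, polar_smul_left, polar_smul_right, hv''0', hb'0,
      hee, smul_eq_mul] at h1
    linear_combination h1
  have hv''a' : polar Q v'' a' = 0 := by
    have h1 := hAB v' a
    rw [hAv, hAa, hva] at h1
    simp only [polar_add_left, polar_add_right, polar_smul_left, polar_smul_right, hv''0', ha'0,
      hee, smul_eq_mul] at h1
    linear_combination h1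
  -- the conjugate of the rational long root element
  have hE : eichG Q a b ∈ M := hyp.hR (E_mem_R0 har hbr ha hab)
  have h1 : k * eichG Q a b * k⁻¹ ∈ M := comm_mem' M hk hE
  rw [eichG_conj k ha hab] at h1
  have hka : k • a = c⁻¹ • (a' + ν • fr.e 0) := by
    rw [← hAa, smul_smul, inv_mul_cancel₀ hc0, one_smul]
  have hkb : k • b = c⁻¹ • (b' + νb • fr.e 0) := by
    rw [← hAb, smul_smul, inv_mul_cancel₀ hc0, one_smul]
  have hQ1 : Q (a' + ν • fr.e 0) = 0 := by
    rw [Q_lin2, hQa', qe0, ha'0']; ring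
  have hP1 : polar Q (a' + ν • fr.e 0) (b' + νb • fr.e 0) = 0 := by
    simp only [polar_add_left, polar_add_right, polar_smul_left, polar_smul_right, ha'b', ha'0',
      hb'0, hee, smul_eq_mul]
    ring
  rw [hka, hkb, eichG_smul_left hQ1 (by rw [polar_smul_right, hP1, smul_zero]), smul_smul,
    E_ts hQa' hQb' qe0 ha'b' ha'0' hb'0' ν νb (c⁻¹ * c⁻¹)] at h1
  have hcci : c⁻¹ * c⁻¹ ∈ F₀ := by
    rw [← mul_inv]
    exact F₀.inv_mem hcc
  have hE2 : eichG Q a' ((c⁻¹ * c⁻¹) • b') ∈ M :=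
    hyp.hR (E_mem_R0 ha'r (ratV_smul hcci hb'r) hQa' (by rw [polar_smul_right, ha'b', smul_zero]))
  have h2 : eichG Q (fr.e 0) ((c⁻¹ * c⁻¹) • (ν • b' - νb • a')) ∈ M := by
    have := M.mul_mem (M.inv_mem hE2) h1
    rwa [inv_mul_cancel_left] at this
  have hperp : polar Q (fr.e 0) ((c⁻¹ * c⁻¹) • (ν • b' - νb • a')) = 0 := by
    rw [polar_smul_right, polar_sub_right, polar_smul_right, polar_smul_right, hb'0, ha'0]
    simp
  obtain ⟨y₀, η, hy₀r, hy⟩ := pairing_fr hyp hQ hR fr hperp h2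
  have h3 : polar Q v'' ((c⁻¹ * c⁻¹) • (ν • b' - νb • a')) = ν := by
    rw [polar_smul_right, polar_sub_right, polar_smul_right, polar_smul_right, hv''b', hv''a']
    simp only [smul_eq_mul, mul_zero, sub_zero]
    field_simp
  have h4 : ν ∈ F₀ := by
    rw [← h3, hy, polar_add_right, polar_smul_right, hv''0', smul_zero, add_zero]
    exact polar_rat hR hv''r hy₀r
  rw [hAa]
  exact ratV_add ha'r (ratV_smul h4 (fr.re 0))

/-- an element of `M` fixing the first point of a frame maps the rational vectors orthogonal to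
it to rational vectors, after rescaling -/
theorem step1_perp (hyp : Hyp F₀ M) (hQ : (polarBilin Q).Nondegenerate) (hR : RatQ Q F₀)
    (fr : RFrame Q F₀ 4) {k : ↥(Cfsg.isometryGroup F (⇑Q))} (hk : k ∈ M) {c : F}
    (hke : k • fr.e 0 = c • fr.e 0) :
    c * c ∈ F₀ ∧ ∀ a : ι → F, RatV F₀ a → polar Q (fr.e 0) a = 0 → RatV F₀ (c • (k • a)) := by
  have hf := fr.fr
  have qe := hf.qe
  have qf := hf.qf
  have ee : ∀ i j, polar Q (fr.e i) (fr.e j) = 0 := hf.ee
  have ff : ∀ i j, polar Q (fr.f i) (fr.f j) = 0 := hf.ff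
  have ef : ∀ i j, i ≠ j → polar Q (fr.e i) (fr.f j) = 0 := fun i j hij => hf_ef_ne hf hij
  have fe : ∀ i j, i ≠ j → polar Q (fr.f i) (fr.e j) = 0 := fun i j hij => hf_fe_ne hf hij
  have fe1 : ∀ i, polar Q (fr.f i) (fr.e i) = 1 := hf_fe_same hf
  have ef1 : ∀ i, polar Q (fr.e i) (fr.f i) = 1 := hf_ef_same hf
  have hee := polar_self_of_singular Q (qe 0)
  have hc0 : c ≠ 0 := by
    intro h
    have h1 := smul_ne_zero_g k (hf_e_ne_zero hf 0)
    rw [hke, h, zero_smul] at h1
    exact h1 rfl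
  have hAperp : ∀ v : ι → F, polar Q (fr.e 0) v = 0 → polar Q (fr.e 0) (c • (k • v)) = 0 := by
    intro v hv
    have h1 : polar Q (c • fr.e 0) (k • v) = 0 := by rw [← hke, polar_smul_smul Q, hv]
    rw [polar_smul_left, smul_eq_mul] at h1
    rw [polar_smul_right, (mul_eq_zero.mp h1).resolve_left hc0, smul_zero]
  -- the images of the vectors orthogonal to the first frame vector
  have hA1 : ∀ b : ι → F, RatV F₀ b → polar Q (fr.e 0) b = 0 →
      ∃ (b' : ι → F) (ν : F), RatV F₀ b' ∧ c • (k • b) = b' + ν • fr.e 0 := by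
    intro b hbr hb0
    have hE : eichG Q (fr.e 0) b ∈ M := hyp.hR (E_mem_R0 (fr.re 0) hbr (qe 0) hb0)
    have h1 : k * eichG Q (fr.e 0) b * k⁻¹ ∈ M := comm_mem' M hk hE
    have hkb : polar Q (fr.e 0) (k • b) = 0 := by
      have h2 := hAperp b hb0
      rw [polar_smul_right, smul_eq_mul] at h2
      exact (mul_eq_zero.mp h2).resolve_left hc0
    rw [eichG_conj k (qe 0) hb0, hke, eichG_smul_left (qe 0) hkb] at h1
    exact pairing_fr hyp hQ hR fr (hAperp b hb0) h1
  -- the multiplier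
  have hcc : c * c ∈ F₀ := by
    have hb0 : polar Q (fr.e 0) (fr.e 1 + fr.f 1) = 0 := by
      rw [polar_add_right, ee 0 1, ef 0 1 (by decide), add_zero]
    obtain ⟨b', ν, hb'r, hAb⟩ := hA1 (fr.e 1 + fr.f 1) (ratV_add (fr.re 1) (fr.rf 1)) hb0
    have hb'0 : polar Q b' (fr.e 0) = 0 := by
      have h1 := hAperp _ hb0
      rw [hAb, polar_add_right, polar_smul_right, hee, smul_zero, add_zero] at h1
      rw [polar_comm, h1]
    have h1 : Q (c • (k • (fr.e 1 + fr.f 1))) = c * c := by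
      rw [QuadraticMap.map_smul, Q_smul Q, Q_add' Q, qe 1, qf 1, ef1 1, smul_eq_mul]
      ring
    rw [hAb, Q_lin2, qe 0, hb'0] at h1
    have h2 : c * c = Q b' := by linear_combination -h1
    rw [h2]
    exact hR _ hb'r
  refine ⟨hcc, ?_⟩
  -- the set of good vectors
  let S : Set (ι → F) := {a | RatV F₀ (c • (k • a))}
  have hSadd : ∀ u v, u ∈ S → v ∈ S → u + v ∈ S := by
    intro u v hu hv
    show RatV F₀ (c • (k • (u + v)))
    rw [smul_add_g, smul_add]
    exact ratV_add hu hv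
  have hSsmul : ∀ s ∈ F₀, ∀ u ∈ S, s • u ∈ S := by
    intro s hs u hu
    show RatV F₀ (c • (k • (s • u)))
    rw [smul_smul_comm, smul_comm c s]
    exact ratV_smul hs hu
  have core := fun {a b v' : ι → F} => step1_core hyp hQ hR fr hk hc0 hcc hke hA1 (a := a) (b := b)
    (v' := v')
  have hSe : ∀ i, fr.e i ∈ S := by
    intro i
    fin_cases i
    · show RatV F₀ (c • (k • fr.e 0))
      rw [hke, smul_smul]
      exact ratV_smul hcc (fr.re 0)
    · exact core (fr.re 1) (fr.re 2) (fr.rf 2) (ee 0 1) (ee 0 2) (ef 0 2 (by decide)) (qe 1) (qe 2)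
        (ee 1 2) (fe1 2) (fe 2 1 (by decide))
    · exact core (fr.re 2) (fr.re 1) (fr.rf 1) (ee 0 2) (ee 0 1) (ef 0 1 (by decide)) (qe 2) (qe 1)
        (ee 2 1) (fe1 1) (fe 1 2 (by decide))
    · exact core (fr.re 3) (fr.re 1) (fr.rf 1) (ee 0 3) (ee 0 1) (ef 0 1 (by decide)) (qe 3) (qe 1)
        (ee 3 1) (fe1 1) (fe 1 3 (by decide))
  have hSf : ∀ i, i ≠ 0 → fr.f i ∈ S := by
    intro i hi
    fin_cases i
    · exact absurd rfl hi
    · exact core (fr.rf 1) (fr.re 2) (fr.rf 2) (ef 0 1 (by decide)) (ee 0 2) (ef 0 2 (by decide))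
        (qf 1) (qe 2) (fe 1 2 (by decide)) (fe1 2) (ff 2 1)
    · exact core (fr.rf 2) (fr.re 1) (fr.rf 1) (ef 0 2 (by decide)) (ee 0 1) (ef 0 1 (by decide))
        (qf 2) (qe 1) (fe 2 1 (by decide)) (fe1 1) (ff 1 2)
    · exact core (fr.rf 3) (fr.re 1) (fr.rf 1) (ef 0 3 (by decide)) (ee 0 1) (ef 0 1 (by decide))
        (qf 3) (qe 1) (fe 3 1 (by decide)) (fe1 1) (ff 1 3)
  have hSd : ∀ d : ι → F, RatV F₀ d → (∀ i, polar Q (fr.e i) d = 0) →
      (∀ i, polar Q (fr.f i) d = 0) → d + fr.e 1 - Q d • fr.f 1 ∈ S := by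
    intro d hdr hde hdf
    have p0 := polar_e_dtype fr hde (j := 0) (by decide)
    have p2 := polar_e_dtype fr hde (j := 2) (by decide)
    have p2' := polar_f_dtype fr hdf (j := 2) (by decide)
    exact core (ratV_dtype fr hR hdr) (fr.re 2) (fr.rf 2) p0 (ee 0 2) (ef 0 2 (by decide))
      (Q_dtype fr hde hdf) (qe 2) (by rw [polar_comm, p2]) (fe1 2) p2'
  exact fun a ha ha0 => span_perp hR fr S hSadd hSsmul hSe hSf hSd ha ha0

/-- an element of `M` fixing the first point of a frame normalises the rational structure -/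
theorem step1_fr (hyp : Hyp F₀ M) (hQ : (polarBilin Q).Nondegenerate) (hR : RatQ Q F₀)
    (fr : RFrame Q F₀ 4) {k : ↥(Cfsg.isometryGroup F (⇑Q))} (hk : k ∈ M) {c : F}
    (hke : k • fr.e 0 = c • fr.e 0) : ∀ v : ι → F, RatV F₀ v → RatV F₀ (c • (k • v)) := by
  have hf := fr.fr
  have qe := hf.qe
  have qf := hf.qf
  have ef1 : ∀ i, polar Q (fr.e i) (fr.f i) = 1 := hf_ef_same hf
  have fe1 : ∀ i, polar Q (fr.f i) (fr.e i) = 1 := hf_fe_same hf
  have hee := polar_self_of_singular Q (qe 0)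
  have hc0 : c ≠ 0 := by
    intro h
    have h1 := smul_ne_zero_g k (hf_e_ne_zero hf 0)
    rw [hke, h, zero_smul] at h1
    exact h1 rfl
  obtain ⟨hcc, hperp⟩ := step1_perp hyp hQ hR fr hk hke
  have hke' : k⁻¹ • fr.e 0 = c⁻¹ • fr.e 0 := by
    rw [inv_smul_eq_iff, smul_smul_comm, hke, smul_smul, inv_mul_cancel₀ hc0, one_smul]
  obtain ⟨-, hperp'⟩ := step1_perp hyp hQ hR fr (M.inv_mem hk) hke'
  have hAB : ∀ u v : ι → F, polar Q (c • (k • u)) (c • (k • v)) = c * c * polar Q u v := by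
    intro u v
    rw [polar_smul_left, polar_smul_right, polar_smul_smul Q, smul_eq_mul, smul_eq_mul, mul_assoc]
  -- the image of the partner of the first frame vector
  obtain ⟨u, hu⟩ : ∃ u, u = c • (k • fr.f 0) := ⟨_, rfl⟩
  have hub : ∀ b : ι → F, RatV F₀ b → polar Q (fr.e 0) b = 0 → polar Q b u ∈ F₀ := by
    intro b hbr hb0
    have hb' : RatV F₀ (c⁻¹ • (k⁻¹ • b)) := hperp' b hbr hb0
    have h1 : b = c • (k • (c⁻¹ • (k⁻¹ • b))) := by
      rw [smul_smul_comm, smul_inv_smul, smul_smul, mul_inv_cancel₀ hc0, one_smul]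
    rw [h1, hu, hAB]
    exact F₀.mul_mem hcc (polar_rat hR hb' (fr.rf 0))
  have hu0 : polar Q u (fr.e 0) = 1 := by
    have h1 := hAB (fr.f 0) (fr.e 0)
    rw [← hu, hke, smul_smul, polar_smul_right, fe1 0, smul_eq_mul, mul_one] at h1
    have hcc0 : c * c ≠ 0 := mul_ne_zero hc0 hc0
    exact mul_left_cancel₀ hcc0 (by rw [h1, mul_one])
  have hu'r : RatV F₀ (u - polar Q (fr.f 0) u • fr.e 0) := by
    apply ratV_of_polar hQ hR
    intro v hv
    have hv' : RatV F₀ (v - polar Q (fr.e 0) v • fr.f 0) :=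
      ratV_sub hv (ratV_smul (polar_rat hR (fr.re 0) hv) (fr.rf 0))
    have h1 := hub _ hv' (by
      rw [polar_sub_right, polar_smul_right, ef1 0, smul_eq_mul, mul_one, sub_self])
    have h2 : polar Q v (u - polar Q (fr.f 0) u • fr.e 0) =
        polar Q (v - polar Q (fr.e 0) v • fr.f 0) u := by
      rw [polar_sub_right, polar_sub_left, polar_smul_right, polar_smul_left,
        polar_comm Q v (fr.e 0)]
      simp only [smul_eq_mul]
      ring
    rw [h2]
    exact h1
  have hQu : Q u = 0 := by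
    rw [hu, QuadraticMap.map_smul, Q_smul Q, qf 0, smul_zero]
  have hη : polar Q (fr.f 0) u ∈ F₀ := by
    have h1 : u = (u - polar Q (fr.f 0) u • fr.e 0) + polar Q (fr.f 0) u • fr.e 0 := by abel
    have h2 : polar Q (u - polar Q (fr.f 0) u • fr.e 0) (fr.e 0) = 1 := by
      rw [polar_sub_left, polar_smul_left, hee, smul_zero, sub_zero, hu0]
    have h3 := hQu
    rw [h1, Q_lin2, qe 0, h2] at h3
    have h4 : polar Q (fr.f 0) u = -Q (u - polar Q (fr.f 0) u • fr.e 0) := by
      linear_combination h3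
    rw [h4]
    exact F₀.neg_mem (hR _ hu'r)
  have hur : RatV F₀ u := by
    have h1 : u = (u - polar Q (fr.f 0) u • fr.e 0) + polar Q (fr.f 0) u • fr.e 0 := by abel
    rw [h1]
    exact ratV_add hu'r (ratV_smul hη (fr.re 0))
  intro v hv
  have hv' : RatV F₀ (v - polar Q (fr.e 0) v • fr.f 0) :=
    ratV_sub hv (ratV_smul (polar_rat hR (fr.re 0) hv) (fr.rf 0))
  have h1 := hperp _ hv' (by
    rw [polar_sub_right, polar_smul_right, ef1 0, smul_eq_mul, mul_one, sub_self])
  have h2 : c • (k • v) = c • (k • (v - polar Q (fr.e 0) v • fr.f 0)) +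
      polar Q (fr.e 0) v • u := by
    rw [hu, smul_sub_g, smul_smul_comm k (polar Q (fr.e 0) v), smul_sub,
      smul_comm c (polar Q (fr.e 0) v)]
    abel
  rw [h2]
  exact ratV_add h1 (ratV_smul (polar_rat hR (fr.re 0) hv) hur)

section fin
variable [Fintype F]

/-- an element of `M` fixing a rational singular point normalises the rational structure -/
theorem step1 (hyp : Hyp F₀ M) (hQ : (polarBilin Q).Nondegenerate) (hR : RatQ Q F₀)
    (hcard : 9 ≤ Fintype.card ι) {k : ↥(Cfsg.isometryGroup F (⇑Q))} (hk : k ∈ M) {z : ι → F}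
    (hzr : RatV F₀ z) (hz0 : z ≠ 0) (hz : Q z = 0) {c : F} (hkz : k • z = c • z) :
    ∀ v : ι → F, RatV F₀ v → RatV F₀ (c • (k • v)) := by
  obtain ⟨fr, h0⟩ := exists_frame_adapt1 hQ hR 4 (by omega) (by omega) hzr hz0 hz
  have e0 : fr.e 0 = z := h0
  exact step1_fr hyp hQ hR fr hk (by rw [e0]; exact hkz)

/-- an element of `M` mapping a rational singular point to a rational singular point normalises
the rational structure -/
theorem maps_rat (hyp : Hyp F₀ M) (hQ : (polarBilin Q).Nondegenerate) (hR : RatQ Q F₀)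
    (hcard : 9 ≤ Fintype.card ι) {k : ↥(Cfsg.isometryGroup F (⇑Q))} (hk : k ∈ M) {z z₂ : ι → F}
    (hzr : RatV F₀ z) (hz0 : z ≠ 0) (hz : Q z = 0) (hz₂r : RatV F₀ z₂) (hz₂0 : z₂ ≠ 0) {t : F}
    (hkz : k • z = t • z₂) : InN F₀ k := by
  have ht0 : t ≠ 0 := by
    intro h
    have h1 := smul_ne_zero_g k hz0
    rw [hkz, h, zero_smul] at h1
    exact h1 rfl
  have hz₂ : Q z₂ = 0 := by
    have h1 : Q (k • z) = 0 := by rw [Q_smul Q, hz]
    rw [hkz, QuadraticMap.map_smul, smul_eq_mul] at h1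
    exact (mul_eq_zero.mp h1).resolve_left (mul_ne_zero ht0 ht0)
  obtain ⟨h, hh, hhz⟩ := trans_sing hQ hR (by omega) hz₂r hz₂0 hz₂ hzr hz0 hz
  have hhM : h ∈ M := hyp.hR hh
  have h1 : (h * k) • z = t • z := by
    rw [mul_smul, hkz, smul_smul_comm, hhz]
  have h2 := step1 hyp hQ hR hcard (M.mul_mem hhM hk) hzr hz0 hz h1
  refine ⟨t, ht0, fun v hv => ?_⟩
  have h3 := R0_rat_inv hR hh (h2 v hv)
  rwa [smul_smul_comm, mul_smul, inv_smul_smul] at h3

end fin

end partB

end Cfsg.Agent.H28OrSub
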