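import Mathlib

/-!
# Subfield subgroups of `SL_n` (helper28), part C: a counting lemma of Frobenius type
-/

set_option autoImplicit false

namespace Cfsg.Agent.Helper28.Subf

open Finset

/-- A counting lemma: a finite group `Γ` with a central subgroup `Z` and a subgroup `H ≥ Z` such that
`Γ / Z` is a Frobenius group with complement `H / Z`, with `|H : Z| ≥ 4`, cannot have the
centraliser properties `he1`, `he2` of subgroups of `GL₂`. -/
theorem frob_count {Γ : Type*} [Group Γ] [Finite Γ] (H Z : Subgroup Γ) (hZH : Z ≤ H)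
    (hZc : ∀ z ∈ Z, ∀ g : Γ, g * z = z * g)
    (ha : ∀ X ∈ H, ∀ Y : Γ, Y ∉ H → Y⁻¹ * X * Y ∈ H → X ∈ Z)
    {ι : Type*} [Fintype ι] (f : ι → Γ) (hι : 4 ≤ Fintype.card ι) (hfH : ∀ i, f i ∈ H)
    (hfinj : ∀ i j, (f i)⁻¹ * f j ∈ Z → i = j)
    (hd : ∃ Y : Γ, Y ∉ H)
    (he1 : ∀ c : Γ, c ∉ Z → ∀ x y : Γ, x * c = c * x → y * c = c * y → x * y = y * x)
    (he2 : ∀ c : Γ, c ∉ Z → (∀ g : Γ, g⁻¹ * c * g ∉ H) → ∀ w₁ w₂ : Γ,
      (w₁⁻¹ * c * w₁) * c = c * (w₁⁻¹ * c * w₁) → (w₂⁻¹ * c * w₂) * c = c * (w₂⁻¹ * c * w₂) →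
      w₁⁻¹ * c * w₁ ≠ c → w₂⁻¹ * c * w₂ ≠ c → w₁⁻¹ * c * w₁ = w₂⁻¹ * c * w₂) : False := by
  classical
  haveI : Fintype Γ := Fintype.ofFinite Γ
  have hZconj : ∀ z ∈ Z, ∀ g : Γ, g⁻¹ * z * g = z := by
    intro z hz g
    rw [mul_assoc, ← hZc z hz g, ← mul_assoc, inv_mul_cancel, one_mul]
  have hZn : ∀ x g : Γ, g⁻¹ * x * g ∈ Z → x ∈ Z := by
    intro x g h
    have h1 := hZconj _ h g⁻¹
    have h2 : g⁻¹⁻¹ * (g⁻¹ * x * g) * g⁻¹ = x := by group
    rw [h2] at h1
    rw [h1]; exact h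
  have hZn2 : ∀ x g : Γ, x ∈ Z → g⁻¹ * x * g ∈ Z := by
    intro x g h
    rw [hZconj x h g]; exact h
  set Φ : Γ × Γ → Γ := fun p => p.1 * p.2 * p.1⁻¹ with hΦ
  set Zs : Finset Γ := univ.filter (fun x => x ∈ Z) with hZs
  set Hs : Finset Γ := univ.filter (fun x => x ∈ H) with hHs
  set A : Finset Γ := univ.filter (fun x => x ∈ H ∧ x ∉ Z) with hA
  set U : Finset Γ := univ.filter (fun x => x ∉ Z ∧ ∃ g : Γ, g⁻¹ * x * g ∈ H) with hU
  set K : Finset Γ := univ.filter (fun x => x ∉ Z ∧ ∀ g : Γ, g⁻¹ * x * g ∉ H) with hK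
  have memZs : ∀ x, x ∈ Zs ↔ x ∈ Z := fun x => by
    rw [hZs, Finset.mem_filter]; exact ⟨fun h => h.2, fun h => ⟨Finset.mem_univ _, h⟩⟩
  have memHs : ∀ x, x ∈ Hs ↔ x ∈ H := fun x => by
    rw [hHs, Finset.mem_filter]; exact ⟨fun h => h.2, fun h => ⟨Finset.mem_univ _, h⟩⟩
  have memA : ∀ x, x ∈ A ↔ x ∈ H ∧ x ∉ Z := fun x => by
    rw [hA, Finset.mem_filter]; exact ⟨fun h => h.2, fun h => ⟨Finset.mem_univ _, h⟩⟩
  have memU : ∀ x, x ∈ U ↔ x ∉ Z ∧ ∃ g : Γ, g⁻¹ * x * g ∈ H := fun x => by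
    rw [hU, Finset.mem_filter]; exact ⟨fun h => h.2, fun h => ⟨Finset.mem_univ _, h⟩⟩
  have memK : ∀ x, x ∈ K ↔ x ∉ Z ∧ ∀ g : Γ, g⁻¹ * x * g ∉ H := fun x => by
    rw [hK, Finset.mem_filter]; exact ⟨fun h => h.2, fun h => ⟨Finset.mem_univ _, h⟩⟩
  have hz1 : 1 ≤ Zs.card := Finset.card_pos.mpr ⟨1, (memZs 1).mpr Z.one_mem⟩
  have hcardAZ : A.card + Zs.card = Hs.card := by
    have h1 : A = Hs.filter (fun x => ¬ x ∈ Z) := by
      ext x
      constructor
      · intro h
        exact Finset.mem_filter.mpr ⟨(memHs x).mpr ((memA x).mp h).1, ((memA x).mp h).2⟩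
      · intro h
        have h' := Finset.mem_filter.mp h
        exact (memA x).mpr ⟨(memHs x).mp h'.1, h'.2⟩
    have h2 : Zs = Hs.filter (fun x => x ∈ Z) := by
      ext x
      constructor
      · intro h
        exact Finset.mem_filter.mpr ⟨(memHs x).mpr (hZH ((memZs x).mp h)), (memZs x).mp h⟩
      · intro h
        exact (memZs x).mpr (Finset.mem_filter.mp h).2
    rw [h1, h2, add_comm]
    exact Finset.card_filter_add_card_filter_not _
  have hpart : Zs.card + U.card + K.card = Fintype.card Γ := by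
    have h1 := Finset.card_filter_add_card_filter_not (s := (univ : Finset Γ))
      (fun x => x ∈ Z)
    have h2 := Finset.card_filter_add_card_filter_not
      (s := univ.filter (fun x : Γ => ¬ x ∈ Z)) (fun x => ∃ g : Γ, g⁻¹ * x * g ∈ H)
    have h3 : (univ.filter (fun x : Γ => ¬ x ∈ Z)).filter
        (fun x => ∃ g : Γ, g⁻¹ * x * g ∈ H) = U := by
      ext x; rw [Finset.mem_filter, Finset.mem_filter, memU]
      exact ⟨fun h => ⟨h.1.2, h.2⟩, fun h => ⟨⟨Finset.mem_univ _, h.1⟩, h.2⟩⟩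
    have h4 : (univ.filter (fun x : Γ => ¬ x ∈ Z)).filter
        (fun x => ¬ ∃ g : Γ, g⁻¹ * x * g ∈ H) = K := by
      ext x; rw [Finset.mem_filter, Finset.mem_filter, memK]
      constructor
      · intro h
        exact ⟨h.1.2, fun g hg => h.2 ⟨g, hg⟩⟩
      · intro h
        exact ⟨⟨Finset.mem_univ _, h.1⟩, fun ⟨g, hg⟩ => h.2 g hg⟩
    rw [h3, h4] at h2
    rw [Finset.card_univ] at h1
    have h5 : (univ.filter (fun x : Γ => x ∈ Z)).card = Zs.card := rfl
    omega
  -- first count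
  set D₁ : Finset (Γ × Γ) := (univ : Finset Γ) ×ˢ A with hD₁
  have himg1 : D₁.image Φ = U := by
    ext x
    rw [Finset.mem_image, memU]
    constructor
    · rintro ⟨⟨g, h⟩, hp, rfl⟩
      rw [hD₁, Finset.mem_product, memA] at hp
      obtain ⟨-, hh, hhZ⟩ := hp
      have e : g⁻¹ * Φ (g, h) * g = h := by simp only [hΦ]; group
      refine ⟨fun hx => hhZ ?_, g, ?_⟩
      · rw [← e]; exact hZn2 _ g hx
      · rw [e]; exact hh
    · rintro ⟨hxZ, g, hg⟩
      refine ⟨(g, g⁻¹ * x * g), ?_, ?_⟩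
      · rw [hD₁, Finset.mem_product, memA]
        exact ⟨Finset.mem_univ _, hg, fun h => hxZ (hZn x g h)⟩
      · simp only [hΦ]; group
  have hfib1 : ∀ b ∈ D₁.image Φ, (D₁.filter (fun p => Φ p = b)).card = Hs.card := by
    intro b hb
    rw [Finset.mem_image] at hb
    obtain ⟨⟨g₁, h₁⟩, hp, hb⟩ := hb
    rw [hD₁, Finset.mem_product, memA] at hp
    obtain ⟨-, hh₁, hh₁Z⟩ := hp
    symm
    apply Finset.card_bij (fun η _ => (g₁ * η, η⁻¹ * h₁ * η))
    · intro η hη
      rw [memHs] at hη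
      rw [Finset.mem_filter, hD₁, Finset.mem_product, memA]
      refine ⟨⟨Finset.mem_univ _, H.mul_mem (H.mul_mem (H.inv_mem hη) hh₁) hη,
        fun h => hh₁Z (hZn _ _ h)⟩, ?_⟩
      rw [← hb]; simp only [hΦ]; group
    · intro η₁ _ η₂ _ h
      exact mul_left_cancel (Prod.ext_iff.mp h).1
    · rintro ⟨g, h⟩ hp
      rw [Finset.mem_filter, hD₁, Finset.mem_product, memA] at hp
      obtain ⟨⟨-, hh, hhZ⟩, hΦb⟩ := hp
      have h5 : g * h * g⁻¹ = g₁ * h₁ * g₁⁻¹ := hΦb.trans hb.symm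
      have key : (g₁⁻¹ * g)⁻¹ * h₁ * (g₁⁻¹ * g) = h := by
        have h6 : h₁ = g₁⁻¹ * (g * h * g⁻¹) * g₁ := by rw [h5]; group
        rw [h6]; group
      have hη : g₁⁻¹ * g ∈ H := by
        by_contra hη
        apply hh₁Z
        apply ha h₁ hh₁ (g₁⁻¹ * g) hη
        rw [key]; exact hh
      refine ⟨g₁⁻¹ * g, (memHs _).mpr hη, ?_⟩
      apply Prod.ext
      · show g₁ * (g₁⁻¹ * g) = g
        group
      · exact key
  have hcount1 : Fintype.card Γ * A.card = U.card * Hs.card := by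
    have h1 := Finset.card_eq_sum_card_image Φ D₁
    rw [Finset.sum_const_nat hfib1, himg1, hD₁, Finset.card_product, Finset.card_univ] at h1
    exact h1
  have hb4 : 4 * Zs.card ≤ Hs.card := by
    have h1 : ((univ : Finset ι) ×ˢ Zs).card ≤ Hs.card := by
      apply Finset.card_le_card_of_injOn (fun p => f p.1 * p.2)
      · rintro ⟨i, z⟩ hp
        rw [Finset.mem_coe, Finset.mem_product, memZs] at hp
        rw [Finset.mem_coe, memHs]
        exact H.mul_mem (hfH i) (hZH hp.2)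
      · rintro ⟨i, z⟩ hp ⟨j, z'⟩ hp' h
        rw [Finset.mem_coe, Finset.mem_product, memZs] at hp hp'
        have h' : f i * z = f j * z' := h
        have hij : i = j := by
          apply hfinj
          have h7 : (f i)⁻¹ * f j = z * z'⁻¹ := by
            have h8 : f j = f i * z * z'⁻¹ := by rw [h']; group
            rw [h8]; group
          rw [h7]; exact Z.mul_mem hp.2 (Z.inv_mem hp'.2)
        subst hij
        rw [mul_left_cancel h']
    rw [Finset.card_product, Finset.card_univ] at h1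
    calc 4 * Zs.card ≤ Fintype.card ι * Zs.card := Nat.mul_le_mul_right _ hι
      _ ≤ Hs.card := h1
  have hHlt : Hs.card < Fintype.card Γ := by
    obtain ⟨Y, hY⟩ := hd
    rw [← Finset.card_univ]
    apply Finset.card_lt_card
    rw [Finset.ssubset_iff_of_subset (Finset.subset_univ _)]
    exact ⟨Y, Finset.mem_univ _, fun h => hY ((memHs _).mp h)⟩
  have harith : Hs.card * K.card + Hs.card * Zs.card = Zs.card * Fintype.card Γ := by
    have e1 : Hs.card * Zs.card + U.card * Hs.card + Hs.card * K.card =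
        Hs.card * Fintype.card Γ := by rw [← hpart]; ring
    have e2 : Fintype.card Γ * A.card + Fintype.card Γ * Zs.card =
        Fintype.card Γ * Hs.card := by rw [← hcardAZ]; ring
    nlinarith [e1, e2, hcount1]
  have hκpos : 0 < K.card := by
    rcases Nat.eq_zero_or_pos K.card with h0 | h0
    · exfalso
      rw [h0, mul_zero, zero_add, mul_comm] at harith
      have := Nat.eq_of_mul_eq_mul_left (by omega : 0 < Zs.card) harith
      omega
    · exact h0
  have hκlt : 4 * K.card + 4 * Zs.card ≤ Fintype.card Γ := by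
    have h1 : Zs.card * (4 * K.card + 4 * Zs.card) ≤ Zs.card * Fintype.card Γ := by
      have h2 := Nat.mul_le_mul_right K.card hb4
      have h3 := Nat.mul_le_mul_right Zs.card hb4
      nlinarith [h2, h3, harith]
    exact Nat.le_of_mul_le_mul_left h1 (by omega)
  obtain ⟨x₀, hx₀⟩ := Finset.card_pos.mp hκpos
  rw [memK] at hx₀
  obtain ⟨hx₀Z, hx₀H⟩ := hx₀
  set Cs : Finset Γ := univ.filter (fun c => c * x₀ = x₀ * c) with hCs
  set B : Finset Γ := univ.filter (fun c => c * x₀ = x₀ * c ∧ c ∉ Z) with hB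
  have memCs : ∀ c, c ∈ Cs ↔ c * x₀ = x₀ * c := fun c => by
    rw [hCs, Finset.mem_filter]; exact ⟨fun h => h.2, fun h => ⟨Finset.mem_univ _, h⟩⟩
  have memB : ∀ c, c ∈ B ↔ c * x₀ = x₀ * c ∧ c ∉ Z := fun c => by
    rw [hB, Finset.mem_filter]; exact ⟨fun h => h.2, fun h => ⟨Finset.mem_univ _, h⟩⟩
  have hcardBZ : B.card + Zs.card = Cs.card := by
    have h1 : B = Cs.filter (fun x => ¬ x ∈ Z) := by
      ext x
      constructor
      · intro h
        exact Finset.mem_filter.mpr ⟨(memCs x).mpr ((memB x).mp h).1, ((memB x).mp h).2⟩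
      · intro h
        have h' := Finset.mem_filter.mp h
        exact (memB x).mpr ⟨(memCs x).mp h'.1, h'.2⟩
    have h2 : Zs = Cs.filter (fun x => x ∈ Z) := by
      ext x
      constructor
      · intro h
        exact Finset.mem_filter.mpr ⟨(memCs x).mpr (hZc x ((memZs x).mp h) x₀).symm,
          (memZs x).mp h⟩
      · intro h
        exact (memZs x).mpr (Finset.mem_filter.mp h).2
    rw [h1, h2, add_comm]
    exact Finset.card_filter_add_card_filter_not _
  have hZB : Zs.card ≤ B.card := by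
    apply Finset.card_le_card_of_injOn (fun z => x₀ * z)
    · intro z hz
      rw [Finset.mem_coe, memZs] at hz
      rw [Finset.mem_coe, memB]
      refine ⟨?_, fun h => hx₀Z ?_⟩
      · rw [mul_assoc, ← hZc z hz x₀]
      · have h9 : x₀ = (x₀ * z) * z⁻¹ := by group
        rw [h9]; exact Z.mul_mem h (Z.inv_mem hz)
    · intro z _ z' _ h
      exact mul_left_cancel h
  have hclaim1 : ∀ c ∈ B, ∀ g : Γ, g⁻¹ * c * g ∉ H := by
    intro c hc g hg
    rw [memB] at hc
    obtain ⟨hcx, hcZ⟩ := hc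
    by_cases hY : g⁻¹ * x₀ * g ∈ H
    · exact hx₀H g hY
    · apply hcZ
      apply hZn c g
      apply ha (g⁻¹ * c * g) hg (g⁻¹ * x₀ * g) hY
      have h1 : (g⁻¹ * x₀ * g)⁻¹ * (g⁻¹ * c * g) * (g⁻¹ * x₀ * g) =
          g⁻¹ * (x₀⁻¹ * (c * x₀)) * g := by group
      rw [h1, hcx, ← mul_assoc x₀⁻¹, inv_mul_cancel, one_mul]
      exact hg
  set D₂ : Finset (Γ × Γ) := (univ : Finset Γ) ×ˢ B with hD₂
  have himg2 : D₂.image Φ ⊆ K := by
    intro x hx
    rw [Finset.mem_image] at hx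
    obtain ⟨⟨y, c⟩, hp, rfl⟩ := hx
    rw [hD₂, Finset.mem_product] at hp
    have hcB := hp.2
    have hc := (memB c).mp hcB
    rw [memK]
    have e : ∀ g : Γ, g⁻¹ * Φ (y, c) * g = (y⁻¹ * g)⁻¹ * c * (y⁻¹ * g) := by
      intro g; simp only [hΦ]; group
    constructor
    · intro h
      apply hc.2
      apply hZn c y⁻¹
      have h9 : y⁻¹⁻¹ * c * y⁻¹ = Φ (y, c) := by simp only [hΦ]; group
      rw [h9]; exact h
    · intro g
      rw [e]
      exact hclaim1 c hcB _
  have hfib2 : ∀ b ∈ D₂.image Φ, (D₂.filter (fun p => Φ p = b)).card ≤ 2 * Cs.card := by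
    intro b hb
    rw [Finset.mem_image] at hb
    obtain ⟨⟨y₁, c₁⟩, hp, hb⟩ := hb
    rw [hD₂, Finset.mem_product] at hp
    have hc₁B := hp.2
    obtain ⟨hc₁x, hc₁Z⟩ := (memB c₁).mp hc₁B
    set ν : Γ → Γ := fun w => w⁻¹ * c₁ * w with hν
    set Ws : Finset Γ := univ.filter (fun w => ν w * c₁ = c₁ * ν w) with hWs
    have memWs : ∀ w, w ∈ Ws ↔ ν w * c₁ = c₁ * ν w := fun w => by
      rw [hWs, Finset.mem_filter]; exact ⟨fun h => h.2, fun h => ⟨Finset.mem_univ _, h⟩⟩
    have hstep1 : (D₂.filter (fun p => Φ p = b)).card ≤ Ws.card := by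
      apply Finset.card_le_card_of_injOn (fun p => y₁⁻¹ * p.1)
      · rintro ⟨y, c⟩ hp'
        rw [Finset.mem_coe, Finset.mem_filter, hD₂, Finset.mem_product] at hp'
        obtain ⟨⟨-, hcB⟩, hΦb⟩ := hp'
        obtain ⟨hcx, hcZ⟩ := (memB c).mp hcB
        rw [Finset.mem_coe, memWs]
        have h5 : y * c * y⁻¹ = y₁ * c₁ * y₁⁻¹ := hΦb.trans hb.symm
        have h6 : ν (y₁⁻¹ * y) = c := by
          simp only [hν]
          have h7 : c₁ = y₁⁻¹ * (y * c * y⁻¹) * y₁ := by rw [h5]; group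
          rw [h7]; group
        rw [h6]
        exact he1 x₀ hx₀Z c c₁ hcx hc₁x
      · rintro ⟨y, c⟩ hp' ⟨y', c'⟩ hp'' h
        rw [Finset.mem_coe, Finset.mem_filter] at hp' hp''
        have hy : y = y' := mul_left_cancel h
        subst hy
        have h5 : y * c * y⁻¹ = y * c' * y⁻¹ := hp'.2.trans hp''.2.symm
        rw [mul_left_cancel (mul_right_cancel h5)]
    have hfibν : ∀ d ∈ Ws.image ν, (Ws.filter (fun w => ν w = d)).card ≤ Cs.card := by
      intro d hd'
      rw [Finset.mem_image] at hd'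
      obtain ⟨w₀, hw₀, hw₀d⟩ := hd'
      apply Finset.card_le_card_of_injOn (fun w => w * w₀⁻¹)
      · intro w hw
        rw [Finset.mem_coe, Finset.mem_filter] at hw
        rw [Finset.mem_coe, memCs]
        have h7 : w⁻¹ * c₁ * w = w₀⁻¹ * c₁ * w₀ := hw.2.trans hw₀d.symm
        have h8 : (w * w₀⁻¹) * c₁ = c₁ * (w * w₀⁻¹) := by
          have h9 : c₁ = w * (w₀⁻¹ * c₁ * w₀) * w⁻¹ := by rw [← h7]; group
          calc (w * w₀⁻¹) * c₁ = (w * (w₀⁻¹ * c₁ * w₀) * w⁻¹) * (w * w₀⁻¹) := by group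
            _ = c₁ * (w * w₀⁻¹) := by rw [← h9]
        exact he1 c₁ hc₁Z (w * w₀⁻¹) x₀ h8 hc₁x.symm
      · intro w _ w' _ h
        exact mul_right_cancel h
    have hclaim := hclaim1 c₁ hc₁B
    have himgν : (Ws.image ν).card ≤ 2 := by
      by_cases hex : ∃ w ∈ Ws, ν w ≠ c₁
      · obtain ⟨w₂, hw₂, hw₂c⟩ := hex
        have hsub : Ws.image ν ⊆ {c₁, ν w₂} := by
          intro d hd'
          rw [Finset.mem_image] at hd'
          obtain ⟨w, hw, rfl⟩ := hd'
          rw [Finset.mem_insert, Finset.mem_singleton]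
          by_cases h : ν w = c₁
          · left; exact h
          · right
            exact he2 c₁ hc₁Z hclaim w w₂ ((memWs w).mp hw) ((memWs w₂).mp hw₂) h hw₂c
        exact (Finset.card_le_card hsub).trans Finset.card_le_two
      · push Not at hex
        have hsub : Ws.image ν ⊆ {c₁} := by
          intro d hd'
          rw [Finset.mem_image] at hd'
          obtain ⟨w, hw, rfl⟩ := hd'
          rw [Finset.mem_singleton]
          exact hex w hw
        exact (Finset.card_le_card hsub).trans (by simp)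
    calc (D₂.filter (fun p => Φ p = b)).card ≤ Ws.card := hstep1
      _ ≤ Cs.card * (Ws.image ν).card := Finset.card_le_mul_card_image Ws Cs.card hfibν
      _ ≤ Cs.card * 2 := Nat.mul_le_mul_left _ himgν
      _ = 2 * Cs.card := mul_comm _ _
  have hcount2 : D₂.card ≤ 2 * Cs.card * K.card := by
    calc D₂.card ≤ 2 * Cs.card * (D₂.image Φ).card :=
          Finset.card_le_mul_card_image D₂ _ hfib2
      _ ≤ 2 * Cs.card * K.card := Nat.mul_le_mul_left _ (Finset.card_le_card himg2)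
  rw [hD₂, Finset.card_product, Finset.card_univ] at hcount2
  have hb1 : 1 ≤ B.card := hz1.trans hZB
  have hfin : Fintype.card Γ * B.card ≤ (4 * K.card) * B.card := by
    calc Fintype.card Γ * B.card ≤ 2 * Cs.card * K.card := hcount2
      _ ≤ 2 * (2 * B.card) * K.card := by
          apply Nat.mul_le_mul_right
          apply Nat.mul_le_mul_left
          omega
      _ = (4 * K.card) * B.card := by ring
  have hfin2 := Nat.le_of_mul_le_mul_right hfin (by omega)
  omega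

end Cfsg.Agent.Helper28.Subf
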