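import Mathlib
import Cfsg.Agent.Lib.Helper28.SubfC

/-!
# Subfield subgroups of `SL_n` (helper28), part C2: subgroups of `GL₂` over a finite field
-/

set_option autoImplicit false

namespace Cfsg.Agent.Helper28.Subf

open Matrix

section mat2

variable {F : Type*} [Field F]

theorem not_scalar_cases (c : Matrix (Fin 2) (Fin 2) F) (hc : ∀ s : F, c ≠ s • 1) :
    c 0 1 ≠ 0 ∨ c 1 0 ≠ 0 ∨ c 0 0 ≠ c 1 1 := by
  by_contra h
  push Not at h
  obtain ⟨h1, h2, h3⟩ := h
  apply hc (c 0 0)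
  ext i j
  fin_cases i <;> fin_cases j <;> simp [h1, h2, h3]

theorem eq_of_entries (x c : Matrix (Fin 2) (Fin 2) F) (α β : F)
    (h00 : x 0 0 = α + β * c 0 0) (h01 : x 0 1 = β * c 0 1) (h10 : x 1 0 = β * c 1 0)
    (h11 : x 1 1 = α + β * c 1 1) : x = α • 1 + β • c := by
  ext i j
  fin_cases i <;> fin_cases j <;> simp [h00, h01, h10, h11]

/-- the centraliser of a non-scalar `2 × 2` matrix -/
theorem cent2 (c x : Matrix (Fin 2) (Fin 2) F) (hc : ∀ s : F, c ≠ s • 1)
    (hx : x * c = c * x) : ∃ α β : F, x = α • 1 + β • c := by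
  have e00 := congrFun (congrFun hx 0) 0
  have e01 := congrFun (congrFun hx 0) 1
  have e10 := congrFun (congrFun hx 1) 0
  simp only [Matrix.mul_apply, Fin.sum_univ_two] at e00 e01 e10
  rcases not_scalar_cases c hc with h | h | h
  · obtain ⟨β, hβ⟩ : ∃ β : F, β * c 0 1 = x 0 1 := ⟨x 0 1 / c 0 1, div_mul_cancel₀ _ h⟩
    obtain ⟨α, hα⟩ : ∃ α : F, α = x 0 0 - β * c 0 0 := ⟨_, rfl⟩
    refine ⟨α, β, eq_of_entries x c α β ?_ hβ.symm ?_ ?_⟩
    · rw [hα]; ring
    · apply mul_left_cancel₀ h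
      linear_combination (-1 : F) * e00 - c 1 0 * hβ
    · apply mul_left_cancel₀ h
      linear_combination (-1 : F) * e01 + (c 0 0 - c 1 1) * hβ - c 0 1 * hα
  · obtain ⟨β, hβ⟩ : ∃ β : F, β * c 1 0 = x 1 0 := ⟨x 1 0 / c 1 0, div_mul_cancel₀ _ h⟩
    obtain ⟨α, hα⟩ : ∃ α : F, α = x 0 0 - β * c 0 0 := ⟨_, rfl⟩
    refine ⟨α, β, eq_of_entries x c α β ?_ ?_ hβ.symm ?_⟩
    · rw [hα]; ring
    · apply mul_left_cancel₀ h
      linear_combination e00 - c 0 1 * hβ
    · apply mul_left_cancel₀ h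
      linear_combination e10 + (c 0 0 - c 1 1) * hβ - c 1 0 * hα
  · have h' : c 0 0 - c 1 1 ≠ 0 := sub_ne_zero.mpr h
    obtain ⟨β, hβ⟩ : ∃ β : F, β * (c 0 0 - c 1 1) = x 0 0 - x 1 1 :=
      ⟨(x 0 0 - x 1 1) / (c 0 0 - c 1 1), div_mul_cancel₀ _ h'⟩
    obtain ⟨α, hα⟩ : ∃ α : F, α = x 0 0 - β * c 0 0 := ⟨_, rfl⟩
    refine ⟨α, β, eq_of_entries x c α β ?_ ?_ ?_ ?_⟩
    · rw [hα]; ring
    · apply mul_left_cancel₀ h'
      linear_combination (-1 : F) * e01 - c 0 1 * hβ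
    · apply mul_left_cancel₀ h'
      linear_combination e10 - c 1 0 * hβ
    · linear_combination (-1 : F) * hα + hβ

theorem comm_of_cent (c x y : Matrix (Fin 2) (Fin 2) F) (hc : ∀ s : F, c ≠ s • 1)
    (hx : x * c = c * x) (hy : y * c = c * y) : x * y = y * x := by
  obtain ⟨α, β, rfl⟩ := cent2 c x hc hx
  rw [Matrix.add_mul, Matrix.mul_add, Matrix.smul_mul, Matrix.smul_mul, Matrix.mul_smul,
    Matrix.mul_smul, Matrix.one_mul, Matrix.mul_one, hy]

theorem trace_lin (c : Matrix (Fin 2) (Fin 2) F) (α β : F) :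
    (α • (1 : Matrix (Fin 2) (Fin 2) F) + β • c).trace = 2 * α + β * c.trace := by
  simp [Matrix.trace_fin_two]; ring

theorem det_lin (c : Matrix (Fin 2) (Fin 2) F) (α β : F) :
    (α • (1 : Matrix (Fin 2) (Fin 2) F) + β • c).det =
      α ^ 2 + α * β * c.trace + β ^ 2 * c.det := by
  simp [Matrix.det_fin_two, Matrix.trace_fin_two]; ring

/-- a conjugate of a non-degenerate `c` inside the centraliser of `c` is `c` or its adjugate -/
theorem conj_cases (c d : Matrix (Fin 2) (Fin 2) F) (hc : ∀ s : F, c ≠ s • 1)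
    (hnd : ∀ ε : F, 2 * ε = c.trace → ε * ε = c.det → False)
    (hcomm : d * c = c * d) (htr : d.trace = c.trace) (hdet : d.det = c.det) :
    d = c ∨ d = c.trace • 1 - c := by
  obtain ⟨α, β, rfl⟩ := cent2 c d hc hcomm
  rw [trace_lin] at htr
  rw [det_lin] at hdet
  set τ := c.trace with hτ
  set δ := c.det with hδ
  by_cases hβ1 : β = 1
  · subst hβ1
    have h2α : 2 * α = 0 := by linear_combination htr
    have hαα : α * (α + τ) = 0 := by linear_combination hdet
    rcases mul_eq_zero.mp hαα with h | h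
    · left
      rw [h, zero_smul, zero_add, one_smul]
    · have hα : α = -τ := by linear_combination h
      by_cases hα0 : α = 0
      · left
        rw [hα0, zero_smul, zero_add, one_smul]
      · right
        have h2 : (2 : F) = 0 := by
          rcases mul_eq_zero.mp h2α with h' | h'
          · exact h'
          · exact absurd h' hα0
        ext i j
        simp only [Matrix.add_apply, Matrix.smul_apply, Matrix.sub_apply, smul_eq_mul, one_mul]
        linear_combination (1 : Matrix (Fin 2) (Fin 2) F) i j * hα +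
          (c i j - τ * (1 : Matrix (Fin 2) (Fin 2) F) i j) * h2
  · by_cases hβ2 : β = -1
    · subst hβ2
      have h2α : 2 * (α - τ) = 0 := by linear_combination htr
      have hαα : α * (α - τ) = 0 := by linear_combination hdet
      by_cases hατ : α = τ
      · right
        rw [hατ, neg_smul, one_smul, sub_eq_add_neg]
      · exfalso
        have h2 : (2 : F) = 0 := by
          rcases mul_eq_zero.mp h2α with h' | h'
          · exact h'
          · exact absurd (sub_eq_zero.mp h') hατ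
        apply hβ1
        linear_combination (-1 : F) * h2
    · exfalso
      have h1 : 1 - β ≠ 0 := fun h => hβ1 (by linear_combination -h)
      have h2 : 1 + β ≠ 0 := fun h => hβ2 (by linear_combination h)
      obtain ⟨ε, hε⟩ : ∃ ε : F, ε * (1 - β) = α := ⟨α / (1 - β), div_mul_cancel₀ _ h1⟩
      have hT : 2 * ε = τ := by
        apply mul_right_cancel₀ h1
        linear_combination 2 * hε + htr
      have hD : ε * ε = δ := by
        apply mul_right_cancel₀ h1
        apply mul_right_cancel₀ h2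
        have hα2 : α = ε * (1 - β) := hε.symm
        rw [hα2, ← hT] at hdet
        linear_combination hdet
      exact hnd ε hT hD

theorem sq_zero_of_deg (c : Matrix (Fin 2) (Fin 2) F) (ε : F) (h1 : 2 * ε = c.trace)
    (h2 : ε * ε = c.det) : (c - ε • 1) ^ 2 = 0 := by
  rw [Matrix.trace_fin_two] at h1
  rw [Matrix.det_fin_two] at h2
  ext i j
  fin_cases i <;> fin_cases j
  · simp [pow_two, Matrix.mul_apply, Fin.sum_univ_two]
    linear_combination (-c 0 0) * h1 + h2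
  · simp [pow_two, Matrix.mul_apply, Fin.sum_univ_two]
    linear_combination (-c 0 1) * h1
  · simp [pow_two, Matrix.mul_apply, Fin.sum_univ_two]
    linear_combination (-c 1 0) * h1
  · simp [pow_two, Matrix.mul_apply, Fin.sum_univ_two]
    linear_combination (-c 1 1) * h1 + h2

/-- upper unitriangular matrices -/
noncomputable def xmat (a : F) : GL (Fin 2) F :=
  Matrix.GeneralLinearGroup.mkOfDetNeZero !![1, a; 0, 1] (by simp [Matrix.det_fin_two])

theorem xmat_val (a : F) :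
    ((xmat a : GL (Fin 2) F) : Matrix (Fin 2) (Fin 2) F) = !![1, a; 0, 1] := rfl

theorem xmat_mul (a b : F) : xmat a * xmat b = xmat (a + b) := by
  apply Units.ext
  rw [Units.val_mul, xmat_val, xmat_val, xmat_val, Matrix.mul_fin_two]
  simp [add_comm]

theorem xmat_zero : xmat (0 : F) = 1 := by
  apply Units.ext
  rw [xmat_val, Units.val_one, Matrix.one_fin_two]

theorem xmat_inv (a : F) : (xmat a)⁻¹ = xmat (-a) := by
  apply inv_eq_of_mul_eq_one_right
  rw [xmat_mul, add_neg_cancel, xmat_zero]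

theorem ut_diag_ne (X : GL (Fin 2) F) (h : (X : Matrix (Fin 2) (Fin 2) F) 1 0 = 0) :
    (X : Matrix (Fin 2) (Fin 2) F) 1 1 ≠ 0 := by
  intro h1
  have h2 := (Matrix.isUnits_det_units X).ne_zero
  rw [Matrix.det_fin_two, h, h1, mul_zero, mul_zero, sub_zero] at h2
  exact h2 rfl

theorem ut_mul (X Y : GL (Fin 2) F) (hX : (X : Matrix (Fin 2) (Fin 2) F) 1 0 = 0)
    (hY : (Y : Matrix (Fin 2) (Fin 2) F) 1 0 = 0) :
    ((X * Y : GL (Fin 2) F) : Matrix (Fin 2) (Fin 2) F) 1 0 = 0 := by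
  rw [Units.val_mul, Matrix.mul_apply, Fin.sum_univ_two, hX, hY, zero_mul, mul_zero, add_zero]

theorem ut_of_mul_eq_smul (X Y : GL (Fin 2) F) (hX : (X : Matrix (Fin 2) (Fin 2) F) 1 0 = 0)
    (s : F) (h : (X : Matrix (Fin 2) (Fin 2) F) * (Y : Matrix (Fin 2) (Fin 2) F) = s • 1) :
    (Y : Matrix (Fin 2) (Fin 2) F) 1 0 = 0 := by
  have h1 := congrFun (congrFun h 1) 0
  rw [Matrix.mul_apply, Fin.sum_univ_two, hX, zero_mul, zero_add, Matrix.smul_apply,
    Matrix.one_apply_ne (by decide), smul_zero] at h1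
  exact (mul_eq_zero.mp h1).resolve_left (ut_diag_ne X hX)

theorem ut_inv (X : GL (Fin 2) F) (hX : (X : Matrix (Fin 2) (Fin 2) F) 1 0 = 0) :
    ((X⁻¹ : GL (Fin 2) F) : Matrix (Fin 2) (Fin 2) F) 1 0 = 0 := by
  apply ut_of_mul_eq_smul X X⁻¹ hX 1
  rw [← Units.val_mul, mul_inv_cancel, Units.val_one, one_smul]

theorem sc_inv (X : GL (Fin 2) F) (s : F) (hX : (X : Matrix (Fin 2) (Fin 2) F) = s • 1) :
    ((X⁻¹ : GL (Fin 2) F) : Matrix (Fin 2) (Fin 2) F) = s⁻¹ • 1 := by
  have hs : s ≠ 0 := by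
    intro h
    rw [h, zero_smul] at hX
    exact X.ne_zero hX
  have h1 : ((X⁻¹ : GL (Fin 2) F) : Matrix (Fin 2) (Fin 2) F) =
      s⁻¹ • (((X⁻¹ : GL (Fin 2) F) : Matrix (Fin 2) (Fin 2) F) *
        (X : Matrix (Fin 2) (Fin 2) F)) := by
    rw [hX, Matrix.mul_smul, Matrix.mul_one, smul_smul, inv_mul_cancel₀ hs, one_smul]
  rw [h1, Units.inv_mul]

/-- the upper triangular elements of a subgroup of `GL₂` -/
def utSub (G : Subgroup (GL (Fin 2) F)) : Subgroup ↥G where
  carrier := {x | ((x : GL (Fin 2) F) : Matrix (Fin 2) (Fin 2) F) 1 0 = 0}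
  mul_mem' := by
    intro x y hx hy
    exact ut_mul _ _ hx hy
  one_mem' := by
    show ((1 : GL (Fin 2) F) : Matrix (Fin 2) (Fin 2) F) 1 0 = 0
    rw [Units.val_one, Matrix.one_apply_ne (by decide)]
  inv_mem' := by
    intro x hx
    exact ut_inv _ hx

/-- the scalar elements of a subgroup of `GL₂` -/
def scSub (G : Subgroup (GL (Fin 2) F)) : Subgroup ↥G where
  carrier := {x | ∃ s : F, ((x : GL (Fin 2) F) : Matrix (Fin 2) (Fin 2) F) = s • 1}
  mul_mem' := by
    rintro x y ⟨s, hs⟩ ⟨t, ht⟩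
    refine ⟨s * t, ?_⟩
    show ((x : GL (Fin 2) F) * (y : GL (Fin 2) F) : GL (Fin 2) F).val = _
    rw [Units.val_mul, hs, ht, Matrix.smul_mul, Matrix.one_mul, smul_smul]
  one_mem' := ⟨1, by
    show ((1 : GL (Fin 2) F) : Matrix (Fin 2) (Fin 2) F) = _
    rw [Units.val_one, one_smul]⟩
  inv_mem' := by
    rintro x ⟨s, hs⟩
    exact ⟨s⁻¹, sc_inv _ s hs⟩

theorem mem_utSub (G : Subgroup (GL (Fin 2) F)) (x : ↥G) :
    x ∈ utSub G ↔ ((x : GL (Fin 2) F) : Matrix (Fin 2) (Fin 2) F) 1 0 = 0 := Iff.rfl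

theorem mem_scSub (G : Subgroup (GL (Fin 2) F)) (x : ↥G) :
    x ∈ scSub G ↔ ∃ s : F, ((x : GL (Fin 2) F) : Matrix (Fin 2) (Fin 2) F) = s • 1 := Iff.rfl

theorem pow_card_of_sq_zero [Fintype F] (X : Matrix (Fin 2) (Fin 2) F) (ε : F)
    (h : (X - ε • 1) ^ 2 = 0) : X ^ (Fintype.card F) = ε • 1 := by
  obtain ⟨f, hp, hq⟩ := FiniteField.card F (ringChar F)
  haveI : Fact (ringChar F).Prime := ⟨hp⟩
  have hX : X = ε • 1 + (X - ε • 1) := by abel
  have hcomm : Commute (ε • (1 : Matrix (Fin 2) (Fin 2) F)) (X - ε • 1) :=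
    (Commute.one_left _).smul_left ε
  have h2 : 2 ≤ Fintype.card F := Fintype.one_lt_card
  have h3 : (X - ε • 1) ^ (Fintype.card F) = 0 := pow_eq_zero_of_le h2 h
  have h4 : (ε • (1 : Matrix (Fin 2) (Fin 2) F)) ^ (Fintype.card F) = ε • 1 := by
    rw [smul_pow, one_pow, FiniteField.pow_card]
  conv_lhs => rw [hX]
  rw [hq] at h3 h4 ⊢
  rw [add_pow_char_pow_of_commute (ringChar F) f hcomm, h3, h4, add_zero]

theorem trace_eq_two_of_pow (s : Matrix (Fin 2) (Fin 2) F) (k : ℕ) (hp : (ringChar F).Prime)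
    (hs : s ^ ((ringChar F) ^ k) = 1) : s.trace = 2 := by
  haveI : Fact (ringChar F).Prime := ⟨hp⟩
  have h1 : (s - 1) ^ ((ringChar F) ^ k) = 0 := by
    rw [sub_pow_char_pow_of_commute (ringChar F) k (Commute.one_right s), hs, one_pow, sub_self]
  have h2 : IsNilpotent (s - 1) := ⟨_, h1⟩
  have h3 := (Matrix.isNilpotent_trace_of_isNilpotent h2).eq_zero
  rw [Matrix.trace_sub, Matrix.trace_one, Fintype.card_fin] at h3
  push_cast at h3
  linear_combination h3

end mat2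

section sylow

theorem exists_conj_mem_sylow {Γ : Type*} [Group Γ] [Finite Γ] {p : ℕ} [Fact p.Prime] (x y : Γ)
    {m₁ m₂ : ℕ} (hx : x ^ (p ^ m₁) = 1) (hy : y ^ (p ^ m₂) = 1) :
    ∃ (S : Sylow p Γ) (g : Γ), y ∈ S ∧ g * x * g⁻¹ ∈ S := by
  have hP : ∀ (z : Γ) (m : ℕ), z ^ (p ^ m) = 1 → IsPGroup p (Subgroup.zpowers z) := by
    intro z m hz
    rintro ⟨t, ht⟩
    obtain ⟨k, rfl⟩ := Subgroup.mem_zpowers_iff.mp ht
    refine ⟨m, Subtype.ext ?_⟩
    rw [Subgroup.coe_pow, Subgroup.coe_one]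
    show (z ^ k) ^ (p ^ m) = 1
    rw [← zpow_natCast, ← _root_.zpow_mul, mul_comm, _root_.zpow_mul, zpow_natCast, hz, _root_.one_zpow]
  obtain ⟨S₀, hS₀⟩ := (hP x m₁ hx).exists_le_sylow
  obtain ⟨S, hS⟩ := (hP y m₂ hy).exists_le_sylow
  obtain ⟨g, hg⟩ := MulAction.exists_smul_eq Γ S₀ S
  refine ⟨S, g, hS (Subgroup.mem_zpowers y), ?_⟩
  have h1 : x ∈ (S₀ : Subgroup Γ) := hS₀ (Subgroup.mem_zpowers x)
  have h2 := Subgroup.smul_mem_pointwise_smul x (MulAut.conj g) (S₀ : Subgroup Γ) h1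
  rw [← Sylow.coe_subgroup_smul, hg, MulAut.smul_def, MulAut.conj_apply] at h2
  exact h2

end sylow

end Cfsg.Agent.Helper28.Subf
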