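import Mathlib
import Cfsg.Agent.Lib.Helper28.SubfC2

/-!
# Subfield subgroups of `SL_n` (helper28), part C3: no Frobenius-type subgroups of `GL₂`
-/

set_option autoImplicit false

namespace Cfsg.Agent.Helper28.Subf

open Matrix

variable {F : Type*} [Field F] [Fintype F]

/-- elements with a double eigenvalue are conjugate to upper triangular ones -/
theorem sylow_conj (G : Subgroup (GL (Fin 2) F)) {a : F} (ha : a ≠ 0)
    (hxa : xmat a ∈ G) (X : GL (Fin 2) F) (hX : X ∈ G) (ε : F)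
    (hXε : ((X : Matrix (Fin 2) (Fin 2) F) - ε • 1) ^ 2 = 0) :
    ∃ g ∈ G, ((g⁻¹ * X * g : GL (Fin 2) F) : Matrix (Fin 2) (Fin 2) F) 1 0 = 0 := by
  classical
  obtain ⟨f, hp, hq⟩ := FiniteField.card F (ringChar F)
  haveI : Fact (ringChar F).Prime := ⟨hp⟩
  have hXq : (X : Matrix (Fin 2) (Fin 2) F) ^ (Fintype.card F) = ε • 1 :=
    pow_card_of_sq_zero _ ε hXε
  have hε : ε ≠ 0 := by
    intro h
    rw [h, zero_smul, ← Units.val_pow_eq_pow_val] at hXq
    exact (X ^ Fintype.card F).ne_zero hXq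
  have hq1 : 1 ≤ Fintype.card F := Fintype.card_pos
  have hx'q : (X ^ (Fintype.card F - 1)) ^ ((ringChar F) ^ (f : ℕ)) = 1 := by
    rw [← hq]
    apply Units.ext
    rw [Units.val_pow_eq_pow_val, Units.val_pow_eq_pow_val, ← pow_mul, mul_comm, pow_mul, hXq,
      smul_pow, one_pow, FiniteField.pow_card_sub_one_eq_one ε hε, one_smul, Units.val_one]
  have hy1 : ((xmat a : GL (Fin 2) F) : Matrix (Fin 2) (Fin 2) F) ^ (Fintype.card F) = 1 := by
    have h1 := pow_card_of_sq_zero ((xmat a : GL (Fin 2) F) : Matrix (Fin 2) (Fin 2) F) 1 (by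
      rw [xmat_val]
      ext i j
      fin_cases i <;> fin_cases j <;> simp [pow_two, Matrix.mul_apply, Fin.sum_univ_two])
    rw [h1, one_smul]
  have hyq : (xmat a) ^ ((ringChar F) ^ (f : ℕ)) = 1 := by
    rw [← hq]
    apply Units.ext
    rw [Units.val_pow_eq_pow_val, hy1, Units.val_one]
  obtain ⟨S, g, hyS, hxS⟩ := exists_conj_mem_sylow (Γ := ↥G) (p := ringChar F)
    (⟨X ^ (Fintype.card F - 1), G.pow_mem hX _⟩ : ↥G) (⟨xmat a, hxa⟩ : ↥G)
    (m₁ := (f : ℕ)) (m₂ := (f : ℕ))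
    (Subtype.ext (by rw [Subgroup.coe_pow, Subgroup.coe_one]; exact hx'q))
    (Subtype.ext (by rw [Subgroup.coe_pow, Subgroup.coe_one]; exact hyq))
  have htr : ∀ z : ↥G, z ∈ S → ((z : GL (Fin 2) F) : Matrix (Fin 2) (Fin 2) F).trace = 2 := by
    intro z hz
    obtain ⟨k, hk⟩ := S.isPGroup' ⟨z, hz⟩
    have h1 : z ^ ((ringChar F) ^ k) = 1 := by
      have := congrArg Subtype.val hk
      rwa [Subgroup.coe_pow, Subgroup.coe_one] at this
    have h2 : ((z : GL (Fin 2) F) : Matrix (Fin 2) (Fin 2) F) ^ ((ringChar F) ^ k) = 1 := by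
      have := congrArg (fun t : ↥G => ((t : GL (Fin 2) F) : Matrix (Fin 2) (Fin 2) F)) h1
      simpa using this
    exact trace_eq_two_of_pow _ k hp h2
  set w : ↥G := g * ⟨X ^ (Fintype.card F - 1), G.pow_mem hX _⟩ * g⁻¹ with hw
  set w' : Matrix (Fin 2) (Fin 2) F := ((w : GL (Fin 2) F) : Matrix (Fin 2) (Fin 2) F) with hw'
  have h1 := htr w hxS
  have h2 := htr (w * ⟨xmat a, hxa⟩) (S.mul_mem hxS hyS)
  have h3 : (((w * ⟨xmat a, hxa⟩ : ↥G) : GL (Fin 2) F) : Matrix (Fin 2) (Fin 2) F) =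
      w' * !![1, a; 0, 1] := by
    rw [Subgroup.coe_mul, Units.val_mul]
    rfl
  rw [h3, Matrix.trace_fin_two, Matrix.mul_apply, Matrix.mul_apply, Fin.sum_univ_two,
    Fin.sum_univ_two] at h2
  rw [← hw', Matrix.trace_fin_two] at h1
  simp only [Matrix.of_apply, Matrix.cons_val', Matrix.cons_val_zero, Matrix.cons_val_one,
    Matrix.empty_val', Matrix.cons_val_fin_one, mul_one, mul_zero, add_zero] at h2
  have h4 : w' 1 0 = 0 := by
    have : w' 1 0 * a = 0 := by linear_combination h2 - h1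
    exact (mul_eq_zero.mp this).resolve_right ha
  refine ⟨((g⁻¹ : ↥G) : GL (Fin 2) F), (g⁻¹).2, ?_⟩
  apply ut_of_mul_eq_smul (w : GL (Fin 2) F) _ h4 ε
  have h5 : (w : GL (Fin 2) F) * (((g⁻¹ : ↥G) : GL (Fin 2) F)⁻¹ * X * ((g⁻¹ : ↥G) : GL (Fin 2) F)) =
      (g : GL (Fin 2) F) * X ^ (Fintype.card F) * (g : GL (Fin 2) F)⁻¹ := by
    have h6 : (w : GL (Fin 2) F) = (g : GL (Fin 2) F) * X ^ (Fintype.card F - 1) *
        (g : GL (Fin 2) F)⁻¹ := rfl
    have h7 : ((g⁻¹ : ↥G) : GL (Fin 2) F) = (g : GL (Fin 2) F)⁻¹ := rfl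
    rw [h6, h7, inv_inv]
    have h8 : X ^ (Fintype.card F) = X ^ (Fintype.card F - 1) * X := by
      rw [← pow_succ, Nat.sub_add_cancel hq1]
    rw [h8]
    group
  rw [← Units.val_mul, h5, Units.val_mul, Units.val_mul, Units.val_pow_eq_pow_val, hXq,
    Matrix.mul_smul, Matrix.mul_one, Matrix.smul_mul, ← Units.val_mul, mul_inv_cancel,
    Units.val_one]

/-- a subgroup of `GL₂` over a finite field in which the upper triangular elements form a
Frobenius complement modulo scalars cannot contain four upper unitriangular elements -/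
theorem frob_false (G : Subgroup (GL (Fin 2) F))
    (ha : ∀ X ∈ G, (X : Matrix (Fin 2) (Fin 2) F) 1 0 = 0 → ∀ Y ∈ G,
      (Y : Matrix (Fin 2) (Fin 2) F) 1 0 ≠ 0 →
      ((Y⁻¹ * X * Y : GL (Fin 2) F) : Matrix (Fin 2) (Fin 2) F) 1 0 = 0 →
      ∃ s : F, (X : Matrix (Fin 2) (Fin 2) F) = s • 1)
    {ι : Type*} [Fintype ι] (a : ι → F) (hinj : Function.Injective a)
    (hι : 4 ≤ Fintype.card ι) (hxa : ∀ i, xmat (a i) ∈ G)
    (hd : ∃ Y ∈ G, (Y : Matrix (Fin 2) (Fin 2) F) 1 0 ≠ 0) : False := by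
  classical
  obtain ⟨i₁, hi₁⟩ : ∃ i, a i ≠ 0 := by
    by_contra h
    push Not at h
    have h1 : Fintype.card ι ≤ 1 :=
      Fintype.card_le_one_iff.mpr (fun i j => hinj ((h i).trans (h j).symm))
    omega
  have hnonsc : ∀ c : ↥G, c ∉ scSub G →
      ∀ s : F, ((c : GL (Fin 2) F) : Matrix (Fin 2) (Fin 2) F) ≠ s • 1 :=
    fun c hc s h => hc ⟨s, h⟩
  apply frob_count (Γ := ↥G) (utSub G) (scSub G) ?_ ?_ ?_
    (fun i => (⟨xmat (a i), hxa i⟩ : ↥G)) hι ?_ ?_ ?_ ?_ ?_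
  · rintro x ⟨s, hs⟩
    rw [mem_utSub, hs, Matrix.smul_apply, Matrix.one_apply_ne (by decide), smul_zero]
  · rintro z ⟨s, hs⟩ g
    apply Subtype.ext
    apply Units.ext
    rw [Subgroup.coe_mul, Subgroup.coe_mul, Units.val_mul, Units.val_mul, hs, Matrix.mul_smul,
      Matrix.smul_mul, Matrix.mul_one, Matrix.one_mul]
  · intro X hX Y hY hYXY
    exact ha X X.2 hX Y Y.2 hY hYXY
  · intro i
    rw [mem_utSub]
    show ((xmat (a i) : GL (Fin 2) F) : Matrix (Fin 2) (Fin 2) F) 1 0 = 0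
    rw [xmat_val]
    simp
  · intro i j hij
    obtain ⟨s, hs⟩ := hij
    have h1 : (((⟨xmat (a i), hxa i⟩ : ↥G)⁻¹ * ⟨xmat (a j), hxa j⟩ : ↥G) : GL (Fin 2) F) =
        xmat (a j - a i) := by
      show (xmat (a i))⁻¹ * xmat (a j) = _
      rw [xmat_inv, xmat_mul, neg_add_eq_sub]
    rw [h1, xmat_val] at hs
    have h2 := congrFun (congrFun hs 0) 1
    simp at h2
    exact hinj (sub_eq_zero.mp h2).symm
  · obtain ⟨Y, hY, hY10⟩ := hd
    exact ⟨⟨Y, hY⟩, hY10⟩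
  · intro c hc x y hx hy
    apply Subtype.ext
    apply Units.ext
    rw [Subgroup.coe_mul, Subgroup.coe_mul, Units.val_mul, Units.val_mul]
    apply comm_of_cent _ _ _ (hnonsc c hc)
    · exact congrArg (fun t : ↥G => ((t : GL (Fin 2) F) : Matrix (Fin 2) (Fin 2) F)) hx
    · exact congrArg (fun t : ↥G => ((t : GL (Fin 2) F) : Matrix (Fin 2) (Fin 2) F)) hy
  · intro c hc hcH w₁ w₂ hw₁ hw₂ hne₁ hne₂
    set cm := ((c : GL (Fin 2) F) : Matrix (Fin 2) (Fin 2) F) with hcm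
    have hnd : ∀ ε : F, 2 * ε = cm.trace → ε * ε = cm.det → False := by
      intro ε h1 h2
      obtain ⟨g, hg, hg10⟩ := sylow_conj G hi₁ (hxa i₁) (c : GL (Fin 2) F) c.2 ε
        (sq_zero_of_deg cm ε h1 h2)
      exact hcH ⟨g, hg⟩ hg10
    have hcase : ∀ w : ↥G, (w⁻¹ * c * w) * c = c * (w⁻¹ * c * w) → w⁻¹ * c * w ≠ c →
        (((w⁻¹ * c * w : ↥G) : GL (Fin 2) F) : Matrix (Fin 2) (Fin 2) F) =
          cm.trace • 1 - cm := by
      intro w hw hne
      have hval : (((w⁻¹ * c * w : ↥G) : GL (Fin 2) F) : Matrix (Fin 2) (Fin 2) F) =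
          (((w : GL (Fin 2) F)⁻¹ : GL (Fin 2) F) : Matrix (Fin 2) (Fin 2) F) * cm *
            ((w : GL (Fin 2) F) : Matrix (Fin 2) (Fin 2) F) := rfl
      have hcomm : (((w⁻¹ * c * w : ↥G) : GL (Fin 2) F) : Matrix (Fin 2) (Fin 2) F) * cm =
          cm * (((w⁻¹ * c * w : ↥G) : GL (Fin 2) F) : Matrix (Fin 2) (Fin 2) F) :=
        congrArg (fun t : ↥G => ((t : GL (Fin 2) F) : Matrix (Fin 2) (Fin 2) F)) hw
      rcases conj_cases cm _ (hnonsc c hc) hnd hcomm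
        (by rw [hval, Matrix.trace_units_conj']) (by rw [hval, Matrix.det_units_conj']) with h | h
      · exfalso
        apply hne
        apply Subtype.ext
        apply Units.ext
        exact h
      · exact h
    apply Subtype.ext
    apply Units.ext
    rw [hcase w₁ hw₁ hne₁, hcase w₂ hw₂ hne₂]

end Cfsg.Agent.Helper28.Subf
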