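import Mathlib
import Cfsg.Agent.Lib.Helper28.OrSubD
import Cfsg.Agent.Lib.Helper28.SubfC3

/-!
# Subfield subgroups of orthogonal groups (helper28), part E: the rank one analysis
-/

set_option autoImplicit false
set_option linter.unusedSectionVars false

namespace Cfsg.Agent.H28OrSub

open QuadraticMap Matrix Cfsg.Agent.Helper2.Orth Cfsg.Agent.Helper28.WittQuad
  Cfsg.Agent.Helper28.OrthRoot

variable {F : Type*} [Field F] {ι : Type} [Fintype ι] [DecidableEq ι]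
  {Q : QuadraticForm F (ι → F)} {F₀ : Subfield F}
  {M : Subgroup ↥(Cfsg.isometryGroup F (⇑Q))}

variable (Q F₀)

/-- no nonzero rational singular vector is orthogonal to both vectors -/
def Tot (y y₁ : ι → F) : Prop :=
  ∀ w : ι → F, RatV F₀ w → Q w = 0 → w ≠ 0 → ¬ (polar Q w y = 0 ∧ polar Q w y₁ = 0)

variable {Q F₀}

theorem irr_mul {h μ : F} (hh : h ∈ F₀) (hhμ : h * μ ∈ F₀) (hμ : μ ∉ F₀) : h = 0 := by
  by_contra h0
  apply hμ
  have : μ = h⁻¹ * (h * μ) := by field_simp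
  rw [this]
  exact F₀.mul_mem (F₀.inv_mem hh) hhμ

/-- a rational vector in the span of two independent rational vectors has rational coefficients -/
theorem coeff_rat (hQ : (polarBilin Q).Nondegenerate) (hR : RatQ Q F₀) {r₁ r₂ : ι → F}
    (h1 : RatV F₀ r₁) (h2 : RatV F₀ r₂) (h10 : r₁ ≠ 0) (hind : ∀ s : F, r₂ - s • r₁ ≠ 0)
    {α₁ α₂ : F} (h : RatV F₀ (α₁ • r₁ + α₂ • r₂)) : α₁ ∈ F₀ ∧ α₂ ∈ F₀ := by
  obtain ⟨v₁, hv₁, hp₁⟩ := exists_rat_polar_one hQ hR h1 h10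
  have hm : polar Q r₂ v₁ ∈ F₀ := polar_rat hR h2 hv₁
  have h2' : RatV F₀ (r₂ - polar Q r₂ v₁ • r₁) := ratV_sub h2 (ratV_smul hm h1)
  obtain ⟨v₂, hv₂, hp₂⟩ := exists_rat_polar_one hQ hR h2' (hind _)
  have hA : α₁ + α₂ * polar Q r₂ v₁ ∈ F₀ := by
    have h3 := polar_rat hR h hv₁
    rw [polar_add_left, polar_smul_left, polar_smul_left, hp₁, smul_eq_mul, smul_eq_mul,
      mul_one] at h3
    exact h3
  have h4 : RatV F₀ (α₂ • (r₂ - polar Q r₂ v₁ • r₁)) := by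
    have h5 : α₂ • (r₂ - polar Q r₂ v₁ • r₁) =
        (α₁ • r₁ + α₂ • r₂) - (α₁ + α₂ * polar Q r₂ v₁) • r₁ := by module
    rw [h5]
    exact ratV_sub h (ratV_smul hA h1)
  have hα₂ : α₂ ∈ F₀ := by
    have h3 := polar_rat hR h4 hv₂
    rwa [polar_smul_left, hp₂, smul_eq_mul, mul_one] at h3
  refine ⟨?_, hα₂⟩
  have : α₁ = (α₁ + α₂ * polar Q r₂ v₁) - α₂ * polar Q r₂ v₁ := by ring
  rw [this]
  exact F₀.sub_mem hA (F₀.mul_mem hα₂ hm)

/-- a long root element of `M` fixing a rational singular vector has a rational commutator space -/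
theorem rat_N [Fintype F] (hyp : Hyp F₀ M) (hQ : (polarBilin Q).Nondegenerate)
    (hR : RatQ Q F₀) (hcard : 9 ≤ Fintype.card ι) {y y₁ w : ι → F} (qy : Q y = 0)
    (qy₁ : Q y₁ = 0) (hyy₁ : polar Q y y₁ = 0) (hx : eichG Q y y₁ ∈ M) (hwr : RatV F₀ w)
    (hw : Q w = 0) (hw0 : w ≠ 0) (h0 : polar Q w y = 0) (h1 : polar Q w y₁ = 0) :
    ∀ v : ι → F, RatV F₀ v → RatV F₀ (polar Q y₁ v • y - polar Q y v • y₁) := by
  have hfix : eichG Q y y₁ • w = (1 : F) • w := by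
    rw [one_smul]
    exact E_fix qy hyy₁ (by rw [polar_comm, h0]) (by rw [polar_comm, h1])
  have hrat := step1 hyp hQ hR hcard hx hwr hw0 hw hfix
  intro v hv
  have h2 := hrat v hv
  rw [one_smul, E_smul_sing qy qy₁ hyy₁] at h2
  have h3 := ratV_sub h2 hv
  rwa [add_sub_cancel_left] at h3

/-- an element of `M` outside the normaliser maps one of the first two rational lines through the
first frame vector to a line with no rational singular vector in its orthogonal -/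
theorem exists_tot [Fintype F] (hyp : Hyp F₀ M) (hQ : (polarBilin Q).Nondegenerate)
    (hR : RatQ Q F₀) (hcard : 9 ≤ Fintype.card ι) (fr : RFrame Q F₀ 4)
    {k : ↥(Cfsg.isometryGroup F (⇑Q))} (hk : k ∈ M) (hkN : ¬ InN F₀ k) :
    Tot Q F₀ (k • fr.e 0) (k • fr.e 1) ∨ Tot Q F₀ (k • fr.e 0) (k • fr.e 2) := by
  by_contra hcon
  rw [not_or] at hcon
  obtain ⟨hc1, hc2⟩ := hcon
  unfold Tot at hc1 hc2
  push Not at hc1 hc2
  obtain ⟨w₁, hw₁r, hw₁, hw₁0, h01, h11⟩ := hc1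
  obtain ⟨w₂, hw₂r, hw₂, hw₂0, h02, h12⟩ := hc2
  apply hkN
  have hf := fr.fr
  obtain ⟨y, hy⟩ : ∃ y, y = k • fr.e 0 := ⟨_, rfl⟩
  obtain ⟨y₁, hy₁⟩ : ∃ y₁, y₁ = k • fr.e 1 := ⟨_, rfl⟩
  obtain ⟨y₂, hy₂⟩ : ∃ y₂, y₂ = k • fr.e 2 := ⟨_, rfl⟩
  rw [← hy] at h01 h02
  rw [← hy₁] at h11
  rw [← hy₂] at h12
  have qy : Q y = 0 := by rw [hy, Q_smul Q, hf.qe]
  have qy₁ : Q y₁ = 0 := by rw [hy₁, Q_smul Q, hf.qe]
  have qy₂ : Q y₂ = 0 := by rw [hy₂, Q_smul Q, hf.qe]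
  have hyy₁ : polar Q y y₁ = 0 := by rw [hy, hy₁, polar_smul_smul Q, hf.ee]
  have hyy₂ : polar Q y y₂ = 0 := by rw [hy, hy₂, polar_smul_smul Q, hf.ee]
  have hx : ∀ i : Fin 4, eichG Q (k • fr.e 0) (k • fr.e i) ∈ M := by
    intro i
    rw [← eichG_conj k (hf.qe 0) (hf.ee 0 i)]
    exact M.mul_mem (M.mul_mem hk (hyp.hR (E_mem_R0 (fr.re 0) (fr.re i) (hf.qe 0) (hf.ee 0 i))))
      (M.inv_mem hk)
  have hx₁ : eichG Q y y₁ ∈ M := by rw [hy, hy₁]; exact hx 1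
  have hx₂ : eichG Q y y₂ ∈ M := by rw [hy, hy₂]; exact hx 2
  have hN₁ := rat_N hyp hQ hR hcard qy qy₁ hyy₁ hx₁ hw₁r hw₁ hw₁0 h01 h11
  have hN₂ := rat_N hyp hQ hR hcard qy qy₂ hyy₂ hx₂ hw₂r hw₂ hw₂0 h02 h12
  have hy0 : y ≠ 0 := by rw [hy]; exact smul_ne_zero_g k (hf_e_ne_zero hf 0)
  obtain ⟨j, hj⟩ : ∃ j, polar Q y (Pi.single j 1) ≠ 0 := by
    by_contra hcon
    push Not at hcon
    exact hy0 (eq_zero_of_perp_single hQ hcon)
  obtain ⟨β, hβ⟩ : ∃ β, β = polar Q y (Pi.single j 1) := ⟨_, rfl⟩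
  rw [← hβ] at hj
  obtain ⟨γ₁, hγ₁⟩ : ∃ γ, γ = polar Q y₁ (Pi.single j 1) := ⟨_, rfl⟩
  obtain ⟨γ₂, hγ₂⟩ : ∃ γ, γ = polar Q y₂ (Pi.single j 1) := ⟨_, rfl⟩
  have hr₁ := hN₁ _ (ratV_single (F₀ := F₀) j)
  have hr₂ := hN₂ _ (ratV_single (F₀ := F₀) j)
  rw [← hβ, ← hγ₁] at hr₁
  rw [← hβ, ← hγ₂] at hr₂
  -- pairings with the images of the opposite frame vectors
  have pyf : ∀ i : Fin 4, i ≠ 0 → polar Q y (k • fr.f i) = 0 := by
    intro i hi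
    rw [hy, polar_smul_smul Q, hf_ef_ne hf (Ne.symm hi)]
  have p11 : polar Q y₁ (k • fr.f 1) = 1 := by rw [hy₁, polar_smul_smul Q, hf_ef_same hf]
  have p12 : polar Q y₁ (k • fr.f 2) = 0 := by
    rw [hy₁, polar_smul_smul Q, hf_ef_ne hf (by decide)]
  have p22 : polar Q y₂ (k • fr.f 2) = 1 := by rw [hy₂, polar_smul_smul Q, hf_ef_same hf]
  have hr₁0 : γ₁ • y - β • y₁ ≠ 0 := by
    intro h
    have h2 : polar Q (γ₁ • y - β • y₁) (k • fr.f 1) = 0 := by rw [h, polar_zero_left]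
    rw [polar_sub_left, polar_smul_left, polar_smul_left, pyf 1 (by decide), p11, smul_zero,
      zero_sub, smul_eq_mul, mul_one, neg_eq_zero] at h2
    exact hj h2
  have hind : ∀ s : F, (γ₂ • y - β • y₂) - s • (γ₁ • y - β • y₁) ≠ 0 := by
    intro s h
    have h2 : polar Q ((γ₂ • y - β • y₂) - s • (γ₁ • y - β • y₁)) (k • fr.f 2) = 0 := by
      rw [h, polar_zero_left]
    simp only [polar_sub_left, polar_smul_left, pyf 2 (by decide), p12, p22, smul_eq_mul,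
      mul_one] at h2
    apply hj
    linear_combination -h2
  obtain ⟨v₁, hv₁, hp₁⟩ := exists_rat_polar_one hQ hR hr₁ hr₁0
  have hr₂0 : γ₂ • y - β • y₂ ≠ 0 := by
    have := hind 0
    rwa [zero_smul, sub_zero] at this
  obtain ⟨v₂, hv₂, hp₂⟩ := exists_rat_polar_one hQ hR hr₂ hr₂0
  have hb₁ : polar Q y₁ v₁ = (γ₁ * polar Q y v₁ - 1) / β := by
    rw [polar_sub_left, polar_smul_left, polar_smul_left, smul_eq_mul, smul_eq_mul] at hp₁
    field_simp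
    linear_combination -hp₁
  have hb₂ : polar Q y₂ v₂ = (γ₂ * polar Q y v₂ - 1) / β := by
    rw [polar_sub_left, polar_smul_left, polar_smul_left, smul_eq_mul, smul_eq_mul] at hp₂
    field_simp
    linear_combination -hp₂
  have e₁ : polar Q y₁ v₁ • y - polar Q y v₁ • y₁ =
      (-β⁻¹) • y + (polar Q y v₁ / β) • (γ₁ • y - β • y₁) := by
    rw [hb₁]
    match_scalars <;> field_simp <;> ring
  have e₂ : polar Q y₂ v₂ • y - polar Q y v₂ • y₂ =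
      (-β⁻¹) • y + (polar Q y v₂ / β) • (γ₂ • y - β • y₂) := by
    rw [hb₂]
    match_scalars <;> field_simp <;> ring
  have hn₁ := hN₁ v₁ hv₁
  have hn₂ := hN₂ v₂ hv₂
  rw [e₁] at hn₁
  rw [e₂] at hn₂
  have hdiff : RatV F₀ ((polar Q y v₁ / β) • (γ₁ • y - β • y₁) +
      (-(polar Q y v₂ / β)) • (γ₂ • y - β • y₂)) := by
    have h3 := ratV_sub hn₁ hn₂
    have h4 : (-β⁻¹) • y + (polar Q y v₁ / β) • (γ₁ • y - β • y₁) -
        ((-β⁻¹) • y + (polar Q y v₂ / β) • (γ₂ • y - β • y₂)) =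
        (polar Q y v₁ / β) • (γ₁ • y - β • y₁) +
          (-(polar Q y v₂ / β)) • (γ₂ • y - β • y₂) := by module
    rwa [h4] at h3
  obtain ⟨hB₁, -⟩ := coeff_rat hQ hR hr₁ hr₂ hr₁0 hind hdiff
  have hz : RatV F₀ (β⁻¹ • y) := by
    have h3 := ratV_sub (ratV_smul hB₁ hr₁) hn₁
    have h4 : (polar Q y v₁ / β) • (γ₁ • y - β • y₁) -
        ((-β⁻¹) • y + (polar Q y v₁ / β) • (γ₁ • y - β • y₁)) = β⁻¹ • y := by module
    rwa [h4] at h3
  have hz0 : β⁻¹ • y ≠ 0 := smul_ne_zero (inv_ne_zero hj) hy0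
  have hkz : k • fr.e 0 = β • (β⁻¹ • y) := by
    rw [smul_smul, mul_inv_cancel₀ hj, one_smul, hy]
  exact maps_rat hyp hQ hR hcard hk (fr.re 0) (hf_e_ne_zero hf 0) (hf.qe 0) hz hz0 hkz

/-! ### the group induced on a four dimensional section -/

variable (M)

/-- the elements of `M` fixing the vectors with a given property -/
def GW (P : (ι → F) → Prop) : Subgroup ↥(Cfsg.isometryGroup F (⇑Q)) where
  carrier := {g | g ∈ M ∧ ∀ v : ι → F, P v → g • v = v}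
  mul_mem' := by
    rintro g h ⟨hg, hg'⟩ ⟨hh, hh'⟩
    refine ⟨M.mul_mem hg hh, fun v hv => ?_⟩
    rw [mul_smul, hh' v hv, hg' v hv]
  one_mem' := ⟨M.one_mem, fun v _ => one_smul _ v⟩
  inv_mem' := by
    rintro g ⟨hg, hg'⟩
    refine ⟨M.inv_mem hg, fun v hv => ?_⟩
    rw [inv_smul_eq_iff, hg' v hv]

variable {M}

theorem mem_GW_iff {P : (ι → F) → Prop} {g : ↥(Cfsg.isometryGroup F (⇑Q))} :
    g ∈ GW M P ↔ g ∈ M ∧ ∀ v : ι → F, P v → g • v = v := Iff.rfl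

theorem entries_mul_inv' (X : GL (Fin 2) F) (l m : Fin 2) :
    (X : Matrix (Fin 2) (Fin 2) F) m 0 * ((X⁻¹ : GL (Fin 2) F) : Matrix (Fin 2) (Fin 2) F) 0 l +
      (X : Matrix (Fin 2) (Fin 2) F) m 1 * ((X⁻¹ : GL (Fin 2) F) : Matrix (Fin 2) (Fin 2) F) 1 l =
      (1 : Matrix (Fin 2) (Fin 2) F) m l := by
  have h : (X : Matrix (Fin 2) (Fin 2) F) * ((X⁻¹ : GL (Fin 2) F) : Matrix (Fin 2) (Fin 2) F) = 1 := by
    rw [← Units.val_mul, mul_inv_cancel, Units.val_one]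
  have h1 := congrFun (congrFun h m) l
  rw [Matrix.mul_apply, Fin.sum_univ_two] at h1
  exact h1

theorem one_comb (b : Fin 2 → (ι → F)) (l : Fin 2) :
    (1 : Matrix (Fin 2) (Fin 2) F) 0 l • b 0 + (1 : Matrix (Fin 2) (Fin 2) F) 1 l • b 1 = b l := by
  fin_cases l
  · show (1 : Matrix (Fin 2) (Fin 2) F) 0 0 • b 0 + (1 : Matrix (Fin 2) (Fin 2) F) 1 0 • b 1 = b 0
    rw [Matrix.one_apply_eq, Matrix.one_apply_ne (by decide), one_smul, zero_smul, add_zero]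
  · show (1 : Matrix (Fin 2) (Fin 2) F) 0 1 • b 0 + (1 : Matrix (Fin 2) (Fin 2) F) 1 1 • b 1 = b 1
    rw [Matrix.one_apply_eq, Matrix.one_apply_ne (by decide), one_smul, zero_smul, zero_add]

variable (M)

/-- the group induced by `GW` on two copies of a plane modulo a fixed vector -/
def indR (P : (ι → F) → Prop) (b : Fin 2 → Fin 2 → (ι → F)) (ρ : ι → F) (hρ : P ρ) :
    Subgroup (GL (Fin 2) F) where
  carrier := {X | ∃ g ∈ GW M P, ∀ l j : Fin 2, ∃ a : F,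
    g • b l j = (X : Matrix (Fin 2) (Fin 2) F) 0 l • b 0 j +
      (X : Matrix (Fin 2) (Fin 2) F) 1 l • b 1 j + a • ρ}
  mul_mem' := by
    rintro X Y ⟨g, hg, hgr⟩ ⟨h, hh, hhr⟩
    have hgρ : g • ρ = ρ := hg.2 ρ hρ
    refine ⟨g * h, (GW M P).mul_mem hg hh, fun l j => ?_⟩
    obtain ⟨a, ha⟩ := hhr l j
    obtain ⟨a0, ha0⟩ := hgr 0 j
    obtain ⟨a1, ha1⟩ := hgr 1 j
    refine ⟨(Y : Matrix (Fin 2) (Fin 2) F) 0 l * a0 + (Y : Matrix (Fin 2) (Fin 2) F) 1 l * a1 + a,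
      ?_⟩
    rw [mul_smul, ha, smul_add_g, smul_add_g, smul_smul_comm, smul_smul_comm, smul_smul_comm,
      ha0, ha1, hgρ, Units.val_mul, Matrix.mul_apply, Matrix.mul_apply, Fin.sum_univ_two,
      Fin.sum_univ_two]
    module
  one_mem' := by
    refine ⟨1, (GW M P).one_mem, fun l j => ⟨0, ?_⟩⟩
    rw [one_smul, Units.val_one, zero_smul, add_zero]
    exact (one_comb (fun l => b l j) l).symm
  inv_mem' := by
    rintro X ⟨g, hg, hgr⟩
    have hgρ : g • ρ = ρ := hg.2 ρ hρ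
    refine ⟨g⁻¹, (GW M P).inv_mem hg, fun l j => ?_⟩
    obtain ⟨a0, ha0⟩ := hgr 0 j
    obtain ⟨a1, ha1⟩ := hgr 1 j
    have m0 := entries_mul_inv' X l 0
    have m1 := entries_mul_inv' X l 1
    refine ⟨-(((X⁻¹ : GL (Fin 2) F) : Matrix (Fin 2) (Fin 2) F) 0 l * a0 +
      ((X⁻¹ : GL (Fin 2) F) : Matrix (Fin 2) (Fin 2) F) 1 l * a1), ?_⟩
    rw [inv_smul_eq_iff, smul_add_g, smul_add_g, smul_smul_comm, smul_smul_comm, smul_smul_comm,
      ha0, ha1, hgρ]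
    have h1 : ((X⁻¹ : GL (Fin 2) F) : Matrix (Fin 2) (Fin 2) F) 0 l •
          ((X : Matrix (Fin 2) (Fin 2) F) 0 0 • b 0 j + (X : Matrix (Fin 2) (Fin 2) F) 1 0 • b 1 j +
            a0 • ρ) +
        ((X⁻¹ : GL (Fin 2) F) : Matrix (Fin 2) (Fin 2) F) 1 l •
          ((X : Matrix (Fin 2) (Fin 2) F) 0 1 • b 0 j + (X : Matrix (Fin 2) (Fin 2) F) 1 1 • b 1 j +
            a1 • ρ) +
        (-(((X⁻¹ : GL (Fin 2) F) : Matrix (Fin 2) (Fin 2) F) 0 l * a0 +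
          ((X⁻¹ : GL (Fin 2) F) : Matrix (Fin 2) (Fin 2) F) 1 l * a1)) • ρ =
        ((X : Matrix (Fin 2) (Fin 2) F) 0 0 * ((X⁻¹ : GL (Fin 2) F) : Matrix (Fin 2) (Fin 2) F) 0 l +
          (X : Matrix (Fin 2) (Fin 2) F) 0 1 *
            ((X⁻¹ : GL (Fin 2) F) : Matrix (Fin 2) (Fin 2) F) 1 l) • b 0 j +
        ((X : Matrix (Fin 2) (Fin 2) F) 1 0 * ((X⁻¹ : GL (Fin 2) F) : Matrix (Fin 2) (Fin 2) F) 0 l +
          (X : Matrix (Fin 2) (Fin 2) F) 1 1 *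
            ((X⁻¹ : GL (Fin 2) F) : Matrix (Fin 2) (Fin 2) F) 1 l) • b 1 j := by
      module
    rw [h1, m0, m1]
    exact (one_comb (fun l => b l j) l).symm

variable {M}

theorem mem_indR_iff {P : (ι → F) → Prop} {b : Fin 2 → Fin 2 → (ι → F)} {ρ : ι → F} (hρ : P ρ)
    {X : GL (Fin 2) F} :
    X ∈ indR M P b ρ hρ ↔ ∃ g ∈ GW M P, ∀ l j : Fin 2, ∃ a : F,
      g • b l j = (X : Matrix (Fin 2) (Fin 2) F) 0 l • b 0 j +
        (X : Matrix (Fin 2) (Fin 2) F) 1 l • b 1 j + a • ρ := Iff.rfl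

theorem mem_indR_of {P : (ι → F) → Prop} {b : Fin 2 → Fin 2 → (ι → F)} {ρ : ι → F} (hρ : P ρ)
    {X : GL (Fin 2) F} {g : ↥(Cfsg.isometryGroup F (⇑Q))} (hg : g ∈ GW M P) (a00 a10 a01 a11 : F)
    (h00 : g • b 0 0 = (X : Matrix (Fin 2) (Fin 2) F) 0 0 • b 0 0 +
      (X : Matrix (Fin 2) (Fin 2) F) 1 0 • b 1 0 + a00 • ρ)
    (h10 : g • b 1 0 = (X : Matrix (Fin 2) (Fin 2) F) 0 1 • b 0 0 +
      (X : Matrix (Fin 2) (Fin 2) F) 1 1 • b 1 0 + a10 • ρ)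
    (h01 : g • b 0 1 = (X : Matrix (Fin 2) (Fin 2) F) 0 0 • b 0 1 +
      (X : Matrix (Fin 2) (Fin 2) F) 1 0 • b 1 1 + a01 • ρ)
    (h11 : g • b 1 1 = (X : Matrix (Fin 2) (Fin 2) F) 0 1 • b 0 1 +
      (X : Matrix (Fin 2) (Fin 2) F) 1 1 • b 1 1 + a11 • ρ) : X ∈ indR M P b ρ hρ := by
  refine ⟨g, hg, fun l j => ?_⟩
  fin_cases l <;> fin_cases j
  exacts [⟨a00, h00⟩, ⟨a01, h01⟩, ⟨a10, h10⟩, ⟨a11, h11⟩]

/-- lower unitriangular matrices -/
noncomputable def lmat (b : F) : GL (Fin 2) F :=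
  Matrix.GeneralLinearGroup.mkOfDetNeZero !![1, 0; b, 1] (by simp [Matrix.det_fin_two])

theorem lmat_val (b : F) :
    ((lmat b : GL (Fin 2) F) : Matrix (Fin 2) (Fin 2) F) = !![1, 0; b, 1] := rfl

theorem cast_fin2_inj {i i' : Fin 2} (h : (((i : ℕ) : F)) = (((i' : ℕ) : F))) : i = i' := by
  fin_cases i <;> fin_cases i' <;> simp at h ⊢

/-- the Plücker coordinates of the image of a rational totally singular line under an element of
`M`, when the image is orthogonal to the first frame vector -/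
theorem plucker (hyp : Hyp F₀ M) (hQ : (polarBilin Q).Nondegenerate) (hR : RatQ Q F₀)
    (fr : RFrame Q F₀ 4) {g : ↥(Cfsg.isometryGroup F (⇑Q))} (hg : g ∈ M) {p q : ι → F}
    (hpr : RatV F₀ p) (hqr : RatV F₀ q) (qp : Q p = 0) (qq : Q q = 0) (hpq : polar Q p q = 0)
    (hp0 : polar Q (g • p) (fr.e 0) = 0) (hq0 : polar Q (g • q) (fr.e 0) = 0) {u v : ι → F}
    (hu : RatV F₀ u) (hv : RatV F₀ v) :
    polar Q (g • p) u * polar Q (g • q) v - polar Q (g • p) v * polar Q (g • q) u ∈ F₀ := by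
  have qgp : Q (g • p) = 0 := by rw [Q_smul Q, qp]
  have qgq : Q (g • q) = 0 := by rw [Q_smul Q, qq]
  have hgpq : polar Q (g • p) (g • q) = 0 := by rw [polar_smul_smul Q, hpq]
  have hy : eichG Q (g • p) (g • q) ∈ M := by
    rw [← eichG_conj g qp hpq]
    exact M.mul_mem (M.mul_mem hg (hyp.hR (E_mem_R0 hpr hqr qp hpq))) (M.inv_mem hg)
  have hfix : eichG Q (g • p) (g • q) • fr.e 0 = (1 : F) • fr.e 0 := by
    rw [one_smul]
    exact E_fix qgp hgpq hp0 hq0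
  have hrat := step1_fr hyp hQ hR fr hy hfix v hv
  rw [one_smul, E_smul_sing qgp qgq hgpq] at hrat
  have h3 := ratV_sub hrat hv
  rw [add_sub_cancel_left] at h3
  have h4 := polar_rat hR h3 hu
  rw [polar_sub_left, polar_smul_left, polar_smul_left, smul_eq_mul, smul_eq_mul] at h4
  convert h4 using 1
  ring

end Cfsg.Agent.H28OrSub
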