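import Mathlib
import Cfsg.Agent.Lib.Helper28.OrSubE

/-!
# Subfield subgroups of orthogonal groups (helper28), part F: the rank one contradiction
-/

set_option autoImplicit false
set_option linter.unusedSectionVars false

namespace Cfsg.Agent.H28OrSub

open QuadraticMap Matrix Cfsg.Agent.Helper2.Orth Cfsg.Agent.Helper28.WittQuad
  Cfsg.Agent.Helper28.OrthRoot

variable {F : Type*} [Field F] {ι : Type} [Fintype ι] [DecidableEq ι]
  {Q : QuadraticForm F (ι → F)} {F₀ : Subfield F}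
  {M : Subgroup ↥(Cfsg.isometryGroup F (⇑Q))}

/-- the upper triangular elements of the induced group are unipotent -/
theorem hut_core (hyp : Hyp F₀ M) (hQ : (polarBilin Q).Nondegenerate) (hR : RatQ Q F₀)
    (fr : RFrame Q F₀ 4) {n' ρ : ι → F} {μz μb : F} (hμb : μb ∉ F₀)
    (e0n' : polar Q (fr.e 0) n' = 1)
    (hρdef : ρ = fr.e 2 - μz • fr.e 0 - μb • fr.e 1) (ρn' : polar Q ρ n' = 0)
    {g : ↥(Cfsg.isometryGroup F (⇑Q))} (hgM : g ∈ M) (hgρ : g • ρ = ρ) {x a₁ a₃ a₄ X01 X11 : F}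
    (h1 : g • fr.e 0 = x • fr.e 0 + a₁ • ρ) (h3 : g • fr.e 1 = x • fr.e 1 + a₃ • ρ)
    (h4 : g • n' = X01 • fr.e 1 + X11 • n' + a₄ • ρ) : x = 1 ∧ X11 = 1 := by
  have hf := fr.fr
  have qe := hf.qe
  have ee := hf.ee
  have ef1 : ∀ i, polar Q (fr.e i) (fr.f i) = 1 := hf_ef_same hf
  have ef : ∀ i j, i ≠ j → polar Q (fr.e i) (fr.f j) = 0 := fun i j hij => hf_ef_ne hf hij
  have ρe : ∀ i, polar Q ρ (fr.e i) = 0 := by
    intro i
    rw [hρdef]
    simp only [polar_sub_left, polar_smul_left, ee, smul_zero, sub_zero]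
  have eρ : ∀ i, polar Q (fr.e i) ρ = 0 := fun i => by rw [polar_comm, ρe]
  have ρρ : polar Q ρ ρ = 0 := by
    have h5 : polar Q ρ ρ = polar Q (fr.e 2 - μz • fr.e 0 - μb • fr.e 1) ρ := by rw [← hρdef]
    rw [h5]
    simp only [polar_sub_left, polar_smul_left, eρ, smul_zero, sub_zero]
  have ρf0 : polar Q ρ (fr.f 0) = -μz := by
    rw [hρdef]
    simp only [polar_sub_left, polar_smul_left, ef1, ef 2 0 (by decide), ef 1 0 (by decide),
      smul_eq_mul, mul_one, mul_zero, sub_zero, zero_sub]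
  have ρf1 : polar Q ρ (fr.f 1) = -μb := by
    rw [hρdef]
    simp only [polar_sub_left, polar_smul_left, ef1, ef 2 1 (by decide), ef 0 1 (by decide),
      smul_eq_mul, mul_one, mul_zero, sub_zero, zero_sub]
  have ρf2 : polar Q ρ (fr.f 2) = 1 := by
    rw [hρdef]
    simp only [polar_sub_left, polar_smul_left, ef1, ef 0 2 (by decide), ef 1 2 (by decide),
      smul_eq_mul, mul_zero, sub_zero]
  have hxX : x * X11 = 1 := by
    have h5 := polar_smul_smul Q g (fr.e 0) n'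
    rw [h1, h4, e0n'] at h5
    simp only [polar_add_left, polar_add_right, polar_smul_left, polar_smul_right, ee, e0n', ρe,
      ρn', ρρ, eρ, smul_eq_mul, mul_zero, add_zero, zero_add, mul_one] at h5
    linear_combination h5
  have hx0 : x ≠ 0 := left_ne_zero_of_mul_eq_one hxX
  have he2 : fr.e 2 = ρ + μz • fr.e 0 + μb • fr.e 1 := by rw [hρdef]; abel
  have h2 : g • fr.e 2 = ρ + μz • (x • fr.e 0 + a₁ • ρ) + μb • (x • fr.e 1 + a₃ • ρ) := by
    conv_lhs => rw [he2]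
    rw [smul_add_g, smul_add_g, smul_smul_comm, smul_smul_comm, hgρ, h1, h3]
  -- coordinates
  have c00 : polar Q (g • fr.e 0) (fr.f 0) = x - a₁ * μz := by
    rw [h1, polar_add_left, polar_smul_left, polar_smul_left, ef1, ρf0, smul_eq_mul, smul_eq_mul]
    ring
  have c01 : polar Q (g • fr.e 0) (fr.f 1) = -(a₁ * μb) := by
    rw [h1, polar_add_left, polar_smul_left, polar_smul_left, ef 0 1 (by decide), ρf1, smul_eq_mul,
      smul_eq_mul]
    ring
  have c02 : polar Q (g • fr.e 0) (fr.f 2) = a₁ := by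
    rw [h1, polar_add_left, polar_smul_left, polar_smul_left, ef 0 2 (by decide), ρf2, smul_eq_mul,
      smul_eq_mul]
    ring
  have c10 : polar Q (g • fr.e 1) (fr.f 0) = -(a₃ * μz) := by
    rw [h3, polar_add_left, polar_smul_left, polar_smul_left, ef 1 0 (by decide), ρf0, smul_eq_mul,
      smul_eq_mul]
    ring
  have c11 : polar Q (g • fr.e 1) (fr.f 1) = x - a₃ * μb := by
    rw [h3, polar_add_left, polar_smul_left, polar_smul_left, ef1, ρf1, smul_eq_mul, smul_eq_mul]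
    ring
  have c12 : polar Q (g • fr.e 1) (fr.f 2) = a₃ := by
    rw [h3, polar_add_left, polar_smul_left, polar_smul_left, ef 1 2 (by decide), ρf2, smul_eq_mul,
      smul_eq_mul]
    ring
  have c20 : polar Q (g • fr.e 2) (fr.f 0) = -μz + μz * (x - a₁ * μz) + μb * (-(a₃ * μz)) := by
    rw [h2]
    simp only [polar_add_left, polar_smul_left, ef1, ef 1 0 (by decide), ρf0, smul_eq_mul]
    ring
  have c21 : polar Q (g • fr.e 2) (fr.f 1) = -μb + μz * (-(a₁ * μb)) + μb * (x - a₃ * μb) := by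
    rw [h2]
    simp only [polar_add_left, polar_smul_left, ef1, ef 0 1 (by decide), ρf1, smul_eq_mul]
    ring
  have c22 : polar Q (g • fr.e 2) (fr.f 2) = 1 + μz * a₁ + μb * a₃ := by
    rw [h2]
    simp only [polar_add_left, polar_smul_left, ef 0 2 (by decide), ef 1 2 (by decide), ρf2,
      smul_eq_mul]
    ring
  -- orthogonality to the first frame vector
  have o0 : polar Q (g • fr.e 0) (fr.e 0) = 0 := by
    rw [h1, polar_add_left, polar_smul_left, polar_smul_left, ee, ρe, smul_zero, smul_zero,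
      add_zero]
  have o1 : polar Q (g • fr.e 1) (fr.e 0) = 0 := by
    rw [h3, polar_add_left, polar_smul_left, polar_smul_left, ee, ρe, smul_zero, smul_zero,
      add_zero]
  have o2 : polar Q (g • fr.e 2) (fr.e 0) = 0 := by
    rw [h2]
    simp only [polar_add_left, polar_smul_left, ee, ρe, smul_zero, add_zero]
  have PA : x * a₃ ∈ F₀ := by
    have := plucker hyp hQ hR fr hgM (fr.re 0) (fr.re 1) (qe 0) (qe 1) (ee 0 1) o0 o1 (fr.rf 0)
      (fr.rf 2)
    rw [c00, c12, c02, c10] at this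
    convert this using 1
    ring
  have PB : x * a₁ ∈ F₀ := by
    have := plucker hyp hQ hR fr hgM (fr.re 0) (fr.re 1) (qe 0) (qe 1) (ee 0 1) o0 o1 (fr.rf 1)
      (fr.rf 2)
    rw [c01, c12, c02, c11] at this
    have h5 := F₀.neg_mem this
    convert h5 using 1
    ring
  have PC : x * a₁ * μb ∈ F₀ := by
    have := plucker hyp hQ hR fr hgM (fr.re 0) (fr.re 2) (qe 0) (qe 2) (ee 0 2) o0 o2 (fr.rf 1)
      (fr.rf 2)
    rw [c01, c22, c02, c21] at this
    have h5 := F₀.neg_mem this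
    convert h5 using 1
    ring
  have PD : x * (1 + a₁ * μz) ∈ F₀ := by
    have := plucker hyp hQ hR fr hgM (fr.re 1) (fr.re 2) (qe 1) (qe 2) (ee 1 2) o1 o2 (fr.rf 1)
      (fr.rf 2)
    rw [c11, c22, c12, c21] at this
    convert this using 1
    ring
  have PE : x * (1 + a₃ * μb) ∈ F₀ := by
    have := plucker hyp hQ hR fr hgM (fr.re 0) (fr.re 2) (qe 0) (qe 2) (ee 0 2) o0 o2 (fr.rf 0)
      (fr.rf 2)
    rw [c00, c22, c02, c20] at this
    convert this using 1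
    ring
  have PF : (1 - x + a₁ * μz + a₃ * μb) * x * μb ∈ F₀ := by
    have := plucker hyp hQ hR fr hgM (fr.re 0) (fr.re 2) (qe 0) (qe 2) (ee 0 2) o0 o2 (fr.rf 0)
      (fr.rf 1)
    rw [c00, c21, c01, c20] at this
    have h5 := F₀.neg_mem this
    convert h5 using 1
    ring
  have ha₁ : a₁ = 0 := (mul_eq_zero.mp (irr_mul PB PC hμb)).resolve_left hx0
  rw [ha₁, zero_mul, add_zero, mul_one] at PD
  have ha₃ : a₃ = 0 := by
    have h5 : x * a₃ * μb ∈ F₀ := by
      have h6 := F₀.sub_mem PE PD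
      convert h6 using 1
      ring
    exact (mul_eq_zero.mp (irr_mul PA h5 hμb)).resolve_left hx0
  rw [ha₁, ha₃, zero_mul, zero_mul, add_zero, add_zero] at PF
  have hx1 : x = 1 := by
    have h5 : (1 - x) * x ∈ F₀ := F₀.mul_mem (F₀.sub_mem F₀.one_mem PD) PD
    have h6 := irr_mul h5 PF hμb
    rcases mul_eq_zero.mp h6 with h7 | h7
    · exact (sub_eq_zero.mp h7).symm
    · exact absurd h7 hx0
  refine ⟨hx1, ?_⟩
  rw [hx1, one_mul] at hxX
  exact hxX

/-- the rank one contradiction for a frame adapted to the centre of a long root element -/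
theorem rank_one_core [Fintype F] (hyp : Hyp F₀ M) (hQ : (polarBilin Q).Nondegenerate)
    (hR : RatQ Q F₀) (fr : RFrame Q F₀ 4) {n n' : ι → F} (qn : Q n = 0) (qn' : Q n' = 0)
    (nn' : polar Q n n' = 0) (e0n : polar Q (fr.e 0) n = 0) (e0n' : polar Q (fr.e 0) n' = 1)
    (e1n : polar Q (fr.e 1) n = -1) (e1n' : polar Q (fr.e 1) n' = 0)
    {x' : ↥(Cfsg.isometryGroup F (⇑Q))} (hx' : x' ∈ M) {D : F} (hD : D ≠ 0)
    (hx0 : x' • fr.e 0 = fr.e 0 + D • n) (hx1 : x' • fr.e 1 = fr.e 1 + D • n')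
    (hxfix : ∀ v : ι → F, polar Q n v = 0 → polar Q n' v = 0 → x' • v = v)
    (hirr : polar Q (fr.e 2) n ∉ F₀) : False := by
  classical
  have hf := fr.fr
  have qe := hf.qe
  have ee := hf.ee
  obtain ⟨μz, hμz⟩ : ∃ μz, μz = polar Q (fr.e 2) n' := ⟨_, rfl⟩
  obtain ⟨μb, hμb⟩ : ∃ μb, μb = -polar Q (fr.e 2) n := ⟨_, rfl⟩
  have e2n : polar Q (fr.e 2) n = -μb := by rw [hμb, neg_neg]
  have e2n' : polar Q (fr.e 2) n' = μz := hμz.symm
  have hμbF : μb ∉ F₀ := by
    intro h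
    apply hirr
    rw [e2n]
    exact F₀.neg_mem h
  obtain ⟨ρ, hρdef⟩ : ∃ ρ, ρ = fr.e 2 - μz • fr.e 0 - μb • fr.e 1 := ⟨_, rfl⟩
  have ρe : ∀ i, polar Q ρ (fr.e i) = 0 := by
    intro i
    rw [hρdef]
    simp only [polar_sub_left, polar_smul_left, ee, smul_zero, sub_zero]
  have eρ : ∀ i, polar Q (fr.e i) ρ = 0 := fun i => by rw [polar_comm, ρe]
  have ρn : polar Q ρ n = 0 := by
    rw [hρdef]
    simp only [polar_sub_left, polar_smul_left, e2n, e0n, e1n, smul_eq_mul]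
    ring
  have ρn' : polar Q ρ n' = 0 := by
    rw [hρdef]
    simp only [polar_sub_left, polar_smul_left, e2n', e0n', e1n', smul_eq_mul]
    ring
  have nρ : polar Q n ρ = 0 := by rw [polar_comm, ρn]
  have n'ρ : polar Q n' ρ = 0 := by rw [polar_comm, ρn']
  have he2 : fr.e 2 = ρ + μz • fr.e 0 + μb • fr.e 1 := by rw [hρdef]; abel
  obtain ⟨P, hP⟩ : ∃ P : (ι → F) → Prop, P = fun v => polar Q (fr.e 0) v = 0 ∧
      polar Q (fr.e 1) v = 0 ∧ polar Q (fr.e 2) v = 0 ∧ polar Q n v = 0 ∧ polar Q n' v = 0 :=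
    ⟨_, rfl⟩
  have hPρ : P ρ := by
    rw [hP]
    exact ⟨eρ 0, eρ 1, eρ 2, nρ, n'ρ⟩
  obtain ⟨b, hb00, hb10, hb01, hb11⟩ : ∃ b : Fin 2 → Fin 2 → (ι → F), b 0 0 = fr.e 0 ∧
      b 1 0 = n ∧ b 0 1 = fr.e 1 ∧ b 1 1 = n' :=
    ⟨fun l j => if l = 0 then (if j = 0 then fr.e 0 else fr.e 1) else (if j = 0 then n else n'),
      by simp, by simp, by simp, by simp⟩
  -- upper triangular elements are unipotent
  have hut : ∀ X ∈ indR M P b ρ hPρ, (X : Matrix (Fin 2) (Fin 2) F) 1 0 = 0 →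
      (X : Matrix (Fin 2) (Fin 2) F) 0 0 = 1 ∧ (X : Matrix (Fin 2) (Fin 2) F) 1 1 = 1 := by
    intro X hX hX10
    obtain ⟨g, hg, hrel⟩ := hX
    have hgρ : g • ρ = ρ := hg.2 ρ hPρ
    obtain ⟨a₁, h1⟩ := hrel 0 0
    obtain ⟨a₃, h3⟩ := hrel 0 1
    obtain ⟨a₄, h4⟩ := hrel 1 1
    rw [hb00, hb10, hX10, zero_smul, add_zero] at h1
    rw [hb01, hb11, hX10, zero_smul, add_zero] at h3
    rw [hb01, hb11] at h4
    exact hut_core hyp hQ hR fr hμbF e0n' hρdef ρn' hg.1 hgρ h1 h3 h4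
  have ha : ∀ X ∈ indR M P b ρ hPρ, (X : Matrix (Fin 2) (Fin 2) F) 1 0 = 0 →
      ∀ Y ∈ indR M P b ρ hPρ, (Y : Matrix (Fin 2) (Fin 2) F) 1 0 ≠ 0 →
      ((Y⁻¹ * X * Y : GL (Fin 2) F) : Matrix (Fin 2) (Fin 2) F) 1 0 = 0 →
      ∃ s : F, (X : Matrix (Fin 2) (Fin 2) F) = s • 1 := by
    intro X hX hX10 Y hY hY10 hZ10
    obtain ⟨hX00, hX11⟩ := hut X hX hX10
    have hZ : Y⁻¹ * X * Y ∈ indR M P b ρ hPρ :=
      Subgroup.mul_mem _ (Subgroup.mul_mem _ (Subgroup.inv_mem _ hY) hX) hY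
    obtain ⟨hZ00, hZ11⟩ := hut _ hZ hZ10
    obtain ⟨Z, hZdef⟩ : ∃ Z : GL (Fin 2) F, Z = Y⁻¹ * X * Y := ⟨_, rfl⟩
    rw [← hZdef] at hZ10 hZ00
    have hXY : X * Y = Y * Z := by rw [hZdef]; group
    have e00 := congrArg (fun t : GL (Fin 2) F => (t : Matrix (Fin 2) (Fin 2) F) 0 0) hXY
    simp only [Units.val_mul, Matrix.mul_apply, Fin.sum_univ_two] at e00
    rw [hX00, hZ00, hZ10, mul_zero, add_zero, one_mul, mul_one] at e00
    have hX01 : (X : Matrix (Fin 2) (Fin 2) F) 0 1 = 0 := by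
      have h1 : (X : Matrix (Fin 2) (Fin 2) F) 0 1 * (Y : Matrix (Fin 2) (Fin 2) F) 1 0 = 0 := by
        linear_combination e00
      exact (mul_eq_zero.mp h1).resolve_right hY10
    refine ⟨1, ?_⟩
    ext i j
    fin_cases i <;> fin_cases j <;> simp [hX00, hX10, hX01, hX11]
  -- a lower triangular element
  have hnn : polar Q n n = 0 := polar_self_of_singular Q qn
  have hn'n' : polar Q n' n' = 0 := polar_self_of_singular Q qn'
  have hd : ∃ Y ∈ indR M P b ρ hPρ, (Y : Matrix (Fin 2) (Fin 2) F) 1 0 ≠ 0 := by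
    refine ⟨lmat D, ?_, ?_⟩
    · have hxG : x' ∈ GW M P := by
        refine ⟨hx', fun v hv => ?_⟩
        rw [hP] at hv
        exact hxfix v hv.2.2.2.1 hv.2.2.2.2
      apply mem_indR_of hPρ hxG 0 0 0 0
      · rw [hb00, hb10, hx0, lmat_val]
        simp
      · rw [hb00, hb10, hxfix n hnn (by rw [polar_comm, nn']), lmat_val]
        simp
      · rw [hb01, hb11, hx1, lmat_val]
        simp
      · rw [hb01, hb11, hxfix n' nn' hn'n', lmat_val]
        simp
    · rw [lmat_val]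
      simpa using hD
  have hcard : 4 ≤ Fintype.card (Fin 2 × Fin 2) := by
    rw [Fintype.card_prod, Fintype.card_fin]
  have hnat : ∀ m : ℕ, (m : F) ∈ F₀ := fun m => natCast_mem F₀ m
  apply Cfsg.Agent.Helper28.Subf.frob_false (indR M P b ρ hPρ) ha (ι := Fin 2 × Fin 2)
    (fun c => -(((c.1 : ℕ) : F) + ((c.2 : ℕ) : F) * μb)) ?_ hcard ?_ hd
  · intro c c' hcc
    simp only at hcc
    have h3 : (((c.1 : ℕ) : F) - ((c'.1 : ℕ) : F)) +
        (((c.2 : ℕ) : F) - ((c'.2 : ℕ) : F)) * μb = 0 := by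
      linear_combination -hcc
    have hβ : ((c.2 : ℕ) : F) - ((c'.2 : ℕ) : F) = 0 := by
      by_contra hne
      apply hμbF
      have h5 : μb = -(((c.1 : ℕ) : F) - ((c'.1 : ℕ) : F)) /
          (((c.2 : ℕ) : F) - ((c'.2 : ℕ) : F)) := by
        field_simp
        linear_combination h3
      rw [h5]
      exact F₀.div_mem (F₀.neg_mem (F₀.sub_mem (hnat _) (hnat _))) (F₀.sub_mem (hnat _) (hnat _))
    rw [hβ, zero_mul, add_zero] at h3
    exact Prod.ext (cast_fin2_inj (sub_eq_zero.mp h3)) (cast_fin2_inj (sub_eq_zero.mp hβ))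
  · intro c
    obtain ⟨s₁, hs₁⟩ : ∃ s₁ : F, s₁ = ((c.1 : ℕ) : F) := ⟨_, rfl⟩
    obtain ⟨s₂, hs₂⟩ : ∃ s₂ : F, s₂ = ((c.2 : ℕ) : F) := ⟨_, rfl⟩
    have hs₁F : s₁ ∈ F₀ := by rw [hs₁]; exact hnat _
    have hs₂F : s₂ ∈ F₀ := by rw [hs₂]; exact hnat _
    rw [← hs₁, ← hs₂]
    obtain ⟨w, hw⟩ : ∃ w, w = s₁ • fr.e 1 + s₂ • fr.e 2 := ⟨_, rfl⟩
    have hwr : RatV F₀ w := by
      rw [hw]
      exact ratV_add (ratV_smul hs₁F (fr.re 1)) (ratV_smul hs₂F (fr.re 2))
    have qw : Q w = 0 := by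
      rw [hw, Q_add' Q, QuadraticMap.map_smul, QuadraticMap.map_smul, qe, qe, polar_smul_left,
        polar_smul_right, ee]
      simp
    have e0w : polar Q (fr.e 0) w = 0 := by
      rw [hw, polar_add_right, polar_smul_right, polar_smul_right, ee, ee, smul_zero, smul_zero,
        add_zero]
    have hgM : eichG Q (fr.e 0) w ∈ M := hyp.hR (E_mem_R0 (fr.re 0) hwr (qe 0) e0w)
    have hgG : eichG Q (fr.e 0) w ∈ GW M P := by
      refine ⟨hgM, fun v hv => ?_⟩
      rw [hP] at hv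
      apply E_fix (qe 0) e0w hv.1
      rw [hw, polar_add_left, polar_smul_left, polar_smul_left, hv.2.1, hv.2.2.1, smul_zero,
        smul_zero, add_zero]
    have wn : polar Q w n = -(s₁ + s₂ * μb) := by
      rw [hw, polar_add_left, polar_smul_left, polar_smul_left, e1n, e2n, smul_eq_mul, smul_eq_mul]
      ring
    have wn' : polar Q w n' = s₂ * μz := by
      rw [hw, polar_add_left, polar_smul_left, polar_smul_left, e1n', e2n', smul_eq_mul,
        smul_eq_mul]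
      ring
    apply mem_indR_of hPρ hgG 0 0 0 (-s₂)
    · rw [hb00, hb10, Cfsg.Agent.Helper28.Subf.xmat_val,
        E_fix (qe 0) e0w (ee 0 0) (by rw [polar_comm, e0w])]
      simp
    · rw [hb00, hb10, Cfsg.Agent.Helper28.Subf.xmat_val, E_smul_sing (qe 0) qw e0w, wn, e0n]
      simp
      module
    · rw [hb01, hb11, Cfsg.Agent.Helper28.Subf.xmat_val,
        E_fix (qe 0) e0w (ee 0 1) (by
          rw [hw, polar_add_left, polar_smul_left, polar_smul_left, ee, ee, smul_zero, smul_zero,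
            add_zero])]
      simp
    · rw [hb01, hb11, Cfsg.Agent.Helper28.Subf.xmat_val, E_smul_sing (qe 0) qw e0w, wn', e0n']
      simp
      rw [hw, he2]
      module

end Cfsg.Agent.H28OrSub
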