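import Mathlib
import Cfsg.Agent.Lib.Helper28.OrSubF

/-!
# Subfield subgroups of orthogonal groups (helper28), part G: overgroups of the rational Eichler
group without irrational root elements normalise the rational structure
-/

set_option autoImplicit false
set_option linter.unusedSectionVars false

namespace Cfsg.Agent.H28OrSub

open QuadraticMap Matrix Cfsg.Agent.Helper2.Orth Cfsg.Agent.Helper28.WittQuad
  Cfsg.Agent.Helper28.OrthRoot

variable {F : Type*} [Field F] {ι : Type} [Fintype ι] [DecidableEq ι]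
  {Q : QuadraticForm F (ι → F)} {F₀ : Subfield F}
  {M : Subgroup ↥(Cfsg.isometryGroup F (⇑Q))}

/-- the frame with the first two pairs exchanged -/
def RFrame.swap01 (fr : RFrame Q F₀ 4) : RFrame Q F₀ 4 where
  e := fr.e ∘ Equiv.swap 0 1
  f := fr.f ∘ Equiv.swap 0 1
  re := fun i => fr.re _
  rf := fun i => fr.rf _
  fr := fr.fr.comp _ (Equiv.injective _)

theorem RFrame.swap01_e0 (fr : RFrame Q F₀ 4) : fr.swap01.e 0 = fr.e 1 := by
  simp [RFrame.swap01]

theorem RFrame.swap01_e1 (fr : RFrame Q F₀ 4) : fr.swap01.e 1 = fr.e 0 := by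
  simp [RFrame.swap01]

theorem RFrame.swap01_e2 (fr : RFrame Q F₀ 4) : fr.swap01.e 2 = fr.e 2 := by
  have : Equiv.swap (0 : Fin 4) 1 2 = 2 := by decide
  simp [RFrame.swap01, this]

/-- a long root element of `M` whose centre is orthogonal to no rational singular vector does not
exist -/
theorem rank_one [Fintype F] (hyp : Hyp F₀ M) (hQ : (polarBilin Q).Nondegenerate)
    (hR : RatQ Q F₀) (hcard : 9 ≤ Fintype.card ι) {y y₁ : ι → F} (qy : Q y = 0)
    (qy₁ : Q y₁ = 0) (hyy₁ : polar Q y y₁ = 0)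
    (hind : ∀ s t : F, s • y + t • y₁ = 0 → s = 0 ∧ t = 0) (hx : eichG Q y y₁ ∈ M)
    (htot : Tot Q F₀ y y₁) : False := by
  have hyy := polar_self_of_singular Q qy
  have hy₁y₁ := polar_self_of_singular Q qy₁
  have hy₁y : polar Q y₁ y = 0 := by rw [polar_comm, hyy₁]
  obtain ⟨fr₀⟩ := exists_frame (F₀ := F₀) hQ hR 4 (by omega)
  have hf₀ := fr₀.fr
  obtain ⟨z, hz⟩ : ∃ z, z = fr₀.e 0 := ⟨_, rfl⟩
  have hzr : RatV F₀ z := by rw [hz]; exact fr₀.re 0
  have qz : Q z = 0 := by rw [hz]; exact hf₀.qe 0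
  have hz0 : z ≠ 0 := by rw [hz]; exact hf_e_ne_zero hf₀ 0
  obtain ⟨α, hα⟩ : ∃ α, α = polar Q z y := ⟨_, rfl⟩
  obtain ⟨α₁, hα₁⟩ : ∃ α₁, α₁ = polar Q z y₁ := ⟨_, rfl⟩
  have hαα : ¬ (α = 0 ∧ α₁ = 0) := by
    rw [hα, hα₁]
    exact htot z hzr qz hz0
  obtain ⟨y', hy'⟩ : ∃ y', y' = α • y₁ - α₁ • y := ⟨_, rfl⟩
  have hy'0 : y' ≠ 0 := by
    intro h
    rw [hy'] at h
    have h2 := hind (-α₁) α (by rw [← h]; module)
    exact hαα ⟨h2.2, neg_eq_zero.mp h2.1⟩
  have zy' : polar Q z y' = 0 := by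
    rw [hy', polar_sub_right, polar_smul_right, polar_smul_right, ← hα, ← hα₁, smul_eq_mul,
      smul_eq_mul]
    ring
  have y'y : polar Q y' y = 0 := by
    rw [hy', polar_sub_left, polar_smul_left, polar_smul_left, hy₁y, hyy, smul_zero, smul_zero,
      sub_zero]
  have y'y₁ : polar Q y' y₁ = 0 := by
    rw [hy', polar_sub_left, polar_smul_left, polar_smul_left, hy₁y₁, hyy₁, smul_zero, smul_zero,
      sub_zero]
  -- a rational singular vector orthogonal to `z` and not to `y'`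
  obtain ⟨b₀, hb₀r, qb₀, zb₀, hb₀y'⟩ : ∃ b₀ : ι → F, RatV F₀ b₀ ∧ Q b₀ = 0 ∧ polar Q z b₀ = 0 ∧
      polar Q b₀ y' ≠ 0 := by
    by_contra hcon
    push Not at hcon
    have hperp : ∀ a : ι → F, RatV F₀ a → polar Q (fr₀.e 0) a = 0 → polar Q a y' = 0 := by
      intro a har ha0
      refine span_perp hR fr₀ {a | polar Q a y' = 0} ?_ ?_ ?_ ?_ ?_ har ha0
      · intro u v hu hv
        simp only [Set.mem_setOf_eq] at hu hv ⊢
        rw [polar_add_left, hu, hv, add_zero]
      · intro c _ u hu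
        simp only [Set.mem_setOf_eq] at hu ⊢
        rw [polar_smul_left, hu, smul_zero]
      · intro i
        exact hcon _ (fr₀.re i) (hf₀.qe i) (by rw [hz]; exact hf₀.ee 0 i)
      · intro i hi
        exact hcon _ (fr₀.rf i) (hf₀.qf i) (by rw [hz]; exact hf_ef_ne hf₀ (Ne.symm hi))
      · intro d hdr hde hdf
        exact hcon _ (ratV_dtype fr₀ hR hdr) (Q_dtype fr₀ hde hdf)
          (by rw [hz]; exact polar_e_dtype fr₀ hde (by decide))
    obtain ⟨t, ht⟩ : ∃ t, t = polar Q (fr₀.f 0) y' := ⟨_, rfl⟩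
    have h1 : y' - t • z = 0 := by
      apply eq_zero_of_perp_single hQ
      intro j
      have hv := ratV_single (F₀ := F₀) j
      have hv' : RatV F₀ ((Pi.single j 1 : ι → F) - polar Q (fr₀.e 0) (Pi.single j 1) • fr₀.f 0) :=
        ratV_sub hv (ratV_smul (polar_rat hR (fr₀.re 0) hv) (fr₀.rf 0))
      have h2 := hperp _ hv' (by
        rw [polar_sub_right, polar_smul_right, hf_ef_same hf₀, smul_eq_mul, mul_one, sub_self])
      rw [polar_sub_left, polar_smul_left, ← ht, smul_eq_mul] at h2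
      rw [polar_sub_left, polar_smul_left, hz, polar_comm Q y', smul_eq_mul]
      linear_combination h2
    have h2 : y' = t • z := sub_eq_zero.mp h1
    have ht0 : t ≠ 0 := by
      intro h
      rw [h, zero_smul] at h2
      exact hy'0 h2
    apply hαα
    constructor
    · have h3 := y'y
      rw [h2, polar_smul_left, ← hα, smul_eq_mul] at h3
      exact (mul_eq_zero.mp h3).resolve_left ht0
    · have h3 := y'y₁
      rw [h2, polar_smul_left, ← hα₁, smul_eq_mul] at h3
      exact (mul_eq_zero.mp h3).resolve_left ht0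
  have hind' : ∀ t : F, b₀ ≠ t • z := by
    intro t h
    apply hb₀y'
    rw [h, polar_smul_left, zy', smul_zero]
  obtain ⟨fr, h0, h1⟩ := exists_frame_adapt2 hQ hR 4 (by omega) (by omega) hzr hb₀r hz0 qz qb₀ zb₀
    hind'
  have e0 : fr.e 0 = z := h0
  have e1 : fr.e 1 = b₀ := h1
  have hf := fr.fr
  obtain ⟨c, hc⟩ : ∃ c, c = polar Q b₀ y := ⟨_, rfl⟩
  obtain ⟨c₁, hc₁⟩ : ∃ c₁, c₁ = polar Q b₀ y₁ := ⟨_, rfl⟩
  obtain ⟨D, hD⟩ : ∃ D, D = α * c₁ - α₁ * c := ⟨_, rfl⟩
  have hD0 : D ≠ 0 := by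
    rw [hD]
    rw [hy', polar_sub_right, polar_smul_right, polar_smul_right, ← hc, ← hc₁, smul_eq_mul,
      smul_eq_mul] at hb₀y'
    exact hb₀y'
  obtain ⟨n, hn⟩ : ∃ n, n = D⁻¹ • (α₁ • y - α • y₁) := ⟨_, rfl⟩
  obtain ⟨n', hn'⟩ : ∃ n', n' = D⁻¹ • (c₁ • y - c • y₁) := ⟨_, rfl⟩
  have hyn : y = α • n' - c • n := by
    rw [hn, hn']
    have h2 : α • D⁻¹ • (c₁ • y - c • y₁) - c • D⁻¹ • (α₁ • y - α • y₁) =
        (D⁻¹ * (α * c₁ - α₁ * c)) • y := by module
    rw [h2, ← hD, inv_mul_cancel₀ hD0, one_smul]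
  have hy₁n : y₁ = α₁ • n' - c₁ • n := by
    rw [hn, hn']
    have h2 : α₁ • D⁻¹ • (c₁ • y - c • y₁) - c₁ • D⁻¹ • (α₁ • y - α • y₁) =
        (D⁻¹ * (α * c₁ - α₁ * c)) • y₁ := by module
    rw [h2, ← hD, inv_mul_cancel₀ hD0, one_smul]
  have qn : Q n = 0 := by
    rw [hn, QuadraticMap.map_smul, sub_eq_add_neg, ← neg_smul, Q_add' Q, QuadraticMap.map_smul,
      QuadraticMap.map_smul, qy, qy₁, polar_smul_left, polar_smul_right, hyy₁]
    simp
  have qn' : Q n' = 0 := by
    rw [hn', QuadraticMap.map_smul, sub_eq_add_neg, ← neg_smul, Q_add' Q, QuadraticMap.map_smul,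
      QuadraticMap.map_smul, qy, qy₁, polar_smul_left, polar_smul_right, hyy₁]
    simp
  have nn' : polar Q n n' = 0 := by
    rw [hn, hn']
    simp only [polar_smul_left, polar_smul_right, polar_sub_left, polar_sub_right, hyy, hy₁y₁,
      hyy₁, hy₁y, smul_zero, sub_zero]
  have e0n : polar Q (fr.e 0) n = 0 := by
    rw [e0, hn, polar_smul_right, polar_sub_right, polar_smul_right, polar_smul_right, ← hα, ← hα₁,
      smul_eq_mul, smul_eq_mul, smul_eq_mul]
    ring
  have e0n' : polar Q (fr.e 0) n' = 1 := by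
    rw [e0, hn', polar_smul_right, polar_sub_right, polar_smul_right, polar_smul_right, ← hα, ← hα₁,
      smul_eq_mul, smul_eq_mul, smul_eq_mul]
    rw [show c₁ * α - c * α₁ = D by rw [hD]; ring, inv_mul_cancel₀ hD0]
  have e1n : polar Q (fr.e 1) n = -1 := by
    rw [e1, hn, polar_smul_right, polar_sub_right, polar_smul_right, polar_smul_right, ← hc, ← hc₁,
      smul_eq_mul, smul_eq_mul, smul_eq_mul]
    rw [show α₁ * c - α * c₁ = -D by rw [hD]; ring, mul_neg, inv_mul_cancel₀ hD0]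
  have e1n' : polar Q (fr.e 1) n' = 0 := by
    rw [e1, hn', polar_smul_right, polar_sub_right, polar_smul_right, polar_smul_right, ← hc, ← hc₁,
      smul_eq_mul, smul_eq_mul, smul_eq_mul]
    ring
  have hx0 : eichG Q y y₁ • fr.e 0 = fr.e 0 + D • n := by
    rw [E_smul_sing qy qy₁ hyy₁, e0, polar_comm Q y₁ z, polar_comm Q y z, ← hα, ← hα₁, hn,
      smul_smul, mul_inv_cancel₀ hD0, one_smul]
  have hx1 : eichG Q y y₁ • fr.e 1 = fr.e 1 + D • n' := by
    rw [E_smul_sing qy qy₁ hyy₁, e1, polar_comm Q y₁ b₀, polar_comm Q y b₀, ← hc, ← hc₁, hn',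
      smul_smul, mul_inv_cancel₀ hD0, one_smul]
  have hxfix : ∀ v : ι → F, polar Q n v = 0 → polar Q n' v = 0 → eichG Q y y₁ • v = v := by
    intro v hv hv'
    apply E_fix qy hyy₁
    · rw [hyn, polar_sub_left, polar_smul_left, polar_smul_left, hv, hv', smul_zero, smul_zero,
        sub_zero]
    · rw [hy₁n, polar_sub_left, polar_smul_left, polar_smul_left, hv, hv', smul_zero, smul_zero,
        sub_zero]
  -- one of the two pairings is irrational
  have hirr : polar Q (fr.e 2) n ∉ F₀ ∨ polar Q (fr.e 2) n' ∉ F₀ := by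
    by_contra hcon
    rw [not_or, not_not, not_not] at hcon
    obtain ⟨hm, hm'⟩ := hcon
    obtain ⟨ρ, hρ⟩ : ∃ ρ, ρ = fr.e 2 - polar Q (fr.e 2) n' • fr.e 0 + polar Q (fr.e 2) n • fr.e 1 :=
      ⟨_, rfl⟩
    have hρr : RatV F₀ ρ := by
      rw [hρ]
      exact ratV_add (ratV_sub (fr.re 2) (ratV_smul hm' (fr.re 0))) (ratV_smul hm (fr.re 1))
    have qρ : Q ρ = 0 := by
      rw [hρ, Q_add' Q, sub_eq_add_neg, ← neg_smul, Q_add' Q, QuadraticMap.map_smul,
        QuadraticMap.map_smul, hf.qe, hf.qe, hf.qe]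
      simp only [polar_add_left, polar_smul_left, polar_smul_right, hf.ee, smul_zero, add_zero]
    have hρ0 : ρ ≠ 0 := by
      intro h
      have h2 : polar Q ρ (fr.f 2) = 1 := by
        rw [hρ, polar_add_left, polar_sub_left, polar_smul_left, polar_smul_left, hf_ef_same hf,
          hf_ef_ne hf (by decide : (0 : Fin 4) ≠ 2), hf_ef_ne hf (by decide : (1 : Fin 4) ≠ 2),
          smul_zero, smul_zero, sub_zero, add_zero]
      rw [h, polar_zero_left] at h2
      exact zero_ne_one h2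
    have ρn : polar Q ρ n = 0 := by
      rw [hρ, polar_add_left, polar_sub_left, polar_smul_left, polar_smul_left, e0n, e1n,
        smul_eq_mul, smul_eq_mul]
      ring
    have ρn' : polar Q ρ n' = 0 := by
      rw [hρ, polar_add_left, polar_sub_left, polar_smul_left, polar_smul_left, e0n', e1n',
        smul_eq_mul, smul_eq_mul]
      ring
    apply htot ρ hρr qρ hρ0
    constructor
    · rw [hyn, polar_sub_right, polar_smul_right, polar_smul_right, ρn, ρn', smul_zero, smul_zero,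
        sub_zero]
    · rw [hy₁n, polar_sub_right, polar_smul_right, polar_smul_right, ρn, ρn', smul_zero,
        smul_zero, sub_zero]
  rcases hirr with hirr | hirr
  · exact rank_one_core hyp hQ hR fr qn qn' nn' e0n e0n' e1n e1n' hx hD0 hx0 hx1 hxfix hirr
  · have s0 := fr.swap01_e0
    have s1 := fr.swap01_e1
    have s2 := fr.swap01_e2
    refine rank_one_core hyp hQ hR fr.swap01 (n := -n') (n' := -n) (x' := eichG Q y y₁) (D := -D)
      ?_ ?_ ?_ ?_ ?_ ?_ ?_ hx (neg_ne_zero.mpr hD0) ?_ ?_ ?_ ?_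
    · rw [QuadraticMap.map_neg, qn']
    · rw [QuadraticMap.map_neg, qn]
    · rw [polar_neg_left, polar_neg_right, polar_comm, nn', neg_zero, neg_zero]
    · rw [s0, polar_neg_right, e1n', neg_zero]
    · rw [s0, polar_neg_right, e1n, neg_neg]
    · rw [s1, polar_neg_right, e0n']
    · rw [s1, polar_neg_right, e0n, neg_zero]
    · rw [s0, hx1, neg_smul_neg]
    · rw [s1, hx0, neg_smul_neg]
    · intro v hv hv'
      rw [polar_neg_left, neg_eq_zero] at hv hv'
      exact hxfix v hv' hv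
    · rw [s2, polar_neg_right]
      intro h
      apply hirr
      have := F₀.neg_mem h
      rwa [neg_neg] at this

end Cfsg.Agent.H28OrSub
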