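import Mathlib
import Cfsg.Agent.Lib.Helper28.OrSubG

/-!
# Subfield subgroups of orthogonal groups (helper28), part H: the maximality of the normaliser of
the rational structure in the commutator subgroup of the isometry group
-/

set_option autoImplicit false
set_option linter.unusedSectionVars false

namespace Cfsg.Agent.H28OrSub

open QuadraticMap Matrix Cfsg.Agent.Helper2.Orth Cfsg.Agent.Helper28.WittQuad
  Cfsg.Agent.Helper28.OrthRoot

variable {F : Type*} [Field F] {ι : Type} [Fintype ι] [DecidableEq ι]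
  {Q : QuadraticForm F (ι → F)} {F₀ : Subfield F}
  {M : Subgroup ↥(Cfsg.isometryGroup F (⇑Q))}

/-- an overgroup of the rational Eichler group without irrational root elements normalises the
rational structure -/
theorem le_N [Fintype F] (hyp : Hyp F₀ M) (hQ : (polarBilin Q).Nondegenerate)
    (hR : RatQ Q F₀) (hcard : 9 ≤ Fintype.card ι) {k : ↥(Cfsg.isometryGroup F (⇑Q))}
    (hk : k ∈ M) : InN F₀ k := by
  by_contra hkN
  obtain ⟨fr⟩ := exists_frame (F₀ := F₀) hQ hR 4 (by omega)
  have hf := fr.fr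
  have key : ∀ i : Fin 4, i ≠ 0 → Tot Q F₀ (k • fr.e 0) (k • fr.e i) → False := by
    intro i hi htot
    refine rank_one hyp hQ hR hcard (y := k • fr.e 0) (y₁ := k • fr.e i) ?_ ?_ ?_ ?_ ?_ htot
    · rw [Q_smul Q, hf.qe]
    · rw [Q_smul Q, hf.qe]
    · rw [polar_smul_smul Q, hf.ee]
    · intro s t hst
      have h1 : k • (s • fr.e 0 + t • fr.e i) = 0 := by
        rw [smul_add_g, smul_smul_comm, smul_smul_comm, hst]
      have h2 : s • fr.e 0 + t • fr.e i = 0 := by
        by_contra hne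
        exact smul_ne_zero_g k hne h1
      constructor
      · have h3 : polar Q (s • fr.e 0 + t • fr.e i) (fr.f 0) = 0 := by rw [h2, polar_zero_left]
        rw [polar_add_left, polar_smul_left, polar_smul_left, hf_ef_same hf, hf_ef_ne hf hi,
          smul_zero, add_zero, smul_eq_mul, mul_one] at h3
        exact h3
      · have h3 : polar Q (s • fr.e 0 + t • fr.e i) (fr.f i) = 0 := by rw [h2, polar_zero_left]
        rw [polar_add_left, polar_smul_left, polar_smul_left, hf_ef_same hf,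
          hf_ef_ne hf (Ne.symm hi), smul_zero, zero_add, smul_eq_mul, mul_one] at h3
        exact h3
    · rw [← eichG_conj k (hf.qe 0) (hf.ee 0 i)]
      exact M.mul_mem (M.mul_mem hk (hyp.hR (E_mem_R0 (fr.re 0) (fr.re i) (hf.qe 0) (hf.ee 0 i))))
        (M.inv_mem hk)
  rcases exists_tot hyp hQ hR hcard fr hk hkN with h | h
  · exact key 1 (by decide) h
  · exact key 2 (by decide) h

/-- the subfield is proper -/
theorem exists_not_mem [Fintype F] (r : ℕ) (hr : r.Prime)
    (hcardF : Fintype.card F = Nat.card F₀ ^ r) : ∃ c : F, c ∉ F₀ := by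
  by_contra hcon
  push Not at hcon
  have htop : F₀ = ⊤ := by
    rw [eq_top_iff]
    intro x _
    exact hcon x
  have h1 : Nat.card F₀ = Fintype.card F := by
    rw [htop, ← Nat.card_eq_fintype_card]
    exact Nat.card_congr (Subfield.topEquiv (K := F)).toEquiv
  rw [h1] at hcardF
  have h2 : 1 < Fintype.card F := Fintype.one_lt_card
  have h3 : Fintype.card F ^ 1 < Fintype.card F ^ r := Nat.pow_lt_pow_right h2 hr.one_lt
  rw [pow_one] at h3
  omega

/-- the normaliser of the rational structure is maximal in the commutator subgroup of the isometry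
group -/
theorem max_core [Fintype F] (hQ : (polarBilin Q).Nondegenerate) (hR : RatQ Q F₀)
    (hcard : 9 ≤ Fintype.card ι) (r : ℕ) (hr : r.Prime)
    (hcardF : Fintype.card F = Nat.card F₀ ^ r) :
    Cfsg.Geo.IsMaximalIn (Cfsg.Omega F (⇑Q)) (N0 Q F₀ ⊓ Cfsg.Omega F (⇑Q)) := by
  obtain ⟨fr⟩ := exists_frame (F₀ := F₀) hQ hR 4 (by omega)
  have hf := fr.fr
  have hf2 : HypFrame Q (fr.e ∘ Fin.castLE (by omega : 2 ≤ 4)) (fr.f ∘ Fin.castLE (by omega : 2 ≤ 4)) :=
    hf.comp _ (Fin.castLE_injective _)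
  have hΩ : Cfsg.Omega F (⇑Q) = eichGroup Q :=
    Omega_eq_eichGroup hQ (Or.inr (by omega)) hf2
  rw [hΩ]
  have hR0 : R0 Q F₀ ≤ N0 Q F₀ ⊓ eichGroup Q := le_inf (R0_le_N0 hR) R0_le_eichGroup
  refine ⟨lt_of_le_of_ne inf_le_right ?_, fun M hHM hMΩ => ?_⟩
  · intro heq
    obtain ⟨c, hc⟩ := exists_not_mem (F₀ := F₀) r hr hcardF
    have e01 : polar Q (fr.e 0) (c • fr.e 1) = 0 := by
      rw [polar_smul_right, hf.ee, smul_zero]
    have hg : eichG Q (fr.e 0) (c • fr.e 1) ∈ N0 Q F₀ ⊓ eichGroup Q := by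
      rw [heq]
      exact eichG_mem (hf.qe 0) e01
    obtain ⟨s, hs0, hs⟩ := hg.1
    have q1 : Q (c • fr.e 1) = 0 := by rw [QuadraticMap.map_smul, hf.qe, smul_zero]
    have h0 := hs _ (fr.re 0)
    rw [E_fix (hf.qe 0) e01 (hf.ee 0 0) (by rw [polar_smul_left, hf.ee, smul_zero])] at h0
    have hsF : s ∈ F₀ := mem_of_ratV_smul (fr.re 0) (hf_e_ne_zero hf 0) h0
    have h1 := hs _ (fr.rf 1)
    rw [E_smul_sing (hf.qe 0) q1 e01, polar_smul_left, hf_ef_same hf,
      hf_ef_ne hf (by decide : (0 : Fin 4) ≠ 1), zero_smul, sub_zero, smul_eq_mul, mul_one] at h1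
    have h2 := ratV_sub (ratV_smul (F₀.inv_mem hsF) h1) (fr.rf 1)
    have h3 : s⁻¹ • s • (fr.f 1 + c • fr.e 0) - fr.f 1 = c • fr.e 0 := by
      rw [smul_smul, inv_mul_cancel₀ hs0, one_smul, add_sub_cancel_left]
    rw [h3] at h2
    exact hc (mem_of_ratV_smul (fr.re 0) (hf_e_ne_zero hf 0) h2)
  · have hRM : R0 Q F₀ ≤ M := hR0.trans hHM
    rcases dichotomy hQ hR hcard r hr hcardF hRM with h | h
    · right
      exact le_antisymm hMΩ h
    · left
      apply le_antisymm _ hHM
      intro k hk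
      exact ⟨le_N h hQ hR hcard hk, hMΩ hk⟩

end Cfsg.Agent.H28OrSub
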