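import Mathlib
import Cfsg.Prelude.Def_GeometricClasses
import Cfsg.Agent.Lib.Helper28.SuGen

/-!
# The symplectic subfield subgroup inside the special unitary group (helper28)
-/

set_option autoImplicit false

namespace Cfsg.Agent.Helper28.SpInSU

open Cfsg Matrix Cfsg.Agent.Helper28 Cfsg.Agent.Helper11.Herm Cfsg.Agent.Helper28.SuGen
open Cfsg.Agent.Helper11

section fixfield

variable {F : Type*} [Field F] [Fintype F]

theorem fix_iff {q : ℕ} (hF : Fintype.card F = q ^ 2) (F₀ : Subfield F)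
    (hcard : Fintype.card F = Nat.card F₀ ^ 2) (x : F) : x ^ q = x ↔ x ∈ F₀ := by
  classical
  have hq2 := two_le_q hF
  have hq : Nat.card F₀ = q := by
    have : Nat.card F₀ ^ 2 = q ^ 2 := by rw [← hcard, hF]
    exact Nat.pow_left_injective (by norm_num) this
  have hmem : ∀ y : F, y ∈ F₀ → y ^ q = y := by
    intro y hy
    have h1 := FiniteField.pow_card (⟨y, hy⟩ : F₀)
    rw [← Nat.card_eq_fintype_card, hq] at h1
    have h2 := congrArg (Subtype.val) h1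
    simpa using h2
  constructor
  · intro hx
    let S : Finset F := Finset.univ.filter (fun y => y ^ q = y)
    let T : Finset F := Finset.univ.filter (fun y => y ∈ F₀)
    have hTS : T ⊆ S := by
      intro y hy
      simp only [T, Finset.mem_filter, Finset.mem_univ, true_and] at hy
      simp only [S, Finset.mem_filter, Finset.mem_univ, true_and]
      exact hmem y hy
    have hT : T.card = q := by
      rw [← hq, Nat.card_eq_fintype_card, Fintype.card_subtype]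
    have hS : S.card ≤ q := by
      have hne : (Polynomial.X ^ q - Polynomial.X : Polynomial F) ≠ 0 :=
        FiniteField.X_pow_card_sub_X_ne_zero F (by omega)
      have hsub : S ⊆ (Polynomial.X ^ q - Polynomial.X : Polynomial F).roots.toFinset := by
        intro y hy
        simp only [S, Finset.mem_filter, Finset.mem_univ, true_and] at hy
        rw [Multiset.mem_toFinset, Polynomial.mem_roots hne]
        simp [hy]
      calc S.card ≤ ((Polynomial.X ^ q - Polynomial.X : Polynomial F).roots.toFinset).card :=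
            Finset.card_le_card hsub
        _ ≤ Multiset.card (Polynomial.X ^ q - Polynomial.X : Polynomial F).roots :=
            Multiset.toFinset_card_le _
        _ ≤ (Polynomial.X ^ q - Polynomial.X : Polynomial F).natDegree :=
            Polynomial.card_roots' _
        _ = q := FiniteField.X_pow_card_sub_X_natDegree_eq F (by omega)
    have hST : T = S := Finset.eq_of_subset_of_card_le hTS (by rw [hT]; exact hS)
    have : x ∈ S := by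
      simp only [S, Finset.mem_filter, Finset.mem_univ, true_and]
      exact hx
    rw [← hST] at this
    simpa [T] using this
  · exact hmem x

end fixfield

section main

variable {F : Type*} [Field F] {ι : Type} [Fintype ι] [DecidableEq ι] (φ : F →+* F)
  (F₀ : Subfield F) (ζ : F) (P : GL ι F)

/-- rational vectors -/
def Rat (u : ι → F) : Prop := ∀ i, u i ∈ F₀

theorem rat_zero : Rat F₀ (0 : ι → F) := fun _ => F₀.zero_mem

theorem rat_add {u v : ι → F} (hu : Rat F₀ u) (hv : Rat F₀ v) : Rat F₀ (u + v) :=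
  fun i => F₀.add_mem (hu i) (hv i)

theorem rat_sub {u v : ι → F} (hu : Rat F₀ u) (hv : Rat F₀ v) : Rat F₀ (u - v) :=
  fun i => F₀.sub_mem (hu i) (hv i)

theorem rat_neg {u : ι → F} (hu : Rat F₀ u) : Rat F₀ (-u) :=
  fun i => F₀.neg_mem (hu i)

theorem rat_smul {c : F} (hc : c ∈ F₀) {u : ι → F} (hu : Rat F₀ u) : Rat F₀ (c • u) :=
  fun i => F₀.mul_mem hc (hu i)

theorem rat_single (j : ι) : Rat F₀ (Pi.single j (1 : F)) := by
  intro i
  by_cases h : i = j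
  · subst h
    rw [Pi.single_eq_same]
    exact F₀.one_mem
  · rw [Pi.single_eq_of_ne h]
    exact F₀.zero_mem

/-- the twisted form `ζ h(Pu, Pv)` -/
def Bz (u v : ι → F) : F := ζ * hdot φ ((P : Matrix ι ι F) *ᵥ u) ((P : Matrix ι ι F) *ᵥ v)

theorem Bz_add_left (u v w : ι → F) : Bz φ ζ P (u + v) w = Bz φ ζ P u w + Bz φ ζ P v w := by
  unfold Bz
  rw [Matrix.mulVec_add, hdot_add_left, mul_add]

theorem Bz_add_right (u v w : ι → F) : Bz φ ζ P u (v + w) = Bz φ ζ P u v + Bz φ ζ P u w := by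
  unfold Bz
  rw [Matrix.mulVec_add, hdot_add_right, mul_add]

theorem Bz_smul_left (c : F) (u w : ι → F) : Bz φ ζ P (c • u) w = c * Bz φ ζ P u w := by
  unfold Bz
  rw [Matrix.mulVec_smul, hdot_smul_left]
  ring

theorem Bz_smul_right (c : F) (u w : ι → F) : Bz φ ζ P u (c • w) = φ c * Bz φ ζ P u w := by
  unfold Bz
  rw [Matrix.mulVec_smul, hdot_smul_right]
  ring

theorem Bz_zero_left (w : ι → F) : Bz φ ζ P 0 w = 0 := by
  unfold Bz
  rw [Matrix.mulVec_zero, hdot_zero_left, mul_zero]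

theorem Bz_zero_right (w : ι → F) : Bz φ ζ P w 0 = 0 := by
  unfold Bz
  rw [Matrix.mulVec_zero, hdot_zero_right, mul_zero]

theorem Bz_neg_left (u w : ι → F) : Bz φ ζ P (-u) w = - Bz φ ζ P u w := by
  have := Bz_smul_left φ ζ P (-1) u w
  rwa [neg_one_smul, neg_one_mul] at this

theorem Bz_neg_right (u w : ι → F) : Bz φ ζ P u (-w) = - Bz φ ζ P u w := by
  have := Bz_smul_right φ ζ P (-1) u w
  rwa [neg_one_smul, map_neg, map_one, neg_one_mul] at this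

theorem Bz_sub_left (u v w : ι → F) : Bz φ ζ P (u - v) w = Bz φ ζ P u w - Bz φ ζ P v w := by
  rw [sub_eq_add_neg, Bz_add_left, Bz_neg_left, ← sub_eq_add_neg]

theorem Bz_sub_right (u v w : ι → F) : Bz φ ζ P u (v - w) = Bz φ ζ P u v - Bz φ ζ P u w := by
  rw [sub_eq_add_neg, Bz_add_right, Bz_neg_right, ← sub_eq_add_neg]

variable (hfix : ∀ x, φ x = x ↔ x ∈ F₀)
  (hP : ∀ u v : ι → F, Rat F₀ u → Rat F₀ v → Bz φ ζ P u v ∈ F₀)
  (halt : ∀ u : ι → F, Rat F₀ u →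
    hdot φ ((P : Matrix ι ι F) *ᵥ u) ((P : Matrix ι ι F) *ᵥ u) = 0)

include hfix in
theorem Bz_smul_right_rat {c : F} (hc : c ∈ F₀) (u w : ι → F) :
    Bz φ ζ P u (c • w) = c * Bz φ ζ P u w := by
  rw [Bz_smul_right, (hfix c).mpr hc]

include halt in
theorem Bz_self {u : ι → F} (hu : Rat F₀ u) : Bz φ ζ P u u = 0 := by
  unfold Bz
  rw [halt u hu, mul_zero]

include halt in
theorem Bz_skew {u v : ι → F} (hu : Rat F₀ u) (hv : Rat F₀ v) :
    Bz φ ζ P u v = - Bz φ ζ P v u := by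
  have h := Bz_self φ F₀ ζ P halt (rat_add F₀ hu hv)
  rw [Bz_add_left, Bz_add_right, Bz_add_right, Bz_self φ F₀ ζ P halt hu,
    Bz_self φ F₀ ζ P halt hv] at h
  linear_combination h

theorem P_inv_mulVec (x : ι → F) :
    (P : Matrix ι ι F) *ᵥ (((P⁻¹ : GL ι F) : Matrix ι ι F) *ᵥ x) = x :=
  inv_mulVec_mulVec P x

theorem P_mulVec_inj {u v : ι → F}
    (h : (P : Matrix ι ι F) *ᵥ u = (P : Matrix ι ι F) *ᵥ v) : u = v := by
  have := congrArg (fun x => ((P⁻¹ : GL ι F) : Matrix ι ι F) *ᵥ x) h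
  simpa [mulVec_inv_mulVec] using this

/-! ### rational and irrational parts -/

variable (ε : F)

/-- the irrational part -/
def im (x : ι → F) : ι → F := fun i => (x i - φ (x i)) / (ε - φ ε)

/-- the rational part -/
def re (x : ι → F) : ι → F := fun i => x i - ε * im φ ε x i

theorem re_add_im (x : ι → F) : re φ ε x + ε • im φ ε x = x := by
  funext i
  simp only [re, Pi.add_apply, Pi.smul_apply, smul_eq_mul]
  ring

variable (hφφ : ∀ x, φ (φ x) = x) (hε : φ ε ≠ ε)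

include hfix hφφ hε in
theorem rat_im (x : ι → F) : Rat F₀ (im φ ε x) := by
  intro i
  rw [← hfix]
  unfold im
  have h1 : ε - φ ε ≠ 0 := fun h => hε (sub_eq_zero.mp h).symm
  have h2 : φ ε - ε ≠ 0 := fun h => hε (sub_eq_zero.mp h)
  rw [map_div₀, map_sub, map_sub, hφφ, hφφ, div_eq_div_iff h2 h1]
  ring

include hfix hφφ hε in
theorem rat_re (x : ι → F) : Rat F₀ (re φ ε x) := by
  intro i
  rw [← hfix]
  unfold re
  rw [map_sub, map_mul, (hfix _).mpr (rat_im φ F₀ hfix ε hφφ hε x i)]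
  unfold im
  have h1 : ε - φ ε ≠ 0 := fun h => hε (sub_eq_zero.mp h).symm
  field_simp
  ring

variable (hζ0 : ζ ≠ 0)

include hfix hφφ hε hζ0 in
/-- nondegeneracy against rational vectors -/
theorem exists_Bz_ne (u : ι → F) (hu : u ≠ 0) : ∃ a, Rat F₀ a ∧ Bz φ ζ P u a ≠ 0 := by
  by_contra hcon
  push Not at hcon
  have hPu : (P : Matrix ι ι F) *ᵥ u ≠ 0 := by
    intro h0
    apply hu
    apply P_mulVec_inj P
    rw [h0, Matrix.mulVec_zero]
  apply hPu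
  apply eq_zero_of_hdot_right φ
  intro y
  have hy : y = (P : Matrix ι ι F) *ᵥ (((P⁻¹ : GL ι F) : Matrix ι ι F) *ᵥ y) :=
    (P_inv_mulVec P y).symm
  set x' := ((P⁻¹ : GL ι F) : Matrix ι ι F) *ᵥ y with hx'
  have h1 := hcon (re φ ε x') (rat_re φ F₀ hfix ε hφφ hε x')
  have h2 := hcon (im φ ε x') (rat_im φ F₀ hfix ε hφφ hε x')
  have h3 : Bz φ ζ P u x' = 0 := by
    rw [← re_add_im φ ε x', Bz_add_right, Bz_smul_right, h1, h2]
    ring
  unfold Bz at h3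
  rw [← hy] at h3
  rcases mul_eq_zero.mp h3 with h | h
  · exact absurd h hζ0
  · exact h

include hfix hφφ hε hζ0 hP halt in
/-- separation: a rational vector orthogonal to `u` but not to `v` -/
theorem exists_sep (u v : ι → F) (hu : Rat F₀ u) (hv : Rat F₀ v)
    (hne : ∀ t ∈ F₀, v ≠ t • u) :
    ∃ a, Rat F₀ a ∧ Bz φ ζ P u a = 0 ∧ Bz φ ζ P v a ≠ 0 := by
  have hv0 : v ≠ 0 := by
    intro h0
    apply hne 0 F₀.zero_mem
    rw [h0, zero_smul]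
  obtain ⟨a₁, ha₁, hva₁⟩ := exists_Bz_ne φ F₀ ζ P hfix ε hφφ hε hζ0 v hv0
  by_cases hua₁ : Bz φ ζ P u a₁ = 0
  · exact ⟨a₁, ha₁, hua₁, hva₁⟩
  set t := Bz φ ζ P v a₁ / Bz φ ζ P u a₁ with ht
  have htm : t ∈ F₀ := div_mem (hP v a₁ hv ha₁) (hP u a₁ hu ha₁)
  have hv' : v - t • u ≠ 0 := by
    intro h0
    exact hne t htm (sub_eq_zero.mp h0)
  obtain ⟨a₂, ha₂, hva₂⟩ := exists_Bz_ne φ F₀ ζ P hfix ε hφφ hε hζ0 _ hv'
  set s := Bz φ ζ P u a₂ / Bz φ ζ P u a₁ with hs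
  have hsm : s ∈ F₀ := div_mem (hP u a₂ hu ha₂) (hP u a₁ hu ha₁)
  refine ⟨a₂ - s • a₁, rat_sub F₀ ha₂ (rat_smul F₀ hsm ha₁), ?_, ?_⟩
  · rw [Bz_sub_right, Bz_smul_right_rat φ F₀ ζ P hfix hsm, hs]
    field_simp
    ring
  · rw [Bz_sub_right, Bz_smul_right_rat φ F₀ ζ P hfix hsm]
    rw [Bz_sub_left, Bz_smul_left] at hva₂
    intro h0
    apply hva₂
    rw [hs] at h0
    rw [ht]
    field_simp
    field_simp at h0
    linear_combination h0

/-! ### membership in the subfield subgroup -/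

/-- the conjugate `P⁻¹ g P` acting on a vector -/
def cj (g : GL ι F) (u : ι → F) : ι → F :=
  ((P⁻¹ : GL ι F) : Matrix ι ι F) *ᵥ ((g : Matrix ι ι F) *ᵥ ((P : Matrix ι ι F) *ᵥ u))

theorem cj_eq (g : GL ι F) (u : ι → F) :
    cj P g u = ((P⁻¹ * g * P : GL ι F) : Matrix ι ι F) *ᵥ u := by
  unfold cj
  rw [Units.val_mul, Units.val_mul, ← Matrix.mulVec_mulVec, ← Matrix.mulVec_mulVec]

theorem P_cj (g : GL ι F) (u : ι → F) :
    (P : Matrix ι ι F) *ᵥ cj P g u = (g : Matrix ι ι F) *ᵥ ((P : Matrix ι ι F) *ᵥ u) := by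
  unfold cj
  rw [P_inv_mulVec]

theorem mem_subfield_of_rat (g : GL ι F) (c : F) (hc : c ≠ 0)
    (h : ∀ j, Rat F₀ (c • cj P g (Pi.single j 1))) :
    g ∈ Cfsg.Geo.subfieldSubgroup F₀ P := by
  set x : GL ι F := P⁻¹ * g * P with hx
  set A : Matrix ι ι F := c • (x : Matrix ι ι F) with hA
  have hAij : ∀ i j, A i j ∈ F₀ := by
    intro i j
    have h1 := h j i
    rw [cj_eq, ← hx] at h1
    simpa [hA, Matrix.mulVec_single_one] using h1
  let A₀ : Matrix ι ι F₀ := Matrix.of fun i j => ⟨A i j, hAij i j⟩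
  have hA₀ : A₀.map F₀.subtype = A := by
    ext i j
    rfl
  have hdetx : (x : Matrix ι ι F).det ≠ 0 := by
    have := (Matrix.isUnit_iff_isUnit_det _).mp x.isUnit
    exact this.ne_zero
  have hdetA : A.det ≠ 0 := by
    rw [hA, Matrix.det_smul]
    exact mul_ne_zero (pow_ne_zero _ hc) hdetx
  have hdetA₀ : A₀.det ≠ 0 := by
    intro h0
    apply hdetA
    rw [← hA₀, ← RingHom.mapMatrix_apply, ← RingHom.map_det, h0, map_zero]
  let r : GL ι F₀ := Matrix.GeneralLinearGroup.mkOfDetNeZero A₀ hdetA₀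
  let r' : GL ι F := Matrix.GeneralLinearGroup.map (F₀.subtype : F₀ →+* F) r
  have hr' : (r' : Matrix ι ι F) = A := by
    ext i j
    rfl
  let s : GL ι F := Units.map (Matrix.scalar ι : F →+* Matrix ι ι F).toMonoidHom
    (Units.mk0 c⁻¹ (inv_ne_zero hc))
  have hs : s ∈ Cfsg.Geo.scalars ι F := ⟨_, rfl⟩
  have hsv : (s : Matrix ι ι F) = c⁻¹ • (1 : Matrix ι ι F) := by
    show Matrix.scalar ι c⁻¹ = _
    rw [Matrix.smul_one_eq_diagonal]
    rfl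
  have hrs : r' * s = x := by
    apply Units.ext
    rw [Units.val_mul, hr', hsv, hA, Matrix.smul_mul, Matrix.mul_smul, Matrix.mul_one, smul_smul,
      mul_inv_cancel₀ hc, one_smul]
  unfold Cfsg.Geo.subfieldSubgroup
  rw [Subgroup.mem_map]
  refine ⟨r' * s, Subgroup.mul_mem_sup ⟨r, rfl⟩ hs, ?_⟩
  rw [hrs, hx]
  simp [MulAut.conj_apply, mul_assoc]

theorem rat_of_mem_subfield (g : GL ι F) (hg : g ∈ Cfsg.Geo.subfieldSubgroup F₀ P) :
    ∃ c : F, c ≠ 0 ∧ ∀ u, Rat F₀ u → Rat F₀ (c • cj P g u) := by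
  unfold Cfsg.Geo.subfieldSubgroup at hg
  rw [Subgroup.mem_map] at hg
  obtain ⟨x, hx, rfl⟩ := hg
  have hx' : x ∈ (((Matrix.GeneralLinearGroup.map (F₀.subtype : F₀ →+* F)).range ⊔
      Cfsg.Geo.scalars ι F : Subgroup (GL ι F)) : Set (GL ι F)) := hx
  rw [Subgroup.mul_normal] at hx'
  obtain ⟨r', ⟨r, rfl⟩, s, hs, rfl⟩ := Set.mem_mul.mp hx'
  have hs' : s ∈ Cfsg.Geo.scalars ι F := hs
  rw [Cfsg.Geo.mem_scalars_iff] at hs'
  obtain ⟨cu, hcu⟩ := hs'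
  refine ⟨(cu : F)⁻¹, inv_ne_zero cu.ne_zero, ?_⟩
  intro u hu
  have h1 : P⁻¹ * ((MulAut.conj P).toMonoidHom
      (Matrix.GeneralLinearGroup.map (F₀.subtype : F₀ →+* F) r * s)) * P =
      Matrix.GeneralLinearGroup.map (F₀.subtype : F₀ →+* F) r * s := by
    simp [MulAut.conj_apply, mul_assoc]
  rw [cj_eq, h1, Units.val_mul, hcu, Matrix.mul_smul, Matrix.mul_one, Matrix.smul_mulVec,
    smul_smul, inv_mul_cancel₀ cu.ne_zero, one_smul]
  intro i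
  rw [Matrix.mulVec, dotProduct]
  apply F₀.sum_mem
  intro j _
  apply F₀.mul_mem _ (hu j)
  rw [Matrix.GeneralLinearGroup.map_apply]
  exact (r i j).2

/-- projectively rational vectors -/
def PR (x : ι → F) : Prop := ∃ μ : F, ∀ i, φ (x i) = μ * x i

include hfix in
theorem PR_smul_rat (c : F) {r : ι → F} (hr : Rat F₀ r) : PR φ (c • r) := by
  by_cases hc : c = 0
  · refine ⟨0, fun i => ?_⟩
    rw [hc, zero_smul, Pi.zero_apply, map_zero, mul_zero]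
  · refine ⟨φ c / c, fun i => ?_⟩
    rw [Pi.smul_apply, smul_eq_mul, map_mul, (hfix _).mpr (hr i)]
    field_simp

include hfix in
theorem mem_subfield_of_PR [Nonempty ι] (g : GL ι F)
    (h : ∀ u, Rat F₀ u → PR φ (cj P g u)) : g ∈ Cfsg.Geo.subfieldSubgroup F₀ P := by
  set x : GL ι F := P⁻¹ * g * P with hx
  have hcol : ∀ (u : ι → F) (i : ι), cj P g u i = ((x : Matrix ι ι F) *ᵥ u) i := by
    intro u i
    rw [cj_eq]
  have h1 : ∀ j, ∃ μ : F, ∀ i, φ ((x : Matrix ι ι F) i j) = μ * (x : Matrix ι ι F) i j := by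
    intro j
    obtain ⟨μ, hμ⟩ := h _ (rat_single F₀ j)
    refine ⟨μ, fun i => ?_⟩
    have := hμ i
    rw [hcol] at this
    simpa [Matrix.mulVec_single_one] using this
  choose μ hμ using h1
  have hxinj : ∀ v : ι → F, (x : Matrix ι ι F) *ᵥ v = 0 → v = 0 := by
    intro v hv
    have := mulVec_inv_mulVec x v
    rw [hv, Matrix.mulVec_zero] at this
    exact this.symm
  have h2 : ∀ j k, μ j = μ k := by
    intro j k
    by_cases hjk : j = k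
    · rw [hjk]
    obtain ⟨ν, hν⟩ := h _ (rat_add F₀ (rat_single F₀ j) (rat_single F₀ k))
    have hν' : ∀ i, μ j * (x : Matrix ι ι F) i j + μ k * (x : Matrix ι ι F) i k =
        ν * ((x : Matrix ι ι F) i j + (x : Matrix ι ι F) i k) := by
      intro i
      have := hν i
      rw [hcol, Matrix.mulVec_add] at this
      simp only [Pi.add_apply, Matrix.mulVec_single_one, Matrix.col_apply] at this
      rw [map_add, hμ, hμ] at this
      exact this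
    have hv0 := hxinj ((μ j - ν) • Pi.single j 1 + (μ k - ν) • Pi.single k 1) (by
      funext i
      rw [Matrix.mulVec_add, Matrix.mulVec_smul, Matrix.mulVec_smul]
      simp only [Pi.add_apply, Pi.smul_apply, Matrix.mulVec_single_one, Matrix.col_apply,
        smul_eq_mul, Pi.zero_apply]
      linear_combination hν' i)
    have e1 := congrFun hv0 j
    have e2 := congrFun hv0 k
    simp only [Pi.add_apply, Pi.smul_apply, Pi.single_eq_same, smul_eq_mul, mul_one,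
      Pi.zero_apply] at e1 e2
    rw [Pi.single_eq_of_ne hjk, mul_zero, add_zero] at e1
    rw [Pi.single_eq_of_ne (Ne.symm hjk), mul_zero, zero_add] at e2
    rw [sub_eq_zero.mp e1, sub_eq_zero.mp e2]
  have h3 : ∃ i₀ j₀, (x : Matrix ι ι F) i₀ j₀ ≠ 0 := by
    by_contra hcon
    push Not at hcon
    have hx0 : (x : Matrix ι ι F) = 0 := by
      ext i j
      exact hcon i j
    have h1 : (x : Matrix ι ι F) * ((x⁻¹ : GL ι F) : Matrix ι ι F) = 1 := by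
      rw [← Units.val_mul, mul_inv_cancel, Units.val_one]
    rw [hx0, Matrix.zero_mul] at h1
    obtain ⟨i⟩ := ‹Nonempty ι›
    have := congrFun (congrFun h1 i) i
    simp at this
  obtain ⟨i₀, j₀, h0⟩ := h3
  have hφ0 : φ ((x : Matrix ι ι F) i₀ j₀) ≠ 0 := by
    intro hz
    exact h0 ((map_eq_zero φ).mp hz)
  have hμ0 : μ j₀ ≠ 0 := by
    intro hz
    apply hφ0
    rw [hμ, hz, zero_mul]
  apply mem_subfield_of_rat F₀ P g ((x : Matrix ι ι F) i₀ j₀)⁻¹ (inv_ne_zero h0)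
  intro j i
  rw [Pi.smul_apply, hcol, smul_eq_mul, ← hfix]
  simp only [Matrix.mulVec_single_one, Matrix.col_apply]
  rw [map_mul, map_inv₀, hμ, hμ, h2 j j₀]
  field_simp

/-! ### transvections with rational centre -/

/-- symplectic transvection on vectors -/
def tr (w : ι → F) (s : F) (u : ι → F) : ι → F := u + (s * Bz φ ζ P u w) • w

/-- unitary transvection with rational centre -/
noncomputable def T (w : ι → F) (s : F) : GL ι F := UT φ ((P : Matrix ι ι F) *ᵥ w) (s * ζ)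

variable (hζ : ζ + φ ζ = 0)

include halt in
theorem T_mulVec {w : ι → F} (hw : Rat F₀ w) (s : F) (u : ι → F) :
    ((T φ ζ P w s : GL ι F) : Matrix ι ι F) *ᵥ ((P : Matrix ι ι F) *ᵥ u) =
      (P : Matrix ι ι F) *ᵥ tr φ ζ P w s u := by
  unfold T tr
  rw [UT_mulVec φ _ (halt w hw), Matrix.mulVec_add, Matrix.mulVec_smul]
  congr 2
  unfold Bz
  ring

include hfix halt hφφ hζ in
theorem T_mem_UG {w : ι → F} (hw : Rat F₀ w) {s : F} (hs : s ∈ F₀) :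
    T φ ζ P w s ∈ UG ι φ := by
  apply UT_mem_UG φ hφφ _ (halt w hw)
  rw [map_mul, (hfix s).mpr hs]
  linear_combination s * hζ

include halt in
theorem T_mem_SL {w : ι → F} (hw : Rat F₀ w) (s : F) :
    T φ ζ P w s ∈ Cfsg.Geo.specialLinear ι F :=
  UT_mem_SL φ _ (halt w hw) _

include hP in
theorem rat_tr {w : ι → F} (hw : Rat F₀ w) {s : F} (hs : s ∈ F₀) {u : ι → F} (hu : Rat F₀ u) :
    Rat F₀ (tr φ ζ P w s u) :=
  rat_add F₀ hu (rat_smul F₀ (F₀.mul_mem hs (hP u w hu hw)) hw)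

include halt hP in
theorem T_mem_subfield {w : ι → F} (hw : Rat F₀ w) {s : F} (hs : s ∈ F₀) :
    T φ ζ P w s ∈ Cfsg.Geo.subfieldSubgroup F₀ P := by
  apply mem_subfield_of_rat F₀ P _ 1 one_ne_zero
  intro j
  have : cj P (T φ ζ P w s) (Pi.single j 1) = tr φ ζ P w s (Pi.single j 1) := by
    apply P_mulVec_inj P
    rw [P_cj, T_mulVec φ F₀ ζ P halt hw]
  rw [one_smul, this]
  exact rat_tr φ F₀ ζ P hP hw hs (rat_single F₀ j)

include hfix halt hφφ hζ in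
theorem Bz_tr {w : ι → F} (hw : Rat F₀ w) {s : F} (hs : s ∈ F₀) (u v : ι → F) :
    Bz φ ζ P (tr φ ζ P w s u) (tr φ ζ P w s v) = Bz φ ζ P u v := by
  unfold Bz
  rw [← T_mulVec φ F₀ ζ P halt hw, ← T_mulVec φ F₀ ζ P halt hw,
    IsU.hdot_mulVec φ ((mem_UG_iff φ _).mp (T_mem_UG φ F₀ ζ P hfix halt hφφ hζ hw hs))]

include halt in
theorem tr_tr_neg {w : ι → F} (hw : Rat F₀ w) (s : F) (u : ι → F) :
    tr φ ζ P w (-s) (tr φ ζ P w s u) = u := by
  unfold tr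
  rw [Bz_add_left, Bz_smul_left, Bz_self φ F₀ ζ P halt hw, mul_zero, add_zero, add_assoc,
    ← add_smul]
  have : s * Bz φ ζ P u w + -s * Bz φ ζ P u w = 0 := by ring
  rw [this, zero_smul, add_zero]

theorem tr_add (w : ι → F) (s : F) (u v : ι → F) :
    tr φ ζ P w s (u + v) = tr φ ζ P w s u + tr φ ζ P w s v := by
  unfold tr
  rw [Bz_add_left, mul_add, add_smul]
  abel

theorem tr_smul (w : ι → F) (s c : F) (u : ι → F) :
    tr φ ζ P w s (c • u) = c • tr φ ζ P w s u := by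
  unfold tr
  rw [Bz_smul_left, smul_add, smul_smul]
  congr 2
  ring

/-- admissible pairs -/
def Pr (y₁ y₂ : ι → F) : Prop :=
  Rat F₀ y₁ ∧ Rat F₀ y₂ ∧ y₁ ≠ 0 ∧ (∀ t ∈ F₀, y₂ ≠ t • y₁) ∧ Bz φ ζ P y₁ y₂ = 0

include hfix halt hφφ hζ hP in
theorem Pr_tr {w : ι → F} (hw : Rat F₀ w) {s : F} (hs : s ∈ F₀) {y₁ y₂ : ι → F}
    (h : Pr φ F₀ ζ P y₁ y₂) : Pr φ F₀ ζ P (tr φ ζ P w s y₁) (tr φ ζ P w s y₂) := by
  obtain ⟨h1, h2, h3, h4, h5⟩ := h
  refine ⟨rat_tr φ F₀ ζ P hP hw hs h1, rat_tr φ F₀ ζ P hP hw hs h2, ?_, ?_, ?_⟩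
  · intro h0
    apply h3
    rw [← tr_tr_neg φ F₀ ζ P halt hw s y₁, h0]
    unfold tr
    rw [Bz_zero_left, mul_zero, zero_smul, add_zero]
  · intro t ht h0
    apply h4 t ht
    rw [← tr_tr_neg φ F₀ ζ P halt hw s y₂, h0, tr_smul, tr_tr_neg φ F₀ ζ P halt hw]
  · rw [Bz_tr φ F₀ ζ P hfix halt hφφ hζ hw hs, h5]

section trans

variable (S : (ι → F) → (ι → F) → Prop)
  (hS : ∀ w s y₁ y₂, Rat F₀ w → s ∈ F₀ → S y₁ y₂ →
    S (tr φ ζ P w s y₁) (tr φ ζ P w s y₂))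

include hfix halt hφφ hζ hP hS in
theorem move1_aux {y₁ y₂ x₁ : ι → F} (hpr : Pr φ F₀ ζ P y₁ y₂) (hs : S y₁ y₂)
    (hx₁ : Rat F₀ x₁) (hne : Bz φ ζ P y₁ x₁ ≠ 0) :
    ∃ y₂', Pr φ F₀ ζ P x₁ y₂' ∧ S x₁ y₂' := by
  have hw : Rat F₀ (x₁ - y₁) := rat_sub F₀ hx₁ hpr.1
  have hsm : (Bz φ ζ P y₁ x₁)⁻¹ ∈ F₀ := F₀.inv_mem (hP _ _ hpr.1 hx₁)
  have heq : tr φ ζ P (x₁ - y₁) (Bz φ ζ P y₁ x₁)⁻¹ y₁ = x₁ := by
    unfold tr
    rw [Bz_sub_right, Bz_self φ F₀ ζ P halt hpr.1, sub_zero, inv_mul_cancel₀ hne, one_smul]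
    abel
  refine ⟨tr φ ζ P (x₁ - y₁) (Bz φ ζ P y₁ x₁)⁻¹ y₂, ?_, ?_⟩
  · have := Pr_tr φ F₀ ζ P hfix hP halt hφφ hζ hw hsm hpr
    rwa [heq] at this
  · have := hS _ _ _ _ hw hsm hs
    rwa [heq] at this

include hfix halt hφφ hζ hP hS hε hζ0 in
theorem move1 {y₁ y₂ x₁ : ι → F} (hpr : Pr φ F₀ ζ P y₁ y₂) (hs : S y₁ y₂)
    (hx₁ : Rat F₀ x₁) (hx0 : x₁ ≠ 0) :
    ∃ y₂', Pr φ F₀ ζ P x₁ y₂' ∧ S x₁ y₂' := by
  by_cases hne : Bz φ ζ P y₁ x₁ = 0
  · have hz : ∃ z, Rat F₀ z ∧ Bz φ ζ P y₁ z ≠ 0 ∧ Bz φ ζ P x₁ z ≠ 0 := by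
      obtain ⟨a, ha, hya⟩ := exists_Bz_ne φ F₀ ζ P hfix ε hφφ hε hζ0 y₁ hpr.2.2.1
      obtain ⟨b, hb, hxb⟩ := exists_Bz_ne φ F₀ ζ P hfix ε hφφ hε hζ0 x₁ hx0
      by_cases h1 : Bz φ ζ P x₁ a = 0
      · by_cases h2 : Bz φ ζ P y₁ b = 0
        · refine ⟨a + b, rat_add F₀ ha hb, ?_, ?_⟩
          · rw [Bz_add_right, h2, add_zero]; exact hya
          · rw [Bz_add_right, h1, zero_add]; exact hxb
        · exact ⟨b, hb, h2, hxb⟩
      · exact ⟨a, ha, hya, h1⟩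
    obtain ⟨z, hz, hyz, hxz⟩ := hz
    obtain ⟨y₂', hpr', hs'⟩ := move1_aux φ F₀ ζ P hfix hP halt hφφ hζ S hS hpr hs hz hyz
    have hzx : Bz φ ζ P z x₁ ≠ 0 := by
      rw [Bz_skew φ F₀ ζ P halt hz hx₁]
      exact neg_ne_zero.mpr hxz
    exact move1_aux φ F₀ ζ P hfix hP halt hφφ hζ S hS hpr' hs' hx₁ hzx
  · exact move1_aux φ F₀ ζ P hfix hP halt hφφ hζ S hS hpr hs hx₁ hne

include halt hP hS in
theorem move2_aux {x₁ y₂ x₂ : ι → F} (hs : S x₁ y₂) (hx₁ : Rat F₀ x₁) (hy₂ : Rat F₀ y₂)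
    (hx₂ : Rat F₀ x₂) (h1 : Bz φ ζ P x₁ y₂ = 0) (h2 : Bz φ ζ P x₁ x₂ = 0)
    (hne : Bz φ ζ P y₂ x₂ ≠ 0) : S x₁ x₂ := by
  have hw : Rat F₀ (x₂ - y₂) := rat_sub F₀ hx₂ hy₂
  have hsm : (Bz φ ζ P y₂ x₂)⁻¹ ∈ F₀ := F₀.inv_mem (hP _ _ hy₂ hx₂)
  have heq : tr φ ζ P (x₂ - y₂) (Bz φ ζ P y₂ x₂)⁻¹ y₂ = x₂ := by
    unfold tr
    rw [Bz_sub_right, Bz_self φ F₀ ζ P halt hy₂, sub_zero, inv_mul_cancel₀ hne, one_smul]
    abel
  have heq1 : tr φ ζ P (x₂ - y₂) (Bz φ ζ P y₂ x₂)⁻¹ x₁ = x₁ := by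
    unfold tr
    rw [Bz_sub_right, h1, h2, sub_zero, mul_zero, zero_smul, add_zero]
  have := hS _ _ _ _ hw hsm hs
  rwa [heq, heq1] at this

include hfix halt hφφ hP hS hε hζ0 in
theorem move2 {x₁ y₂ x₂ : ι → F} (hpr : Pr φ F₀ ζ P x₁ y₂) (hs : S x₁ y₂)
    (hpr' : Pr φ F₀ ζ P x₁ x₂) : S x₁ x₂ := by
  obtain ⟨hx₁, hy₂, hx0, hy, hxy⟩ := hpr
  obtain ⟨-, hx₂, -, hx, hxx⟩ := hpr'
  by_cases hne : Bz φ ζ P y₂ x₂ = 0
  · have hz : ∃ z, Rat F₀ z ∧ Bz φ ζ P x₁ z = 0 ∧ Bz φ ζ P y₂ z ≠ 0 ∧ Bz φ ζ P x₂ z ≠ 0 := by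
      obtain ⟨a, ha, hxa, hya⟩ := exists_sep φ F₀ ζ P hfix hP halt ε hφφ hε hζ0 x₁ y₂ hx₁ hy₂ hy
      obtain ⟨b, hb, hxb, hyb⟩ := exists_sep φ F₀ ζ P hfix hP halt ε hφφ hε hζ0 x₁ x₂ hx₁ hx₂ hx
      by_cases h1 : Bz φ ζ P x₂ a = 0
      · by_cases h2 : Bz φ ζ P y₂ b = 0
        · refine ⟨a + b, rat_add F₀ ha hb, ?_, ?_, ?_⟩
          · rw [Bz_add_right, hxa, hxb, add_zero]
          · rw [Bz_add_right, h2, add_zero]; exact hya
          · rw [Bz_add_right, h1, zero_add]; exact hyb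
        · exact ⟨b, hb, hxb, h2, hyb⟩
      · exact ⟨a, ha, hxa, hya, h1⟩
    obtain ⟨z, hz, hxz, hyz, hx₂z⟩ := hz
    have h1 := move2_aux φ F₀ ζ P hP halt S hS hs hx₁ hy₂ hz hxy hxz hyz
    have hzx : Bz φ ζ P z x₂ ≠ 0 := by
      rw [Bz_skew φ F₀ ζ P halt hz hx₂]
      exact neg_ne_zero.mpr hx₂z
    exact move2_aux φ F₀ ζ P hP halt S hS h1 hx₁ hz hx₂ hxz hxx hzx
  · exact move2_aux φ F₀ ζ P hP halt S hS hs hx₁ hy₂ hx₂ hxy hxx hne

include hfix halt hφφ hζ hP hS hε hζ0 in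
theorem all_pairs {y₁ y₂ : ι → F} (hpr : Pr φ F₀ ζ P y₁ y₂) (hs : S y₁ y₂)
    {x₁ x₂ : ι → F} (hpr' : Pr φ F₀ ζ P x₁ x₂) : S x₁ x₂ := by
  obtain ⟨y₂', h1, h2⟩ := move1 φ F₀ ζ P hfix hP halt ε hφφ hε hζ0 hζ S hS hpr hs hpr'.1
    hpr'.2.2.1
  exact move2 φ F₀ ζ P hfix hP halt ε hφφ hε hζ0 S hS h1 h2 hpr'

end trans

/-! ### the main argument -/

include hfix halt in
theorem Bz_pair {x₁ x₂ : ι → F} (h1 : Rat F₀ x₁) (h2 : Rat F₀ x₂) :
    Bz φ ζ P (x₁ + ε • x₂) (x₁ + ε • x₂) = (φ ε - ε) * Bz φ ζ P x₁ x₂ := by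
  rw [Bz_add_left, Bz_add_right, Bz_add_right, Bz_smul_left, Bz_smul_left, Bz_smul_right,
    Bz_smul_right, Bz_self φ F₀ ζ P halt h1, Bz_self φ F₀ ζ P halt h2,
    Bz_skew φ F₀ ζ P halt h2 h1]
  ring

include hfix halt hφφ hε in
theorem Bz_re_im (x' : ι → F) (h : Bz φ ζ P x' x' = 0) :
    Bz φ ζ P (re φ ε x') (im φ ε x') = 0 := by
  have h' : Bz φ ζ P (re φ ε x' + ε • im φ ε x') (re φ ε x' + ε • im φ ε x') = 0 := by
    rw [re_add_im]; exact h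
  rw [Bz_pair φ F₀ ζ P hfix halt ε (rat_re φ F₀ hfix ε hφφ hε x')
    (rat_im φ F₀ hfix ε hφφ hε x')] at h'
  rcases mul_eq_zero.mp h' with h0 | h0
  · exact absurd (sub_eq_zero.mp h0) hε
  · exact h0

include hfix hε in
theorem not_PR {y₁ y₂ : ι → F} (h1 : Rat F₀ y₁) (h2 : Rat F₀ y₂) (h3 : y₁ ≠ 0)
    (h4 : ∀ t ∈ F₀, y₂ ≠ t • y₁) : ¬ PR φ (y₁ + ε • y₂) := by
  rintro ⟨μ, hμ⟩
  have hε' : ε - φ ε ≠ 0 := fun h => hε (sub_eq_zero.mp h).symm
  have key : ∀ i, (1 - μ) * y₁ i = (μ * ε - φ ε) * y₂ i := by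
    intro i
    have := hμ i
    simp only [Pi.add_apply, Pi.smul_apply, smul_eq_mul] at this
    rw [map_add, map_mul, (hfix _).mpr (h1 i), (hfix _).mpr (h2 i)] at this
    linear_combination this
  by_cases hμ1 : μ = 1
  · apply h4 0 F₀.zero_mem
    rw [zero_smul]
    funext i
    have := key i
    rw [hμ1, sub_self, zero_mul, one_mul] at this
    rcases mul_eq_zero.mp this.symm with h0 | h0
    · exact absurd h0 hε'
    · exact h0
  · have h1μ : 1 - μ ≠ 0 := fun h => hμ1 (sub_eq_zero.mp h).symm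
    have hne : ∃ i, y₁ i ≠ 0 := by
      by_contra hcon
      push Not at hcon
      exact h3 (funext hcon)
    obtain ⟨i, hi⟩ := hne
    have hki := key i
    have hy₂i : y₂ i ≠ 0 := by
      intro h0
      rw [h0, mul_zero] at hki
      rcases mul_eq_zero.mp hki with h | h
      · exact h1μ h
      · exact hi h
    apply h4 (y₂ i / y₁ i) (div_mem (h2 i) (h1 i))
    funext j
    have hkj := key j
    simp only [Pi.smul_apply, smul_eq_mul]
    have hcoef : μ * ε - φ ε ≠ 0 := by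
      intro h0
      rw [h0, zero_mul] at hki
      rcases mul_eq_zero.mp hki with h | h
      · exact h1μ h
      · exact hi h
    have e1 : y₁ i = (μ * ε - φ ε) / (1 - μ) * y₂ i := by
      field_simp
      linear_combination hki
    have e2 : y₁ j = (μ * ε - φ ε) / (1 - μ) * y₂ j := by
      field_simp
      linear_combination hkj
    rw [e1, e2]
    field_simp

section final

variable [Finite F] (hφ : φ ≠ RingHom.id F)
  (hN1 : ∀ c : F, c ≠ 0 → φ c = c → ∃ l : F, l ≠ 0 ∧ l * φ l = c)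
  (M : Subgroup (GL ι F))
  (hHM : Cfsg.Geo.subfieldSubgroup F₀ P ⊓ SuGen.SUg ι φ ≤ M)

include hfix hP halt hφφ hζ0 hζ hHM in
theorem base {u : ι → F} (hu : Rat F₀ u) : (P : Matrix ι ι F) *ᵥ u ∈ Cen φ M := by
  refine ⟨halt u hu, fun c hc => ?_⟩
  have hs : c / ζ ∈ F₀ := by
    rw [← hfix, map_div₀]
    have h1 : φ c = -c := by linear_combination hc
    have h2 : φ ζ = -ζ := by linear_combination hζ
    rw [h1, h2, neg_div_neg_eq]
  have : UT φ ((P : Matrix ι ι F) *ᵥ u) c = T φ ζ P u (c / ζ) := by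
    unfold T
    rw [div_mul_cancel₀ _ hζ0]
  rw [this]
  exact hHM ⟨T_mem_subfield φ F₀ ζ P hP halt hu hs,
    T_mem_UG φ F₀ ζ P hfix halt hφφ hζ hu hs, T_mem_SL φ F₀ ζ P halt hu _⟩

include hfix hP halt hφφ hζ hHM in
theorem good_tr (w : ι → F) (s : F) (y₁ y₂ : ι → F) (hw : Rat F₀ w) (hs : s ∈ F₀)
    (h : (P : Matrix ι ι F) *ᵥ (y₁ + ε • y₂) ∈ Cen φ M) :
    (P : Matrix ι ι F) *ᵥ (tr φ ζ P w s y₁ + ε • tr φ ζ P w s y₂) ∈ Cen φ M := by
  have := cen_smul φ M (T φ ζ P w s)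
    (hHM ⟨T_mem_subfield φ F₀ ζ P hP halt hw hs,
      T_mem_UG φ F₀ ζ P hfix halt hφφ hζ hw hs, T_mem_SL φ F₀ ζ P halt hw _⟩)
    (T_mem_UG φ F₀ ζ P hfix halt hφφ hζ hw hs) _ h
  rw [T_mulVec φ F₀ ζ P halt hw, tr_add, tr_smul] at this
  exact this

include hfix hP halt hφφ hζ0 hζ hHM hε hφ hN1 in
theorem subfield_top [Nonempty ι] (hn : 4 ≤ Fintype.card ι) (hMK : M ≤ SuGen.SUg ι φ)
    (g : GL ι F) (hgM : g ∈ M) (hg : g ∉ Cfsg.Geo.subfieldSubgroup F₀ P) : SuGen.SUg ι φ ≤ M := by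
  have h1 : ∃ u, Rat F₀ u ∧ ¬ PR φ (cj P g u) := by
    by_contra hcon
    push Not at hcon
    exact hg (mem_subfield_of_PR φ F₀ P hfix g hcon)
  obtain ⟨u, hu, hnpr⟩ := h1
  have hgU : g ∈ UG ι φ := (hMK hgM).1
  have hyC : (P : Matrix ι ι F) *ᵥ cj P g u ∈ Cen φ M := by
    rw [P_cj]
    exact cen_smul φ M g hgM hgU _ (base φ F₀ ζ P hfix hP halt hφφ hζ0 hζ M hHM hu)
  have hy := re_add_im φ ε (cj P g u)
  have hr := rat_re φ F₀ hfix ε hφφ hε (cj P g u)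
  have hi := rat_im φ F₀ hfix ε hφφ hε (cj P g u)
  have hpr : Pr φ F₀ ζ P (re φ ε (cj P g u)) (im φ ε (cj P g u)) := by
    refine ⟨hr, hi, ?_, ?_, ?_⟩
    · intro h0
      apply hnpr
      rw [← hy, h0, zero_add]
      exact PR_smul_rat φ F₀ hfix ε hi
    · intro t ht h0
      apply hnpr
      rw [← hy, h0, smul_smul]
      have : re φ ε (cj P g u) + (ε * t) • re φ ε (cj P g u) =
          (1 + ε * t) • re φ ε (cj P g u) := by
        rw [add_smul, one_smul]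
      rw [this]
      exact PR_smul_rat φ F₀ hfix _ hr
    · apply Bz_re_im φ F₀ ζ P hfix halt ε hφφ hε
      unfold Bz
      rw [hyC.1, mul_zero]
  apply sug_le_of_UT φ hφ hφφ hN1 hn M
  intro v hv c hc
  suffices hvC : v ∈ Cen φ M from hvC.2 c hc
  have hx' : (P : Matrix ι ι F) *ᵥ (((P⁻¹ : GL ι F) : Matrix ι ι F) *ᵥ v) = v :=
    P_inv_mulVec P v
  set x' := ((P⁻¹ : GL ι F) : Matrix ι ι F) *ᵥ v with hx'def
  have hxy := re_add_im φ ε x'
  have hxr := rat_re φ F₀ hfix ε hφφ hε x'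
  have hxi := rat_im φ F₀ hfix ε hφφ hε x'
  by_cases h1 : re φ ε x' = 0
  · rw [← hx', ← hxy, h1, zero_add, Matrix.mulVec_smul]
    exact cen_scalar φ hφφ M ε _ (base φ F₀ ζ P hfix hP halt hφφ hζ0 hζ M hHM hxi)
  by_cases h2 : ∃ t ∈ F₀, im φ ε x' = t • re φ ε x'
  · obtain ⟨t, ht, h2⟩ := h2
    have : x' = (1 + ε * t) • re φ ε x' := by
      conv_lhs => rw [← hxy, h2, smul_smul]
      rw [add_smul, one_smul]
    rw [← hx', this, Matrix.mulVec_smul]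
    exact cen_scalar φ hφφ M _ _ (base φ F₀ ζ P hfix hP halt hφφ hζ0 hζ M hHM hxr)
  · push Not at h2
    have hpr' : Pr φ F₀ ζ P (re φ ε x') (im φ ε x') := by
      refine ⟨hxr, hxi, h1, h2, ?_⟩
      apply Bz_re_im φ F₀ ζ P hfix halt ε hφφ hε
      unfold Bz
      rw [hx', hv, mul_zero]
    have := all_pairs φ F₀ ζ P hfix hP halt ε hφφ hε hζ0 hζ
      (fun a b => (P : Matrix ι ι F) *ᵥ (a + ε • b) ∈ Cen φ M)
      (good_tr φ F₀ ζ P hfix hP halt ε hφφ hζ M hHM) hpr (by rw [hy]; exact hyC) hpr'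
    rwa [hxy, hx'] at this

end final

/-! ### properness -/

include hfix hP halt in
theorem exists_Pr (i₀ i₁ i₂ : ι) (h01 : i₀ ≠ i₁) (h02 : i₀ ≠ i₂) (h12 : i₁ ≠ i₂) :
    ∃ x₁ x₂, Pr φ F₀ ζ P x₁ x₂ := by
  have he0 : (Pi.single i₀ (1 : F) : ι → F) ≠ 0 := by
    intro h0
    have := congrFun h0 i₀
    simp at this
  by_cases h : Bz φ ζ P (Pi.single i₀ 1) (Pi.single i₁ 1) = 0
  · refine ⟨Pi.single i₀ 1, Pi.single i₁ 1, rat_single F₀ _, rat_single F₀ _, he0, ?_, h⟩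
    intro t _ h0
    have := congrFun h0 i₁
    rw [Pi.smul_apply, Pi.single_eq_same, Pi.single_eq_of_ne (Ne.symm h01), smul_zero] at this
    exact one_ne_zero this
  · have hb1 := hP _ _ (rat_single F₀ i₀) (rat_single F₀ i₁)
    have hb2 := hP _ _ (rat_single F₀ i₀) (rat_single F₀ i₂)
    refine ⟨Pi.single i₀ 1, Bz φ ζ P (Pi.single i₀ 1) (Pi.single i₂ 1) • Pi.single i₁ 1 -
      Bz φ ζ P (Pi.single i₀ 1) (Pi.single i₁ 1) • Pi.single i₂ 1, rat_single F₀ _,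
      rat_sub F₀ (rat_smul F₀ hb2 (rat_single F₀ _)) (rat_smul F₀ hb1 (rat_single F₀ _)),
      he0, ?_, ?_⟩
    · intro t _ h0
      have := congrFun h0 i₂
      rw [Pi.smul_apply, Pi.sub_apply, Pi.smul_apply, Pi.smul_apply, Pi.single_eq_same,
        Pi.single_eq_of_ne (Ne.symm h02), Pi.single_eq_of_ne (Ne.symm h12), smul_zero, smul_zero,
        zero_sub, smul_eq_mul, mul_one] at this
      exact h (neg_eq_zero.mp this)
    · rw [Bz_sub_right, Bz_smul_right_rat φ F₀ ζ P hfix hb2, Bz_smul_right_rat φ F₀ ζ P hfix hb1]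
      ring

include hfix hP halt hφφ hζ0 hζ hε in
theorem not_mem_of_Pr {x₁ x₂ : ι → F} (hpr : Pr φ F₀ ζ P x₁ x₂) :
    ∃ g, g ∈ SuGen.SUg ι φ ∧ g ∉ Cfsg.Geo.subfieldSubgroup F₀ P := by
  obtain ⟨hx₁, hx₂, hx0, hx, hxx⟩ := hpr
  have hiso : hdot φ ((P : Matrix ι ι F) *ᵥ (x₁ + ε • x₂))
      ((P : Matrix ι ι F) *ᵥ (x₁ + ε • x₂)) = 0 := by
    have := Bz_pair φ F₀ ζ P hfix halt ε hx₁ hx₂
    rw [hxx, mul_zero] at this
    unfold Bz at this
    rcases mul_eq_zero.mp this with h | h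
    · exact absurd h hζ0
    · exact h
  refine ⟨UT φ ((P : Matrix ι ι F) *ᵥ (x₁ + ε • x₂)) ζ,
    ⟨UT_mem_UG φ hφφ _ hiso ζ hζ, UT_mem_SL φ _ hiso ζ⟩, ?_⟩
  intro hmem
  obtain ⟨c, hc, hrat⟩ := rat_of_mem_subfield F₀ P _ hmem
  obtain ⟨a, ha, hxa, hx₂a⟩ := exists_sep φ F₀ ζ P hfix hP halt ε hφφ hε hζ0 x₁ x₂ hx₁ hx₂ hx
  have hax₁ : Bz φ ζ P a x₁ = 0 := by
    rw [Bz_skew φ F₀ ζ P halt ha hx₁, hxa, neg_zero]
  have hβ : Bz φ ζ P a x₂ ≠ 0 := by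
    rw [Bz_skew φ F₀ ζ P halt ha hx₂]
    exact neg_ne_zero.mpr hx₂a
  set β := Bz φ ζ P a x₂ with hβdef
  have hβm : β ∈ F₀ := hP a x₂ ha hx₂
  have hcj : cj P (UT φ ((P : Matrix ι ι F) *ᵥ (x₁ + ε • x₂)) ζ) a =
      a + (φ ε * β) • (x₁ + ε • x₂) := by
    apply P_mulVec_inj P
    rw [P_cj, UT_mulVec φ _ hiso]
    have : ζ * hdot φ ((P : Matrix ι ι F) *ᵥ a) ((P : Matrix ι ι F) *ᵥ (x₁ + ε • x₂)) =
        φ ε * β := by
      show Bz φ ζ P a (x₁ + ε • x₂) = _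
      rw [Bz_add_right, Bz_smul_right, hax₁, zero_add]
    rw [this]
    simp only [Matrix.mulVec_add, Matrix.mulVec_smul]
  have hτ : ε + φ ε ∈ F₀ := by
    rw [← hfix, map_add, hφφ, add_comm]
  have hN : ε * φ ε ∈ F₀ := by
    rw [← hfix, map_mul, hφφ, mul_comm]
  have hdecomp : a + (φ ε * β) • (x₁ + ε • x₂) =
      (a + (β * (ε + φ ε)) • x₁ + (β * (ε * φ ε)) • x₂) + ε • ((-β) • x₁) := by
    funext i
    simp only [Pi.add_apply, Pi.smul_apply, smul_eq_mul]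
    ring
  have hy₁ : Rat F₀ (a + (β * (ε + φ ε)) • x₁ + (β * (ε * φ ε)) • x₂) :=
    rat_add F₀ (rat_add F₀ ha (rat_smul F₀ (F₀.mul_mem hβm hτ) hx₁))
      (rat_smul F₀ (F₀.mul_mem hβm hN) hx₂)
  have hy₂ : Rat F₀ ((-β) • x₁) := rat_smul F₀ (F₀.neg_mem hβm) hx₁
  have hBy₁ : Bz φ ζ P (a + (β * (ε + φ ε)) • x₁ + (β * (ε * φ ε)) • x₂) x₂ = β := by
    rw [Bz_add_left, Bz_add_left, Bz_smul_left, Bz_smul_left, hxx,
      Bz_self φ F₀ ζ P halt hx₂, mul_zero, mul_zero, add_zero, add_zero]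
  have hnpr := not_PR φ F₀ hfix ε hε hy₁ hy₂ (by
    intro h0
    rw [h0, Bz_zero_left] at hBy₁
    exact hβ hBy₁.symm) (by
    intro t ht h0
    have h1 : Bz φ ζ P ((-β) • x₁) x₂ =
        Bz φ ζ P (t • (a + (β * (ε + φ ε)) • x₁ + (β * (ε * φ ε)) • x₂)) x₂ := by rw [h0]
    rw [Bz_smul_left, Bz_smul_left, hxx, mul_zero, hBy₁] at h1
    have ht0 : t = 0 := by
      rcases mul_eq_zero.mp h1.symm with h | h
      · exact h
      · exact absurd h hβ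
    rw [ht0, zero_smul] at h0
    apply hx0
    rcases smul_eq_zero.mp h0 with h | h
    · exact absurd (neg_eq_zero.mp h) hβ
    · exact h)
  apply hnpr
  rw [← hdecomp, ← hcj]
  have := hrat a ha
  have h2 : cj P (UT φ ((P : Matrix ι ι F) *ᵥ (x₁ + ε • x₂)) ζ) a =
      c⁻¹ • (c • cj P (UT φ ((P : Matrix ι ι F) *ᵥ (x₁ + ε • x₂)) ζ) a) := by
    rw [smul_smul, inv_mul_cancel₀ hc, one_smul]
  rw [h2]
  exact PR_smul_rat φ F₀ hfix _ this

include hfix hP halt hφφ hζ0 hζ in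
/-- the symplectic subfield subgroup is maximal in the special unitary group -/
theorem maximal_subfield [Finite F] (hφ : φ ≠ RingHom.id F)
    (hN1 : ∀ c : F, c ≠ 0 → φ c = c → ∃ l : F, l ≠ 0 ∧ l * φ l = c)
    (hn : 4 ≤ Fintype.card ι) (i₀ i₁ i₂ : ι) (h01 : i₀ ≠ i₁) (h02 : i₀ ≠ i₂) (h12 : i₁ ≠ i₂) :
    Cfsg.Geo.IsMaximalIn (SuGen.SUg ι φ) (Cfsg.Geo.subfieldSubgroup F₀ P ⊓ SuGen.SUg ι φ) := by
  have hεx : ∃ ε, φ ε ≠ ε := by
    by_contra hcon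
    push Not at hcon
    apply hφ
    ext x
    exact hcon x
  obtain ⟨ε, hε⟩ := hεx
  have : Nonempty ι := ⟨i₀⟩
  refine ⟨?_, ?_⟩
  · rw [lt_iff_le_and_ne]
    refine ⟨inf_le_right, ?_⟩
    intro heq
    obtain ⟨x₁, x₂, hpr⟩ := exists_Pr φ F₀ ζ P hfix hP halt i₀ i₁ i₂ h01 h02 h12
    obtain ⟨g, hg1, hg2⟩ := not_mem_of_Pr φ F₀ ζ P hfix hP halt ε hφφ hε hζ0 hζ hpr
    rw [← heq] at hg1
    exact hg2 hg1.1
  · intro M hHM hMK
    by_cases h : M ≤ Cfsg.Geo.subfieldSubgroup F₀ P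
    · left
      exact le_antisymm (le_inf h hMK) hHM
    · right
      obtain ⟨g, hgM, hg⟩ := SetLike.not_le_iff_exists.mp h
      exact le_antisymm hMK (subfield_top φ F₀ ζ P hfix hP halt ε hφφ hε hζ0 hζ hφ hN1 M hHM
        hn hMK g hgM hg)

end main

end Cfsg.Agent.Helper28.SpInSU
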