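import Mathlib
import Cfsg.Agent.Lib.Helper28.OrSubH
import Cfsg.Agent.Lib.Helper28.SpInSU

/-!
# Subfield subgroups of orthogonal groups (helper28), part I: the subfield subgroups of
`Cfsg.Geo.omegaGL` are maximal
-/

set_option autoImplicit false
set_option linter.unusedSectionVars false

namespace Cfsg.Agent.H28OrSub

open QuadraticMap Matrix Cfsg.Agent.Helper2.Orth

variable {F : Type*} [Field F] {ι : Type} [Fintype ι] [DecidableEq ι]

/-- the form `u ↦ ζ Q(P u)` -/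
noncomputable def Qp (Q : QuadraticForm F (ι → F)) (P : GL ι F) (ζ : F) :
    QuadraticForm F (ι → F) :=
  ζ • Q.comp (Matrix.toLin' (P : Matrix ι ι F))

theorem Qp_apply (Q : QuadraticForm F (ι → F)) (P : GL ι F) (ζ : F) (u : ι → F) :
    Qp Q P ζ u = ζ * Q ((P : Matrix ι ι F) *ᵥ u) := by
  simp [Qp, Matrix.toLin'_apply]

theorem polar_Qp (Q : QuadraticForm F (ι → F)) (P : GL ι F) (ζ : F) (u v : ι → F) :
    polar (Qp Q P ζ) u v =
      ζ * polar Q ((P : Matrix ι ι F) *ᵥ u) ((P : Matrix ι ι F) *ᵥ v) := by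
  unfold polar
  rw [Qp_apply, Qp_apply, Qp_apply, Matrix.mulVec_add]
  ring

theorem P_inv_mulVec' (P : GL ι F) (w : ι → F) :
    (P : Matrix ι ι F) *ᵥ (((P⁻¹ : GL ι F) : Matrix ι ι F) *ᵥ w) = w := by
  rw [Matrix.mulVec_mulVec, ← Units.val_mul, mul_inv_cancel, Units.val_one, Matrix.one_mulVec]

theorem P_inv_mulVec'' (P : GL ι F) (w : ι → F) :
    ((P⁻¹ : GL ι F) : Matrix ι ι F) *ᵥ ((P : Matrix ι ι F) *ᵥ w) = w := by
  rw [Matrix.mulVec_mulVec, ← Units.val_mul, inv_mul_cancel, Units.val_one, Matrix.one_mulVec]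

theorem Qp_nondeg {Q : QuadraticForm F (ι → F)} (hQ : (polarBilin Q).Nondegenerate) (P : GL ι F)
    {ζ : F} (hζ : ζ ≠ 0) : (polarBilin (Qp Q P ζ)).Nondegenerate := by
  constructor
  · intro u hu
    have h1 : (P : Matrix ι ι F) *ᵥ u = 0 := by
      apply hQ.1
      intro w
      have h2 := hu (((P⁻¹ : GL ι F) : Matrix ι ι F) *ᵥ w)
      rw [polarBilin_apply_apply, polar_Qp, P_inv_mulVec'] at h2
      rw [polarBilin_apply_apply]
      exact (mul_eq_zero.mp h2).resolve_left hζ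
    have h3 := congrArg (fun t => ((P⁻¹ : GL ι F) : Matrix ι ι F) *ᵥ t) h1
    simpa [P_inv_mulVec''] using h3
  · intro u hu
    have h1 : (P : Matrix ι ι F) *ᵥ u = 0 := by
      apply hQ.2
      intro w
      have h2 := hu (((P⁻¹ : GL ι F) : Matrix ι ι F) *ᵥ w)
      rw [polarBilin_apply_apply, polar_Qp, P_inv_mulVec'] at h2
      rw [polarBilin_apply_apply]
      exact (mul_eq_zero.mp h2).resolve_left hζ
    have h3 := congrArg (fun t => ((P⁻¹ : GL ι F) : Matrix ι ι F) *ᵥ t) h1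
    simpa [P_inv_mulVec''] using h3

theorem mem_isom_Qp_iff (Q : QuadraticForm F (ι → F)) (P : GL ι F) {ζ : F} (hζ : ζ ≠ 0)
    (g : GL ι F) :
    g ∈ Cfsg.isometryGroup F (⇑(Qp Q P ζ)) ↔ P * g * P⁻¹ ∈ Cfsg.isometryGroup F (⇑Q) := by
  rw [mem_isometryGroup_iff, mem_isometryGroup_iff]
  constructor
  · intro h w
    have h1 := h (((P⁻¹ : GL ι F) : Matrix ι ι F) *ᵥ w)
    rw [Qp_apply, Qp_apply, P_inv_mulVec'] at h1
    have h2 := mul_left_cancel₀ hζ h1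
    rw [← h2]
    congr 1
    show ((P * g * P⁻¹ : GL ι F) : Matrix ι ι F) *ᵥ w = _
    rw [Units.val_mul, Units.val_mul, ← Matrix.mulVec_mulVec, ← Matrix.mulVec_mulVec]
  · intro h v
    have h1 := h ((P : Matrix ι ι F) *ᵥ v)
    rw [Qp_apply, Qp_apply, ← h1]
    congr 2
    show _ = ((P * g * P⁻¹ : GL ι F) : Matrix ι ι F) *ᵥ _
    rw [Units.val_mul, Units.val_mul, ← Matrix.mulVec_mulVec, ← Matrix.mulVec_mulVec,
      P_inv_mulVec'']

theorem map_isom_Qp (Q : QuadraticForm F (ι → F)) (P : GL ι F) {ζ : F} (hζ : ζ ≠ 0) :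
    (Cfsg.isometryGroup F (⇑(Qp Q P ζ))).map (MulAut.conj P).toMonoidHom =
      Cfsg.isometryGroup F (⇑Q) := by
  ext x
  rw [Subgroup.mem_map]
  constructor
  · rintro ⟨g, hg, rfl⟩
    exact (mem_isom_Qp_iff Q P hζ g).mp hg
  · intro hx
    refine ⟨P⁻¹ * x * P, ?_, ?_⟩
    · rw [mem_isom_Qp_iff Q P hζ]
      have : P * (P⁻¹ * x * P) * P⁻¹ = x := by group
      rw [this]
      exact hx
    · show P * (P⁻¹ * x * P) * P⁻¹ = x
      group

theorem omegaGL_eq_commutator (Q : (ι → F) → F) :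
    Cfsg.Geo.omegaGL Q = ⁅Cfsg.isometryGroup F Q, Cfsg.isometryGroup F Q⁆ := by
  unfold Cfsg.Geo.omegaGL Cfsg.Omega
  exact Subgroup.map_subtype_commutator _

theorem omegaGL_Qp (Q : QuadraticForm F (ι → F)) (P : GL ι F) {ζ : F} (hζ : ζ ≠ 0) :
    (Cfsg.Geo.omegaGL (⇑(Qp Q P ζ))).map (MulAut.conj P).toMonoidHom = Cfsg.Geo.omegaGL (⇑Q) := by
  rw [omegaGL_eq_commutator, omegaGL_eq_commutator, Subgroup.map_commutator, map_isom_Qp Q P hζ]

theorem cj_conj (P g : GL ι F) (u : ι → F) :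
    Cfsg.Agent.Helper28.SpInSU.cj P (P * g * P⁻¹) u = (g : Matrix ι ι F) *ᵥ u := by
  rw [Cfsg.Agent.Helper28.SpInSU.cj_eq]
  have : P⁻¹ * (P * g * P⁻¹) * P = g := by group
  rw [this]

/-- membership in the subfield subgroup and the normaliser of the rational structure -/
theorem mem_subfield_iff_inN (Q : QuadraticForm F (ι → F)) (F₀ : Subfield F) (P : GL ι F)
    (g : ↥(Cfsg.isometryGroup F (⇑Q))) :
    P * (g : GL ι F) * P⁻¹ ∈ Cfsg.Geo.subfieldSubgroup F₀ P ↔ InN F₀ g := by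
  constructor
  · intro h
    obtain ⟨c, hc0, hc⟩ := Cfsg.Agent.Helper28.SpInSU.rat_of_mem_subfield F₀ P _ h
    refine ⟨c, hc0, fun v hv => ?_⟩
    have h1 := hc v hv
    rw [cj_conj] at h1
    exact h1
  · rintro ⟨s, hs0, hs⟩
    apply Cfsg.Agent.Helper28.SpInSU.mem_subfield_of_rat F₀ P _ s hs0
    intro j
    rw [cj_conj]
    exact hs _ (ratV_single j)

/-- the subfield subgroups of the commutator subgroup of the isometry group of a quadratic form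
are maximal -/
theorem main_general [Fintype F] (Q : QuadraticForm F (ι → F))
    (hQ : (polarBilin Q).Nondegenerate) (hcard : 9 ≤ Fintype.card ι) (F₀ : Subfield F) (r : ℕ)
    (hr : r.Prime) (hcardF : Fintype.card F = Nat.card F₀ ^ r) (P : GL ι F) (ζ : F) (hζ : ζ ≠ 0)
    (hP : Cfsg.Geo.IsQuadFormRationalStructure (fun v : ι → F => ζ * Q v) F₀ P) :
    Cfsg.Geo.IsMaximalIn (Cfsg.Geo.omegaGL (⇑Q))
      (Cfsg.Geo.subfieldSubgroup F₀ P ⊓ Cfsg.Geo.omegaGL (⇑Q)) := by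
  have hR : RatQ (Qp Q P ζ) F₀ := by
    intro u hu
    rw [Qp_apply]
    exact hP u hu
  have hQ' := Qp_nondeg hQ P hζ
  have core := max_core hQ' hR hcard r hr hcardF
  have m1 := Cfsg.Agent.Helper28.OrthRoot.maximal_map
    (Cfsg.isometryGroup F (⇑(Qp Q P ζ))).subtype (Subgroup.subtype_injective _) _ _ core
  have m2 := Cfsg.Agent.Helper28.OrthRoot.maximal_map (MulAut.conj P).toMonoidHom
    (MulAut.conj P).injective _ _ m1
  have hΩ : ((Cfsg.Omega F (⇑(Qp Q P ζ))).map (Cfsg.isometryGroup F (⇑(Qp Q P ζ))).subtype).map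
      (MulAut.conj P).toMonoidHom = Cfsg.Geo.omegaGL (⇑Q) := omegaGL_Qp Q P hζ
  rw [hΩ] at m2
  have hH : ((N0 (Qp Q P ζ) F₀ ⊓ Cfsg.Omega F (⇑(Qp Q P ζ))).map
      (Cfsg.isometryGroup F (⇑(Qp Q P ζ))).subtype).map (MulAut.conj P).toMonoidHom =
      Cfsg.Geo.subfieldSubgroup F₀ P ⊓ Cfsg.Geo.omegaGL (⇑Q) := by
    ext x
    constructor
    · rintro ⟨y, ⟨g, ⟨hgN, hgΩ⟩, rfl⟩, rfl⟩
      refine ⟨(mem_subfield_iff_inN (Qp Q P ζ) F₀ P g).mpr hgN, ?_⟩
      rw [← hΩ]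
      exact ⟨_, ⟨g, hgΩ, rfl⟩, rfl⟩
    · rintro ⟨hx1, hx2⟩
      rw [← hΩ] at hx2
      obtain ⟨y, ⟨g, hgΩ, rfl⟩, rfl⟩ := hx2
      exact ⟨_, ⟨g, ⟨(mem_subfield_iff_inN (Qp Q P ζ) F₀ P g).mp hx1, hgΩ⟩, rfl⟩, rfl⟩
  rw [hH] at m2
  exact m2

end Cfsg.Agent.H28OrSub
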