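import Mathlib
import Cfsg.Agent.Lib.Helper28.OrSubI

/-!
# Orthogonal subfield subgroups of special unitary groups (helper28), part A: the hermitian form
in rational coordinates, Siegel transformations, the rational Eichler group inside `SU`
-/

set_option autoImplicit false
set_option linter.unusedSectionVars false

namespace Cfsg.Agent.H28OrInSU

open QuadraticMap Matrix Cfsg.Agent.Helper2.Orth Cfsg.Agent.H28OrSub
open Cfsg.Agent.Helper11.Herm Cfsg.Agent.Helper28.SuGen Cfsg.Agent.Helper28.SpInSU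
open Cfsg.Agent.Helper11

variable {F : Type*} [Field F] {ι : Type} [Fintype ι] [DecidableEq ι]

/-! ### coordinatewise conjugation -/

/-- coordinatewise conjugation -/
def cjv (φ : F →+* F) (v : ι → F) : ι → F := fun i => φ (v i)

section cjv
variable (φ : F →+* F)

theorem cjv_apply (v : ι → F) (i : ι) : cjv φ v i = φ (v i) := rfl

theorem cjv_add (u v : ι → F) : cjv φ (u + v) = cjv φ u + cjv φ v := by
  funext i
  simp [cjv]

theorem cjv_sub (u v : ι → F) : cjv φ (u - v) = cjv φ u - cjv φ v := by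
  funext i
  simp [cjv]

theorem cjv_neg (u : ι → F) : cjv φ (-u) = -cjv φ u := by
  funext i
  simp [cjv]

theorem cjv_zero : cjv φ (0 : ι → F) = 0 := by
  funext i
  simp [cjv]

theorem cjv_smul (c : F) (v : ι → F) : cjv φ (c • v) = φ c • cjv φ v := by
  funext i
  simp [cjv]

theorem cjv_cjv (hφφ : ∀ x, φ (φ x) = x) (v : ι → F) : cjv φ (cjv φ v) = v := by
  funext i
  simp [cjv, hφφ]

theorem cjv_rat {F₀ : Subfield F} (hfix : ∀ x, φ x = x ↔ x ∈ F₀) {v : ι → F}
    (hv : RatV F₀ v) : cjv φ v = v := by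
  funext i
  exact (hfix _).mpr (hv i)

theorem rat_of_cjv {F₀ : Subfield F} (hfix : ∀ x, φ x = x ↔ x ∈ F₀) {v : ι → F}
    (h : cjv φ v = v) : RatV F₀ v := fun i => (hfix _).mp (congrFun h i)

end cjv

/-! ### the hermitian form in rational coordinates -/

/-- the hermitian form `h(Pu, Pv)` -/
def Hp (φ : F →+* F) (P : GL ι F) (u v : ι → F) : F :=
  hdot φ ((P : Matrix ι ι F) *ᵥ u) ((P : Matrix ι ι F) *ᵥ v)

section Hp
variable (φ : F →+* F) (P : GL ι F)

theorem Hp_add_left (u v w : ι → F) : Hp φ P (u + v) w = Hp φ P u w + Hp φ P v w := by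
  unfold Hp
  rw [Matrix.mulVec_add, hdot_add_left]

theorem Hp_add_right (u v w : ι → F) : Hp φ P u (v + w) = Hp φ P u v + Hp φ P u w := by
  unfold Hp
  rw [Matrix.mulVec_add, hdot_add_right]

theorem Hp_smul_left (c : F) (u w : ι → F) : Hp φ P (c • u) w = c * Hp φ P u w := by
  unfold Hp
  rw [Matrix.mulVec_smul, hdot_smul_left]

theorem Hp_smul_right (c : F) (u w : ι → F) : Hp φ P u (c • w) = φ c * Hp φ P u w := by
  unfold Hp
  rw [Matrix.mulVec_smul, hdot_smul_right]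

theorem Hp_zero_left (w : ι → F) : Hp φ P 0 w = 0 := by
  unfold Hp
  rw [Matrix.mulVec_zero, hdot_zero_left]

theorem Hp_zero_right (w : ι → F) : Hp φ P w 0 = 0 := by
  unfold Hp
  rw [Matrix.mulVec_zero, hdot_zero_right]

theorem Hp_neg_left (u w : ι → F) : Hp φ P (-u) w = - Hp φ P u w := by
  have := Hp_smul_left φ P (-1) u w
  rwa [neg_one_smul, neg_one_mul] at this

theorem Hp_neg_right (u w : ι → F) : Hp φ P u (-w) = - Hp φ P u w := by
  have := Hp_smul_right φ P (-1) u w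
  rwa [neg_one_smul, map_neg, map_one, neg_one_mul] at this

theorem Hp_sub_left (u v w : ι → F) : Hp φ P (u - v) w = Hp φ P u w - Hp φ P v w := by
  rw [sub_eq_add_neg, Hp_add_left, Hp_neg_left, ← sub_eq_add_neg]

theorem Hp_sub_right (u v w : ι → F) : Hp φ P u (v - w) = Hp φ P u v - Hp φ P u w := by
  rw [sub_eq_add_neg, Hp_add_right, Hp_neg_right, ← sub_eq_add_neg]

theorem Hp_conj (hφφ : ∀ x, φ (φ x) = x) (u v : ι → F) : φ (Hp φ P u v) = Hp φ P v u := by
  unfold Hp
  exact hdot_conj φ hφφ _ _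

theorem Hp_eq_zero_symm (hφφ : ∀ x, φ (φ x) = x) {u v : ι → F} (h : Hp φ P u v = 0) :
    Hp φ P v u = 0 := by
  rw [← Hp_conj φ P hφφ, h, map_zero]

/-- nondegeneracy -/
theorem eq_zero_of_Hp (u : ι → F) (h : ∀ v, Hp φ P u v = 0) : u = 0 := by
  apply P_mulVec_inj P
  rw [Matrix.mulVec_zero]
  apply eq_zero_of_hdot_right φ
  intro y
  have := h (((P⁻¹ : GL ι F) : Matrix ι ι F) *ᵥ y)
  unfold Hp at this
  rwa [P_inv_mulVec] at this

end Hp

/-! ### the conjugated action -/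

section cj
variable (P : GL ι F)

theorem cj_add (g : GL ι F) (u v : ι → F) : cj P g (u + v) = cj P g u + cj P g v := by
  rw [cj_eq, cj_eq, cj_eq, Matrix.mulVec_add]

theorem cj_sub (g : GL ι F) (u v : ι → F) : cj P g (u - v) = cj P g u - cj P g v := by
  rw [cj_eq, cj_eq, cj_eq, Matrix.mulVec_sub]

theorem cj_smul (g : GL ι F) (c : F) (u : ι → F) : cj P g (c • u) = c • cj P g u := by
  rw [cj_eq, cj_eq, Matrix.mulVec_smul]

theorem cj_neg (g : GL ι F) (u : ι → F) : cj P g (-u) = -cj P g u := by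
  rw [cj_eq, cj_eq, Matrix.mulVec_neg]

theorem cj_zero (g : GL ι F) : cj P g 0 = 0 := by
  rw [cj_eq, Matrix.mulVec_zero]

theorem cj_mul (g h : GL ι F) (u : ι → F) : cj P (g * h) u = cj P g (cj P h u) := by
  rw [cj_eq, cj_eq, cj_eq, Matrix.mulVec_mulVec, ← Units.val_mul]
  congr 2
  group

theorem cj_one (u : ι → F) : cj P 1 u = u := by
  rw [cj_eq]
  have : P⁻¹ * 1 * P = 1 := by group
  rw [this, Units.val_one, Matrix.one_mulVec]

theorem cj_inv_cj (g : GL ι F) (u : ι → F) : cj P g⁻¹ (cj P g u) = u := by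
  rw [← cj_mul, inv_mul_cancel, cj_one]

theorem cj_cj_inv (g : GL ι F) (u : ι → F) : cj P g (cj P g⁻¹ u) = u := by
  rw [← cj_mul, mul_inv_cancel, cj_one]

theorem cj_injective (g : GL ι F) {u v : ι → F} (h : cj P g u = cj P g v) : u = v := by
  rw [← cj_inv_cj P g u, h, cj_inv_cj]

variable (φ : F →+* F)

theorem Hp_cj {g : GL ι F} (hg : g ∈ UG ι φ) (u v : ι → F) :
    Hp φ P (cj P g u) (cj P g v) = Hp φ P u v := by
  unfold Hp
  rw [P_cj, P_cj, IsU.hdot_mulVec φ ((mem_UG_iff φ g).mp hg)]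

theorem Hp_cj_inv {g : GL ι F} (hg : g ∈ UG ι φ) (u v : ι → F) :
    Hp φ P (cj P g⁻¹ u) v = Hp φ P u (cj P g v) := by
  rw [← Hp_cj P φ hg, cj_cj_inv]

/-- a group element is determined by its conjugated action -/
theorem gl_ext_cj {g h : GL ι F} (H : ∀ u, cj P g u = cj P h u) : g = h := by
  apply gl_ext
  intro x
  have := H (((P⁻¹ : GL ι F) : Matrix ι ι F) *ᵥ x)
  have h2 := congrArg (fun w => (P : Matrix ι ι F) *ᵥ w) this
  simp only [P_cj, P_inv_mulVec] at h2
  exact h2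

end cj

/-! ### the standing data -/

/-- the standing hypotheses: `φ` is an involution with fixed field `F₀`, `ε` is purely
imaginary, and the rational quadratic form `Q` polarises to the bilinear extension of the
hermitian form on the rational structure -/
structure Data (φ : F →+* F) (F₀ : Subfield F) (P : GL ι F) (Q : QuadraticForm F (ι → F))
    (ε : F) : Prop where
  hfix : ∀ x, φ x = x ↔ x ∈ F₀
  hφφ : ∀ x, φ (φ x) = x
  hε : φ ε = -ε
  hε0 : ε ≠ 0
  h2 : (2 : F) ≠ 0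
  hQH : ∀ u v : ι → F, polar Q u v = Hp φ P u (cjv φ v)
  hR : RatQ Q F₀
  hQ : (polarBilin Q).Nondegenerate

namespace Data

variable {φ : F →+* F} {F₀ : Subfield F} {P : GL ι F} {Q : QuadraticForm F (ι → F)} {ε : F}
  (D : Data φ F₀ P Q ε)
include D

theorem Hp_eq (u v : ι → F) : Hp φ P u v = polar Q u (cjv φ v) := by
  rw [D.hQH, cjv_cjv φ D.hφφ]

theorem Hp_rat_right (u : ι → F) {v : ι → F} (hv : RatV F₀ v) : Hp φ P u v = polar Q u v := by
  rw [D.Hp_eq, cjv_rat φ D.hfix hv]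

theorem Hp_rat_left {u : ι → F} (hu : RatV F₀ u) (v : ι → F) :
    Hp φ P u v = φ (polar Q u v) := by
  rw [← Hp_conj φ P D.hφφ, D.Hp_rat_right v hu, polar_comm]

theorem phi_polar {r : ι → F} (hr : RatV F₀ r) (x : ι → F) :
    φ (polar Q r x) = polar Q r (cjv φ x) := by
  rw [← D.Hp_rat_left hr, D.Hp_eq]

theorem phi_Q {r : ι → F} (hr : RatV F₀ r) : φ (Q r) = Q r := (D.hfix _).mpr (D.hR r hr)

theorem eps_ne : φ ε ≠ ε := by
  rw [D.hε]
  intro h
  have h1 : (2 : F) * ε = 0 := by linear_combination -h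
  rcases mul_eq_zero.mp h1 with h2 | h2
  · exact D.h2 h2
  · exact D.hε0 h2

theorem eps_not_mem : ε ∉ F₀ := fun h => D.eps_ne ((D.hfix ε).mpr h)

theorem delta_mem : ε * ε ∈ F₀ := by
  rw [← D.hfix, map_mul, D.hε]
  ring

/-- uniqueness of the decomposition into rational and irrational part, for scalars -/
theorem irr {a b : F} (ha : a ∈ F₀) (hb : b ∈ F₀) (h : a + ε * b = 0) : a = 0 ∧ b = 0 := by
  have h1 : a - ε * b = 0 := by
    have := congrArg φ h
    rw [map_add, map_mul, D.hε, (D.hfix a).mpr ha, (D.hfix b).mpr hb, map_zero] at this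
    linear_combination this
  have ha0 : a = 0 := by
    have h3 : (2 : F) * a = 0 := by linear_combination h + h1
    rcases mul_eq_zero.mp h3 with h4 | h4
    · exact absurd h4 D.h2
    · exact h4
  refine ⟨ha0, ?_⟩
  rw [ha0, zero_add] at h
  rcases mul_eq_zero.mp h with h4 | h4
  · exact absurd h4 D.hε0
  · exact h4

theorem mem_of_add_eps {a b : F} (ha : a ∈ F₀) (hb : b ∈ F₀) (h : a + ε * b ∈ F₀) : b = 0 := by
  have := D.irr (F₀.sub_mem ha h) hb (by ring)
  exact this.2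

/-- `ε²` is not a square of the fixed field -/
theorem delta_nonsq {t : F} (ht : t ∈ F₀) : ε * ε ≠ t * t := by
  intro h
  have h1 : (ε - t) * (ε + t) = 0 := by linear_combination h
  rcases mul_eq_zero.mp h1 with h2 | h2
  · apply D.eps_not_mem
    rw [sub_eq_zero.mp h2]
    exact ht
  · apply D.eps_not_mem
    rw [eq_neg_of_add_eq_zero_left h2]
    exact F₀.neg_mem ht

theorem ratV_re (x : ι → F) : RatV F₀ (re φ ε x) := rat_re φ F₀ D.hfix ε D.hφφ D.eps_ne x

theorem ratV_im (x : ι → F) : RatV F₀ (im φ ε x) := rat_im φ F₀ D.hfix ε D.hφφ D.eps_ne x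

theorem re_im_unique {r r' w : ι → F} (hr : RatV F₀ r) (hr' : RatV F₀ r')
    (h : w = r + ε • r') : re φ ε w = r ∧ im φ ε w = r' := by
  have h2ε : ε - φ ε ≠ 0 := fun h0 => D.eps_ne (sub_eq_zero.mp h0).symm
  have him : im φ ε w = r' := by
    funext i
    unfold im
    rw [h]
    simp only [Pi.add_apply, Pi.smul_apply, smul_eq_mul, map_add, map_mul]
    rw [(D.hfix _).mpr (hr i), (D.hfix _).mpr (hr' i)]
    field_simp
    ring
  refine ⟨?_, him⟩
  have := re_add_im φ ε w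
  rw [him] at this
  have h3 : re φ ε w + ε • r' = r + ε • r' := by rw [this, h]
  exact add_right_cancel h3

theorem cjv_eq (w : ι → F) : cjv φ w = re φ ε w - ε • im φ ε w := by
  conv_lhs => rw [← re_add_im φ ε w]
  rw [cjv_add, cjv_smul, cjv_rat φ D.hfix (D.ratV_re w), cjv_rat φ D.hfix (D.ratV_im w), D.hε,
    neg_smul, sub_eq_add_neg]

theorem im_eq (w : ι → F) : im φ ε w = (2 * ε)⁻¹ • (w - cjv φ w) := by
  have h2ε : (2 : F) * ε ≠ 0 := mul_ne_zero D.h2 D.hε0
  have h1 : w - cjv φ w = (2 * ε) • im φ ε w := by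
    rw [D.cjv_eq]
    have h0 := re_add_im φ ε w
    obtain ⟨r, hr⟩ : ∃ r, r = re φ ε w := ⟨_, rfl⟩
    obtain ⟨j, hj⟩ : ∃ j, j = im φ ε w := ⟨_, rfl⟩
    rw [← hr, ← hj] at h0 ⊢
    rw [← h0]
    module
  rw [h1, smul_smul, inv_mul_cancel₀ h2ε, one_smul]

theorem re_eq (w : ι → F) : re φ ε w = (2 : F)⁻¹ • (w + cjv φ w) := by
  have h1 : w + cjv φ w = (2 : F) • re φ ε w := by
    rw [D.cjv_eq]
    have h0 := re_add_im φ ε w
    obtain ⟨r, hr⟩ : ∃ r, r = re φ ε w := ⟨_, rfl⟩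
    obtain ⟨j, hj⟩ : ∃ j, j = im φ ε w := ⟨_, rfl⟩
    rw [← hr, ← hj] at h0 ⊢
    rw [← h0]
    module
  rw [h1, smul_smul, inv_mul_cancel₀ D.h2, one_smul]

/-- splitting a polar form against a rational vector -/
theorem polar_split (w : ι → F) (x : ι → F) :
    polar Q w x = polar Q (re φ ε w) x + ε * polar Q (im φ ε w) x := by
  conv_lhs => rw [← re_add_im φ ε w]
  rw [polar_add_left, polar_smul_left, smul_eq_mul]

theorem polar_eq_zero_split {w x : ι → F} (hx : RatV F₀ x) (h : polar Q w x = 0) :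
    polar Q (re φ ε w) x = 0 ∧ polar Q (im φ ε w) x = 0 := by
  rw [D.polar_split] at h
  exact D.irr (polar_rat D.hR (D.ratV_re w) hx) (polar_rat D.hR (D.ratV_im w) hx) h

theorem polar_self_rat (r : ι → F) : polar Q r r = 2 * Q r := by
  rw [polar_self, two_smul, two_mul]

theorem Hp_self_rat {r : ι → F} (hr : RatV F₀ r) (hQr : Q r = 0) : Hp φ P r r = 0 := by
  rw [D.Hp_rat_right r hr, D.polar_self_rat, hQr, mul_zero]

theorem hdot_self_rat {r : ι → F} (hr : RatV F₀ r) (hQr : Q r = 0) :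
    hdot φ ((P : Matrix ι ι F) *ᵥ r) ((P : Matrix ι ι F) *ᵥ r) = 0 := D.Hp_self_rat hr hQr

/-- the isotropy condition in terms of the rational and irrational parts -/
theorem isotropic_iff (w : ι → F) :
    Hp φ P w w = 2 * (Q (re φ ε w) - ε * ε * Q (im φ ε w)) := by
  rw [D.Hp_eq, D.cjv_eq]
  have h0 := re_add_im φ ε w
  obtain ⟨r, hr⟩ : ∃ r, r = re φ ε w := ⟨_, rfl⟩
  obtain ⟨j, hj⟩ : ∃ j, j = im φ ε w := ⟨_, rfl⟩
  rw [← hr, ← hj] at h0 ⊢
  rw [← h0]
  simp only [polar_add_left, polar_sub_right, polar_smul_left, polar_smul_right, smul_eq_mul]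
  rw [polar_comm Q j r, D.polar_self_rat, D.polar_self_rat]
  ring

end Data

end Cfsg.Agent.H28OrInSU
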