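import Mathlib
import Cfsg.Agent.Lib.Helper28.OrInSUA

/-!
# Orthogonal subfield subgroups of special unitary groups (helper28), part B: unitary Siegel
transformations (as maps) and the rational Eichler group inside the special unitary group
-/

set_option autoImplicit false
set_option linter.unusedSectionVars false

namespace Cfsg.Agent.H28OrInSU

open QuadraticMap Matrix Cfsg.Agent.Helper2.Orth Cfsg.Agent.H28OrSub
open Cfsg.Agent.Helper11.Herm Cfsg.Agent.Helper28.SuGen Cfsg.Agent.Helper28.SpInSU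
open Cfsg.Agent.Helper11

variable {F : Type*} [Field F] {ι : Type} [Fintype ι] [DecidableEq ι]

/-! ### Siegel transformations as maps -/

section sgf
variable (φ : F →+* F) (P : GL ι F)

/-- the unitary Siegel transformation with centre `z`, in rational coordinates -/
def sgf (z c : ι → F) (τ : F) (v : ι → F) : ι → F :=
  v + Hp φ P v c • z - Hp φ P v z • c + (τ * Hp φ P v z) • z

theorem sgf_sgf {z c c' : ι → F} (hzz : Hp φ P z z = 0) (hcz : Hp φ P c z = 0)
    (hzc : Hp φ P z c = 0) (hc'z : Hp φ P c' z = 0) (τ τ' : F) (v : ι → F) :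
    sgf φ P z c τ (sgf φ P z c' τ' v) = sgf φ P z (c + c') (τ + τ' - Hp φ P c' c) v := by
  unfold sgf
  simp only [Hp_add_left, Hp_sub_left, Hp_smul_left, Hp_add_right, hzz, hcz, hzc, hc'z, mul_zero,
    add_zero, sub_zero]
  module

theorem sgf_zero (z : ι → F) (v : ι → F) : sgf φ P z 0 0 v = v := by
  unfold sgf
  simp [Hp_zero_right]

/-- the inverse of a Siegel transformation -/
theorem sgf_inv {z c : ι → F} (hzz : Hp φ P z z = 0) (hcz : Hp φ P c z = 0)
    (hzc : Hp φ P z c = 0) (τ : F) (v : ι → F) :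
    sgf φ P z c τ (sgf φ P z (-c) (-τ - Hp φ P c c) v) = v := by
  rw [sgf_sgf φ P hzz hcz hzc (by rw [Hp_neg_left, hcz, neg_zero])]
  have h1 : c + -c = 0 := add_neg_cancel c
  have h2 : τ + (-τ - Hp φ P c c) - Hp φ P (-c) c = 0 := by
    rw [Hp_neg_left]
    ring
  rw [h1, h2, sgf_zero]

theorem sgf_inv' {z c : ι → F} (hzz : Hp φ P z z = 0) (hcz : Hp φ P c z = 0)
    (hzc : Hp φ P z c = 0) (τ : F) (v : ι → F) :
    sgf φ P z (-c) (-τ - Hp φ P c c) (sgf φ P z c τ v) = v := by
  rw [sgf_sgf φ P hzz (by rw [Hp_neg_left, hcz, neg_zero]) (by rw [Hp_neg_right, hzc, neg_zero])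
    hcz]
  have h1 : -c + c = 0 := neg_add_cancel c
  have h2 : -τ - Hp φ P c c + τ - Hp φ P c (-c) = 0 := by
    rw [Hp_neg_right]
    ring
  rw [h1, h2, sgf_zero]

/-- a transvection as a Siegel transformation -/
theorem sgf_tv (y : ι → F) (ν : F) (v : ι → F) :
    sgf φ P y 0 ν v = v + (ν * Hp φ P v y) • y := by
  unfold sgf
  simp [Hp_zero_right]

/-- the two descriptions of a long root element -/
theorem sgf_swap (hφφ : ∀ x, φ (φ x) = x) (z y : ι → F) (κ : F) (v : ι → F) :
    sgf φ P z (κ • y) 0 v = sgf φ P y (-(φ κ) • z) 0 v := by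
  unfold sgf
  simp only [Hp_smul_right, zero_mul, zero_smul, add_zero, map_neg, hφφ]
  module

/-- changing the representative of the axis -/
theorem sgf_congr {z c : ι → F} (τ : F) (v : ι → F) : sgf φ P z c τ v = sgf φ P z c τ v := rfl

variable {φ P}

/-- conjugating a Siegel transformation by a unitary element -/
theorem sgf_conj {g : GL ι F} (hg : g ∈ UG ι φ) (z c : ι → F) (τ : F) (v : ι → F) :
    cj P g (sgf φ P z c τ (cj P g⁻¹ v)) = sgf φ P (cj P g z) (cj P g c) τ v := by
  unfold sgf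
  simp only [cj_add, cj_sub, cj_smul, cj_cj_inv, Hp_cj_inv P φ hg]

end sgf

/-- `g` acts in rational coordinates as the map `f` -/
def ActsAs (P : GL ι F) (g : GL ι F) (f : (ι → F) → (ι → F)) : Prop := ∀ u, cj P g u = f u

section acts
variable {P : GL ι F}

theorem ActsAs.mul {g h : GL ι F} {f f' : (ι → F) → (ι → F)} (hg : ActsAs P g f)
    (hh : ActsAs P h f') : ActsAs P (g * h) (fun u => f (f' u)) := by
  intro u
  rw [cj_mul, hh u, hg]

theorem ActsAs.inv {g : GL ι F} {f f' : (ι → F) → (ι → F)} (hg : ActsAs P g f)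
    (hff : ∀ u, f (f' u) = u) : ActsAs P g⁻¹ f' := by
  intro u
  have h1 := hg (f' u)
  rw [hff] at h1
  calc cj P g⁻¹ u = cj P g⁻¹ (cj P g (f' u)) := by rw [h1]
    _ = f' u := cj_inv_cj P g _

theorem ActsAs.congr {g : GL ι F} {f f' : (ι → F) → (ι → F)} (hg : ActsAs P g f)
    (hff : ∀ u, f u = f' u) : ActsAs P g f' := fun u => by rw [hg u, hff]

theorem ActsAs.eq {g h : GL ι F} {f : (ι → F) → (ι → F)} (hg : ActsAs P g f)
    (hh : ActsAs P h f) : g = h := by
  apply gl_ext_cj P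
  intro u
  rw [hg u, hh u]

end acts

/-! ### the rational Eichler group inside the unitary group -/

section hat
variable (P : GL ι F) (Q : QuadraticForm F (ι → F))

/-- the isometry group of `Q`, transported to the original coordinates -/
def hat : ↥(Cfsg.isometryGroup F (⇑Q)) →* GL ι F :=
  (MulAut.conj P).toMonoidHom.comp (Subgroup.subtype _)

theorem hat_apply (r : ↥(Cfsg.isometryGroup F (⇑Q))) :
    hat P Q r = P * (r : GL ι F) * P⁻¹ := rfl

theorem cj_hat (r : ↥(Cfsg.isometryGroup F (⇑Q))) (u : ι → F) : cj P (hat P Q r) u = r • u := by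
  rw [hat_apply, cj_conj, Cfsg.Agent.Helper2.Orth.smul_def]

theorem hat_mulVec (r : ↥(Cfsg.isometryGroup F (⇑Q))) (u : ι → F) :
    ((hat P Q r : GL ι F) : Matrix ι ι F) *ᵥ ((P : Matrix ι ι F) *ᵥ u) =
      (P : Matrix ι ι F) *ᵥ (r • u) := by
  rw [← cj_hat P Q r u, P_cj]

end hat

/-- the determinant of an Eichler transformation -/
theorem eichG_det' [Fintype F] {Q : QuadraticForm F (ι → F)} {z b : ι → F} (hz : Q z = 0)
    (hzb : polar Q z b = 0) :
    Matrix.GeneralLinearGroup.det ((eichG Q z b : Cfsg.isometryGroup F (⇑Q)) : GL ι F) = 1 := by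
  classical
  obtain ⟨p, hp⟩ := CharP.exists F
  haveI := hp
  have hpp : p.Prime := CharP.char_is_prime F p
  have hpow : ∀ k : ℕ, (eichG Q z b) ^ k = eichG Q z ((k : F) • b) := by
    intro k
    induction k with
    | zero => rw [pow_zero, Nat.cast_zero, zero_smul, eichG_zero]
    | succ k ih =>
      rw [pow_succ, ih, eichG_mul hz (by rw [polar_smul_right, hzb, smul_zero]) hzb, Nat.cast_succ,
        add_smul, one_smul]
  have h1 : (eichG Q z b) ^ p = 1 := by
    rw [hpow, CharP.cast_eq_zero, zero_smul, eichG_zero]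
  obtain ⟨d, hd⟩ : ∃ d, d = Matrix.GeneralLinearGroup.det
      ((eichG Q z b : Cfsg.isometryGroup F (⇑Q)) : GL ι F) := ⟨_, rfl⟩
  rw [← hd]
  have hd1 : d ^ p = 1 := by
    rw [hd, ← map_pow, ← Subgroup.coe_pow, h1, Subgroup.coe_one, map_one]
  have hd2 : d ^ (Fintype.card F - 1) = 1 := by
    have := pow_card_eq_one (G := Fˣ) (x := d)
    rwa [Fintype.card_units] at this
  have hcop : Nat.Coprime p (Fintype.card F - 1) := by
    rw [Nat.Prime.coprime_iff_not_dvd hpp]
    intro hdvd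
    haveI : Fact p.Prime := ⟨hpp⟩
    obtain ⟨k, -, hk⟩ := FiniteField.card F p
    have h3 : p ∣ Fintype.card F := by
      rw [hk]
      exact dvd_pow_self p k.ne_zero
    have h4 := Nat.dvd_sub h3 hdvd
    have h5 : 0 < Fintype.card F := Fintype.card_pos
    have h6 : Fintype.card F - (Fintype.card F - 1) = 1 := by omega
    rw [h6] at h4
    exact hpp.one_lt.ne' (Nat.dvd_one.mp h4)
  have := pow_gcd_eq_one.mpr ⟨hd1, hd2⟩
  rwa [Nat.Coprime.gcd_eq_one hcop, pow_one] at this

/-- elements commuting with the conjugation -/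
def CommCj (φ : F →+* F) {Q : QuadraticForm F (ι → F)} (r : ↥(Cfsg.isometryGroup F (⇑Q))) :
    Prop := ∀ u : ι → F, r • cjv φ u = cjv φ (r • u)

namespace Data

variable {φ : F →+* F} {F₀ : Subfield F} {P : GL ι F} {Q : QuadraticForm F (ι → F)} {ε : F}
  (D : Data φ F₀ P Q ε)
include D

/-- a rational Eichler transformation is a Siegel transformation of the hermitian form -/
theorem E_sgf {z b : ι → F} (hzr : RatV F₀ z) (hbr : RatV F₀ b) (hz : Q z = 0)
    (hzb : polar Q z b = 0) (v : ι → F) : eichG Q z b • v = sgf φ P z b (-Q b) v := by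
  rw [E_smul hz hzb]
  unfold sgf
  rw [D.Hp_rat_right v hbr, D.Hp_rat_right v hzr, polar_comm Q v b, polar_comm Q v z]
  module

theorem commCj_E {z b : ι → F} (hzr : RatV F₀ z) (hbr : RatV F₀ b) (hz : Q z = 0)
    (hzb : polar Q z b = 0) : CommCj φ (eichG Q z b) := by
  intro u
  rw [E_smul hz hzb, E_smul hz hzb]
  simp only [cjv_add, cjv_sub, cjv_smul, cjv_rat φ D.hfix hzr, cjv_rat φ D.hfix hbr,
    D.phi_polar hzr, D.phi_polar hbr, D.phi_Q hbr]

theorem Hp_commCj {r : ↥(Cfsg.isometryGroup F (⇑Q))} (hr : CommCj φ r) (u v : ι → F) :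
    Hp φ P (r • u) (r • v) = Hp φ P u v := by
  rw [D.Hp_eq, ← hr, polar_smul_smul, ← D.Hp_eq]

theorem hat_mem_UG {r : ↥(Cfsg.isometryGroup F (⇑Q))} (hr : CommCj φ r) :
    hat P Q r ∈ UG ι φ := by
  rw [mem_UG_iff, isU_iff_preserves]
  intro u v
  have hu := P_inv_mulVec P u
  have hv := P_inv_mulVec P v
  rw [← hu, ← hv, hat_mulVec, hat_mulVec]
  exact D.Hp_commCj hr _ _

theorem commCj_R0 {r : ↥(Cfsg.isometryGroup F (⇑Q))} (hr : r ∈ R0 Q F₀) :
    CommCj φ r ∧ CommCj φ r⁻¹ := by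
  unfold R0 at hr
  induction hr using Subgroup.closure_induction with
  | mem g hg =>
    obtain ⟨z, b, hzr, hbr, hz, hzb, rfl⟩ := hg
    refine ⟨D.commCj_E hzr hbr hz hzb, ?_⟩
    rw [eichG_inv hz hzb]
    exact D.commCj_E hzr (ratV_neg hbr) hz (by rw [polar_neg_right, hzb, neg_zero])
  | one =>
    refine ⟨fun u => by rw [one_smul, one_smul], fun u => by rw [inv_one, one_smul, one_smul]⟩
  | mul g h _ _ ihg ihh =>
    refine ⟨fun u => by rw [mul_smul, mul_smul, ihh.1, ihg.1], fun u => ?_⟩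
    rw [_root_.mul_inv_rev, mul_smul, mul_smul, ihg.2, ihh.2]
  | inv g _ ih =>
    refine ⟨ih.2, ?_⟩
    rw [inv_inv]
    exact ih.1

/-- the rational Eichler group lies in the subfield subgroup of the special unitary group -/
theorem hat_R0_mem [Fintype F] {r : ↥(Cfsg.isometryGroup F (⇑Q))} (hr : r ∈ R0 Q F₀) :
    hat P Q r ∈ Cfsg.Geo.subfieldSubgroup F₀ P ⊓ SUg ι φ := by
  refine ⟨?_, D.hat_mem_UG (D.commCj_R0 hr).1, ?_⟩
  · exact (mem_subfield_iff_inN Q F₀ P r).mpr (R0_le_N0 D.hR hr)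
  · have key : R0 Q F₀ ≤ (Cfsg.Geo.specialLinear ι F).comap (hat P Q) := by
      unfold R0
      rw [Subgroup.closure_le]
      rintro g ⟨z, b, -, -, hz, hzb, rfl⟩
      show hat P Q (eichG Q z b) ∈ Cfsg.Geo.specialLinear ι F
      rw [Cfsg.Agent.Helper28.mem_specialLinear_iff, hat_apply, map_mul, map_mul, map_inv,
        eichG_det' hz hzb]
      simp
    exact key hr

end Data

end Cfsg.Agent.H28OrInSU
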