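import Mathlib
import Cfsg.Agent.Lib.Helper28.OrInSUB

/-!
# Orthogonal subfield subgroups of special unitary groups (helper28), part C: an overgroup
containing a unitary transvection with rational centre contains the special unitary group
-/

set_option autoImplicit false
set_option linter.unusedSectionVars false

namespace Cfsg.Agent.H28OrInSU

open QuadraticMap Matrix Cfsg.Agent.Helper2.Orth Cfsg.Agent.H28OrSub
open Cfsg.Agent.Helper11.Herm Cfsg.Agent.Helper28.SuGen Cfsg.Agent.Helper28.SpInSU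
open Cfsg.Agent.Helper11 Cfsg.Agent.Helper28

variable {F : Type*} [Field F] {ι : Type} [Fintype ι] [DecidableEq ι]

/-! ### algebra of unitary transvections -/

section UT
variable (φ : F →+* F)

theorem UT_mul (v : ι → F) (hv : hdot φ v v = 0) (c c' : F) :
    UT φ v c * UT φ v c' = UT φ v (c + c') := by
  apply Units.ext
  rw [Units.val_mul, UT_val φ v hv, UT_val φ v hv, UT_val φ v hv, tv_mul_tv φ v hv]

theorem UT_zero (v : ι → F) : UT φ v 0 = 1 := by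
  by_cases hv : hdot φ v v = 0
  · apply Units.ext
    rw [UT_val φ v hv, tv_zero_right, Units.val_one]
  · unfold UT
    rw [dif_neg hv]

theorem UT_inv (v : ι → F) (hv : hdot φ v v = 0) (c : F) : (UT φ v c)⁻¹ = UT φ v (-c) := by
  apply inv_eq_of_mul_eq_one_right
  rw [UT_mul φ v hv, add_neg_cancel, UT_zero]

theorem UT_smul_center (v : ι → F) (hv : hdot φ v v = 0) (t c : F) :
    UT φ (t • v) c = UT φ v (t * φ t * c) := by
  have htv : hdot φ (t • v) (t • v) = 0 := by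
    rw [hdot_smul_left, hdot_smul_right, hv, mul_zero, mul_zero]
  apply gl_ext
  intro x
  rw [UT_mulVec φ _ htv, UT_mulVec φ _ hv, hdot_smul_right, smul_smul]
  congr 2
  ring

theorem UT_zero_center (c : F) : UT φ (0 : ι → F) c = 1 := by
  have h0 : hdot φ (0 : ι → F) 0 = 0 := hdot_zero_left φ 0
  apply gl_ext
  intro x
  rw [UT_mulVec φ _ h0, smul_zero, add_zero, Units.val_one, Matrix.one_mulVec]

theorem zero_mem_cen (M : Subgroup (GL ι F)) : (0 : ι → F) ∈ Cen φ M := by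
  refine ⟨hdot_zero_left φ 0, fun c _ => ?_⟩
  rw [UT_zero_center]
  exact M.one_mem

/-- the isotropic vectors of a hyperbolic line spanned by two centres are centres -/
theorem cen_hyp (hφφ : ∀ x, φ (φ x) = x) (M : Subgroup (GL ι F)) (hMU : M ≤ UG ι φ)
    {x z : ι → F} (hx : x ∈ Cen φ M) (hz : z ∈ Cen φ M) (hxz : hdot φ x z ≠ 0) (α β : F)
    (hw : hdot φ (α • x + β • z) (α • x + β • z) = 0) : α • x + β • z ∈ Cen φ M := by
  by_cases hα : α = 0
  · rw [hα, zero_smul, zero_add]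
    exact cen_scalar φ hφφ M β z hz
  have hzx : hdot φ z x ≠ 0 := by
    rw [← hdot_conj φ hφφ]
    intro h
    exact hxz ((map_eq_zero φ).mp h)
  have hφα : φ α ≠ 0 := fun h => hα ((map_eq_zero φ).mp h)
  have hiso : α * φ β * hdot φ x z + β * φ α * hdot φ z x = 0 := by
    have := hw
    simp only [hdot_add_left, hdot_add_right, hdot_smul_left, hdot_smul_right, hx.1, hz.1,
      mul_zero, zero_add, add_zero] at this
    linear_combination this
  set γ := β / α with hγ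
  set c := γ / hdot φ x z with hc
  have hctr : c + φ c = 0 := by
    rw [hc, hγ, map_div₀, map_div₀, hdot_conj φ hφφ]
    field_simp
    linear_combination hiso
  have h1 := cen_line φ hφφ M hMU x z hx hz c hctr
  have h2 : c * hdot φ x z = γ := by
    rw [hc]
    field_simp
  rw [h2] at h1
  have h3 := cen_scalar φ hφφ M α _ h1
  have h4 : α • (x + γ • z) = α • x + β • z := by
    rw [smul_add, smul_smul, hγ, mul_div_cancel₀ _ hα]
  rwa [h4] at h3

end UT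

namespace Data

variable {φ : F →+* F} {F₀ : Subfield F} {P : GL ι F} {Q : QuadraticForm F (ι → F)} {ε : F}
  (D : Data φ F₀ P Q ε)
include D

/-- a rational singular vector not orthogonal to a given non-zero rational vector -/
theorem exists_sing_ne [Fintype F] (hn : 3 ≤ Fintype.card ι) {u : ι → F} (hur : RatV F₀ u)
    (hu0 : u ≠ 0) : ∃ x, RatV F₀ x ∧ Q x = 0 ∧ polar Q u x ≠ 0 := by
  obtain ⟨fr⟩ := exists_frame D.hQ D.hR 1 (by omega)
  by_cases h1 : polar Q u (fr.e 0) = 0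
  swap
  · exact ⟨fr.e 0, fr.re 0, fr.fr.qe 0, h1⟩
  by_cases h2 : polar Q u (fr.f 0) = 0
  swap
  · exact ⟨fr.f 0, fr.rf 0, fr.fr.qf 0, h2⟩
  obtain ⟨v, hvr, hv⟩ := exists_rat_polar_one D.hQ D.hR hur hu0
  have hv' : polar Q u (fr.proj v) = 1 := by
    unfold RFrame.proj
    rw [polar_sub_right, polar_sum_right, hv, Fin.sum_univ_one, polar_add_right,
      polar_smul_right, polar_smul_right, h1, h2]
    simp
  have hr' : RatV F₀ (fr.proj v) := fr.ratV_proj D.hR hvr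
  refine ⟨fr.proj v + (fr.e 0 + (-Q (fr.proj v)) • fr.f 0),
    ratV_add hr' (ratV_add (fr.re 0) (ratV_smul (F₀.neg_mem (D.hR _ hr')) (fr.rf 0))), ?_, ?_⟩
  · rw [Q_add' Q, Q_lin2, fr.fr.qe, fr.fr.qf, fr.fr.ef, if_pos rfl, polar_add_right,
      polar_smul_right, polar_comm Q _ (fr.e 0), polar_comm Q _ (fr.f 0), fr.polar_e_proj,
      fr.polar_f_proj]
    simp
  · rw [polar_add_right, polar_add_right, polar_smul_right, h1, h2, hv']
    simp

variable (M : Subgroup (GL ι F))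
  (hHM : Cfsg.Geo.subfieldSubgroup F₀ P ⊓ SuGen.SUg ι φ ≤ M)

include hHM in
/-- one transvection with rational centre gives all transvections with rational centres -/
theorem cen_rat [Fintype F] (hn : 5 ≤ Fintype.card ι) {y : ι → F} (hyr : RatV F₀ y)
    (hy0 : y ≠ 0) (hQy : Q y = 0) {ν : F} (hν0 : ν ≠ 0) (hν : ν + φ ν = 0)
    (hM : UT φ ((P : Matrix ι ι F) *ᵥ y) ν ∈ M) {y' : ι → F} (hyr' : RatV F₀ y')
    (hQy' : Q y' = 0) : (P : Matrix ι ι F) *ᵥ y' ∈ Cen φ M := by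
  have hyiso := D.hdot_self_rat hyr hQy
  have hconj : ∀ r ∈ R0 Q F₀, ∀ c, UT φ ((P : Matrix ι ι F) *ᵥ y) c ∈ M →
      UT φ ((P : Matrix ι ι F) *ᵥ (r • y)) c ∈ M := by
    intro r hr c hc
    have hrM := hHM (D.hat_R0_mem hr)
    have hrU := D.hat_mem_UG (D.commCj_R0 hr).1
    have := conj_UT φ (hat P Q r) hrU _ hyiso c
    rw [hat_mulVec] at this
    rw [← this]
    exact M.mul_mem (M.mul_mem hrM hc) (M.inv_mem hrM)
  have hsq : ∀ t ∈ F₀, ∀ c, UT φ ((P : Matrix ι ι F) *ᵥ y) c ∈ M →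
      UT φ ((P : Matrix ι ι F) *ᵥ y) (t * t * c) ∈ M := by
    intro t ht c hc
    by_cases ht0 : t = 0
    · rw [ht0, zero_mul, zero_mul, UT_zero]
      exact M.one_mem
    obtain ⟨r, hr, hry⟩ := trans_sing D.hQ D.hR hn hyr hy0 hQy (ratV_smul ht hyr)
      (smul_ne_zero ht0 hy0) (by rw [QuadraticMap.map_smul, hQy, smul_zero])
    have := hconj r hr c hc
    rw [hry, Matrix.mulVec_smul, UT_smul_center φ _ hyiso, (D.hfix t).mpr ht] at this
    exact this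
  have hsub : ∀ c c', UT φ ((P : Matrix ι ι F) *ᵥ y) c ∈ M →
      UT φ ((P : Matrix ι ι F) *ᵥ y) c' ∈ M → UT φ ((P : Matrix ι ι F) *ᵥ y) (c - c') ∈ M := by
    intro c c' hc hc'
    have := M.mul_mem hc (M.inv_mem hc')
    rwa [UT_inv φ _ hyiso, UT_mul φ _ hyiso, ← sub_eq_add_neg] at this
  have h2m : (2 : F)⁻¹ ∈ F₀ := F₀.inv_mem (by
    have : (2 : F) = 1 + 1 := by norm_num
    rw [this]
    exact F₀.add_mem F₀.one_mem F₀.one_mem)
  have hall : ∀ s ∈ F₀, UT φ ((P : Matrix ι ι F) *ᵥ y) (s * ν) ∈ M := by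
    intro s hs
    have ha : (s + 1) * 2⁻¹ ∈ F₀ := F₀.mul_mem (F₀.add_mem hs F₀.one_mem) h2m
    have hb : (s - 1) * 2⁻¹ ∈ F₀ := F₀.mul_mem (F₀.sub_mem hs F₀.one_mem) h2m
    have := hsub _ _ (hsq _ ha ν hM) (hsq _ hb ν hM)
    have h2 := D.h2
    have e : (s + 1) * 2⁻¹ * ((s + 1) * 2⁻¹) * ν - (s - 1) * 2⁻¹ * ((s - 1) * 2⁻¹) * ν = s * ν := by
      field_simp
      ring
    rwa [e] at this
  have hyC : (P : Matrix ι ι F) *ᵥ y ∈ Cen φ M := by
    refine ⟨hyiso, fun c hc => ?_⟩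
    have hφν : φ ν ≠ 0 := fun h => hν0 ((map_eq_zero φ).mp h)
    have hs : c / ν ∈ F₀ := by
      rw [← D.hfix, map_div₀]
      have h1 : φ c = -c := by linear_combination hc
      have h2 : φ ν = -ν := by linear_combination hν
      rw [h1, h2, neg_div_neg_eq]
    have := hall _ hs
    rwa [div_mul_cancel₀ _ hν0] at this
  by_cases hy0' : y' = 0
  · rw [hy0', Matrix.mulVec_zero]
    exact zero_mem_cen φ M
  obtain ⟨r, hr, hry⟩ := trans_sing D.hQ D.hR hn hyr hy0 hQy hyr' hy0' hQy'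
  have hrM := hHM (D.hat_R0_mem hr)
  have hrU := D.hat_mem_UG (D.commCj_R0 hr).1
  have := cen_smul φ M (hat P Q r) hrM hrU _ hyC
  rwa [hat_mulVec, hry] at this

include hHM in
/-- all isotropic vectors are centres -/
theorem cen_all [Fintype F] (hn : 5 ≤ Fintype.card ι) (hMK : M ≤ SuGen.SUg ι φ)
    (hrat : ∀ y' : ι → F, RatV F₀ y' → Q y' = 0 → (P : Matrix ι ι F) *ᵥ y' ∈ Cen φ M)
    {v : ι → F} (hv : hdot φ v v = 0) : v ∈ Cen φ M := by
  have hMU : M ≤ UG ι φ := fun g hg => (hMK hg).1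
  obtain ⟨u, hu⟩ : ∃ u, u = ((P⁻¹ : GL ι F) : Matrix ι ι F) *ᵥ v := ⟨_, rfl⟩
  have hPu : (P : Matrix ι ι F) *ᵥ u = v := by rw [hu, P_inv_mulVec]
  by_cases hu0 : u = 0
  · rw [← hPu, hu0, Matrix.mulVec_zero]
    exact zero_mem_cen φ M
  -- a rational singular vector not orthogonal to `u`
  obtain ⟨x, hxr, hQx, hux⟩ : ∃ x, RatV F₀ x ∧ Q x = 0 ∧ Hp φ P u x ≠ 0 := by
    by_cases hre : re φ ε u = 0
    · have him : im φ ε u ≠ 0 := by
        intro h
        apply hu0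
        rw [← re_add_im φ ε u, hre, h, smul_zero, add_zero]
      obtain ⟨x, hxr, hQx, hx⟩ := D.exists_sing_ne (by omega) (D.ratV_im u) him
      refine ⟨x, hxr, hQx, ?_⟩
      rw [D.Hp_rat_right u hxr]
      intro h
      exact hx (D.polar_eq_zero_split hxr h).2
    · obtain ⟨x, hxr, hQx, hx⟩ := D.exists_sing_ne (by omega) (D.ratV_re u) hre
      refine ⟨x, hxr, hQx, ?_⟩
      rw [D.Hp_rat_right u hxr]
      intro h
      exact hx (D.polar_eq_zero_split hxr h).1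
  -- normalise
  obtain ⟨z, hz⟩ : ∃ z, z = (Hp φ P u x)⁻¹ • u := ⟨_, rfl⟩
  have huz : u = Hp φ P u x • z := by
    rw [hz, smul_smul, mul_inv_cancel₀ hux, one_smul]
  suffices hzC : (P : Matrix ι ι F) *ᵥ z ∈ Cen φ M by
    rw [← hPu, huz, Matrix.mulVec_smul]
    exact cen_scalar φ D.hφφ M _ _ hzC
  have hzx : Hp φ P z x = 1 := by
    rw [hz, Hp_smul_left, inv_mul_cancel₀ hux]
  have hzz : Hp φ P z z = 0 := by
    rw [hz, Hp_smul_left, Hp_smul_right]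
    have : Hp φ P u u = 0 := by
      unfold Hp
      rw [hPu, hv]
    rw [this, mul_zero, mul_zero]
  obtain ⟨z₀, hz₀⟩ : ∃ z₀, z₀ = re φ ε z := ⟨_, rfl⟩
  obtain ⟨z₁, hz₁⟩ : ∃ z₁, z₁ = im φ ε z := ⟨_, rfl⟩
  have hz₀r : RatV F₀ z₀ := hz₀ ▸ D.ratV_re z
  have hz₁r : RatV F₀ z₁ := hz₁ ▸ D.ratV_im z
  have hzdec : z = z₀ + ε • z₁ := by rw [hz₀, hz₁, re_add_im]
  have hpx : polar Q z₀ x = 1 ∧ polar Q z₁ x = 0 := by
    have h1 : polar Q z x = 1 := by rw [← D.Hp_rat_right z hxr, hzx]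
    rw [D.polar_split, ← hz₀, ← hz₁] at h1
    have h2 := D.irr (F₀.sub_mem (polar_rat D.hR hz₀r hxr) F₀.one_mem)
      (polar_rat D.hR hz₁r hxr) (by linear_combination h1)
    exact ⟨sub_eq_zero.mp h2.1, h2.2⟩
  have hQz : Q z₀ = ε * ε * Q z₁ := by
    have h1 := D.isotropic_iff z
    rw [hzz, ← hz₀, ← hz₁] at h1
    rcases mul_eq_zero.mp h1.symm with h2 | h2
    · exact absurd h2 D.h2
    · exact sub_eq_zero.mp h2
  obtain ⟨δ, hδ⟩ : ∃ δ, δ = ε * ε := ⟨_, rfl⟩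
  have hδm : δ ∈ F₀ := hδ ▸ D.delta_mem
  rw [← hδ] at hQz
  obtain ⟨s, hs⟩ : ∃ s, s = Q z₁ := ⟨_, rfl⟩
  obtain ⟨t, ht⟩ : ∃ t, t = polar Q z₀ z₁ := ⟨_, rfl⟩
  have hsm : s ∈ F₀ := hs ▸ D.hR _ hz₁r
  have htm : t ∈ F₀ := ht ▸ polar_rat D.hR hz₀r hz₁r
  obtain ⟨c', hc'⟩ : ∃ c', c' = 1 + δ * s * s - t := ⟨_, rfl⟩
  have hc'm : c' ∈ F₀ := by
    rw [hc']
    exact F₀.sub_mem (F₀.add_mem F₀.one_mem (F₀.mul_mem (F₀.mul_mem hδm hsm) hsm)) htm
  have hctr : ε * c' + φ (ε * c') = 0 := by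
    rw [map_mul, D.hε, (D.hfix c').mpr hc'm]
    ring
  have hxC := hrat x hxr hQx
  -- the moved vector
  obtain ⟨z₁', hz₁'⟩ : ∃ z₁', z₁' = z₁ + c' • x := ⟨_, rfl⟩
  have hz₁'r : RatV F₀ z₁' := hz₁' ▸ ratV_add hz₁r (ratV_smul hc'm hxr)
  have hmove : ((UT φ ((P : Matrix ι ι F) *ᵥ x) (ε * c') : GL ι F) : Matrix ι ι F) *ᵥ
      ((P : Matrix ι ι F) *ᵥ z) = (P : Matrix ι ι F) *ᵥ (z₀ + ε • z₁') := by
    rw [UT_mulVec φ _ hxC.1]
    have : hdot φ ((P : Matrix ι ι F) *ᵥ z) ((P : Matrix ι ι F) *ᵥ x) = 1 := hzx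
    rw [this, mul_one, ← Matrix.mulVec_smul, ← Matrix.mulVec_add, hzdec, hz₁']
    congr 1
    module
  have hQz₁' : Q z₁' = s := by
    rw [hz₁', Q_lin2, hQx, hpx.2, ← hs]
    ring
  have hpz' : polar Q z₀ z₁' = 1 + δ * s * s := by
    rw [hz₁', polar_add_right, polar_smul_right, hpx.1, ← ht, hc', smul_eq_mul]
    ring
  -- the two rational singular vectors
  obtain ⟨X, hX⟩ : ∃ X, X = (-z₁') + s • z₀ := ⟨_, rfl⟩
  obtain ⟨Y, hY⟩ : ∃ Y, Y = z₀ + (-(δ * s)) • z₁' := ⟨_, rfl⟩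
  have hXr : RatV F₀ X := hX ▸ ratV_add (ratV_neg hz₁'r) (ratV_smul hsm hz₀r)
  have hYr : RatV F₀ Y :=
    hY ▸ ratV_add hz₀r (ratV_smul (F₀.neg_mem (F₀.mul_mem hδm hsm)) hz₁'r)
  have hQX : Q X = 0 := by
    rw [hX, Q_lin2, QuadraticMap.map_neg, hQz₁', polar_neg_left, polar_comm Q z₁' z₀, hpz', hQz,
      ← hs]
    ring
  have hQY : Q Y = 0 := by
    rw [hY, Q_lin2, hQz₁', hpz', hQz, ← hs]
    ring
  have hXY : polar Q X Y = -((1 - δ * s * s) * (1 - δ * s * s)) := by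
    rw [hX, hY]
    simp only [polar_add_left, polar_add_right, polar_smul_left, polar_smul_right, polar_neg_left,
      smul_eq_mul, D.polar_self_rat, polar_comm Q z₁' z₀, hpz', hQz₁', hQz, ← hs]
    ring
  have hne1 : 1 - δ * s * s ≠ 0 := by
    intro h
    have hs0 : s ≠ 0 := by
      intro h0
      rw [h0] at h
      simp at h
    apply D.delta_nonsq (F₀.inv_mem hsm)
    rw [← hδ]
    field_simp
    linear_combination -h
  have hXC := hrat X hXr hQX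
  have hYC := hrat Y hYr hQY
  have hhXY : hdot φ ((P : Matrix ι ι F) *ᵥ X) ((P : Matrix ι ι F) *ᵥ Y) ≠ 0 := by
    show Hp φ P X Y ≠ 0
    rw [D.Hp_rat_right X hYr, hXY]
    exact neg_ne_zero.mpr (mul_ne_zero hne1 hne1)
  have hd : δ * s * s - 1 ≠ 0 := fun h => hne1 (by linear_combination -h)
  have hcomb : z₀ + ε • z₁' = ((ε + δ * s) / (δ * s * s - 1)) • X +
      (-(1 + ε * s) / (δ * s * s - 1)) • Y := by
    rw [hX, hY]
    have e1 : ((ε + δ * s) / (δ * s * s - 1)) • (-z₁' + s • z₀) +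
        (-(1 + ε * s) / (δ * s * s - 1)) • (z₀ + (-(δ * s)) • z₁') =
        (((ε + δ * s) / (δ * s * s - 1)) * s + (-(1 + ε * s) / (δ * s * s - 1))) • z₀ +
        (-((ε + δ * s) / (δ * s * s - 1)) +
          (-(1 + ε * s) / (δ * s * s - 1)) * (-(δ * s))) • z₁' := by
      module
    have e2 : ((ε + δ * s) / (δ * s * s - 1)) * s + (-(1 + ε * s) / (δ * s * s - 1)) = 1 := by
      rw [div_mul_eq_mul_div, ← add_div, div_eq_iff hd]
      ring
    have e3 : -((ε + δ * s) / (δ * s * s - 1)) +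
        (-(1 + ε * s) / (δ * s * s - 1)) * (-(δ * s)) = ε := by
      rw [div_mul_eq_mul_div, ← neg_div, ← add_div, div_eq_iff hd, hδ]
      ring
    rw [e1, e2, e3, one_smul]
  have hUTU : UT φ ((P : Matrix ι ι F) *ᵥ x) (ε * c') ∈ UG ι φ :=
    UT_mem_UG φ D.hφφ _ hxC.1 _ hctr
  have hz'iso : hdot φ ((P : Matrix ι ι F) *ᵥ (z₀ + ε • z₁'))
      ((P : Matrix ι ι F) *ᵥ (z₀ + ε • z₁')) = 0 := by
    rw [← hmove, IsU.hdot_mulVec φ ((mem_UG_iff φ _).mp hUTU)]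
    exact hzz
  have hz'C : (P : Matrix ι ι F) *ᵥ (z₀ + ε • z₁') ∈ Cen φ M := by
    have h1 : (P : Matrix ι ι F) *ᵥ (z₀ + ε • z₁') =
        ((ε + δ * s) / (δ * s * s - 1)) • ((P : Matrix ι ι F) *ᵥ X) +
        (-(1 + ε * s) / (δ * s * s - 1)) • ((P : Matrix ι ι F) *ᵥ Y) := by
      rw [hcomb, Matrix.mulVec_add, Matrix.mulVec_smul, Matrix.mulVec_smul]
    rw [h1] at hz'iso ⊢
    exact cen_hyp φ D.hφφ M hMU hXC hYC hhXY _ _ hz'iso
  -- move back
  have hneg : -(ε * c') + φ (-(ε * c')) = 0 := by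
    rw [map_neg]
    linear_combination -hctr
  have hback := cen_smul φ M (UT φ ((P : Matrix ι ι F) *ᵥ x) (-(ε * c'))) (hxC.2 _ hneg)
    (UT_mem_UG φ D.hφφ _ hxC.1 _ hneg) _ hz'C
  rw [← hmove, Matrix.mulVec_mulVec, ← Units.val_mul, UT_mul φ _ hxC.1, neg_add_cancel, UT_zero,
    Units.val_one, Matrix.one_mulVec] at hback
  exact hback

include hHM in
/-- an overgroup containing a transvection with rational centre contains `SU` -/
theorem part1 [Fintype F] (hφ : φ ≠ RingHom.id F)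
    (hN1 : ∀ c : F, c ≠ 0 → φ c = c → ∃ l : F, l ≠ 0 ∧ l * φ l = c)
    (hn : 5 ≤ Fintype.card ι) (hMK : M ≤ SuGen.SUg ι φ) {y : ι → F} (hyr : RatV F₀ y)
    (hy0 : y ≠ 0) (hQy : Q y = 0) {ν : F} (hν0 : ν ≠ 0) (hν : ν + φ ν = 0)
    (hM : UT φ ((P : Matrix ι ι F) *ᵥ y) ν ∈ M) : SuGen.SUg ι φ ≤ M := by
  apply sug_le_of_UT φ hφ D.hφφ hN1 (by omega) M
  intro v hv c hc
  have hrat : ∀ y' : ι → F, RatV F₀ y' → Q y' = 0 → (P : Matrix ι ι F) *ᵥ y' ∈ Cen φ M :=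
    fun y' hyr' hQy' => D.cen_rat M hHM hn hyr hy0 hQy hν0 hν hM hyr' hQy'
  exact (D.cen_all M hHM hn hMK hrat hv).2 c hc

end Data

end Cfsg.Agent.H28OrInSU
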