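import Mathlib
import Cfsg.Agent.Lib.Helper28.OrInSUC

/-!
# Orthogonal subfield subgroups of special unitary groups (helper28), part D: general position
lemmas for rational vectors
-/

set_option autoImplicit false
set_option linter.unusedSectionVars false

namespace Cfsg.Agent.H28OrInSU

open QuadraticMap Matrix Cfsg.Agent.Helper2.Orth Cfsg.Agent.H28OrSub
open Cfsg.Agent.Helper11.Herm Cfsg.Agent.Helper28.SuGen Cfsg.Agent.Helper28.SpInSU
open Cfsg.Agent.Helper11 Cfsg.Agent.Helper28

variable {F : Type*} [Field F] {ι : Type} [Fintype ι] [DecidableEq ι]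

namespace Data

variable {φ : F →+* F} {F₀ : Subfield F} {P : GL ι F} {Q : QuadraticForm F (ι → F)} {ε : F}
  (D : Data φ F₀ P Q ε)
include D

/-- a rational vector orthogonal to all rational vectors orthogonal to `y` is a multiple
of `y` -/
theorem double_perp_one {c₁ y : ι → F} (hcr : RatV F₀ c₁) (hyr : RatV F₀ y) (hy0 : y ≠ 0)
    (h : ∀ a' : ι → F, RatV F₀ a' → polar Q y a' = 0 → polar Q c₁ a' = 0) :
    ∃ μ ∈ F₀, c₁ = μ • y := by
  obtain ⟨w, hwr, hw⟩ := exists_rat_polar_one D.hQ D.hR hyr hy0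
  refine ⟨polar Q c₁ w, polar_rat D.hR hcr hwr, ?_⟩
  have h0 : c₁ - polar Q c₁ w • y = 0 := by
    apply eq_zero_of_perp_single D.hQ
    intro j
    have hm : polar Q y (Pi.single j 1) ∈ F₀ := polar_rat D.hR hyr (ratV_single j)
    have h1 := h (Pi.single j 1 - polar Q y (Pi.single j 1) • w)
      (ratV_sub (ratV_single j) (ratV_smul hm hwr))
      (by rw [polar_sub_right, polar_smul_right, hw, smul_eq_mul, mul_one, sub_self])
    rw [polar_sub_right, polar_smul_right, smul_eq_mul] at h1
    rw [polar_sub_left, polar_smul_left, smul_eq_mul]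
    linear_combination h1
  exact sub_eq_zero.mp h0

/-- a vector outside the span of three rational vectors is not orthogonal to some rational
vector orthogonal to them -/
theorem exists_b {y z₀ z₁ : ι → F} (hyr : RatV F₀ y) (hz₀r : RatV F₀ z₀) (hz₁r : RatV F₀ z₁)
    {c : ι → F} (hc : c ∉ Submodule.span F ({y, z₀, z₁} : Set (ι → F))) :
    ∃ b, RatV F₀ b ∧ polar Q y b = 0 ∧ polar Q z₀ b = 0 ∧ polar Q z₁ b = 0 ∧
      polar Q c b ≠ 0 := by
  have hrefl : LinearMap.BilinForm.IsRefl (polarBilin Q) := by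
    intro x y h
    rw [polarBilin_apply_apply] at h ⊢
    rw [polar_comm]
    exact h
  have hoo := LinearMap.BilinForm.orthogonal_orthogonal D.hQ hrefl
    (Submodule.span F ({y, z₀, z₁} : Set (ι → F)))
  rw [← hoo, LinearMap.BilinForm.mem_orthogonal_iff] at hc
  push Not at hc
  obtain ⟨b', hb', hb'c⟩ := hc
  rw [LinearMap.BilinForm.mem_orthogonal_iff] at hb'
  have hy : polar Q b' y = 0 := by
    have := hb' y (Submodule.subset_span (by simp))
    rw [polarBilin_apply_apply, polar_comm] at this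
    exact this
  have hz₀ : polar Q b' z₀ = 0 := by
    have := hb' z₀ (Submodule.subset_span (by simp))
    rw [polarBilin_apply_apply, polar_comm] at this
    exact this
  have hz₁ : polar Q b' z₁ = 0 := by
    have := hb' z₁ (Submodule.subset_span (by simp))
    rw [polarBilin_apply_apply, polar_comm] at this
    exact this
  have hy' := D.polar_eq_zero_split hyr hy
  have hz₀' := D.polar_eq_zero_split hz₀r hz₀
  have hz₁' := D.polar_eq_zero_split hz₁r hz₁
  rw [polarBilin_apply_apply, D.polar_split] at hb'c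
  by_cases h1 : polar Q (re φ ε b') c = 0
  · refine ⟨im φ ε b', D.ratV_im b', ?_, ?_, ?_, ?_⟩
    · rw [polar_comm]; exact hy'.2
    · rw [polar_comm]; exact hz₀'.2
    · rw [polar_comm]; exact hz₁'.2
    · intro h2
      apply hb'c
      rw [h1, polar_comm, h2, mul_zero, add_zero]
  · refine ⟨re φ ε b', D.ratV_re b', ?_, ?_, ?_, ?_⟩
    · rw [polar_comm]; exact hy'.1
    · rw [polar_comm]; exact hz₀'.1
    · rw [polar_comm]; exact hz₁'.1
    · rw [polar_comm]; exact h1

/-- a rational vector in a subspace of codimension at most three whose image lies outside a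
subspace of dimension at most three -/
theorem exists_a (hn : 7 ≤ Fintype.card ι) (g : GL ι F) {x : ι → F} (hxr : RatV F₀ x)
    (y : ι → F) (T : Submodule F (ι → F)) (hT : Module.finrank F T ≤ 3) :
    ∃ a, RatV F₀ a ∧ polar Q a x = 0 ∧ Hp φ P (cj P g a) y = 0 ∧ cj P g a ∉ T := by
  by_contra hcon
  push Not at hcon
  let ℓ₁ : (ι → F) →ₗ[F] F := (polarBilin Q).flip x
  let ℓ₂ : (ι → F) →ₗ[F] F :=
    { toFun := fun u => Hp φ P (cj P g u) y
      map_add' := fun u v => by rw [cj_add, Hp_add_left]
      map_smul' := fun c u => by rw [cj_smul, Hp_smul_left, RingHom.id_apply, smul_eq_mul] }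
  let ℓ₃ : (ι → F) →ₗ[F] F :=
    { toFun := fun u => φ (Hp φ P (cj P g (cjv φ u)) y)
      map_add' := fun u v => by rw [cjv_add, cj_add, Hp_add_left, map_add]
      map_smul' := fun c u => by
        rw [cjv_smul, cj_smul, Hp_smul_left, map_mul, D.hφφ, RingHom.id_apply, smul_eq_mul] }
  let Λ : (ι → F) →ₗ[F] (Fin 3 → F) := LinearMap.pi ![ℓ₁, ℓ₂, ℓ₃]
  have hker : ∀ u, u ∈ LinearMap.ker Λ → polar Q u x = 0 ∧ Hp φ P (cj P g u) y = 0 ∧
      Hp φ P (cj P g (cjv φ u)) y = 0 := by
    intro u hu
    rw [LinearMap.mem_ker] at hu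
    have h0 := congrFun hu 0
    have h1 := congrFun hu 1
    have h2 := congrFun hu 2
    refine ⟨h0, h1, ?_⟩
    have h2' : φ (Hp φ P (cj P g (cjv φ u)) y) = 0 := h2
    exact (map_eq_zero φ).mp h2'
  have hrk := LinearMap.finrank_range_add_finrank_ker Λ
  have hr3 : Module.finrank F (LinearMap.range Λ) ≤ 3 := by
    have := Submodule.finrank_le (LinearMap.range Λ)
    rwa [Module.finrank_fin_fun] at this
  rw [Module.finrank_fintype_fun_eq_card] at hrk
  let G : (ι → F) →ₗ[F] (ι → F) := Matrix.toLin' ((P⁻¹ * g * P : GL ι F) : Matrix ι ι F)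
  have hG : ∀ u, G u = cj P g u := by
    intro u
    rw [cj_eq]
    rfl
  have hGinj : Function.Injective G := by
    intro u v huv
    rw [hG, hG] at huv
    exact cj_injective P g huv
  have hle : (LinearMap.ker Λ).map G ≤ T := by
    rintro _ ⟨u, hu, rfl⟩
    obtain ⟨k1, k2, k3⟩ := hker u hu
    have hp := D.polar_eq_zero_split hxr k1
    have hre : cj P g (re φ ε u) ∈ T := by
      apply hcon _ (D.ratV_re u) hp.1
      rw [D.re_eq, cj_smul, cj_add, Hp_smul_left, Hp_add_left, k2, k3, add_zero, mul_zero]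
    have him : cj P g (im φ ε u) ∈ T := by
      apply hcon _ (D.ratV_im u) hp.2
      rw [D.im_eq, cj_smul, cj_sub, Hp_smul_left, Hp_sub_left, k2, k3, sub_zero, mul_zero]
    have : G u = cj P g (re φ ε u) + ε • cj P g (im φ ε u) := by
      rw [hG, ← cj_smul, ← cj_add, re_add_im]
    show G u ∈ T
    rw [this]
    exact T.add_mem hre (T.smul_mem ε him)
  have h1 := (Submodule.equivMapOfInjective G hGinj (LinearMap.ker Λ)).finrank_eq
  have h2 := Submodule.finrank_mono hle
  omega

/-- a rational singular vector orthogonal to two rational vectors and outside their span -/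
theorem exists_y [Fintype F] (hn : 7 ≤ Fintype.card ι) {u v : ι → F} (hur : RatV F₀ u)
    (hvr : RatV F₀ v)
    (hind : ∀ α β : F, α ∈ F₀ → β ∈ F₀ → α • u + β • v = 0 → α = 0 ∧ β = 0)
    (hgram : (Q u = 0 ∧ Q v = 0 ∧ polar Q u v = 0) ∨
      polar Q u u * polar Q v v - polar Q u v * polar Q u v ≠ 0) :
    ∃ y, RatV F₀ y ∧ y ≠ 0 ∧ Q y = 0 ∧ polar Q y u = 0 ∧ polar Q y v = 0 ∧
      ∀ α β : F, α ∈ F₀ → β ∈ F₀ → y ≠ α • u + β • v := by
  have hu0 : u ≠ 0 := by
    intro h
    have := hind 1 0 F₀.one_mem F₀.zero_mem (by rw [h, smul_zero, zero_smul, add_zero])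
    exact one_ne_zero this.1
  rcases hgram with ⟨hQu, hQv, huv⟩ | hdet
  · have hind' : ∀ t : F, v ≠ t • u := by
      intro t ht
      have htm : t ∈ F₀ := mem_of_ratV_smul hur hu0 (ht ▸ hvr)
      have := hind (-t) 1 (F₀.neg_mem htm) F₀.one_mem (by rw [ht]; module)
      exact one_ne_zero this.2
    obtain ⟨fr, he0, he1⟩ := exists_frame_adapt2 D.hQ D.hR 3 (by omega) (by omega) hur hvr hu0
      hQu hQv huv hind'
    refine ⟨fr.e 2, fr.re 2, hf_e_ne_zero fr.fr 2, fr.fr.qe 2, ?_, ?_, ?_⟩
    · rw [← he0, fr.fr.ee]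
    · rw [← he1, fr.fr.ee]
    · intro α β _ _ h
      have h1 : polar Q (fr.e 2) (fr.f 2) = 1 := hf_ef_same fr.fr 2
      rw [h, ← he0, ← he1, polar_add_left, polar_smul_left, polar_smul_left,
        hf_ef_ne fr.fr (Fin.ne_of_val_ne (by show (0 : ℕ) ≠ 2; omega)),
        hf_ef_ne fr.fr (Fin.ne_of_val_ne (by show (1 : ℕ) ≠ 2; omega))] at h1
      simp at h1
  · obtain ⟨fr⟩ := exists_frame D.hQ D.hR 3 (by omega)
    let p : Fin 3 → ↥F₀ := fun j => ⟨polar Q (fr.e j) u, polar_rat D.hR (fr.re j) hur⟩
    let q : Fin 3 → ↥F₀ := fun j => ⟨polar Q (fr.e j) v, polar_rat D.hR (fr.re j) hvr⟩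
    let Mx : Matrix (Fin 3) (Fin 3) ↥F₀ := Matrix.of ![p, q, 0]
    have hdet0 : Mx.det = 0 := Matrix.det_eq_zero_of_row_eq_zero 2 (fun j => rfl)
    obtain ⟨w, hw0, hw⟩ := Matrix.exists_mulVec_eq_zero_iff.mpr hdet0
    have hp : polar Q (fr.e 0) u * (w 0 : F) + polar Q (fr.e 1) u * (w 1 : F) +
        polar Q (fr.e 2) u * (w 2 : F) = 0 := by
      have h0 := congrArg Subtype.val (congrFun hw 0)
      simpa [Mx, Matrix.mulVec, dotProduct, Fin.sum_univ_three, p] using h0
    have hq : polar Q (fr.e 0) v * (w 0 : F) + polar Q (fr.e 1) v * (w 1 : F) +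
        polar Q (fr.e 2) v * (w 2 : F) = 0 := by
      have h0 := congrArg Subtype.val (congrFun hw 1)
      simpa [Mx, Matrix.mulVec, dotProduct, Fin.sum_univ_three, q] using h0
    obtain ⟨y, hy⟩ : ∃ y, y = (w 0 : F) • fr.e 0 + (w 1 : F) • fr.e 1 + (w 2 : F) • fr.e 2 :=
      ⟨_, rfl⟩
    have hyr : RatV F₀ y := by
      rw [hy]
      exact ratV_add (ratV_add (ratV_smul (w 0).2 (fr.re 0)) (ratV_smul (w 1).2 (fr.re 1)))
        (ratV_smul (w 2).2 (fr.re 2))
    have hyf : ∀ j : Fin 3, polar Q y (fr.f j) = (w j : F) := by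
      intro j
      rw [hy]
      simp only [polar_add_left, polar_smul_left, fr.fr.ef, smul_eq_mul]
      fin_cases j <;> simp
    have hy0 : y ≠ 0 := by
      intro h
      apply hw0
      funext j
      have := hyf j
      rw [h, polar_zero_left] at this
      exact Subtype.ext this.symm
    have hQy : Q y = 0 := by
      rw [hy, Q_add' Q, Q_add' Q]
      simp only [QuadraticMap.map_smul, fr.fr.qe, polar_add_left, polar_smul_left,
        polar_smul_right, fr.fr.ee, smul_eq_mul, mul_zero, add_zero]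
    have hyu : polar Q y u = 0 := by
      rw [hy]
      simp only [polar_add_left, polar_smul_left, smul_eq_mul]
      linear_combination hp
    have hyv : polar Q y v = 0 := by
      rw [hy]
      simp only [polar_add_left, polar_smul_left, smul_eq_mul]
      linear_combination hq
    refine ⟨y, hyr, hy0, hQy, hyu, hyv, ?_⟩
    intro α β _ _ h
    have e1 : α * polar Q u u + β * polar Q u v = 0 := by
      have := hyu
      rw [h, polar_add_left, polar_smul_left, polar_smul_left, smul_eq_mul, smul_eq_mul,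
        polar_comm Q v u] at this
      exact this
    have e2 : α * polar Q u v + β * polar Q v v = 0 := by
      have := hyv
      rw [h, polar_add_left, polar_smul_left, polar_smul_left, smul_eq_mul, smul_eq_mul] at this
      exact this
    have hα : α = 0 := by
      have : α * (polar Q u u * polar Q v v - polar Q u v * polar Q u v) = 0 := by
        linear_combination polar Q v v * e1 - polar Q u v * e2
      rcases mul_eq_zero.mp this with h3 | h3
      · exact h3
      · exact absurd h3 hdet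
    have hβ : β = 0 := by
      have : β * (polar Q u u * polar Q v v - polar Q u v * polar Q u v) = 0 := by
        linear_combination polar Q u u * e2 - polar Q u v * e1
      rcases mul_eq_zero.mp this with h3 | h3
      · exact h3
      · exact absurd h3 hdet
    apply hy0
    rw [h, hα, hβ, zero_smul, zero_smul, add_zero]

end Data

end Cfsg.Agent.H28OrInSU
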