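import Mathlib
import Cfsg.Agent.Lib.Helper28.OrInSUD

/-!
# Orthogonal subfield subgroups of special unitary groups (helper28), part E: an overgroup
without unitary transvections with rational centres preserves the rational structure
-/

set_option autoImplicit false
set_option linter.unusedSectionVars false

namespace Cfsg.Agent.H28OrInSU

open QuadraticMap Matrix Cfsg.Agent.Helper2.Orth Cfsg.Agent.H28OrSub
open Cfsg.Agent.Helper11.Herm Cfsg.Agent.Helper28.SuGen Cfsg.Agent.Helper28.SpInSU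
open Cfsg.Agent.Helper11 Cfsg.Agent.Helper28

variable {F : Type*} [Field F] {ι : Type} [Fintype ι] [DecidableEq ι]

/-- the commutator of two Siegel transformations with the same centre -/
theorem sgf_comm4 (φ : F →+* F) (P : GL ι F) {y c a : ι → F} (hyy : Hp φ P y y = 0)
    (hcy : Hp φ P c y = 0) (hyc : Hp φ P y c = 0) (hay : Hp φ P a y = 0) (hya : Hp φ P y a = 0)
    (τ τ₁ : F) (u : ι → F) :
    sgf φ P y c τ (sgf φ P y a τ₁ (sgf φ P y (-c) (-τ - Hp φ P c c)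
      (sgf φ P y (-a) (-τ₁ - Hp φ P a a) u))) = sgf φ P y 0 (Hp φ P c a - Hp φ P a c) u := by
  have hncy : Hp φ P (-c) y = 0 := by rw [Hp_neg_left, hcy, neg_zero]
  have hync : Hp φ P y (-c) = 0 := by rw [Hp_neg_right, hyc, neg_zero]
  have hnay : Hp φ P (-a) y = 0 := by rw [Hp_neg_left, hay, neg_zero]
  rw [sgf_sgf φ P hyy hncy hync hnay]
  have h1 : Hp φ P (-c + -a) y = 0 := by rw [Hp_add_left, hncy, hnay, add_zero]
  rw [sgf_sgf φ P hyy hay hya h1]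
  have h2 : Hp φ P (a + (-c + -a)) y = 0 := by rw [Hp_add_left, hay, h1, add_zero]
  rw [sgf_sgf φ P hyy hcy hyc h2]
  have e1 : c + (a + (-c + -a)) = 0 := by abel
  rw [e1]
  congr 1
  simp only [Hp_add_left, Hp_neg_left, Hp_add_right, Hp_neg_right]
  ring

namespace Data

variable {φ : F →+* F} {F₀ : Subfield F} {P : GL ι F} {Q : QuadraticForm F (ι → F)} {ε : F}
  (D : Data φ F₀ P Q ε)
include D

theorem UT_acts {y : ι → F} (hyy : Hp φ P y y = 0) (ν : F) :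
    ActsAs P (UT φ ((P : Matrix ι ι F) *ᵥ y) ν) (sgf φ P y 0 ν) := by
  intro u
  apply P_mulVec_inj P
  rw [P_cj, UT_mulVec φ _ hyy, sgf_tv, Matrix.mulVec_add, Matrix.mulVec_smul]
  rfl

theorem E_acts {z b : ι → F} (hzr : RatV F₀ z) (hbr : RatV F₀ b) (hz : Q z = 0)
    (hzb : polar Q z b = 0) :
    ActsAs P (hat P Q (eichG Q z b)) (sgf φ P z b (-Q b)) := by
  intro u
  rw [cj_hat, D.E_sgf hzr hbr hz hzb]

/-- scalars decompose into a rational and an irrational part -/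
theorem scalar_decomp (l : F) : ∃ a b : F, a ∈ F₀ ∧ b ∈ F₀ ∧ l = a + ε * b := by
  have h2 := D.h2
  have hε0 := D.hε0
  refine ⟨(l + φ l) / 2, (l - φ l) / (2 * ε), ?_, ?_, ?_⟩
  · rw [← D.hfix, map_div₀, map_add, D.hφφ, map_ofNat]
    ring
  · rw [← D.hfix, map_div₀, map_sub, D.hφφ, map_mul, map_ofNat, D.hε]
    field_simp
    ring
  · field_simp
    ring

variable (M : Subgroup (GL ι F))
  (hHM : Cfsg.Geo.subfieldSubgroup F₀ P ⊓ SuGen.SUg ι φ ≤ M)
  (hNT : ∀ y : ι → F, RatV F₀ y → y ≠ 0 → Q y = 0 → ∀ ν : F, ν + φ ν = 0 →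
    UT φ ((P : Matrix ι ι F) *ᵥ y) ν ∈ M → ν = 0)

include hHM hNT in
/-- without transvections, the Siegel transformations with rational centre in `M` have
rational axis -/
theorem c1 [Fintype F] {k : GL ι F} (hk : k ∈ M) {y c : ι → F} (hyr : RatV F₀ y) (hy0 : y ≠ 0)
    (hQy : Q y = 0) (hcy : Hp φ P c y = 0) (τ : F) (hact : ActsAs P k (sgf φ P y c τ)) :
    ∃ μ ∈ F₀, im φ ε c = μ • y := by
  have hyy := D.Hp_self_rat hyr hQy
  have hyc := Hp_eq_zero_symm φ P D.hφφ hcy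
  apply D.double_perp_one (D.ratV_im c) hyr hy0
  intro a' har hya
  have hay' : Hp φ P a' y = 0 := by rw [D.Hp_rat_right a' hyr, polar_comm, hya]
  have hya' := Hp_eq_zero_symm φ P D.hφφ hay'
  have hEM : hat P Q (eichG Q y a') ∈ M :=
    hHM (D.hat_R0_mem (E_mem_R0 hyr har hQy hya))
  have hEact := D.E_acts hyr har hQy hya
  have hkinv := hact.inv (f' := sgf φ P y (-c) (-τ - Hp φ P c c))
    (sgf_inv φ P hyy hcy hyc τ)
  have hEinv := hEact.inv (f' := sgf φ P y (-a') (-(-Q a') - Hp φ P a' a'))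
    (sgf_inv φ P hyy hay' hya' (-Q a'))
  have hK := ((hact.mul hEact).mul hkinv).mul hEinv
  have hK' := hK.congr (sgf_comm4 φ P hyy hcy hyc hay' hya' τ (-Q a'))
  have hKM : k * hat P Q (eichG Q y a') * k⁻¹ * (hat P Q (eichG Q y a'))⁻¹ ∈ M :=
    M.mul_mem (M.mul_mem (M.mul_mem hk hEM) (M.inv_mem hk)) (M.inv_mem hEM)
  have heq := hK'.eq (D.UT_acts hyy (Hp φ P c a' - Hp φ P a' c))
  rw [heq] at hKM
  have hν := hNT y hyr hy0 hQy _ (by
    rw [map_sub, Hp_conj φ P D.hφφ, Hp_conj φ P D.hφφ]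
    ring) hKM
  have hm : Hp φ P c a' ∈ F₀ := by
    rw [← D.hfix, Hp_conj φ P D.hφφ]
    exact (sub_eq_zero.mp hν).symm
  rw [D.Hp_rat_right c har, D.polar_split] at hm
  exact D.mem_of_add_eps (polar_rat D.hR (D.ratV_re c) har) (polar_rat D.hR (D.ratV_im c) har) hm

include hHM hNT in
/-- the key consequence of the absence of transvections -/
theorem lemA [Fintype F] (hMK : M ≤ SuGen.SUg ι φ) {g : GL ι F} (hg : g ∈ M) {x a y b : ι → F}
    (hxr : RatV F₀ x) (har : RatV F₀ a) (hQx : Q x = 0) (hxa : polar Q x a = 0)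
    (hyr : RatV F₀ y) (hy0 : y ≠ 0) (hQy : Q y = 0) (hbr : RatV F₀ b) (hyb : polar Q y b = 0)
    (hzy : Hp φ P (cj P g x) y = 0) (hcy : Hp φ P (cj P g a) y = 0)
    (hzb : Hp φ P (cj P g x) b = 0) :
    ∃ μ ∈ F₀, im φ ε ((-(φ (Hp φ P (cj P g a) b))) • cj P g x) = μ • y := by
  have hgU : g ∈ UG ι φ := (hMK hg).1
  obtain ⟨z, hz⟩ : ∃ z, z = cj P g x := ⟨_, rfl⟩
  obtain ⟨c, hc⟩ : ∃ c, c = cj P g a := ⟨_, rfl⟩
  rw [← hz] at hzy hzb ⊢
  rw [← hc] at hcy ⊢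
  have hzz : Hp φ P z z = 0 := by rw [hz, Hp_cj P φ hgU, D.Hp_self_rat hxr hQx]
  have hcz : Hp φ P c z = 0 := by
    rw [hz, hc, Hp_cj P φ hgU, D.Hp_rat_right a hxr, polar_comm, hxa]
  have hzc := Hp_eq_zero_symm φ P D.hφφ hcz
  have hyz := Hp_eq_zero_symm φ P D.hφφ hzy
  have hyc := Hp_eq_zero_symm φ P D.hφφ hcy
  -- the conjugate of a rational Eichler transformation
  have hExM : hat P Q (eichG Q x a) ∈ M := hHM (D.hat_R0_mem (E_mem_R0 hxr har hQx hxa))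
  have hSM : g * hat P Q (eichG Q x a) * g⁻¹ ∈ M :=
    M.mul_mem (M.mul_mem hg hExM) (M.inv_mem hg)
  have hgact : ActsAs P g (cj P g) := fun _ => rfl
  have hginv : ActsAs P g⁻¹ (cj P g⁻¹) := fun _ => rfl
  have hS : ActsAs P (g * hat P Q (eichG Q x a) * g⁻¹) (sgf φ P z c (-Q a)) := by
    have h1 := (hgact.mul (D.E_acts hxr har hQx hxa)).mul hginv
    refine h1.congr (fun u => ?_)
    rw [hz, hc]
    exact sgf_conj hgU x a (-Q a) u
  have hSinv := hS.inv (f' := sgf φ P z (-c) (-(-Q a) - Hp φ P c c))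
    (sgf_inv φ P hzz hcz hzc (-Q a))
  -- the rational Eichler transformation with centre `y`
  have hEyR : eichG Q y b ∈ R0 Q F₀ := E_mem_R0 hyr hbr hQy hyb
  have hEyM : hat P Q (eichG Q y b) ∈ M := hHM (D.hat_R0_mem hEyR)
  have hEyU : hat P Q (eichG Q y b) ∈ UG ι φ := D.hat_mem_UG (D.commCj_R0 hEyR).1
  have hEyact : ActsAs P (hat P Q (eichG Q y b)) (cj P (hat P Q (eichG Q y b))) := fun _ => rfl
  have hEyinv : ActsAs P (hat P Q (eichG Q y b))⁻¹ (cj P (hat P Q (eichG Q y b))⁻¹) :=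
    fun _ => rfl
  have hEz : cj P (hat P Q (eichG Q y b)) z = z := by
    rw [D.E_acts hyr hbr hQy hyb z]
    unfold sgf
    rw [hzb, hzy]
    simp
  have hEc : cj P (hat P Q (eichG Q y b)) c = c + Hp φ P c b • y := by
    rw [D.E_acts hyr hbr hQy hyb c]
    unfold sgf
    rw [hcy]
    simp
  have hK := ((hEyact.mul hS).mul hEyinv).mul hSinv
  have hK' : ActsAs P (hat P Q (eichG Q y b) * (g * hat P Q (eichG Q x a) * g⁻¹) *
      (hat P Q (eichG Q y b))⁻¹ * (g * hat P Q (eichG Q x a) * g⁻¹)⁻¹)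
      (sgf φ P y ((-(φ (Hp φ P c b))) • z) 0) := by
    refine hK.congr (fun u => ?_)
    show cj P (hat P Q (eichG Q y b)) (sgf φ P z c (-Q a)
      (cj P (hat P Q (eichG Q y b))⁻¹ (sgf φ P z (-c) (-(-Q a) - Hp φ P c c) u))) = _
    rw [sgf_conj hEyU, hEz, hEc]
    have h1 : Hp φ P (c + Hp φ P c b • y) z = 0 := by
      rw [Hp_add_left, Hp_smul_left, hcz, hyz, mul_zero, add_zero]
    have h2 : Hp φ P z (c + Hp φ P c b • y) = 0 := Hp_eq_zero_symm φ P D.hφφ h1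
    rw [sgf_sgf φ P hzz h1 h2 (by rw [Hp_neg_left, hcz, neg_zero])]
    have e1 : c + Hp φ P c b • y + -c = Hp φ P c b • y := by abel
    have e2 : -Q a + (-(-Q a) - Hp φ P c c) - Hp φ P (-c) (c + Hp φ P c b • y) = 0 := by
      rw [Hp_neg_left, Hp_add_right, Hp_smul_right, hcy]
      ring
    rw [e1, e2, sgf_swap φ P D.hφφ]
  have hKM : hat P Q (eichG Q y b) * (g * hat P Q (eichG Q x a) * g⁻¹) *
      (hat P Q (eichG Q y b))⁻¹ * (g * hat P Q (eichG Q x a) * g⁻¹)⁻¹ ∈ M :=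
    M.mul_mem (M.mul_mem (M.mul_mem hEyM hSM) (M.inv_mem hEyM)) (M.inv_mem hSM)
  exact D.c1 M hHM hNT hKM hyr hy0 hQy
    (by rw [Hp_smul_left, hzy, mul_zero]) 0 hK'

include hHM hNT in
/-- without transvections, the elements of `M` map rational singular points to rational
points -/
theorem pr_of_NT [Fintype F] (hn : 7 ≤ Fintype.card ι) (hMK : M ≤ SuGen.SUg ι φ) {g : GL ι F}
    (hg : g ∈ M) {x : ι → F} (hxr : RatV F₀ x) (hQx : Q x = 0) : PR φ (cj P g x) := by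
  classical
  by_contra hnpr
  have hgU : g ∈ UG ι φ := (hMK hg).1
  obtain ⟨z, hz⟩ : ∃ z, z = cj P g x := ⟨_, rfl⟩
  rw [← hz] at hnpr
  obtain ⟨z₀, hz₀⟩ : ∃ z₀, z₀ = re φ ε z := ⟨_, rfl⟩
  obtain ⟨z₁, hz₁⟩ : ∃ z₁, z₁ = im φ ε z := ⟨_, rfl⟩
  have hz₀r : RatV F₀ z₀ := hz₀ ▸ D.ratV_re z
  have hz₁r : RatV F₀ z₁ := hz₁ ▸ D.ratV_im z
  have hzdec : z = z₀ + ε • z₁ := by rw [hz₀, hz₁, re_add_im]
  have hz₀0 : z₀ ≠ 0 := by
    intro h0
    apply hnpr
    rw [hzdec, h0, zero_add]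
    exact PR_smul_rat φ F₀ D.hfix ε hz₁r
  have hind : ∀ α β : F, α ∈ F₀ → β ∈ F₀ → α • z₀ + β • z₁ = 0 → α = 0 ∧ β = 0 := by
    intro α β hα hβ h
    have hβ0 : β = 0 := by
      by_contra hβ0
      apply hnpr
      have h1 : z₁ = (-α / β) • z₀ := by
        have h2 : β • z₁ = (-α) • z₀ := by
          rw [neg_smul]
          exact eq_neg_of_add_eq_zero_right h
        rw [div_eq_inv_mul, ← smul_smul, ← h2, smul_smul, inv_mul_cancel₀ hβ0, one_smul]
      have h3 : z = (1 + ε * (-α / β)) • z₀ := by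
        rw [hzdec, h1, smul_smul, add_smul, one_smul]
      rw [h3]
      exact PR_smul_rat φ F₀ D.hfix _ hz₀r
    refine ⟨?_, hβ0⟩
    rw [hβ0, zero_smul, add_zero] at h
    rcases smul_eq_zero.mp h with h1 | h1
    · exact h1
    · exact absurd h1 hz₀0
  have hzz : Hp φ P z z = 0 := by rw [hz, Hp_cj P φ hgU, D.Hp_self_rat hxr hQx]
  have hQz : Q z₀ = ε * ε * Q z₁ := by
    have h1 := D.isotropic_iff z
    rw [hzz, ← hz₀, ← hz₁] at h1
    rcases mul_eq_zero.mp h1.symm with h2 | h2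
    · exact absurd h2 D.h2
    · exact sub_eq_zero.mp h2
  have hgram : (Q z₀ = 0 ∧ Q z₁ = 0 ∧ polar Q z₀ z₁ = 0) ∨
      polar Q z₀ z₀ * polar Q z₁ z₁ - polar Q z₀ z₁ * polar Q z₀ z₁ ≠ 0 := by
    by_cases h : Q z₁ = 0 ∧ polar Q z₀ z₁ = 0
    · left
      refine ⟨?_, h.1, h.2⟩
      rw [hQz, h.1, mul_zero]
    · right
      intro h0
      rw [D.polar_self_rat, D.polar_self_rat, hQz] at h0
      apply h
      by_cases hs : Q z₁ = 0
      · refine ⟨hs, ?_⟩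
        rw [hs] at h0
        have : polar Q z₀ z₁ * polar Q z₀ z₁ = 0 := by linear_combination -h0
        exact mul_self_eq_zero.mp this
      · exfalso
        have h2 := D.h2
        have htm : polar Q z₀ z₁ / (2 * Q z₁) ∈ F₀ :=
          F₀.div_mem (polar_rat D.hR hz₀r hz₁r)
            (F₀.mul_mem (by
              have : (2 : F) = 1 + 1 := by norm_num
              rw [this]
              exact F₀.add_mem F₀.one_mem F₀.one_mem) (D.hR _ hz₁r))
        apply D.delta_nonsq htm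
        field_simp
        linear_combination h0
  obtain ⟨y, hyr, hy0, hQy, hyz₀, hyz₁, hyspan⟩ := D.exists_y hn hz₀r hz₁r hind hgram
  have hzy : Hp φ P z y = 0 := by
    rw [D.Hp_rat_right z hyr, D.polar_split, ← hz₀, ← hz₁, polar_comm Q z₀, polar_comm Q z₁,
      hyz₀, hyz₁, mul_zero, add_zero]
  have hT : Module.finrank F (Submodule.span F ({y, z₀, z₁} : Set (ι → F))) ≤ 3 := by
    have h1 := finrank_span_finset_le_card (R := F) ({y, z₀, z₁} : Finset (ι → F))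
    have h2 : ({y, z₀, z₁} : Finset (ι → F)).card ≤ 3 := Finset.card_le_three
    have h3 : ((({y, z₀, z₁} : Finset (ι → F)) : Set (ι → F))) = {y, z₀, z₁} := by
      simp
    rw [h3] at h1
    exact le_trans h1 h2
  obtain ⟨a, har, hax, hcy, hcT⟩ := D.exists_a hn g hxr y _ hT
  obtain ⟨b, hbr, hyb, hz₀b, hz₁b, hcb⟩ := D.exists_b hyr hz₀r hz₁r hcT
  have hzb : Hp φ P z b = 0 := by
    rw [D.Hp_rat_right z hbr, D.polar_split, ← hz₀, ← hz₁, hz₀b, hz₁b, mul_zero, add_zero]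
  have hκ : Hp φ P (cj P g a) b ≠ 0 := by
    rw [D.Hp_rat_right _ hbr]
    exact hcb
  obtain ⟨μ, hμ, hμy⟩ := D.lemA M hHM hNT hMK hg hxr har hQx (by rw [polar_comm]; exact hax)
    hyr hy0 hQy hbr hyb (hz ▸ hzy) hcy (hz ▸ hzb)
  rw [← hz] at hμy
  obtain ⟨l, hl⟩ : ∃ l, l = -(φ (Hp φ P (cj P g a) b)) := ⟨_, rfl⟩
  rw [← hl] at hμy
  have hl0 : l ≠ 0 := by
    rw [hl]
    apply neg_ne_zero.mpr
    intro h
    exact hκ ((map_eq_zero φ).mp h)
  obtain ⟨l₀, l₁, hl₀, hl₁, hldec⟩ := D.scalar_decomp l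
  have him : im φ ε (l • z) = l₁ • z₀ + l₀ • z₁ := by
    have h1 : l • z = (l₀ • z₀ + (ε * ε * l₁) • z₁) + ε • (l₁ • z₀ + l₀ • z₁) := by
      rw [hzdec, hldec]
      module
    exact (D.re_im_unique
      (ratV_add (ratV_smul hl₀ hz₀r) (ratV_smul (F₀.mul_mem D.delta_mem hl₁) hz₁r))
      (ratV_add (ratV_smul hl₁ hz₀r) (ratV_smul hl₀ hz₁r)) h1).2
  rw [him] at hμy
  by_cases hμ0 : μ = 0
  · rw [hμ0, zero_smul] at hμy
    have := hind l₁ l₀ hl₁ hl₀ hμy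
    apply hl0
    rw [hldec, this.1, this.2, mul_zero, add_zero]
  · apply hyspan (l₁ / μ) (l₀ / μ) (F₀.div_mem hl₁ hμ) (F₀.div_mem hl₀ hμ)
    have h1 : y = μ⁻¹ • (μ • y) := by rw [smul_smul, inv_mul_cancel₀ hμ0, one_smul]
    rw [h1, ← hμy, smul_add, smul_smul, smul_smul, div_eq_inv_mul, div_eq_inv_mul]

end Data

end Cfsg.Agent.H28OrInSU
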