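import Mathlib
import Cfsg.Agent.Lib.Helper28.OrInSUE

/-!
# Orthogonal subfield subgroups of special unitary groups (helper28), part F: maximality
-/

set_option autoImplicit false
set_option linter.unusedSectionVars false

namespace Cfsg.Agent.H28OrInSU

open QuadraticMap Matrix Cfsg.Agent.Helper2.Orth Cfsg.Agent.H28OrSub
open Cfsg.Agent.Helper11.Herm Cfsg.Agent.Helper28.SuGen Cfsg.Agent.Helper28.SpInSU
open Cfsg.Agent.Helper11 Cfsg.Agent.Helper28

variable {F : Type*} [Field F] {ι : Type} [Fintype ι] [DecidableEq ι]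

namespace Data

variable {φ : F →+* F} {F₀ : Subfield F} {P : GL ι F} {Q : QuadraticForm F (ι → F)} {ε : F}
  (D : Data φ F₀ P Q ε)
include D

variable (M : Subgroup (GL ι F))
  (hHM : Cfsg.Geo.subfieldSubgroup F₀ P ⊓ SuGen.SUg ι φ ≤ M)
  (hNT : ∀ y : ι → F, RatV F₀ y → y ≠ 0 → Q y = 0 → ∀ ν : F, ν + φ ν = 0 →
    UT φ ((P : Matrix ι ι F) *ᵥ y) ν ∈ M → ν = 0)

/-- propagation of the multiplier along orthogonal rational singular vectors -/
theorem step_good {g : GL ι F}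
    (hpr : ∀ x : ι → F, RatV F₀ x → Q x = 0 → PR φ (cj P g x)) {θ : F} {x x' : ι → F}
    (hxr : RatV F₀ x) (hxr' : RatV F₀ x') (hQx : Q x = 0) (hQx' : Q x' = 0) (hx0 : x ≠ 0)
    (hind : ∀ t : F, x' ≠ t • x) (hxx : polar Q x x' = 0)
    (hgood : cjv φ (cj P g x) = θ • cj P g x) : cjv φ (cj P g x') = θ • cj P g x' := by
  obtain ⟨θ', hθ'⟩ := hpr x' hxr' hQx'
  obtain ⟨θ'', hθ''⟩ := hpr (x + x') (ratV_add hxr hxr') (by rw [Q_add' Q, hQx, hQx', hxx]; ring)
  have h1 : cjv φ (cj P g x') = θ' • cj P g x' := funext hθ'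
  have h2 : cjv φ (cj P g (x + x')) = θ'' • cj P g (x + x') := funext hθ''
  rw [cj_add, cjv_add, hgood, h1, smul_add] at h2
  have h3 : cj P g ((θ - θ'') • x + (θ' - θ'') • x') = 0 := by
    rw [cj_add, cj_smul, cj_smul, sub_smul, sub_smul]
    have := sub_eq_zero.mpr h2
    rw [← this]
    abel
  have h4 : (θ - θ'') • x + (θ' - θ'') • x' = 0 := by
    apply cj_injective P g
    rw [h3, cj_zero]
  have h5 : θ' - θ'' = 0 := by
    by_contra hne
    apply hind (-(θ - θ'') / (θ' - θ''))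
    have h6 : (θ' - θ'') • x' = (-(θ - θ'')) • x := by
      rw [neg_smul]
      exact eq_neg_of_add_eq_zero_right h4
    rw [div_eq_inv_mul, ← smul_smul, ← h6, smul_smul, inv_mul_cancel₀ hne, one_smul]
  rw [h5, zero_smul, add_zero] at h4
  have h6 : θ - θ'' = 0 := by
    rcases smul_eq_zero.mp h4 with h | h
    · exact h
    · exact absurd h hx0
  rw [h1, sub_eq_zero.mp h5, ← sub_eq_zero.mp h6]

/-- an element mapping rational singular points to rational points lies in the subfield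
subgroup -/
theorem mem_subfield_of_sing [Fintype F] (hn : 7 ≤ Fintype.card ι) {g : GL ι F}
    (hpr : ∀ x : ι → F, RatV F₀ x → Q x = 0 → PR φ (cj P g x)) :
    g ∈ Cfsg.Geo.subfieldSubgroup F₀ P := by
  have hne : Nonempty ι := by
    rw [← Fintype.card_pos_iff]
    omega
  obtain ⟨fr⟩ := exists_frame D.hQ D.hR 1 (by omega)
  have he0 : fr.e 0 ≠ 0 := hf_e_ne_zero fr.fr 0
  obtain ⟨θ, hθ⟩ := hpr (fr.e 0) (fr.re 0) (fr.fr.qe 0)
  have hgood0 : cjv φ (cj P g (fr.e 0)) = θ • cj P g (fr.e 0) := funext hθ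
  -- all rational singular vectors
  have hA : ∀ x : ι → F, RatV F₀ x → Q x = 0 → cjv φ (cj P g x) = θ • cj P g x := by
    intro x hxr hQx
    by_cases hdep : ∃ t : F, x = t • fr.e 0
    · obtain ⟨t, ht⟩ := hdep
      have htm : t ∈ F₀ := mem_of_ratV_smul (fr.re 0) he0 (ht ▸ hxr)
      rw [ht, cj_smul, cjv_smul, hgood0, (D.hfix t).mpr htm, smul_smul, smul_smul, mul_comm]
    · push Not at hdep
      have hind : ∀ α β : F, α ∈ F₀ → β ∈ F₀ → α • fr.e 0 + β • x = 0 → α = 0 ∧ β = 0 := by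
        intro α β _ _ h
        have hβ0 : β = 0 := by
          by_contra hβ0
          apply hdep (-α / β)
          have h2 : β • x = (-α) • fr.e 0 := by
            rw [neg_smul]
            exact eq_neg_of_add_eq_zero_right h
          rw [div_eq_inv_mul, ← smul_smul, ← h2, smul_smul, inv_mul_cancel₀ hβ0, one_smul]
        refine ⟨?_, hβ0⟩
        rw [hβ0, zero_smul, add_zero] at h
        rcases smul_eq_zero.mp h with h1 | h1
        · exact h1
        · exact absurd h1 he0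
      have hgram : (Q (fr.e 0) = 0 ∧ Q x = 0 ∧ polar Q (fr.e 0) x = 0) ∨
          polar Q (fr.e 0) (fr.e 0) * polar Q x x - polar Q (fr.e 0) x * polar Q (fr.e 0) x ≠ 0 := by
        by_cases h : polar Q (fr.e 0) x = 0
        · exact Or.inl ⟨fr.fr.qe 0, hQx, h⟩
        · right
          rw [D.polar_self_rat, D.polar_self_rat, fr.fr.qe, hQx]
          intro h0
          apply h
          have : polar Q (fr.e 0) x * polar Q (fr.e 0) x = 0 := by linear_combination -h0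
          exact mul_self_eq_zero.mp this
      obtain ⟨y, hyr, hy0, hQy, hye, hyx, hyspan⟩ := D.exists_y hn (fr.re 0) hxr hind hgram
      have h1 : cjv φ (cj P g y) = θ • cj P g y := by
        apply D.step_good hpr (fr.re 0) hyr (fr.fr.qe 0) hQy he0 _ (by rw [polar_comm]; exact hye)
          hgood0
        intro t ht
        have htm : t ∈ F₀ := mem_of_ratV_smul (fr.re 0) he0 (ht ▸ hyr)
        apply hyspan t 0 htm F₀.zero_mem
        rw [ht, zero_smul, add_zero]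
      apply D.step_good hpr hyr hxr hQy hQx hy0 _ hyx h1
      intro t ht
      have htm : t ∈ F₀ := mem_of_ratV_smul hyr hy0 (ht ▸ hxr)
      have ht0 : t ≠ 0 := by
        intro h0
        apply hdep 0
        rw [ht, h0, zero_smul, zero_smul]
      apply hyspan 0 t⁻¹ F₀.zero_mem (F₀.inv_mem htm)
      rw [ht, zero_smul, zero_add, smul_smul, inv_mul_cancel₀ ht0, one_smul]
  -- all rational vectors
  apply mem_subfield_of_PR φ F₀ P D.hfix g
  intro u hur
  suffices h : cjv φ (cj P g u) = θ • cj P g u from ⟨θ, fun i => congrFun h i⟩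
  by_cases hQu : Q u = 0
  · exact hA u hur hQu
  have hu0 : u ≠ 0 := by
    intro h
    apply hQu
    rw [h, QuadraticMap.map_zero]
  obtain ⟨x, hxr, hQx, hux⟩ := D.exists_sing_ne (by omega) hur hu0
  obtain ⟨t, ht⟩ : ∃ t, t = Q u / polar Q u x := ⟨_, rfl⟩
  have htm : t ∈ F₀ := ht ▸ F₀.div_mem (D.hR u hur) (polar_rat D.hR hur hxr)
  have hu'r : RatV F₀ (u + (-t) • x) := ratV_add hur (ratV_smul (F₀.neg_mem htm) hxr)
  have hQu' : Q (u + (-t) • x) = 0 := by
    rw [Q_lin2, hQx, ht]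
    field_simp
    ring
  have h1 := hA _ hu'r hQu'
  have h2 := hA x hxr hQx
  have h3 : u = (u + (-t) • x) + t • x := by module
  rw [h3, cj_add, cj_smul, cjv_add, cjv_smul, h1, h2, (D.hfix t).mpr htm, smul_add, smul_smul,
    smul_smul, mul_comm]

include hHM hNT in
/-- an overgroup without transvections with rational centres lies in the subfield subgroup -/
theorem le_subfield [Fintype F] (hn : 7 ≤ Fintype.card ι) (hMK : M ≤ SuGen.SUg ι φ) :
    M ≤ Cfsg.Geo.subfieldSubgroup F₀ P := by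
  intro g hg
  apply D.mem_subfield_of_sing hn
  intro x hxr hQx
  exact D.pr_of_NT M hHM hNT hn hMK hg hxr hQx

/-- the subfield subgroup is proper -/
theorem exists_not_mem [Fintype F] (hn : 3 ≤ Fintype.card ι) :
    ∃ g, g ∈ SuGen.SUg ι φ ∧ g ∉ Cfsg.Geo.subfieldSubgroup F₀ P := by
  obtain ⟨fr⟩ := exists_frame D.hQ D.hR 1 (by omega)
  have hiso := D.hdot_self_rat (fr.re 0) (fr.fr.qe 0)
  have hεtr : ε + φ ε = 0 := by rw [D.hε]; ring
  refine ⟨UT φ ((P : Matrix ι ι F) *ᵥ fr.e 0) ε,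
    ⟨UT_mem_UG φ D.hφφ _ hiso ε hεtr, UT_mem_SL φ _ hiso ε⟩, ?_⟩
  intro hmem
  obtain ⟨c, hc, hrat⟩ := rat_of_mem_subfield F₀ P _ hmem
  have h1 : cj P (UT φ ((P : Matrix ι ι F) *ᵥ fr.e 0) ε) (fr.f 0) = fr.f 0 + ε • fr.e 0 := by
    rw [D.UT_acts (D.Hp_self_rat (fr.re 0) (fr.fr.qe 0)) ε (fr.f 0), sgf_tv,
      D.Hp_rat_right _ (fr.re 0), hf_fe_same fr.fr 0, mul_one]
  have h2 := hrat (fr.f 0) (fr.rf 0)
  rw [h1] at h2
  have hnpr := not_PR φ F₀ D.hfix ε D.eps_ne (fr.rf 0) (fr.re 0) (hf_f_ne_zero fr.fr 0) (by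
    intro t _ h
    have h3 : polar Q (fr.e 0) (fr.e 0) = 0 := fr.fr.ee 0 0
    rw [h] at h3
    rw [polar_smul_left, polar_smul_right, fr.fr.ff] at h3
    have h4 : polar Q (fr.e 0) (fr.f 0) = 1 := hf_ef_same fr.fr 0
    rw [h, polar_smul_left, fr.fr.ff] at h4
    simp at h4)
  apply hnpr
  have h3 : fr.f 0 + ε • fr.e 0 = c⁻¹ • (c • (fr.f 0 + ε • fr.e 0)) := by
    rw [smul_smul, inv_mul_cancel₀ hc, one_smul]
  rw [h3]
  exact PR_smul_rat φ F₀ D.hfix _ h2

/-- the orthogonal subfield subgroup is maximal in the special unitary group -/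
theorem maximal_orth [Fintype F] (hφ : φ ≠ RingHom.id F)
    (hN1 : ∀ c : F, c ≠ 0 → φ c = c → ∃ l : F, l ≠ 0 ∧ l * φ l = c)
    (hn : 7 ≤ Fintype.card ι) :
    Cfsg.Geo.IsMaximalIn (SuGen.SUg ι φ) (Cfsg.Geo.subfieldSubgroup F₀ P ⊓ SuGen.SUg ι φ) := by
  refine ⟨?_, ?_⟩
  · rw [lt_iff_le_and_ne]
    refine ⟨inf_le_right, ?_⟩
    intro heq
    obtain ⟨g, hg1, hg2⟩ := D.exists_not_mem (by omega)
    rw [← heq] at hg1
    exact hg2 hg1.1
  · intro M hHM hMK
    by_cases h : ∃ (y : ι → F) (ν : F), RatV F₀ y ∧ y ≠ 0 ∧ Q y = 0 ∧ ν ≠ 0 ∧ ν + φ ν = 0 ∧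
        UT φ ((P : Matrix ι ι F) *ᵥ y) ν ∈ M
    · right
      obtain ⟨y, ν, hyr, hy0, hQy, hν0, hν, hM⟩ := h
      exact le_antisymm hMK (D.part1 M hHM hφ hN1 (by omega) hMK hyr hy0 hQy hν0 hν hM)
    · left
      push Not at h
      have hNT : ∀ y : ι → F, RatV F₀ y → y ≠ 0 → Q y = 0 → ∀ ν : F, ν + φ ν = 0 →
          UT φ ((P : Matrix ι ι F) *ᵥ y) ν ∈ M → ν = 0 := by
        intro y hyr hy0 hQy ν hν hM
        by_contra hν0
        exact h y ν hyr hy0 hQy hν0 hν hM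
      exact le_antisymm (le_inf (D.le_subfield M hHM hNT hn hMK) hMK) hHM

end Data

end Cfsg.Agent.H28OrInSU
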