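import Mathlib
import Cfsg.Agent.Lib.Helper28.OrInSUF

/-!
# Orthogonal subfield subgroups of special unitary groups (helper28), part G: the rational
quadratic form attached to an orthogonal rational structure of a hermitian space
-/

set_option autoImplicit false
set_option linter.unusedSectionVars false

namespace Cfsg.Agent.H28OrInSU

open QuadraticMap Matrix Cfsg.Agent.Helper2.Orth Cfsg.Agent.H28OrSub
open Cfsg.Agent.Helper11.Herm Cfsg.Agent.Helper28.SuGen Cfsg.Agent.Helper28.SpInSU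
open Cfsg.Agent.Helper11 Cfsg.Agent.Helper28

variable {F : Type*} [Field F] {ι : Type} [Fintype ι] [DecidableEq ι]

section build
variable (φ : F →+* F) (F₀ : Subfield F) (P : GL ι F) (ε : F)
  (hfix : ∀ x, φ x = x ↔ x ∈ F₀) (hφφ : ∀ x, φ (φ x) = x) (hε : φ ε = -ε) (hε0 : ε ≠ 0)
  (h2 : (2 : F) ≠ 0)
  (hP : ∀ u v : ι → F, RatV F₀ u → RatV F₀ v → Hp φ P u v ∈ F₀)

include hfix hφφ hP in
theorem Hp_symm_rat {u v : ι → F} (hu : RatV F₀ u) (hv : RatV F₀ v) :
    Hp φ P u v = Hp φ P v u := by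
  rw [← Hp_conj φ P hφφ v u, (hfix _).mpr (hP v u hv hu)]

include hfix hφφ hP hε hε0 h2 in
/-- the bilinear extension of the restriction of the hermitian form is symmetric -/
theorem Hp_cjv_symm (u v : ι → F) : Hp φ P u (cjv φ v) = Hp φ P v (cjv φ u) := by
  have hεne : φ ε ≠ ε := by
    rw [hε]
    intro h
    have h1 : (2 : F) * ε = 0 := by linear_combination -h
    rcases mul_eq_zero.mp h1 with h3 | h3
    · exact h2 h3
    · exact hε0 h3
  have hu := re_add_im φ ε u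
  have hv := re_add_im φ ε v
  have hur := rat_re φ F₀ hfix ε hφφ hεne u
  have hui := rat_im φ F₀ hfix ε hφφ hεne u
  have hvr := rat_re φ F₀ hfix ε hφφ hεne v
  have hvi := rat_im φ F₀ hfix ε hφφ hεne v
  obtain ⟨u₀, hu₀⟩ : ∃ u₀, u₀ = re φ ε u := ⟨_, rfl⟩
  obtain ⟨u₁, hu₁⟩ : ∃ u₁, u₁ = im φ ε u := ⟨_, rfl⟩
  obtain ⟨v₀, hv₀⟩ : ∃ v₀, v₀ = re φ ε v := ⟨_, rfl⟩
  obtain ⟨v₁, hv₁⟩ : ∃ v₁, v₁ = im φ ε v := ⟨_, rfl⟩
  rw [← hu₀] at hu hur
  rw [← hu₁] at hu hui
  rw [← hv₀] at hv hvr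
  rw [← hv₁] at hv hvi
  rw [← hu, ← hv]
  simp only [cjv_add, cjv_smul, cjv_rat φ hfix hur, cjv_rat φ hfix hui, cjv_rat φ hfix hvr,
    cjv_rat φ hfix hvi, Hp_add_left, Hp_add_right, Hp_smul_left, Hp_smul_right, hε, map_neg,
    neg_neg]
  rw [Hp_symm_rat φ F₀ P hfix hφφ hP hvr hur, Hp_symm_rat φ F₀ P hfix hφφ hP hvi hur,
    Hp_symm_rat φ F₀ P hfix hφφ hP hvr hui, Hp_symm_rat φ F₀ P hfix hφφ hP hvi hui]
  ring

theorem polar_aux (x y : ι → F) :
    polar (fun u : ι → F => (2 : F)⁻¹ * Hp φ P u (cjv φ u)) x y =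
      (2 : F)⁻¹ * (Hp φ P x (cjv φ y) + Hp φ P y (cjv φ x)) := by
  unfold polar
  simp only [cjv_add, Hp_add_left, Hp_add_right]
  ring

/-- the quadratic form `u ↦ h(Pu, P ū) / 2` -/
noncomputable def Qh (hφφ : ∀ x, φ (φ x) = x) : QuadraticForm F (ι → F) :=
  QuadraticMap.ofPolar (fun u : ι → F => (2 : F)⁻¹ * Hp φ P u (cjv φ u))
    (by
      intro a x
      simp only [cjv_smul, Hp_smul_left, Hp_smul_right, hφφ, smul_eq_mul]
      ring)
    (by
      intro x x' y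
      rw [polar_aux, polar_aux, polar_aux]
      simp only [cjv_add, Hp_add_left, Hp_add_right]
      ring)
    (by
      intro a x y
      rw [polar_aux, polar_aux]
      simp only [cjv_smul, Hp_smul_left, Hp_smul_right, hφφ, smul_eq_mul]
      ring)

theorem Qh_apply (u : ι → F) : Qh φ P hφφ u = (2 : F)⁻¹ * Hp φ P u (cjv φ u) := rfl

theorem polar_Qh (u v : ι → F) :
    polar (Qh φ P hφφ) u v = (2 : F)⁻¹ * (Hp φ P u (cjv φ v) + Hp φ P v (cjv φ u)) :=
  polar_aux φ P u v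

include hfix hP hε hε0 h2 in
/-- the standing data attached to an orthogonal rational structure -/
theorem data_Qh : Data φ F₀ P (Qh φ P hφφ) ε := by
  have hQH : ∀ u v : ι → F, polar (Qh φ P hφφ) u v = Hp φ P u (cjv φ v) := by
    intro u v
    rw [polar_Qh, ← Hp_cjv_symm φ F₀ P ε hfix hφφ hε hε0 h2 hP u v]
    field_simp
    ring
  refine ⟨hfix, hφφ, hε, hε0, h2, hQH, ?_, ?_⟩
  · intro u hu
    rw [Qh_apply, cjv_rat φ hfix hu]
    refine F₀.mul_mem (F₀.inv_mem ?_) (hP u u hu hu)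
    have : (2 : F) = 1 + 1 := by norm_num
    rw [this]
    exact F₀.add_mem F₀.one_mem F₀.one_mem
  · apply Cfsg.Agent.Helper13.nondeg_of_polar
    intro x hx
    apply eq_zero_of_Hp φ P
    intro w
    have := hx (cjv φ w)
    rwa [hQH, cjv_cjv φ hφφ] at this

end build

/-- the characteristic is odd -/
theorem two_ne_zero_of_odd [Fintype F] {q : ℕ} (hF : Fintype.card F = q ^ 2) (hodd : Odd q) :
    (2 : F) ≠ 0 := by
  intro h
  have h1 : ringChar F = 2 :=
    CharP.ringChar_of_prime_eq_zero Nat.prime_two (by exact_mod_cast h)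
  have h2 := FiniteField.even_card_iff_char_two.mp h1
  rw [hF] at h2
  have h3 : Odd (q ^ 2) := hodd.pow
  rw [Nat.odd_iff] at h3
  omega

/-- the orthogonal subfield subgroups of the special unitary groups are maximal -/
theorem main_orth [Fintype F] (q : ℕ) (hF : Fintype.card F = q ^ 2) (hn : 7 ≤ Fintype.card ι)
    (hodd : Odd q) (F₀ : Subfield F) (hcard : Fintype.card F = Nat.card F₀ ^ 2) (P : GL ι F)
    (φ : F →+* F) (hφ : ∀ x, φ x = x ^ q)
    (hP : ∀ u v : ι → F, RatV F₀ u → RatV F₀ v → Hp φ P u v ∈ F₀) :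
    Cfsg.Geo.IsMaximalIn (SuGen.SUg ι φ) (Cfsg.Geo.subfieldSubgroup F₀ P ⊓ SuGen.SUg ι φ) := by
  have hφφ := frob_frob hF φ hφ
  have hN1 := frob_norm_surj hF φ hφ
  have hφid := frob_ne_id hF φ hφ
  have hfix : ∀ x, φ x = x ↔ x ∈ F₀ := by
    intro x
    rw [hφ]
    exact fix_iff hF F₀ hcard x
  have h2 := two_ne_zero_of_odd hF hodd
  obtain ⟨ε', hε'⟩ : ∃ ε', φ ε' ≠ ε' := by
    by_contra hcon
    push Not at hcon
    apply hφid
    ext x
    exact hcon x
  have hε : φ (ε' - φ ε') = -(ε' - φ ε') := by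
    rw [map_sub, hφφ]
    ring
  have hε0 : ε' - φ ε' ≠ 0 := fun h => hε' (sub_eq_zero.mp h).symm
  have D := data_Qh φ F₀ P (ε' - φ ε') hfix hφφ hε hε0 h2 hP
  exact D.maximal_orth hφid hN1 hn

end Cfsg.Agent.H28OrInSU
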