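import Mathlib
import Cfsg.Agent.Lib.Helper3.SmallOrd
import Cfsg.Agent.Lib.Lead.PermTools
import Cfsg.Agent.Lib.Helper27.SylowSieve
import Cfsg.Agent.Lib.Helper19.O5040A
import Cfsg.Agent.Lib.Helper19.O5040B1
import Cfsg.Agent.Lib.Helper1.O5040B2
import Cfsg.Agent.Lib.Helper1.O5040B3DEG
import Cfsg.Agent.Lib.Helper14.O5040B3SIX
import Cfsg.Agent.Lib.Helper25.O5040B3NO

set_option autoImplicit false
open Cfsg

/-!
# No simple group of order 5040 (S0978; piece ORD5040 of S0983)

Paper proof: `plans/S0978_proof.md`.  Sylow 7 analysis, then four cases by `(|N(P):C(P)|, |C(P)|)`: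
A = (2,70), B1 = (2,21), B2 = (3,14), B3 = (6,7), each closed in its own file.
-/

namespace Cfsg.Agent.Helper28.Ord5040
variable {G : Type*} [Group G] [Finite G] [IsSimpleGroup G]

theorem case_B3 (h : Nat.card G = 5040) (hG : ∃ x y : G, x * y ≠ y * x) (P : Sylow 7 G)
    (hP : Nat.card (P : Subgroup G) = 7)
    (hN : Nat.card (Subgroup.normalizer ((P : Subgroup G) : Set G)) = 42)
    (hk : (Subgroup.centralizer ((P : Subgroup G) : Set G)).relIndex
      (Subgroup.normalizer ((P : Subgroup G) : Set G)) = 6)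
    (hc : Nat.card (Subgroup.centralizer ((P : Subgroup G) : Set G)) = 7) : False := by
  obtain ⟨χ, hχ⟩ := b3_exists_six h hG (fun χ => (b3_degrees h P hP hk hc χ).1)
  exact b3_no_six h hG P hP hN hc χ hχ ((b3_degrees h P hP hk hc χ).2 hχ)

end Cfsg.Agent.Helper28.Ord5040

namespace Cfsg.Agent.Helper3.SmallOrd

variable {G : Type*} [Group G] [Finite G] [IsSimpleGroup G]

theorem no_simple_5040 (h : Nat.card G = 5040) : False := by
  have hG : ∃ x y : G, x * y ≠ y * x :=
    Cfsg.Agent.Lead.nonabelian_of_not_prime (by rw [h]; norm_num)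
  have hG2 : 2 < Nat.card G := by rw [h]; norm_num
  have : Fact (Nat.Prime 7) := ⟨by norm_num⟩
  obtain ⟨hd, hm, hn1, hf, hP⟩ :=
    basic hG (p := 7) (a := 1) (m := 720) Nat.one_pos (by rw [h]; norm_num) (by norm_num)
  have hP' : ∀ R : Sylow 7 G, Nat.card (R : Subgroup G) = 7 := fun R => by
    have := (hP R).1
    rwa [pow_one] at this
  obtain ⟨P⟩ : Nonempty (Sylow 7 G) := inferInstance
  have hp7 : 7 ∣ Nat.card G := by rw [h]; norm_num
  have hk := Cfsg.Agent.Lead.relIndex_centralizer_normalizer_dvd P (hP' P)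
  have hk1 : (Subgroup.centralizer ((P : Subgroup G) : Set G)).relIndex
      (Subgroup.normalizer ((P : Subgroup G) : Set G)) ≠ 1 := by
    intro h1
    exact Cfsg.Agent.S0073.not_normalizer_le_centralizer hG P hp7 (Subgroup.relIndex_eq_one.1 h1)
  have hck := Cfsg.Agent.Helper27.Ord.card_centralizer_mul_relIndex (P : Subgroup G)
  have hq : ∀ q, q.Prime → q ∣ Nat.card (Subgroup.centralizer ((P : Subgroup G) : Set G)) →
      ∃ f, f < Nat.card (Sylow 7 G) ∧ f % q = Nat.card (Sylow 7 G) % q ∧ f % 7 = 1 ∧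
        (q = 2 → ((Nat.card (Sylow 7 G) - f) / 2) % 2 = 0) := by
    intro q hq hqc
    have : Fact q.Prime := ⟨hq⟩
    exact Cfsg.Agent.Helper27.Sieve.exists_fixed_count hG hG2 hp7 P hP' hqc
  have hNP := (hP P).2
  obtain ⟨n, hn⟩ : ∃ n, n = Nat.card (Sylow 7 G) := ⟨_, rfl⟩
  obtain ⟨k, hkdef⟩ : ∃ k, k = (Subgroup.centralizer ((P : Subgroup G) : Set G)).relIndex
      (Subgroup.normalizer ((P : Subgroup G) : Set G)) := ⟨_, rfl⟩
  obtain ⟨c, hcdef⟩ : ∃ c, c = Nat.card (Subgroup.centralizer ((P : Subgroup G) : Set G)) :=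
    ⟨_, rfl⟩
  rw [← hn] at hd hm hn1 hf hNP hq
  rw [← hkdef] at hk hk1 hck
  rw [← hcdef] at hck hq
  rw [h] at hNP hf
  have hk' : k ≤ 6 := Nat.le_of_dvd (by norm_num) hk
  have hcases : n = 8 ∨ n = 15 ∨ n = 36 ∨ n = 120 := by
    have hmem : n ∈ Nat.divisors 720 := Nat.mem_divisors.2 ⟨hd, by norm_num⟩
    simp only [Nat.divisors_ofNat] at hmem
    simp only [Finset.mem_insert, Finset.mem_singleton] at hmem
    omega
  rcases hcases with rfl | rfl | rfl | rfl
  · -- n = 8
    have hN : Nat.card (Subgroup.normalizer ((P : Subgroup G) : Set G)) = 630 := by omega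
    rw [hN] at hck
    have hqc : 3 ∣ c := by
      interval_cases k <;> omega
    obtain ⟨f, hf1, hf2, hf3, -⟩ := hq 3 (by norm_num) hqc
    omega
  · -- n = 15
    have hN : Nat.card (Subgroup.normalizer ((P : Subgroup G) : Set G)) = 336 := by omega
    rw [hN] at hck
    have hqc : 2 ∣ c := by
      interval_cases k <;> omega
    obtain ⟨f, hf1, hf2, hf3, hf4⟩ := hq 2 Nat.prime_two hqc
    have hf5 := hf4 rfl
    omega
  · -- n = 36
    have hN : Nat.card (Subgroup.normalizer ((P : Subgroup G) : Set G)) = 140 := by omega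
    rw [hN] at hck
    have hk2 : k = 2 := by
      interval_cases k <;> omega
    subst hk2
    have hc70 : c = 70 := by omega
    subst hc70
    exact Cfsg.Agent.Helper28.Ord5040.case_A h hG P (hP' P) hkdef.symm hcdef.symm
  · -- n = 120
    have hN : Nat.card (Subgroup.normalizer ((P : Subgroup G) : Set G)) = 42 := by omega
    rw [hN] at hck
    have hk3 : (k = 2 ∧ c = 21) ∨ (k = 3 ∧ c = 14) ∨ (k = 6 ∧ c = 7) := by
      interval_cases k <;> omega
    rcases hk3 with ⟨rfl, rfl⟩ | ⟨rfl, rfl⟩ | ⟨rfl, rfl⟩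
    · exact Cfsg.Agent.Helper28.Ord5040.case_B1 h hG P (hP' P) hN hcdef.symm
    · exact Cfsg.Agent.Helper28.Ord5040.case_B2 h hG P (hP' P) hkdef.symm hcdef.symm
    · exact Cfsg.Agent.Helper28.Ord5040.case_B3 h hG P (hP' P) hN hkdef.symm hcdef.symm

end Cfsg.Agent.Helper3.SmallOrd
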