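import Mathlib
import Cfsg.Agent.Lib.Helper28.OrthRoot
import Cfsg.Agent.Lib.Helper13.Hyperbolic

set_option autoImplicit false
set_option linter.unusedSectionVars false

/-! Linear algebra and quadratic geometry used for the maximality of the orthogonal similarity
group in the special linear group (helper28). -/

namespace Cfsg.Agent.Helper28.OrthInSL

open QuadraticMap Matrix Cfsg.Agent.Helper2.Orth Cfsg.Agent.Helper28.OrthRoot

variable {F : Type*} [Field F] {n : ℕ}

/-! ### common kernels of finitely many functionals, given by vectors -/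

/-- the common kernel of the functionals `x ↦ L i ⬝ᵥ x` -/
def perpL {k : ℕ} (L : Fin k → (Fin n → F)) : Submodule F (Fin n → F) :=
  LinearMap.ker (Matrix.mulVecLin (Matrix.of L))

theorem mem_perpL {k : ℕ} (L : Fin k → (Fin n → F)) (x : Fin n → F) :
    x ∈ perpL L ↔ ∀ i, L i ⬝ᵥ x = 0 := by
  unfold perpL
  rw [LinearMap.mem_ker, Matrix.mulVecLin_apply]
  constructor
  · intro h i
    exact congrFun h i
  · intro h
    funext i
    exact h i

theorem finrank_inf_perpL {k : ℕ} (U : Submodule F (Fin n → F)) (L : Fin k → (Fin n → F)) :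
    Module.finrank F U ≤ Module.finrank F ↥(U ⊓ perpL L) + k := by
  have h1 := Submodule.finrank_sup_add_finrank_inf_eq U (perpL L)
  have h2 := LinearMap.finrank_range_add_finrank_ker (Matrix.mulVecLin (Matrix.of L))
  have h3 : Module.finrank F ↥(LinearMap.range (Matrix.mulVecLin (Matrix.of L))) ≤ k := by
    have := Submodule.finrank_le (LinearMap.range (Matrix.mulVecLin (Matrix.of L)))
    rwa [Module.finrank_fintype_fun_eq_card, Fintype.card_fin] at this
  have h4 := Submodule.finrank_le (U ⊔ perpL L)
  rw [Module.finrank_fintype_fun_eq_card, Fintype.card_fin] at h2 h4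
  unfold perpL at h1 h4 ⊢
  omega

theorem finrank_perpL {k : ℕ} (L : Fin k → (Fin n → F)) :
    n ≤ Module.finrank F ↥(perpL L) + k := by
  have := finrank_inf_perpL (⊤ : Submodule F (Fin n → F)) L
  rwa [finrank_top, Module.finrank_fintype_fun_eq_card, Fintype.card_fin, top_inf_eq] at this

theorem exists_ne_zero_mem {U : Submodule F (Fin n → F)} (h : 0 < Module.finrank F U) :
    ∃ u ∈ U, u ≠ 0 := by
  obtain ⟨⟨w, hw⟩, hw0⟩ := Module.finrank_pos_iff_exists_ne_zero.mp h
  exact ⟨w, hw, fun h => hw0 (Subtype.ext h)⟩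

theorem ext_dot {l l' : Fin n → F} (h : ∀ x : Fin n → F, l ⬝ᵥ x = l' ⬝ᵥ x) : l = l' := by
  funext j
  have := h (Pi.single j 1)
  rwa [dotProduct_single, dotProduct_single, mul_one, mul_one] at this

variable (Q : QuadraticForm F (Fin n → F))

/-- the vector representing the functional `x ↦ polar Q p x` -/
def pv (p : Fin n → F) : Fin n → F := fun j => polar Q p (Pi.single j 1)

theorem pv_dot (p x : Fin n → F) : pv Q p ⬝ᵥ x = polar Q p x := by
  have h := LinearMap.pi_apply_eq_sum_univ (polarBilin Q p) x
  show pv Q p ⬝ᵥ x = polarBilin Q p x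
  rw [h]
  unfold dotProduct pv
  apply Finset.sum_congr rfl
  intro i _
  rw [smul_eq_mul, mul_comm]
  congr 1
  show polar Q p (Pi.single i 1) = polar Q p (fun j => if i = j then 1 else 0)
  congr 1
  ext j
  rw [Pi.single_apply]
  by_cases h : j = i
  · rw [if_pos h, if_pos h.symm]
  · rw [if_neg h, if_neg (Ne.symm h)]

theorem pv_add (p q : Fin n → F) : pv Q (p + q) = pv Q p + pv Q q := by
  apply ext_dot
  intro x
  rw [add_dotProduct, pv_dot, pv_dot, pv_dot, polar_add_left]

theorem pv_sub (p q : Fin n → F) : pv Q (p - q) = pv Q p - pv Q q := by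
  apply ext_dot
  intro x
  rw [sub_dotProduct, pv_dot, pv_dot, pv_dot, polar_sub_left]

theorem pv_smul (c : F) (p : Fin n → F) : pv Q (c • p) = c • pv Q p := by
  apply ext_dot
  intro x
  rw [smul_dotProduct, pv_dot, pv_dot, polar_smul_left]

theorem pv_surjective (hQ : (polarBilin Q).Nondegenerate) (l : Fin n → F) : ∃ p, pv Q p = l := by
  let L : (Fin n → F) →ₗ[F] (Fin n → F) :=
    { toFun := fun a => pv Q a
      map_add' := fun a b => pv_add Q a b
      map_smul' := fun c a => pv_smul Q c a }
  have hinj : Function.Injective L := by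
    rw [← LinearMap.ker_eq_bot, LinearMap.ker_eq_bot']
    intro a ha
    apply hQ.1
    intro x
    show polar Q a x = 0
    rw [← pv_dot]
    show L a ⬝ᵥ x = 0
    rw [ha, zero_dotProduct]
  exact (LinearMap.injective_iff_surjective.mp hinj) l

theorem pv_vecMul_isom (h : Cfsg.isometryGroup F (⇑Q)) (e : Fin n → F) :
    pv Q (h • e) ᵥ* (h.1 : Matrix (Fin n) (Fin n) F) = pv Q e := by
  apply ext_dot
  intro x
  rw [← Matrix.dotProduct_mulVec, pv_dot, pv_dot]
  exact polar_smul_smul Q h e x

/-! ### expansions -/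

theorem Q_lin3 (a b c : F) (e f x : Fin n → F) :
    Q (a • e + b • f + c • x) = a ^ 2 * Q e + b ^ 2 * Q f + c ^ 2 * Q x + a * b * polar Q e f +
      a * c * polar Q e x + b * c * polar Q f x := by
  rw [Q_add' Q, Q_add' Q, QuadraticMap.map_smul, QuadraticMap.map_smul, QuadraticMap.map_smul,
    polar_add_left, polar_smul_left, polar_smul_left, polar_smul_left, polar_smul_right,
    polar_smul_right, polar_smul_right]
  simp only [smul_eq_mul]
  ring

theorem Q_lin2 (a b : F) (e f : Fin n → F) :
    Q (a • e + b • f) = a ^ 2 * Q e + b ^ 2 * Q f + a * b * polar Q e f := by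
  rw [Q_add' Q, QuadraticMap.map_smul, QuadraticMap.map_smul, polar_smul_left, polar_smul_right]
  simp only [smul_eq_mul]
  ring

theorem polar_self' (x : Fin n → F) : polar Q x x = 2 * Q x := by
  rw [polar_self, two_nsmul, two_mul]

end Cfsg.Agent.Helper28.OrthInSL
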