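import Mathlib
import Cfsg.Agent.Lib.Helper28.OrthInSLGeom

set_option autoImplicit false
set_option linter.unusedSectionVars false

/-! Singular vectors in large subspaces, and: an invertible matrix preserving the singular
vectors of a non-degenerate quadratic form is a similarity (helper28). -/

namespace Cfsg.Agent.Helper28.OrthInSL

open QuadraticMap Matrix Cfsg.Agent.Helper2.Orth Cfsg.Agent.Helper28.OrthRoot

variable {F : Type*} [Field F] [Fintype F] {n : ℕ} (Q : QuadraticForm F (Fin n → F))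

/-- a subspace of dimension at least three contains a non-zero singular vector -/
theorem exists_sing_mem (h2 : (2 : F) ≠ 0) (U : Submodule F (Fin n → F))
    (hU : 3 ≤ Module.finrank F U) : ∃ u ∈ U, u ≠ 0 ∧ Q u = 0 := by
  by_contra hcon
  push Not at hcon
  obtain ⟨e₁, he₁U, he₁⟩ := exists_ne_zero_mem (U := U) (by omega)
  have hd₂ := finrank_inf_perpL U ![pv Q e₁]
  obtain ⟨e₂, he₂m, he₂⟩ := exists_ne_zero_mem (U := U ⊓ perpL ![pv Q e₁]) (by omega)
  have hd₃ := finrank_inf_perpL U ![pv Q e₁, pv Q e₂]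
  obtain ⟨e₃, he₃m, he₃⟩ := exists_ne_zero_mem (U := U ⊓ perpL ![pv Q e₁, pv Q e₂]) (by omega)
  have p12 : polar Q e₁ e₂ = 0 := by
    have := (mem_perpL _ _).mp he₂m.2 0
    rwa [Matrix.cons_val_zero, pv_dot] at this
  have p13 : polar Q e₁ e₃ = 0 := by
    have := (mem_perpL _ _).mp he₃m.2 0
    rwa [Matrix.cons_val_zero, pv_dot] at this
  have p23 : polar Q e₂ e₃ = 0 := by
    have := (mem_perpL _ _).mp he₃m.2 1
    rwa [Matrix.cons_val_one, Matrix.cons_val_zero, pv_dot] at this
  have a1 := hcon e₁ he₁U he₁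
  have a2 := hcon e₂ he₂m.1 he₂
  have a3 := hcon e₃ he₃m.1 he₃
  obtain ⟨x, y, hxy⟩ := Cfsg.Agent.Helper13.exists_binary_one h2 (-(Q e₁) / Q e₃)
    (-(Q e₂) / Q e₃) (div_ne_zero (neg_ne_zero.mpr a1) a3) (div_ne_zero (neg_ne_zero.mpr a2) a3)
  have hQv : Q (x • e₁ + y • e₂ + (1 : F) • e₃) = 0 := by
    rw [Q_lin3, p12, p13, p23]
    field_simp at hxy
    linear_combination (-1 : F) * hxy
  have hmem : x • e₁ + y • e₂ + (1 : F) • e₃ ∈ U :=
    U.add_mem (U.add_mem (U.smul_mem _ he₁U) (U.smul_mem _ he₂m.1)) (U.smul_mem _ he₃m.1)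
  have hv0 : x • e₁ + y • e₂ + (1 : F) • e₃ ≠ 0 := by
    intro h0
    have : polar Q (x • e₁ + y • e₂ + (1 : F) • e₃) e₃ = 0 := by rw [h0]; simp [polar]
    rw [polar_add_left, polar_add_left, polar_smul_left, polar_smul_left, polar_smul_left, p13, p23,
      polar_self' Q] at this
    simp only [smul_eq_mul, mul_zero, add_zero, zero_add, one_mul] at this
    rcases mul_eq_zero.mp this with h | h
    · exact h2 h
    · exact a3 h
  exact hcon _ hmem hv0 hQv

/-- a large subspace contains a non-singular vector -/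
theorem exists_nonsing_mem' (hQ : (polarBilin Q).Nondegenerate) (U : Submodule F (Fin n → F))
    (hU : n < 2 * Module.finrank F U) : ∃ u ∈ U, Q u ≠ 0 := by
  by_contra hcon
  push Not at hcon
  have := two_mul_finrank_ts_le hQ U hcon
  rw [Fintype.card_fin] at this
  omega

/-- a large subspace represents every value -/
theorem exists_value_mem (h2 : (2 : F) ≠ 0) (hQ : (polarBilin Q).Nondegenerate)
    (U : Submodule F (Fin n → F)) (hU : n + 2 < 2 * Module.finrank F U) (c : F) :
    ∃ z ∈ U, Q z = c := by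
  by_cases hc : c = 0
  · exact ⟨0, U.zero_mem, by rw [map_zero, hc]⟩
  obtain ⟨x, hxU, hx⟩ := exists_nonsing_mem' Q hQ U (by omega)
  have hd := finrank_inf_perpL U ![pv Q x]
  obtain ⟨y, hym, hy⟩ := exists_nonsing_mem' Q hQ (U ⊓ perpL ![pv Q x]) (by omega)
  have pxy : polar Q x y = 0 := by
    have := (mem_perpL _ _).mp hym.2 0
    rwa [Matrix.cons_val_zero, pv_dot] at this
  obtain ⟨s, t, hst⟩ := Cfsg.Agent.Helper13.exists_binary_one h2 (Q x / c) (Q y / c)
    (div_ne_zero hx hc) (div_ne_zero hy hc)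
  refine ⟨s • x + t • y, U.add_mem (U.smul_mem _ hxU) (U.smul_mem _ hym.1), ?_⟩
  rw [Q_lin2, pxy]
  field_simp at hst
  linear_combination hst


/-- the key identities for a quadratic form vanishing on the singular vectors of `Q` -/
theorem key_hyp (Q' : QuadraticForm F (Fin n → F)) (h2 : (2 : F) ≠ 0)
    (hsing : ∀ x, Q x = 0 → Q' x = 0) {e f x₀ : Fin n → F} (he : Q e = 0) (hf : Q f = 0)
    (hef : polar Q e f = 1) (hex : polar Q e x₀ = 0) (hfx : polar Q f x₀ = 0) :
    Q' x₀ = Q x₀ * polar Q' e f ∧ polar Q' e x₀ = Q x₀ * polar Q' f x₀ := by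
  have hsp : Q ((1 : F) • e + (-(Q x₀)) • f + (1 : F) • x₀) = 0 := by
    rw [Q_lin3, he, hf, hef, hex, hfx]; ring
  have hsm : Q ((1 : F) • e + (-(Q x₀)) • f + (-1 : F) • x₀) = 0 := by
    rw [Q_lin3, he, hf, hef, hex, hfx]; ring
  have hpp := hsing _ hsp
  have hmm := hsing _ hsm
  rw [Q_lin3, hsing e he, hsing f hf] at hpp hmm
  constructor
  · have : 2 * (Q' x₀ - Q x₀ * polar Q' e f) = 0 := by linear_combination hpp + hmm
    rcases mul_eq_zero.mp this with h | h
    · exact absurd h h2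
    · linear_combination h
  · have : 2 * (polar Q' e x₀ - Q x₀ * polar Q' f x₀) = 0 := by linear_combination hpp - hmm
    rcases mul_eq_zero.mp this with h | h
    · exact absurd h h2
    · linear_combination h

/-- an invertible matrix mapping singular vectors to singular vectors is a similarity -/
theorem sim_of_sing (h2 : (2 : F) ≠ 0) (hQ : (polarBilin Q).Nondegenerate) (hn : 9 ≤ n)
    (g : GL (Fin n) F) (h : ∀ x : Fin n → F, Q x = 0 → Q (g • x) = 0) :
    g ∈ Cfsg.Geo.quadSimilarityGroup (⇑Q) := by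
  obtain ⟨Q', hQ'def⟩ : ∃ Q' : QuadraticForm F (Fin n → F),
      Q' = Q.comp (Matrix.mulVecLin (g : Matrix (Fin n) (Fin n) F)) := ⟨_, rfl⟩
  have hQ'app : ∀ x, Q' x = Q (g • x) := by
    intro x
    rw [hQ'def]
    rfl
  have hsing : ∀ x, Q x = 0 → Q' x = 0 := by
    intro x hx
    rw [hQ'app]
    exact h x hx
  have hfin : Module.finrank F (Fin n → F) = n := by
    rw [Module.finrank_fintype_fun_eq_card, Fintype.card_fin]
  obtain ⟨e, he0, he⟩ := Cfsg.Agent.Helper13.exists_singular_odd h2 Q hQ (by omega)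
  obtain ⟨f, hf, hfe⟩ := exists_sing_partner hQ he0 he
  have hef : polar Q e f = 1 := by rw [polar_comm]; exact hfe
  obtain ⟨c, hc⟩ : ∃ c, c = polar Q' e f := ⟨_, rfl⟩
  have hcfe : polar Q' f e = c := by rw [polar_comm, hc]
  have hP1 : ∀ x₀, polar Q e x₀ = 0 → polar Q f x₀ = 0 → Q' x₀ = Q x₀ * c := by
    intro x₀ h1 h2'
    rw [hc]
    exact (key_hyp Q Q' h2 hsing he hf hef h1 h2').1
  have hPe_sing : ∀ x₀, polar Q e x₀ = 0 → polar Q f x₀ = 0 → Q x₀ = 0 →
      polar Q' e x₀ = 0 ∧ polar Q' f x₀ = 0 := by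
    intro x₀ h1 h2' h3
    constructor
    · rw [(key_hyp Q Q' h2 hsing he hf hef h1 h2').2, h3, zero_mul]
    · rw [(key_hyp Q Q' h2 hsing hf he hfe h2' h1).2, h3, zero_mul]
  have hPe : ∀ x₀, polar Q e x₀ = 0 → polar Q f x₀ = 0 →
      polar Q' e x₀ = 0 ∧ polar Q' f x₀ = 0 := by
    intro x₀ h1 h2'
    have hd := finrank_perpL ![pv Q e, pv Q f, pv Q x₀]
    obtain ⟨z, hzm, hz⟩ := exists_value_mem Q h2 hQ (perpL ![pv Q e, pv Q f, pv Q x₀])
      (by omega) (-(Q x₀))
    have hze : polar Q e z = 0 := by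
      have := (mem_perpL _ _).mp hzm 0
      rwa [Matrix.cons_val_zero, pv_dot] at this
    have hzf : polar Q f z = 0 := by
      have := (mem_perpL _ _).mp hzm 1
      rwa [Matrix.cons_val_one, Matrix.cons_val_zero, pv_dot] at this
    have hzx : polar Q x₀ z = 0 := by
      have := (mem_perpL _ _).mp hzm 2
      simpa [pv_dot] using this
    have hkp : Q (x₀ + z) = 0 := by rw [Q_add' Q, hz, hzx]; ring
    have hkm : Q (x₀ - z) = 0 := by rw [Q_sub_eq, hz, hzx]; ring
    have e1 := hPe_sing (x₀ + z) (by rw [polar_add_right, h1, hze, add_zero])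
      (by rw [polar_add_right, h2', hzf, add_zero]) hkp
    have e2 := hPe_sing (x₀ - z) (by rw [polar_sub_right, h1, hze, sub_zero])
      (by rw [polar_sub_right, h2', hzf, sub_zero]) hkm
    rw [polar_add_right, polar_add_right] at e1
    rw [polar_sub_right, polar_sub_right] at e2
    constructor
    · have : 2 * polar Q' e x₀ = 0 := by linear_combination e1.1 + e2.1
      rcases mul_eq_zero.mp this with h | h
      · exact absurd h h2
      · exact h
    · have : 2 * polar Q' f x₀ = 0 := by linear_combination e1.2 + e2.2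
      rcases mul_eq_zero.mp this with h | h
      · exact absurd h h2
      · exact h
  have hall : ∀ x, Q' x = c * Q x := by
    intro x
    obtain ⟨α, hα⟩ : ∃ α, α = polar Q x f := ⟨_, rfl⟩
    obtain ⟨β, hβ⟩ : ∃ β, β = polar Q x e := ⟨_, rfl⟩
    obtain ⟨x₀, hx₀⟩ : ∃ x₀, x₀ = x - α • e - β • f := ⟨_, rfl⟩
    have h1 : polar Q e x₀ = 0 := by
      rw [hx₀, polar_sub_right, polar_sub_right, polar_smul_right, polar_smul_right,
        polar_self_of_singular Q he, hef, polar_comm Q e x, ← hβ]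
      simp
    have h2' : polar Q f x₀ = 0 := by
      rw [hx₀, polar_sub_right, polar_sub_right, polar_smul_right, polar_smul_right,
        polar_self_of_singular Q hf, hfe, polar_comm Q f x, ← hα]
      simp
    have hx : x = α • e + β • f + (1 : F) • x₀ := by
      rw [hx₀, one_smul]; abel
    have hQx : Q x = α * β + Q x₀ := by
      rw [hx, Q_lin3, he, hf, hef, h1, h2']
      ring
    have hQ'x : Q' x = α * β * c + Q' x₀ := by
      rw [hx, Q_lin3, hsing e he, hsing f hf, ← hc, (hPe x₀ h1 h2').1, (hPe x₀ h1 h2').2]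
      ring
    rw [hQ'x, hQx, hP1 x₀ h1 h2']
    ring
  have hc0 : c ≠ 0 := by
    intro hc0
    apply he0
    apply hQ.1
    intro y
    show polar Q e y = 0
    have hzero : ∀ y : Fin n → F, Q y = 0 := by
      intro y
      have := hall (g⁻¹ • y)
      rwa [hQ'app, smul_inv_smul, hc0, zero_mul] at this
    unfold polar
    rw [hzero, hzero, hzero]
    ring
  refine ⟨Units.mk0 c hc0, fun v => ?_⟩
  rw [Units.val_mk0]
  have := hall v
  rw [hQ'app] at this
  exact this

end Cfsg.Agent.Helper28.OrthInSL
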