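import Mathlib
import Cfsg.Agent.Lib.Helper28.OrthInSLSim
import Cfsg.Agent.Lib.Helper28.SpInSL

set_option autoImplicit false
set_option linter.unusedSectionVars false

/-! From one transvection with a singular centre to all transvections, inside an overgroup of the
orthogonal similarities of determinant one (helper28). -/

namespace Cfsg.Agent.Helper28.OrthInSL

open QuadraticMap Matrix Cfsg.Agent.Helper2.Orth Cfsg.Agent.Helper28.OrthRoot Cfsg.Agent.Helper28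
  Cfsg.Agent.Helper28.SubspaceMax Cfsg.Agent.Helper28.SpInSL Cfsg.Agent.Helper28.WittQuad

variable {F : Type*} [Field F] [Fintype F] {n : ℕ} {Q : QuadraticForm F (Fin n → F)}

/-! ### Eichler transformations have determinant one -/

theorem eichG_pow {z b : Fin n → F} (hz : Q z = 0) (hzb : polar Q z b = 0) (k : ℕ) :
    (eichG Q z b) ^ k = eichG Q z ((k : F) • b) := by
  induction k with
  | zero => rw [pow_zero, Nat.cast_zero, zero_smul, eichG_zero]
  | succ k ih =>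
    rw [pow_succ, ih, eichG_mul hz (by rw [polar_smul_right, hzb, smul_zero]) hzb, Nat.cast_succ,
      add_smul, one_smul]

theorem eichG_det {z b : Fin n → F} (hz : Q z = 0) (hzb : polar Q z b = 0) :
    Matrix.GeneralLinearGroup.det ((eichG Q z b : Cfsg.isometryGroup F (⇑Q)) : GL (Fin n) F) = 1 := by
  classical
  obtain ⟨p, hp⟩ := CharP.exists F
  haveI := hp
  have hpp : p.Prime := CharP.char_is_prime F p
  have h1 : (eichG Q z b) ^ p = 1 := by
    rw [eichG_pow hz hzb, CharP.cast_eq_zero, zero_smul, eichG_zero]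
  obtain ⟨d, hd⟩ : ∃ d, d = Matrix.GeneralLinearGroup.det
      ((eichG Q z b : Cfsg.isometryGroup F (⇑Q)) : GL (Fin n) F) := ⟨_, rfl⟩
  rw [← hd]
  have hd1 : d ^ p = 1 := by
    rw [hd, ← map_pow, ← Subgroup.coe_pow, h1, Subgroup.coe_one, map_one]
  have hd2 : d ^ (Fintype.card F - 1) = 1 := by
    have := pow_card_eq_one (G := Fˣ) (x := d)
    rwa [Fintype.card_units] at this
  have hcop : Nat.Coprime p (Fintype.card F - 1) := by
    rw [Nat.Prime.coprime_iff_not_dvd hpp]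
    intro hdvd
    haveI : Fact p.Prime := ⟨hpp⟩
    obtain ⟨k, -, hk⟩ := FiniteField.card F p
    have h3 : p ∣ Fintype.card F := by
      rw [hk]
      exact dvd_pow_self p k.ne_zero
    have h4 := Nat.dvd_sub h3 hdvd
    have h5 : 0 < Fintype.card F := Fintype.card_pos
    have h6 : Fintype.card F - (Fintype.card F - 1) = 1 := by omega
    rw [h6] at h4
    exact hpp.one_lt.ne' (Nat.dvd_one.mp h4)
  have := pow_gcd_eq_one.mpr ⟨hd1, hd2⟩
  rwa [Nat.Coprime.gcd_eq_one hcop, pow_one] at this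

theorem eichG_mem_H {z b : Fin n → F} (hz : Q z = 0) (hzb : polar Q z b = 0) :
    ((eichG Q z b : Cfsg.isometryGroup F (⇑Q)) : GL (Fin n) F) ∈
      Cfsg.Geo.quadSimilarityGroup (⇑Q) ⊓ Cfsg.Geo.specialLinear (Fin n) F := by
  refine ⟨⟨1, fun v => ?_⟩, ?_⟩
  · rw [Units.val_one, one_mul]
    exact Q_smul Q (eichG Q z b) v
  · exact (mem_specialLinear_iff _).mpr (eichG_det hz hzb)

/-! ### orthogonal-type transvections -/

variable (M : Subgroup (GL (Fin n) F))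

/-- the centres all of whose transvections with the orthogonal axis lie in `M` -/
def OC (Q : QuadraticForm F (Fin n → F)) (M : Subgroup (GL (Fin n) F)) : Set (Fin n → F) :=
  {e | ∀ c : F, tv e (c • pv Q e) ∈ M}

theorem pv_self_dot {e : Fin n → F} (he : Q e = 0) (c : F) : (c • pv Q e) ⬝ᵥ e = 0 := by
  rw [smul_dotProduct, pv_dot, polar_self_of_singular Q he, smul_zero]

theorem oc_isom (h : Cfsg.isometryGroup F (⇑Q)) (hh : (h : GL (Fin n) F) ∈ M) {e : Fin n → F}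
    (he : Q e = 0) (heM : e ∈ OC Q M) : h • e ∈ OC Q M := by
  intro c
  obtain ⟨-, hconj⟩ := conj_tv (h : GL (Fin n) F) e (c • pv Q e) (h • e) (c • pv Q (h • e))
    (pv_self_dot he c) rfl (by rw [Matrix.smul_vecMul, pv_vecMul_isom])
  rw [← hconj]
  exact M.mul_mem (M.mul_mem hh (heM c)) (M.inv_mem hh)

theorem oc_scalar (t : F) {e : Fin n → F} (he : Q e = 0) (heM : e ∈ OC Q M) : t • e ∈ OC Q M := by
  intro c
  have h0 : (c • pv Q (t • e)) ⬝ᵥ e = 0 := by
    rw [pv_smul, smul_smul]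
    exact pv_self_dot he _
  rw [tv_smul_left t e _ h0, pv_smul, smul_smul, smul_smul]
  exact heM _

/-- an Eichler transformation moving a singular vector to another with the same pairing against
the centre -/
theorem exists_eich_move {z₁ y z' : Fin n → F} (hz₁Q : Q z₁ = 0) (hy : Q y = 0) (hz' : Q z' = 0)
    {c : F} (hyz' : c ≠ 0) (hz₁z' : polar Q z₁ z' = c) (hc : polar Q y z' = c) :
    ∃ b, polar Q z' b = 0 ∧ eichG Q z' b • z₁ = y := by
  obtain ⟨b, hbdef⟩ : ∃ b, b = c⁻¹ • (z₁ - y) := ⟨_, rfl⟩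
  have hz'b : polar Q z' b = 0 := by
    rw [hbdef, polar_smul_right, polar_sub_right, polar_comm Q z' z₁, polar_comm Q z' y, hz₁z',
      hc, sub_self, smul_zero]
  refine ⟨b, hz'b, ?_⟩
  have hQb : Q b = -(c⁻¹ * c⁻¹ * polar Q z₁ y) := by
    rw [hbdef, QuadraticMap.map_smul, Q_sub_eq, hz₁Q, hy, smul_eq_mul]
    ring
  have hbz₁ : polar Q b z₁ = -(c⁻¹ * polar Q z₁ y) := by
    rw [hbdef, polar_smul_left, polar_sub_left, Cfsg.Agent.Helper2.Orth.polar_self_of_singular Q hz₁Q,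
      polar_comm Q y z₁, smul_eq_mul]
    ring
  rw [eichG_smul hz' hz'b, eich_apply, polar_comm Q z' z₁, hz₁z', hbz₁, hQb, hbdef]
  have hcc : c⁻¹ * c = 1 := inv_mul_cancel₀ hyz'
  have e1 : c • c⁻¹ • (z₁ - y) = z₁ - y := by rw [smul_smul, mul_comm, hcc, one_smul]
  have e2 : (-(c⁻¹ * c⁻¹ * polar Q z₁ y)) • c • z' = (-(c⁻¹ * polar Q z₁ y)) • z' := by
    rw [smul_smul]
    congr 1
    calc -(c⁻¹ * c⁻¹ * polar Q z₁ y) * c = -(c⁻¹ * polar Q z₁ y) * (c⁻¹ * c) := by ring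
      _ = -(c⁻¹ * polar Q z₁ y) := by rw [hcc, mul_one]
  rw [e1, e2]
  abel

variable (hHM : Cfsg.Geo.quadSimilarityGroup (⇑Q) ⊓ Cfsg.Geo.specialLinear (Fin n) F ≤ M)

include hHM in
theorem oc_star {z₁ y z' : Fin n → F} (hz₁Q : Q z₁ = 0) (hz₁ : z₁ ∈ OC Q M) (hy : Q y = 0)
    (hz' : Q z' = 0) (h1 : polar Q z₁ z' ≠ 0) (h2 : polar Q y z' ≠ 0) : y ∈ OC Q M := by
  obtain ⟨b, hb, hmove⟩ := exists_eich_move (z₁ := (polar Q y z' / polar Q z₁ z') • z₁)
    (by rw [QuadraticMap.map_smul, hz₁Q, smul_zero]) hy hz' h2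
    (by rw [polar_smul_left, smul_eq_mul, div_mul_cancel₀ _ h1]) rfl
  rw [← hmove]
  exact oc_isom M _ (hHM (eichG_mem_H hz' hb)) (by rw [QuadraticMap.map_smul, hz₁Q, smul_zero])
    (oc_scalar M _ hz₁Q hz₁)

include hHM in
theorem oc_all (hQ : (polarBilin Q).Nondegenerate) (hn : 3 ≤ n) {u₀ : Fin n → F} (hu₀0 : u₀ ≠ 0)
    (hu₀Q : Q u₀ = 0) (hu₀ : u₀ ∈ OC Q M) (x : Fin n → F) (hx0 : x ≠ 0) (hx : Q x = 0) :
    x ∈ OC Q M := by
  have hdim := hdim_of_card (F := F) (ι := Fin n) (by rw [Fintype.card_fin]; exact hn)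
  obtain ⟨y, hy, hyx, hyu⟩ := diam2 hQ hdim hu₀0 hu₀Q hx0 hx
  exact oc_star M hHM hu₀Q hu₀ hx hy (by rw [polar_comm]; exact hyu) (by rw [polar_comm]; exact hyx)

include hHM in
/-- from a transvection with a singular centre and an axis not proportional to the orthogonal
one -/
theorem oc_of_start {u₀ l f₀ : Fin n → F} (hu₀ : Q u₀ = 0) (hl : l ⬝ᵥ u₀ = 0)
    (hT : tv u₀ l ∈ M) (hf₀ : polar Q u₀ f₀ = 0) (hlf : l ⬝ᵥ f₀ ≠ 0) : u₀ ∈ OC Q M := by
  intro c
  obtain ⟨w, hw⟩ : ∃ w, w = (c / (l ⬝ᵥ f₀)) • f₀ := ⟨_, rfl⟩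
  have hu₀w : polar Q u₀ w = 0 := by rw [hw, polar_smul_right, hf₀, smul_zero]
  have hlw : l ⬝ᵥ w = c := by rw [hw, dotProduct_smul, smul_eq_mul, div_mul_cancel₀ _ hlf]
  have hfix : eichG Q u₀ w • u₀ = u₀ := by
    rw [eichG_smul hu₀ hu₀w, eich_apply, polar_self_of_singular Q hu₀, polar_comm Q w u₀, hu₀w]
    simp
  have hl' : (l + c • pv Q u₀) ᵥ* ((eichG Q u₀ w : Cfsg.isometryGroup F (⇑Q)) : GL (Fin n) F).1 =
      l := by
    apply ext_dot
    intro x
    rw [← Matrix.dotProduct_mulVec]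
    show (l + c • pv Q u₀) ⬝ᵥ (eichG Q u₀ w • x) = l ⬝ᵥ x
    rw [eichG_smul hu₀ hu₀w, eich_apply, add_dotProduct, smul_dotProduct, pv_dot]
    simp only [dotProduct_add, dotProduct_sub, dotProduct_smul, polar_add_right, polar_sub_right,
      polar_smul_right, hl, hlw, polar_self_of_singular Q hu₀, hu₀w, smul_eq_mul]
    ring
  obtain ⟨h0, hconj⟩ := conj_tv ((eichG Q u₀ w : Cfsg.isometryGroup F (⇑Q)) : GL (Fin n) F) u₀ l
    u₀ (l + c • pv Q u₀) hl hfix.symm hl'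
  have hmem : tv u₀ (l + c • pv Q u₀) ∈ M := by
    rw [← hconj]
    exact M.mul_mem (M.mul_mem (hHM (eichG_mem_H hu₀ hu₀w)) hT)
      (M.inv_mem (hHM (eichG_mem_H hu₀ hu₀w)))
  have := ax_sub M u₀ _ _ ⟨h0, hmem⟩ ⟨hl, hT⟩
  rw [add_sub_cancel_left] at this
  exact this.2

end Cfsg.Agent.Helper28.OrthInSL
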