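import Mathlib
import Cfsg.Agent.Lib.Helper28.OrthInSLTv

set_option autoImplicit false
set_option linter.unusedSectionVars false

/-! All transvections from the orthogonal-type ones (helper28). -/

namespace Cfsg.Agent.Helper28.OrthInSL

open QuadraticMap Matrix Cfsg.Agent.Helper2.Orth Cfsg.Agent.Helper28.OrthRoot Cfsg.Agent.Helper28
  Cfsg.Agent.Helper28.SubspaceMax Cfsg.Agent.Helper28.SpInSL Cfsg.Agent.Helper28.WittQuad

variable {F : Type*} [Field F] [Fintype F] {n : ℕ} {Q : QuadraticForm F (Fin n → F)}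

/-- a singular vector with prescribed pairing against a non-singular vector `q`, not orthogonal
to a given singular vector orthogonal to `q` -/
theorem exists_sing_adj (h2 : (2 : F) ≠ 0) (hQ : (polarBilin Q).Nondegenerate) {e q : Fin n → F}
    (he0 : e ≠ 0) (he : Q e = 0) (hq : Q q ≠ 0) (hqe : polar Q q e = 0) :
    ∃ e', Q e' = 0 ∧ polar Q e' q = Q q ∧ polar Q e' e ≠ 0 := by
  obtain ⟨y₁, hy₁, hy₁e⟩ := exists_sing_partner hQ he0 he
  by_cases hc : polar Q y₁ q = 0
  · refine ⟨(2 : F)⁻¹ • (y₁ + q - Q q • e), ?_, ?_, ?_⟩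
    · rw [QuadraticMap.map_smul, Cfsg.Agent.Helper17.Spinor.Q_sub_smul, Q_add' Q, hy₁, he, hc, polar_add_left, hy₁e, hqe]
      simp
    · rw [polar_smul_left, polar_sub_left, polar_add_left, polar_smul_left, hc, polar_self' Q,
        polar_comm Q e q, hqe]
      simp only [smul_eq_mul, mul_zero, sub_zero, zero_add]
      rw [← mul_assoc, inv_mul_cancel₀ h2, one_mul]
    · rw [polar_smul_left, polar_sub_left, polar_add_left, polar_smul_left, hy₁e, hqe,
        polar_self_of_singular Q he]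
      simp only [smul_eq_mul, mul_zero, sub_zero, add_zero, mul_one]
      exact inv_ne_zero h2
  · refine ⟨(Q q / polar Q y₁ q) • y₁, ?_, ?_, ?_⟩
    · rw [QuadraticMap.map_smul, hy₁, smul_zero]
    · rw [polar_smul_left, smul_eq_mul, div_mul_cancel₀ _ hc]
    · rw [polar_smul_left, hy₁e, smul_eq_mul, mul_one]
      exact div_ne_zero hq hc

variable (M : Subgroup (GL (Fin n) F))
  (hHM : Cfsg.Geo.quadSimilarityGroup (⇑Q) ⊓ Cfsg.Geo.specialLinear (Fin n) F ≤ M)

/-- the axis `polar q ·` for non-singular `q` orthogonal to a singular centre -/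
theorem ax_nonsing (h2 : (2 : F) ≠ 0) (hQ : (polarBilin Q).Nondegenerate)
    (hOC : ∀ e : Fin n → F, e ≠ 0 → Q e = 0 → e ∈ OC Q M) {e q : Fin n → F}
    (he0 : e ≠ 0) (he : Q e = 0) (hq : Q q ≠ 0) (hqe : polar Q q e = 0) : pv Q q ∈ Ax M e := by
  obtain ⟨e', he', he'q, he'e⟩ := exists_sing_adj h2 hQ he0 he hq hqe
  obtain ⟨c, hc⟩ : ∃ c, c = -(Q q) := ⟨_, rfl⟩
  have hc0 : c ≠ 0 := by rw [hc]; exact neg_ne_zero.mpr hq
  obtain ⟨f', hf'⟩ : ∃ f', f' = c⁻¹ • (e' - q) := ⟨_, rfl⟩
  have hqe' : polar Q q e' = -c := by rw [polar_comm, he'q, hc, neg_neg]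
  have hQf' : Q f' = 0 := by
    rw [hf', QuadraticMap.map_smul, Q_sub_eq, he', he'q, hc]
    simp
  have he'f' : polar Q e' f' = 1 := by
    rw [hf', polar_smul_right, polar_sub_right, polar_self_of_singular Q he', he'q, hc]
    simp only [smul_eq_mul, zero_sub]
    exact inv_mul_cancel₀ (neg_ne_zero.mpr hq)
  have hf'0 : f' ≠ 0 := by
    intro h
    rw [h, polar_zero_right] at he'f'
    exact zero_ne_one he'f'
  have he'0 : e' ≠ 0 := by
    intro h
    rw [h, polar_zero_left] at he'e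
    exact he'e rfl
  have hqdef : q = e' - c • f' := by
    rw [hf', smul_smul, mul_inv_cancel₀ hc0, one_smul]
    abel
  have hqf' : polar Q q f' = 1 := by
    rw [hqdef, polar_sub_left, he'f', polar_smul_left, polar_self_of_singular Q hQf']
    simp
  -- the first conjugation
  have hTf : tv f' (c • pv Q f') ∈ M := hOC f' hf'0 hQf' c
  have hp' : ((tv f' (c • pv Q f') : GL (Fin n) F) : Matrix (Fin n) (Fin n) F) *ᵥ e' =
      e' + c • f' := by
    rw [tv_mulVec _ _ _ (pv_self_dot hQf' c), smul_dotProduct, pv_dot, polar_comm Q f' e', he'f',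
      smul_eq_mul, mul_one]
  have key1 : ∀ t : F, (t • pv Q q) ⬝ᵥ (e' + c • f') = 0 ∧ tv (e' + c • f') (t • pv Q q) ∈ M := by
    intro t
    have hl : (t • pv Q q) ᵥ* ((tv f' (c • pv Q f') : GL (Fin n) F) : Matrix (Fin n) (Fin n) F) =
        t • pv Q e' := by
      rw [vecMul_tv _ _ _ (pv_self_dot hQf' c), smul_dotProduct, pv_dot, hqf']
      have : pv Q e' = pv Q q + c • pv Q f' := by
        rw [← pv_smul, ← pv_add, hqdef]
        congr 1
        abel
      rw [this]
      simp only [smul_eq_mul, mul_one, smul_add, smul_smul]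
    obtain ⟨h0, hconj⟩ := conj_tv (tv f' (c • pv Q f')) e' (t • pv Q e') (e' + c • f')
      (t • pv Q q) (pv_self_dot he' t) hp'.symm hl
    refine ⟨h0, ?_⟩
    rw [← hconj]
    exact M.mul_mem (M.mul_mem hTf (hOC e' he'0 he' t)) (M.inv_mem hTf)
  -- the second conjugation
  obtain ⟨d, hd⟩ : ∃ d, d = polar Q e (e' + c • f') := ⟨_, rfl⟩
  have hd0 : d ≠ 0 := by
    have : d = 2 * polar Q e' e := by
      rw [hd, polar_add_right, polar_smul_right, hf', polar_smul_right, polar_sub_right,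
        polar_comm Q e q, hqe, polar_comm Q e e']
      simp only [smul_eq_mul, sub_zero]
      rw [← mul_assoc, mul_inv_cancel₀ hc0]
      ring
    rw [this]
    exact mul_ne_zero h2 he'e
  obtain ⟨t, ht⟩ : ∃ t, t = -d⁻¹ := ⟨_, rfl⟩
  obtain ⟨hk0, hkM⟩ := key1 t
  have hfix : e = ((tv (e' + c • f') (t • pv Q q) : GL (Fin n) F) :
      Matrix (Fin n) (Fin n) F) *ᵥ e := by
    rw [tv_mulVec _ _ _ hk0, smul_dotProduct, pv_dot, hqe, smul_zero, zero_smul, add_zero]
  have hl₃ : (pv Q e + pv Q q) ᵥ* ((tv (e' + c • f') (t • pv Q q) : GL (Fin n) F) :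
      Matrix (Fin n) (Fin n) F) = (1 : F) • pv Q e := by
    rw [vecMul_tv _ _ _ hk0, add_dotProduct, pv_dot, ← hd]
    have hq0 : pv Q q ⬝ᵥ (e' + c • f') = 0 := by
      have := (key1 1).1
      rwa [one_smul] at this
    rw [hq0, add_zero, smul_smul, ht, mul_neg, mul_inv_cancel₀ hd0, one_smul, neg_smul, one_smul]
    abel
  obtain ⟨h0, hconj⟩ := conj_tv (tv (e' + c • f') (t • pv Q q)) e ((1 : F) • pv Q e) e
    (pv Q e + pv Q q) (pv_self_dot he 1) hfix hl₃
  have hmem : tv e (pv Q e + pv Q q) ∈ M := by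
    rw [← hconj]
    exact M.mul_mem (M.mul_mem hkM (hOC e he0 he 1)) (M.inv_mem hkM)
  have h1 : pv Q e ∈ Ax M e := by
    have := hOC e he0 he 1
    rw [one_smul] at this
    have h00 := pv_self_dot he 1
    rw [one_smul] at h00
    exact ⟨h00, this⟩
  have := ax_sub M e _ _ ⟨h0, hmem⟩ h1
  rwa [add_sub_cancel_left] at this

/-- every non-zero singular vector is a full centre -/
theorem cen_of_sing (h2 : (2 : F) ≠ 0) (hQ : (polarBilin Q).Nondegenerate) (hn : 5 ≤ n)
    (hOC : ∀ e : Fin n → F, e ≠ 0 → Q e = 0 → e ∈ OC Q M) {e : Fin n → F}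
    (he0 : e ≠ 0) (he : Q e = 0) : e ∈ Cen M := by
  intro l
  by_cases hl : l ⬝ᵥ e = 0
  · obtain ⟨p, rfl⟩ := pv_surjective Q hQ l
    rw [pv_dot] at hl
    by_cases hp : Q p = 0
    · have hd := finrank_perpL ![pv Q e, pv Q p]
      obtain ⟨q₁, hq₁m, hq₁⟩ := exists_nonsing_mem' Q hQ (perpL ![pv Q e, pv Q p]) (by omega)
      have hq₁e : polar Q e q₁ = 0 := by
        have := (mem_perpL _ _).mp hq₁m 0
        rwa [Matrix.cons_val_zero, pv_dot] at this
      have hq₁p : polar Q p q₁ = 0 := by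
        have := (mem_perpL _ _).mp hq₁m 1
        rwa [Matrix.cons_val_one, Matrix.cons_val_zero, pv_dot] at this
      have h1 : pv Q (p + q₁) ∈ Ax M e := by
        apply ax_nonsing M h2 hQ hOC he0 he
        · rw [Q_add' Q, hp, hq₁p, zero_add, add_zero]
          exact hq₁
        · rw [polar_add_left, hl, polar_comm Q q₁ e, hq₁e, add_zero]
      have h3 : pv Q q₁ ∈ Ax M e :=
        ax_nonsing M h2 hQ hOC he0 he hq₁ (by rw [polar_comm, hq₁e])
      have := ax_sub M e _ _ h1 h3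
      rw [pv_add, add_sub_cancel_right] at this
      exact this.2
    · exact (ax_nonsing M h2 hQ hOC he0 he hp hl).2
  · rw [tv_of_not _ _ hl]
    exact M.one_mem

/-- every vector is a full centre -/
theorem cen_all (h2 : (2 : F) ≠ 0) (hQ : (polarBilin Q).Nondegenerate) (hn : 5 ≤ n)
    (hOC : ∀ e : Fin n → F, e ≠ 0 → Q e = 0 → e ∈ OC Q M) (p : Fin n → F) : p ∈ Cen M := by
  by_cases hp0 : p = 0
  · intro l
    have : tv p l = 1 := by
      apply Units.ext
      rw [hp0, tv_val _ _ (dotProduct_zero l), Matrix.zero_vecMulVec, add_zero, Units.val_one]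
    rw [this]
    exact M.one_mem
  by_cases hp : Q p = 0
  · exact cen_of_sing M h2 hQ hn hOC hp0 hp
  -- a singular vector with the right pairing
  have hfin : Module.finrank F (Fin n → F) = n := by
    rw [Module.finrank_fintype_fun_eq_card, Fintype.card_fin]
  obtain ⟨e, he0, he⟩ := Cfsg.Agent.Helper13.exists_singular_odd h2 Q hQ (by omega)
  obtain ⟨e', he', he'p⟩ : ∃ e', Q e' = 0 ∧ polar Q e' p = Q p := by
    by_cases hpe : polar Q p e = 0
    · obtain ⟨e', h1, h2', -⟩ := exists_sing_adj h2 hQ he0 he hp hpe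
      exact ⟨e', h1, h2'⟩
    · refine ⟨(Q p / polar Q p e) • e, by rw [QuadraticMap.map_smul, he, smul_zero], ?_⟩
      rw [polar_smul_left, polar_comm Q e p, smul_eq_mul, div_mul_cancel₀ _ hpe]
  obtain ⟨c, hc⟩ : ∃ c, c = Q p := ⟨_, rfl⟩
  have hc0 : c ≠ 0 := by rw [hc]; exact hp
  obtain ⟨f', hf'⟩ : ∃ f', f' = c⁻¹ • (p - e') := ⟨_, rfl⟩
  have hQf' : Q f' = 0 := by
    rw [hf', QuadraticMap.map_smul, Q_sub_eq, he', polar_comm Q p e', he'p]
    simp
  have hf'e' : polar Q f' e' = 1 := by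
    rw [hf', polar_smul_left, polar_sub_left, polar_self_of_singular Q he', polar_comm Q p e', he'p,
      ← hc]
    simp only [smul_eq_mul, sub_zero]
    exact inv_mul_cancel₀ hc0
  have hf'0 : f' ≠ 0 := by
    intro h
    rw [h, polar_zero_left] at hf'e'
    exact zero_ne_one hf'e'
  have he'0 : e' ≠ 0 := by
    intro h
    rw [h, polar_zero_right] at hf'e'
    exact zero_ne_one hf'e'
  have hmove : ((tv f' (c • pv Q f') : GL (Fin n) F) : Matrix (Fin n) (Fin n) F) *ᵥ e' = p := by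
    rw [tv_mulVec _ _ _ (pv_self_dot hQf' c), smul_dotProduct, pv_dot, hf'e', smul_eq_mul, mul_one,
      hf', smul_smul, mul_inv_cancel₀ hc0, one_smul]
    abel
  rw [← hmove]
  exact cen_smul M _ (hOC f' hf'0 hQf' c) e' (cen_of_sing M h2 hQ hn hOC he'0 he')

end Cfsg.Agent.Helper28.OrthInSL
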