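import Mathlib
import Cfsg.Agent.Lib.Helper28.OrthInSLCen

set_option autoImplicit false
set_option linter.unusedSectionVars false

/-! The orthogonal similarities of determinant one form a maximal subgroup of the special linear
group (odd characteristic, helper28). -/

namespace Cfsg.Agent.Helper28.OrthInSL

open QuadraticMap Matrix Cfsg.Agent.Helper2.Orth Cfsg.Agent.Helper28.OrthRoot Cfsg.Agent.Helper28
  Cfsg.Agent.Helper28.SubspaceMax Cfsg.Agent.Helper28.SpInSL Cfsg.Agent.Helper28.WittQuad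

variable {F : Type*} [Field F] [Fintype F] {n : ℕ} {Q : QuadraticForm F (Fin n → F)}

theorem gl_ext' {g h : GL (Fin n) F} (H : ∀ x : Fin n → F, g • x = h • x) : g = h := by
  apply Units.ext
  rw [Matrix.ext_iff_mulVec]
  exact H

variable (M : Subgroup (GL (Fin n) F))

/-- the commutator of a conjugated root element with a suitable root element is a transvection -/
theorem comm_tv {g₁ : GL (Fin n) F} (hg₁ : g₁ ∈ M) {a b lα lβ : Fin n → F}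
    (hact : ∀ x : Fin n → F, g₁ • x = x + (lα ⬝ᵥ x) • a - (lβ ⬝ᵥ x) • b)
    (hαa : lα ⬝ᵥ a = 0) (hαb : lα ⬝ᵥ b = 0) (hβa : lβ ⬝ᵥ a = 0) (hβb : lβ ⬝ᵥ b = 0)
    {u₀ v₀ : Fin n → F} (hu₀ : Q u₀ = 0) (hv₀ : Q v₀ = 0) (huv : polar Q u₀ v₀ = 0)
    (hαu : lα ⬝ᵥ u₀ = 0) (hβu : lβ ⬝ᵥ u₀ = 0) (hαv : lα ⬝ᵥ v₀ = 0) (hβv : lβ ⬝ᵥ v₀ = 0)
    (hua : polar Q u₀ a = 0) (hub : polar Q u₀ b = 0)
    (hE₀ : ((eichG Q u₀ v₀ : Cfsg.isometryGroup F (⇑Q)) : GL (Fin n) F) ∈ M) :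
    (-(polar Q v₀ a • lα - polar Q v₀ b • lβ)) ⬝ᵥ u₀ = 0 ∧
      tv u₀ (-(polar Q v₀ a • lα - polar Q v₀ b • lβ)) ∈ M := by
  obtain ⟨l, hl⟩ : ∃ l, l = -(polar Q v₀ a • lα - polar Q v₀ b • lβ) := ⟨_, rfl⟩
  rw [← hl]
  have hldot : ∀ x : Fin n → F, l ⬝ᵥ x = -(polar Q v₀ a * (lα ⬝ᵥ x) - polar Q v₀ b * (lβ ⬝ᵥ x)) := by
    intro x
    rw [hl, neg_dotProduct, sub_dotProduct, smul_dotProduct, smul_dotProduct, smul_eq_mul,
      smul_eq_mul]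
  have hl0 : l ⬝ᵥ u₀ = 0 := by rw [hldot, hαu, hβu]; ring
  refine ⟨hl0, ?_⟩
  have hTact : ∀ x : Fin n → F, tv u₀ l • x = x + (l ⬝ᵥ x) • u₀ := fun x => tv_mulVec u₀ l x hl0
  have hEact : ∀ x : Fin n → F, ((eichG Q u₀ v₀ : Cfsg.isometryGroup F (⇑Q)) : GL (Fin n) F) • x =
      x + (polar Q v₀ x • u₀ - polar Q u₀ x • v₀) := by
    intro x
    show eichG Q u₀ v₀ • x = _
    rw [eichG_smul hu₀ huv, eich_apply, hv₀, zero_smul, sub_zero]
  have hvu : polar Q v₀ u₀ = 0 := by rw [polar_comm, huv]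
  have huu : polar Q u₀ u₀ = 0 := polar_self_of_singular Q hu₀
  have hvv : polar Q v₀ v₀ = 0 := polar_self_of_singular Q hv₀
  have key : ((eichG Q u₀ v₀ : Cfsg.isometryGroup F (⇑Q)) : GL (Fin n) F) * tv u₀ l * g₁ =
      g₁ * ((eichG Q u₀ v₀ : Cfsg.isometryGroup F (⇑Q)) : GL (Fin n) F) := by
    apply gl_ext'
    intro x
    rw [mul_smul, mul_smul, mul_smul, hact x, hTact, hEact, hEact x, hact]
    simp only [hldot, dotProduct_add, dotProduct_sub, dotProduct_smul, polar_add_right,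
      polar_sub_right, polar_smul_right, smul_eq_mul, hαa, hαb, hβa, hβb, hαu, hβu, hαv, hβv, hua,
      hub, huv, hvu, huu, hvv, mul_zero, add_zero, sub_zero, zero_mul]
    module
  have : tv u₀ l = (((eichG Q u₀ v₀ : Cfsg.isometryGroup F (⇑Q)) : GL (Fin n) F))⁻¹ * g₁ *
      ((eichG Q u₀ v₀ : Cfsg.isometryGroup F (⇑Q)) : GL (Fin n) F) * g₁⁻¹ := by
    rw [mul_assoc _ g₁, ← key]
    group
  rw [this]
  exact M.mul_mem (M.mul_mem (M.mul_mem (M.inv_mem hE₀) hg₁) hE₀) (M.inv_mem hg₁)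

variable (hHM : Cfsg.Geo.quadSimilarityGroup (⇑Q) ⊓ Cfsg.Geo.specialLinear (Fin n) F ≤ M)

include hHM in
/-- a transvection with singular centre from an element not preserving the singular vectors -/
theorem exists_start (h2 : (2 : F) ≠ 0) (hQ : (polarBilin Q).Nondegenerate) (hn : 11 ≤ n)
    {g : GL (Fin n) F} (hg : g ∈ M) {x₁ : Fin n → F} (hx₁ : Q x₁ = 0) (hgx₁ : Q (g • x₁) ≠ 0) :
    ∃ u₀ l f₀ : Fin n → F, u₀ ≠ 0 ∧ Q u₀ = 0 ∧ l ⬝ᵥ u₀ = 0 ∧ tv u₀ l ∈ M ∧ polar Q u₀ f₀ = 0 ∧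
      l ⬝ᵥ f₀ ≠ 0 := by
  have hx₁0 : x₁ ≠ 0 := by
    intro h
    rw [h, smul_zero, map_zero] at hgx₁
    exact hgx₁ rfl
  obtain ⟨f, hf, hfx₁⟩ := exists_sing_partner hQ hx₁0 hx₁
  have hd1 := finrank_perpL ![pv Q x₁, pv Q f]
  obtain ⟨y₁, hy₁m, hy₁0, hy₁⟩ := exists_sing_mem Q h2 (perpL ![pv Q x₁, pv Q f]) (by omega)
  have hx₁y₁ : polar Q x₁ y₁ = 0 := by
    have := (mem_perpL _ _).mp hy₁m 0
    rwa [Matrix.cons_val_zero, pv_dot] at this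
  have hfy₁ : polar Q f y₁ = 0 := by
    have := (mem_perpL _ _).mp hy₁m 1
    rwa [Matrix.cons_val_one, Matrix.cons_val_zero, pv_dot] at this
  obtain ⟨f', hf', hf'y₁⟩ := exists_sing_partner hQ hy₁0 hy₁
  obtain ⟨f₁, hf₁⟩ : ∃ f₁, f₁ = f' - polar Q x₁ f' • f := ⟨_, rfl⟩
  have hy₁f₁ : polar Q y₁ f₁ = 1 := by
    rw [hf₁, polar_sub_right, polar_smul_right, polar_comm Q y₁ f', hf'y₁, polar_comm Q y₁ f, hfy₁]
    simp
  have hx₁f₁ : polar Q x₁ f₁ = 0 := by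
    rw [hf₁, polar_sub_right, polar_smul_right, polar_comm Q x₁ f, hfx₁]
    simp
  -- the conjugated root element
  obtain ⟨a, ha⟩ : ∃ a, a = g • x₁ := ⟨_, rfl⟩
  obtain ⟨b, hb⟩ : ∃ b, b = g • y₁ := ⟨_, rfl⟩
  rw [← ha] at hgx₁
  obtain ⟨lα, hlα⟩ : ∃ lα, lα = pv Q y₁ ᵥ* ((g⁻¹ : GL (Fin n) F) : Matrix (Fin n) (Fin n) F) :=
    ⟨_, rfl⟩
  obtain ⟨lβ, hlβ⟩ : ∃ lβ, lβ = pv Q x₁ ᵥ* ((g⁻¹ : GL (Fin n) F) : Matrix (Fin n) (Fin n) F) :=
    ⟨_, rfl⟩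
  have hα : ∀ x : Fin n → F, lα ⬝ᵥ x = polar Q y₁ (g⁻¹ • x) := by
    intro x
    rw [hlα, ← Matrix.dotProduct_mulVec, pv_dot]
    rfl
  have hβ : ∀ x : Fin n → F, lβ ⬝ᵥ x = polar Q x₁ (g⁻¹ • x) := by
    intro x
    rw [hlβ, ← Matrix.dotProduct_mulVec, pv_dot]
    rfl
  have hEM := hHM (eichG_mem_H hx₁ hx₁y₁)
  obtain ⟨g₁, hg₁⟩ : ∃ g₁, g₁ = g * ((eichG Q x₁ y₁ : Cfsg.isometryGroup F (⇑Q)) : GL (Fin n) F) *
      g⁻¹ := ⟨_, rfl⟩
  have hg₁M : g₁ ∈ M := by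
    rw [hg₁]
    exact M.mul_mem (M.mul_mem hg hEM) (M.inv_mem hg)
  have hact : ∀ x : Fin n → F, g₁ • x = x + (lα ⬝ᵥ x) • a - (lβ ⬝ᵥ x) • b := by
    intro x
    rw [hg₁, mul_smul, mul_smul]
    have : ((eichG Q x₁ y₁ : Cfsg.isometryGroup F (⇑Q)) : GL (Fin n) F) • (g⁻¹ • x) =
        eichG Q x₁ y₁ • (g⁻¹ • x) := rfl
    rw [this, eichG_smul hx₁ hx₁y₁, eich_apply, hy₁, zero_smul, sub_zero, smul_add, smul_sub,
      smul_inv_smul, smul_comm g, smul_comm g, hα, hβ, ← ha, ← hb, add_sub_assoc]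
  have hαa : lα ⬝ᵥ a = 0 := by rw [hα, ha, inv_smul_smul, polar_comm, hx₁y₁]
  have hαb : lα ⬝ᵥ b = 0 := by rw [hα, hb, inv_smul_smul, polar_self_of_singular Q hy₁]
  have hβa : lβ ⬝ᵥ a = 0 := by rw [hβ, ha, inv_smul_smul, polar_self_of_singular Q hx₁]
  have hβb : lβ ⬝ᵥ b = 0 := by rw [hβ, hb, inv_smul_smul, hx₁y₁]
  -- the singular vector `v₀`
  have hd2 := finrank_perpL ![lα, lβ, pv Q a, pv Q b]
  obtain ⟨z', hz'm, hz'⟩ := exists_value_mem Q h2 hQ (perpL ![lα, lβ, pv Q a, pv Q b])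
    (by omega) (-(Q a))
  have hαz' : lα ⬝ᵥ z' = 0 := by
    have := (mem_perpL _ _).mp hz'm 0
    rwa [Matrix.cons_val_zero] at this
  have hβz' : lβ ⬝ᵥ z' = 0 := by
    have := (mem_perpL _ _).mp hz'm 1
    rwa [Matrix.cons_val_one, Matrix.cons_val_zero] at this
  have haz' : polar Q a z' = 0 := by
    have := (mem_perpL _ _).mp hz'm 2
    simpa [pv_dot] using this
  have hbz' : polar Q b z' = 0 := by
    have := (mem_perpL _ _).mp hz'm 3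
    simpa [pv_dot] using this
  obtain ⟨v₀, hv₀def⟩ : ∃ v₀, v₀ = a + z' := ⟨_, rfl⟩
  have hv₀ : Q v₀ = 0 := by rw [hv₀def, Q_add' Q, hz', haz']; ring
  have hαv : lα ⬝ᵥ v₀ = 0 := by rw [hv₀def, dotProduct_add, hαa, hαz', add_zero]
  have hβv : lβ ⬝ᵥ v₀ = 0 := by rw [hv₀def, dotProduct_add, hβa, hβz', add_zero]
  have hv₀a : polar Q v₀ a = 2 * Q a := by
    rw [hv₀def, polar_add_left, polar_self' Q, polar_comm Q z' a, haz', add_zero]
  -- the test vector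
  obtain ⟨f₀, hf₀⟩ : ∃ f₀, f₀ = g • f₁ := ⟨_, rfl⟩
  have hαf₀ : lα ⬝ᵥ f₀ = 1 := by rw [hα, hf₀, inv_smul_smul, hy₁f₁]
  have hβf₀ : lβ ⬝ᵥ f₀ = 0 := by rw [hβ, hf₀, inv_smul_smul, hx₁f₁]
  -- the singular vector `u₀`
  have hd3 := finrank_perpL ![lα, lβ, pv Q a, pv Q b, pv Q v₀, pv Q f₀]
  obtain ⟨u₀, hu₀m, hu₀0, hu₀⟩ := exists_sing_mem Q h2
    (perpL ![lα, lβ, pv Q a, pv Q b, pv Q v₀, pv Q f₀]) (by omega)
  have hαu : lα ⬝ᵥ u₀ = 0 := by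
    have := (mem_perpL _ _).mp hu₀m 0
    rwa [Matrix.cons_val_zero] at this
  have hβu : lβ ⬝ᵥ u₀ = 0 := by
    have := (mem_perpL _ _).mp hu₀m 1
    rwa [Matrix.cons_val_one, Matrix.cons_val_zero] at this
  have hau : polar Q a u₀ = 0 := by
    have := (mem_perpL _ _).mp hu₀m 2
    simpa [pv_dot] using this
  have hbu : polar Q b u₀ = 0 := by
    have := (mem_perpL _ _).mp hu₀m 3
    simpa [pv_dot] using this
  have hvu : polar Q v₀ u₀ = 0 := by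
    have := (mem_perpL _ _).mp hu₀m 4
    simpa [pv_dot] using this
  have hfu : polar Q f₀ u₀ = 0 := by
    have := (mem_perpL _ _).mp hu₀m 5
    simpa [pv_dot] using this
  have huv : polar Q u₀ v₀ = 0 := by rw [polar_comm, hvu]
  obtain ⟨hl0, hT⟩ := comm_tv M hg₁M hact hαa hαb hβa hβb hu₀ hv₀ huv hαu hβu hαv hβv
    (by rw [polar_comm, hau]) (by rw [polar_comm, hbu]) (hHM (eichG_mem_H hu₀ huv))
  refine ⟨u₀, _, f₀, hu₀0, hu₀, hl0, hT, by rw [polar_comm, hfu], ?_⟩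
  rw [neg_dotProduct, sub_dotProduct, smul_dotProduct, smul_dotProduct, hαf₀, hβf₀, hv₀a]
  simp only [smul_eq_mul, mul_one, mul_zero, sub_zero]
  exact neg_ne_zero.mpr (mul_ne_zero h2 hgx₁)

include hHM in
/-- a subgroup containing the orthogonal similarities of determinant one and some non-similarity
contains the special linear group -/
theorem orth_top (h2 : (2 : F) ≠ 0) (hQ : (polarBilin Q).Nondegenerate) (hn : 11 ≤ n)
    (hM : ¬ M ≤ Cfsg.Geo.quadSimilarityGroup (⇑Q)) : Cfsg.Geo.specialLinear (Fin n) F ≤ M := by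
  obtain ⟨g, hgM, hgS⟩ : ∃ g ∈ M, g ∉ Cfsg.Geo.quadSimilarityGroup (⇑Q) := by
    by_contra hcon
    push Not at hcon
    exact hM hcon
  obtain ⟨x₁, hx₁, hgx₁⟩ : ∃ x₁ : Fin n → F, Q x₁ = 0 ∧ Q (g • x₁) ≠ 0 := by
    by_contra hcon
    push Not at hcon
    exact hgS (sim_of_sing Q h2 hQ (by omega) g hcon)
  obtain ⟨u₀, l, f₀, hu₀0, hu₀, hl0, hT, huf, hlf⟩ := exists_start M hHM h2 hQ hn hgM hx₁ hgx₁
  have h1 := oc_of_start M hHM hu₀ hl0 hT huf hlf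
  have hOC : ∀ e : Fin n → F, e ≠ 0 → Q e = 0 → e ∈ OC Q M :=
    fun e he0 he => oc_all M hHM hQ (by omega) hu₀0 hu₀ h1 e he0 he
  apply specialLinear_le_of_tv (by omega)
  intro u l'
  exact cen_all M h2 hQ (by omega) hOC u l'

/-- the orthogonal similarities do not contain the special linear group -/
theorem exists_not_sim (h2 : (2 : F) ≠ 0) (hQ : (polarBilin Q).Nondegenerate) (hn : 3 ≤ n) :
    ∃ g ∈ Cfsg.Geo.specialLinear (Fin n) F, g ∉ Cfsg.Geo.quadSimilarityGroup (⇑Q) := by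
  have hfin : Module.finrank F (Fin n → F) = n := by
    rw [Module.finrank_fintype_fun_eq_card, Fintype.card_fin]
  obtain ⟨e, he0, he⟩ := Cfsg.Agent.Helper13.exists_singular_odd h2 Q hQ (by omega)
  obtain ⟨f, hf, hfe⟩ := exists_sing_partner hQ he0 he
  refine ⟨tv e ((1 : F) • pv Q e), tv_mem_specialLinear _ _, ?_⟩
  rintro ⟨c, hc⟩
  have := hc f
  rw [tv_mulVec _ _ _ (pv_self_dot he 1), smul_dotProduct, pv_dot, polar_comm Q e f, hfe, hf,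
    mul_zero, smul_eq_mul, mul_one, Q_add' Q, hf, QuadraticMap.map_smul, he, polar_smul_right,
    hfe] at this
  simp at this

/-- **the orthogonal similarities of determinant one form a maximal subgroup of the special
linear group** -/
theorem maximal_orth (h2 : (2 : F) ≠ 0) (hQ : (polarBilin Q).Nondegenerate) (hn : 11 ≤ n) :
    Cfsg.Geo.IsMaximalIn (Cfsg.Geo.specialLinear (Fin n) F)
      (Cfsg.Geo.quadSimilarityGroup (⇑Q) ⊓ Cfsg.Geo.specialLinear (Fin n) F) := by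
  refine ⟨?_, fun M hHM hMS => ?_⟩
  · apply lt_of_le_of_ne inf_le_right
    intro heq
    obtain ⟨g, hg, hgS⟩ := exists_not_sim (Q := Q) h2 hQ (by omega)
    rw [← heq] at hg
    exact hgS hg.1
  · by_cases hM : M ≤ Cfsg.Geo.quadSimilarityGroup (⇑Q)
    · left
      exact le_antisymm (le_inf hM hMS) hHM
    · right
      exact le_antisymm hMS (orth_top M hHM h2 hQ hn hM)

end Cfsg.Agent.Helper28.OrthInSL
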