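import Mathlib
import Cfsg.Agent.Lib.Helper28.OrthRoot
import Cfsg.Agent.Lib.Helper28.SpSingMax

set_option autoImplicit false
set_option linter.unusedSectionVars false

/-! Characteristic two: the orthogonal group of a quadratic form polarising to the standard
alternating form is a maximal subgroup of the symplectic group. -/

namespace Cfsg.Agent.Helper28.OrthInSp

open QuadraticMap Matrix Cfsg.Agent.Helper2.Symp Cfsg.Agent.Helper28.OrthRoot
open scoped Cfsg.Agent.Helper2.Symp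

variable {F : Type*} [Field F] [Fintype F] {m : ℕ} (Q : QuadraticForm F (Fin m ⊕ Fin m → F))
  (hpol : ∀ u v, polar Q u v = Bf u v) (h2 : (2 : F) = 0)

include hpol in
theorem Q_add (x y : Fin m ⊕ Fin m → F) : Q (x + y) = Q x + Q y + Bf x y := by
  rw [← hpol]
  unfold polar
  ring

include h2 in
theorem add_self_zero (x : Fin m ⊕ Fin m → F) : x + x = 0 := by
  rw [← two_smul F x, h2, zero_smul]

include h2 in
theorem exists_sq (r : F) : ∃ c : F, c * c = r := by
  have hchar : ringChar F = 2 :=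
    CharP.ringChar_of_prime_eq_zero Nat.prime_two (by exact_mod_cast h2)
  obtain ⟨c, hc⟩ := FiniteField.isSquare_of_char_two hchar r
  exact ⟨c, hc.symm⟩

include hpol in
theorem Q_tv (u x : Fin m ⊕ Fin m → F) (c : F) :
    Q (tv u c • x) = Q x + Bf x u * Bf x u * (c * (c * Q u + 1)) := by
  rw [tv_smul, Q_add Q hpol, QuadraticMap.map_smul, Bf_smul_right, smul_eq_mul]
  ring

/-- the isometries of `Q` inside the symplectic group -/
def OQ : Subgroup (Matrix.symplecticGroup (Fin m) F) where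
  carrier := {g | ∀ v, Q (g • v) = Q v}
  mul_mem' := fun {a b} ha hb v => by rw [mul_smul, ha, hb]
  one_mem' := fun v => by rw [one_smul]
  inv_mem' := fun {a} ha v => by
    have := ha (a⁻¹ • v)
    rw [smul_inv_smul] at this
    exact this.symm

theorem mem_OQ_iff (g : Matrix.symplecticGroup (Fin m) F) : g ∈ OQ Q ↔ ∀ v, Q (g • v) = Q v :=
  Iff.rfl

include hpol h2 in
/-- orthogonal transvections -/
theorem T_mem (u : Fin m ⊕ Fin m → F) (hu : Q u ≠ 0) : tv u (Q u)⁻¹ ∈ OQ Q := by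
  intro x
  rw [Q_tv Q hpol, inv_mul_cancel₀ hu]
  linear_combination (Bf x u * Bf x u * (Q u)⁻¹) * h2

include hpol h2 in
theorem swap (w w' : Fin m ⊕ Fin m → F) (h : Q w = Q w') (hb : Bf w w' ≠ 0) :
    Q (w + w') = Bf w w' ∧ tv (w + w') (Q (w + w'))⁻¹ • w = w' := by
  have h1 : Q (w + w') = Bf w w' := by
    rw [Q_add Q hpol, h]
    linear_combination (Q w') * h2
  refine ⟨h1, ?_⟩
  rw [tv_smul, h1, Bf_add_right, Bf_self, zero_add, inv_mul_cancel₀ hb, one_smul, ← add_assoc,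
    add_self_zero h2, zero_add]

section geom

variable (hQ : (polarBilin Q).Nondegenerate) (hm : 4 ≤ m)

include hpol hQ hm in
theorem exists_nonsing_perp3 (a b c : Fin m ⊕ Fin m → F) :
    ∃ k, Q k ≠ 0 ∧ Bf k a = 0 ∧ Bf k b = 0 ∧ Bf k c = 0 := by
  classical
  have hS : Module.finrank F (Submodule.span F ({a, b, c} : Set (Fin m ⊕ Fin m → F))) ≤ 3 := by
    have := finrank_span_finset_le_card (R := F) ({a, b, c} : Finset (Fin m ⊕ Fin m → F))
    have h3 : ({a, b, c} : Finset (Fin m ⊕ Fin m → F)).card ≤ 3 := Finset.card_le_three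
    rw [Finset.coe_insert, Finset.coe_insert, Finset.coe_singleton] at this
    exact this.trans h3
  have hfr := LinearMap.BilinForm.finrank_orthogonal hQ
    (Submodule.span F ({a, b, c} : Set (Fin m ⊕ Fin m → F)))
  rw [Module.finrank_fintype_fun_eq_card, Fintype.card_sum, Fintype.card_fin] at hfr
  have hwi : ∀ U : Submodule F (Fin m ⊕ Fin m → F), (∀ u ∈ U, Q u = 0) →
      Module.finrank F U ≤ m := by
    intro U hU
    have := two_mul_finrank_ts_le hQ U hU
    rw [Fintype.card_sum, Fintype.card_fin] at this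
    omega
  obtain ⟨k, hkmem, hk⟩ := exists_nonsing_mem m hwi
    (LinearMap.BilinForm.orthogonal (polarBilin Q)
      (Submodule.span F ({a, b, c} : Set (Fin m ⊕ Fin m → F)))) (by omega)
  have hko := (Cfsg.Agent.Helper17.Spinor.mem_orthogonal_iff' Q _ k).1 hkmem
  refine ⟨k, hk, ?_, ?_, ?_⟩
  · rw [← hpol, polar_comm]
    exact hko a (Submodule.subset_span (by simp))
  · rw [← hpol, polar_comm]
    exact hko b (Submodule.subset_span (by simp))
  · rw [← hpol, polar_comm]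
    exact hko c (Submodule.subset_span (by simp))

include hpol hQ hm h2 in
/-- a vector of prescribed value not orthogonal to two given non-zero vectors -/
theorem exists_inter (w w' : Fin m ⊕ Fin m → F) (hw : w ≠ 0) (hw' : w' ≠ 0) (s : F) :
    ∃ y, Q y = s ∧ Bf w y ≠ 0 ∧ Bf y w' ≠ 0 := by
  obtain ⟨ya, hya⟩ := exists_Bf_ne_zero hw
  obtain ⟨yb, hyb⟩ := exists_Bf_ne_zero hw'
  have hyb' : Bf yb w' ≠ 0 := by
    rw [Bf_skew]; exact neg_ne_zero.mpr hyb
  obtain ⟨y₁, h1, h1'⟩ : ∃ y₁, Bf w y₁ ≠ 0 ∧ Bf y₁ w' ≠ 0 := by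
    by_cases ha : Bf ya w' = 0
    · by_cases hb : Bf w yb = 0
      · refine ⟨ya + yb, ?_, ?_⟩
        · rw [Bf_add_right, hb, add_zero]; exact hya
        · rw [Bf_add_left, ha, zero_add]; exact hyb'
      · exact ⟨yb, hb, hyb'⟩
    · exact ⟨ya, hya, ha⟩
  obtain ⟨k, hk, hkw, hkw', hky⟩ := exists_nonsing_perp3 Q hpol hQ hm w w' y₁
  obtain ⟨c, hc⟩ := exists_sq h2 ((s - Q y₁) / Q k)
  refine ⟨y₁ + c • k, ?_, ?_, ?_⟩
  · rw [Q_add Q hpol, QuadraticMap.map_smul, Bf_smul_right, Bf_skew y₁ k, hky, smul_eq_mul, hc,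
      div_mul_cancel₀ _ hk]
    ring
  · rw [Bf_add_right, Bf_smul_right, Bf_skew w k, hkw, neg_zero, mul_zero, add_zero]
    exact h1
  · rw [Bf_add_left, Bf_smul_left, hkw', mul_zero, add_zero]
    exact h1'

include hpol hQ hm h2 in
/-- every level set of `Q` meets every affine hyperplane -/
theorem exists_level_hyp (w' : Fin m ⊕ Fin m → F) (hw' : w' ≠ 0) (s β : F) :
    ∃ w, Q w = s ∧ Bf w w' = β := by
  obtain ⟨b₀, hb₀⟩ := exists_Bf_ne_zero hw'
  have hb₀' : Bf b₀ w' ≠ 0 := by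
    rw [Bf_skew]; exact neg_ne_zero.mpr hb₀
  obtain ⟨b, hbdef⟩ : ∃ b, b = (Bf b₀ w')⁻¹ • b₀ := ⟨_, rfl⟩
  have hb : Bf b w' = 1 := by
    rw [hbdef, Bf_smul_left, inv_mul_cancel₀ hb₀']
  obtain ⟨k, hk, hkw', hkb, -⟩ := exists_nonsing_perp3 Q hpol hQ hm w' b b
  obtain ⟨c, hc⟩ := exists_sq h2 ((s - β * β * Q b) / Q k)
  refine ⟨β • b + c • k, ?_, ?_⟩
  · rw [Q_add Q hpol, QuadraticMap.map_smul, QuadraticMap.map_smul, Bf_smul_right, Bf_smul_left,
      Bf_skew b k, hkb, smul_eq_mul, smul_eq_mul, hc, div_mul_cancel₀ _ hk]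
    ring
  · rw [Bf_add_left, Bf_smul_left, Bf_smul_left, hb, hkw']
    ring

include hpol hQ hm h2 in
/-- the isometry group is transitive on the non-zero vectors of a given value -/
theorem exists_OQ_move (w w' : Fin m ⊕ Fin m → F) (hw : w ≠ 0) (hw' : w' ≠ 0)
    (h : Q w = Q w') : ∃ g ∈ OQ Q, g • w = w' := by
  obtain ⟨y, hy, hwy, hyw'⟩ := exists_inter Q hpol h2 hQ hm w w' hw hw' (Q w)
  obtain ⟨e1, e2⟩ := swap Q hpol h2 w y hy.symm hwy
  obtain ⟨e3, e4⟩ := swap Q hpol h2 y w' (hy.trans h) hyw'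
  refine ⟨tv (y + w') (Q (y + w'))⁻¹ * tv (w + y) (Q (w + y))⁻¹, ?_, ?_⟩
  · apply Subgroup.mul_mem
    · exact T_mem Q hpol h2 _ (by rw [e3]; exact hyw')
    · exact T_mem Q hpol h2 _ (by rw [e1]; exact hwy)
  · rw [mul_smul, e2, e4]

include hpol hQ hm h2 in
/-- a subgroup containing the isometries and a transvection that is not one is transitive on the
non-zero vectors -/
theorem exists_M_move (M : Subgroup (Matrix.symplecticGroup (Fin m) F)) (hOM : OQ Q ≤ M)
    (w' : Fin m ⊕ Fin m → F) (c : F) (hw' : w' ≠ 0) (hX : tv w' c ∈ M)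
    (hκ : c * (c * Q w' + 1) ≠ 0) (u v : Fin m ⊕ Fin m → F) (hu : u ≠ 0) (hv : v ≠ 0) :
    ∃ g ∈ M, g • u = v := by
  by_cases huv : Q u = Q v
  · obtain ⟨g, hg, hguv⟩ := exists_OQ_move Q hpol h2 hQ hm u v hu hv huv
    exact ⟨g, hOM hg, hguv⟩
  · obtain ⟨β, hβ⟩ := exists_sq h2 ((Q v - Q u) / (c * (c * Q w' + 1)))
    have hβ0 : β ≠ 0 := by
      intro h
      rw [h, mul_zero] at hβ
      have := div_eq_zero_iff.mp hβ.symm
      rcases this with h' | h'
      · exact huv (sub_eq_zero.mp h').symm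
      · exact hκ h'
    obtain ⟨w, hwQ, hwβ⟩ := exists_level_hyp Q hpol h2 hQ hm w' hw' (Q u) β
    have hw0 : w ≠ 0 := by
      intro h
      rw [h, Bf_zero_left] at hwβ
      exact hβ0 hwβ.symm
    have hXw : Q (tv w' c • w) = Q v := by
      rw [Q_tv Q hpol, hwβ, hβ, div_mul_cancel₀ _ hκ, hwQ]
      ring
    have hXw0 : tv w' c • w ≠ 0 := by
      intro h
      apply hw0
      have := congrArg (fun z => (tv w' c)⁻¹ • z) h
      simpa using this
    obtain ⟨g₁, hg₁, hg₁u⟩ := exists_OQ_move Q hpol h2 hQ hm u w hu hw0 hwQ.symm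
    obtain ⟨g₂, hg₂, hg₂w⟩ := exists_OQ_move Q hpol h2 hQ hm _ v hXw0 hv hXw
    refine ⟨g₂ * tv w' c * g₁, M.mul_mem (M.mul_mem (hOM hg₂) hX) (hOM hg₁), ?_⟩
    rw [mul_smul, mul_smul, hg₁u, hg₂w]

include hpol hQ hm h2 in
/-- a subgroup of the symplectic group properly containing the isometries of `Q` is everything -/
theorem oq_top (M : Subgroup (Matrix.symplecticGroup (Fin m) F)) (hOM : OQ Q ≤ M)
    (hM : M ≠ OQ Q) : M = ⊤ := by
  obtain ⟨g, hgM, hgO⟩ : ∃ g ∈ M, g ∉ OQ Q := by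
    by_contra hcon
    push Not at hcon
    exact hM (le_antisymm hcon hOM)
  rw [mem_OQ_iff] at hgO
  push Not at hgO
  obtain ⟨u, hu⟩ := hgO
  -- a transvection of `M` that is not an isometry
  obtain ⟨w', c, hw', hX, hκ⟩ : ∃ (w' : Fin m ⊕ Fin m → F) (c : F), w' ≠ 0 ∧ tv w' c ∈ M ∧
      c * (c * Q w' + 1) ≠ 0 := by
    by_cases hu0 : Q u = 0
    · have hgu : Q (g • u) ≠ 0 := by rw [hu0] at hu; exact hu
      refine ⟨u, (Q (g • u))⁻¹, ?_, ?_, ?_⟩
      · intro h
        rw [h, smul_zero, map_zero] at hgu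
        exact hgu rfl
      · have := conj_tv g⁻¹ (g • u) (Q (g • u))⁻¹
        rw [inv_smul_smul, inv_inv] at this
        rw [← this]
        exact M.mul_mem (M.mul_mem (M.inv_mem hgM) (hOM (T_mem Q hpol h2 _ hgu))) hgM
      · rw [hu0, mul_zero, zero_add, mul_one]
        exact inv_ne_zero hgu
    · refine ⟨g • u, (Q u)⁻¹, ?_, ?_, ?_⟩
      · intro h
        have := congrArg (fun z => g⁻¹ • z) h
        simp only [inv_smul_smul, smul_zero] at this
        rw [this, map_zero] at hu0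
        exact hu0 rfl
      · rw [← conj_tv]
        exact M.mul_mem (M.mul_mem hgM (hOM (T_mem Q hpol h2 _ hu0))) (M.inv_mem hgM)
      · apply mul_ne_zero (inv_ne_zero hu0)
        intro h
        apply hu
        have h3 : Q (g • u) + Q u = 0 := by
          have := congrArg (fun z => z * Q u) h
          simp only [add_mul, zero_mul, one_mul] at this
          rw [mul_comm, ← mul_assoc, mul_inv_cancel₀ hu0, one_mul] at this
          exact this
        linear_combination h3 - (Q u) * h2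
  -- a non-singular vector
  obtain ⟨w₀, hw₀, -, -, -⟩ := exists_nonsing_perp3 Q hpol hQ hm 0 0 0
  have hw₀0 : w₀ ≠ 0 := by
    intro h
    rw [h, map_zero] at hw₀
    exact hw₀ rfl
  have hall : ∀ (v : Fin m ⊕ Fin m → F) (d : F), tv v d ∈ M := by
    intro v d
    by_cases hv : v = 0
    · rw [hv, tv_zero_left]; exact M.one_mem
    by_cases hd : d = 0
    · rw [hd, tv_zero_right]; exact M.one_mem
    obtain ⟨b, hb⟩ := exists_sq h2 ((Q w₀)⁻¹ / d)
    have hb0 : b ≠ 0 := by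
      intro h
      rw [h, mul_zero] at hb
      rcases div_eq_zero_iff.mp hb.symm with h' | h'
      · exact inv_ne_zero hw₀ h'
      · exact hd h'
    have hv₁ : b⁻¹ • v ≠ 0 := smul_ne_zero (inv_ne_zero hb0) hv
    obtain ⟨h, hhM, hhw⟩ := exists_M_move Q hpol h2 hQ hm M hOM w' c hw' hX hκ w₀ (b⁻¹ • v)
      hw₀0 hv₁
    have e1 : tv v d = tv (b⁻¹ • v) (Q w₀)⁻¹ := by
      have : v = b • (b⁻¹ • v) := by rw [smul_smul, mul_inv_cancel₀ hb0, one_smul]
      conv_lhs => rw [this]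
      rw [tv_smul_vec, hb, div_mul_cancel₀ _ hd]
    rw [e1, ← hhw, ← conj_tv]
    exact M.mul_mem (M.mul_mem hhM (hOM (T_mem Q hpol h2 _ hw₀))) (M.inv_mem hhM)
  rw [eq_top_iff, ← tvGroup_top_eq_top]
  unfold tvGroup
  rw [Subgroup.closure_le]
  rintro g ⟨x, -, c, rfl⟩
  exact hall x c

include hpol hQ hm h2 in
theorem oq_ne_top : OQ Q ≠ ⊤ := by
  intro htop
  obtain ⟨w₀, hw₀, -, -, -⟩ := exists_nonsing_perp3 Q hpol hQ hm 0 0 0
  have hw₀0 : w₀ ≠ 0 := by
    intro h
    rw [h, map_zero] at hw₀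
    exact hw₀ rfl
  obtain ⟨y, hy, hwy, -⟩ := exists_inter Q hpol h2 hQ hm w₀ w₀ hw₀0 hw₀0 0
  have : tv y 1 ∈ OQ Q := by rw [htop]; exact Subgroup.mem_top _
  have h1 := this w₀
  rw [Q_tv Q hpol, hy] at h1
  have h3 : Bf w₀ y * Bf w₀ y = 0 := by linear_combination h1
  exact hwy (mul_self_eq_zero.mp h3)

end geom

end Cfsg.Agent.Helper28.OrthInSp
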