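import Mathlib

set_option autoImplicit false
set_option linter.unusedSectionVars false

/-! A non-degenerate quadratic space of even dimension over a finite field admits a linear
self-map multiplying the form by `-1` (helper28). -/

namespace Cfsg.Agent.Helper28.OrthNegSim

open QuadraticMap

variable {F : Type*} [Field F] [Fintype F]

theorem exists_block (h2 : (2 : F) ≠ 0) (α β : F) (hα : α ≠ 0) (hβ : β ≠ 0) :
    ∃ x y δ : F, α * δ + β = 0 ∧ α * x ^ 2 + β * y ^ 2 + α = 0 ∧ x ^ 2 - δ * y ^ 2 + 1 = 0 := by
  have hc : ringChar F ≠ 2 := by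
    intro h
    apply h2
    have := ringChar.Nat.cast_ringChar (R := F)
    rw [h] at this
    exact_mod_cast this
  have hodd := FiniteField.odd_card_of_char_ne_two hc
  obtain ⟨x, y, hxy⟩ := FiniteField.exists_root_sum_quadratic
    (f := Polynomial.C α * Polynomial.X ^ 2 + Polynomial.C 0 * Polynomial.X + Polynomial.C α)
    (g := Polynomial.C β * Polynomial.X ^ 2 + Polynomial.C 0 * Polynomial.X + Polynomial.C 0)
    (Polynomial.degree_quadratic hα) (Polynomial.degree_quadratic hβ) hodd
  simp only [Polynomial.eval_add, Polynomial.eval_mul, Polynomial.eval_C, Polynomial.eval_pow,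
    Polynomial.eval_X, zero_mul, add_zero] at hxy
  refine ⟨x, y, -β / α, ?_, ?_, ?_⟩
  · field_simp
    ring
  · linear_combination hxy
  · have : α * (x ^ 2 - -β / α * y ^ 2 + 1) = 0 := by
      field_simp
      linear_combination hxy
    rcases mul_eq_zero.mp this with h | h
    · exact absurd h hα
    · exact h

theorem exists_neg_sim_odd {V' : Type*} [AddCommGroup V'] [Module F V'] [FiniteDimensional F V']
    (h2 : (2 : F) ≠ 0) (Q : QuadraticForm F V')
    (hnd : ∀ v, (∀ v', polar Q v v' = 0) → v = 0)
    (hev : Even (Module.finrank F V')) : ∃ σ : V' →ₗ[F] V', ∀ v, Q (σ v) = - Q v := by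
  classical
  haveI : Invertible (2 : F) := invertibleOfNonzero h2
  obtain ⟨v, hv⟩ := LinearMap.BilinForm.exists_orthogonal_basis
    (B := associated (R := F) Q) ⟨QuadraticMap.associated_isSymm F Q⟩
  obtain ⟨m, hm⟩ := hev
  let e : Fin (Module.finrank F V') ≃ Fin m ⊕ Fin m := (finCongr hm).trans finSumFinEquiv.symm
  let b := v.reindex e
  have hb : LinearMap.IsOrthoᵢ (associated (R := F) Q) b := by
    intro i j hij
    show LinearMap.IsOrtho _ (b i) (b j)
    simp only [b, Module.Basis.reindex_apply]
    exact hv (fun h => hij (e.symm.injective h))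
  have hrepr := QuadraticMap.basisRepr_eq_of_iIsOrtho Q b hb
  have hN : ∀ ξ : Fin m ⊕ Fin m → F, Q (b.equivFun.symm ξ) = ∑ i, Q (b i) * (ξ i * ξ i) := by
    intro ξ
    rw [Module.Basis.equivFun_symm_apply, ← basisRepr_apply, hrepr, weightedSumSquares_apply]
    simp only [smul_eq_mul]
  have hpol : ∀ i j, i ≠ j → polar Q (b i) (b j) = 0 := by
    intro i j hij
    have h1 : (associated (R := F) Q) (b i) (b j) = 0 := hb hij
    have h3 : polarBilin Q (b i) (b j) = 2 • (associated (R := F) Q) (b i) (b j) := by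
      rw [← QuadraticMap.two_nsmul_associated F Q]
      rfl
    rw [h1, smul_zero] at h3
    exact h3
  have hα : ∀ i, Q (b i) ≠ 0 := by
    intro i h0
    apply b.ne_zero i
    apply hnd
    intro v'
    have : polarBilin Q (b i) = 0 := by
      apply b.ext
      intro j
      by_cases hij : i = j
      · subst hij
        show polar Q (b i) (b i) = 0
        rw [polar_self, h0, smul_zero]
      · exact hpol i j hij
    have h4 : polarBilin Q (b i) v' = 0 := by rw [this]; rfl
    exact h4
  choose x y δ h1 h2' h3 using fun j : Fin m =>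
    exists_block h2 (Q (b (Sum.inl j))) (Q (b (Sum.inr j))) (hα _) (hα _)
  let M : (Fin m ⊕ Fin m → F) →ₗ[F] (Fin m ⊕ Fin m → F) :=
    { toFun := fun ξ => Sum.elim
        (fun j => x j * ξ (Sum.inl j) + δ j * y j * ξ (Sum.inr j))
        (fun j => y j * ξ (Sum.inl j) + x j * ξ (Sum.inr j))
      map_add' := by
        intro a c
        ext (j | j)
        · simp only [Sum.elim_inl, Pi.add_apply]; ring
        · simp only [Sum.elim_inr, Pi.add_apply]; ring
      map_smul' := by
        intro r a
        ext (j | j)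
        · simp only [Sum.elim_inl, Pi.smul_apply, smul_eq_mul, RingHom.id_apply]; ring
        · simp only [Sum.elim_inr, Pi.smul_apply, smul_eq_mul, RingHom.id_apply]; ring }
  refine ⟨b.equivFun.symm.toLinearMap ∘ₗ M ∘ₗ b.equivFun.toLinearMap, fun w => ?_⟩
  have hw : Q w = Q (b.equivFun.symm (b.equivFun w)) := by rw [LinearEquiv.symm_apply_apply]
  rw [hw]
  simp only [LinearMap.comp_apply, LinearEquiv.coe_coe]
  rw [hN, hN, Fintype.sum_sum_type, Fintype.sum_sum_type, ← Finset.sum_add_distrib,
    ← Finset.sum_add_distrib, ← Finset.sum_neg_distrib]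
  apply Finset.sum_congr rfl
  intro j _
  show Q (b (Sum.inl j)) * ((x j * _ + δ j * y j * _) * (x j * _ + δ j * y j * _)) +
    Q (b (Sum.inr j)) * ((y j * _ + x j * _) * (y j * _ + x j * _)) = _
  generalize b.equivFun w (Sum.inl j) = a
  generalize b.equivFun w (Sum.inr j) = c
  linear_combination (a ^ 2) * h2' j + (2 * x j * y j * a * c + c ^ 2 * δ j * (y j) ^ 2) * h1 j +
    (c ^ 2 * Q (b (Sum.inr j))) * h3 j

theorem exists_neg_sim {V' : Type*} [AddCommGroup V'] [Module F V'] [FiniteDimensional F V']
    (Q : QuadraticForm F V')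
    (hnd : ∀ v, (∀ v', polar Q v v' = 0) → v = 0)
    (hev : Even (Module.finrank F V')) : ∃ σ : V' →ₗ[F] V', ∀ v, Q (σ v) = - Q v := by
  by_cases h2 : (2 : F) = 0
  · refine ⟨LinearMap.id, fun v => ?_⟩
    rw [LinearMap.id_apply, eq_neg_iff_add_eq_zero, ← two_mul, h2, zero_mul]
  · exact exists_neg_sim_odd h2 Q hnd hev

end Cfsg.Agent.Helper28.OrthNegSim
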