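import Mathlib
import Cfsg.Agent.Lib.Helper28.OrthRoot
import Cfsg.Agent.Lib.Helper13.Hyperbolic

set_option autoImplicit false
set_option linter.unusedSectionVars false

/-! The maximality of stabilisers of totally singular subspaces in `Ω` for a quadratic form given
as a function on an even-dimensional space. -/

namespace Cfsg.Agent.Helper28.OrthRootEven

open QuadraticMap Matrix Cfsg.Agent.Helper2.Orth Cfsg.Agent.Helper28.OrthRoot
  Cfsg.Agent.Helper17.OmegaElts

variable {F : Type*} [Field F] [Fintype F] {n : ℕ}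

/-- in even dimension at least six, `Ω` is generated by the Eichler transformations -/
theorem omega_eq_eich_even (Q : QuadraticForm F (Fin n → F)) (hQ : (polarBilin Q).Nondegenerate)
    (hn : 6 ≤ n) (heven : Even n) : Cfsg.Omega F (⇑Q) = eichGroup Q := by
  obtain ⟨k, hk⟩ : ∃ k, n = 2 * k + 2 := by
    obtain ⟨r, hr⟩ := heven
    exact ⟨r - 1, by omega⟩
  have hfin : Module.finrank F (Fin n → F) = 2 * k + 2 := by
    rw [Module.finrank_fintype_fun_eq_card, Fintype.card_fin, hk]
  obtain ⟨e, f, x, y, hfam, -⟩ := Cfsg.Agent.Helper13.hyp_decomp k (Fin n → F) Q hQ hfin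
  have hk2 : 2 ≤ k := by omega
  have fr : HypFrame Q (e ∘ Fin.castLE hk2) (f ∘ Fin.castLE hk2) := by
    refine ⟨fun i => (hfam.1 _).1, fun i => (hfam.1 _).2, fun i j => (hfam.2.2 _ _).1,
      fun i j => (hfam.2.2 _ _).2, fun i j => ?_⟩
    simp only [Function.comp_apply, hfam.2.1, (Fin.castLE_injective hk2).eq_iff]
  have hex : Fintype.card F ≠ 2 ∨ Fintype.card (Fin n) ≠ 4 := by
    right
    rw [Fintype.card_fin]
    omega
  exact Omega_eq_eichGroup hQ hex fr

end Cfsg.Agent.Helper28.OrthRootEven
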