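import Mathlib
import Cfsg.Agent.Lib.Helper28.OrthRootEven

set_option autoImplicit false
set_option linter.unusedSectionVars false

/-! Characteristic two: the stabiliser in `Ω` of a non-singular point is maximal. -/

namespace Cfsg.Agent.Helper28.OrthNonsingPt

open QuadraticMap Matrix Cfsg.Agent.Helper28.Siegel Cfsg.Agent.Helper28.WittQuad
  Cfsg.Agent.Helper17.Spinor Cfsg.Agent.Helper2.Orth Cfsg.Agent.Helper28.OrthRoot

variable {F : Type*} [Field F] [Fintype F] {ι : Type} [Fintype ι] [DecidableEq ι]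
  {Q : QuadraticForm F (ι → F)}

theorem exists_mem_not_mem_of_finrank_lt (A B : Submodule F (ι → F))
    (h : Module.finrank F B < Module.finrank F A) : ∃ u ∈ A, u ∉ B := by
  by_contra hcon
  push Not at hcon
  have := Submodule.finrank_mono (show A ≤ B from hcon)
  omega

theorem finrank_span_pair_le (x y : ι → F) :
    Module.finrank F (Submodule.span F ({x, y} : Set (ι → F))) ≤ 2 := by
  classical
  have := finrank_span_finset_le_card (R := F) ({x, y} : Finset (ι → F))
  have h2 : ({x, y} : Finset (ι → F)).card ≤ 2 := Finset.card_le_two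
  rw [Finset.coe_insert, Finset.coe_singleton] at this
  exact this.trans h2

theorem finrank_span_singleton_le' (x : ι → F) :
    Module.finrank F (Submodule.span F ({x} : Set (ι → F))) ≤ 1 := by
  classical
  have := finrank_span_finset_le_card (R := F) ({x} : Finset (ι → F))
  rw [Finset.coe_singleton, Finset.card_singleton] at this
  exact this

section char2

variable (hQ : (polarBilin Q).Nondegenerate) (h2 : (2 : F) = 0)

include hQ h2 in
/-- a singular vector orthogonal to two given vectors and outside their span -/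
theorem exists_sing_perp_pair (hn : 7 ≤ Fintype.card ι) (v v' : ι → F) :
    ∃ z, Q z = 0 ∧ polar Q z v = 0 ∧ polar Q z v' = 0 ∧
      z ∉ Submodule.span F ({v, v'} : Set (ι → F)) := by
  have hP := finrank_span_pair_le (F := F) v v'
  have hfr := LinearMap.BilinForm.finrank_orthogonal hQ (Submodule.span F ({v, v'} : Set (ι → F)))
  rw [Module.finrank_fintype_fun_eq_card] at hfr
  obtain ⟨u, huo, huP⟩ := exists_mem_not_mem_of_finrank_lt
    (LinearMap.BilinForm.orthogonal (polarBilin Q) (Submodule.span F ({v, v'} : Set (ι → F))))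
    (Submodule.span F ({v, v'} : Set (ι → F))) (by omega)
  have huo' := (mem_orthogonal_iff' Q _ u).1 huo
  have huv : polar Q u v = 0 := by
    rw [polar_comm]
    exact huo' v (Submodule.subset_span (by simp))
  have huv' : polar Q u v' = 0 := by
    rw [polar_comm]
    exact huo' v' (Submodule.subset_span (by simp))
  by_cases hu : Q u = 0
  · exact ⟨u, hu, huv, huv', huP⟩
  have hP1 : Module.finrank F ↥(Submodule.span F ({v, v'} : Set (ι → F)) ⊔ Submodule.span F {u}) ≤
      3 := by
    have := Submodule.finrank_add_le_finrank_add_finrank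
      (Submodule.span F ({v, v'} : Set (ι → F))) (Submodule.span F {u})
    have := finrank_span_singleton_le' (F := F) u
    omega
  have hfr1 := LinearMap.BilinForm.finrank_orthogonal hQ
    (Submodule.span F ({v, v'} : Set (ι → F)) ⊔ Submodule.span F {u})
  rw [Module.finrank_fintype_fun_eq_card] at hfr1
  obtain ⟨w, hwo, hwP⟩ := exists_mem_not_mem_of_finrank_lt
    (LinearMap.BilinForm.orthogonal (polarBilin Q)
      (Submodule.span F ({v, v'} : Set (ι → F)) ⊔ Submodule.span F {u}))
    (Submodule.span F ({v, v'} : Set (ι → F)) ⊔ Submodule.span F {u}) (by omega)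
  have hwo' := (mem_orthogonal_iff' Q _ w).1 hwo
  have hwv : polar Q w v = 0 := by
    rw [polar_comm]
    exact hwo' v (Submodule.mem_sup_left (Submodule.subset_span (by simp)))
  have hwv' : polar Q w v' = 0 := by
    rw [polar_comm]
    exact hwo' v' (Submodule.mem_sup_left (Submodule.subset_span (by simp)))
  have huw : polar Q u w = 0 :=
    hwo' u (Submodule.mem_sup_right (Submodule.mem_span_singleton_self u))
  have hchar : ringChar F = 2 :=
    CharP.ringChar_of_prime_eq_zero Nat.prime_two (by exact_mod_cast h2)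
  obtain ⟨x, hx⟩ := FiniteField.isSquare_of_char_two hchar (Q w / Q u)
  refine ⟨x • u + w, ?_, ?_, ?_, ?_⟩
  · rw [Q_add' Q, QuadraticMap.map_smul, polar_smul_left, huw, smul_zero, add_zero, smul_eq_mul,
      ← hx, div_mul_cancel₀ _ hu]
    linear_combination (Q w) * h2
  · rw [polar_add_left, polar_smul_left, huv, hwv, smul_zero, add_zero]
  · rw [polar_add_left, polar_smul_left, huv', hwv', smul_zero, add_zero]
  · intro hmem
    apply hwP
    have : w = (x • u + w) - x • u := by abel
    rw [this]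
    exact Submodule.sub_mem _ (Submodule.mem_sup_left hmem)
      (Submodule.mem_sup_right (Submodule.smul_mem _ _ (Submodule.mem_span_singleton_self u)))

include h2 in
/-- an isometry stabilising a non-singular point fixes its vectors -/
theorem smul_eq_of_mem_stabG (v : ι → F) (hv : Q v ≠ 0) (g : Cfsg.isometryGroup F (⇑Q))
    (hg : g ∈ StabG Q (Submodule.span F {v})) : g • v = v := by
  have h1 := ((mem_stabG_iff _ g).mp hg v).mp (Submodule.mem_span_singleton_self v)
  obtain ⟨c, hc⟩ := Submodule.mem_span_singleton.mp h1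
  have h3 : Q (g • v) = Q v := Q_smul Q g v
  rw [← hc, QuadraticMap.map_smul, smul_eq_mul] at h3
  have h4 : c * c = 1 := by
    have : (c * c - 1) * Q v = 0 := by linear_combination h3
    rcases mul_eq_zero.mp this with h | h
    · linear_combination h
    · exact absurd h hv
  have h5 : (c + 1) * (c + 1) = 0 := by linear_combination h4 + (c + 1) * h2
  have h6 : c = 1 := by
    have := mul_self_eq_zero.mp h5
    linear_combination this - h2
  rw [← hc, h6, one_smul]

theorem mem_stabG_of_smul_eq (v : ι → F) (g : Cfsg.isometryGroup F (⇑Q)) (hg : g • v = v) :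
    g ∈ StabG Q (Submodule.span F {v}) := by
  apply mem_stabG_of_maps
  intro x hx
  obtain ⟨c, rfl⟩ := Submodule.mem_span_singleton.mp hx
  rw [smul_smul' Q, hg]
  exact Submodule.smul_mem _ _ (Submodule.mem_span_singleton_self v)

theorem eichG_fix {z b v : ι → F} (hz : Q z = 0) (hzb : polar Q z b = 0) (hzv : polar Q z v = 0)
    (hbv : polar Q b v = 0) : eichG Q z b • v = v := by
  rw [eichG_smul hz hzb, eich_apply, hzv, hbv]
  simp

end char2

section top

variable (hQ : (polarBilin Q).Nondegenerate) (h2 : (2 : F) = 0)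
  (hΩ : Cfsg.Omega F (⇑Q) = eichGroup Q) (wi : ℕ)
  (hwi : ∀ U : Submodule F (ι → F), (∀ u ∈ U, Q u = 0) → Module.finrank F U ≤ wi)

include hQ h2 hΩ hwi in
/-- a subgroup of `Ω` properly containing the stabiliser of a non-singular point is `Ω` -/
theorem nonsing_top (hn : 7 ≤ Fintype.card ι) (hwi2 : wi + 2 < Fintype.card ι)
    (v : ι → F) (hv : Q v ≠ 0) (M : Subgroup (Cfsg.isometryGroup F (⇑Q)))
    (hHM : StabG Q (Submodule.span F {v}) ⊓ Cfsg.Omega F (⇑Q) ≤ M)
    (hMΩ : M ≤ Cfsg.Omega F (⇑Q))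
    (hM : M ≠ StabG Q (Submodule.span F {v}) ⊓ Cfsg.Omega F (⇑Q)) :
    M = Cfsg.Omega F (⇑Q) := by
  -- an element of `M` moving `v`
  obtain ⟨g, hgM, hgS⟩ : ∃ g ∈ M, g ∉ StabG Q (Submodule.span F {v}) := by
    by_contra hcon
    push Not at hcon
    exact hM (le_antisymm (fun x hx => ⟨hcon x hx, hMΩ hx⟩) hHM)
  have hgv : g • v ≠ v := fun h => hgS (mem_stabG_of_smul_eq v g h)
  obtain ⟨v', hv'def⟩ : ∃ v', v' = g • v := ⟨_, rfl⟩
  have hQv' : Q v' = Q v := by rw [hv'def, Q_smul Q]
  have hvv' : v ∉ Submodule.span F {v'} := by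
    intro hmem
    obtain ⟨c, hc⟩ := Submodule.mem_span_singleton.mp hmem
    have h3 : Q v = Q (c • v') := by rw [hc]
    rw [QuadraticMap.map_smul, smul_eq_mul, hQv'] at h3
    have h4 : c * c = 1 := by
      have : (c * c - 1) * Q v = 0 := by linear_combination -h3
      rcases mul_eq_zero.mp this with h | h
      · linear_combination h
      · exact absurd h hv
    have h5 : (c + 1) * (c + 1) = 0 := by linear_combination h4 + (c + 1) * h2
    have h6 : c = 1 := by
      have := mul_self_eq_zero.mp h5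
      linear_combination this - h2
    rw [h6, one_smul] at hc
    exact hgv (by rw [← hv'def, hc])
  -- root elements centred and directed orthogonally to `v'` lie in `M`
  have hE' : ∀ z b : ι → F, Q z = 0 → polar Q z b = 0 → polar Q z v' = 0 → polar Q b v' = 0 →
      eichG Q z b ∈ M := by
    intro z b hz hzb hzv' hbv'
    have hz₀ : Q (g⁻¹ • z) = 0 := by rw [Q_smul Q, hz]
    have hzb₀ : polar Q (g⁻¹ • z) (g⁻¹ • b) = 0 := by rw [polar_smul_smul Q, hzb]
    have hvinv : g⁻¹ • v' = v := by rw [hv'def, inv_smul_smul]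
    have hzv₀ : polar Q (g⁻¹ • z) v = 0 := by rw [← hvinv, polar_smul_smul Q, hzv']
    have hbv₀ : polar Q (g⁻¹ • b) v = 0 := by rw [← hvinv, polar_smul_smul Q, hbv']
    have hin : eichG Q (g⁻¹ • z) (g⁻¹ • b) ∈ M := by
      apply hHM
      refine ⟨mem_stabG_of_smul_eq v _ (eichG_fix hz₀ hzb₀ hzv₀ hbv₀), ?_⟩
      rw [hΩ]
      exact eichG_mem hz₀ hzb₀
    have := eichG_conj g hz₀ hzb₀
    rw [smul_inv_smul, smul_inv_smul] at this
    rw [← this]
    exact M.mul_mem (M.mul_mem hgM hin) (M.inv_mem hgM)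
  -- first centre
  obtain ⟨z, hz, hzv, hzv', hzP⟩ := exists_sing_perp_pair hQ h2 hn v v'
  have hz0 : z ≠ 0 := by
    intro h
    rw [h] at hzP
    exact hzP (Submodule.zero_mem _)
  have hzR : z ∈ Rt M := by
    refine ⟨hz0, hz, fun b hzb => ?_⟩
    have hvK : v ∉ Submodule.span F ({z, v'} : Set (ι → F)) := by
      intro hmem
      obtain ⟨a, c, hac⟩ := Submodule.mem_span_pair.mp hmem
      by_cases ha : a = 0
      · rw [ha, zero_smul, zero_add] at hac
        exact hvv' (Submodule.mem_span_singleton.mpr ⟨c, hac⟩)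
      · apply hzP
        rw [Submodule.mem_span_pair]
        refine ⟨a⁻¹, -(a⁻¹ * c), ?_⟩
        rw [← hac, smul_add, smul_smul, smul_smul, inv_mul_cancel₀ ha, one_smul, neg_smul]
        abel
    obtain ⟨u₀, hu₀K, hu₀v⟩ := exists_perp_partner hQ _ hvK
    have hu₀z : polar Q u₀ z = 0 := hu₀K z (Submodule.subset_span (by simp))
    have hu₀v' : polar Q u₀ v' = 0 := hu₀K v' (Submodule.subset_span (by simp))
    obtain ⟨b₂, hb₂def⟩ : ∃ b₂, b₂ = polar Q b v • u₀ := ⟨_, rfl⟩
    obtain ⟨b₁, hb₁def⟩ : ∃ b₁, b₁ = b - b₂ := ⟨_, rfl⟩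
    have hzb₂ : polar Q z b₂ = 0 := by
      rw [hb₂def, polar_smul_right, polar_comm Q z u₀, hu₀z, smul_zero]
    have hzb₁ : polar Q z b₁ = 0 := by
      rw [hb₁def, polar_sub_right, hzb, hzb₂, sub_zero]
    have hb₁v : polar Q b₁ v = 0 := by
      rw [hb₁def, polar_sub_left, hb₂def, polar_smul_left, hu₀v, smul_eq_mul, mul_one, sub_self]
    have hb₂v' : polar Q b₂ v' = 0 := by
      rw [hb₂def, polar_smul_left, hu₀v', smul_zero]
    have hsum : b = b₁ + b₂ := by rw [hb₁def]; abel
    rw [hsum, ← eichG_mul hz hzb₁ hzb₂]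
    refine M.mul_mem (hHM ⟨mem_stabG_of_smul_eq v _ (eichG_fix hz hzb₁ hzv hb₁v), ?_⟩)
      (hE' z b₂ hz hzb₂ hzv' hb₂v')
    rw [hΩ]
    exact eichG_mem hz hzb₁
  -- second centre, not orthogonal to the first
  have hzv1 : z ∉ Submodule.span F {v} := by
    intro hmem
    apply hzP
    exact Submodule.span_mono (by simp) hmem
  obtain ⟨y₀, hy₀v, hy₀z⟩ := exists_perp_partner hQ _ hzv1
  obtain ⟨y, hydef⟩ : ∃ y, y = y₀ - Q y₀ • z := ⟨_, rfl⟩
  have hy : Q y = 0 := by
    rw [hydef, Q_sub_smul, hz, hy₀z]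
    ring
  have hyv : polar Q y v = 0 := by
    rw [hydef, polar_sub_left, polar_smul_left, hzv, hy₀v v (Submodule.mem_span_singleton_self v),
      smul_zero, sub_zero]
  have hyz : polar Q y z = 1 := by
    rw [hydef, polar_sub_left, polar_smul_left,
      Cfsg.Agent.Helper2.Orth.polar_self_of_singular Q hz, hy₀z, smul_zero, sub_zero]
  have hfr := LinearMap.BilinForm.finrank_orthogonal hQ (Submodule.span F ({y, v} : Set (ι → F)))
  have hP := finrank_span_pair_le (F := F) y v
  rw [Module.finrank_fintype_fun_eq_card] at hfr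
  obtain ⟨b', hb'mem, hb'⟩ := exists_nonsing_mem wi hwi
    (LinearMap.BilinForm.orthogonal (polarBilin Q) (Submodule.span F ({y, v} : Set (ι → F))))
    (by omega)
  have hb'o := (mem_orthogonal_iff' Q _ b').1 hb'mem
  have hyb' : polar Q y b' = 0 := hb'o y (Submodule.subset_span (by simp))
  have hb'v : polar Q b' v = 0 := by
    rw [polar_comm]
    exact hb'o v (Submodule.subset_span (by simp))
  have hhM : eichG Q y b' ∈ M := by
    apply hHM
    refine ⟨mem_stabG_of_smul_eq v _ (eichG_fix hy hyb' hyv hb'v), ?_⟩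
    rw [hΩ]
    exact eichG_mem hy hyb'
  have hz'R : eichG Q y b' • z ∈ Rt M := rt_smul M _ hhM z hzR
  have hzz' : polar Q z (eichG Q y b' • z) ≠ 0 := by
    rw [eichG_smul hy hyb', polar_eich_diag z hz, hyz, mul_one, mul_one]
    exact neg_ne_zero.mpr hb'
  apply le_antisymm hMΩ
  rw [hΩ]
  exact eichGroup_le M (fun x hx0 hx =>
    rt_all hQ (hdim_of_card (by omega)) M z _ hzR hz'R hzz' x hx0 hx)

include hQ h2 hΩ hwi in
/-- **maximality of the stabiliser of a non-singular point** in `Ω` (characteristic two) -/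
theorem maximal_nonsing (hn : 7 ≤ Fintype.card ι) (hwi2 : wi + 2 < Fintype.card ι)
    (v : ι → F) (hv : Q v ≠ 0) :
    Cfsg.Geo.IsMaximalIn (Cfsg.Geo.omegaGL (⇑Q))
      (Cfsg.Geo.subspaceStabilizer (Submodule.span F {v}) ⊓ Cfsg.Geo.omegaGL (⇑Q)) := by
  have hinj : Function.Injective (Cfsg.isometryGroup F (⇑Q)).subtype := Subtype.val_injective
  have h1 : Cfsg.Geo.subspaceStabilizer (Submodule.span F {v}) ⊓ Cfsg.Geo.omegaGL (⇑Q) =
      (StabG Q (Submodule.span F {v}) ⊓ Cfsg.Omega F (⇑Q)).map
        (Cfsg.isometryGroup F (⇑Q)).subtype := by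
    unfold Cfsg.Geo.omegaGL StabG
    exact inf_map_eq _ hinj _ _
  rw [h1]
  unfold Cfsg.Geo.omegaGL
  apply maximal_map _ hinj
  refine ⟨?_, fun M hHM hMΩ => ?_⟩
  · apply lt_of_le_of_ne inf_le_right
    intro heq
    obtain ⟨z₁, hz₁, hz₁v, -, hz₁P⟩ := exists_sing_perp_pair hQ h2 hn v v
    have hz₁0 : z₁ ≠ 0 := by
      intro h
      rw [h] at hz₁P
      exact hz₁P (Submodule.zero_mem _)
    have hvc : ∀ c : F, v ≠ c • z₁ := by
      intro c hc
      apply hv
      rw [hc, QuadraticMap.map_smul, hz₁, smul_zero]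
    obtain ⟨t, ht, htv⟩ := eich_move_orth hQ hz₁ hz₁v hvc
    rw [← hΩ, ← heq] at ht
    have := smul_eq_of_mem_stabG h2 v hv t ht.1
    rw [htv] at this
    exact hz₁0 (by simpa using this)
  · by_cases hM : M = StabG Q (Submodule.span F {v}) ⊓ Cfsg.Omega F (⇑Q)
    · left; exact hM
    · right
      exact nonsing_top hQ h2 hΩ wi hwi hn hwi2 v hv M hHM hMΩ hM

end top

end Cfsg.Agent.Helper28.OrthNonsingPt
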