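import Mathlib
import Cfsg.Agent.Lib.Helper28.OrthNonsingPt

set_option autoImplicit false
set_option linter.unusedSectionVars false

/-! The stabiliser in `Ω` of a non-degenerate subspace is maximal (helper28). -/

namespace Cfsg.Agent.Helper28.OrthNondeg

open QuadraticMap Matrix Cfsg.Agent.Helper28.Siegel Cfsg.Agent.Helper28.WittQuad
  Cfsg.Agent.Helper17.Spinor Cfsg.Agent.Helper2.Orth Cfsg.Agent.Helper28.OrthRoot
  Cfsg.Agent.Helper28.OrthNonsingPt Cfsg.Agent.Helper17.OmegaElts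

section chevalley

variable {F : Type*} [Field F] [Fintype F] {V : Type*} [AddCommGroup V] [Module F V]
  (Q : QuadraticForm F V)

theorem totalDegree_term (c : F) (i j : Fin 3) :
    (MvPolynomial.C c * MvPolynomial.X i * MvPolynomial.X j :
      MvPolynomial (Fin 3) F).totalDegree ≤ 2 := by
  calc _ ≤ (MvPolynomial.C c * MvPolynomial.X i : MvPolynomial (Fin 3) F).totalDegree +
        (MvPolynomial.X j : MvPolynomial (Fin 3) F).totalDegree := MvPolynomial.totalDegree_mul _ _
    _ ≤ ((MvPolynomial.C c : MvPolynomial (Fin 3) F).totalDegree +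
        (MvPolynomial.X i : MvPolynomial (Fin 3) F).totalDegree) +
        (MvPolynomial.X j : MvPolynomial (Fin 3) F).totalDegree := by
      gcongr
      exact MvPolynomial.totalDegree_mul _ _
    _ = 2 := by rw [MvPolynomial.totalDegree_C, MvPolynomial.totalDegree_X,
        MvPolynomial.totalDegree_X]

/-- three independent vectors span a non-zero singular vector (Chevalley–Warning) -/
theorem exists_sing_of_three (a0 a1 a2 : V)
    (hli : ∀ x0 x1 x2 : F, x0 • a0 + (x1 • a1 + x2 • a2) = 0 → x0 = 0 ∧ x1 = 0 ∧ x2 = 0) :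
    ∃ x0 x1 x2 : F, x0 • a0 + (x1 • a1 + x2 • a2) ≠ 0 ∧
      Q (x0 • a0 + (x1 • a1 + x2 • a2)) = 0 := by
  classical
  let t : F → Fin 3 → Fin 3 → MvPolynomial (Fin 3) F :=
    fun c i j => MvPolynomial.C c * MvPolynomial.X i * MvPolynomial.X j
  let f : MvPolynomial (Fin 3) F :=
    t (Q a0) 0 0 + t (Q a1) 1 1 + t (Q a2) 2 2 + t (polar Q a1 a2) 1 2 + t (polar Q a0 a1) 0 1 +
      t (polar Q a0 a2) 0 2
  have hdeg : f.totalDegree < Fintype.card (Fin 3) := by
    rw [Fintype.card_fin]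
    have h2 : f.totalDegree ≤ 2 := by
      refine (MvPolynomial.totalDegree_add _ _).trans (max_le ?_ (totalDegree_term _ _ _))
      refine (MvPolynomial.totalDegree_add _ _).trans (max_le ?_ (totalDegree_term _ _ _))
      refine (MvPolynomial.totalDegree_add _ _).trans (max_le ?_ (totalDegree_term _ _ _))
      refine (MvPolynomial.totalDegree_add _ _).trans (max_le ?_ (totalDegree_term _ _ _))
      exact (MvPolynomial.totalDegree_add _ _).trans
        (max_le (totalDegree_term _ _ _) (totalDegree_term _ _ _))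
    omega
  have heval : ∀ x : Fin 3 → F, MvPolynomial.eval x f =
      Q (x 0 • a0 + (x 1 • a1 + x 2 • a2)) := by
    intro x
    rw [Q_lin3, QuadraticMap.map_smul, polar_smul_left, polar_smul_left]
    simp only [f, t, map_add, map_mul, MvPolynomial.eval_C, MvPolynomial.eval_X, smul_eq_mul]
    ring
  haveI : CharP F (ringChar F) := ringChar.charP F
  have hp : (ringChar F).Prime := CharP.char_is_prime F (ringChar F)
  have hdvd := char_dvd_card_solutions (ringChar F) hdeg
  have h0 : MvPolynomial.eval (0 : Fin 3 → F) f = 0 := by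
    rw [heval]
    simp
  have hcard : 1 < Fintype.card {x : Fin 3 → F // MvPolynomial.eval x f = 0} := by
    have hpos : 0 < Fintype.card {x : Fin 3 → F // MvPolynomial.eval x f = 0} :=
      Fintype.card_pos_iff.mpr ⟨⟨0, h0⟩⟩
    have := Nat.le_of_dvd hpos hdvd
    have := hp.two_le
    omega
  obtain ⟨⟨x, hx⟩, hne⟩ := Fintype.exists_ne_of_one_lt_card hcard ⟨0, h0⟩
  refine ⟨x 0, x 1, x 2, ?_, ?_⟩
  · intro hzero
    obtain ⟨e0, e1, e2⟩ := hli _ _ _ hzero
    apply hne
    apply Subtype.ext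
    funext i
    fin_cases i
    · exact e0
    · exact e1
    · exact e2
  · rw [← heval]
    exact hx

/-- a subspace of dimension at least three contains a non-zero singular vector -/
theorem exists_sing_in (A : Submodule F V) (hA : 3 ≤ Module.finrank F A) :
    ∃ s ∈ A, s ≠ 0 ∧ Q s = 0 := by
  have : Module.Finite F A := Module.finite_of_finrank_pos (by omega)
  let b := Module.finBasis F A
  have hli := b.linearIndependent
  let e : Fin 3 → Fin (Module.finrank F A) := Fin.castLE hA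
  have hinj : Function.Injective e := Fin.castLE_injective hA
  have hli3 : LinearIndependent F (fun i : Fin 3 => ((b (e i) : A) : V)) := by
    have h1 : LinearIndependent F (fun i : Fin 3 => b (e i)) := hli.comp e hinj
    exact h1.map' A.subtype (Submodule.ker_subtype A)
  rw [Fintype.linearIndependent_iff] at hli3
  obtain ⟨x0, x1, x2, hne, hQ⟩ := exists_sing_of_three Q ((b (e 0) : A) : V) ((b (e 1) : A) : V)
    ((b (e 2) : A) : V) (by
      intro x0 x1 x2 h
      have := hli3 ![x0, x1, x2] (by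
        rw [Fin.sum_univ_three]
        simp only [Matrix.cons_val_zero, Matrix.cons_val_one, Matrix.cons_val_two,
          Matrix.head_cons, Matrix.tail_cons]
        rw [add_assoc]
        exact h)
      exact ⟨this 0, this 1, this 2⟩)
  refine ⟨_, ?_, hne, hQ⟩
  exact A.add_mem (A.smul_mem _ (b (e 0)).2)
    (A.add_mem (A.smul_mem _ (b (e 1)).2) (A.smul_mem _ (b (e 2)).2))

end chevalley

section decomp

variable {F : Type*} [Field F] [Fintype F] {ι : Type} [Fintype ι] [DecidableEq ι]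
  {Q : QuadraticForm F (ι → F)} (hQ : (polarBilin Q).Nondegenerate)
  (W U : Submodule F (ι → F))
  (hWU : ∀ w ∈ W, ∀ u ∈ U, polar Q w u = 0)
  (hdec : ∀ v : ι → F, ∃ w ∈ W, ∃ u ∈ U, v = w + u)

include hQ hWU hdec in
theorem nondeg_left (w : ι → F) (hw : w ∈ W) (h : ∀ w' ∈ W, polar Q w w' = 0) : w = 0 := by
  apply hQ.1
  intro v
  show polar Q w v = 0
  obtain ⟨w', hw', u, hu, rfl⟩ := hdec v
  rw [polar_add_right, h w' hw', hWU w hw u hu, add_zero]

include hQ hWU hdec in
theorem nondeg_right (u : ι → F) (hu : u ∈ U) (h : ∀ u' ∈ U, polar Q u u' = 0) : u = 0 := by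
  apply hQ.1
  intro v
  show polar Q u v = 0
  obtain ⟨w', hw', u', hu', rfl⟩ := hdec v
  rw [polar_add_right, h u' hu', polar_comm, hWU w' hw' u hu, zero_add]

include hQ hWU hdec in
theorem mem_right_of_perp (x : ι → F) (h : ∀ w ∈ W, polar Q x w = 0) : x ∈ U := by
  obtain ⟨w, hw, u, hu, rfl⟩ := hdec x
  have : w = 0 := by
    apply nondeg_left hQ W U hWU hdec w hw
    intro w' hw'
    have := h w' hw'
    rw [polar_add_left, polar_comm Q u w', hWU w' hw' u hu, add_zero] at this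
    exact this
  rw [this, zero_add]
  exact hu

include hQ hWU hdec in
theorem mem_left_of_perp (x : ι → F) (h : ∀ u ∈ U, polar Q x u = 0) : x ∈ W := by
  obtain ⟨w, hw, u, hu, rfl⟩ := hdec x
  have : u = 0 := by
    apply nondeg_right hQ W U hWU hdec u hu
    intro u' hu'
    have := h u' hu'
    rw [polar_add_left, hWU w hw u' hu', zero_add] at this
    exact this
  rw [this, add_zero]
  exact hw

include hQ hWU hdec in
theorem inter_eq_zero (x : ι → F) (hW : x ∈ W) (hU : x ∈ U) : x = 0 :=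
  nondeg_left hQ W U hWU hdec x hW (fun w' hw' => by rw [polar_comm]; exact hWU w' hw' x hU)

include hQ hWU hdec in
theorem stab_right_of_left (g : Cfsg.isometryGroup F (⇑Q)) (hg : g ∈ StabG Q W) :
    g ∈ StabG Q U := by
  apply mem_stabG_of_maps
  intro u hu
  apply mem_right_of_perp hQ W U hWU hdec
  intro w hw
  have hinv : g⁻¹ ∈ StabG Q W := (StabG Q W).inv_mem hg
  have h1 : g⁻¹ • w ∈ W := ((mem_stabG_iff W g⁻¹).mp hinv w).mp hw
  have h2 : polar Q (g • u) (g • (g⁻¹ • w)) = polar Q u (g⁻¹ • w) := polar_smul_smul Q g _ _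
  rw [smul_inv_smul] at h2
  rw [h2, polar_comm]
  exact hWU _ h1 u hu

include hQ hWU hdec in
theorem stab_left_of_right (g : Cfsg.isometryGroup F (⇑Q)) (hg : g ∈ StabG Q U) :
    g ∈ StabG Q W := by
  apply mem_stabG_of_maps
  intro w hw
  apply mem_left_of_perp hQ W U hWU hdec
  intro u hu
  have hinv : g⁻¹ ∈ StabG Q U := (StabG Q U).inv_mem hg
  have h1 : g⁻¹ • u ∈ U := ((mem_stabG_iff U g⁻¹).mp hinv u).mp hu
  have h2 : polar Q (g • w) (g • (g⁻¹ • u)) = polar Q w (g⁻¹ • u) := polar_smul_smul Q g _ _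
  rw [smul_inv_smul] at h2
  rw [h2]
  exact hWU w hw _ h1

/-- a singular partner inside a subspace -/
theorem exists_partner (A : Submodule F (ι → F)) {s x : ι → F} (hs : Q s = 0) (hsA : s ∈ A)
    (hxA : x ∈ A) (hx : polar Q s x ≠ 0) : ∃ s' ∈ A, Q s' = 0 ∧ polar Q s s' = 1 := by
  obtain ⟨x', hx'def⟩ : ∃ x', x' = (polar Q s x)⁻¹ • x := ⟨_, rfl⟩
  have hx'A : x' ∈ A := by rw [hx'def]; exact A.smul_mem _ hxA
  have hsx' : polar Q s x' = 1 := by
    rw [hx'def, polar_smul_right, smul_eq_mul, inv_mul_cancel₀ hx]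
  refine ⟨x' - Q x' • s, A.sub_mem hx'A (A.smul_mem _ hsA), Q_singularize Q hs hsx', ?_⟩
  rw [polar_sub_right, polar_smul_right, Cfsg.Agent.Helper2.Orth.polar_self_of_singular Q hs,
    hsx', smul_zero, sub_zero]

include hQ in
/-- a non-zero singular vector of a large subspace orthogonal to two given vectors -/
theorem exists_sing_perp_in (A : Submodule F (ι → F)) (hA : 5 ≤ Module.finrank F A)
    (x y : ι → F) : ∃ s ∈ A, s ≠ 0 ∧ Q s = 0 ∧ polar Q x s = 0 ∧ polar Q y s = 0 := by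
  have hP := finrank_span_pair_le (F := F) x y
  have hfr := LinearMap.BilinForm.finrank_orthogonal hQ (Submodule.span F ({x, y} : Set (ι → F)))
  rw [Module.finrank_fintype_fun_eq_card] at hfr
  have h1 := Submodule.finrank_sup_add_finrank_inf_eq A
    (LinearMap.BilinForm.orthogonal (polarBilin Q) (Submodule.span F ({x, y} : Set (ι → F))))
  have h2 := Submodule.finrank_le (A ⊔
    (LinearMap.BilinForm.orthogonal (polarBilin Q) (Submodule.span F ({x, y} : Set (ι → F)))))
  rw [Module.finrank_fintype_fun_eq_card] at h2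
  obtain ⟨s, hs, hs0, hQs⟩ := exists_sing_in Q (A ⊓
    (LinearMap.BilinForm.orthogonal (polarBilin Q) (Submodule.span F ({x, y} : Set (ι → F)))))
    (by omega)
  have hso := (mem_orthogonal_iff' Q _ s).1 hs.2
  exact ⟨s, hs.1, hs0, hQs, hso x (Submodule.subset_span (by simp)),
    hso y (Submodule.subset_span (by simp))⟩

include hQ hWU hdec in
/-- two orthogonal hyperbolic pairs in the large summand, the first one with a given vector -/
theorem exists_frame (hU : 5 ≤ Module.finrank F U) {z : ι → F} (hzU : z ∈ U) (hz0 : z ≠ 0)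
    (hz : Q z = 0) : ∃ z' z₂ z₂', z' ∈ U ∧ z₂ ∈ U ∧ z₂' ∈ U ∧ Q z' = 0 ∧ Q z₂ = 0 ∧ Q z₂' = 0 ∧
      polar Q z z' = 1 ∧ polar Q z₂ z₂' = 1 ∧ polar Q z z₂ = 0 ∧ polar Q z z₂' = 0 ∧
      polar Q z' z₂ = 0 ∧ polar Q z' z₂' = 0 := by
  have hx : ∃ x ∈ U, polar Q z x ≠ 0 := by
    by_contra hcon
    push Not at hcon
    exact hz0 (nondeg_right hQ W U hWU hdec z hzU hcon)
  obtain ⟨x, hxU, hzx⟩ := hx
  obtain ⟨z', hz'U, hz', hzz'⟩ := exists_partner U hz hzU hxU hzx
  obtain ⟨z₂, hz₂U, hz₂0, hz₂, hzz₂, hz'z₂⟩ := exists_sing_perp_in hQ U hU z z'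
  have hy : ∃ y ∈ U, polar Q z₂ y ≠ 0 := by
    by_contra hcon
    push Not at hcon
    exact hz₂0 (nondeg_right hQ W U hWU hdec z₂ hz₂U hcon)
  obtain ⟨y, hyU, hz₂y⟩ := hy
  -- project `y` to the complement of the first pair
  let A : Submodule F (ι → F) :=
    U ⊓ (LinearMap.ker (polarBilin Q z) ⊓ LinearMap.ker (polarBilin Q z'))
  have hmemA : ∀ v, v ∈ A ↔ v ∈ U ∧ polar Q z v = 0 ∧ polar Q z' v = 0 := by
    intro v
    exact Iff.rfl
  have hz'z : polar Q z' z = 1 := by rw [polar_comm]; exact hzz'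
  have hzz := Cfsg.Agent.Helper2.Orth.polar_self_of_singular Q hz
  have hz'z' := Cfsg.Agent.Helper2.Orth.polar_self_of_singular Q hz'
  obtain ⟨y', hy'def⟩ : ∃ y', y' = y - polar Q z' y • z - polar Q z y • z' := ⟨_, rfl⟩
  have hy'A : y' ∈ A := by
    rw [hmemA]
    refine ⟨?_, ?_, ?_⟩
    · rw [hy'def]
      exact U.sub_mem (U.sub_mem hyU (U.smul_mem _ hzU)) (U.smul_mem _ hz'U)
    · rw [hy'def, polar_sub_right, polar_sub_right, polar_smul_right, polar_smul_right, hzz, hzz',
        smul_zero, sub_zero, smul_eq_mul, mul_one, sub_self]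
    · rw [hy'def, polar_sub_right, polar_sub_right, polar_smul_right, polar_smul_right, hz'z,
        hz'z', smul_zero, smul_eq_mul, mul_one, sub_zero, sub_self]
  have hz₂A : z₂ ∈ A := (hmemA z₂).mpr ⟨hz₂U, hzz₂, hz'z₂⟩
  have hz₂y' : polar Q z₂ y' ≠ 0 := by
    rw [hy'def, polar_sub_right, polar_sub_right, polar_smul_right, polar_smul_right,
      polar_comm Q z₂ z, polar_comm Q z₂ z', hzz₂, hz'z₂, smul_zero, smul_zero, sub_zero, sub_zero]
    exact hz₂y
  obtain ⟨z₂', hz₂'A, hz₂', hz₂z₂'⟩ := exists_partner A hz₂ hz₂A hy'A hz₂y'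
  obtain ⟨h1, h2, h3⟩ := (hmemA z₂').mp hz₂'A
  exact ⟨z', z₂, z₂', hz'U, hz₂U, h1, hz', hz₂, hz₂', hzz', hz₂z₂', hzz₂, h2, hz'z₂, h3⟩

end decomp

section irr

variable {F : Type*} [Field F] [Fintype F] {ι : Type} [Fintype ι] [DecidableEq ι]
  {Q : QuadraticForm F (ι → F)} (W C : Submodule F (ι → F)) (hCW : C ≤ W)
  (hnd : ∀ w ∈ W, (∀ w' ∈ W, polar Q w w' = 0) → w = 0)
  (hstar : ∀ w ∈ C, ∀ a ∈ W, Q a ≠ 0 → polar Q w a ≠ 0 → a ∈ C)
  (heich : ∀ s ∈ W, ∀ y ∈ W, Q s = 0 → polar Q s y = 0 → ∀ w ∈ C, eich Q s y w ∈ C)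

include hCW hnd in
theorem spread {w : ι → F} (hw : w ∈ C) (hw0 : w ≠ 0)
    (hall : ∀ x ∈ W, polar Q x w ≠ 0 → x ∈ C) : ∀ y ∈ W, y ∈ C := by
  have hx₀ : ∃ x₀ ∈ W, polar Q x₀ w ≠ 0 := by
    by_contra hcon
    push Not at hcon
    apply hw0
    apply hnd w (hCW hw)
    intro w' hw'
    rw [polar_comm]
    exact hcon w' hw'
  obtain ⟨x₀, hx₀W, hx₀⟩ := hx₀
  intro y hy
  by_cases h : polar Q y w = 0
  · have h1 : y + x₀ ∈ C := hall _ (W.add_mem hy hx₀W) (by rw [polar_add_left, h, zero_add]; exact hx₀)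
    have h2 : x₀ ∈ C := hall x₀ hx₀W hx₀
    have := C.sub_mem h1 h2
    rwa [add_sub_cancel_right] at this
  · exact hall y hy h

include hCW hnd hstar in
theorem case_sing {s : ι → F} (hs : s ∈ C) (hs0 : s ≠ 0) (hsQ : Q s = 0) : ∀ y ∈ W, y ∈ C := by
  apply spread W C hCW hnd hs hs0
  intro x hx hxs
  by_cases hQx : Q x = 0
  · have h1 : x + s ∈ C := by
      apply hstar s hs _ (W.add_mem hx (hCW hs))
      · rw [Q_add' Q, hQx, hsQ, zero_add, zero_add]
        exact hxs
      · rw [polar_add_right, Cfsg.Agent.Helper2.Orth.polar_self_of_singular Q hsQ, add_zero,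
          polar_comm]
        exact hxs
    have := C.sub_mem h1 hs
    rwa [add_sub_cancel_right] at this
  · exact hstar s hs x hx hQx (by rw [polar_comm]; exact hxs)

include hCW hnd hstar in
theorem case_big (hq : 4 ≤ Fintype.card F) {w : ι → F} (hw : w ∈ C) (hw0 : w ≠ 0) :
    ∀ y ∈ W, y ∈ C := by
  by_cases hQw : Q w = 0
  · exact case_sing W C hCW hnd hstar hw hw0 hQw
  apply spread W C hCW hnd hw hw0
  intro x hx hxw
  -- a good parameter
  have ht : ∃ t : F, Q (x + t • w) ≠ 0 ∧ polar Q w (x + t • w) ≠ 0 := by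
    by_contra hcon
    push Not at hcon
    let f : Polynomial F :=
      (Polynomial.C (Q x) + Polynomial.C (polar Q x w) * Polynomial.X +
        Polynomial.C (Q w) * Polynomial.X ^ 2) *
      (Polynomial.C (polar Q x w) + Polynomial.C (2 * Q w) * Polynomial.X)
    have hdeg : f.natDegree ≤ 3 := by
      simp only [f]
      compute_degree
    have h1 : (Polynomial.C (Q x) + Polynomial.C (polar Q x w) * Polynomial.X +
        Polynomial.C (Q w) * Polynomial.X ^ 2 : Polynomial F) ≠ 0 := by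
      intro h
      have := congrArg (fun g => Polynomial.coeff g 2) h
      simp at this
      exact hQw this
    have h2 : (Polynomial.C (polar Q x w) + Polynomial.C (2 * Q w) * Polynomial.X :
        Polynomial F) ≠ 0 := by
      intro h
      have := congrArg (fun g => Polynomial.coeff g 0) h
      simp at this
      exact hxw this
    have hf0 : f ≠ 0 := mul_ne_zero h1 h2
    apply hf0
    apply Polynomial.eq_zero_of_natDegree_lt_card_of_eval_eq_zero f (ι := F) (f := id)
      Function.injective_id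
    · intro t
      simp only [id, f, Polynomial.eval_mul, Polynomial.eval_add, Polynomial.eval_C,
        Polynomial.eval_X, Polynomial.eval_pow]
      by_cases hA : Q (x + t • w) = 0
      · rw [Q_add' Q, QuadraticMap.map_smul, polar_smul_right, smul_eq_mul, smul_eq_mul] at hA
        have : Q x + polar Q x w * t + Q w * t ^ 2 = 0 := by linear_combination hA
        rw [this, zero_mul]
      · have hB := hcon t hA
        rw [polar_add_right, polar_smul_right, polar_self, polar_comm Q w x, smul_eq_mul,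
          nsmul_eq_mul] at hB
        have : polar Q x w + 2 * Q w * t = 0 := by
          rw [← hB]
          push_cast
          ring
        rw [this, mul_zero]
    · omega
  obtain ⟨t, ht1, ht2⟩ := ht
  have h1 : x + t • w ∈ C := hstar w hw _ (W.add_mem hx (W.smul_mem _ (hCW hw))) ht1 ht2
  have := C.sub_mem h1 (C.smul_mem t hw)
  rwa [add_sub_cancel_right] at this

theorem field_three (hq : Fintype.card F = 3) :
    (3 : F) = 0 ∧ (2 : F) ≠ 0 ∧ ∀ t : F, t = 0 ∨ t = 1 ∨ t = -1 := by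
  have h3 : (3 : F) = 0 := by
    have := FiniteField.cast_card_eq_zero F
    rw [hq] at this
    exact_mod_cast this
  have h2 : (2 : F) ≠ 0 := by
    intro h
    have : (1 : F) = 0 := by linear_combination h3 - h
    exact one_ne_zero this
  refine ⟨h3, h2, fun t => ?_⟩
  have := FiniteField.pow_card t
  rw [hq] at this
  have h : t * ((t - 1) * (t + 1)) = 0 := by linear_combination this
  rcases mul_eq_zero.mp h with h | h
  · exact Or.inl h
  · rcases mul_eq_zero.mp h with h | h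
    · exact Or.inr (Or.inl (sub_eq_zero.mp h))
    · exact Or.inr (Or.inr (eq_neg_of_add_eq_zero_left h))

theorem field_two (hq : Fintype.card F = 2) : (2 : F) = 0 ∧ ∀ t : F, t = 0 ∨ t = 1 := by
  have h2 : (2 : F) = 0 := by
    have := FiniteField.cast_card_eq_zero F
    rw [hq] at this
    exact_mod_cast this
  refine ⟨h2, fun t => ?_⟩
  have := FiniteField.pow_card t
  rw [hq] at this
  have h : t * (t - 1) = 0 := by linear_combination this
  rcases mul_eq_zero.mp h with h | h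
  · exact Or.inl h
  · exact Or.inr (sub_eq_zero.mp h)

theorem finrank_le_two_of_span {e f : ι → F}
    (h : ∀ x ∈ W, ∃ α β : F, x = α • e + β • f) : Module.finrank F W ≤ 2 := by
  have hle : W ≤ Submodule.span F ({e, f} : Set (ι → F)) := by
    intro x hx
    obtain ⟨α, β, rfl⟩ := h x hx
    rw [Submodule.mem_span_pair]
    exact ⟨α, β, rfl⟩
  exact (Submodule.finrank_mono hle).trans (finrank_span_pair_le e f)

include hCW hnd hstar in
theorem case_three (hq : Fintype.card F = 3)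
    (hexc : ¬ (Fintype.card F ≤ 3 ∧ Module.finrank F W ≤ 2 ∧ ∃ s ∈ W, s ≠ 0 ∧ Q s = 0))
    {w : ι → F} (hw : w ∈ C) (hw0 : w ≠ 0) : ∀ y ∈ W, y ∈ C := by
  obtain ⟨h3, h2, htri⟩ := field_three hq
  by_cases hsing : ∃ s ∈ C, s ≠ 0 ∧ Q s = 0
  · obtain ⟨s, hs, hs0, hsQ⟩ := hsing
    exact case_sing W C hCW hnd hstar hs hs0 hsQ
  push Not at hsing
  have hwW := hCW hw
  obtain ⟨c, hcdef⟩ : ∃ c, c = Q w := ⟨_, rfl⟩
  have hc : c ≠ 0 := by
    rw [hcdef]
    exact hsing w hw hw0
  have h2c : 2 * c ≠ 0 := mul_ne_zero h2 hc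
  have hww : polar Q w w = 2 * c := by
    rw [polar_self, hcdef, nsmul_eq_mul]
    push_cast
    ring
  -- step a
  have stepa : ∀ y ∈ W, polar Q y w = 0 → Q y ≠ -c → y ∈ C := by
    intro y hy hyw hQy
    have h1 : y + w ∈ C := by
      apply hstar w hw _ (W.add_mem hy hwW)
      · rw [Q_add' Q, hyw, add_zero, ← hcdef]
        intro h
        apply hQy
        linear_combination h
      · rw [polar_add_right, polar_comm Q w y, hyw, zero_add, hww]
        exact h2c
    have := C.sub_mem h1 hw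
    rwa [add_sub_cancel_right] at this
  -- reduction to the orthogonal complement of `w`
  suffices hperp : ∀ y ∈ W, polar Q y w = 0 → y ∈ C by
    intro x hx
    have h1 : x - (polar Q x w / (2 * c)) • w ∈ C := by
      apply hperp _ (W.sub_mem hx (W.smul_mem _ hwW))
      rw [polar_sub_left, polar_smul_left, hww, smul_eq_mul, div_mul_cancel₀ _ h2c, sub_self]
    have := C.add_mem h1 (C.smul_mem (polar Q x w / (2 * c)) hw)
    rwa [sub_add_cancel] at this
  by_contra hcon
  push Not at hcon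
  obtain ⟨y₀, hy₀W, hy₀w, hy₀C⟩ := hcon
  have hQy₀ : Q y₀ = -c := by
    by_contra h
    exact hy₀C (stepa y₀ hy₀W hy₀w h)
  have hwy₀ : polar Q w y₀ = 0 := by rw [polar_comm]; exact hy₀w
  by_cases hy₁ : ∃ y₁ ∈ W, polar Q y₁ w = 0 ∧ Q y₁ = c
  · obtain ⟨y₁, hy₁W, hy₁w, hQy₁⟩ := hy₁
    have hy₁C : y₁ ∈ C := by
      apply stepa y₁ hy₁W hy₁w
      rw [hQy₁]
      intro h
      apply h2c
      linear_combination h
    by_cases hp : polar Q y₀ y₁ = 0
    · have hw'C : w + y₁ ∈ C := C.add_mem hw hy₁C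
      have hQw' : Q (w + y₁) = 2 * c := by
        rw [Q_add' Q, ← hcdef, hQy₁, polar_comm Q w y₁, hy₁w]
        ring
      have h1 : y₀ + (w + y₁) ∈ C := by
        apply hstar _ hw'C _ (W.add_mem hy₀W (W.add_mem hwW hy₁W))
        · rw [Q_add' Q, hQy₀, hQw', polar_add_right, hy₀w, hp]
          intro h
          apply hc
          linear_combination h
        · rw [polar_add_right, polar_self, hQw', polar_add_left, hwy₀, polar_comm Q y₁ y₀, hp,
            nsmul_eq_mul]
          push_cast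
          intro h
          apply hc
          linear_combination h - c * h3
      apply hy₀C
      have := C.sub_mem h1 hw'C
      rwa [add_sub_cancel_right] at this
    · apply hy₀C
      apply hstar y₁ hy₁C y₀ hy₀W
      · rw [hQy₀]
        exact neg_ne_zero.mpr hc
      · rw [polar_comm]
        exact hp
  · push Not at hy₁
    -- every non-zero vector orthogonal to `w` has norm `-c`
    have hval : ∀ y ∈ W, polar Q y w = 0 → y ≠ 0 → Q y = -c := by
      intro y hy hyw hy0
      have hQ0 : Q y ≠ 0 := by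
        intro h
        have hyC : y ∈ C := by
          apply stepa y hy hyw
          rw [h]
          exact (neg_ne_zero.mpr hc).symm
        exact hsing y hyC hy0 h
      rcases htri (Q y / c) with h | h | h
      · exact absurd ((div_eq_zero_iff.mp h).resolve_right hc) hQ0
      · exact absurd (by rw [div_eq_one_iff_eq hc] at h; exact h) (hy₁ y hy hyw)
      · rw [div_eq_iff hc] at h
        rw [h]
        ring
    have hy₀0 : y₀ ≠ 0 := by
      intro h
      apply hy₀C
      rw [h]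
      exact C.zero_mem
    have hline : ∀ y ∈ W, polar Q y w = 0 → ∃ β : F, y = β • y₀ := by
      intro y hy hyw
      by_contra hcon
      push Not at hcon
      have hy0 : y ≠ 0 := by
        intro h
        apply hcon 0
        rw [h, zero_smul]
      have hp0 : y + y₀ ≠ 0 := by
        intro h
        apply hcon (-1)
        rw [neg_one_smul]
        exact eq_neg_of_add_eq_zero_left h
      have hm0 : y - y₀ ≠ 0 := by
        intro h
        apply hcon 1
        rw [one_smul]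
        exact sub_eq_zero.mp h
      have e1 := hval y hy hyw hy0
      have e2 := hval _ (W.add_mem hy hy₀W) (by rw [polar_add_left, hyw, hy₀w, add_zero]) hp0
      have e3 := hval _ (W.sub_mem hy hy₀W) (by rw [polar_sub_left, hyw, hy₀w, sub_zero]) hm0
      rw [Q_add' Q, e1, hQy₀] at e2
      rw [Q_sub_eq, e1, hQy₀] at e3
      apply h2c
      linear_combination -e2 - e3
    apply hexc
    refine ⟨by omega, ?_, w + y₀, W.add_mem hwW hy₀W, ?_, ?_⟩
    · apply finrank_le_two_of_span W (e := w) (f := y₀)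
      intro x hx
      obtain ⟨β, hβ⟩ := hline (x - (polar Q x w / (2 * c)) • w) (W.sub_mem hx (W.smul_mem _ hwW))
        (by rw [polar_sub_left, polar_smul_left, hww, smul_eq_mul, div_mul_cancel₀ _ h2c, sub_self])
      refine ⟨polar Q x w / (2 * c), β, ?_⟩
      rw [← hβ]
      abel
    · intro h
      have : polar Q (w + y₀) w = 0 := by rw [h, polar_zero_left]
      rw [polar_add_left, hww, hy₀w, add_zero] at this
      exact h2c this
    · rw [Q_add' Q, ← hcdef, hQy₀, hwy₀]
      ring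

include hCW hnd hstar heich in
theorem case_two (hq : Fintype.card F = 2)
    (hexc : ¬ (Fintype.card F ≤ 3 ∧ Module.finrank F W ≤ 2 ∧ ∃ s ∈ W, s ≠ 0 ∧ Q s = 0))
    {w : ι → F} (hw : w ∈ C) (hw0 : w ≠ 0) : ∀ y ∈ W, y ∈ C := by
  obtain ⟨h2, hbin⟩ := field_two hq
  have hone : ∀ t : F, t ≠ 0 → t = 1 := fun t ht => (hbin t).resolve_left ht
  have hneg : ∀ t : F, -t = t := by
    intro t
    linear_combination (-t) * h2
  have hself : ∀ x : ι → F, polar Q x x = 0 := by
    intro x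
    rw [polar_self, nsmul_eq_mul]
    push_cast
    rw [h2, zero_mul]
  by_cases hQw : Q w = 0
  · exact case_sing W C hCW hnd hstar hw hw0 hQw
  have hQw1 : Q w = 1 := hone _ hQw
  have hwW := hCW hw
  by_cases hx₁ : ∃ x₁ ∈ W, polar Q x₁ w ≠ 0 ∧ Q x₁ ≠ 0
  · obtain ⟨x₁, hx₁W, hx₁w, hQx₁⟩ := hx₁
    have hx₁w1 : polar Q x₁ w = 1 := hone _ hx₁w
    have hwx₁ : polar Q w x₁ = 1 := by rw [polar_comm]; exact hx₁w1
    have hx₁C : x₁ ∈ C := hstar w hw x₁ hx₁W hQx₁ (by rw [hwx₁]; exact one_ne_zero)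
    -- vectors orthogonal to `w` and `x₁`
    have hperp : ∀ y' ∈ W, polar Q y' w = 0 → polar Q y' x₁ = 0 → y' ∈ C := by
      intro y' hy'W hy'w hy'x₁
      by_cases hy'0 : y' = 0
      · rw [hy'0]; exact C.zero_mem
      by_cases hQy' : Q y' = 0
      · have h1 : y' + w ∈ C := by
          apply hstar x₁ hx₁C _ (W.add_mem hy'W hwW)
          · rw [Q_add' Q, hQy', hQw1, hy'w]
            norm_num
          · rw [polar_add_right, polar_comm Q x₁ y', hy'x₁, hx₁w1]
            norm_num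
        have := C.sub_mem h1 hw
        rwa [add_sub_cancel_right] at this
      · have hQy'1 : Q y' = 1 := hone _ hQy'
        have hv : ∃ v ∈ W, polar Q y' v ≠ 0 := by
          by_contra hcon
          push Not at hcon
          exact hy'0 (hnd y' hy'W hcon)
        obtain ⟨v, hvW, hy'v⟩ := hv
        have hy'v1 : polar Q y' v = 1 := hone _ hy'v
        obtain ⟨y'', hy''def⟩ : ∃ y'', y'' = v + polar Q v w • x₁ := ⟨_, rfl⟩
        have hy''W : y'' ∈ W := by rw [hy''def]; exact W.add_mem hvW (W.smul_mem _ hx₁W)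
        have hy''w : polar Q y'' w = 0 := by
          rw [hy''def, polar_add_left, polar_smul_left, hx₁w1, smul_eq_mul, mul_one]
          linear_combination (polar Q v w) * h2
        have hy''y' : polar Q y'' y' = 1 := by
          rw [hy''def, polar_add_left, polar_smul_left, polar_comm Q x₁ y', hy'x₁, smul_zero,
            add_zero, polar_comm, hy'v1]
        obtain ⟨s, hsdef⟩ : ∃ s, s = w + y' := ⟨_, rfl⟩
        have hsW : s ∈ W := by rw [hsdef]; exact W.add_mem hwW hy'W
        have hsQ : Q s = 0 := by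
          rw [hsdef, Q_add' Q, hQw1, hQy'1, polar_comm, hy'w]
          linear_combination h2
        have hsy₂ : polar Q s (x₁ + y'') = 0 := by
          rw [hsdef, polar_add_left, polar_add_right, polar_add_right, hwx₁, polar_comm Q w y'',
            hy''w, hy'x₁, polar_comm Q y' y'', hy''y']
          linear_combination h2
        have hsw : polar Q s w = 0 := by
          rw [hsdef, polar_add_left, hself, hy'w, add_zero]
        have h1 := heich s hsW (x₁ + y'') (W.add_mem hx₁W hy''W) hsQ hsy₂ w hw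
        rw [eich_apply, hsw, polar_add_left, hx₁w1, hy''w] at h1
        have : w + ((1 + 0 : F) • s - (0 : F) • (x₁ + y'') - Q (x₁ + y'') • (0 : F) • s) = y' := by
          rw [hsdef]
          simp only [add_zero, one_smul, zero_smul, sub_zero, smul_zero]
          have : w + (w + y') = (2 : F) • w + y' := by rw [two_smul]; abel
          rw [this, h2, zero_smul, zero_add]
        rwa [this] at h1
    intro y hy
    have h1 : y - polar Q y x₁ • w - polar Q y w • x₁ ∈ C := by
      apply hperp _ (W.sub_mem (W.sub_mem hy (W.smul_mem _ hwW)) (W.smul_mem _ hx₁W))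
      · rw [polar_sub_left, polar_sub_left, polar_smul_left, polar_smul_left, hself, hx₁w1,
          smul_zero, sub_zero, smul_eq_mul, mul_one, sub_self]
      · rw [polar_sub_left, polar_sub_left, polar_smul_left, polar_smul_left, hself, hwx₁,
          smul_zero, sub_zero, smul_eq_mul, mul_one, sub_self]
    have := C.add_mem (C.add_mem h1 (C.smul_mem (polar Q y x₁) hw)) (C.smul_mem (polar Q y w) hx₁C)
    have e : y - polar Q y x₁ • w - polar Q y w • x₁ + polar Q y x₁ • w + polar Q y w • x₁ = y := by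
      abel
    rwa [e] at this
  · push Not at hx₁
    exfalso
    apply hexc
    have hx : ∃ x ∈ W, polar Q x w ≠ 0 := by
      by_contra hcon
      push Not at hcon
      apply hw0
      apply hnd w hwW
      intro w' hw'
      rw [polar_comm]
      exact hcon w' hw'
    obtain ⟨x, hxW, hxw⟩ := hx
    have hxw1 : polar Q x w = 1 := hone _ hxw
    have hwx : polar Q w x = 1 := by rw [polar_comm]; exact hxw1
    have hQx : Q x = 0 := hx₁ x hxW hxw
    have hx0 : x ≠ 0 := by
      intro h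
      rw [h, polar_zero_left] at hxw
      exact hxw rfl
    -- the norm on the orthogonal complement of `w`
    have claim1 : ∀ y' ∈ W, polar Q y' w = 0 → Q y' = polar Q x y' := by
      intro y' hy'W hy'w
      have := hx₁ (x + y') (W.add_mem hxW hy'W) (by rw [polar_add_left, hy'w, add_zero]; exact hxw)
      rw [Q_add' Q, hQx, zero_add] at this
      have e : Q y' = -polar Q x y' := by linear_combination this
      rw [e, hneg]
    have claim2 : ∀ y' ∈ W, ∀ v'' ∈ W, polar Q y' w = 0 → polar Q v'' w = 0 →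
        polar Q y' v'' = 0 := by
      intro y' hy'W v'' hv''W hy'w hv''w
      have e1 := claim1 y' hy'W hy'w
      have e2 := claim1 v'' hv''W hv''w
      have e3 := claim1 (y' + v'') (W.add_mem hy'W hv''W) (by rw [polar_add_left, hy'w, hv''w,
        add_zero])
      rw [Q_add' Q, polar_add_right] at e3
      linear_combination e3 - e1 - e2
    have claim3 : ∀ y' ∈ W, polar Q y' w = 0 → y' = polar Q x y' • w := by
      intro y' hy'W hy'w
      have hd : y' + polar Q x y' • w = 0 := by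
        apply hnd _ (W.add_mem hy'W (W.smul_mem _ hwW))
        intro v' hv'W
        have hv'' : polar Q (v' - polar Q v' w • x) w = 0 := by
          rw [polar_sub_left, polar_smul_left, hxw1, smul_eq_mul, mul_one, sub_self]
        have hv''W : v' - polar Q v' w • x ∈ W := W.sub_mem hv'W (W.smul_mem _ hxW)
        have e1 := claim2 y' hy'W _ hv''W hy'w hv''
        have e2 : polar Q w (v' - polar Q v' w • x) = 0 := by rw [polar_comm]; exact hv''
        have e3 : v' = (v' - polar Q v' w • x) + polar Q v' w • x := by abel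
        rw [e3, polar_add_right, polar_add_left, polar_add_left, polar_smul_left, polar_smul_left,
          polar_smul_right, polar_smul_right, e1, e2, hwx, polar_comm Q y' x]
        simp only [smul_eq_mul, mul_zero, add_zero, zero_add, mul_one]
        linear_combination (polar Q v' w * polar Q x y') * h2
      have := eq_neg_of_add_eq_zero_left hd
      rw [← neg_smul, hneg] at this
      exact this
    refine ⟨by omega, ?_, x, hxW, hx0, hQx⟩
    apply finrank_le_two_of_span W (e := w) (f := x)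
    intro v hv
    have hv'' : polar Q (v - polar Q v w • x) w = 0 := by
      rw [polar_sub_left, polar_smul_left, hxw1, smul_eq_mul, mul_one, sub_self]
    have := claim3 _ (W.sub_mem hv (W.smul_mem _ hxW)) hv''
    refine ⟨polar Q x (v - polar Q v w • x), polar Q v w, ?_⟩
    rw [← this]
    abel

include hCW hnd hstar heich in
/-- an invariant subspace containing a non-zero vector is everything -/
theorem inv_top
    (hexc : ¬ (Fintype.card F ≤ 3 ∧ Module.finrank F W ≤ 2 ∧ ∃ s ∈ W, s ≠ 0 ∧ Q s = 0))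
    {w : ι → F} (hw : w ∈ C) (hw0 : w ≠ 0) : ∀ y ∈ W, y ∈ C := by
  have h1 : 1 < Fintype.card F := Fintype.one_lt_card
  by_cases h4 : 4 ≤ Fintype.card F
  · exact case_big W C hCW hnd hstar h4 hw hw0
  · by_cases h3 : Fintype.card F = 3
    · exact case_three W C hCW hnd hstar h3 hexc hw hw0
    · exact case_two W C hCW hnd hstar heich (by omega) hexc hw hw0

end irr

section main

variable {F : Type*} [Field F] [Fintype F] {ι : Type} [Fintype ι] [DecidableEq ι]
  {Q : QuadraticForm F (ι → F)} (hQ : (polarBilin Q).Nondegenerate)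
  (hΩ : Cfsg.Omega F (⇑Q) = eichGroup Q)
  (hex : Fintype.card F ≠ 2 ∨ Fintype.card ι ≠ 4)
  (W U : Submodule F (ι → F))
  (hWU : ∀ w ∈ W, ∀ u ∈ U, polar Q w u = 0)
  (hdec : ∀ v : ι → F, ∃ w ∈ W, ∃ u ∈ U, v = w + u)
  (hU : 5 ≤ Module.finrank F U)
  (M : Subgroup (Cfsg.isometryGroup F (⇑Q)))
  (hHM : StabG Q W ⊓ Cfsg.Omega F (⇑Q) ≤ M)

include hΩ hWU hHM in
/-- root elements of the large summand lie in `M` -/
theorem eich_mem_of_right {z b : ι → F} (hzU : z ∈ U) (hbU : b ∈ U) (hz : Q z = 0)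
    (hzb : polar Q z b = 0) : eichG Q z b ∈ M := by
  apply hHM
  refine ⟨eichG_mem_stabG_of_perp W z b hz hzb
    (fun w hw => by rw [polar_comm]; exact hWU w hw z hzU)
    (fun w hw => by rw [polar_comm]; exact hWU w hw b hbU), ?_⟩
  rw [hΩ]
  exact eichG_mem hz hzb

theorem smul_left_cancel' (g : Cfsg.isometryGroup F (⇑Q)) {x y : ι → F} (h : g • x = g • y) :
    x = y := by
  have := congrArg (fun v => g⁻¹ • v) h
  simpa only [inv_smul_smul] using this

/-- the hypothesis that no root group centred in `U` leaves `U` -/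
def Closed (M : Subgroup (Cfsg.isometryGroup F (⇑Q))) (U : Submodule F (ι → F)) : Prop :=
  ∀ z ∈ U, z ≠ 0 → Q z = 0 → ∀ b, polar Q z b = 0 → eichG Q z b ∈ M → b ∈ U

include hQ hΩ hWU hdec hU hHM in
theorem maps_of_one (hcl : Closed M U) (m : Cfsg.isometryGroup F (⇑Q)) (hm : m ∈ M)
    {z : ι → F} (hzU : z ∈ U) (hz0 : z ≠ 0) (hz : Q z = 0) (hmz : m • z ∈ U) :
    ∀ u ∈ U, m • u ∈ U := by
  have step : ∀ z₀ ∈ U, z₀ ≠ 0 → Q z₀ = 0 → m • z₀ ∈ U → ∀ b ∈ U, polar Q z₀ b = 0 →
      m • b ∈ U := by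
    intro z₀ hz₀U hz₀0 hz₀ hmz₀ b hbU hz₀b
    have h1 : eichG Q (m • z₀) (m • b) ∈ M := by
      rw [← eichG_conj m hz₀ hz₀b]
      exact M.mul_mem (M.mul_mem hm (eich_mem_of_right hΩ W U hWU M hHM hz₀U hbU hz₀ hz₀b))
        (M.inv_mem hm)
    exact hcl (m • z₀) hmz₀ (fun h => hz₀0 ((smul_eq_zero_iff' m z₀).mp h))
      (by rw [Q_smul Q, hz₀]) (m • b) (by rw [polar_smul_smul Q, hz₀b]) h1
  obtain ⟨z', z₂, z₂', hz'U, hz₂U, hz₂'U, hz', hz₂, hz₂', hzz', hz₂z₂', hzz₂, hzz₂', hz'z₂,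
    hz'z₂'⟩ := exists_frame hQ W U hWU hdec hU hzU hz0 hz
  have hz₂0 : z₂ ≠ 0 := by
    intro h
    rw [h, polar_zero_left] at hz₂z₂'
    exact zero_ne_one hz₂z₂'
  have hmz₂ : m • z₂ ∈ U := step z hzU hz0 hz hmz z₂ hz₂U hzz₂
  intro u hu
  have h2 : m • (polar Q u z • z') ∈ U := by
    apply step z₂ hz₂U hz₂0 hz₂ hmz₂ _ (U.smul_mem _ hz'U)
    rw [polar_smul_right, polar_comm Q z₂ z', hz'z₂, smul_zero]
  have h1 : m • (u - polar Q u z • z') ∈ U := by
    apply step z hzU hz0 hz hmz _ (U.sub_mem hu (U.smul_mem _ hz'U))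
    rw [polar_sub_right, polar_smul_right, hzz', polar_comm Q z u, smul_eq_mul, mul_one, sub_self]
  have : u = (u - polar Q u z • z') + polar Q u z • z' := by abel
  rw [this, smul_add' Q]
  exact U.add_mem h1 h2

include hQ hΩ hWU hdec hU hHM in
theorem moves_all (hcl : Closed M U) (m : Cfsg.isometryGroup F (⇑Q)) (hm : m ∈ M)
    (hmS : m ∉ StabG Q U) {z : ι → F} (hzU : z ∈ U) (hz0 : z ≠ 0) (hz : Q z = 0) :
    m • z ∉ U := by
  intro hmz
  exact hmS (mem_stabG_of_maps U m (maps_of_one hQ hΩ W U hWU hdec hU M hHM hcl m hm hzU hz0 hz hmz))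

include hQ hWU hdec in
/-- a root element stabilising `W` whose line avoids `U` has its line inside `W` -/
theorem line_in_left {p r : ι → F} (hp : Q p = 0) (hr : Q r = 0) (hpr : polar Q p r = 0)
    (hr0 : r ≠ 0) (hind : ∀ γ : F, p ≠ γ • r) (hpU : p ∉ U)
    (he : eichG Q p r ∈ StabG Q W) : p ∈ W ∧ r ∈ W := by
  have key : ∀ x ∈ W, polar Q r x • p - polar Q p x • r ∈ W := by
    intro x hx
    have h1 := ((mem_stabG_iff W _).mp he x).mp hx
    rw [eichG_smul hp hpr, eich_apply, hr, zero_smul, sub_zero] at h1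
    have := W.sub_mem h1 hx
    rwa [add_sub_cancel_left] at this
  have hpW : p ∈ W := by
    by_contra hpW
    by_cases hrx : ∃ x ∈ W, polar Q r x ≠ 0
    · obtain ⟨x, hx, hrx⟩ := hrx
      obtain ⟨γ, hγ⟩ : ∃ γ, γ = polar Q p x / polar Q r x := ⟨_, rfl⟩
      have hyW : p - γ • r ∈ W := by
        have := W.smul_mem (polar Q r x)⁻¹ (key x hx)
        rw [smul_sub, smul_smul, smul_smul, inv_mul_cancel₀ hrx, one_smul] at this
        rw [hγ, div_eq_inv_mul]
        exact this
      have hy0 : p - γ • r ≠ 0 := fun h => hind γ (sub_eq_zero.mp h)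
      have hx' : ∃ x' ∈ W, polar Q (p - γ • r) x' ≠ 0 := by
        by_contra hcon
        push Not at hcon
        exact hy0 (nondeg_left hQ W U hWU hdec _ hyW hcon)
      obtain ⟨x', hx', hyx'⟩ := hx'
      have h2 := key x' hx'
      have h3 : polar Q r x' • p - polar Q p x' • r =
          polar Q r x' • (p - γ • r) - polar Q (p - γ • r) x' • r := by
        rw [polar_sub_left, polar_smul_left, smul_sub, sub_smul, smul_smul, smul_eq_mul]
        rw [mul_comm γ]
        abel
      rw [h3] at h2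
      have h4 : polar Q (p - γ • r) x' • r ∈ W := by
        have := W.sub_mem (W.smul_mem (polar Q r x') hyW) h2
        rwa [sub_sub_cancel] at this
      have hrW : r ∈ W := by
        have := W.smul_mem (polar Q (p - γ • r) x')⁻¹ h4
        rwa [smul_smul, inv_mul_cancel₀ hyx', one_smul] at this
      apply hpW
      have : p = (p - γ • r) + γ • r := by abel
      rw [this]
      exact W.add_mem hyW (W.smul_mem _ hrW)
    · push Not at hrx
      by_cases hpx : ∃ x ∈ W, polar Q p x ≠ 0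
      · obtain ⟨x, hx, hpx⟩ := hpx
        have h1 := key x hx
        rw [hrx x hx, zero_smul, zero_sub] at h1
        have hrW : r ∈ W := by
          have := W.smul_mem (-(polar Q p x)⁻¹) h1
          rwa [smul_neg, neg_smul, neg_neg, smul_smul, inv_mul_cancel₀ hpx, one_smul] at this
        exact hr0 (nondeg_left hQ W U hWU hdec r hrW hrx)
      · push Not at hpx
        exact hpU (mem_right_of_perp hQ W U hWU hdec p hpx)
  refine ⟨hpW, ?_⟩
  have hp0 : p ≠ 0 := by
    intro h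
    apply hpU
    rw [h]
    exact U.zero_mem
  have hx : ∃ x ∈ W, polar Q p x ≠ 0 := by
    by_contra hcon
    push Not at hcon
    exact hp0 (nondeg_left hQ W U hWU hdec p hpW hcon)
  obtain ⟨x, hx, hpx⟩ := hx
  have h1 := key x hx
  have h2 : polar Q p x • r ∈ W := by
    have := W.sub_mem (W.smul_mem (polar Q r x) hpW) h1
    rwa [sub_sub_cancel] at this
  have := W.smul_mem (polar Q p x)⁻¹ h2
  rwa [smul_smul, inv_mul_cancel₀ hpx, one_smul] at this

include hQ hΩ hWU hdec hU hHM in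
/-- under the closure hypothesis an element of `M` outside the stabiliser maps `U` into `W` -/
theorem maps_into_left (hcl : Closed M U) (m : Cfsg.isometryGroup F (⇑Q)) (hm : m ∈ M)
    (hmS : m ∉ StabG Q U) : ∀ u ∈ U, m • u ∈ W := by
  -- singular vectors first
  have hsing : ∀ z ∈ U, z ≠ 0 → Q z = 0 → m • z ∈ W := by
    intro z hzU hz0 hz
    obtain ⟨z', z₂, z₂', hz'U, hz₂U, hz₂'U, hz', hz₂, hz₂', hzz', hz₂z₂', hzz₂, hzz₂', hz'z₂,
      hz'z₂'⟩ := exists_frame hQ W U hWU hdec hU hzU hz0 hz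
    have hz₂0 : z₂ ≠ 0 := by
      intro h
      rw [h, polar_zero_left] at hz₂z₂'
      exact zero_ne_one hz₂z₂'
    have hp : Q (m • z) = 0 := by rw [Q_smul Q, hz]
    have hr : Q (m • z₂) = 0 := by rw [Q_smul Q, hz₂]
    have hpr : polar Q (m • z) (m • z₂) = 0 := by rw [polar_smul_smul Q, hzz₂]
    have heM : eichG Q (m • z) (m • z₂) ∈ M := by
      rw [← eichG_conj m hz hzz₂]
      exact M.mul_mem (M.mul_mem hm (eich_mem_of_right hΩ W U hWU M hHM hzU hz₂U hz hzz₂))
        (M.inv_mem hm)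
    have heS : eichG Q (m • z) (m • z₂) ∈ StabG Q U := by
      by_contra hcon
      obtain ⟨u₀, hu₀U, hu₀0, hu₀, h1, h2⟩ := exists_sing_perp_in hQ U hU (m • z) (m • z₂)
      have := moves_all hQ hΩ W U hWU hdec hU M hHM hcl _ heM hcon hu₀U hu₀0 hu₀
      rw [eichG_fix hp hpr h1 h2] at this
      exact this hu₀U
    have heW := stab_left_of_right hQ W U hWU hdec _ heS
    have hind : ∀ γ : F, m • z ≠ γ • (m • z₂) := by
      intro γ h
      rw [← smul_smul' Q] at h
      have h1 := smul_left_cancel' m h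
      rw [h1, polar_smul_left, polar_comm Q z₂ z', hz'z₂, smul_zero] at hzz'
      exact zero_ne_one hzz'
    exact (line_in_left hQ W U hWU hdec hp hr hpr
      (fun h => hz₂0 ((smul_eq_zero_iff' m z₂).mp h)) hind
      (moves_all hQ hΩ W U hWU hdec hU M hHM hcl m hm hmS hzU hz0 hz) heW).1
  -- a singular vector of `U`
  obtain ⟨z, hzU, hz0, hz⟩ := exists_sing_in Q U (by omega)
  obtain ⟨z', z₂, z₂', hz'U, hz₂U, hz₂'U, hz', hz₂, hz₂', hzz', hz₂z₂', hzz₂, hzz₂', hz'z₂,
    hz'z₂'⟩ := exists_frame hQ W U hWU hdec hU hzU hz0 hz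
  have hz'0 : z' ≠ 0 := by
    intro h
    rw [h, polar_zero_right] at hzz'
    exact zero_ne_one hzz'
  have hz'z : polar Q z' z = 1 := by rw [polar_comm]; exact hzz'
  have hzz := Cfsg.Agent.Helper2.Orth.polar_self_of_singular Q hz
  have hz'z'' := Cfsg.Agent.Helper2.Orth.polar_self_of_singular Q hz'
  intro u hu
  obtain ⟨a, hadef⟩ : ∃ a, a = u - polar Q u z' • z - polar Q u z • z' := ⟨_, rfl⟩
  have haU : a ∈ U := by
    rw [hadef]
    exact U.sub_mem (U.sub_mem hu (U.smul_mem _ hzU)) (U.smul_mem _ hz'U)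
  have haz : polar Q a z = 0 := by
    rw [hadef, polar_sub_left, polar_sub_left, polar_smul_left, polar_smul_left, hzz, hz'z,
      smul_zero, sub_zero, smul_eq_mul, mul_one, sub_self]
  have haz' : polar Q a z' = 0 := by
    rw [hadef, polar_sub_left, polar_sub_left, polar_smul_left, polar_smul_left, hzz', hz'z'',
      smul_zero, smul_eq_mul, mul_one, sub_zero, sub_self]
  obtain ⟨s, hsdef⟩ : ∃ s, s = z + a - Q a • z' := ⟨_, rfl⟩
  have hsU : s ∈ U := by
    rw [hsdef]
    exact U.sub_mem (U.add_mem hzU haU) (U.smul_mem _ hz'U)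
  have hsQ : Q s = 0 := by
    rw [hsdef, Q_sub_smul, Q_add' Q, hz, hz', polar_add_left, hzz', haz', polar_comm Q z a, haz]
    ring
  have hs0 : s ≠ 0 := by
    intro h
    have : polar Q s z' = 1 := by
      rw [hsdef, polar_sub_left, polar_add_left, polar_smul_left, hzz', haz', hz'z'', smul_zero,
        sub_zero, add_zero]
    rw [h, polar_zero_left] at this
    exact zero_ne_one this
  have hms := hsing s hsU hs0 hsQ
  have hmz := hsing z hzU hz0 hz
  have hmz' := hsing z' hz'U hz'0 hz'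
  have hu_eq : u = s + (polar Q u z' - 1) • z + (polar Q u z + Q a) • z' := by
    rw [hsdef, hadef]
    module
  rw [hu_eq, smul_add' Q, smul_add' Q, smul_smul' Q, smul_smul' Q]
  exact W.add_mem (W.add_mem hms (W.smul_mem _ hmz)) (W.smul_mem _ hmz')

theorem tG_smul_eq {v : ι → F} (hv : Q v ≠ 0) (x : ι → F) : tG Q v • x = refl Q v x := by
  rw [← toEnd_eq_smul, toEnd_tG Q hv]

theorem tG_smul_of_perp {v : ι → F} (hv : Q v ≠ 0) {x : ι → F} (h : polar Q v x = 0) :
    tG Q v • x = x := by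
  rw [tG_smul_eq hv, refl_apply_of_polar_eq_zero Q v x h]

include hQ hex hWU in
/-- a torus element of the stabiliser scaling `z` and fixing `W` pointwise -/
theorem exists_torus {z z' z₂ z₂' : ι → F} (hzU : z ∈ U) (hz'U : z' ∈ U) (hz₂U : z₂ ∈ U)
    (hz₂'U : z₂' ∈ U) (hz : Q z = 0) (hz' : Q z' = 0) (hz₂ : Q z₂ = 0) (hz₂' : Q z₂' = 0)
    (hzz' : polar Q z z' = 1) (hz₂z₂' : polar Q z₂ z₂' = 1) (hzz₂ : polar Q z z₂ = 0)
    (hzz₂' : polar Q z z₂' = 0) (l : F) (hl : l ≠ 0) :
    ∃ h ∈ StabG Q W ⊓ Cfsg.Omega F (⇑Q), h • z = l • z ∧ ∀ w ∈ W, h • w = w := by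
  have hzz := Cfsg.Agent.Helper2.Orth.polar_self_of_singular Q hz
  have hz'z' := Cfsg.Agent.Helper2.Orth.polar_self_of_singular Q hz'
  have hz'z : polar Q z' z = 1 := by rw [polar_comm]; exact hzz'
  have hQa : Q (z + z') = 1 := by rw [Q_add' Q, hz, hz', hzz']; ring
  have hQa' : Q (z + l • z') = l := by
    rw [Q_add' Q, hz, QuadraticMap.map_smul, hz', polar_smul_right, hzz', smul_eq_mul, smul_eq_mul]
    ring
  have hQc : Q (z₂ + z₂') = 1 := by rw [Q_add' Q, hz₂, hz₂', hz₂z₂']; ring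
  have hQc' : Q (z₂ + l • z₂') = l := by
    rw [Q_add' Q, hz₂, QuadraticMap.map_smul, hz₂', polar_smul_right, hz₂z₂', smul_eq_mul,
      smul_eq_mul]
    ring
  have ha : Q (z + z') ≠ 0 := by rw [hQa]; exact one_ne_zero
  have ha' : Q (z + l • z') ≠ 0 := by rw [hQa']; exact hl
  have hc : Q (z₂ + z₂') ≠ 0 := by rw [hQc]; exact one_ne_zero
  have hc' : Q (z₂ + l • z₂') ≠ 0 := by rw [hQc']; exact hl
  have hvs : ∀ v ∈ [z + z', z + l • z', z₂ + z₂', z₂ + l • z₂'], Q v ≠ 0 := by
    intro v hv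
    simp only [List.mem_cons, List.not_mem_nil, or_false] at hv
    rcases hv with rfl | rfl | rfl | rfl
    · exact ha
    · exact ha'
    · exact hc
    · exact hc'
  have hΩmem := (prod_tG_mem_Omega_iff_all Q hQ hex _ hvs).2 ⟨⟨2, rfl⟩, ⟨l, by
    simp only [List.map_cons, List.map_nil, List.prod_cons, List.prod_nil, hQa, hQa', hQc, hQc']
    ring⟩⟩
  simp only [List.map_cons, List.map_nil, List.prod_cons, List.prod_nil, mul_one] at hΩmem
  have hfixW : ∀ w ∈ W, (tG Q (z + z') * (tG Q (z + l • z') * (tG Q (z₂ + z₂') *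
      tG Q (z₂ + l • z₂')))) • w = w := by
    intro w hw
    have p1 : ∀ u ∈ U, polar Q u w = 0 := fun u hu => by rw [polar_comm]; exact hWU w hw u hu
    rw [mul_smul, mul_smul, mul_smul,
      tG_smul_of_perp hc' (p1 _ (U.add_mem hz₂U (U.smul_mem _ hz₂'U))),
      tG_smul_of_perp hc (p1 _ (U.add_mem hz₂U hz₂'U)),
      tG_smul_of_perp ha' (p1 _ (U.add_mem hzU (U.smul_mem _ hz'U))),
      tG_smul_of_perp ha (p1 _ (U.add_mem hzU hz'U))]
  refine ⟨_, ⟨mem_stabG_of_maps W _ (fun w hw => by rw [hfixW w hw]; exact hw), hΩmem⟩, ?_, hfixW⟩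
  rw [mul_smul, mul_smul, mul_smul,
    tG_smul_of_perp hc' (by rw [polar_add_left, polar_smul_left, polar_comm Q z₂ z, hzz₂,
      polar_comm Q z₂' z, hzz₂', smul_zero, add_zero]),
    tG_smul_of_perp hc (by rw [polar_add_left, polar_comm Q z₂ z, hzz₂, polar_comm Q z₂' z, hzz₂',
      add_zero]),
    tG_smul_eq ha', refl_apply, hQa', polar_add_left, polar_smul_left, hzz, hz'z, smul_eq_mul,
    mul_one, zero_add, inv_mul_cancel₀ hl, one_smul]
  have e1 : z - (z + l • z') = (-l) • z' := by rw [neg_smul]; abel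
  rw [e1, smul_smul' Q, tG_smul_eq ha, refl_apply, hQa, polar_add_left, hzz', hz'z', inv_one,
    one_mul, add_zero, one_smul]
  module

include hQ hex hWU in
/-- an element of the stabiliser fixing `z` and acting on `W` as the reflection in `a` -/
theorem exists_refl_elt {z z₂ z₂' : ι → F} (hz₂U : z₂ ∈ U) (hz₂'U : z₂' ∈ U) (hzU : z ∈ U)
    (hz₂ : Q z₂ = 0) (hz₂' : Q z₂' = 0) (hz₂z₂' : polar Q z₂ z₂' = 1) (hzz₂ : polar Q z z₂ = 0)
    (hzz₂' : polar Q z z₂' = 0) {a : ι → F} (haW : a ∈ W) (ha : Q a ≠ 0) :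
    ∃ h ∈ StabG Q W ⊓ Cfsg.Omega F (⇑Q), h • z = z ∧ ∀ w ∈ W, h • w = refl Q a w := by
  have hQa' : Q (z₂ + Q a • z₂') = Q a := by
    rw [Q_add' Q, hz₂, QuadraticMap.map_smul, hz₂', polar_smul_right, hz₂z₂', smul_eq_mul,
      smul_eq_mul]
    ring
  have ha' : Q (z₂ + Q a • z₂') ≠ 0 := by rw [hQa']; exact ha
  have hmem := tG_mul_tG_mem_Omega Q hQ hex ha hQa'
  have hact : ∀ w ∈ W, (tG Q a * tG Q (z₂ + Q a • z₂')) • w = refl Q a w := by
    intro w hw
    rw [mul_smul, tG_smul_of_perp ha' (by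
      rw [polar_comm]
      exact hWU w hw _ (U.add_mem hz₂U (U.smul_mem _ hz₂'U))), tG_smul_eq ha]
  refine ⟨_, ⟨mem_stabG_of_maps W _ (fun w hw => ?_), hmem⟩, ?_, hact⟩
  · rw [hact w hw, refl_apply]
    exact W.sub_mem hw (W.smul_mem _ haW)
  · rw [mul_smul, tG_smul_of_perp ha' (by
      rw [polar_add_left, polar_smul_left, polar_comm Q z₂ z, hzz₂, polar_comm Q z₂' z, hzz₂',
        smul_zero, add_zero]), tG_smul_of_perp ha (hWU a haW z hzU)]

include hQ hΩ hex hWU hdec hU hHM in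
/-- a subgroup of `Ω` properly containing the stabiliser of a non-degenerate subspace is `Ω` -/
theorem nondeg_top (hn : 3 ≤ Fintype.card ι)
    (hno : ¬ ∃ g : Cfsg.isometryGroup F (⇑Q), ∀ u ∈ U, g • u ∈ W)
    (hexc : ¬ (Fintype.card F ≤ 3 ∧ Module.finrank F W ≤ 2 ∧ ∃ s ∈ W, s ≠ 0 ∧ Q s = 0))
    (hMΩ : M ≤ Cfsg.Omega F (⇑Q)) (hne : M ≠ StabG Q W ⊓ Cfsg.Omega F (⇑Q)) :
    M = Cfsg.Omega F (⇑Q) := by
  -- the closure hypothesis fails
  have hncl : ¬ Closed M U := by
    intro hcl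
    obtain ⟨m, hmM, hmH⟩ : ∃ m ∈ M, m ∉ StabG Q W ⊓ Cfsg.Omega F (⇑Q) := by
      by_contra hcon
      push Not at hcon
      exact hne (le_antisymm hcon hHM)
    have hmW : m ∉ StabG Q W := fun h => hmH ⟨h, hMΩ hmM⟩
    have hmU : m ∉ StabG Q U := fun h => hmW (stab_left_of_right hQ W U hWU hdec m h)
    exact hno ⟨m, maps_into_left hQ hΩ W U hWU hdec hU M hHM hcl m hmM hmU⟩
  unfold Closed at hncl
  push Not at hncl
  obtain ⟨z, hzU, hz0, hz, b, hzb, hbM, hbU⟩ := hncl
  obtain ⟨w₀, hw₀W, u₀, hu₀U, hbdec⟩ := hdec b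
  have hzW : ∀ w ∈ W, polar Q z w = 0 := fun w hw => by rw [polar_comm]; exact hWU w hw z hzU
  have hw₀0 : w₀ ≠ 0 := by
    intro h
    apply hbU
    rw [hbdec, h, zero_add]
    exact hu₀U
  have hzu₀ : polar Q z u₀ = 0 := by
    have := hzb
    rw [hbdec, polar_add_right, hzW w₀ hw₀W, zero_add] at this
    exact this
  have hw₀M : eichG Q z w₀ ∈ M := by
    have h1 : eichG Q z (-u₀) ∈ M :=
      eich_mem_of_right hΩ W U hWU M hHM hzU (U.neg_mem hu₀U) hz
        (by rw [polar_neg_right, hzu₀, neg_zero])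
    have h2 := M.mul_mem hbM h1
    rw [eichG_mul hz hzb (by rw [polar_neg_right, hzu₀, neg_zero]), hbdec] at h2
    have e : w₀ + u₀ + -u₀ = w₀ := by abel
    rwa [e] at h2
  obtain ⟨z', z₂, z₂', hz'U, hz₂U, hz₂'U, hz', hz₂, hz₂', hzz', hz₂z₂', hzz₂, hzz₂', hz'z₂,
    hz'z₂'⟩ := exists_frame hQ W U hWU hdec hU hzU hz0 hz
  -- the invariant subspace
  have hconj : ∀ h ∈ StabG Q W ⊓ Cfsg.Omega F (⇑Q), ∀ w ∈ W, eichG Q z w ∈ M →
      eichG Q (h • z) (h • w) ∈ M := by
    intro h hh w hw hwM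
    rw [← eichG_conj h hz (hzW w hw)]
    exact M.mul_mem (M.mul_mem (hHM hh) hwM) (M.inv_mem (hHM hh))
  let C : Submodule F (ι → F) :=
    { carrier := {w | w ∈ W ∧ eichG Q z w ∈ M}
      add_mem' := by
        rintro x y ⟨hxW, hxM⟩ ⟨hyW, hyM⟩
        refine ⟨W.add_mem hxW hyW, ?_⟩
        rw [← eichG_mul hz (hzW x hxW) (hzW y hyW)]
        exact M.mul_mem hxM hyM
      zero_mem' := ⟨W.zero_mem, by rw [eichG_zero]; exact M.one_mem⟩
      smul_mem' := by
        rintro l x ⟨hxW, hxM⟩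
        refine ⟨W.smul_mem l hxW, ?_⟩
        by_cases hl : l = 0
        · rw [hl, zero_smul, eichG_zero]
          exact M.one_mem
        · obtain ⟨h, hh, hhz, hhW⟩ := exists_torus hQ hex W U hWU hzU hz'U hz₂U hz₂'U hz hz' hz₂
            hz₂' hzz' hz₂z₂' hzz₂ hzz₂' l hl
          have := hconj h hh x hxW hxM
          rw [hhz, hhW x hxW, eichG_smul_left hz (hzW x hxW)] at this
          exact this }
  have hmemC : ∀ w, w ∈ C ↔ w ∈ W ∧ eichG Q z w ∈ M := fun w => Iff.rfl
  have hCW : C ≤ W := fun w hw => ((hmemC w).mp hw).1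
  have hrefl : ∀ a ∈ W, Q a ≠ 0 → ∀ w ∈ C, refl Q a w ∈ C := by
    intro a haW ha w hw
    obtain ⟨hwW, hwM⟩ := (hmemC w).mp hw
    obtain ⟨h, hh, hhz, hhW⟩ := exists_refl_elt hQ hex W U hWU hz₂U hz₂'U hzU hz₂ hz₂' hz₂z₂' hzz₂
      hzz₂' haW ha
    have := hconj h hh w hwW hwM
    rw [hhz, hhW w hwW] at this
    refine (hmemC _).mpr ⟨?_, this⟩
    rw [refl_apply]
    exact W.sub_mem hwW (W.smul_mem _ haW)
  have hstar : ∀ w ∈ C, ∀ a ∈ W, Q a ≠ 0 → polar Q w a ≠ 0 → a ∈ C := by
    intro w hw a haW ha hwa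
    have h1 := hrefl a haW ha w hw
    rw [refl_apply] at h1
    have h2 : ((Q a)⁻¹ * polar Q a w) • a ∈ C := by
      have := C.sub_mem hw h1
      rwa [sub_sub_cancel] at this
    have hne0 : (Q a)⁻¹ * polar Q a w ≠ 0 :=
      mul_ne_zero (inv_ne_zero ha) (by rw [polar_comm]; exact hwa)
    have := C.smul_mem ((Q a)⁻¹ * polar Q a w)⁻¹ h2
    rwa [smul_smul, inv_mul_cancel₀ hne0, one_smul] at this
  have heich : ∀ s ∈ W, ∀ y ∈ W, Q s = 0 → polar Q s y = 0 → ∀ w ∈ C, eich Q s y w ∈ C := by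
    intro s hsW y hyW hs hsy w hw
    obtain ⟨hwW, hwM⟩ := (hmemC w).mp hw
    have hsU : ∀ u ∈ U, polar Q s u = 0 := fun u hu => hWU s hsW u hu
    have hyU : ∀ u ∈ U, polar Q y u = 0 := fun u hu => hWU y hyW u hu
    have hh : eichG Q s y ∈ StabG Q W ⊓ Cfsg.Omega F (⇑Q) := by
      refine ⟨stab_left_of_right hQ W U hWU hdec _
        (eichG_mem_stabG_of_perp U s y hs hsy hsU hyU), ?_⟩
      rw [hΩ]
      exact eichG_mem hs hsy
    have := hconj _ hh w hwW hwM
    rw [eichG_fix hs hsy (hsU z hzU) (hyU z hzU), eichG_smul hs hsy] at this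
    refine (hmemC _).mpr ⟨?_, this⟩
    rw [eich_apply]
    exact W.add_mem hwW (W.sub_mem (W.sub_mem (W.smul_mem _ hsW) (W.smul_mem _ hyW))
      (W.smul_mem _ (W.smul_mem _ hsW)))
  have hall := inv_top W C hCW (nondeg_left hQ W U hWU hdec) hstar heich hexc
    ((hmemC w₀).mpr ⟨hw₀W, hw₀M⟩) hw₀0
  -- the first centre
  have hzR : z ∈ Rt M := by
    refine ⟨hz0, hz, fun b' hzb' => ?_⟩
    obtain ⟨w, hwW, u, huU, rfl⟩ := hdec b'
    have hzu : polar Q z u = 0 := by
      rw [polar_add_right, hzW w hwW, zero_add] at hzb'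
      exact hzb'
    rw [← eichG_mul hz (hzW w hwW) hzu]
    exact M.mul_mem ((hmemC w).mp (hall w hwW)).2
      (eich_mem_of_right hΩ W U hWU M hHM hzU huU hz hzu)
  -- the second centre
  have hz'b₀ : polar Q z' (z₂ + z₂') = 0 := by rw [polar_add_right, hz'z₂, hz'z₂', add_zero]
  have hb₀ : Q (z₂ + z₂') = 1 := by rw [Q_add' Q, hz₂, hz₂', hz₂z₂']; ring
  have hhM : eichG Q z' (z₂ + z₂') ∈ M :=
    eich_mem_of_right hΩ W U hWU M hHM hz'U (U.add_mem hz₂U hz₂'U) hz' hz'b₀
  have hz''R : eichG Q z' (z₂ + z₂') • z ∈ Rt M := rt_smul M _ hhM z hzR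
  have hzz'' : polar Q z (eichG Q z' (z₂ + z₂') • z) ≠ 0 := by
    rw [eichG_smul hz' hz'b₀, polar_eich_diag z hz, hb₀, polar_comm Q z' z, hzz']
    norm_num
  apply le_antisymm hMΩ
  rw [hΩ]
  exact eichGroup_le M (fun x hx0 hx =>
    rt_all hQ (hdim_of_card hn) M z _ hzR hz''R hzz'' x hx0 hx)

include hQ hΩ hWU hdec hU in
theorem nondeg_ne_top (hW0 : ∃ w ∈ W, w ≠ 0) :
    ∃ g ∈ Cfsg.Omega F (⇑Q), g ∉ StabG Q W := by
  obtain ⟨w₁, hw₁W, hw₁0⟩ := hW0
  obtain ⟨z, hzU, hz0, hz⟩ := exists_sing_in Q U (by omega)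
  obtain ⟨z', z₂, z₂', hz'U, hz₂U, hz₂'U, hz', hz₂, hz₂', hzz', hz₂z₂', hzz₂, hzz₂', hz'z₂,
    hz'z₂'⟩ := exists_frame hQ W U hWU hdec hU hzU hz0 hz
  have hzw₁ : polar Q z w₁ = 0 := by rw [polar_comm]; exact hWU w₁ hw₁W z hzU
  refine ⟨eichG Q z w₁, by rw [hΩ]; exact eichG_mem hz hzw₁, fun hS => ?_⟩
  have hSU := stab_right_of_left hQ W U hWU hdec _ hS
  have h1 := ((mem_stabG_iff U _).mp hSU z').mp hz'U
  rw [eichG_smul hz hzw₁, eich_apply, hWU w₁ hw₁W z' hz'U, hzz'] at h1
  have h2 : w₁ ∈ U := by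
    have h3 : z' + ((0 : F) • z - (1 : F) • w₁ - Q w₁ • (1 : F) • z) =
        z' - Q w₁ • z - w₁ := by
      rw [zero_smul, one_smul, one_smul]
      abel
    rw [h3] at h1
    have := U.sub_mem (U.sub_mem hz'U (U.smul_mem (Q w₁) hzU)) h1
    rwa [sub_sub_cancel] at this
  exact hw₁0 (inter_eq_zero hQ W U hWU hdec w₁ hw₁W h2)

include hQ hΩ hex hWU hdec hU in
/-- **maximality of the stabiliser of a non-degenerate subspace** in `Ω` -/
theorem maximal_nondeg (hn : 3 ≤ Fintype.card ι) (hW0 : ∃ w ∈ W, w ≠ 0)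
    (hno : ¬ ∃ g : Cfsg.isometryGroup F (⇑Q), ∀ u ∈ U, g • u ∈ W)
    (hexc : ¬ (Fintype.card F ≤ 3 ∧ Module.finrank F W ≤ 2 ∧ ∃ s ∈ W, s ≠ 0 ∧ Q s = 0)) :
    Cfsg.Geo.IsMaximalIn (Cfsg.Geo.omegaGL (⇑Q))
      (Cfsg.Geo.subspaceStabilizer W ⊓ Cfsg.Geo.omegaGL (⇑Q)) ∧
    Cfsg.Geo.IsMaximalIn (Cfsg.Geo.omegaGL (⇑Q))
      (Cfsg.Geo.subspaceStabilizer U ⊓ Cfsg.Geo.omegaGL (⇑Q)) := by
  have hinj : Function.Injective (Cfsg.isometryGroup F (⇑Q)).subtype := Subtype.val_injective
  have h1 : Cfsg.Geo.subspaceStabilizer W ⊓ Cfsg.Geo.omegaGL (⇑Q) =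
      (StabG Q W ⊓ Cfsg.Omega F (⇑Q)).map (Cfsg.isometryGroup F (⇑Q)).subtype := by
    unfold Cfsg.Geo.omegaGL StabG
    exact inf_map_eq _ hinj _ _
  have h2 : Cfsg.Geo.subspaceStabilizer U ⊓ Cfsg.Geo.omegaGL (⇑Q) =
      (StabG Q U ⊓ Cfsg.Omega F (⇑Q)).map (Cfsg.isometryGroup F (⇑Q)).subtype := by
    unfold Cfsg.Geo.omegaGL StabG
    exact inf_map_eq _ hinj _ _
  have h3 : StabG Q U ⊓ Cfsg.Omega F (⇑Q) = StabG Q W ⊓ Cfsg.Omega F (⇑Q) := by
    ext g
    constructor
    · rintro ⟨ha, hb⟩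
      exact ⟨stab_left_of_right hQ W U hWU hdec g ha, hb⟩
    · rintro ⟨ha, hb⟩
      exact ⟨stab_right_of_left hQ W U hWU hdec g ha, hb⟩
  have main : Cfsg.Geo.IsMaximalIn (Cfsg.Geo.omegaGL (⇑Q))
      (Cfsg.Geo.subspaceStabilizer W ⊓ Cfsg.Geo.omegaGL (⇑Q)) := by
    rw [h1]
    unfold Cfsg.Geo.omegaGL
    apply maximal_map _ hinj
    refine ⟨?_, fun M hHM hMΩ => ?_⟩
    · apply lt_of_le_of_ne inf_le_right
      intro heq
      obtain ⟨g, hgΩ, hgS⟩ := nondeg_ne_top hQ hΩ W U hWU hdec hU hW0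
      rw [← heq] at hgΩ
      exact hgS hgΩ.1
    · by_cases hM : M = StabG Q W ⊓ Cfsg.Omega F (⇑Q)
      · left; exact hM
      · right
        exact nondeg_top hQ hΩ hex W U hWU hdec hU M hHM hn hno hexc hMΩ hM
  refine ⟨main, ?_⟩
  rw [h2, h3, ← h1]
  exact main

end main

end Cfsg.Agent.Helper28.OrthNondeg
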