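import Mathlib
import Cfsg.Agent.Lib.Helper28.OrthNondeg

set_option autoImplicit false
set_option linter.unusedSectionVars false

/-! Glue between the abstract maximality theorem for stabilisers of non-degenerate subspaces and the
statements (helper28). -/

namespace Cfsg.Agent.Helper28.OrthNondegGlue

open QuadraticMap Matrix Cfsg.Agent.Helper28.Siegel Cfsg.Agent.Helper28.WittQuad
  Cfsg.Agent.Helper17.Spinor Cfsg.Agent.Helper2.Orth Cfsg.Agent.Helper28.OrthRoot
  Cfsg.Agent.Helper28.OrthNonsingPt Cfsg.Agent.Helper17.OmegaElts Cfsg.Agent.Helper28.OrthNondeg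

variable {F : Type*} [Field F] [Fintype F] {ι : Type} [Fintype ι] [DecidableEq ι]
  {Q : QuadraticForm F (ι → F)}

/-- a non-degenerate subspace and its orthogonal complement decompose the space -/
theorem compl_data (hQ : (polarBilin Q).Nondegenerate) (W₀ : Submodule F (ι → F))
    (hW₀ : Cfsg.Geo.IsNondegenerateOn (polar (⇑Q)) W₀) :
    (∀ w ∈ W₀, ∀ u ∈ LinearMap.BilinForm.orthogonal (polarBilin Q) W₀, polar Q w u = 0) ∧
    (∀ v : ι → F, ∃ w ∈ W₀, ∃ u ∈ LinearMap.BilinForm.orthogonal (polarBilin Q) W₀, v = w + u) ∧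
    Module.finrank F W₀ + Module.finrank F (LinearMap.BilinForm.orthogonal (polarBilin Q) W₀) =
      Fintype.card ι := by
  have h1 : ∀ w ∈ W₀, ∀ u ∈ LinearMap.BilinForm.orthogonal (polarBilin Q) W₀, polar Q w u = 0 := by
    intro w hw u hu
    exact (mem_orthogonal_iff' Q _ u).1 hu w hw
  have hdisj : W₀ ⊓ LinearMap.BilinForm.orthogonal (polarBilin Q) W₀ = ⊥ := by
    rw [eq_bot_iff]
    rintro x ⟨hxW, hxU⟩
    rw [Submodule.mem_bot]
    by_contra hx0
    obtain ⟨⟨y, hy, hyx⟩, -⟩ := hW₀ x hxW hx0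
    exact hyx (h1 y hy x hxU)
  have hfr := LinearMap.BilinForm.finrank_orthogonal hQ W₀
  rw [Module.finrank_fintype_fun_eq_card] at hfr
  have hle := Submodule.finrank_le W₀
  rw [Module.finrank_fintype_fun_eq_card] at hle
  have hsum : Module.finrank F W₀ +
      Module.finrank F (LinearMap.BilinForm.orthogonal (polarBilin Q) W₀) = Fintype.card ι := by
    omega
  have hsup := Submodule.finrank_sup_add_finrank_inf_eq W₀
    (LinearMap.BilinForm.orthogonal (polarBilin Q) W₀)
  rw [hdisj, finrank_bot, add_zero, hsum] at hsup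
  have htop : W₀ ⊔ LinearMap.BilinForm.orthogonal (polarBilin Q) W₀ = ⊤ := by
    apply Submodule.eq_top_of_finrank_eq
    rw [hsup, Module.finrank_fintype_fun_eq_card]
  refine ⟨h1, ?_, hsum⟩
  intro v
  have hv : v ∈ W₀ ⊔ LinearMap.BilinForm.orthogonal (polarBilin Q) W₀ := by
    rw [htop]; exact Submodule.mem_top
  obtain ⟨w, hw, u, hu, hwu⟩ := Submodule.mem_sup.mp hv
  exact ⟨w, hw, u, hu, hwu.symm⟩

/-- the linear map induced by an isometry mapping `U` into `W` -/
noncomputable def resMap (g : Cfsg.isometryGroup F (⇑Q)) (W U : Submodule F (ι → F))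
    (h : ∀ u ∈ U, g • u ∈ W) : U →ₗ[F] W :=
  ((toEnd Q g).domRestrict U).codRestrict W (fun u => h u u.2)

theorem resMap_apply (g : Cfsg.isometryGroup F (⇑Q)) (W U : Submodule F (ι → F))
    (h : ∀ u ∈ U, g • u ∈ W) (u : U) : ((resMap g W U h u : W) : ι → F) = g • (u : ι → F) := rfl

theorem resMap_injective (g : Cfsg.isometryGroup F (⇑Q)) (W U : Submodule F (ι → F))
    (h : ∀ u ∈ U, g • u ∈ W) : Function.Injective (resMap g W U h) := by
  intro a b hab
  have h1 := congrArg (fun x : W => (x : ι → F)) hab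
  simp only [resMap_apply] at h1
  exact Subtype.ext (smul_left_cancel' g h1)

theorem no_map_of_finrank_lt (W U : Submodule F (ι → F))
    (hlt : Module.finrank F W < Module.finrank F U) :
    ¬ ∃ g : Cfsg.isometryGroup F (⇑Q), ∀ u ∈ U, g • u ∈ W := by
  rintro ⟨g, hg⟩
  have := LinearMap.finrank_le_finrank_of_injective (resMap_injective g W U hg)
  omega

theorem isometric_of_map (W U : Submodule F (ι → F))
    (heq : Module.finrank F U = Module.finrank F W) (g : Cfsg.isometryGroup F (⇑Q))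
    (hg : ∀ u ∈ U, g • u ∈ W) : Cfsg.Geo.AreIsometricFor (⇑Q) U W := by
  have hbij : Function.Bijective (resMap g W U hg) :=
    ⟨resMap_injective g W U hg,
      (LinearMap.injective_iff_surjective_of_finrank_eq_finrank heq).mp (resMap_injective g W U hg)⟩
  refine ⟨LinearEquiv.ofBijective (resMap g W U hg) hbij, fun u => ?_⟩
  rw [LinearEquiv.ofBijective_apply, resMap_apply, Q_smul Q]

theorem areIsometric_symm {W U : Submodule F (ι → F)} (h : Cfsg.Geo.AreIsometricFor (⇑Q) U W) :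
    Cfsg.Geo.AreIsometricFor (⇑Q) W U := by
  obtain ⟨e, he⟩ := h
  refine ⟨e.symm, fun w => ?_⟩
  have := he (e.symm w)
  rw [LinearEquiv.apply_symm_apply] at this
  exact this.symm

theorem finrank_eq_two_of_sing (S : Submodule F (ι → F))
    (hnd : ∀ s ∈ S, (∀ s' ∈ S, polar Q s s' = 0) → s = 0) {s : ι → F} (hs : s ∈ S)
    (hs0 : s ≠ 0) (hsQ : Q s = 0) (hle : Module.finrank F S ≤ 2) : Module.finrank F S = 2 := by
  by_contra hne
  have h1 : Module.finrank F S ≤ 1 := by omega
  rw [finrank_le_one_iff] at h1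
  obtain ⟨⟨v, hvS⟩, hv⟩ := h1
  apply hs0
  apply hnd s hs
  intro s' hs'
  obtain ⟨c, hc⟩ := hv ⟨s, hs⟩
  obtain ⟨c', hc'⟩ := hv ⟨s', hs'⟩
  have hc1 : c • v = s := congrArg Subtype.val hc
  have hc2 : c' • v = s' := congrArg Subtype.val hc'
  have hcv : c = 0 ∨ Q v = 0 := by
    have : Q (c • v) = 0 := by rw [hc1]; exact hsQ
    rw [QuadraticMap.map_smul, smul_eq_mul] at this
    rcases mul_eq_zero.mp this with h | h
    · left
      exact mul_self_eq_zero.mp h
    · right; exact h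
  rw [← hc1, ← hc2, polar_smul_left, polar_smul_right]
  rcases hcv with h | h
  · rw [h, zero_smul]
  · rw [Cfsg.Agent.Helper2.Orth.polar_self_of_singular Q h, smul_zero, smul_zero]

theorem plusType_of_sing (S : Submodule F (ι → F)) {s : ι → F} (hs : s ∈ S)
    (hs0 : s ≠ 0) (hsQ : Q s = 0) (h2 : Module.finrank F S = 2) :
    Cfsg.Geo.IsPlusTypeOn (⇑Q) S := by
  refine ⟨Submodule.span F {s}, ?_, ?_, ?_⟩
  · rw [Submodule.span_le]
    intro x hx
    rw [Set.mem_singleton_iff] at hx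
    rw [hx]
    exact hs
  · intro w hw
    obtain ⟨c, rfl⟩ := Submodule.mem_span_singleton.mp hw
    rw [QuadraticMap.map_smul, hsQ, smul_zero]
  · rw [finrank_span_singleton hs0, h2]

theorem nondegOn_of (S : Submodule F (ι → F))
    (hnd : ∀ s ∈ S, (∀ s' ∈ S, polar Q s s' = 0) → s = 0) :
    Cfsg.Geo.IsNondegenerateOn (polar (⇑Q)) S := by
  intro w hw hw0
  have : ∃ x ∈ S, polar Q w x ≠ 0 := by
    by_contra hcon
    push Not at hcon
    exact hw0 (hnd w hw hcon)
  obtain ⟨x, hx, hwx⟩ := this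
  exact ⟨⟨x, hx, by rw [polar_comm]; exact hwx⟩, ⟨x, hx, hwx⟩⟩

end Cfsg.Agent.Helper28.OrthNondegGlue
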