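import Mathlib
import Cfsg.Agent.Lib.Helper28.OrthNondeg

set_option autoImplicit false
set_option linter.unusedSectionVars false

/-! The stabiliser in `Ω` of a pair of complementary totally singular subspaces (helper28). -/

namespace Cfsg.Agent.Helper28.OrthTsPair

open QuadraticMap Matrix Cfsg.Agent.Helper28.Siegel Cfsg.Agent.Helper28.WittQuad
  Cfsg.Agent.Helper17.Spinor Cfsg.Agent.Helper2.Orth Cfsg.Agent.Helper28.OrthRoot
  Cfsg.Agent.Helper28.OrthNonsingPt Cfsg.Agent.Helper17.OmegaElts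

section general

variable {F : Type*} [Field F] [Fintype F] {ι : Type} [Fintype ι] [DecidableEq ι]
  {Q : QuadraticForm F (ι → F)} (hQ : (polarBilin Q).Nondegenerate)

include hQ in
/-- a vector outside a subspace is separated from it by the polar form -/
theorem exists_sep (S : Submodule F (ι → F)) (y : ι → F) (hy : y ∉ S) :
    ∃ v : ι → F, (∀ s ∈ S, polar Q s v = 0) ∧ polar Q y v = 1 := by
  by_contra hcon
  push Not at hcon
  apply hy
  have hrefl : (polarBilin Q).IsRefl := by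
    intro a b h
    show polar Q b a = 0
    rw [polar_comm]
    exact h
  rw [← LinearMap.BilinForm.orthogonal_orthogonal hQ hrefl S, mem_orthogonal_iff']
  intro v hv
  rw [mem_orthogonal_iff'] at hv
  by_contra hne
  have hne' : polar Q y v ≠ 0 := by rw [polar_comm]; exact hne
  apply hcon ((polar Q y v)⁻¹ • v)
  · intro s hs
    rw [polar_smul_right, hv s hs, smul_zero]
  · rw [polar_smul_right, smul_eq_mul, inv_mul_cancel₀ hne']

theorem exists_not_mem_of_finrank_lt (A B : Submodule F (ι → F))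
    (h : Module.finrank F B < Module.finrank F A) : ∃ c ∈ A, c ∉ B := by
  by_contra hcon
  push Not at hcon
  have : A ≤ B := hcon
  have := Submodule.finrank_mono this
  omega

include hQ in
theorem exists_perp_not_mem (A B : Submodule F (ι → F)) (x y : ι → F)
    (h : Module.finrank F B + 2 < Module.finrank F A) :
    ∃ c ∈ A, polar Q x c = 0 ∧ polar Q y c = 0 ∧ c ∉ B := by
  have hP := finrank_span_pair_le (F := F) x y
  have hfr := LinearMap.BilinForm.finrank_orthogonal hQ (Submodule.span F ({x, y} : Set (ι → F)))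
  rw [Module.finrank_fintype_fun_eq_card] at hfr
  have h1 := Submodule.finrank_sup_add_finrank_inf_eq A
    (LinearMap.BilinForm.orthogonal (polarBilin Q) (Submodule.span F ({x, y} : Set (ι → F))))
  have h2 := Submodule.finrank_le (A ⊔
    (LinearMap.BilinForm.orthogonal (polarBilin Q) (Submodule.span F ({x, y} : Set (ι → F)))))
  rw [Module.finrank_fintype_fun_eq_card] at h2
  obtain ⟨c, hc, hcB⟩ := exists_not_mem_of_finrank_lt (A ⊓
    (LinearMap.BilinForm.orthogonal (polarBilin Q) (Submodule.span F ({x, y} : Set (ι → F))))) B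
    (by omega)
  have hso := (mem_orthogonal_iff' Q _ c).1 hc.2
  exact ⟨c, hc.1, hso x (Submodule.subset_span (by simp)),
    hso y (Submodule.subset_span (by simp)), hcB⟩

end general

section pair

variable {F : Type*} [Field F] [Fintype F] {ι : Type} [Fintype ι] [DecidableEq ι]
  {Q : QuadraticForm F (ι → F)} (hQ : (polarBilin Q).Nondegenerate)
  (U U' : Submodule F (ι → F)) (hU : ∀ u ∈ U, Q u = 0) (hU' : ∀ u ∈ U', Q u = 0)
  (hdec : ∀ v : ι → F, ∃ u ∈ U, ∃ u' ∈ U', v = u + u')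

include hU in
theorem polar_UU {u v : ι → F} (hu : u ∈ U) (hv : v ∈ U) : polar Q u v = 0 := by
  unfold polar
  simp only [hU _ (U.add_mem hu hv), hU u hu, hU v hv, sub_zero]

include hQ hU hU' hdec in
theorem inter_zero {x : ι → F} (hx : x ∈ U) (hx' : x ∈ U') : x = 0 := by
  apply hQ.1
  intro v
  show polar Q x v = 0
  obtain ⟨u, hu, u', hu', rfl⟩ := hdec v
  rw [polar_add_right, polar_UU U hU hx hu, polar_UU U' hU' hx' hu', add_zero]

include hQ hU hU' hdec in
theorem comp_unique {u₁ u₂ u₁' u₂' : ι → F} (h₁ : u₁ ∈ U) (h₂ : u₂ ∈ U) (h₁' : u₁' ∈ U')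
    (h₂' : u₂' ∈ U') (h : u₁ + u₁' = u₂ + u₂') : u₁ = u₂ ∧ u₁' = u₂' := by
  have e : u₁ - u₂ = u₂' - u₁' := by
    rw [sub_eq_sub_iff_add_eq_add, add_comm u₂' u₂, ← h]
  have h0 : u₁ - u₂ = 0 := inter_zero hQ U U' hU hU' hdec (U.sub_mem h₁ h₂) (by
    rw [e]; exact U'.sub_mem h₂' h₁')
  refine ⟨sub_eq_zero.mp h0, ?_⟩
  rw [h0] at e
  exact (sub_eq_zero.mp e.symm).symm

include hQ hU hdec in
theorem exists_dual {u : ι → F} (hu : u ∈ U) (hu0 : u ≠ 0) : ∃ u' ∈ U', polar Q u u' = 1 := by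
  have hv : ∃ v, polar Q u v ≠ 0 := by
    by_contra hcon
    push Not at hcon
    exact hu0 (hQ.1 u hcon)
  obtain ⟨v, hv⟩ := hv
  obtain ⟨a, ha, a', ha', rfl⟩ := hdec v
  rw [polar_add_right, polar_UU U hU hu ha, zero_add] at hv
  refine ⟨(polar Q u a')⁻¹ • a', U'.smul_mem _ ha', ?_⟩
  rw [polar_smul_right, smul_eq_mul, inv_mul_cancel₀ hv]

include hQ hU hdec in
/-- separation inside `U` by a vector of `U'` -/
theorem exists_sepU' (S : Submodule F (ι → F)) (hS : S ≤ U) {y : ι → F} (hy : y ∈ U)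
    (hyS : y ∉ S) : ∃ d ∈ U', (∀ s ∈ S, polar Q s d = 0) ∧ polar Q y d = 1 := by
  obtain ⟨v, hv, hyv⟩ := exists_sep hQ S y hyS
  obtain ⟨a, ha, a', ha', rfl⟩ := hdec v
  refine ⟨a', ha', fun s hs => ?_, ?_⟩
  · have := hv s hs
    rwa [polar_add_right, polar_UU U hU (hS hs) ha, zero_add] at this
  · rwa [polar_add_right, polar_UU U hU hy ha, zero_add] at hyv

include hQ hU hdec in
theorem exists_sep2 {c x : ι → F} (hc : c ∈ U) (hx : x ∈ U) (hxc : ∀ β : F, x ≠ β • c) :
    ∃ d ∈ U', polar Q c d = 0 ∧ polar Q x d = 1 := by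
  obtain ⟨d, hd, hS, hxd⟩ := exists_sepU' hQ U U' hU hdec (Submodule.span F {c})
    (by rw [Submodule.span_le]; intro z hz; rw [Set.mem_singleton_iff] at hz; rw [hz]; exact hc)
    hx (by
      intro h
      obtain ⟨β, hβ⟩ := Submodule.mem_span_singleton.mp h
      exact hxc β hβ.symm)
  exact ⟨d, hd, hS c (Submodule.mem_span_singleton_self c), hxd⟩

include hQ hU hdec in
/-- one root element with centre and direction in `U` forces all root elements with that centre -/
theorem rt_of_start (hk : 4 ≤ Module.finrank F U) (M : Subgroup (Cfsg.isometryGroup F (⇑Q)))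
    (hM : ∀ a ∈ U, ∀ b ∈ U', polar Q a b = 0 → eichG Q a b ∈ M)
    {c x : ι → F} (hc : c ∈ U) (hx : x ∈ U) (hc0 : c ≠ 0) (hxc : ∀ β : F, x ≠ β • c)
    (hE : eichG Q c x ∈ M) : c ∈ Rt M := by
  have hcQ : Q c = 0 := hU c hc
  have hLadd : ∀ b b' : ι → F, (polar Q c b = 0 ∧ eichG Q c b ∈ M) →
      (polar Q c b' = 0 ∧ eichG Q c b' ∈ M) → (polar Q c (b + b') = 0 ∧ eichG Q c (b + b') ∈ M) := by
    intro b b' hb hb'
    refine ⟨by rw [polar_add_right, hb.1, hb'.1, add_zero], ?_⟩
    rw [← eichG_mul hcQ hb.1 hb'.1]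
    exact M.mul_mem hb.2 hb'.2
  have hLneg : ∀ b : ι → F, (polar Q c b = 0 ∧ eichG Q c b ∈ M) →
      (polar Q c (-b) = 0 ∧ eichG Q c (-b) ∈ M) := by
    intro b hb
    refine ⟨by rw [polar_neg_right, hb.1, neg_zero], ?_⟩
    rw [← eichG_inv hcQ hb.1]
    exact M.inv_mem hb.2
  have hLsub : ∀ b b' : ι → F, (polar Q c b = 0 ∧ eichG Q c b ∈ M) →
      (polar Q c b' = 0 ∧ eichG Q c b' ∈ M) → (polar Q c (b - b') = 0 ∧ eichG Q c (b - b') ∈ M) := by
    intro b b' hb hb'
    rw [sub_eq_add_neg]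
    exact hLadd _ _ hb (hLneg _ hb')
  have hLconj : ∀ h ∈ M, h • c = c → ∀ b : ι → F, (polar Q c b = 0 ∧ eichG Q c b ∈ M) →
      (polar Q c (h • b) = 0 ∧ eichG Q c (h • b) ∈ M) := by
    intro h hh hfix b hb
    have h1 : polar Q c (h • b) = 0 := by
      have := polar_smul_smul Q h c b
      rw [hfix] at this
      rw [this]
      exact hb.1
    refine ⟨h1, ?_⟩
    have := eichG_conj h hcQ hb.1
    rw [hfix] at this
    rw [← this]
    exact M.mul_mem (M.mul_mem hh hb.2) (M.inv_mem hh)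
  have key : ∀ x₀ ∈ U, (polar Q c x₀ = 0 ∧ eichG Q c x₀ ∈ M) → ∀ b' ∈ U', polar Q c b' = 0 →
      polar Q x₀ b' = 1 → ∀ a' ∈ U, polar Q a' b' = 0 →
      (polar Q c a' = 0 ∧ eichG Q c a' ∈ M) := by
    intro x₀ hx₀ hLx₀ b' hb' hcb' hx₀b' a' ha' ha'b'
    have hh : eichG Q a' b' ∈ M := hM a' ha' b' hb' ha'b'
    have hfix : eichG Q a' b' • c = c := by
      rw [eichG_smul (hU a' ha') ha'b', eich_apply, polar_comm Q b' c, hcb',
        polar_UU U hU ha' hc]
      simp
    have hx₀' : eichG Q a' b' • x₀ = x₀ + a' := by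
      rw [eichG_smul (hU a' ha') ha'b', eich_apply, polar_comm Q b' x₀, hx₀b',
        polar_UU U hU ha' hx₀]
      simp
    have h1 := hLconj _ hh hfix x₀ hLx₀
    rw [hx₀'] at h1
    have h2 := hLsub _ _ h1 hLx₀
    rwa [add_sub_cancel_left] at h2
  obtain ⟨b', hb', hcb', hxb'⟩ := exists_sep2 hQ U U' hU hdec hc hx hxc
  have hL₁ := key x hx ⟨polar_UU U hU hc hx, hE⟩ b' hb' hcb' hxb'
  have hfs : Module.finrank F (Submodule.span F {c}) = 1 := finrank_span_singleton hc0
  obtain ⟨x₂, hx₂, hb'x₂, -, hx₂S⟩ := exists_perp_not_mem hQ U (Submodule.span F {c}) b' b'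
    (by omega)
  have hx₂c : ∀ β : F, x₂ ≠ β • c := by
    intro β hβ
    apply hx₂S
    rw [hβ]
    exact Submodule.smul_mem _ _ (Submodule.mem_span_singleton_self c)
  have hx₂b' : polar Q x₂ b' = 0 := by rw [polar_comm]; exact hb'x₂
  have hLx₂ := hL₁ x₂ hx₂ hx₂b'
  obtain ⟨b'', hb'', hcb'', hx₂b''⟩ := exists_sep2 hQ U U' hU hdec hc hx₂ hx₂c
  have hL₂ := key x₂ hx₂ hLx₂ b'' hb'' hcb'' hx₂b''
  have hLU : ∀ a ∈ U, (polar Q c a = 0 ∧ eichG Q c a ∈ M) := by
    intro a ha
    have h1 := hL₂ (a - polar Q a b'' • x₂) (U.sub_mem ha (U.smul_mem _ hx₂)) (by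
      rw [polar_sub_left, polar_smul_left, hx₂b'', smul_eq_mul, mul_one, sub_self])
    have h2 := hL₁ (polar Q a b'' • x₂) (U.smul_mem _ hx₂) (by
      rw [polar_smul_left, hx₂b', smul_zero])
    have := hLadd _ _ h1 h2
    rwa [sub_add_cancel] at this
  refine ⟨hc0, hcQ, fun b hb => ?_⟩
  obtain ⟨a, ha, a', ha', rfl⟩ := hdec b
  have hca' : polar Q c a' = 0 := by
    rw [polar_add_right, polar_UU U hU hc ha, zero_add] at hb
    exact hb
  exact (hLadd _ _ (hLU a ha) ⟨hca', hM c hc a' ha' hca'⟩).2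

include hQ hU hdec in
/-- the root property spreads over all of `U` -/
theorem rt_all_U (M : Subgroup (Cfsg.isometryGroup F (⇑Q)))
    (hM : ∀ a ∈ U, ∀ b ∈ U', polar Q a b = 0 → eichG Q a b ∈ M)
    {c : ι → F} (hc : c ∈ U) (hcR : c ∈ Rt M) {z : ι → F} (hz : z ∈ U) (hz0 : z ≠ 0) :
    z ∈ Rt M := by
  by_cases hdep : ∃ β : F, z = β • c
  · obtain ⟨β, rfl⟩ := hdep
    have hβ : β ≠ 0 := by
      intro h
      apply hz0
      rw [h, zero_smul]
    exact rt_scalar M β hβ c hcR
  · push Not at hdep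
    have hdep' : ∀ β : F, c ≠ β • z := by
      intro β hβ
      have hβ0 : β ≠ 0 := by
        intro h
        apply hcR.1
        rw [hβ, h, zero_smul]
      apply hdep β⁻¹
      rw [hβ, smul_smul, inv_mul_cancel₀ hβ0, one_smul]
    obtain ⟨b₁, hb₁, hcb₁, hzb₁⟩ := exists_sep2 hQ U U' hU hdec hc hz hdep
    obtain ⟨b₂, hb₂, hzb₂, hcb₂⟩ := exists_sep2 hQ U U' hU hdec hz hc hdep'
    have hab : polar Q (z - c) (b₁ + b₂) = 0 := by
      rw [polar_sub_left, polar_add_right, polar_add_right, hcb₁, hzb₁, hzb₂, hcb₂]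
      ring
    have hh : eichG Q (z - c) (b₁ + b₂) ∈ M :=
      hM _ (U.sub_mem hz hc) _ (U'.add_mem hb₁ hb₂) hab
    have himg : eichG Q (z - c) (b₁ + b₂) • c = z := by
      rw [eichG_smul (hU _ (U.sub_mem hz hc)) hab, eich_apply, polar_comm Q (b₁ + b₂) c,
        polar_add_right, hcb₁, hcb₂, polar_UU U hU (U.sub_mem hz hc) hc]
      simp
    rw [← himg]
    exact rt_smul M _ hh c hcR

include hQ hU hU' hdec in
/-- a root element of `M` on a line missing `U'` gives a root element with centre and direction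
in `U` -/
theorem start_of_line (hk : 5 ≤ Module.finrank F U) (M : Subgroup (Cfsg.isometryGroup F (⇑Q)))
    (hM : ∀ a ∈ U, ∀ b ∈ U', polar Q a b = 0 → eichG Q a b ∈ M)
    {x y x₁ x₁' y₁ y₁' : ι → F} (hx₁ : x₁ ∈ U) (hx₁' : x₁' ∈ U') (hy₁ : y₁ ∈ U) (hy₁' : y₁' ∈ U')
    (hx : x = x₁ + x₁') (hy : y = y₁ + y₁') (hxQ : Q x = 0) (hyQ : Q y = 0)
    (hxy : polar Q x y = 0) (hE : eichG Q x y ∈ M)
    (hind : ∀ α β : F, α • x₁ + β • y₁ = 0 → α = 0 ∧ β = 0) :
    ∃ c ∈ U, ∃ x₀ ∈ U, c ≠ 0 ∧ (∀ β : F, x₀ ≠ β • c) ∧ eichG Q c x₀ ∈ M := by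
  have hP := finrank_span_pair_le (F := F) x₁ y₁
  obtain ⟨c, hc, hxc, hyc, hcS⟩ := exists_perp_not_mem hQ U
    (Submodule.span F ({x₁, y₁} : Set (ι → F))) x y (by omega)
  have hcQ : Q c = 0 := hU c hc
  have hc0 : c ≠ 0 := by
    intro h
    apply hcS
    rw [h]
    exact Submodule.zero_mem _
  have hx₁0 : x₁ ≠ 0 := by
    intro h
    have := (hind 1 0 (by rw [h, smul_zero, zero_smul, add_zero])).1
    exact one_ne_zero this
  have hx₁c : ∀ β : F, x₁ ≠ β • c := by
    intro β hβ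
    have hβ0 : β ≠ 0 := by
      intro h
      apply hx₁0
      rw [hβ, h, zero_smul]
    apply hcS
    have : c = β⁻¹ • x₁ := by rw [hβ, smul_smul, inv_mul_cancel₀ hβ0, one_smul]
    rw [this]
    exact Submodule.smul_mem _ _ (Submodule.subset_span (by simp))
  have hy₁S : y₁ ∉ Submodule.span F ({c, x₁} : Set (ι → F)) := by
    intro h
    obtain ⟨α, β, hαβ⟩ := Submodule.mem_span_pair.mp h
    by_cases hα : α = 0
    · rw [hα, zero_smul, zero_add] at hαβ
      have := (hind β (-1) (by rw [hαβ, neg_smul, one_smul, add_neg_cancel])).2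
      exact one_ne_zero (neg_eq_zero.mp this)
    · apply hcS
      have : c = α⁻¹ • (y₁ - β • x₁) := by
        rw [← hαβ, add_sub_cancel_right, smul_smul, inv_mul_cancel₀ hα, one_smul]
      rw [this]
      exact Submodule.smul_mem _ _ (Submodule.sub_mem _ (Submodule.subset_span (by simp))
        (Submodule.smul_mem _ _ (Submodule.subset_span (by simp))))
  obtain ⟨d, hd, hSd, hy₁d⟩ := exists_sepU' hQ U U' hU hdec
    (Submodule.span F ({c, x₁} : Set (ι → F))) (by
      rw [Submodule.span_le]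
      intro z hz
      rcases hz with rfl | hz
      · exact hc
      · rw [Set.mem_singleton_iff] at hz
        rw [hz]; exact hx₁) hy₁ hy₁S
  have hcd : polar Q c d = 0 := hSd c (Submodule.subset_span (by simp))
  have hx₁d : polar Q x₁ d = 0 := hSd x₁ (Submodule.subset_span (by simp))
  have hxd : polar Q x d = 0 := by
    rw [hx, polar_add_left, hx₁d, polar_UU U' hU' hx₁' hd, add_zero]
  have hyd : polar Q y d = 1 := by
    rw [hy, polar_add_left, hy₁d, polar_UU U' hU' hy₁' hd, add_zero]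
  have hEc : eichG Q x y • c = c := by
    rw [eichG_smul hxQ hxy, eich_apply, hyc, hxc]
    simp
  have hEd : eichG Q x y • d = d + x := by
    rw [eichG_smul hxQ hxy, eich_apply, hyd, hxd]
    simp
  have h1 : eichG Q c (d + x) ∈ M := by
    have := eichG_conj (eichG Q x y) hcQ hcd
    rw [hEc, hEd] at this
    rw [← this]
    exact M.mul_mem (M.mul_mem hE (hM c hc d hd hcd)) (M.inv_mem hE)
  have hcx : polar Q c x = 0 := by rw [polar_comm]; exact hxc
  have h2 : eichG Q c x ∈ M := by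
    have := eichG_mul hcQ hcd hcx
    have e : eichG Q c x = (eichG Q c d)⁻¹ * eichG Q c (d + x) := by
      rw [← this, inv_mul_cancel_left]
    rw [e]
    exact M.mul_mem (M.inv_mem (hM c hc d hd hcd)) h1
  have hcx₁ : polar Q c x₁ = 0 := polar_UU U hU hc hx₁
  have hcx₁' : polar Q c x₁' = 0 := by
    rw [hx, polar_add_right, hcx₁, zero_add] at hcx
    exact hcx
  have h3 : eichG Q c x₁ ∈ M := by
    have := eichG_mul hcQ hcx₁ hcx₁'
    rw [← hx] at this
    have e : eichG Q c x₁ = eichG Q c x * (eichG Q c x₁')⁻¹ := by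
      rw [← this, mul_inv_cancel_right]
    rw [e]
    exact M.mul_mem h2 (M.inv_mem (hM c hc x₁' hx₁' hcx₁'))
  exact ⟨c, hc, x₁, hx₁, hc0, hx₁c, h3⟩

include hU hU' in
theorem maps_union (g : Cfsg.isometryGroup F (⇑Q)) (W : Submodule F (ι → F))
    (h : ∀ p ∈ W, g • p ∈ U ∨ g • p ∈ U') : (∀ p ∈ W, g • p ∈ U) ∨ (∀ p ∈ W, g • p ∈ U') := by
  by_contra hcon
  push Not at hcon
  obtain ⟨⟨p₁, hp₁, hp₁U⟩, ⟨p₂, hp₂, hp₂U'⟩⟩ := hcon
  have h1 : g • p₁ ∈ U' := (h p₁ hp₁).resolve_left hp₁U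
  have h2 : g • p₂ ∈ U := (h p₂ hp₂).resolve_right hp₂U'
  rcases h (p₁ + p₂) (W.add_mem hp₁ hp₂) with h3 | h3
  · rw [smul_add'] at h3
    apply hp₁U
    have := U.sub_mem h3 h2
    rwa [add_sub_cancel_right] at this
  · rw [smul_add'] at h3
    apply hp₂U'
    have := U'.sub_mem h3 h1
    rwa [add_sub_cancel_left] at this

include hQ hU hU' hdec in
/-- **a subgroup containing the root elements of the pair stabiliser, a swap and an element not
stabilising the pair contains all root elements** -/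
theorem pair_top (hk : 5 ≤ Module.finrank F U) (hk' : 5 ≤ Module.finrank F U')
    (hcard : 3 ≤ Fintype.card ι) (M : Subgroup (Cfsg.isometryGroup F (⇑Q)))
    (hM : ∀ a ∈ U, ∀ b ∈ U', polar Q a b = 0 → eichG Q a b ∈ M)
    (s : Cfsg.isometryGroup F (⇑Q)) (hsM : s ∈ M) (hsU : ∀ u ∈ U, s • u ∈ U')
    (hsU' : ∀ u' ∈ U', s • u' ∈ U) (g : Cfsg.isometryGroup F (⇑Q)) (hgM : g ∈ M)
    (hg1 : ¬ ((∀ u ∈ U, g • u ∈ U) ∧ (∀ u' ∈ U', g • u' ∈ U')))
    (hg2 : ¬ ((∀ u ∈ U, g • u ∈ U') ∧ (∀ u' ∈ U', g • u' ∈ U))) : eichGroup Q ≤ M := by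
  have hUne : ∃ u ∈ U, u ≠ 0 := by
    have hpos : 0 < Module.finrank F U := by omega
    obtain ⟨⟨w, hw⟩, hw0⟩ := Module.finrank_pos_iff_exists_ne_zero.mp hpos
    exact ⟨w, hw, fun h => hw0 (Subtype.ext h)⟩
  have hU'ne : ∃ u ∈ U', u ≠ 0 := by
    have hpos : 0 < Module.finrank F U' := by omega
    obtain ⟨⟨w, hw⟩, hw0⟩ := Module.finrank_pos_iff_exists_ne_zero.mp hpos
    exact ⟨w, hw, fun h => hw0 (Subtype.ext h)⟩
  -- step A: a point of `U` moved off both subspaces
  obtain ⟨g', hg'M, p, hp, hxU, hxU'⟩ : ∃ g' ∈ M, ∃ p ∈ U, g' • p ∉ U ∧ g' • p ∉ U' := by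
    by_contra hcon
    push Not at hcon
    have hA : ∀ p ∈ U, g • p ∈ U ∨ g • p ∈ U' := by
      intro p hp
      by_cases h : g • p ∈ U
      · left; exact h
      · right; exact hcon g hgM p hp h
    have hB : ∀ p' ∈ U', g • p' ∈ U ∨ g • p' ∈ U' := by
      intro p' hp'
      have e : (g * s⁻¹) • (s • p') = g • p' := by rw [mul_smul, inv_smul_smul]
      by_cases h : g • p' ∈ U
      · left; exact h
      · right
        have := hcon (g * s⁻¹) (M.mul_mem hgM (M.inv_mem hsM)) (s • p') (hsU' p' hp') (by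
          rw [e]; exact h)
        rwa [e] at this
    rcases maps_union U U' hU hU' g U hA with hA1 | hA2
    · rcases maps_union U U' hU hU' g U' hB with hB1 | hB2
      · have hst := mem_stabG_of_maps U g hA1
        obtain ⟨u', hu', hu'0⟩ := hU'ne
        apply hu'0
        exact inter_zero hQ U U' hU hU' hdec (((mem_stabG_iff U g).mp hst u').mpr (hB1 u' hu')) hu'
      · exact hg1 ⟨hA1, hB2⟩
    · rcases maps_union U U' hU hU' g U' hB with hB1 | hB2
      · exact hg2 ⟨hA2, hB1⟩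
      · have hst := mem_stabG_of_maps U' g hB2
        obtain ⟨u, hu, hu0⟩ := hUne
        apply hu0
        exact inter_zero hQ U U' hU hU' hdec hu (((mem_stabG_iff U' g).mp hst u).mpr (hA2 u hu))
  -- step B: a root element of `M` on a line missing `U'`
  obtain ⟨a₀, ha₀, b₀, hb₀, hxdec⟩ := hdec (g' • p)
  have ha₀0 : a₀ ≠ 0 := by
    intro h
    apply hxU'
    rw [hxdec, h, zero_add]
    exact hb₀
  have hb₀0 : b₀ ≠ 0 := by
    intro h
    apply hxU
    rw [hxdec, h, add_zero]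
    exact ha₀
  have hP := finrank_span_pair_le (F := F) (g'⁻¹ • a₀) (g'⁻¹ • b₀)
  obtain ⟨b, hb, hpb, -, hbS⟩ := exists_perp_not_mem hQ U'
    (Submodule.span F ({g'⁻¹ • a₀, g'⁻¹ • b₀} : Set (ι → F))) p p (by omega)
  have hyspan : ∀ α β : F, g' • b ≠ α • a₀ + β • b₀ := by
    intro α β h
    apply hbS
    have : b = α • g'⁻¹ • a₀ + β • g'⁻¹ • b₀ := by
      rw [← smul_smul', ← smul_smul', ← smul_add', ← h, inv_smul_smul]
    rw [this]
    exact Submodule.add_mem _ (Submodule.smul_mem _ _ (Submodule.subset_span (by simp)))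
      (Submodule.smul_mem _ _ (Submodule.subset_span (by simp)))
  have hpQ : Q p = 0 := hU p hp
  have hExy : eichG Q (g' • p) (g' • b) ∈ M := by
    rw [← eichG_conj g' hpQ hpb]
    exact M.mul_mem (M.mul_mem hg'M (hM p hp b hb hpb)) (M.inv_mem hg'M)
  have hxQ : Q (g' • p) = 0 := by rw [Q_smul Q, hpQ]
  have hyQ : Q (g' • b) = 0 := by rw [Q_smul Q, hU' b hb]
  have hxy : polar Q (g' • p) (g' • b) = 0 := by rw [polar_smul_smul Q, hpb]
  obtain ⟨y₁, hy₁, y₁', hy₁', hydec⟩ := hdec (g' • b)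
  obtain ⟨c, hc, x₀, hx₀, hc0, hx₀c, hE'⟩ : ∃ c ∈ U, ∃ x₀ ∈ U, c ≠ 0 ∧ (∀ β : F, x₀ ≠ β • c) ∧
      eichG Q c x₀ ∈ M := by
    by_cases hdep : ∃ β : F, y₁ = β • a₀
    · obtain ⟨β, hβ⟩ := hdep
      have hy₁'b₀ : ∀ β' : F, y₁' ≠ β' • b₀ := by
        intro β' hβ'
        apply hyspan β β'
        rw [hydec, hβ, hβ']
      have hEs : eichG Q (s • g' • p) (s • g' • b) ∈ M := by
        rw [← eichG_conj s hxQ hxy]
        exact M.mul_mem (M.mul_mem hsM hExy) (M.inv_mem hsM)
      refine start_of_line hQ U U' hU hU' hdec hk M hM (hsU' b₀ hb₀) (hsU a₀ ha₀)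
        (hsU' y₁' hy₁') (hsU y₁ hy₁) (by rw [hxdec, smul_add', add_comm])
        (by rw [hydec, smul_add', add_comm]) (by rw [Q_smul Q, hxQ]) (by rw [Q_smul Q, hyQ])
        (by rw [polar_smul_smul Q, hxy]) hEs ?_
      intro α β' h
      rw [← smul_smul', ← smul_smul', ← smul_add', OrthRoot.smul_eq_zero_iff'] at h
      by_cases hβ'0 : β' = 0
      · rw [hβ'0, zero_smul, add_zero] at h
        rcases smul_eq_zero.mp h with h' | h'
        · exact ⟨h', hβ'0⟩
        · exact absurd h' hb₀0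
      · exfalso
        apply hy₁'b₀ (-α / β')
        have : β' • y₁' = -(α • b₀) := eq_neg_of_add_eq_zero_right h
        calc y₁' = β'⁻¹ • (β' • y₁') := by rw [smul_smul, inv_mul_cancel₀ hβ'0, one_smul]
          _ = (-α / β') • b₀ := by
              rw [this, smul_neg, smul_smul, ← neg_smul]
              congr 1
              field_simp
    · push Not at hdep
      refine start_of_line hQ U U' hU hU' hdec hk M hM ha₀ hb₀ hy₁ hy₁' hxdec hydec hxQ hyQ hxy
        hExy ?_
      intro α β' h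
      by_cases hβ'0 : β' = 0
      · rw [hβ'0, zero_smul, add_zero] at h
        rcases smul_eq_zero.mp h with h' | h'
        · exact ⟨h', hβ'0⟩
        · exact absurd h' ha₀0
      · exfalso
        apply hdep (-α / β')
        have : β' • y₁ = -(α • a₀) := eq_neg_of_add_eq_zero_right h
        calc y₁ = β'⁻¹ • (β' • y₁) := by rw [smul_smul, inv_mul_cancel₀ hβ'0, one_smul]
          _ = (-α / β') • a₀ := by
              rw [this, smul_neg, smul_smul, ← neg_smul]
              congr 1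
              field_simp
  -- step C: all of `U` and `U'`
  have hcR : c ∈ Rt M := rt_of_start hQ U U' hU hdec (by omega) M hM hc hx₀ hc0 hx₀c hE'
  have hRU : ∀ z ∈ U, z ≠ 0 → z ∈ Rt M := fun z hz hz0 =>
    rt_all_U hQ U U' hU hdec M hM hc hcR hz hz0
  have hRU' : ∀ z' ∈ U', z' ≠ 0 → z' ∈ Rt M := by
    intro z' hz' hz'0
    have h1 : s • z' ∈ Rt M := hRU _ (hsU' z' hz') (fun h => hz'0 ((OrthRoot.smul_eq_zero_iff' s z').mp h))
    have h2 := rt_smul M s⁻¹ (M.inv_mem hsM) _ h1
    rwa [inv_smul_smul] at h2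
  -- step D
  obtain ⟨z, hz, hz0⟩ := hUne
  obtain ⟨z', hz', hzz'⟩ := exists_dual hQ U U' hU hdec hz hz0
  have hz'0 : z' ≠ 0 := by
    intro h
    rw [h, polar_zero_right] at hzz'
    exact zero_ne_one hzz'
  apply eichGroup_le
  intro x hx0 hxQ'
  exact rt_all hQ (hdim_of_card hcard) M z z' (hRU z hz hz0) (hRU' z' hz' hz'0)
    (by rw [hzz']; exact one_ne_zero) x hx0 hxQ'

end pair

section swap

variable {F : Type*} [Field F] [Fintype F] {ι : Type} [Fintype ι] [DecidableEq ι]
  {Q : QuadraticForm F (ι → F)} (hQ : (polarBilin Q).Nondegenerate)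
  (U U' : Submodule F (ι → F)) (hU : ∀ u ∈ U, Q u = 0) (hU' : ∀ u ∈ U', Q u = 0)
  (hdec : ∀ v : ι → F, ∃ u ∈ U, ∃ u' ∈ U', v = u + u')

theorem map_eq_of_maps (h : Cfsg.isometryGroup F (⇑Q)) (A B : Submodule F (ι → F))
    (hAB : ∀ a ∈ A, h • a ∈ B) (hfr : Module.finrank F A = Module.finrank F B) :
    A.map (toEnd Q h) = B := by
  apply Submodule.eq_of_le_of_finrank_eq
  · rintro _ ⟨a, ha, rfl⟩
    exact hAB a ha
  · have hinj : Function.Injective ((toEnd Q h).domRestrict A) := by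
      intro a b hab
      apply Subtype.ext
      exact Cfsg.Agent.Helper28.OrthNondeg.smul_left_cancel' h hab
    have := LinearMap.finrank_range_of_inj hinj
    rw [LinearMap.range_domRestrict] at this
    rw [this, hfr]

include hQ hU hU' hdec in
/-- an element of `Ω` interchanging the two subspaces, when their dimension is even -/
theorem exists_swap (hex : Fintype.card F ≠ 2 ∨ Fintype.card ι ≠ 4)
    (hev : Even (Module.finrank F U)) (hfr : Module.finrank F U' = Module.finrank F U) :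
    ∃ s : Cfsg.isometryGroup F (⇑Q), s ∈ Cfsg.Omega F (⇑Q) ∧ (∀ u ∈ U, s • u ∈ U') ∧
      (∀ u' ∈ U', s • u' ∈ U) := by
  classical
  obtain ⟨k, hkdef⟩ : ∃ k, k = Module.finrank F U := ⟨_, rfl⟩
  let e : Module.Basis (Fin (Module.finrank F U)) F U := Module.finBasis F U
  have hli : LinearIndependent F (fun j => ((e j : U) : ι → F)) :=
    e.linearIndependent.map' U.subtype (Submodule.ker_subtype U)
  have hdual : ∀ i, ∃ d ∈ U', (∀ j, j ≠ i → polar Q ((e j : U) : ι → F) d = 0) ∧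
      polar Q ((e i : U) : ι → F) d = 1 := by
    intro i
    have hnot : ((e i : U) : ι → F) ∉ Submodule.span F
        ((fun j => ((e j : U) : ι → F)) '' {j | j ≠ i}) :=
      hli.notMem_span_image (s := {j | j ≠ i}) (x := i) (by simp)
    obtain ⟨d, hd, hS, hid⟩ := exists_sepU' hQ U U' hU hdec _ (by
      rw [Submodule.span_le]
      rintro _ ⟨j, -, rfl⟩
      exact (e j).2) (e i).2 hnot
    exact ⟨d, hd, fun j hj => hS _ (Submodule.subset_span ⟨j, hj, rfl⟩), hid⟩
  choose f hfU' hf0 hf1 using hdual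
  have hef : ∀ i j, polar Q ((e j : U) : ι → F) (f i) = if j = i then 1 else 0 := by
    intro i j
    by_cases hji : j = i
    · rw [if_pos hji, hji]; exact hf1 i
    · rw [if_neg hji]; exact hf0 i j hji
  have hee : ∀ i j, polar Q ((e i : U) : ι → F) ((e j : U) : ι → F) = 0 := fun i j =>
    polar_UU U hU (e i).2 (e j).2
  have hff : ∀ i j, polar Q (f i) (f j) = 0 := fun i j => polar_UU U' hU' (hfU' i) (hfU' j)
  have hQv : ∀ i, Q (((e i : U) : ι → F) - f i) = -1 := by
    intro i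
    rw [Q_sub_eq, hU _ (e i).2, hU' _ (hfU' i), hef i i, if_pos rfl]
    ring
  have hQv0 : ∀ i, Q (((e i : U) : ι → F) - f i) ≠ 0 := by
    intro i
    rw [hQv]
    exact neg_ne_zero.mpr one_ne_zero
  have hr : ∀ i (x : ι → F), tG Q (((e i : U) : ι → F) - f i) • x =
      x + polar Q (((e i : U) : ι → F) - f i) x • (((e i : U) : ι → F) - f i) := by
    intro i x
    rw [← toEnd_eq_smul, toEnd_tG Q (hQv0 i), refl_apply, hQv]
    have : ((-1 : F))⁻¹ = -1 := by rw [inv_neg, inv_one]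
    rw [this, neg_one_mul, neg_smul, sub_neg_eq_add]
  have hr_e : ∀ i j, tG Q (((e i : U) : ι → F) - f i) • ((e j : U) : ι → F) =
      if j = i then f i else ((e j : U) : ι → F) := by
    intro i j
    rw [hr, polar_sub_left, hee, polar_comm Q (f i), hef]
    by_cases hji : j = i
    · rw [if_pos hji, if_pos hji, hji]
      simp
    · rw [if_neg hji, if_neg hji]
      simp
  have hr_f : ∀ i j, tG Q (((e i : U) : ι → F) - f i) • f j =
      if j = i then ((e i : U) : ι → F) else f j := by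
    intro i j
    rw [hr, polar_sub_left, hff, hef]
    by_cases hji : j = i
    · rw [if_pos hji.symm, if_pos hji, hji]
      simp
    · rw [if_neg (fun h => hji h.symm), if_neg hji]
      simp
  have hP : ∀ l : List (Fin (Module.finrank F U)), l.Nodup →
      (∀ j, (l.map (fun i => tG Q (((e i : U) : ι → F) - f i))).prod • ((e j : U) : ι → F) =
        if j ∈ l then f j else ((e j : U) : ι → F)) ∧
      (∀ j, (l.map (fun i => tG Q (((e i : U) : ι → F) - f i))).prod • f j =
        if j ∈ l then ((e j : U) : ι → F) else f j) := by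
    intro l
    induction l with
    | nil =>
      intro _
      refine ⟨fun j => ?_, fun j => ?_⟩ <;> simp
    | cons i l ih =>
      intro hnd
      obtain ⟨hil, hl⟩ := List.nodup_cons.mp hnd
      obtain ⟨ih1, ih2⟩ := ih hl
      refine ⟨fun j => ?_, fun j => ?_⟩
      · rw [List.map_cons, List.prod_cons, mul_smul, ih1 j]
        by_cases hjl : j ∈ l
        · have hji : j ≠ i := fun h => hil (h ▸ hjl)
          rw [if_pos hjl, hr_f, if_neg hji, if_pos (List.mem_cons_of_mem _ hjl)]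
        · rw [if_neg hjl, hr_e]
          by_cases hji : j = i
          · rw [if_pos hji, if_pos (by rw [hji]; exact List.mem_cons_self), hji]
          · rw [if_neg hji, if_neg (by
              intro h
              rcases List.mem_cons.mp h with h | h
              · exact hji h
              · exact hjl h)]
      · rw [List.map_cons, List.prod_cons, mul_smul, ih2 j]
        by_cases hjl : j ∈ l
        · have hji : j ≠ i := fun h => hil (h ▸ hjl)
          rw [if_pos hjl, hr_e, if_neg hji, if_pos (List.mem_cons_of_mem _ hjl)]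
        · rw [if_neg hjl, hr_f]
          by_cases hji : j = i
          · rw [if_pos hji, if_pos (by rw [hji]; exact List.mem_cons_self), hji]
          · rw [if_neg hji, if_neg (by
              intro h
              rcases List.mem_cons.mp h with h | h
              · exact hji h
              · exact hjl h)]
  obtain ⟨hs1, hs2⟩ := hP (List.finRange _) (List.nodup_finRange _)
  obtain ⟨s, hsdef⟩ : ∃ s, s = ((List.finRange (Module.finrank F U)).map
    (fun i => tG Q (((e i : U) : ι → F) - f i))).prod := ⟨_, rfl⟩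
  rw [← hsdef] at hs1 hs2
  simp only [List.mem_finRange, if_true] at hs1 hs2
  have hsΩ : s ∈ Cfsg.Omega F (⇑Q) := by
    have hmap : (List.finRange (Module.finrank F U)).map
        (fun i => tG Q (((e i : U) : ι → F) - f i)) =
        ((List.finRange (Module.finrank F U)).map (fun i => ((e i : U) : ι → F) - f i)).map
          (tG Q) := by
      rw [List.map_map]
      rfl
    rw [hsdef, hmap]
    refine (prod_tG_mem_Omega_iff_all Q hQ hex _ ?_).2 ⟨?_, ?_⟩
    · intro v hv
      obtain ⟨i, -, rfl⟩ := List.mem_map.mp hv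
      exact hQv0 i
    · rw [List.length_map, List.length_finRange]
      exact hev
    · rw [List.map_map]
      have : ((fun v => Q v) ∘ fun i => ((e i : U) : ι → F) - f i) = fun _ => (-1 : F) := by
        funext i
        exact hQv i
      rw [this, List.map_const', List.prod_replicate, List.length_finRange, hev.neg_one_pow]
      exact ⟨1, by ring⟩
  -- the action on `U`
  have hact : ∀ u ∈ U, s • u ∈ U' ∧ s • (s • u) = u := by
    intro u hu
    have hrep := congrArg (fun z : U => (z : ι → F)) (e.sum_repr ⟨u, hu⟩)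
    simp only [Submodule.coe_sum, Submodule.coe_smul] at hrep
    generalize e.repr ⟨u, hu⟩ = c at hrep
    have h1 : s • u = ∑ j, (c j) • f j := by
      rw [← toEnd_eq_smul, ← hrep, map_sum]
      apply Finset.sum_congr rfl
      intro j _
      rw [map_smul, toEnd_eq_smul, hs1]
    refine ⟨?_, ?_⟩
    · rw [h1]
      exact Submodule.sum_mem _ (fun j _ => U'.smul_mem _ (hfU' j))
    · rw [h1, ← toEnd_eq_smul, map_sum]
      conv_rhs => rw [← hrep]
      apply Finset.sum_congr rfl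
      intro j _
      rw [map_smul, toEnd_eq_smul, hs2]
  refine ⟨s, hsΩ, fun u hu => (hact u hu).1, fun u' hu' => ?_⟩
  have hmap := map_eq_of_maps s U U' (fun u hu => (hact u hu).1) hfr.symm
  rw [← hmap] at hu'
  obtain ⟨u, hu, rfl⟩ := hu'
  rw [toEnd_eq_smul, (hact u hu).2]
  exact hu

end swap

section glue

variable {F : Type*} [Field F] [Fintype F] {ι : Type} [Fintype ι] [DecidableEq ι]
  {Q : QuadraticForm F (ι → F)} (hQ : (polarBilin Q).Nondegenerate)
  (D : Fin 2 → Submodule F (ι → F))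

/-- the stabiliser of the pair in the isometry group -/
def PairG (Q : QuadraticForm F (ι → F)) (D : Fin 2 → Submodule F (ι → F)) :
    Subgroup (Cfsg.isometryGroup F (⇑Q)) :=
  (Cfsg.Geo.decompositionStabilizer D).comap (Cfsg.isometryGroup F (⇑Q)).subtype

theorem mem_pairG_of_fix (h : Cfsg.isometryGroup F (⇑Q)) (h0 : ∀ u ∈ D 0, h • u ∈ D 0)
    (h1 : ∀ u ∈ D 1, h • u ∈ D 1) : h ∈ PairG Q D := by
  refine ⟨1, fun i => ?_⟩
  fin_cases i
  · exact map_eq_of_maps h (D 0) (D 0) h0 rfl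
  · exact map_eq_of_maps h (D 1) (D 1) h1 rfl

theorem mem_pairG_of_swap (h : Cfsg.isometryGroup F (⇑Q)) (h0 : ∀ u ∈ D 0, h • u ∈ D 1)
    (h1 : ∀ u ∈ D 1, h • u ∈ D 0) (hfr : Module.finrank F (D 1) = Module.finrank F (D 0)) :
    h ∈ PairG Q D := by
  refine ⟨Equiv.swap 0 1, fun i => ?_⟩
  fin_cases i
  · exact map_eq_of_maps h (D 0) (D 1) h0 hfr.symm
  · exact map_eq_of_maps h (D 1) (D 0) h1 hfr

include hQ in
/-- **the stabiliser in `Ω` of a pair of complementary totally singular subspaces of even dimension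
is maximal** -/
theorem maximal_pair (hΩ : Cfsg.Omega F (⇑Q) = eichGroup Q)
    (hex : Fintype.card F ≠ 2 ∨ Fintype.card ι ≠ 4)
    (hU : ∀ u ∈ D 0, Q u = 0) (hU' : ∀ u ∈ D 1, Q u = 0)
    (hdec : ∀ v : ι → F, ∃ u ∈ D 0, ∃ u' ∈ D 1, v = u + u')
    (hk : 5 ≤ Module.finrank F (D 0)) (hfr : Module.finrank F (D 1) = Module.finrank F (D 0))
    (hev : Even (Module.finrank F (D 0))) (hcard : 3 ≤ Fintype.card ι) :
    Cfsg.Geo.IsMaximalIn (Cfsg.Geo.omegaGL (⇑Q))
      (Cfsg.Geo.decompositionStabilizer D ⊓ Cfsg.Geo.omegaGL (⇑Q)) := by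
  have hinj : Function.Injective (Cfsg.isometryGroup F (⇑Q)).subtype := Subtype.val_injective
  have h1 : Cfsg.Geo.decompositionStabilizer D ⊓ Cfsg.Geo.omegaGL (⇑Q) =
      (PairG Q D ⊓ Cfsg.Omega F (⇑Q)).map (Cfsg.isometryGroup F (⇑Q)).subtype := by
    unfold Cfsg.Geo.omegaGL PairG
    exact inf_map_eq _ hinj _ _
  have hroot : ∀ a ∈ D 0, ∀ b ∈ D 1, polar Q a b = 0 →
      eichG Q a b ∈ PairG Q D ⊓ Cfsg.Omega F (⇑Q) := by
    intro a ha b hb hab
    refine ⟨mem_pairG_of_fix D _ (fun u hu => ?_) (fun u hu => ?_), ?_⟩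
    · rw [eichG_smul (hU a ha) hab, eich_apply, polar_UU (D 0) hU ha hu]
      simp only [zero_smul, smul_zero, sub_zero]
      exact (D 0).add_mem hu ((D 0).smul_mem _ ha)
    · rw [eichG_smul (hU a ha) hab, eich_apply, polar_UU (D 1) hU' hb hu, hU' b hb]
      simp only [zero_smul, zero_sub, sub_zero]
      exact (D 1).add_mem hu ((D 1).neg_mem ((D 1).smul_mem _ hb))
    · rw [hΩ]
      exact eichG_mem (hU a ha) hab
  rw [h1]
  unfold Cfsg.Geo.omegaGL
  apply maximal_map _ hinj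
  refine ⟨?_, fun M hHM hMΩ => ?_⟩
  · apply lt_of_le_of_ne inf_le_right
    intro heq
    -- an element of `Ω` outside the pair stabiliser
    have hpos : 0 < Module.finrank F (D 0) := by omega
    obtain ⟨⟨c, hc⟩, hc0'⟩ := Module.finrank_pos_iff_exists_ne_zero.mp hpos
    have hc0 : c ≠ 0 := fun h => hc0' (Subtype.ext h)
    have hfs : Module.finrank F (Submodule.span F {c}) = 1 := finrank_span_singleton hc0
    obtain ⟨x, hx, hxS⟩ := exists_not_mem_of_finrank_lt (D 0) (Submodule.span F {c}) (by omega)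
    have hxc : ∀ β : F, x ≠ β • c := by
      intro β hβ
      apply hxS
      rw [hβ]
      exact Submodule.smul_mem _ _ (Submodule.mem_span_singleton_self c)
    obtain ⟨d, hd, hcd, hxd⟩ := exists_sep2 hQ (D 0) (D 1) hU hdec hc hx hxc
    have hcx : polar Q c x = 0 := polar_UU (D 0) hU hc hx
    have hg : eichG Q c x ∈ Cfsg.Omega F (⇑Q) := by
      rw [hΩ]
      exact eichG_mem (hU c hc) hcx
    rw [← heq] at hg
    obtain ⟨σ, hσ⟩ := hg.1
    have himg : eichG Q c x • d = d + c := by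
      rw [eichG_smul (hU c hc) hcx, eich_apply, hxd, hcd, hU x hx]
      simp
    have hmem : eichG Q c x • d ∈ (D 1).map (toEnd Q (eichG Q c x)) := ⟨d, hd, rfl⟩
    have hσ1 := hσ 1
    have hmem' : eichG Q c x • d ∈ D (σ 1) := by
      rw [← hσ1]
      exact hmem
    rw [himg] at hmem'
    have hcases : σ 1 = 0 ∨ σ 1 = 1 := by
      generalize σ 1 = j
      fin_cases j
      · left; rfl
      · right; rfl
    rcases hcases with hc' | hc'
    · rw [hc'] at hmem'
      have hdU : d ∈ D 0 := by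
        have := (D 0).sub_mem hmem' hc
        rwa [add_sub_cancel_right] at this
      have hd0 := inter_zero hQ (D 0) (D 1) hU hU' hdec hdU hd
      rw [hd0, polar_zero_right] at hxd
      exact zero_ne_one hxd
    · rw [hc'] at hmem'
      have hcU' : c ∈ D 1 := by
        have := (D 1).sub_mem hmem' hd
        rwa [add_sub_cancel_left] at this
      exact hc0 (inter_zero hQ (D 0) (D 1) hU hU' hdec hc hcU')
  · by_cases hM : M = PairG Q D ⊓ Cfsg.Omega F (⇑Q)
    · left; exact hM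
    · right
      obtain ⟨g, hgM, hgP⟩ : ∃ g ∈ M, g ∉ PairG Q D := by
        by_contra hcon
        push Not at hcon
        exact hM (le_antisymm (fun x hx => ⟨hcon x hx, hMΩ hx⟩) hHM)
      obtain ⟨s, hsΩ, hsU, hsU'⟩ := exists_swap hQ (D 0) (D 1) hU hU' hdec hex hev hfr
      have hsM : s ∈ M := hHM ⟨mem_pairG_of_swap D s hsU hsU' hfr, hsΩ⟩
      have hle := pair_top hQ (D 0) (D 1) hU hU' hdec hk (by omega) hcard M
        (fun a ha b hb hab => hHM (hroot a ha b hb hab)) s hsM hsU hsU' g hgM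
        (fun h => hgP (mem_pairG_of_fix D g h.1 h.2))
        (fun h => hgP (mem_pairG_of_swap D g h.1 h.2 hfr))
      apply le_antisymm hMΩ
      rw [hΩ]
      exact hle

end glue

end Cfsg.Agent.Helper28.OrthTsPair
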