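import Mathlib
import Cfsg.Agent.Lib.Helper13.StBN3
import Cfsg.Agent.Lib.Helper13.SylODefs

/-!
# S4613, family `PΩ⁻`: the split (B, N)-pair data of the twisted orthogonal group
-/

set_option autoImplicit false
set_option linter.unusedSectionVars false
set_option linter.unusedVariables false

namespace Cfsg.Agent.Helper28.PA

open Matrix Cfsg.Agent.Helper13.SuBN Cfsg.Agent.Helper13.BNAbs Cfsg.Agent.Helper13.SdP
  Cfsg.Agent.Helper13.SuP Cfsg.Agent.Helper13.SdBN Cfsg.Agent.Helper13.StP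
  Cfsg.Agent.Helper2.WordLen Cfsg.Agent.Helper2.BN Cfsg.Agent.Helper17.BNCox
  Cfsg.Agent.Helper13.StBN Cfsg.Agent.Helper13.SylO

/-- the data of the split (B, N)-pair of the twisted orthogonal group -/
theorem pominus_data {K : Type*} [Field K] [Fintype K] (p : ℕ) [Fact p.Prime] [CharP K p]
    (m : ℕ) (hm : 1 ≤ m) (φ : K →+* K) (hφφ : ∀ x, φ (φ x) = x)
    (hn : (2 * m + 2) % 2 = 0) (h4 : 4 ≤ 2 * m + 2) :
    Nonempty (Data (bnLocT (K := K) hn h4 hφφ).pair p) := by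
  classical
  have hp : p.Prime := Fact.out
  set hloc := bnLocT (K := K) hn h4 hφφ with hlocdef
  obtain ⟨N0, hN0E, hN0⟩ := exists_n0T (K := K) hn h4 φ
  have hfin : Finite (WSU (2 * m + 2) (RingHom.id K)) := finite_WSU
  have hNH : monT (2 * m + 2) φ ≤ borT (2 * m + 2) φ ⊔ monT (2 * m + 2) φ := le_sup_right
  have hBH : borT (2 * m + 2) φ ≤ borT (2 * m + 2) φ ⊔ monT (2 * m + 2) φ := le_sup_left
  have hT : ∀ x ∈ borT (2 * m + 2) φ, x ∈ torT (2 * m + 2) φ ↔ N0⁻¹ * x * N0 ∈ borT (2 * m + 2) φ := by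
    intro x hx
    have h1 := mem_tor_iff_conjD hn h4 hN0 hN0E.1.1 x hx.1
    have h2 : N0⁻¹ * x * N0 ∈ twG (2 * m + 2) φ :=
      (twG _ φ).mul_mem ((twG _ φ).mul_mem ((twG _ φ).inv_mem hN0E.2) hx.2) hN0E.2
    constructor
    · intro h
      exact ⟨h1.1 h.1, h2⟩
    · intro h
      exact ⟨h1.2 h.1, hx.2⟩
  let n₀' : hloc.pair.N := ⟨⟨N0, hNH hN0E⟩, hN0E⟩
  -- the longest element
  have hR : ∀ s ∈ Set.range (srT (2 * m + 2) K),
      RankOne (borT (2 * m + 2) φ) (monT (2 * m + 2) φ) s (XSt (2 * m + 2) φ s) (YSt (2 * m + 2) φ s) := by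
    intro s hs
    obtain ⟨i, rfl, hX, hY⟩ := XSt_YSt φ s hs
    rw [hX, hY]
    exact rankOne_T hn h4 hφφ i
  have hYH : ∀ s ∈ Set.range (srT (2 * m + 2) K), ∀ y ∈ YSt (2 * m + 2) φ s,
      y ∈ borT (2 * m + 2) φ ⊔ monT (2 * m + 2) φ := by
    intro s hs y hy
    obtain ⟨i, rfl, hX, hY⟩ := XSt_YSt φ s hs
    rw [hY] at hy
    exact YT_mem_sup hn h4 hφφ i y hy
  have hne : ∀ s ∈ Set.range (srT (2 * m + 2) K), ∃ x ∈ XSt (2 * m + 2) φ s, x ≠ 1 := by
    intro s hs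
    obtain ⟨i, rfl, hX, hY⟩ := XSt_YSt φ s hs
    rw [hX]
    refine ⟨_, x1T_mem hn h4 i, ?_⟩
    intro e
    have h1 := conj_x1T_not_mem (K := K) hn h4 i
    rw [e, mul_one, mul_inv_cancel] at h1
    exact h1 (Subgroup.one_mem _)
  have hY : ∀ s ∈ Set.range (srT (2 * m + 2) K), ∀ y ∈ YSt (2 * m + 2) φ s,
      N0⁻¹ * y * N0 ∈ borT (2 * m + 2) φ := by
    intro s hs y hy
    obtain ⟨i, rfl, hX, hY⟩ := XSt_YSt φ s hs
    rw [hY] at hy
    exact conj_YT_mem hn h4 hφφ hN0E hN0 i y hy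
  have hall : ∀ t : hloc.pair.S, ℓ hloc.pair (π hloc.pair n₀' * σ hloc.pair t) <
      ℓ hloc.pair (π hloc.pair n₀') := by
    apply allDesc_of_rankOne hloc.pair n₀'
      (fun s => Subtype.val ⁻¹' XSt (2 * m + 2) φ
        ((s : ↥(borT (2 * m + 2) φ ⊔ monT (2 * m + 2) φ)) : WSU (2 * m + 2) (RingHom.id K)))
      (fun s => Subtype.val ⁻¹' YSt (2 * m + 2) φ
        ((s : ↥(borT (2 * m + 2) φ ⊔ monT (2 * m + 2) φ)) : WSU (2 * m + 2) (RingHom.id K)))
    · intro s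
      exact rankOne_sub (hR _ s.2) hBH (s : ↥(borT (2 * m + 2) φ ⊔ monT (2 * m + 2) φ)).2 (hYH _ s.2)
    · intro s
      obtain ⟨x, hx, hx1⟩ := hne _ s.2
      refine ⟨⟨x, hBH ((hR _ s.2).X_sub x hx)⟩, hx, ?_⟩
      intro e
      exact hx1 (congrArg Subtype.val e)
    · intro s y hy
      exact hY _ s.2 _ hy
  -- the unipotent radical
  have hUB : (unipT (2 * m + 2) φ).subgroupOf (borT (2 * m + 2) φ ⊔ monT (2 * m + 2) φ) ≤
      hloc.pair.B := by
    intro u hu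
    exact unipT_le_borT φ hu
  have hTB : (torT (2 * m + 2) φ).subgroupOf (borT (2 * m + 2) φ ⊔ monT (2 * m + 2) φ) ≤
      hloc.pair.B := by
    intro u hu
    exact torT_le_borT φ hu
  have hUn : ∀ b ∈ hloc.pair.B,
      ∀ u ∈ (unipT (2 * m + 2) φ).subgroupOf (borT (2 * m + 2) φ ⊔ monT (2 * m + 2) φ),
      b * u * b⁻¹ ∈ (unipT (2 * m + 2) φ).subgroupOf (borT (2 * m + 2) φ ⊔ monT (2 * m + 2) φ) := by
    intro b hb u hu
    exact conj_mem_unipT hb hu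
  have hsU : ∀ s ∈ hloc.pair.S,
      ∃ u ∈ (unipT (2 * m + 2) φ).subgroupOf (borT (2 * m + 2) φ ⊔ monT (2 * m + 2) φ),
      s * u * s⁻¹ ∉ hloc.pair.B := by
    intro s hs
    obtain ⟨i, hi⟩ := hs
    have hxB := (rankOne_T (φ := φ) hn h4 hφφ i).X_sub _ (x1T_mem hn h4 i)
    have hxU : x1T (2 * m + 2) K i ∈ unipT (2 * m + 2) φ := by
      unfold x1T
      by_cases h : i.val + 2 < (2 * m + 2) / 2
      · rw [if_pos h]
        exact XT_short_mem hn h4 i h (map_one φ)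
      · obtain ⟨hav, hcv, _, _, _, _⟩ := last_idx hn h4 i h
        rw [if_neg h]
        have := xG_mem_unipT (φ := φ) hn h4 hφφ hav hcv 1
        unfold xG at this ⊢
        rw [map_one] at this
        exact this
    refine ⟨⟨_, Subgroup.mem_sup_left hxB⟩, hxU, ?_⟩
    intro hcon
    apply conj_x1T_not_mem (K := K) hn h4 i
    have h1 : ((s * ⟨_, Subgroup.mem_sup_left hxB⟩ * s⁻¹ :
        ↥(borT (2 * m + 2) φ ⊔ monT (2 * m + 2) φ)) : WSU (2 * m + 2) (RingHom.id K)) ∈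
        borT (2 * m + 2) φ := hcon
    rw [Subgroup.coe_mul, Subgroup.coe_mul, Subgroup.coe_inv, ← hi] at h1
    exact h1.1.1
  have hUp : IsPGroup p ((unipT (2 * m + 2) φ).subgroupOf
      (borT (2 * m + 2) φ ⊔ monT (2 * m + 2) φ)) := by
    have h1 : IsPGroup p (unipT (2 * m + 2) φ) :=
      (unip_isPGroup (n := 2 * m + 2) (F := K) (φ := RingHom.id K) p).to_le
        (fun g hg => hg.1.1)
    exact h1.comap_subtype
  have hcardT : Nat.card ((torT (2 * m + 2) φ).subgroupOf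
      (borT (2 * m + 2) φ ⊔ monT (2 * m + 2) φ)) = Nat.card (torT (2 * m + 2) φ) :=
    Nat.card_congr (Subgroup.subgroupOfEquivOfLe
      (le_trans (torT_le_borT φ) le_sup_left)).toEquiv
  have hcardB : Nat.card hloc.pair.B = Nat.card ((torT (2 * m + 2) φ).subgroupOf
      (borT (2 * m + 2) φ ⊔ monT (2 * m + 2) φ)) *
      Nat.card ((unipT (2 * m + 2) φ).subgroupOf (borT (2 * m + 2) φ ⊔ monT (2 * m + 2) φ)) := by
    have h1 : Nat.card hloc.pair.B = Nat.card (borT (2 * m + 2) φ) :=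
      Nat.card_congr (Subgroup.subgroupOfEquivOfLe le_sup_left).toEquiv
    have h2 : Nat.card ((unipT (2 * m + 2) φ).subgroupOf
        (borT (2 * m + 2) φ ⊔ monT (2 * m + 2) φ)) = Nat.card (unipT (2 * m + 2) φ) :=
      Nat.card_congr (Subgroup.subgroupOfEquivOfLe
        (le_trans (unipT_le_borT φ) le_sup_left)).toEquiv
    rw [h1, h2, hcardT, card_borT hn φ]
  have hSne : hloc.pair.S.Nonempty := by
    have hi : 0 < (2 * m + 2) / 2 - 1 := by omega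
    refine ⟨⟨srT (2 * m + 2) K ⟨0, hi⟩, hNH (srT_mem_monT hn h4 hφφ ⟨0, hi⟩)⟩, ?_⟩
    exact ⟨⟨0, hi⟩, rfl⟩
  exact ⟨{
    U := (unipT (2 * m + 2) φ).subgroupOf (borT (2 * m + 2) φ ⊔ monT (2 * m + 2) φ)
    T := (torT (2 * m + 2) φ).subgroupOf (borT (2 * m + 2) φ ⊔ monT (2 * m + 2) φ)
    n₀ := n₀'
    hUB := hUB
    hTB := hTB
    hUn := hUn
    hUp := hUp
    hcard := hcardB
    hTp := by
      rw [hcardT]
      exact not_dvd_card_torT p φ
    hS := hSne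
    hs := hsU
    hT := by
      intro x hx
      exact hT _ hx
    hn₀ := hall }⟩

end Cfsg.Agent.Helper28.PA
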