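import Mathlib
import Cfsg.Prelude
import Cfsg.Agent.Lib.Helper13.SylODefs
import Cfsg.Agent.Lib.Helper6.SYLOSUB
import Cfsg.Agent.Lib.Helper22.SylOQUOT
import Cfsg.Agent.Lib.Helper10.SylOT

/-!
# S4613: transport of the opposition structure `SylOpp` along `H → I ⊇ [I, I] → [I, I] / Z([I, I])`

`H` is (the group generated by `B` and `N` in) a matrix model, `I` the isometry group, `j : H →* I` an injective
homomorphism whose range contains the commutator subgroup `Ω = [I, I]`, with the preimage of `Ω` of index prime
to `p`.
-/

set_option autoImplicit false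

namespace Cfsg.Agent.Helper28.PA

open Cfsg.Agent.Helper13.SylO

/-- transport of `SylOpp` to `[I, I] / Z([I, I])` -/
theorem pasyltr_commutator_quot {H I : Type*} [Group H] [Group I] [Finite H] (p : ℕ) [Fact p.Prime]
    (j : H →* I) (hj : Function.Injective j) (hΩ : commutator I ≤ j.range)
    (hidx : ¬ p ∣ ((commutator I).comap j).index) (h : SylOpp p H) :
    SylOpp p (commutator I ⧸ Subgroup.center (commutator I)) := by
  have hnorm : ((commutator I).comap j).Normal := inferInstance
  have hK : SylOpp p ↥((commutator I).comap j) := SylOpp.of_normal p _ hidx h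
  let f : ↥((commutator I).comap j) →* ↥(commutator I) :=
    (j.comp ((commutator I).comap j).subtype).codRestrict (commutator I) (fun k => k.2)
  have hf_apply : ∀ k : ↥((commutator I).comap j), ((f k : ↥(commutator I)) : I) = j (k : H) := fun k => rfl
  have hf_inj : Function.Injective f := by
    intro a b hab
    have h1 : j (a : H) = j (b : H) := by
      rw [← hf_apply, ← hf_apply, hab]
    exact Subtype.ext (hj h1)
  have hf_surj : Function.Surjective f := by
    intro ω
    obtain ⟨x, hx⟩ := hΩ ω.2
    have hxK : x ∈ (commutator I).comap j := by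
      rw [Subgroup.mem_comap, hx]
      exact ω.2
    refine ⟨⟨x, hxK⟩, ?_⟩
    apply Subtype.ext
    rw [hf_apply]
    exact hx
  let g : ↥((commutator I).comap j) →* (commutator I ⧸ Subgroup.center (commutator I)) :=
    (QuotientGroup.mk' (Subgroup.center (commutator I))).comp f
  have hg_surj : Function.Surjective g :=
    (QuotientGroup.mk'_surjective _).comp hf_surj
  have hker : g.ker ≤ Subgroup.center ↥((commutator I).comap j) := by
    intro k hk
    rw [MonoidHom.mem_ker] at hk
    have hk' : f k ∈ Subgroup.center (commutator I) := by
      have : (QuotientGroup.mk' (Subgroup.center (commutator I))) (f k) = 1 := hk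
      rwa [QuotientGroup.mk'_apply, QuotientGroup.eq_one_iff] at this
    rw [Subgroup.mem_center_iff] at hk' ⊢
    intro k'
    apply hf_inj
    rw [map_mul, map_mul]
    exact hk' (f k')
  exact SylOpp.of_surjective p g hg_surj hker hK

/-- the conclusion of S4613 for the simple group `[I, I] / Z([I, I])` -/
theorem pasyltr_noPAut {H I : Type*} [Group H] [Group I] [Finite H] (p : ℕ) [Fact p.Prime]
    (j : H →* I) (hj : Function.Injective j) (hΩ : commutator I ≤ j.range)
    (hidx : ¬ p ∣ ((commutator I).comap j).index) (h : SylOpp p H)
    [Finite (commutator I ⧸ Subgroup.center (commutator I))]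
    [IsSimpleGroup (commutator I ⧸ Subgroup.center (commutator I))] :
    NoPAut p (commutator I ⧸ Subgroup.center (commutator I)) :=
  noPAut_of_sylOpp p (pasyltr_commutator_quot p j hj hΩ hidx h)

end Cfsg.Agent.Helper28.PA
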