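import Mathlib
import Cfsg.Agent.Lib.Helper13.StBN3
import Cfsg.Agent.Lib.Helper13.SylODefs
import Cfsg.Agent.Lib.Helper28.PASylTr
import Cfsg.Agent.Lib.Helper28.PAPOMINUSData
import Cfsg.Agent.S0297

/-!
# S4613, family `PΩ⁻`: from the opposition structure of the matrix model to the conclusion
-/

set_option autoImplicit false
set_option linter.unusedSectionVars false
set_option linter.unusedVariables false

namespace Cfsg.Agent.Helper28.PA

open Matrix Cfsg.Agent.Helper13.SuBN Cfsg.Agent.Helper13.BNAbs Cfsg.Agent.Helper13.SdP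
  Cfsg.Agent.Helper13.SuP Cfsg.Agent.Helper13.SdBN Cfsg.Agent.Helper13.StP
  Cfsg.Agent.Helper2.WordLen Cfsg.Agent.Helper2.BN Cfsg.Agent.Helper17.BNCox
  Cfsg.Agent.Helper13.StBN Cfsg.Agent.Helper13.SylO

/-- the conclusion of S4613 for `PΩ⁻_{2m+2}(q)`, `m ≥ 1`, given the quadratic extension and the opposition
structure of the matrix model -/
theorem pominus_core {F K : Type*} [Field F] [Fintype F] [Field K] [Fintype K] (p : ℕ)
    [Fact p.Prime] [CharP F p] (m : ℕ) (hm : 1 ≤ m) (a b : F)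
    (hab : ∀ z₁ z₂ : F, z₁ ^ 2 + a * z₁ * z₂ + b * z₂ ^ 2 = 0 → z₁ = 0 ∧ z₂ = 0)
    (ι : F →+* K) (φ : K →+* K) (ω : K) (hφφ : ∀ x, φ (φ x) = x)
    (hfix : ∀ x, φ x = x ↔ x ∈ ι.range) (hω1 : ω + φ ω = - ι a) (hω2 : ω * φ ω = ι b)
    (hω3 : φ ω ≠ ω)
    (hH : SylOpp p ↥(borT (2 * m + 2) φ ⊔ monT (2 * m + 2) φ))
    [IsSimpleGroup (Cfsg.POmega F (Cfsg.quadFormMinus m F a b))] :
    NoPAut p (Cfsg.POmega F (Cfsg.quadFormMinus m F a b)) := by
  classical
  have hp : p.Prime := Fact.out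
  have : CharP K p := charP_of_injective_ringHom ι.injective p
  have hn : (2 * m + 2) % 2 = 0 := by omega
  have h4 : 4 ≤ 2 * m + 2 := by omega
  have hloc := bnLocT (K := K) hn h4 hφφ
  have hfin : Finite (WSU (2 * m + 2) (RingHom.id K)) := finite_WSU
  have hHle : borT (2 * m + 2) φ ⊔ monT (2 * m + 2) φ ≤ gT (2 * m + 2) φ :=
    sup_le (borT_le_gT _ φ) (monT_le_gT _ φ)
  obtain ⟨j, hjinj, hjent, hjdet⟩ := exists_hom_minus m a b ι φ ω hφφ hfix hω1 hω2 hω3
  have hΩ : commutator (Cfsg.isometryGroup F (Cfsg.quadFormMinus m F a b)) ≤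
      ((borT (2 * m + 2) φ ⊔ monT (2 * m + 2) φ).subgroupOf (gT (2 * m + 2) φ)).map j := by
    by_cases hm1 : m = 1
    · subst hm1
      exact Omega_le_map_minus_one a b hab ι φ ω hφφ hfix hω1 hω2 hω3 j hjinj hjent hjdet
        (fun h2 g => hjdet g (det_eq_one_of_two h2 1 a b hab g))
    · exact Omega_le_map_minus m (by omega) a b hab ι φ ω hφφ hfix hω1 hω2 hω3 j hjent hjdet
  have hidx := not_dvd_index_minus p m hm a b hab ι φ hφφ hloc j hjinj hΩ
  let jH : ↥(borT (2 * m + 2) φ ⊔ monT (2 * m + 2) φ) →*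
      Cfsg.isometryGroup F (Cfsg.quadFormMinus m F a b) :=
    j.comp (Subgroup.inclusion hHle)
  have hjHinj : Function.Injective jH := hjinj.comp (Subgroup.inclusion_injective hHle)
  have hrange : jH.range =
      ((borT (2 * m + 2) φ ⊔ monT (2 * m + 2) φ).subgroupOf (gT (2 * m + 2) φ)).map j := by
    rw [MonoidHom.range_comp, Subgroup.inclusion_range]
  have hΩ' : commutator (Cfsg.isometryGroup F (Cfsg.quadFormMinus m F a b)) ≤ jH.range := by
    rw [hrange]; exact hΩ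
  have hidx' : ¬ p ∣ ((commutator (Cfsg.isometryGroup F (Cfsg.quadFormMinus m F a b))).comap
      jH).index := by
    rw [Subgroup.index_comap, hrange]
    exact hidx
  have : Finite (Cfsg.isometryGroup F (Cfsg.quadFormMinus m F a b)) := inferInstance
  have : Finite (Cfsg.POmega F (Cfsg.quadFormMinus m F a b)) := inferInstance
  exact pasyltr_noPAut p jH hjHinj hΩ' hidx' hH

/-- FAMILY PA-POMINUS, given the opposition structure of all the matrix models -/
theorem pominus_of_sylOpp.{u}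
    (hasm : ∀ {K : Type u} [Field K] [Fintype K] (p : ℕ) [Fact p.Prime] [CharP K p] (m : ℕ) (φ : K →+* K)
      (hφφ : ∀ x, φ (φ x) = x) (hn : (2 * m + 2) % 2 = 0) (h4 : 4 ≤ 2 * m + 2),
      Nonempty (Data (bnLocT (K := K) hn h4 hφφ).pair p) →
      SylOpp p ↥(borT (2 * m + 2) φ ⊔ monT (2 * m + 2) φ))
    {F : Type u} [Field F] [Fintype F] (p : ℕ) [Fact p.Prime] [CharP F p]
    (m : ℕ) (a b : F) (hm : 4 ≤ m)
    (hab : ∀ z₁ z₂ : F, z₁ ^ 2 + a * z₁ * z₂ + b * z₂ ^ 2 = 0 → z₁ = 0 ∧ z₂ = 0) :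
    NoPAut p (Cfsg.POmega F (Cfsg.quadFormMinus (m - 1) F a b)) := by
  obtain ⟨K, _, _, ι, φ, ω, hφφ, hfix, hω1, hω2, hω3⟩ := exists_quadExt a b hab
  have : CharP K p := charP_of_injective_ringHom ι.injective p
  have : IsSimpleGroup (Cfsg.POmega F (Cfsg.quadFormMinus (m - 1) F a b)) :=
    Cfsg.Agent.S0297.result m hm a b hab
  have hn : (2 * (m - 1) + 2) % 2 = 0 := by omega
  have h4 : 4 ≤ 2 * (m - 1) + 2 := by omega
  have hD := pominus_data p (m - 1) (by omega) φ hφφ hn h4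
  exact pominus_core p (m - 1) (by omega) a b hab ι φ ω hφφ hfix hω1 hω2 hω3
    (hasm p (m - 1) φ hφφ hn h4 hD)

end Cfsg.Agent.Helper28.PA
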