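import Mathlib
import Cfsg.Agent.Lib.Helper28.PAPOMINUSCore
import Cfsg.Agent.Lib.Helper13.SylOFinal

/-!
# S4613, family `PΩ⁻`
-/

set_option autoImplicit false
set_option linter.unusedSectionVars false
set_option linter.unusedVariables false

namespace Cfsg.Agent.Helper28.PA

open Cfsg Cfsg.Agent.Helper13.SuBN Cfsg.Agent.Helper13.StBN Cfsg.Agent.Helper13.SylO

/-- FAMILY PA-POMINUS -/
theorem noPAut_POmegaMinus {F : Type*} [Field F] [Fintype F] (p : ℕ) [Fact p.Prime] [CharP F p]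
    (m : ℕ) (a b : F) (hm : 4 ≤ m)
    (hab : ∀ z₁ z₂ : F, z₁ ^ 2 + a * z₁ * z₂ + b * z₂ ^ 2 = 0 → z₁ = 0 ∧ z₂ = 0) :
    NoPAut p (POmega F (quadFormMinus (m - 1) F a b)) := by
  apply pominus_of_sylOpp _ p m a b hm hab
  intro K _ _ p' _ _ m' φ hφφ hn h4 hD
  obtain ⟨D⟩ := hD
  have hfin : Finite (WSU (2 * m' + 2) (RingHom.id K)) := finite_WSU
  exact fin_sylOpp_of_data D

end Cfsg.Agent.Helper28.PA
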