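import Mathlib
import Cfsg.Agent.Lib.Helper28.PADefs

/-!
# S4613: the criterion via a pair of opposite Sylow subgroups

If `U` is a Sylow `p`-subgroup, `V` a conjugate of `U` with `U ⊓ V = ⊥`, every conjugate of `U` meeting `U`
trivially is a `U`-conjugate of `V`, and the only automorphism normalising `U` and `V` and fixing `U` elementwise
is the identity, then `NoPAut p G`.
-/

set_option autoImplicit false

namespace Cfsg.Agent.Helper28.PA

variable {G : Type*} [Group G]

/-- an automorphism fixing `U` elementwise with `α V = u V u⁻¹` (`u ∈ U`): the powers -/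
theorem opp_pow_map (α : MulAut G) (U V : Subgroup G) (hfix : ∀ x ∈ U, α x = x) (u : G) (hu : u ∈ U)
    (h : V.map α.toMonoidHom = V.map (MulAut.conj u).toMonoidHom) (k : ℕ) :
    V.map (α ^ k).toMonoidHom = V.map (MulAut.conj (u ^ k)).toMonoidHom := by
  induction k with
  | zero =>
    ext x
    simp
  | succ k ih =>
    have e1 : V.map (α ^ (k + 1)).toMonoidHom = (V.map (α ^ k).toMonoidHom).map α.toMonoidHom := by
      rw [Subgroup.map_map, pow_succ']
      rfl
    rw [e1, ih]
    ext x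
    simp only [Subgroup.mem_map, MulEquiv.coe_toMonoidHom, MulAut.conj_apply]
    constructor
    · rintro ⟨y, ⟨z, hz, rfl⟩, rfl⟩
      have hz' : α z ∈ V.map (MulAut.conj u).toMonoidHom := by
        rw [← h]
        exact ⟨z, hz, rfl⟩
      obtain ⟨w, hw, hwz⟩ := hz'
      refine ⟨w, hw, ?_⟩
      have huk : α (u ^ k) = u ^ k := hfix _ (pow_mem hu k)
      rw [map_mul, map_mul, map_inv, huk, ← hwz]
      simp only [MulEquiv.coe_toMonoidHom, MulAut.conj_apply, pow_succ]
      group
    · rintro ⟨w, hw, rfl⟩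
      have hw' : u * w * u⁻¹ ∈ V.map α.toMonoidHom := by
        rw [h]
        exact ⟨w, hw, rfl⟩
      obtain ⟨z, hz, hzw⟩ := hw'
      refine ⟨u ^ k * z * (u ^ k)⁻¹, ⟨z, hz, rfl⟩, ?_⟩
      have huk : α (u ^ k) = u ^ k := hfix _ (pow_mem hu k)
      have hzw' : α z = u * w * u⁻¹ := hzw
      rw [map_mul, map_mul, map_inv, huk, hzw']
      simp only [pow_succ]
      group

/-- an automorphism of order prime to `p` fixing `U` elementwise with `α V = u V u⁻¹`, `u ∈ U` a `p`-element,
normalises `V` -/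
theorem opp_map_eq (p : ℕ) [Fact p.Prime] (α : MulAut G) (hα : ¬ p ∣ orderOf α) (U V : Subgroup G)
    (hU : IsPGroup p U) (hfix : ∀ x ∈ U, α x = x) (u : G) (hu : u ∈ U)
    (h : V.map α.toMonoidHom = V.map (MulAut.conj u).toMonoidHom) :
    V.map α.toMonoidHom = V := by
  have h1 := opp_pow_map α U V hfix u hu h (orderOf α)
  rw [pow_orderOf_eq_one] at h1
  have h2 : V.map (MulAut.conj (u ^ orderOf α)).toMonoidHom = V := by
    rw [← h1]
    ext x
    simp
  obtain ⟨k, hk⟩ := hU ⟨u, hu⟩
  have hk' : u ^ p ^ k = 1 := by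
    have := congrArg Subtype.val hk
    simpa using this
  have hcop : Nat.Coprime (orderOf α) (orderOf u) := by
    have hd : orderOf u ∣ p ^ k := orderOf_dvd_of_pow_eq_one hk'
    have hc : Nat.Coprime (orderOf α) (p ^ k) := by
      apply Nat.Coprime.pow_right
      exact ((Nat.Prime.coprime_iff_not_dvd (Fact.out)).mpr hα).symm
    exact Nat.Coprime.coprime_dvd_right hd hc
  obtain ⟨j, hj⟩ := exists_pow_eq_self_of_coprime hcop
  -- the set of `g` with `g V g⁻¹ = V` is closed under powers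
  have hpow : ∀ (g : G), V.map (MulAut.conj g).toMonoidHom = V → ∀ j : ℕ,
      V.map (MulAut.conj (g ^ j)).toMonoidHom = V := by
    intro g hg j
    induction j with
    | zero =>
      ext x
      simp
    | succ j ih =>
      have : (MulAut.conj (g ^ (j + 1))).toMonoidHom =
          (MulAut.conj g).toMonoidHom.comp (MulAut.conj (g ^ j)).toMonoidHom := by
        ext x
        simp only [MulEquiv.coe_toMonoidHom, MulAut.conj_apply, MonoidHom.comp_apply, pow_succ']
        group
      rw [this, ← Subgroup.map_map, ih, hg]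
  have h3 := hpow _ h2 j
  rw [hj] at h3
  rw [h, h3]

/-- **the criterion via opposite Sylow subgroups** -/
theorem noPAut_of_opp [Finite G] (p : ℕ) [Fact p.Prime]
    (U V : Subgroup G) (hU : ∃ P : Sylow p G, (P : Subgroup G) = U)
    (hVU : ∃ n : G, U.map (MulAut.conj n).toMonoidHom = V)
    (hUV : U ⊓ V = ⊥)
    (hkey : ∀ g : G, U.map (MulAut.conj g).toMonoidHom ⊓ U = ⊥ →
      ∃ u ∈ U, U.map (MulAut.conj g).toMonoidHom = V.map (MulAut.conj u).toMonoidHom)
    (hrig : ∀ θ : MulAut G, U.map θ.toMonoidHom = U → V.map θ.toMonoidHom = V →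
      (∀ x ∈ U, θ x = x) → θ = 1) :
    NoPAut p G := by
  intro α hα P hfix
  obtain ⟨P₀, hP₀⟩ := hU
  obtain ⟨n, hn⟩ := hVU
  -- move `P` to `U`
  obtain ⟨g, hg⟩ := MulAction.exists_smul_eq G P₀ P
  have hgP : ∀ x, x ∈ U → g * x * g⁻¹ ∈ (P : Subgroup G) := by
    intro x hx
    rw [← hg, Sylow.coe_subgroup_smul, ← hP₀] at *
    exact ⟨x, hx, rfl⟩
  set β : MulAut G := (MulAut.conj g)⁻¹ * α * MulAut.conj g with hβ
  have hβ_apply : ∀ x, β x = g⁻¹ * α (g * x * g⁻¹) * g := by
    intro x
    rw [hβ]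
    simp [MulAut.mul_apply]
  have hβfix : ∀ x ∈ U, β x = x := by
    intro x hx
    rw [hβ_apply, hfix _ (hgP x hx)]
    group
  have hβord : orderOf β = orderOf α := by
    have : β = MulAut.conj (MulAut.conj g)⁻¹ α := by
      rw [hβ, MulAut.conj_apply, inv_inv]
    rw [this]
    exact orderOf_injective (MulAut.conj (MulAut.conj g)⁻¹).toMonoidHom
      (MulAut.conj (MulAut.conj g)⁻¹).injective α
  have hβα : ¬ p ∣ orderOf β := by rwa [hβord]
  -- `β` normalises `U`
  have hβU : U.map β.toMonoidHom = U := by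
    ext x
    constructor
    · rintro ⟨y, hy, rfl⟩
      show β y ∈ U
      rw [hβfix y hy]
      exact hy
    · intro hx
      exact ⟨x, hx, hβfix x hx⟩
  -- the image of `V`
  have hβV : V.map β.toMonoidHom = U.map (MulAut.conj (β n)).toMonoidHom := by
    rw [← hn]
    ext x
    simp only [Subgroup.mem_map, MulEquiv.coe_toMonoidHom, MulAut.conj_apply]
    constructor
    · rintro ⟨y, ⟨z, hz, rfl⟩, rfl⟩
      refine ⟨z, hz, ?_⟩
      rw [map_mul, map_mul, map_inv, hβfix z hz]
    · rintro ⟨z, hz, rfl⟩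
      refine ⟨n * z * n⁻¹, ⟨z, hz, rfl⟩, ?_⟩
      rw [map_mul, map_mul, map_inv, hβfix z hz]
  have hinf : U.map (MulAut.conj (β n)).toMonoidHom ⊓ U = ⊥ := by
    rw [← hβV]
    have e1 : V.map β.toMonoidHom ⊓ U = V.map β.toMonoidHom ⊓ U.map β.toMonoidHom := by rw [hβU]
    rw [e1, ← Subgroup.map_inf _ _ _ β.injective, inf_comm, hUV, Subgroup.map_bot]
  obtain ⟨u, hu, huV⟩ := hkey (β n) hinf
  have hPU : IsPGroup p U := by
    rw [← hP₀]
    exact P₀.isPGroup'
  have hβV' : V.map β.toMonoidHom = V :=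
    opp_map_eq p β hβα U V hPU hβfix u hu (hβV.trans huV)
  have hβ1 : β = 1 := hrig β hβU hβV' hβfix
  -- back to `α`
  have : α = MulAut.conj g * β * (MulAut.conj g)⁻¹ := by
    rw [hβ]
    group
  rw [this, hβ1]
  group

end Cfsg.Agent.Helper28.PA
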