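import Mathlib
import Cfsg.Agent.Lib.Lead.TwD4AutG
import Cfsg.Agent.Lib.Lead.TwE6AutD
import Cfsg.Agent.Lib.Helper28.PAOpp

/-!
# S4613, family `³D₄(q)`
-/

set_option autoImplicit false
set_option linter.unusedSectionVars false
set_option linter.unusedSimpArgs false
set_option linter.unusedVariables false
set_option linter.style.haveILetI false

namespace Cfsg.Agent.Helper28.PA

open Cfsg Cfsg.Lie Cfsg.Agent.Lead.Chev Cfsg.Agent.Helper6.ChevC Cfsg.Agent.Helper6.SL2Hom
  Cfsg.Agent.Helper6.ChevL Cfsg.Agent.Lead.Tw.AutRk1 Cfsg.Agent.Helper6.AutRank1 Cfsg.Agent.Lead.ZPM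
  Cfsg.Agent.Lead.Tw Cfsg.Agent.Lead.Tw.D4

section

variable {K : Type*} [Field K] [Fintype K] {q : ℕ} (hq : 1 < q) (hK : Fintype.card K = q ^ 3)
  (f : K ≃+* K) (hf : ∀ t, f t = t ^ q)
include hq hK hf

/-- the class root subgroups lie in `U¹` -/
theorem twd4_Xp_le (v : List ℕ) (hv : v ∈ S) (hc : OrthClass chevD4 v) :
    Xp hF (tw f) S v hc ≤ U1 hF (tw f) S := by
  intro g hg
  obtain ⟨φ, hφ⟩ := (mem_Xp v hc g).1 hg
  rw [mem_U1, hφ]
  exact xs_mem_posUnipotent hF v ((orthData f).gen.valid v hv) φ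

/-- **rigidity**: an automorphism normalising `U¹` and `V¹` and fixing `U¹` elementwise is trivial -/
theorem twd4_rigid (θ : MulAut ↥(orthGroup hF (tw f) S))
    (hU : (U1 hF (tw f) S).map θ.toMonoidHom = U1 hF (tw f) S)
    (hV : (V1 hF (tw f) S).map θ.toMonoidHom = V1 hF (tw f) S)
    (hfix : ∀ x ∈ U1 hF (tw f) S, θ x = x) : θ = 1 := by
  have h3 := hfff' hq hK f hf
  obtain ⟨g, φ, hgφ⟩ := exists_torus_field hq hK f hf θ hU hV
  -- `g` normalises `U¹` and `V¹`
  have hconj : MulAut.conj g = θ * (FA f hf φ)⁻¹ := by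
    rw [hgφ, mul_inv_cancel_right]
  have hFAinv : (FA f hf φ)⁻¹ = FA f hf φ⁻¹ := (map_inv (FA f hf) φ).symm
  have hmap : ∀ A : Subgroup ↥(orthGroup hF (tw f) S), A.map (MulAut.conj g).toMonoidHom =
      (A.map (FA f hf φ⁻¹).toMonoidHom).map θ.toMonoidHom := by
    intro A
    rw [hconj, hFAinv, Subgroup.map_map]
    rfl
  have hgU : (U1 hF (tw f) S).map (MulAut.conj g).toMonoidHom = U1 hF (tw f) S := by
    rw [hmap, FA_U1, hU]
  have hgV : (V1 hF (tw f) S).map (MulAut.conj g).toMonoidHom = V1 hF (tw f) S := by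
    rw [hmap, FA_V1, hV]
  have hgH := (orthData f).mem_diagonal_of_normalizes (hSz hq hK f hf) (hCb hq hK f hf) g hgU hgV
  obtain ⟨c, hc, hgc⟩ := exists_Tmat_of_mem chevD4 (hF (K := K)).hall _ hgH
  -- the action on the root elements
  have hθ_apply : ∀ x, θ x = g * FA f hf φ x * g⁻¹ := by
    intro x
    rw [hgφ]
    rfl
  have keyB : ∀ t : K, ∀ i ∈ [0, 2, 3], chi chevD4 c (chevD4.simple i) * trf f (φ t) i = trf f t i := by
    intro t
    have e1 : g * XB f h3 (φ t) * g⁻¹ = XB f h3 t := by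
      have := hfix _ (twd4_Xp_le hq hK f hf _ hS3 _ (XB_mem f h3 t))
      rw [hθ_apply, FA_XB hq hK f hf] at this
      exact this
    have e2 := congrArg Subtype.val e1
    simp only [Subgroup.coe_mul, Subgroup.coe_inv, XB_coe] at e2
    rw [← xs_tri, ← xs_tri, ChevFacts'.conj_xs hF _ c hc hgc [0, 2, 3] (by decide)] at e2
    exact xs_injective hF clsB _ _ e2
  have hχ0 : chi chevD4 c (chevD4.simple 0) = 1 := by
    have := keyB 1 0 (by simp)
    simpa [trf] using this
  have hφ : φ = 1 := by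
    apply RingEquiv.ext
    intro t
    have := keyB t 0 (by simp)
    rw [hχ0, one_mul] at this
    simpa [trf] using this
  have hχ2 : chi chevD4 c (chevD4.simple 2) = 1 := by
    have := keyB 1 2 (by simp)
    simpa [trf] using this
  have hχ3 : chi chevD4 c (chevD4.simple 3) = 1 := by
    have := keyB 1 3 (by simp)
    simpa [trf] using this
  have hθ_apply' : ∀ x, θ x = g * x * g⁻¹ := by
    intro x
    rw [hθ_apply, hφ, map_one]
    rfl
  have hχ1 : chi chevD4 c (chevD4.simple 1) = 1 := by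
    have e1 : g * XA f 1 * g⁻¹ = XA f 1 := by
      have := hfix _ (twd4_Xp_le hq hK f hf _ hS1 _ (XA_mem f 1))
      rw [hθ_apply'] at this
      exact this
    have e2 := congrArg Subtype.val e1
    simp only [Subgroup.coe_mul, Subgroup.coe_inv, XA_coe] at e2
    rw [← xs_single (fun _ => ((1 : ↥(Fq f)) : K)), ChevFacts'.conj_xs hF _ c hc hgc [1] (by decide)] at e2
    have := xs_injective hF clsA _ _ e2 1 (by simp)
    simpa using this
  have hfin : θ.toMonoidHom = (1 : MulAut ↥(orthGroup hF (tw f) S)).toMonoidHom := by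
    apply eq_of_gens hq hK f hf
    · intro s
      show θ (XA f s) = XA f s
      exact hfix _ (twd4_Xp_le hq hK f hf _ hS1 _ (XA_mem f s))
    · intro s
      show θ (YA f s) = YA f s
      rw [hθ_apply']
      apply Subtype.ext
      simp only [Subgroup.coe_mul, Subgroup.coe_inv, YA_coe]
      rw [← ys_single (fun _ => (s : K)), Cfsg.Agent.Lead.Tw.E6.conj_ys' hF _ c hc hgc [1] (by decide)]
      apply ys_congr
      intro i hi
      simp only [List.mem_cons, List.not_mem_nil, or_false] at hi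
      rw [hi, hχ1, inv_one, one_mul]
    · intro t
      show θ (XB f h3 t) = XB f h3 t
      exact hfix _ (twd4_Xp_le hq hK f hf _ hS3 _ (XB_mem f h3 t))
    · intro t
      show θ (YB f h3 t) = YB f h3 t
      rw [hθ_apply']
      apply Subtype.ext
      simp only [Subgroup.coe_mul, Subgroup.coe_inv, YB_coe]
      rw [← ys_tri, Cfsg.Agent.Lead.Tw.E6.conj_ys' hF _ c hc hgc [0, 2, 3] (by decide)]
      apply ys_congr
      intro i hi
      simp only [List.mem_cons, List.not_mem_nil, or_false] at hi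
      rcases hi with rfl | rfl | rfl
      · rw [hχ0, inv_one, one_mul]
      · rw [hχ2, inv_one, one_mul]
      · rw [hχ3, inv_one, one_mul]
  apply MulEquiv.ext
  intro x
  exact DFunLike.congr_fun hfin x

/-- the conclusion of S4613 for the group of the twisting datum -/
theorem twd4_noPAut_orth (p e : ℕ) [Fact p.Prime] (hqp : q = p ^ e) :
    NoPAut p ↥(orthGroup hF (tw f) S) := by
  haveI : Finite ↥(orthGroup hF (tw f) S) := inferInstance
  exact noPAut_of_opp p (U1 hF (tw f) S) (V1 hF (tw f) S) (sylow_U1 hq hK f hf p e hqp)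
    ⟨(orthData f).n₀, (orthData f).map_n₀_U1⟩ U1_inf_V1
    (fun g hg => (orthData f).exists_conj_V1 (hSz hq hK f hf) (hCb hq hK f hf) g hg)
    (fun θ hU hV hfix => twd4_rigid hq hK f hf θ hU hV hfix)

end

/-- FAMILY PA-TWD4 -/
theorem noPAut_twistedD4 {F : Type*} [Field F] [Fintype F] (p : ℕ) [Fact p.Prime] [CharP F p]
    (q : ℕ) (hq : IsPrimePow q) (hF : Fintype.card F = q ^ 3) :
    NoPAut p (twistedD4 F q) := by
  have hp := (Fact.out : p.Prime)
  have hq1 : 1 < q := hq.one_lt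
  -- `q` is a power of `p`
  obtain ⟨n, hn⟩ := FiniteField.card F p
  have hqp : ∃ e, q = p ^ e := by
    have h1 : q ^ 3 = p ^ (n : ℕ) := by rw [← hF]; exact hn.2
    have h2 : q ∣ p ^ (n : ℕ) := by
      rw [← h1]
      exact dvd_pow_self q (by norm_num)
    obtain ⟨e, -, he⟩ := (Nat.dvd_prime_pow hp).1 h2
    exact ⟨e, he⟩
  obtain ⟨e, he⟩ := hqp
  obtain ⟨φ, hφ⟩ := Cfsg.Agent.Lead.Tw.exists_frob hq hF
  rw [Cfsg.Agent.Lead.Tw.D4.twisted_eq hF φ hφ]
  exact twd4_noPAut_orth hq1 hF φ hφ p e he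

end Cfsg.Agent.Helper28.PA
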