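import Mathlib
import Cfsg.Agent.Lib.Lead.TwE6AutF
import Cfsg.Agent.Lib.Helper28.PAOpp

/-!
# S4613, family `²E₆(q)`
-/

set_option autoImplicit false
set_option linter.unusedSectionVars false
set_option linter.unusedSimpArgs false
set_option linter.unusedVariables false
set_option linter.style.haveILetI false

namespace Cfsg.Agent.Helper28.PA

open Cfsg Cfsg.Lie Cfsg.Agent.Lead.Chev Cfsg.Agent.Helper6.ChevC Cfsg.Agent.Helper6.SL2Hom
  Cfsg.Agent.Helper6.ChevL Cfsg.Agent.Lead.Tw.AutRk1 Cfsg.Agent.Helper6.AutRank1 Cfsg.Agent.Lead.ZPM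
  Cfsg.Agent.Lead.Tw Cfsg.Agent.Lead.Tw.E6

section

variable {K : Type*} [Field K] [Fintype K] {q : ℕ} (hq : 1 < q) (hK : Fintype.card K = q ^ 2)
  (f : K ≃+* K) (hf : ∀ t, f t = t ^ q)
include hq hK hf

/-- the class root subgroups lie in `U¹` -/
theorem twe6_Xp_le (v : List ℕ) (hv : v ∈ S) (hc : OrthClass chevE6 v) :
    Xp hF (tw f) S v hc ≤ U1 hF (tw f) S := by
  intro g hg
  obtain ⟨φ, hφ⟩ := (mem_Xp v hc g).1 hg
  rw [mem_U1, hφ]
  exact xs_mem_posUnipotent hF v ((orthData f).gen.valid v hv) φ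

/-- **rigidity**: an automorphism normalising `U¹` and `V¹` and fixing `U¹` elementwise is trivial -/
theorem twe6_rigid (θ : MulAut ↥(orthGroup hF (tw f) S))
    (hU : (U1 hF (tw f) S).map θ.toMonoidHom = U1 hF (tw f) S)
    (hV : (V1 hF (tw f) S).map θ.toMonoidHom = V1 hF (tw f) S)
    (hfix : ∀ x ∈ U1 hF (tw f) S, θ x = x) : θ = 1 := by
  have h2 := hff hq hK f hf
  obtain ⟨a, φ, haφ⟩ := exists_diag_field hq hK f hf θ hU hV
  have hXPfix : ∀ {i j : ℕ} (hp : Pair i j) (t : K), θ (XP f h2 hp t) = XP f h2 hp t := by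
    intro i j hp t
    exact hfix _ (twe6_Xp_le hq hK f hf _ hp.mem _ (XP_mem f h2 hp t))
  have hXSfix : ∀ {i : ℕ} (hs : Sgl i) (s : ↥(Fq f)), θ (XS f hs s) = XS f hs s := by
    intro i hs s
    exact hfix _ (twe6_Xp_le hq hK f hf _ hs.mem _ (XS_mem f hs s))
  have keyP : ∀ {i j : ℕ} (hp : Pair i j) (t : K), extC chevE6 a.1 i * φ t = t := by
    intro i j hp t
    have e1 := hXPfix hp t
    rw [haφ, MulAut.mul_apply, FA_XP hq hK f hf, DA_XP] at e1
    exact XP_injective f h2 hp e1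
  have hφ : φ = 1 := by
    have ha0 : extC chevE6 a.1 0 = 1 := by
      have := keyP pair05 1
      rwa [map_one, mul_one] at this
    apply RingEquiv.ext
    intro t
    have := keyP pair05 t
    rw [ha0, one_mul] at this
    exact this
  have haP : ∀ {i j : ℕ} (hp : Pair i j), extC chevE6 a.1 i = 1 := by
    intro i j hp
    have := keyP hp 1
    rwa [map_one, mul_one] at this
  have hθ : θ = DA f a := by
    rw [haφ, hφ, map_one, mul_one]
  have haS : ∀ {i : ℕ} (hs : Sgl i), aS f a hs = 1 := by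
    intro i hs
    have e1 := hXSfix hs 1
    rw [hθ, DA_XS, mul_one] at e1
    exact XS_injective f hs e1
  have hfin : θ.toMonoidHom = (1 : MulAut ↥(orthGroup hF (tw f) S)).toMonoidHom := by
    apply eq_of_gens hq hK f hf
    · intro i hs s
      show θ (XS f hs s) = XS f hs s
      exact hXSfix hs s
    · intro i hs s
      show θ (YS f hs s) = YS f hs s
      rw [hθ, DA_YS, haS hs, inv_one, one_mul]
    · intro i j hp t
      show θ (XP f h2 hp t) = XP f h2 hp t
      exact hXPfix hp t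
    · intro i j hp t
      show θ (YP f h2 hp t) = YP f h2 hp t
      rw [hθ, DA_YP, haP hp, inv_one, one_mul]
  apply MulEquiv.ext
  intro x
  exact DFunLike.congr_fun hfin x

/-- the conclusion of S4613 for the group of the twisting datum -/
theorem twe6_noPAut_orth (p e : ℕ) [Fact p.Prime] (hqp : q = p ^ e) :
    NoPAut p ↥(orthGroup hF (tw f) S) := by
  haveI : Finite ↥(orthGroup hF (tw f) S) := inferInstance
  exact noPAut_of_opp p (U1 hF (tw f) S) (V1 hF (tw f) S) (sylow_U1 hq hK f hf p e hqp)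
    ⟨(orthData f).n₀, (orthData f).map_n₀_U1⟩ U1_inf_V1
    (fun g hg => (orthData f).exists_conj_V1 (hSz hq hK f hf) (hCb hq hK f hf) g hg)
    (fun θ hU hV hfix => twe6_rigid hq hK f hf θ hU hV hfix)

end

/-- FAMILY PA-TWE6 -/
theorem noPAut_twistedE6 {F : Type*} [Field F] [Fintype F] (p : ℕ) [Fact p.Prime] [CharP F p]
    (q : ℕ) (hq : IsPrimePow q) (hF : Fintype.card F = q ^ 2) :
    NoPAut p (twistedE6 F q) := by
  have hp := (Fact.out : p.Prime)
  have hq1 : 1 < q := hq.one_lt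
  -- `q` is a power of `p`
  obtain ⟨n, hn⟩ := FiniteField.card F p
  have hqp : ∃ e, q = p ^ e := by
    have h1 : q ^ 2 = p ^ (n : ℕ) := by rw [← hF]; exact hn.2
    have h2 : q ∣ p ^ (n : ℕ) := by
      rw [← h1]
      exact dvd_pow_self q (by norm_num)
    obtain ⟨e, -, he⟩ := (Nat.dvd_prime_pow hp).1 h2
    exact ⟨e, he⟩
  obtain ⟨e, he⟩ := hqp
  obtain ⟨φ, hφ⟩ := Cfsg.Agent.Lead.Tw.exists_frob hq hF
  rw [Cfsg.Agent.Lead.Tw.E6.twisted_eq hF φ hφ]
  exact twe6_noPAut_orth hq1 hF φ hφ p e he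

end Cfsg.Agent.Helper28.PA
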