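import Mathlib
import Cfsg.Prelude.Def_LieTypeChar
import Cfsg.Agent.Lib.Helper28.PAQuot
import Cfsg.Agent.Lib.Helper28.PATWE6
import Cfsg.Agent.Lib.Helper28.PATWD4
import Cfsg.Agent.Lib.Helper28.PAPOMINUS
import Cfsg.Agent.Lib.Helper9.PATWF4
import Cfsg.Agent.Lib.Helper16.PATWG2
import Cfsg.Agent.Lib.Helper1.PACHEV
import Cfsg.Agent.Lib.Helper2.PAPSU
import Cfsg.Agent.Lib.Helper19.PASZ
import Cfsg.Agent.Lib.Helper25.PAPSL
import Cfsg.Agent.Lib.Helper13.PAPSP
import Cfsg.Agent.Lib.Helper4.PAPOPLUS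
import Cfsg.Agent.Lib.Helper4.PAPOODD

/-!
# S4613: assembly over the families of `IsLieTypeChar`

Every automorphism of order prime to `p` of a group of Lie type in characteristic `p` which fixes a Sylow
`p`-subgroup elementwise is trivial.  The family statements `noPAut_*` are proved in the imported files.
-/

set_option autoImplicit false

namespace Cfsg.Agent.Helper28.PA

open Cfsg Cfsg.Lie

/-- the conclusion of S4613 for every group of Lie type in characteristic `p` -/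
theorem main {G : Type*} [Group G] [Finite G] (p : ℕ) [Fact p.Prime]
    (hG : Cfsg.IsLieTypeChar p G) : NoPAut p G := by
  rcases hG with h | h | h | h | h | h | h | h | h | h | h
  · obtain ⟨F, _, _, _, n, hn, h2, ⟨e⟩⟩ := h
    have : Finite (Matrix.ProjectiveSpecialLinearGroup (Fin n) F) := Finite.of_equiv G e.toEquiv
    exact NoPAut.of_equiv p e.symm (noPAut_PSL p n hn h2)
  · obtain ⟨F, _, _, _, m, hm, h2, ⟨e⟩⟩ := h
    have : Finite (PSp m F) := Finite.of_equiv G e.toEquiv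
    exact NoPAut.of_equiv p e.symm (noPAut_PSp p m hm h2)
  · obtain ⟨F, _, _, _, n, q, hF, hn, h32, ⟨e⟩⟩ := h
    have : Finite (PSU n F q) := Finite.of_equiv G e.toEquiv
    exact NoPAut.of_equiv p e.symm (noPAut_PSU p n q hF hn h32)
  · obtain ⟨F, _, _, _, m, hm, hodd, ⟨e⟩⟩ := h
    have : Finite (POmega F (quadFormOdd m F)) := Finite.of_equiv G e.toEquiv
    exact NoPAut.of_equiv p e.symm (noPAut_POmegaOdd p m hm hodd)
  · obtain ⟨F, _, _, _, m, hm, ⟨e⟩⟩ := h
    have : Finite (POmega F (quadFormPlus m F)) := Finite.of_equiv G e.toEquiv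
    exact NoPAut.of_equiv p e.symm (noPAut_POmegaPlus p m hm)
  · obtain ⟨F, _, _, _, m, a, b, hm, hab, ⟨e⟩⟩ := h
    have : Finite (POmega F (quadFormMinus (m - 1) F a b)) := Finite.of_equiv G e.toEquiv
    exact NoPAut.of_equiv p e.symm (noPAut_POmegaMinus p m a b hm hab)
  · obtain ⟨F, _, _, _, h⟩ := h
    rcases h with ⟨h3, ⟨e⟩⟩ | ⟨⟨e⟩⟩ | ⟨⟨e⟩⟩ | ⟨⟨e⟩⟩ | ⟨⟨e⟩⟩
    · have : Finite (chevG2.group F) := Finite.of_equiv G e.toEquiv
      exact NoPAut.of_equiv p e.symm (noPAut_Chev p chevG2 (by simp) (fun _ => h3))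
    · have : Finite (chevF4.group F) := Finite.of_equiv G e.toEquiv
      exact NoPAut.of_equiv p e.symm (noPAut_Chev p chevF4 (by simp) (fun h => by cases h))
    · have : Finite (chevE6.group F) := Finite.of_equiv G e.toEquiv
      exact NoPAut.of_equiv p e.symm (noPAut_Chev p chevE6 (by simp) (fun h => by cases h))
    · have : Finite (chevE7.group F) := Finite.of_equiv G e.toEquiv
      exact NoPAut.of_equiv p e.symm (noPAut_Chev p chevE7 (by simp) (fun h => by cases h))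
    · have : Finite (chevE8.group F) := Finite.of_equiv G e.toEquiv
      exact NoPAut.of_equiv p e.symm (noPAut_Chev p chevE8 (by simp) (fun h => by cases h))
  · obtain ⟨K, _, _, _, q, hq, h⟩ := h
    rcases h with ⟨hK, ⟨e⟩⟩ | ⟨hK, ⟨e⟩⟩
    · have : Finite (twistedE6 K q) := Finite.of_equiv G e.toEquiv
      exact NoPAut.of_equiv p e.symm (noPAut_twistedE6 p q hq hK)
    · have : Finite (twistedD4 K q) := Finite.of_equiv G e.toEquiv
      exact NoPAut.of_equiv p e.symm (noPAut_twistedD4 p q hq hK)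
  · obtain ⟨rfl, F, _, _, m, hm, hF, ⟨e⟩⟩ := h
    have : Finite (Cfsg.Lie.Sz F (2 ^ (m + 1))) := Finite.of_equiv G e.toEquiv
    exact NoPAut.of_equiv 2 e.symm (noPAut_Sz m hm hF)
  · obtain ⟨rfl, K, _, _, m, hm, hK, ⟨e⟩⟩ := h
    have : Finite (twistedF4 K (2 ^ m)) := Finite.of_equiv G e.toEquiv
    exact NoPAut.of_equiv 2 e.symm (noPAut_twistedF4 m hm hK)
  · obtain ⟨rfl, K, _, _, m, hm, hK, ⟨e⟩⟩ := h
    have : Finite (twistedG2 K (3 ^ m)) := Finite.of_equiv G e.toEquiv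
    exact NoPAut.of_equiv 3 e.symm (noPAut_twistedG2 m hm hK)

end Cfsg.Agent.Helper28.PA
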