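import Mathlib
import Cfsg.Prelude.Def_ClassicalGeometry
import Cfsg.Agent.Lib.Helper28.Parabolic

set_option autoImplicit false

namespace Cfsg.Agent.Helper28

open Matrix Cfsg

section

variable {F : Type*} [Field F] {n : ℕ}

/-- Reverse-transpose of a square matrix. -/
def revT (M : Matrix (Fin n) (Fin n) F) : Matrix (Fin n) (Fin n) F :=
  (M.submatrix Fin.revPerm Fin.revPerm)ᵀ

theorem revT_apply (M : Matrix (Fin n) (Fin n) F) (i j : Fin n) : revT M i j = M j.rev i.rev := rfl

theorem revT_mul (M N : Matrix (Fin n) (Fin n) F) : revT (M * N) = revT N * revT M := by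
  unfold revT
  rw [← Matrix.transpose_mul, Matrix.submatrix_mul_equiv]

theorem revT_one : revT (1 : Matrix (Fin n) (Fin n) F) = 1 := by
  unfold revT
  rw [Matrix.submatrix_one_equiv, Matrix.transpose_one]

theorem revT_revT (M : Matrix (Fin n) (Fin n) F) : revT (revT M) = M := by
  ext i j
  simp [revT_apply]

/-- The inverse-transpose-reverse automorphism of `GL_n`. -/
def revInvT : GL (Fin n) F →* GL (Fin n) F where
  toFun g := ⟨revT ((g⁻¹ : GL (Fin n) F) : Matrix (Fin n) (Fin n) F), revT (g : Matrix (Fin n) (Fin n) F),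
    by rw [← revT_mul, ← Units.val_mul, mul_inv_cancel, Units.val_one, revT_one],
    by rw [← revT_mul, ← Units.val_mul, inv_mul_cancel, Units.val_one, revT_one]⟩
  map_one' := by
    apply Units.ext
    show revT (((1 : GL (Fin n) F)⁻¹ : GL (Fin n) F) : Matrix (Fin n) (Fin n) F) = 1
    rw [inv_one, Units.val_one, revT_one]
  map_mul' g h := by
    apply Units.ext
    show revT (((g * h)⁻¹ : GL (Fin n) F) : Matrix (Fin n) (Fin n) F) =
      revT ((g⁻¹ : GL (Fin n) F) : Matrix (Fin n) (Fin n) F) * revT ((h⁻¹ : GL (Fin n) F) : Matrix (Fin n) (Fin n) F)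
    rw [_root_.mul_inv_rev, Units.val_mul, revT_mul]

theorem revInvT_val (g : GL (Fin n) F) :
    ((revInvT g : GL (Fin n) F) : Matrix (Fin n) (Fin n) F) =
      revT ((g⁻¹ : GL (Fin n) F) : Matrix (Fin n) (Fin n) F) := rfl

theorem revInvT_inv_val (g : GL (Fin n) F) :
    (((revInvT g)⁻¹ : GL (Fin n) F) : Matrix (Fin n) (Fin n) F) =
      revT (g : Matrix (Fin n) (Fin n) F) := rfl

theorem revInvT_revInvT (g : GL (Fin n) F) : revInvT (revInvT g) = g := by
  apply Units.ext
  rw [revInvT_val, revInvT_inv_val, revT_revT]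

theorem revInvT_lowerLeftZero {j j' : ℕ} (hj : j + j' = n) (g : GL (Fin n) F)
    (h : LowerLeftZero j (g : Matrix (Fin n) (Fin n) F)) :
    LowerLeftZero j' ((revInvT g : GL (Fin n) F) : Matrix (Fin n) (Fin n) F) := by
  have h' := lowerLeftZero_inv g h
  intro i l hi hl
  rw [revInvT_val, revT_apply]
  apply h'
  · rw [Fin.val_rev]; have := l.2; omega
  · rw [Fin.val_rev]; have := i.2; omega

/-- The parabolic subgroups of complementary dimensions are isomorphic. -/
noncomputable def parabolicDualEquiv {j j' : ℕ} (hj : j + j' = n) :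
    ↥(stabilizing (glToMat (Fin n) F) (firstCoords F n j)) ≃*
      ↥(stabilizing (glToMat (Fin n) F) (firstCoords F n j')) where
  toFun g := ⟨revInvT g.1, (mem_parabolic_iff _).mpr (revInvT_lowerLeftZero hj g.1 ((mem_parabolic_iff _).mp g.2))⟩
  invFun g := ⟨revInvT g.1, (mem_parabolic_iff _).mpr
    (revInvT_lowerLeftZero (by omega) g.1 ((mem_parabolic_iff _).mp g.2))⟩
  left_inv g := Subtype.ext (revInvT_revInvT g.1)
  right_inv g := Subtype.ext (revInvT_revInvT g.1)
  map_mul' g h := Subtype.ext (map_mul revInvT g.1 h.1)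

/-- The elementary matrix as an element of `GL`. -/
noncomputable def elemGL (a b : Fin n) (hab : a ≠ b) : GL (Fin n) F :=
  Matrix.GeneralLinearGroup.mkOfDetNeZero (Matrix.transvection a b (1 : F))
    (by rw [Matrix.det_transvection_of_ne _ _ hab]; exact one_ne_zero)

theorem elemGL_val (a b : Fin n) (hab : a ≠ b) :
    ((elemGL a b hab : GL (Fin n) F) : Matrix (Fin n) (Fin n) F) = Matrix.transvection a b (1 : F) := rfl

theorem elemGL_mulVec (a b : Fin n) (hab : a ≠ b) (v : Fin n → F) :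
    ((elemGL a b hab : GL (Fin n) F) : Matrix (Fin n) (Fin n) F) *ᵥ v = v + v b • Pi.single a (1 : F) := by
  rw [elemGL_val, Matrix.transvection, Matrix.add_mulVec, Matrix.one_mulVec, Matrix.single_mulVec_eq, one_mul]

theorem elemGL_mem_parabolic (j : ℕ) (a b : Fin n) (hab : a ≠ b) (hj : ¬ (j ≤ (a : ℕ) ∧ (b : ℕ) < j)) :
    (elemGL a b hab : GL (Fin n) F) ∈ stabilizing (glToMat (Fin n) F) (firstCoords F n j) := by
  rw [mem_parabolic_iff]
  intro i l hi hl
  rw [elemGL_val, Matrix.transvection, Matrix.add_apply, Matrix.one_apply, Matrix.single_apply]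
  have h1 : i ≠ l := by
    intro h; rw [h] at hi; omega
  rw [if_neg h1, zero_add, if_neg]
  rintro ⟨rfl, rfl⟩
  exact hj ⟨hi, hl⟩

/-- A subspace invariant under the parabolic subgroup absorbs `u b • e_a`. -/
theorem smul_single_mem_of_invariant (j : ℕ) (U : Submodule F (Fin n → F))
    (hU : ∀ h ∈ stabilizing (glToMat (Fin n) F) (firstCoords F n j), ∀ v ∈ U,
      (h : Matrix (Fin n) (Fin n) F) *ᵥ v ∈ U)
    (u : Fin n → F) (hu : u ∈ U) (a b : Fin n) (hab : a ≠ b) (hj : ¬ (j ≤ (a : ℕ) ∧ (b : ℕ) < j)) :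
    u b • (Pi.single a (1 : F) : Fin n → F) ∈ U := by
  have h1 := hU _ (elemGL_mem_parabolic j a b hab hj) u hu
  rw [elemGL_mulVec] at h1
  have := U.sub_mem h1 hu
  rwa [add_sub_cancel_left] at this

theorem single_mem_of_invariant (j : ℕ) (U : Submodule F (Fin n → F))
    (hU : ∀ h ∈ stabilizing (glToMat (Fin n) F) (firstCoords F n j), ∀ v ∈ U,
      (h : Matrix (Fin n) (Fin n) F) *ᵥ v ∈ U)
    (u : Fin n → F) (hu : u ∈ U) (a b : Fin n) (hab : a ≠ b) (hj : ¬ (j ≤ (a : ℕ) ∧ (b : ℕ) < j))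
    (hub : u b ≠ 0) : (Pi.single a (1 : F) : Fin n → F) ∈ U := by
  have h1 := smul_single_mem_of_invariant j U hU u hu a b hab hj
  have := U.smul_mem (u b)⁻¹ h1
  rwa [smul_smul, inv_mul_cancel₀ hub, one_smul] at this

/-- A nonzero invariant subspace contains the first `j` basis vectors. -/
theorem single_mem_of_invariant_of_ne_zero (j : ℕ) (U : Submodule F (Fin n → F))
    (hU : ∀ h ∈ stabilizing (glToMat (Fin n) F) (firstCoords F n j), ∀ v ∈ U,
      (h : Matrix (Fin n) (Fin n) F) *ᵥ v ∈ U)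
    (u : Fin n → F) (hu : u ∈ U) (hu0 : u ≠ 0) (a : Fin n) (ha : (a : ℕ) < j) :
    (Pi.single a (1 : F) : Fin n → F) ∈ U := by
  by_cases hex : ∃ b, b ≠ a ∧ u b ≠ 0
  · obtain ⟨b, hba, hub⟩ := hex
    exact single_mem_of_invariant j U hU u hu a b hba.symm (by omega) hub
  · push Not at hex
    have hua : u = u a • (Pi.single a (1 : F) : Fin n → F) := by
      ext i
      by_cases hi : i = a
      · subst hi; simp
      · rw [hex i hi]; simp [hi]
    have hua0 : u a ≠ 0 := by
      intro h0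
      apply hu0
      rw [hua, h0, zero_smul]
    have := U.smul_mem (u a)⁻¹ hu
    rw [hua, smul_smul] at this
    simpa [hua0] using this

theorem firstCoords_le_of_invariant_of_ne_zero (j : ℕ) (U : Submodule F (Fin n → F))
    (hU : ∀ h ∈ stabilizing (glToMat (Fin n) F) (firstCoords F n j), ∀ v ∈ U,
      (h : Matrix (Fin n) (Fin n) F) *ᵥ v ∈ U)
    (u : Fin n → F) (hu : u ∈ U) (hu0 : u ≠ 0) : firstCoords F n j ⊆ (U : Set (Fin n → F)) := by
  intro w hw
  have hw' : w = ∑ i, w i • (Pi.single i (1 : F) : Fin n → F) := by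
    ext l
    simp [Finset.sum_apply, Pi.single_apply]
  rw [hw']
  apply U.sum_mem
  intro i _
  by_cases hi : (i : ℕ) < j
  · exact U.smul_mem _ (single_mem_of_invariant_of_ne_zero j U hU u hu hu0 i hi)
  · rw [hw i (not_lt.mp hi), zero_smul]
    exact U.zero_mem

/-- An invariant subspace not inside the coordinate subspace is everything. -/
theorem eq_top_of_invariant_of_not_le (j : ℕ) (U : Submodule F (Fin n → F))
    (hU : ∀ h ∈ stabilizing (glToMat (Fin n) F) (firstCoords F n j), ∀ v ∈ U,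
      (h : Matrix (Fin n) (Fin n) F) *ᵥ v ∈ U)
    (u : Fin n → F) (hu : u ∈ U) (hu0 : u ∉ firstCoords F n j) : U = ⊤ := by
  have hex : ∃ b : Fin n, j ≤ (b : ℕ) ∧ u b ≠ 0 := by
    by_contra hcon
    push Not at hcon
    exact hu0 hcon
  obtain ⟨b, hjb, hub⟩ := hex
  have hsingle : ∀ a : Fin n, a ≠ b → (Pi.single a (1 : F) : Fin n → F) ∈ U := by
    intro a hab
    exact single_mem_of_invariant j U hU u hu a b hab (by omega) hub
  have hu' : u = ∑ i, u i • (Pi.single i (1 : F) : Fin n → F) := by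
    ext l
    simp [Finset.sum_apply, Pi.single_apply]
  have hb : (Pi.single b (1 : F) : Fin n → F) ∈ U := by
    have h1 : ∑ i ∈ Finset.univ.erase b, u i • (Pi.single i (1 : F) : Fin n → F) ∈ U := by
      apply U.sum_mem
      intro i hi
      exact U.smul_mem _ (hsingle i (Finset.ne_of_mem_erase hi))
    have h2 : u b • (Pi.single b (1 : F) : Fin n → F) ∈ U := by
      have h3 := U.sub_mem hu h1
      rw [← Finset.add_sum_erase _ _ (Finset.mem_univ b)] at hu'
      have h4 : u - ∑ i ∈ Finset.univ.erase b, u i • (Pi.single i (1 : F) : Fin n → F) =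
          u b • (Pi.single b (1 : F) : Fin n → F) := by
        nth_rewrite 1 [hu']
        rw [add_sub_cancel_right]
      rwa [h4] at h3
    have := U.smul_mem (u b)⁻¹ h2
    rwa [smul_smul, inv_mul_cancel₀ hub, one_smul] at this
  rw [eq_top_iff]
  intro w _
  have hw' : w = ∑ i, w i • (Pi.single i (1 : F) : Fin n → F) := by
    ext l
    simp [Finset.sum_apply, Pi.single_apply]
  rw [hw']
  apply U.sum_mem
  intro i _
  apply U.smul_mem
  by_cases hi : i = b
  · rw [hi]; exact hb
  · exact hsingle i hi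

end

end Cfsg.Agent.Helper28
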