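import Mathlib
import Cfsg.Agent.Lib.Helper12.RegUnipI

/-!
# Two conjugate regular unipotent elements generating `SL_3(F)`: basic tools
-/

set_option autoImplicit false

namespace Cfsg.Agent.Helper28.RU

open Matrix
open Cfsg.Agent.Helper12.RegUnip

variable {F : Type*} [Field F]

theorem mat3_ext {R : Type*}
    {a11 a12 a13 a21 a22 a23 a31 a32 a33 b11 b12 b13 b21 b22 b23 b31 b32 b33 : R}
    (h11 : a11 = b11) (h12 : a12 = b12) (h13 : a13 = b13) (h21 : a21 = b21) (h22 : a22 = b22)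
    (h23 : a23 = b23) (h31 : a31 = b31) (h32 : a32 = b32) (h33 : a33 = b33) :
    (!![a11, a12, a13; a21, a22, a23; a31, a32, a33] : Matrix (Fin 3) (Fin 3) R) =
      !![b11, b12, b13; b21, b22, b23; b31, b32, b33] := by
  rw [h11, h12, h13, h21, h22, h23, h31, h32, h33]

/-- explicit root elements -/
def x12 (t : F) : Matrix (Fin 3) (Fin 3) F := !![1, t, 0; 0, 1, 0; 0, 0, 1]
/-- explicit root elements -/
def x13 (t : F) : Matrix (Fin 3) (Fin 3) F := !![1, 0, t; 0, 1, 0; 0, 0, 1]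
/-- explicit root elements -/
def x23 (t : F) : Matrix (Fin 3) (Fin 3) F := !![1, 0, 0; 0, 1, t; 0, 0, 1]
/-- explicit root elements -/
def x21 (t : F) : Matrix (Fin 3) (Fin 3) F := !![1, 0, 0; t, 1, 0; 0, 0, 1]
/-- explicit root elements -/
def x31 (t : F) : Matrix (Fin 3) (Fin 3) F := !![1, 0, 0; 0, 1, 0; t, 0, 1]
/-- explicit root elements -/
def x32 (t : F) : Matrix (Fin 3) (Fin 3) F := !![1, 0, 0; 0, 1, 0; 0, t, 1]
/-- the Jordan block -/
def Jm (F : Type*) [Field F] : Matrix (Fin 3) (Fin 3) F := !![1, 1, 0; 0, 1, 1; 0, 0, 1]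

theorem x12_eq (t : F) : (1 + single (0 : Fin 3) 1 t : Matrix (Fin 3) (Fin 3) F) = x12 t := by
  ext i j; fin_cases i <;> fin_cases j <;> simp [x12]
theorem x13_eq (t : F) : (1 + single (0 : Fin 3) 2 t : Matrix (Fin 3) (Fin 3) F) = x13 t := by
  ext i j; fin_cases i <;> fin_cases j <;> simp [x13]
theorem x23_eq (t : F) : (1 + single (1 : Fin 3) 2 t : Matrix (Fin 3) (Fin 3) F) = x23 t := by
  ext i j; fin_cases i <;> fin_cases j <;> simp [x23]
theorem x21_eq (t : F) : (1 + single (1 : Fin 3) 0 t : Matrix (Fin 3) (Fin 3) F) = x21 t := by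
  ext i j; fin_cases i <;> fin_cases j <;> simp [x21]
theorem x31_eq (t : F) : (1 + single (2 : Fin 3) 0 t : Matrix (Fin 3) (Fin 3) F) = x31 t := by
  ext i j; fin_cases i <;> fin_cases j <;> simp [x31]
theorem x32_eq (t : F) : (1 + single (2 : Fin 3) 1 t : Matrix (Fin 3) (Fin 3) F) = x32 t := by
  ext i j; fin_cases i <;> fin_cases j <;> simp [x32]

theorem Jm_eq : (1 + Nmat F 0 : Matrix (Fin 3) (Fin 3) F) = Jm F := by
  ext i j; fin_cases i <;> fin_cases j <;> simp [Jm, Nmat, pathMat_apply]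

/-- seed identity, first part -/
theorem seed1 : ((Jm F * x21 (-1) * Jm F) * (Jm F * x21 (-1) * Jm F)) *
    ((Jm F * x21 (-1)) * (Jm F * x21 (-1)) * (Jm F * x21 (-1))) = x13 1 * x23 (-1) := by
  simp only [Jm, x21, x13, x23, Matrix.mul_fin_three]
  ext i j; fin_cases i <;> fin_cases j <;> simp <;> ring

/-- seed identity, second part -/
theorem seed2 : Jm F * (x13 1 * x23 (-1)) = x23 (-1) * Jm F := by
  simp only [Jm, x13, x23, Matrix.mul_fin_three]
  ext i j; fin_cases i <;> fin_cases j <;> simp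

/-- seed identity, third part -/
theorem seed3 : Jm F * x13 1 * x23 (-1) = x12 1 := by
  simp only [Jm, x13, x23, x12, Matrix.mul_fin_three]
  ext i j; fin_cases i <;> fin_cases j <;> simp

theorem x21_mul (a b : F) : x21 a * x21 b = x21 (a + b) := by
  simp only [x21, Matrix.mul_fin_three]
  ext i j; fin_cases i <;> fin_cases j <;> simp [add_comm]

theorem x21_zero : x21 (0 : F) = 1 := by
  simp only [x21, Matrix.one_fin_three]

theorem x21_pow (a : F) (n : ℕ) : x21 a ^ n = x21 ((n : F) * a) := by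
  induction n with
  | zero => simp [x21_zero]
  | succ n ih =>
    rw [pow_succ, ih, x21_mul]
    congr 1
    push_cast
    ring

/-- Weyl element relation -/
theorem weyl12 (t : F) : (x12 1 * x21 (-1) * x12 1) * x21 t = x12 (-t) * (x12 1 * x21 (-1) * x12 1) := by
  simp only [x12, x21, Matrix.mul_fin_three]
  ext i j; fin_cases i <;> fin_cases j <;> simp

section mset

variable {H : Subgroup (Matrix.SpecialLinearGroup (Fin 3) F)}

theorem mset_pow {A : Matrix (Fin 3) (Fin 3) F} (hA : A ∈ Mset H) (n : ℕ) : A ^ n ∈ Mset H := by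
  obtain ⟨a, ha, rfl⟩ := hA
  exact ⟨a ^ n, H.pow_mem ha n, by simp⟩

theorem mem_x12 {t : F} : x12 t ∈ Mset H ↔ t ∈ P H (show (0 : Fin 3) ≠ 1 by decide) := by
  rw [mem_P, x12_eq]
theorem mem_x13 {t : F} : x13 t ∈ Mset H ↔ t ∈ P H (show (0 : Fin 3) ≠ 2 by decide) := by
  rw [mem_P, x13_eq]
theorem mem_x23 {t : F} : x23 t ∈ Mset H ↔ t ∈ P H (show (1 : Fin 3) ≠ 2 by decide) := by
  rw [mem_P, x23_eq]
theorem mem_x21 {t : F} : x21 t ∈ Mset H ↔ t ∈ P H (show (1 : Fin 3) ≠ 0 by decide) := by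
  rw [mem_P, x21_eq]
theorem mem_x31 {t : F} : x31 t ∈ Mset H ↔ t ∈ P H (show (2 : Fin 3) ≠ 0 by decide) := by
  rw [mem_P, x31_eq]
theorem mem_x32 {t : F} : x32 t ∈ Mset H ↔ t ∈ P H (show (2 : Fin 3) ≠ 1 by decide) := by
  rw [mem_P, x32_eq]

end mset

/-- powers of a matrix killed by a split quadratic -/
theorem pow_eq_one_of_quadratic (S : Matrix (Fin 3) (Fin 3) F) (a c : F)
    (h : (S - a • 1) * (S - c • 1) = 0) (hne : a ≠ c) (n : ℕ) (ha : a ^ n = 1) (hc : c ^ n = 1) :
    S ^ n = 1 := by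
  have hAS : (S - a • 1) * S = c • (S - a • 1) := by
    have h1 : (S - a • 1) * S = (S - a • 1) * (S - c • 1) + c • (S - a • 1) := by
      rw [mul_sub, mul_smul_comm, mul_one]
      abel
    rw [h1, h, zero_add]
  have key : ∀ m : ℕ, ∃ e : F, S ^ m = a ^ m • 1 + e • (S - a • 1) ∧ e * (c - a) = c ^ m - a ^ m := by
    intro m
    induction m with
    | zero => exact ⟨0, by simp, by simp⟩
    | succ m ih =>
      obtain ⟨e, he, he2⟩ := ih
      refine ⟨a ^ m + e * c, ?_, ?_⟩
      · rw [pow_succ, he, add_mul, smul_mul_assoc, smul_mul_assoc, one_mul, hAS]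
        have h2 : S = (S - a • 1) + a • 1 := by abel
        conv_lhs => rw [h2]
        rw [smul_add, smul_smul, smul_smul, add_smul, ← pow_succ]
        abel_nf
      · rw [add_mul, mul_assoc, mul_comm c, ← mul_assoc, he2]
        ring
  obtain ⟨e, he, he2⟩ := key n
  rw [ha, hc, sub_self] at he2
  have he0 : e = 0 := by
    rcases mul_eq_zero.mp he2 with h1 | h1
    · exact h1
    · exact absurd (sub_eq_zero.mp h1).symm hne
  rw [he, ha, he0, zero_smul, add_zero, one_smul]

end Cfsg.Agent.Helper28.RU
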