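import Mathlib
import Cfsg.Agent.Lib.Helper28.RU1

/-!
# Two conjugate regular unipotent elements generating `SL_3(F)`: the generation argument
-/

set_option autoImplicit false

namespace Cfsg.Agent.Helper28.RU

open Matrix
open Cfsg.Agent.Helper12.RegUnip

variable {F : Type*} [Field F]

/-- the semisimple element -/
def Sm (a c s21 s23 s31 : F) : Matrix (Fin 3) (Fin 3) F := !![a, 0, 0; s21, a, s23; s31, 0, c]

/-- the elements `1 + l e₂ ε'` -/
def Ep (th b l : F) : Matrix (Fin 3) (Fin 3) F := !![1, 0, 0; -(l * th), 1, l * b; 0, 0, 1]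

theorem Sm_commute (a c s21 s23 s31 t : F) : Commute (Sm a c s21 s23 s31) (x21 t) := by
  unfold Commute SemiconjBy
  simp only [Sm, x21, Matrix.mul_fin_three]
  apply mat3_ext <;> ring

theorem Sm_quad (a c s21 s23 s31 : F) (hss : s21 * (a - c) + s23 * s31 = 0) :
    (Sm a c s21 s23 s31 - a • 1) * (Sm a c s21 s23 s31 - c • 1) = 0 := by
  have h1 : Sm a c s21 s23 s31 - a • 1 = !![0, 0, 0; s21, 0, s23; s31, 0, c - a] := by
    ext i j; fin_cases i <;> fin_cases j <;> simp [Sm]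
  have h2 : Sm a c s21 s23 s31 - c • 1 = !![a - c, 0, 0; s21, a - c, s23; s31, 0, 0] := by
    ext i j; fin_cases i <;> fin_cases j <;> simp [Sm]
  have h3 : (0 : Matrix (Fin 3) (Fin 3) F) = !![0, 0, 0; 0, 0, 0; 0, 0, 0] := by
    ext i j; fin_cases i <;> fin_cases j <;> simp
  rw [h1, h2, h3, Matrix.mul_fin_three]
  apply mat3_ext
  all_goals first | ring1 | linear_combination hss

theorem Sm_conj_x23 (a c s21 s23 s31 t : F) (hc : a ^ 2 * c = 1) :
    Sm a c s21 s23 s31 * x23 t =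
      (Ep (a ^ 2 * s31) (a ^ 3 - 1) t * x23 t) * Sm a c s21 s23 s31 := by
  simp only [Sm, x23, Ep, Matrix.mul_fin_three]
  apply mat3_ext
  all_goals first | ring1 | linear_combination (-(t * a)) * hc

theorem Sm_conj_Ep (a c s21 s23 s31 l : F) (hc : a ^ 2 * c = 1) :
    Sm a c s21 s23 s31 * Ep (a ^ 2 * s31) (a ^ 3 - 1) l =
      Ep (a ^ 2 * s31) (a ^ 3 - 1) (a ^ 3 * l) * Sm a c s21 s23 s31 := by
  simp only [Sm, Ep, Matrix.mul_fin_three]
  apply mat3_ext
  all_goals first | ring1 | linear_combination (-(l * a * (a ^ 3 - 1))) * hc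

theorem x13_conj_Ep (th b l : F) :
    x13 1 * Ep th b l = (x23 (l * th) * Ep th b l) * x13 1 := by
  simp only [x13, x23, Ep, Matrix.mul_fin_three]
  apply mat3_ext <;> ring

theorem Ep_eq (th b l : F) : Ep th b l = x21 (-(l * th)) * x23 (l * b) := by
  simp only [x21, x23, Ep, Matrix.mul_fin_three]
  apply mat3_ext <;> ring

theorem PS_conj (a c s21 s23 s31 si l : F) (hc : a ^ 2 * c = 1) (hsi : s31 * si = 1) :
    (x13 (-(a * si)) * x23 (-(s21 * si)) * Sm a c s21 s23 s31) * x13 l =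
      x31 (-(l * a * s31 ^ 2)) * (x13 (-(a * si)) * x23 (-(s21 * si)) * Sm a c s21 s23 s31) := by
  simp only [Sm, x13, x23, x31, Matrix.mul_fin_three]
  apply mat3_ext
  all_goals first | ring1 | linear_combination (-(l * a)) * hsi | linear_combination (-(l * s21)) * hsi |
    linear_combination (-(l * a * s31 ^ 2 * a)) * hsi |
    linear_combination (-(l * s31 * s31 * si)) * hc + (-(l * s31)) * hsi

theorem h01 : (0 : Fin 3) ≠ 1 := by decide
theorem h02 : (0 : Fin 3) ≠ 2 := by decide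
theorem h12 : (1 : Fin 3) ≠ 2 := by decide
theorem h10 : (1 : Fin 3) ≠ 0 := by decide
theorem h20 : (2 : Fin 3) ≠ 0 := by decide
theorem h21 : (2 : Fin 3) ≠ 1 := by decide

/-- the generation argument -/
theorem gen_of_family [Fintype F] {H : Subgroup (Matrix.SpecialLinearGroup (Fin 3) F)}
    (a c s21 s23 s31 c0 : F) (ha : a ≠ 0) (hc : a ^ 2 * c = 1) (hne : a ≠ c) (hs31 : s31 ≠ 0)
    (hss : s21 * (a - c) + s23 * s31 = 0) (hj : ∃ j : ℤ, (j : F) * c0 = 1)
    (hJ : Jm F ∈ Mset H) (hY : Sm a c s21 s23 s31 * x21 (-c0) ∈ Mset H)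
    (hgen : ∀ K : Subfield F, a ^ 3 ∈ K → a ^ 2 * s31 ∈ K → K = ⊤) : H = ⊤ := by
  have hc0 : c ≠ 0 := right_ne_zero_of_mul_eq_one hc
  have hth : a ^ 2 * s31 ≠ 0 := mul_ne_zero (pow_ne_zero 2 ha) hs31
  -- the power
  have hpow : (Sm a c s21 s23 s31 * x21 (-c0)) ^ (Fintype.card F - 1) = x21 c0 := by
    rw [(Sm_commute a c s21 s23 s31 (-c0)).mul_pow,
      pow_eq_one_of_quadratic _ a c (Sm_quad a c s21 s23 s31 hss) hne _
        (FiniteField.pow_card_sub_one_eq_one a ha) (FiniteField.pow_card_sub_one_eq_one c hc0),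
      one_mul, x21_pow]
    congr 1
    rw [Nat.cast_sub Fintype.card_pos, FiniteField.cast_card_eq_zero]
    simp
  have h21c : c0 ∈ P H h10 := by
    rw [← mem_x21, ← hpow]
    exact mset_pow hY _
  have h21one : (1 : F) ∈ P H h10 := by
    obtain ⟨j, hj⟩ := hj
    rw [← hj, ← zsmul_eq_mul]
    exact (P H h10).zsmul_mem h21c j
  have hSm : Sm a c s21 s23 s31 ∈ Mset H :=
    mset_cancel_right (mem_x21.mpr ((P H h10).neg_mem h21c)) hY
  -- the seed
  have hT : x21 (-1 : F) ∈ Mset H := mem_x21.mpr ((P H h10).neg_mem h21one)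
  have hA : x13 (1 : F) * x23 (-1) ∈ Mset H := by
    rw [← seed1]
    have hJT := mset_mul hJ hT
    have hn := mset_mul hJT hJ
    exact mset_mul (mset_mul hn hn) (mset_mul (mset_mul hJT hJT) hJT)
  have h23m : x23 (-1 : F) ∈ Mset H := mset_conj hJ hA seed2
  have h23one : (1 : F) ∈ P H h12 := by
    have h := (P H h12).neg_mem (mem_x23.mp h23m)
    rwa [neg_neg] at h
  have h13one : x13 (1 : F) ∈ Mset H := mset_cancel_right h23m hA
  have h12one : x12 (1 : F) ∈ Mset H := by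
    rw [← seed3]
    exact mset_mul (mset_mul hJ h13one) h23m
  -- the loop on the root group (2,3)
  have hEp : ∀ t : F, t ∈ P H h12 → Ep (a ^ 2 * s31) (a ^ 3 - 1) t ∈ Mset H := by
    intro t ht
    have h1 := mset_conj hSm (mem_x23.mpr ht) (Sm_conj_x23 a c s21 s23 s31 t hc)
    exact mset_cancel_right (mem_x23.mpr ht) h1
  have hback : ∀ l : F, Ep (a ^ 2 * s31) (a ^ 3 - 1) l ∈ Mset H → l * (a ^ 2 * s31) ∈ P H h12 := by
    intro l hl
    have h1 := mset_conj h13one hl (x13_conj_Ep (a ^ 2 * s31) (a ^ 3 - 1) l)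
    exact mem_x23.mp (mset_cancel_right hl h1)
  have hm1 : a ^ 2 * s31 ∈ Cfsg.Agent.Helper12.multiplierSubfield (P H h12) := by
    intro t ht
    rw [mul_comm]
    exact hback t (hEp t ht)
  have hm2 : a ^ 3 * (a ^ 2 * s31) ∈ Cfsg.Agent.Helper12.multiplierSubfield (P H h12) := by
    intro t ht
    have h1 := mset_conj hSm (hEp t ht) (Sm_conj_Ep a c s21 s23 s31 t hc)
    have h2 := hback _ h1
    have e : a ^ 3 * (a ^ 2 * s31) * t = a ^ 3 * t * (a ^ 2 * s31) := by ring
    rw [e]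
    exact h2
  have hm3 : a ^ 3 ∈ Cfsg.Agent.Helper12.multiplierSubfield (P H h12) := by
    have h := mul_mem hm2 (inv_mem hm1)
    rwa [mul_assoc, mul_inv_cancel₀ hth, mul_one] at h
  have htop := hgen _ hm3 hm1
  have f23 : ∀ t : F, t ∈ P H h12 := by
    intro t
    have h1 : t ∈ Cfsg.Agent.Helper12.multiplierSubfield (P H h12) := by
      rw [htop]
      trivial
    have h2 := h1 1 h23one
    rwa [mul_one] at h2
  have f21 : ∀ t : F, t ∈ P H h10 := by
    intro t
    have h1 := hEp (-(t / (a ^ 2 * s31))) (f23 _)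
    rw [Ep_eq] at h1
    have h2 := mset_cancel_right (mem_x23.mpr (f23 _)) h1
    have e : -(-(t / (a ^ 2 * s31)) * (a ^ 2 * s31)) = t := by
      field_simp
    rw [e] at h2
    exact mem_x21.mp h2
  have f12 : ∀ t : F, t ∈ P H h01 := by
    intro t
    have hn : x12 (1 : F) * x21 (-1) * x12 1 ∈ Mset H := mset_mul (mset_mul h12one hT) h12one
    have h1 := mset_conj hn (mem_x21.mpr (f21 (-t))) (weyl12 (-t))
    rw [neg_neg] at h1
    exact mem_x12.mp h1
  have f13 : ∀ t : F, t ∈ P H h02 := by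
    intro t
    have h := P_comm h01 h12 h02 (f12 t) (f23 1)
    rwa [mul_one] at h
  have f31 : ∀ t : F, t ∈ P H h20 := by
    intro t
    have hsi : s31 * s31⁻¹ = 1 := mul_inv_cancel₀ hs31
    have hps : x13 (-(a * s31⁻¹)) * x23 (-(s21 * s31⁻¹)) * Sm a c s21 s23 s31 ∈ Mset H :=
      mset_mul (mset_mul (mem_x13.mpr (f13 _)) (mem_x23.mpr (f23 _))) hSm
    have h1 := mset_conj hps (mem_x13.mpr (f13 (-(t / (a * s31 ^ 2)))))
      (PS_conj a c s21 s23 s31 s31⁻¹ _ hc hsi)
    have e : -(-(t / (a * s31 ^ 2)) * a * s31 ^ 2) = t := by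
      field_simp
    rw [e] at h1
    exact mem_x31.mp h1
  have f32 : ∀ t : F, t ∈ P H h21 := by
    intro t
    have h := P_comm h20 h01 h21 (f31 t) (f12 1)
    rwa [mul_one] at h
  apply eq_top_of_full
  intro i j hij t
  rw [← mem_P hij]
  fin_cases i <;> fin_cases j
  · exact absurd rfl hij
  · exact f12 t
  · exact f13 t
  · exact f21 t
  · exact absurd rfl hij
  · exact f23 t
  · exact f31 t
  · exact f32 t
  · exact absurd rfl hij

end Cfsg.Agent.Helper28.RU
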