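import Mathlib
import Cfsg.Agent.Lib.Helper28.RU2

/-!
# Two conjugate regular unipotent elements generating `SL_3(F)`: the family
-/

set_option autoImplicit false

namespace Cfsg.Agent.Helper28.RU

open Matrix
open Cfsg.Agent.Helper12.RegUnip

variable {F : Type*} [Field F]

/-- the second unipotent element -/
def Vm (al ka : F) : Matrix (Fin 3) (Fin 3) F :=
  !![al - (2 * al + (al ^ 2)⁻¹ - 3), -al, (al ^ 2 - 1) ^ 3 / (al ^ 2 * ka ^ 3);
     2 * al + (al ^ 2)⁻¹ - 3, al, -((al ^ 2 - 1) ^ 3 / (al ^ 2 * ka ^ 3));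
     ka ^ 3 / al ^ 2, 0, (al ^ 2)⁻¹]

/-- the conjugating matrix -/
def gm (al ka : F) : Matrix (Fin 3) (Fin 3) F :=
  !![ka⁻¹ * (-al + al⁻¹), ka⁻¹ * (-al), 0;
     ka⁻¹ * (-al ^ 2 + al + 1 - al⁻¹), ka⁻¹ * (al - 1), ka⁻¹;
     ka⁻¹ * (-(al * (ka ^ 3 / al ^ 2))), 0, 0]

theorem gm_det (al ka : F) (hal : al ≠ 0) (hka : ka ≠ 0) : (gm al ka).det = 1 := by
  rw [Matrix.det_fin_three]
  simp [gm]
  field_simp

theorem gm_conj (al ka : F) (hal : al ≠ 0) (hka : ka ≠ 0) :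
    gm al ka * Jm F = Vm al ka * gm al ka := by
  simp only [gm, Jm, Vm, Matrix.mul_fin_three]
  apply mat3_ext
  all_goals field_simp
  all_goals ring1

/-- the entry `s21` -/
def s21f (al ka c0 : F) : F := (2 * al + (al ^ 2)⁻¹ - 3) + ka ^ 3 / al ^ 2 + c0 * al
/-- the entry `s23` -/
def s23f (al ka : F) : F := (al ^ 2)⁻¹ - (al ^ 2 - 1) ^ 3 / (al ^ 2 * ka ^ 3)

theorem J_mul_Vm (al ka c0 : F) :
    Jm F * Vm al ka =
      Sm al (al ^ 2)⁻¹ (s21f al ka c0) (s23f al ka) (ka ^ 3 / al ^ 2) * x21 (-c0) := by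
  simp only [Jm, Vm, Sm, x21, s21f, s23f, Matrix.mul_fin_three]
  apply mat3_ext
  all_goals ring1

theorem hss_family (al ka c0 : F) (hal : al ≠ 0) (hka : ka ≠ 0)
    (hrel : ka ^ 3 = (1 - al) ^ 3 + c0 * (1 - al ^ 3)) :
    s21f al ka c0 * (al - (al ^ 2)⁻¹) + s23f al ka * (ka ^ 3 / al ^ 2) = 0 := by
  have h : s21f al ka c0 * (al - (al ^ 2)⁻¹) + s23f al ka * (ka ^ 3 / al ^ 2) =
      (ka ^ 3 - ((1 - al) ^ 3 + c0 * (1 - al ^ 3))) / al := by
    unfold s21f s23f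
    field_simp
    ring
  rw [h, ← hrel, sub_self, zero_div]

/-- the conjugating element -/
def gSL3 (al ka : F) (hal : al ≠ 0) (hka : ka ≠ 0) : Matrix.SpecialLinearGroup (Fin 3) F :=
  ⟨gm al ka, gm_det al ka hal hka⟩

/-- the core theorem: the family generates `SL_3(F)` -/
theorem core [Fintype F] (al ka c0 : F) (hal : al ≠ 0) (hka : ka ≠ 0) (hal3 : al ^ 3 ≠ 1)
    (hrel : ka ^ 3 = (1 - al) ^ 3 + c0 * (1 - al ^ 3)) (hj : ∃ j : ℤ, (j : F) * c0 = 1)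
    (hgen : ∀ K : Subfield F, al ^ 3 ∈ K → ka ^ 3 ∈ K → K = ⊤) :
    ∃ u g : Matrix.SpecialLinearGroup (Fin 3) F,
      IsNilpotent ((u : Matrix (Fin 3) (Fin 3) F) - 1) ∧
      ((u : Matrix (Fin 3) (Fin 3) F) - 1) ^ (3 - 1) ≠ 0 ∧
      Subgroup.closure ({u, g * u * g⁻¹} : Set (Matrix.SpecialLinearGroup (Fin 3) F)) = ⊤ := by
  refine ⟨uSL F 0, gSL3 al ka hal hka, ?_, ?_, ?_⟩
  · rw [uSL_coe, add_sub_cancel_left]
    exact N_nilpotent
  · rw [uSL_coe, add_sub_cancel_left]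
    exact Npow_ne_zero
  · set H := Subgroup.closure ({uSL F 0, gSL3 al ka hal hka * uSL F 0 * (gSL3 al ka hal hka)⁻¹} :
      Set (Matrix.SpecialLinearGroup (Fin 3) F)) with hH
    have hJ : Jm F ∈ Mset H := by
      rw [← Jm_eq, ← uSL_coe]
      exact mset_coe (Subgroup.subset_closure (by simp))
    have hV : Vm al ka ∈ Mset H := by
      have h1 : ((gSL3 al ka hal hka * uSL F 0 * (gSL3 al ka hal hka)⁻¹ :
          Matrix.SpecialLinearGroup (Fin 3) F) : Matrix (Fin 3) (Fin 3) F) = Vm al ka := by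
        apply coe_conj_eq
        rw [uSL_coe, Jm_eq]
        exact gm_conj al ka hal hka
      rw [← h1]
      exact mset_coe (Subgroup.subset_closure (by simp))
    have hY := mset_mul hJ hV
    rw [J_mul_Vm al ka c0] at hY
    have hc : al ^ 2 * (al ^ 2)⁻¹ = 1 := mul_inv_cancel₀ (pow_ne_zero 2 hal)
    have hne : al ≠ (al ^ 2)⁻¹ := by
      intro h
      apply hal3
      calc al ^ 3 = al ^ 2 * al := by ring
        _ = al ^ 2 * (al ^ 2)⁻¹ := by rw [← h]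
        _ = 1 := hc
    have hs31 : ka ^ 3 / al ^ 2 ≠ 0 := div_ne_zero (pow_ne_zero 3 hka) (pow_ne_zero 2 hal)
    apply gen_of_family al (al ^ 2)⁻¹ (s21f al ka c0) (s23f al ka) (ka ^ 3 / al ^ 2) c0 hal hc hne
      hs31 (hss_family al ka c0 hal hka hrel) hj hJ hY
    intro K h1 h2
    apply hgen K h1
    have e : al ^ 2 * (ka ^ 3 / al ^ 2) = ka ^ 3 := by
      field_simp
    rwa [e] at h2

end Cfsg.Agent.Helper28.RU
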