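import Mathlib
import Cfsg.Agent.Lib.Helper28.RU2

/-!
# Two conjugate regular unipotent elements generating `SL_3(F)`: characteristic two
-/

set_option autoImplicit false

namespace Cfsg.Agent.Helper28.RU

open Matrix
open Cfsg.Agent.Helper12.RegUnip

variable {F : Type*} [Field F]

/-- a subfield containing a generator of the multiplicative group is everything -/
theorem subfield_eq_top_of_generator (mu : Fˣ) (hmu : ∀ x : Fˣ, x ∈ Subgroup.zpowers mu)
    (K : Subfield F) (h : (mu : F) ∈ K) : K = ⊤ := by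
  rw [eq_top_iff]
  intro x _
  by_cases hx : x = 0
  · rw [hx]
    exact zero_mem K
  · obtain ⟨k, hk⟩ := Subgroup.mem_zpowers_iff.mp (hmu (Units.mk0 x hx))
    have h4 : x = ((mu ^ k : Fˣ) : F) := by
      rw [hk]
      rfl
    rw [h4, Units.val_zpow_eq_zpow_val]
    exact zpow_mem h k

/-- the second unipotent element in characteristic two -/
def V2 (r : F) : Matrix (Fin 3) (Fin 3) F := !![1, 0, 0; 0, 1, r ^ 2; r⁻¹, 0, 1]

/-- the conjugating matrix in characteristic two -/
def g2 (r : F) : Matrix (Fin 3) (Fin 3) F := !![0, 0, 1; r, 0, 0; 0, r⁻¹, 0]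

theorem g2_det (r : F) (hr : r ≠ 0) : (g2 r).det = 1 := by
  rw [Matrix.det_fin_three]
  simp [g2, hr]

theorem g2_conj (r : F) (hr : r ≠ 0) : g2 r * Jm F = V2 r * g2 r := by
  simp only [g2, Jm, V2, Matrix.mul_fin_three]
  apply mat3_ext
  all_goals field_simp
  all_goals ring1

theorem V2_eq (r : F) : (1 + Mmat 0 (r ^ 2) r⁻¹ : Matrix (Fin 3) (Fin 3) F) = V2 r := by
  ext i j; fin_cases i <;> fin_cases j <;> simp [V2, Mmat, pathMat_apply, wM]

theorem x13_eq' (t : F) :
    (1 + single (i0 0) (iL 0) t : Matrix (Fin 3) (Fin 3) F) = x13 t := by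
  ext i j; fin_cases i <;> fin_cases j <;> simp [x13, i0, iL]

theorem Jm_sq [CharP F 2] : Jm F * Jm F = x13 1 := by
  have h2 : (2 : F) = 0 := CharP.cast_eq_zero F 2
  simp only [Jm, x13, Matrix.mul_fin_three]
  apply mat3_ext
  all_goals first | ring1 | linear_combination h2

theorem V2_sq [CharP F 2] (r : F) (hr : r ≠ 0) : V2 r * V2 r = x21 r := by
  have h2 : (2 : F) = 0 := CharP.cast_eq_zero F 2
  simp only [V2, x21, Matrix.mul_fin_three]
  apply mat3_ext
  all_goals first | ring1 | linear_combination (r ^ 2) * h2 | linear_combination (r⁻¹) * h2 |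
    (field_simp <;> ring1)

theorem J_conj_x23 (t : F) : Jm F * x23 t = (x13 t * x23 t) * Jm F := by
  simp only [Jm, x13, x23, Matrix.mul_fin_three]
  apply mat3_ext <;> ring1

/-- the conjugating element in characteristic two -/
def g2SL (r : F) (hr : r ≠ 0) : Matrix.SpecialLinearGroup (Fin 3) F := ⟨g2 r, g2_det r hr⟩

theorem char_two_case [Fintype F] [CharP F 2] :
    ∃ u g : Matrix.SpecialLinearGroup (Fin 3) F,
      IsNilpotent ((u : Matrix (Fin 3) (Fin 3) F) - 1) ∧
      ((u : Matrix (Fin 3) (Fin 3) F) - 1) ^ (3 - 1) ≠ 0 ∧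
      Subgroup.closure ({u, g * u * g⁻¹} : Set (Matrix.SpecialLinearGroup (Fin 3) F)) = ⊤ := by
  obtain ⟨mu, hmu⟩ := IsCyclic.exists_generator (α := Fˣ)
  have hr : (mu : F) ≠ 0 := mu.ne_zero
  refine ⟨uSL F 0, g2SL (mu : F) hr, ?_, ?_, ?_⟩
  · rw [uSL_coe, add_sub_cancel_left]
    exact N_nilpotent
  · rw [uSL_coe, add_sub_cancel_left]
    exact Npow_ne_zero
  · set H := Subgroup.closure ({uSL F 0, g2SL (mu : F) hr * uSL F 0 * (g2SL (mu : F) hr)⁻¹} :
      Set (Matrix.SpecialLinearGroup (Fin 3) F)) with hH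
    have hu : (1 + Nmat F 0) ∈ Mset H := by
      rw [← uSL_coe]
      exact mset_coe (Subgroup.subset_closure (by simp))
    have hJ : Jm F ∈ Mset H := by
      rw [← Jm_eq]
      exact hu
    have hV : V2 (mu : F) ∈ Mset H := by
      have h1 : ((g2SL (mu : F) hr * uSL F 0 * (g2SL (mu : F) hr)⁻¹ :
          Matrix.SpecialLinearGroup (Fin 3) F) : Matrix (Fin 3) (Fin 3) F) = V2 (mu : F) := by
        apply coe_conj_eq
        rw [uSL_coe, Jm_eq]
        exact g2_conj (mu : F) hr
      rw [← h1]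
      exact mset_coe (Subgroup.subset_closure (by simp))
    have h13 : (1 : F) ∈ P H h02 := by
      rw [← mem_x13, ← Jm_sq]
      exact mset_mul hJ hJ
    have h21 : (mu : F) ∈ P H h10 := by
      rw [← mem_x21, ← V2_sq (mu : F) hr]
      exact mset_mul hV hV
    have h23 : (mu : F) ∈ P H h12 := by
      have h := P_comm h10 h02 h12 h21 h13
      rwa [mul_one] at h
    have h13' : x13 (mu : F) ∈ Mset H := by
      have h1 := mset_conj hJ (mem_x23.mpr h23) (J_conj_x23 (mu : F))
      exact mset_cancel_right (mem_x23.mpr h23) h1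
    have hzr : (mu : F) * (mu : F)⁻¹ = 1 := mul_inv_cancel₀ hr
    apply gen_top (m := 0) ((mu : F) ^ 2) ((mu : F)⁻¹) (mu : F) hzr (pow_ne_zero 2 hr) hu
    · rw [x13_eq']
      exact h13'
    · rw [V2_eq]
      exact hV
    · intro K hK
      apply subfield_eq_top_of_generator mu hmu K
      have e : (mu : F) ^ 2 * (mu : F)⁻¹ = (mu : F) := by
        field_simp
      rwa [e] at hK

end Cfsg.Agent.Helper28.RU
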