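import Mathlib
import Cfsg.Agent.Lib.Helper28.RU4

/-!
# Two conjugate regular unipotent elements generating `SL_3(F)`: finite field lemmas
-/

set_option autoImplicit false

namespace Cfsg.Agent.Helper28.RU

variable {F : Type*} [Field F]

theorem exists_int_mul_eq_one [Fintype F] (k : ℤ) (hk : (k : F) ≠ 0) :
    ∃ j : ℤ, (j : F) * (k : F) = 1 := by
  refine ⟨k ^ (Fintype.card F - 2), ?_⟩
  have h1 := FiniteField.pow_card_sub_one_eq_one (k : F) hk
  have hq : 2 ≤ Fintype.card F := Fintype.one_lt_card
  have e : Fintype.card F - 1 = (Fintype.card F - 2) + 1 := by omega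
  rw [e, pow_succ] at h1
  push_cast
  exact h1

theorem subfield_pow_card [Finite F] (K : Subfield F) {x : F} (hx : x ∈ K) :
    x ^ Nat.card K = x := by
  have : Fintype K := Fintype.ofFinite K
  have h := FiniteField.pow_card (⟨x, hx⟩ : K)
  rw [Nat.card_eq_fintype_card]
  have h' := congrArg (fun y : K => (y : F)) h
  simpa using h'

theorem subfield_card [Finite F] (K : Subfield F) :
    ∃ m : ℕ, Nat.card F = Nat.card K ^ m :=
  ⟨Module.finrank K F, Module.natCard_eq_pow_finrank⟩

theorem subfield_two_le_card [Finite F] (K : Subfield F) : 2 ≤ Nat.card K :=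
  Finite.one_lt_card

theorem subfield_eq_top_of_card [Finite F] (K : Subfield F) (h : Nat.card K = Nat.card F) :
    K = ⊤ := by
  have hb : Function.Bijective (fun y : K => (y : F)) :=
    Function.Injective.bijective_of_nat_card_le Subtype.val_injective (le_of_eq h.symm)
  rw [eq_top_iff]
  intro x _
  obtain ⟨y, hy⟩ := hb.2 x
  rw [← hy]
  exact y.2

/-- fixed points of a power map among the powers of a generator -/
theorem gen_pow_fixed [Fintype F] (mu : Fˣ) (hmu : ∀ x : Fˣ, x ∈ Subgroup.zpowers mu) (k N : ℕ)
    (hN : 1 ≤ N) (h : ((mu : F) ^ k) ^ N = (mu : F) ^ k) :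
    (Fintype.card F - 1) ∣ k * (N - 1) := by
  have h1 : (mu ^ k) ^ N = mu ^ k := by
    apply Units.ext
    push_cast
    exact h
  have h2 : mu ^ (k * (N - 1)) = 1 := by
    have h3 : mu ^ (k * (N - 1)) * mu ^ k = 1 * mu ^ k := by
      rw [one_mul, ← pow_add]
      have e : k * (N - 1) + k = k * N := by
        obtain ⟨N', rfl⟩ : ∃ N', N = N' + 1 := ⟨N - 1, by omega⟩
        simp
        ring
      rw [e, pow_mul]
      exact h1
    exact mul_right_cancel h3
  have h3 := orderOf_dvd_of_pow_eq_one h2
  rwa [orderOf_eq_card_of_forall_mem_zpowers hmu, Nat.card_units,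
    Nat.card_eq_fintype_card] at h3

/-- a subfield containing the cube of a generator is everything, in odd characteristic -/
theorem subfield_top_of_gen_cube [Fintype F] (h2 : (2 : F) ≠ 0) (mu : Fˣ)
    (hmu : ∀ x : Fˣ, x ∈ Subgroup.zpowers mu) (K : Subfield F) (h : (mu : F) ^ 3 ∈ K) :
    K = ⊤ := by
  obtain ⟨m, hm⟩ := subfield_card K
  have hK2 := subfield_two_le_card K
  have hfix := subfield_pow_card K h
  have hdvd := gen_pow_fixed mu hmu 3 (Nat.card K) (by omega) hfix
  rw [Nat.card_eq_fintype_card] at hm
  rcases Nat.lt_or_ge m 2 with hm2 | hm2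
  · interval_cases m
    · rw [pow_zero] at hm
      have : 2 ≤ Fintype.card F := Fintype.one_lt_card
      omega
    · rw [pow_one] at hm
      apply subfield_eq_top_of_card
      rw [Nat.card_eq_fintype_card (α := F)]
      exact hm.symm
  · exfalso
    have h4 : Nat.card K ^ 2 ≤ Fintype.card F := by
      rw [hm]
      exact Nat.pow_le_pow_right (by omega) hm2
    have h5 : Fintype.card F - 1 ≤ 3 * (Nat.card K - 1) :=
      Nat.le_of_dvd (by omega) hdvd
    have h6 : Nat.card K = 2 := by
      by_contra hne
      have h7 : 3 ≤ Nat.card K := by omega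
      have h8 : 3 * Nat.card K ≤ Nat.card K * Nat.card K := Nat.mul_le_mul_right _ h7
      have h9 : Nat.card K ^ 2 = Nat.card K * Nat.card K := sq _
      have h10 : 1 ≤ Fintype.card F := Fintype.card_pos
      omega
    -- a field with two elements has characteristic two
    have : Fintype K := Fintype.ofFinite K
    have h8 : ((Fintype.card K : ℕ) : K) = 0 := FiniteField.cast_card_eq_zero K
    rw [← Nat.card_eq_fintype_card, h6] at h8
    apply h2
    have h9 := congrArg K.subtype h8
    rw [map_natCast, map_zero] at h9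
    exact_mod_cast h9

/-- in a field of prime order every subfield is everything -/
theorem subfield_top_of_card_prime [Fintype F] (hp : (Fintype.card F).Prime) (K : Subfield F) :
    K = ⊤ := by
  obtain ⟨m, hm⟩ := subfield_card K
  have hK2 := subfield_two_le_card K
  rw [Nat.card_eq_fintype_card] at hm
  have hm0 : m ≠ 0 := by
    intro h0
    rw [h0, pow_zero] at hm
    rw [hm] at hp
    exact Nat.not_prime_one hp
  have hd : Nat.card K ∣ Fintype.card F := by
    rw [hm]
    exact dvd_pow_self _ hm0
  rcases (Nat.dvd_prime hp).mp hd with h1 | h1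
  · omega
  · apply subfield_eq_top_of_card
    rw [Nat.card_eq_fintype_card (α := F)]
    exact h1

/-- sixth powers of a generator are not in the prime field, if the field is large -/
theorem mu6_ne_int [Fintype F] (p : ℕ) [hchar : CharP F p] (hp : p.Prime) (mu : Fˣ)
    (hmu : ∀ x : Fˣ, x ∈ Subgroup.zpowers mu) (hq : 6 * (p - 1) < Fintype.card F - 1) (n : ℤ) :
    (mu : F) ^ 6 ≠ (n : F) := by
  intro h
  have : Fact p.Prime := ⟨hp⟩
  have h1 : ((mu : F) ^ 6) ^ p = (mu : F) ^ 6 := by
    rw [h, ← frobenius_def, map_intCast]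
  have h2 := gen_pow_fixed mu hmu 6 p hp.one_lt.le h1
  have h3 := Nat.le_of_dvd (by have := hp.two_le; omega) h2
  omega

end Cfsg.Agent.Helper28.RU
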