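import Mathlib
import Cfsg.Agent.Lib.Helper28.RU3
import Cfsg.Agent.Lib.Helper28.RU5

/-!
# Two conjugate regular unipotent elements generating `SL_3(F)`: the cases
-/

set_option autoImplicit false

namespace Cfsg.Agent.Helper28.RU

open Matrix

variable {F : Type*} [Field F] [Fintype F]

/-- the conclusion -/
def Goal (F : Type*) [Field F] : Prop :=
  ∃ u g : Matrix.SpecialLinearGroup (Fin 3) F,
    IsNilpotent ((u : Matrix (Fin 3) (Fin 3) F) - 1) ∧
    ((u : Matrix (Fin 3) (Fin 3) F) - 1) ^ (3 - 1) ≠ 0 ∧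
    Subgroup.closure ({u, g * u * g⁻¹} : Set (Matrix.SpecialLinearGroup (Fin 3) F)) = ⊤

/-- prime fields of odd order -/
theorem case_prime (h2 : (2 : F) ≠ 0) (hp : (Fintype.card F).Prime) : Goal F := by
  have h8 : ((-8 : ℤ) : F) ≠ 0 := by
    push_cast
    intro h
    apply h2
    have e : (-8 : F) = -(2 ^ 3) := by norm_num
    rw [e, neg_eq_zero] at h
    exact pow_eq_zero_iff (by norm_num) |>.mp h
  apply core (-1 : F) (-2) ((-8 : ℤ) : F)
  · exact neg_ne_zero.mpr one_ne_zero
  · exact neg_ne_zero.mpr h2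
  · intro h
    apply h2
    have e : (2 : F) = 1 - (-1) ^ 3 := by norm_num
    rw [e, h, sub_self]
  · push_cast
    norm_num
  · exact exists_int_mul_eq_one (-8) h8
  · intro K _ _
    exact subfield_top_of_card_prime hp K

/-- characteristic three -/
theorem case_three (h3 : (3 : F) = 0) : Goal F := by
  have h2 : (2 : F) ≠ 0 := by
    intro h
    have e : (1 : F) = 3 - 2 := by norm_num
    rw [h3, h, sub_zero] at e
    exact one_ne_zero e
  obtain ⟨mu, hmu⟩ := IsCyclic.exists_generator (α := Fˣ)
  have hmu1 : (mu : F) ≠ 1 := by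
    intro h
    have h1 : mu = 1 := Units.ext h
    obtain ⟨k, hk⟩ := Subgroup.mem_zpowers_iff.mp (hmu (-1))
    rw [h1, _root_.one_zpow] at hk
    have h4 := congrArg (fun x : Fˣ => (x : F)) hk
    simp only [Units.val_one, Units.val_neg] at h4
    apply h2
    have e : (2 : F) = 1 - (-1) := by norm_num
    rw [e, ← h4, sub_self]
  have hk : (mu : F) - 1 ≠ 0 := sub_ne_zero.mpr hmu1
  apply core (mu : F) ((mu : F) - 1) 1 mu.ne_zero hk
  · intro h
    have e : ((mu : F) - 1) ^ 3 = 0 := by
      linear_combination h + (-((mu : F) ^ 2) + (mu : F)) * h3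
    exact hk (pow_eq_zero_iff (by norm_num) |>.mp e)
  · linear_combination ((mu : F) ^ 3 - 2 * (mu : F) ^ 2 + 2 * (mu : F) - 1) * h3
  · exact ⟨1, by simp⟩
  · intro K hK _
    exact subfield_top_of_gen_cube h2 mu hmu K hK

/-- the field with 25 elements -/
theorem case_25 (h25 : Fintype.card F = 25) : Goal F := by
  have h5 : (5 : F) = 0 := by
    have h := FiniteField.cast_card_eq_zero F
    rw [h25] at h
    have e : ((25 : ℕ) : F) = (5 : F) ^ 2 := by norm_num
    rw [e] at h
    exact pow_eq_zero_iff (by norm_num) |>.mp h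
  have h2 : (2 : F) ≠ 0 := by
    intro h
    have e : (1 : F) = 5 - 2 * 2 := by norm_num
    rw [h5, h] at e
    simp at e
  have h3 : (3 : F) ≠ 0 := by
    intro h
    have e : (1 : F) = 2 * 3 - 5 := by norm_num
    rw [h5, h] at e
    simp at e
  have hrc : ringChar F ≠ 2 := by
    intro h
    have h' := ringChar.Nat.cast_ringChar (R := F)
    rw [h] at h'
    exact h2 (by exact_mod_cast h')
  have hsq : IsSquare (3 : F) := by
    rw [FiniteField.isSquare_iff hrc h3, h25]
    have e : (3 : F) ^ (25 / 2) = 5 * 106288 + 1 := by norm_num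
    rw [e, h5, zero_mul, zero_add]
  obtain ⟨ep, hep⟩ := hsq
  have hep' : ep ^ 2 = 3 := by rw [hep, sq]
  have hep1 : ep - 1 ≠ 0 := by
    intro h
    have h' : ep = 1 := by linear_combination h
    rw [h'] at hep'
    apply h2
    linear_combination -hep'
  have hcube : (ep - 1) ^ 3 = ep := by
    linear_combination (ep - 3) * hep' + (ep - 2) * h5
  apply core (ep - 1) (ep - 1) ((-1 : ℤ) : F) hep1 hep1
  · rw [hcube]
    intro h
    apply hep1
    rw [h, sub_self]
  · push_cast
    linear_combination (ep - 6) * hep' + (3 * ep - 5) * h5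
  · exact ⟨-1, by push_cast; ring⟩
  · intro K hK _
    rw [hcube] at hK
    obtain ⟨m, hm⟩ := subfield_card K
    have hK2 := subfield_two_le_card K
    rw [Nat.card_eq_fintype_card, h25] at hm
    rcases Nat.lt_or_ge m 2 with hm2 | hm2
    · interval_cases m
      · simp at hm
      · rw [pow_one] at hm
        apply subfield_eq_top_of_card
        rw [Nat.card_eq_fintype_card (α := F), h25]
        exact hm.symm
    · exfalso
      have h4 : Nat.card K ^ 2 ≤ 25 := by
        rw [hm]
        exact Nat.pow_le_pow_right (by omega) hm2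
      have h6 : Nat.card K ≤ 5 := by
        by_contra hne
        have h7 : 6 ≤ Nat.card K := by omega
        have h8 : 6 * Nat.card K ≤ Nat.card K * Nat.card K := Nat.mul_le_mul_right _ h7
        have h9 : Nat.card K ^ 2 = Nat.card K * Nat.card K := sq _
        omega
      have h7 : m ≤ 4 := by
        by_contra hne
        have h8 : 2 ^ 5 ≤ Nat.card K ^ m :=
          le_trans (Nat.pow_le_pow_right (by omega) (by omega : 5 ≤ m))
            (Nat.pow_le_pow_left hK2 m)
        omega
      have hfix := subfield_pow_card K hK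
      have h8 : Nat.card K = 5 := by
        interval_cases (Nat.card K) <;> interval_cases m <;> omega
      rw [h8] at hfix
      have h9 : (8 : F) * ep = 0 := by
        linear_combination hfix - ep * (ep ^ 2 + 3) * hep'
      have h10 : (8 : F) ≠ 0 := by
        have e : (8 : F) = 2 ^ 3 := by norm_num
        rw [e]
        exact pow_ne_zero 3 h2
      have h11 : ep = 0 := by
        rcases mul_eq_zero.mp h9 with h | h
        · exact absurd h h10
        · exact h
      rw [h11] at hep'
      apply h3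
      linear_combination -hep'

omit [Fintype F] in
theorem family_rel (m : F) (hd : 3 - m ^ 3 ≠ 0) :
    (m * ((3 + m ^ 3) / (3 - m ^ 3) + 1)) ^ 3 =
      (1 - (3 + m ^ 3) / (3 - m ^ 3)) ^ 3 + (-4) * (1 - ((3 + m ^ 3) / (3 - m ^ 3)) ^ 3) := by
  field_simp
  ring

/-- the large fields of characteristic at least five -/
theorem case_big (p : ℕ) [CharP F p] (hp : p.Prime) (h2 : (2 : F) ≠ 0) (h3 : (3 : F) ≠ 0)
    (hq : 6 * (p - 1) < Fintype.card F - 1) : Goal F := by
  obtain ⟨mu, hmu⟩ := IsCyclic.exists_generator (α := Fˣ)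
  have hx2 : ∀ n : ℤ, ((mu : F) ^ 3) ^ 2 ≠ (n : F) := by
    intro n h
    apply mu6_ne_int p hp mu hmu hq n
    rw [← h]
    ring
  have hx0 : (mu : F) ^ 3 ≠ 0 := pow_ne_zero 3 mu.ne_zero
  have hd : 3 - (mu : F) ^ 3 ≠ 0 := by
    intro h
    apply hx2 9
    have e : (mu : F) ^ 3 = 3 := by linear_combination -h
    rw [e]
    norm_num
  have hd' : 3 + (mu : F) ^ 3 ≠ 0 := by
    intro h
    apply hx2 9
    have e : (mu : F) ^ 3 = -3 := by linear_combination h
    rw [e]
    norm_num
  have h6 : (6 : F) ≠ 0 := by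
    have e : (6 : F) = 2 * 3 := by norm_num
    rw [e]
    exact mul_ne_zero h2 h3
  have h4 : ((-4 : ℤ) : F) ≠ 0 := by
    push_cast
    have e : (-4 : F) = -(2 ^ 2) := by norm_num
    rw [e]
    exact neg_ne_zero.mpr (pow_ne_zero 2 h2)
  have hal1 : (3 + (mu : F) ^ 3) / (3 - (mu : F) ^ 3) + 1 = 6 / (3 - (mu : F) ^ 3) := by
    field_simp
    ring
  have hal1' : (3 + (mu : F) ^ 3) / (3 - (mu : F) ^ 3) + 1 ≠ 0 := by
    rw [hal1]
    exact div_ne_zero h6 hd
  have hal3 : ((3 + (mu : F) ^ 3) / (3 - (mu : F) ^ 3)) ^ 3 ≠ 1 := by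
    intro h
    rw [div_pow, div_eq_one_iff_eq (pow_ne_zero 3 hd)] at h
    have h' : (2 * (mu : F) ^ 3) * (((mu : F) ^ 3) ^ 2 + 27) = 0 := by linear_combination h
    rcases mul_eq_zero.mp h' with h'' | h''
    · exact (mul_ne_zero h2 hx0) h''
    · apply hx2 (-27)
      push_cast
      linear_combination h''
  have hal3' : ((3 + (mu : F) ^ 3) / (3 - (mu : F) ^ 3)) ^ 3 + 1 ≠ 0 := by
    intro h
    have h0 : ((3 + (mu : F) ^ 3) / (3 - (mu : F) ^ 3)) ^ 3 = -1 := by linear_combination h
    rw [div_pow, div_eq_iff (pow_ne_zero 3 hd)] at h0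
    have h' : (18 : F) * (((mu : F) ^ 3) ^ 2 + 3) = 0 := by linear_combination h0
    have h18 : (18 : F) ≠ 0 := by
      have e : (18 : F) = 2 * 3 * 3 := by norm_num
      rw [e]
      exact mul_ne_zero (mul_ne_zero h2 h3) h3
    rcases mul_eq_zero.mp h' with h'' | h''
    · exact h18 h''
    · apply hx2 (-3)
      push_cast
      linear_combination h''
  have hrel := family_rel (mu : F) hd
  apply core ((3 + (mu : F) ^ 3) / (3 - (mu : F) ^ 3))
    ((mu : F) * ((3 + (mu : F) ^ 3) / (3 - (mu : F) ^ 3) + 1)) ((-4 : ℤ) : F)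
    (div_ne_zero hd' hd) (mul_ne_zero mu.ne_zero hal1') hal3
  · push_cast
    exact hrel
  · exact exists_int_mul_eq_one (-4) h4
  · intro K hK1 hK2
    set al := (3 + (mu : F) ^ 3) / (3 - (mu : F) ^ 3) with hal
    set ka := (mu : F) * (al + 1) with hka
    have h1K : (1 : F) ∈ K := K.one_mem
    have h3K : (3 : F) ∈ K := by
      have h := K.add_mem (K.add_mem h1K h1K) h1K
      have e : (1 : F) + 1 + 1 = 3 := by norm_num
      rwa [e] at h
    have hbK : al ^ 2 - al ∈ K := by
      have e : al ^ 2 - al = (ka ^ 3 + 3 * (1 - al ^ 3)) / 3 := by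
        field_simp
        linear_combination -hrel
      rw [e]
      exact K.div_mem (K.add_mem hK2 (K.mul_mem h3K (K.sub_mem h1K hK1))) h3K
    have hb1 : 1 + (al ^ 2 - al) ≠ 0 := by
      intro h
      apply hal3'
      have e : al ^ 3 + 1 = (al + 1) * (1 + (al ^ 2 - al)) := by ring
      rw [e, h, mul_zero]
    have halK : al ∈ K := by
      have e : al = (al ^ 3 - (al ^ 2 - al)) / (1 + (al ^ 2 - al)) := by
        rw [eq_div_iff hb1]
        ring
      rw [e]
      exact K.div_mem (K.sub_mem hK1 hbK) (K.add_mem h1K hbK)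
    have hxK : (mu : F) ^ 3 ∈ K := by
      have e : (mu : F) ^ 3 = 3 * (al - 1) / (al + 1) := by
        rw [eq_div_iff hal1']
        rw [hal]
        field_simp
        ring
      rw [e]
      exact K.div_mem (K.mul_mem h3K (K.sub_mem halK h1K)) (K.add_mem halK h1K)
    exact subfield_top_of_gen_cube h2 mu hmu K hxK

/-- `SL_3(F)` is generated by two conjugate regular unipotent elements -/
theorem main_thm : Goal F := by
  obtain ⟨p, hchar, n, hp, hq⟩ := FiniteField.card' F
  have : CharP F p := hchar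
  by_cases hp2 : p = 2
  · subst hp2
    exact char_two_case
  have h2 : (2 : F) ≠ 0 := by
    intro h
    have h' : ((2 : ℕ) : F) = 0 := by exact_mod_cast h
    have h'' := (CharP.cast_eq_zero_iff F p 2).mp h'
    exact hp2 ((Nat.prime_dvd_prime_iff_eq hp Nat.prime_two).mp h'')
  by_cases hp3 : p = 3
  · subst hp3
    exact case_three (by exact_mod_cast CharP.cast_eq_zero F 3)
  have h3 : (3 : F) ≠ 0 := by
    intro h
    have h' : ((3 : ℕ) : F) = 0 := by exact_mod_cast h
    have h'' := (CharP.cast_eq_zero_iff F p 3).mp h'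
    exact hp3 ((Nat.prime_dvd_prime_iff_eq hp Nat.prime_three).mp h'')
  by_cases hn : (n : ℕ) = 1
  · apply case_prime h2
    rw [hq, hn, pow_one]
    exact hp
  by_cases h25 : Fintype.card F = 25
  · exact case_25 h25
  · apply case_big p hp h2 h3
    have hn2 : 2 ≤ (n : ℕ) := by
      have := n.pos
      omega
    have hp5 : 5 ≤ p := by
      have h := hp.two_le
      by_contra hlt
      have h4 : p = 4 := by omega
      rw [h4] at hp
      exact absurd hp (by decide)
    have hq2 : p ^ 2 ≤ Fintype.card F := by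
      rw [hq]
      exact Nat.pow_le_pow_right (by omega) hn2
    have hsq : p ^ 2 = p * p := sq p
    rcases Nat.lt_or_ge p 7 with h7 | h7
    · have h5 : p = 5 := by
        by_contra hne
        have h6 : p = 6 := by omega
        rw [h6] at hp
        exact absurd hp (by decide)
      subst h5
      have hn3 : 3 ≤ (n : ℕ) := by
        by_contra hlt
        have hn' : (n : ℕ) = 2 := by omega
        rw [hn'] at hq
        exact h25 (by rw [hq]; norm_num)
      have h125 : 5 ^ 3 ≤ Fintype.card F := by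
        rw [hq]
        exact Nat.pow_le_pow_right (by omega) hn3
      omega
    · have h8 : 7 * p ≤ p * p := Nat.mul_le_mul_right p h7
      omega

end Cfsg.Agent.Helper28.RU
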