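import Mathlib
import Cfsg.Prelude.Def_CaseTheorems
import Cfsg.Agent.Lib.Helper11.S11Defs

/-!
# S3211, piece S11-DIH: the dihedral trick.  If a conjugate of the involution `z` commuting with `z` is `z`,
then `z` is the only conjugate of `z` in a Sylow `2`-subgroup containing it.
-/

set_option autoImplicit false
set_option linter.unusedVariables false

namespace Cfsg.Agent.Helper11.S11

/-- PIECE S11-DIH -/
theorem isolated_of_star {G : Type*} [Group G] [Finite G] (z : G) (hz : orderOf z = 2)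
    (hstar : ∀ g : G, (g * z * g⁻¹) * z = z * (g * z * g⁻¹) → g * z * g⁻¹ = z)
    (P : Sylow 2 G) (hzP : z ∈ P) (g : G) (hg : g * z * g⁻¹ ∈ P) : g * z * g⁻¹ = z := by
  classical
  have hz2 : z * z = 1 := by rw [← pow_two, ← hz]; exact pow_orderOf_eq_one z
  have hzinv : z⁻¹ = z := inv_eq_of_mul_eq_one_right hz2
  have hy2 : (g * z * g⁻¹) * (g * z * g⁻¹) = 1 := by
    calc (g * z * g⁻¹) * (g * z * g⁻¹) = g * (z * z) * g⁻¹ := by group
      _ = 1 := by rw [hz2]; group
  have hyinv : (g * z * g⁻¹)⁻¹ = g * z * g⁻¹ := inv_eq_of_mul_eq_one_right hy2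
  set y : G := g * z * g⁻¹ with hy
  set t : G := y * z with ht
  have htP : t ∈ P := Subgroup.mul_mem _ hg hzP
  have hex : ∃ k : ℕ, t ^ 2 ^ k = 1 := by
    obtain ⟨k0, hk0⟩ := P.isPGroup' ⟨t, htP⟩
    refine ⟨k0, ?_⟩
    have := congrArg Subtype.val hk0
    simpa using this
  have hconj : z * t * z⁻¹ = t⁻¹ := by
    rw [ht, mul_inv_rev, hzinv, hyinv, mul_assoc, mul_assoc, hz2, mul_one]
  -- the case `t ^ 2 = 1`
  have hcase : t * t = 1 → y = z := by
    intro htt
    apply hstar g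
    -- `y z = (y z)⁻¹ = z y`
    have h1 : t = t⁻¹ := (inv_eq_of_mul_eq_one_right htt).symm
    rw [ht, mul_inv_rev, hzinv, hyinv] at h1
    exact h1
  set k : ℕ := Nat.find hex with hk
  have hk1 : t ^ 2 ^ k = 1 := Nat.find_spec hex
  have hmin : ∀ j : ℕ, j < k → t ^ 2 ^ j ≠ 1 := fun j hj => Nat.find_min hex hj
  by_cases hk2 : k ≤ 1
  · apply hcase
    rw [← pow_two]
    rcases Nat.le_one_iff_eq_zero_or_eq_one.1 hk2 with h0 | h0
    · rw [h0, pow_zero, pow_one] at hk1
      rw [hk1, one_pow]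
    · rw [h0, pow_one] at hk1
      exact hk1
  · exfalso
    push Not at hk2
    set w : G := t ^ 2 ^ (k - 2) with hw
    have hw4 : w ^ 4 = 1 := by
      rw [hw, ← pow_mul, show 2 ^ (k - 2) * 4 = 2 ^ k by
        rw [show (4 : ℕ) = 2 ^ 2 by norm_num, ← pow_add]
        congr 1; omega]
      exact hk1
    have hw2 : w ^ 2 ≠ 1 := by
      rw [hw, ← pow_mul, show 2 ^ (k - 2) * 2 = 2 ^ (k - 1) by
        rw [← pow_succ]
        congr 1; omega]
      exact hmin (k - 1) (by omega)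
    have hwconj : z * w * z⁻¹ = w⁻¹ := by
      rw [hw, ← conj_pow, hconj, inv_pow]
    -- `w z w⁻¹ = w² z`
    have h1 : w * z * w⁻¹ = w ^ 2 * z := by
      have h2 : z * w⁻¹ = w * z := by
        have h3 : z * w⁻¹ * z⁻¹ = w := by
          have h5 : (z * w * z⁻¹)⁻¹ = w := by rw [hwconj, inv_inv]
          calc z * w⁻¹ * z⁻¹ = (z * w * z⁻¹)⁻¹ := by group
            _ = w := h5
        calc z * w⁻¹ = (z * w⁻¹ * z⁻¹) * z := by group
          _ = w * z := by rw [h3]
      rw [mul_assoc, h2, ← mul_assoc, ← pow_two]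
    have hzw2 : z * w ^ 2 = w ^ 2 * z := by
      have h3 : z * w ^ 2 * z⁻¹ = w ^ 2 := by
        rw [← conj_pow, hwconj, inv_pow]
        apply inv_eq_of_mul_eq_one_right
        rw [← pow_add]; exact hw4
      calc z * w ^ 2 = (z * w ^ 2 * z⁻¹) * z := by group
        _ = w ^ 2 * z := by rw [h3]
    have h4 := hstar w (by
      rw [h1, mul_assoc, hz2, mul_one, ← mul_assoc, hzw2, mul_assoc, hz2, mul_one])
    rw [h1] at h4
    apply hw2
    calc w ^ 2 = (w ^ 2 * z) * z⁻¹ := by group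
      _ = 1 := by rw [h4, mul_inv_cancel]

end Cfsg.Agent.Helper11.S11
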