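import Mathlib
import Cfsg.Agent.Lib.Helper11.S11Defs

/-!
# S3211, piece S11-TRANS: transport of the two counts by conjugation contradicts the strict inequality.
-/

set_option autoImplicit false
set_option linter.unusedVariables false

namespace Cfsg.Agent.Helper11.S11

theorem s11_trans_R {G : Type*} [Group G] (φ : G ≃* G) (a w : G) :
    Set.ncard {y : G | y * φ a = φ a * y ∧ y * y = φ w} =
      Set.ncard {y : G | y * a = a * y ∧ y * y = w} := by
  have h : {y : G | y * φ a = φ a * y ∧ y * y = φ w} =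
      φ '' {y : G | y * a = a * y ∧ y * y = w} := by
    ext y
    constructor
    · rintro ⟨h1, h2⟩
      refine ⟨φ.symm y, ⟨?_, ?_⟩, φ.apply_symm_apply y⟩
      · apply φ.injective
        rw [map_mul, map_mul, φ.apply_symm_apply, h1]
      · apply φ.injective
        rw [map_mul, φ.apply_symm_apply, h2]
    · rintro ⟨x, ⟨h1, h2⟩, rfl⟩
      exact ⟨by rw [← map_mul, h1, map_mul], by rw [← map_mul, h2]⟩
  rw [h, Set.ncard_image_of_injective _ φ.injective]

theorem s11_trans_Q {G : Type*} [Group G] (φ : G ≃* G) (a w : G) :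
    Set.ncard {y : G | y * y = φ a ∧ y * φ w = φ w * y} =
      Set.ncard {y : G | y * y = a ∧ y * w = w * y} := by
  have h : {y : G | y * y = φ a ∧ y * φ w = φ w * y} =
      φ '' {y : G | y * y = a ∧ y * w = w * y} := by
    ext y
    constructor
    · rintro ⟨h1, h2⟩
      refine ⟨φ.symm y, ⟨?_, ?_⟩, φ.apply_symm_apply y⟩
      · apply φ.injective
        rw [map_mul, φ.apply_symm_apply, h1]
      · apply φ.injective
        rw [map_mul, map_mul, φ.apply_symm_apply, h2]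
    · rintro ⟨x, ⟨h1, h2⟩, rfl⟩
      exact ⟨by rw [← map_mul, h1], by rw [← map_mul, h2, map_mul]⟩
  rw [h, Set.ncard_image_of_injective _ φ.injective]

/-- PIECE S11-TRANS -/
theorem star_of_count {G : Type*} [Group G] [Finite G] (z v : G) (hz2 : z * z = 1) (hz1 : z ≠ 1)
    (hconj : ∀ u : G, u * z = z * u → u * u = 1 → u ≠ 1 → u ≠ z →
      ∃ c : G, c * z = z * c ∧ u = c * v * c⁻¹)
    (hcnt : Set.ncard {y : G | y * z = z * y ∧ y * y = v} <
      Set.ncard {y : G | y * y = z ∧ y * v = v * y})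
    (g : G) (hg : (g * z * g⁻¹) * z = z * (g * z * g⁻¹)) : g * z * g⁻¹ = z := by
  by_contra hne
  have hu2 : (g * z * g⁻¹) * (g * z * g⁻¹) = 1 := by
    calc (g * z * g⁻¹) * (g * z * g⁻¹) = g * (z * z) * g⁻¹ := by group
      _ = 1 := by rw [hz2]; group
  have hu1 : g * z * g⁻¹ ≠ 1 := by
    intro h
    apply hz1
    calc z = g⁻¹ * (g * z * g⁻¹) * g := by group
      _ = 1 := by rw [h]; group
  have hu'z : (g⁻¹ * z * g) * z = z * (g⁻¹ * z * g) := by
    calc (g⁻¹ * z * g) * z = g⁻¹ * (z * (g * z * g⁻¹)) * g := by group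
      _ = g⁻¹ * ((g * z * g⁻¹) * z) * g := by rw [hg]
      _ = z * (g⁻¹ * z * g) := by group
  have hu'2 : (g⁻¹ * z * g) * (g⁻¹ * z * g) = 1 := by
    calc (g⁻¹ * z * g) * (g⁻¹ * z * g) = g⁻¹ * (z * z) * g := by group
      _ = 1 := by rw [hz2]; group
  have hu'1 : g⁻¹ * z * g ≠ 1 := by
    intro h
    apply hz1
    calc z = g * (g⁻¹ * z * g) * g⁻¹ := by group
      _ = 1 := by rw [h]; group
  have hu'ne : g⁻¹ * z * g ≠ z := by
    intro h
    apply hne
    calc g * z * g⁻¹ = g * (g⁻¹ * z * g) * g⁻¹ := by rw [h]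
      _ = z := by group
  obtain ⟨c, hc, huc⟩ := hconj _ hg hu2 hu1 hne
  obtain ⟨c', hc', huc'⟩ := hconj _ hu'z hu'2 hu'1 hu'ne
  have hcz : c * z * c⁻¹ = z := by rw [hc, mul_inv_cancel_right]
  have hc'z : c' * z * c'⁻¹ = z := by rw [hc', mul_inv_cancel_right]
  -- `R(v) = R(u')`
  have e1 := s11_trans_R (MulAut.conj c') z v
  rw [MulAut.conj_apply, MulAut.conj_apply, hc'z, ← huc'] at e1
  -- `Q(v) = Q(u)`
  have e2 := s11_trans_Q (MulAut.conj c) z v
  rw [MulAut.conj_apply, MulAut.conj_apply, hcz, ← huc] at e2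
  -- `R(u') = Q(u)`
  have e3 := s11_trans_R (MulAut.conj g) z (g⁻¹ * z * g)
  rw [MulAut.conj_apply, MulAut.conj_apply] at e3
  have h4 : g * (g⁻¹ * z * g) * g⁻¹ = z := by group
  rw [h4] at e3
  have e4 : {y : G | y * (g * z * g⁻¹) = g * z * g⁻¹ * y ∧ y * y = z} =
      {y : G | y * y = z ∧ y * (g * z * g⁻¹) = g * z * g⁻¹ * y} := by
    ext y
    exact and_comm
  rw [e4] at e3
  rw [← e1, ← e2, ← e3] at hcnt
  exact lt_irrefl _ hcnt

end Cfsg.Agent.Helper11.S11
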