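import Mathlib
import Cfsg.Prelude.Def_Classical
import Cfsg.Agent.Lib.Helper2.SpCenter

/-!
# S2474, piece S74X-PSPORD2: the order of the image in `PSp` of an element `A` with `A ^ m = -1`.
-/

set_option autoImplicit false
set_option linter.unusedVariables false

namespace Cfsg.Agent.Helper15.S74

universe v v₁ v₂ u

theorem s74x_pspord2_negOne_sq {F : Type u} [Field F] (n : ℕ) :
    Cfsg.Agent.Helper2.Sp.negOne (Fin n) F * Cfsg.Agent.Helper2.Sp.negOne (Fin n) F = 1 := by
  apply Subtype.ext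
  simp [Cfsg.Agent.Helper2.Sp.negOne_coe]

theorem orderOf_mk_PSp_of_neg {F : Type u} [Field F] (n : ℕ) (hn : 1 ≤ n)
    (A : Matrix.symplecticGroup (Fin n) F) (m : ℕ) (hm : 0 < m) (hord : orderOf A = 2 * m)
    (hneg : A ^ m = Cfsg.Agent.Helper2.Sp.negOne (Fin n) F) :
    orderOf (QuotientGroup.mk A : Cfsg.PSp n F) = m := by
  have hne : Nonempty (Fin n) := ⟨⟨0, hn⟩⟩
  apply Nat.dvd_antisymm
  · apply orderOf_dvd_of_pow_eq_one
    have h2 : (QuotientGroup.mk (A ^ m) : Cfsg.PSp n F) = 1 := by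
      rw [hneg]
      exact (QuotientGroup.eq_one_iff _).2 Cfsg.Agent.Helper2.Sp.negOne_mem_center
    exact h2
  · set d := orderOf (QuotientGroup.mk A : Cfsg.PSp n F) with hd
    have h1 : (QuotientGroup.mk A : Cfsg.PSp n F) ^ d = 1 := pow_orderOf_eq_one _
    have h2 : (QuotientGroup.mk (A ^ d) : Cfsg.PSp n F) = 1 := h1
    have h3 : A ^ d ∈ Subgroup.center (Matrix.symplecticGroup (Fin n) F) :=
      (QuotientGroup.eq_one_iff _).1 h2
    have h4 : A ^ (2 * d) = 1 := by
      rw [mul_comm, pow_mul, pow_two]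
      rcases (Cfsg.Agent.Helper2.Sp.mem_center_iff _).1 h3 with h | h
      · rw [h, one_mul]
      · rw [h]; exact s74x_pspord2_negOne_sq n
    have h5 : 2 * m ∣ 2 * d := by
      rw [← hord]; exact orderOf_dvd_of_pow_eq_one h4
    exact Nat.dvd_of_mul_dvd_mul_left (by norm_num) h5

end Cfsg.Agent.Helper15.S74
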