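import Mathlib

/-!
# `SU_3` in a Witt basis: explicit elements and identities

The hermitian form is `x₁ φ(y₃) + x₂ φ(y₂) + x₃ φ(y₁)` for an involutive ring endomorphism `φ`.
-/

set_option autoImplicit false
set_option linter.unusedSimpArgs false

namespace Cfsg.Agent.Helper28.SU3

open Matrix

variable {F : Type*} [Field F]

theorem m3ext' {R : Type*}
    {a11 a12 a13 a21 a22 a23 a31 a32 a33 b11 b12 b13 b21 b22 b23 b31 b32 b33 : R}
    (h11 : a11 = b11) (h12 : a12 = b12) (h13 : a13 = b13) (h21 : a21 = b21) (h22 : a22 = b22)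
    (h23 : a23 = b23) (h31 : a31 = b31) (h32 : a32 = b32) (h33 : a33 = b33) :
    (!![a11, a12, a13; a21, a22, a23; a31, a32, a33] : Matrix (Fin 3) (Fin 3) R) =
      !![b11, b12, b13; b21, b22, b23; b31, b32, b33] := by
  rw [h11, h12, h13, h21, h22, h23, h31, h32, h33]

theorem map_fin_three (φ : F →+* F) (a11 a12 a13 a21 a22 a23 a31 a32 a33 : F) :
    (!![a11, a12, a13; a21, a22, a23; a31, a32, a33] : Matrix (Fin 3) (Fin 3) F).map φ =
      !![φ a11, φ a12, φ a13; φ a21, φ a22, φ a23; φ a31, φ a32, φ a33] := by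
  ext i j
  fin_cases i <;> fin_cases j <;> rfl

theorem transpose_fin_three (a11 a12 a13 a21 a22 a23 a31 a32 a33 : F) :
    (!![a11, a12, a13; a21, a22, a23; a31, a32, a33] : Matrix (Fin 3) (Fin 3) F)ᵀ =
      !![a11, a21, a31; a12, a22, a32; a13, a23, a33] := by
  ext i j
  fin_cases i <;> fin_cases j <;> rfl

/-- the Gram matrix -/
def Jm (F : Type*) [Field F] : Matrix (Fin 3) (Fin 3) F := !![0, 0, 1; 0, 1, 0; 1, 0, 0]

/-- the matrix preserves the form -/
def IsJ (φ : F →+* F) (M : Matrix (Fin 3) (Fin 3) F) : Prop := Mᵀ * Jm F * M.map φ = Jm F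

theorem isJ_one (φ : F →+* F) : IsJ φ (1 : Matrix (Fin 3) (Fin 3) F) := by
  unfold IsJ
  rw [Matrix.transpose_one, Matrix.one_mul, Matrix.map_one _ (map_zero φ) (map_one φ),
    Matrix.mul_one]

theorem IsJ.mul {φ : F →+* F} {M N : Matrix (Fin 3) (Fin 3) F} (hM : IsJ φ M) (hN : IsJ φ N) :
    IsJ φ (M * N) := by
  unfold IsJ at *
  rw [Matrix.transpose_mul, Matrix.map_mul]
  calc Nᵀ * Mᵀ * Jm F * (M.map φ * N.map φ) = Nᵀ * (Mᵀ * Jm F * M.map φ) * N.map φ := by
        simp only [Matrix.mul_assoc]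
    _ = Jm F := by rw [hM, hN]

/-- explicit form of the condition -/
theorem isJ_iff (φ : F →+* F) (a11 a12 a13 a21 a22 a23 a31 a32 a33 : F) :
    IsJ φ !![a11, a12, a13; a21, a22, a23; a31, a32, a33] ↔
      (a11 * φ a31 + a21 * φ a21 + a31 * φ a11 = 0 ∧
       a11 * φ a32 + a21 * φ a22 + a31 * φ a12 = 0 ∧
       a11 * φ a33 + a21 * φ a23 + a31 * φ a13 = 1 ∧
       a12 * φ a31 + a22 * φ a21 + a32 * φ a11 = 0 ∧
       a12 * φ a32 + a22 * φ a22 + a32 * φ a12 = 1 ∧
       a12 * φ a33 + a22 * φ a23 + a32 * φ a13 = 0 ∧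
       a13 * φ a31 + a23 * φ a21 + a33 * φ a11 = 1 ∧
       a13 * φ a32 + a23 * φ a22 + a33 * φ a12 = 0 ∧
       a13 * φ a33 + a23 * φ a23 + a33 * φ a13 = 0) := by
  unfold IsJ Jm
  rw [transpose_fin_three, map_fin_three]
  simp only [Matrix.mul_fin_three]
  constructor
  · intro h
    have h' := fun i j => congrFun (congrFun h i) j
    have e00 := h' 0 0
    have e01 := h' 0 1
    have e02 := h' 0 2
    have e10 := h' 1 0
    have e11 := h' 1 1
    have e12 := h' 1 2
    have e20 := h' 2 0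
    have e21 := h' 2 1
    have e22 := h' 2 2
    simp only [Matrix.of_apply, Matrix.cons_val', Matrix.cons_val_zero, Matrix.cons_val_one,
      Matrix.cons_val_two, Matrix.empty_val', Matrix.cons_val_fin_one, Matrix.head_cons,
      Matrix.tail_cons, Matrix.head_fin_const] at e00 e01 e02 e10 e11 e12 e20 e21 e22
    refine ⟨?_, ?_, ?_, ?_, ?_, ?_, ?_, ?_, ?_⟩
    · linear_combination e00
    · linear_combination e01
    · linear_combination e02
    · linear_combination e10
    · linear_combination e11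
    · linear_combination e12
    · linear_combination e20
    · linear_combination e21
    · linear_combination e22
  · rintro ⟨e00, e01, e02, e10, e11, e12, e20, e21, e22⟩
    apply m3ext'
    · linear_combination e00
    · linear_combination e01
    · linear_combination e02
    · linear_combination e10
    · linear_combination e11
    · linear_combination e12
    · linear_combination e20
    · linear_combination e21
    · linear_combination e22

/-- upper unitriangular elements -/
def Um (φ : F →+* F) (a b : F) : Matrix (Fin 3) (Fin 3) F := !![1, a, b; 0, 1, -φ a; 0, 0, 1]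

/-- lower unitriangular elements -/
def Lm (φ : F →+* F) (a b : F) : Matrix (Fin 3) (Fin 3) F := !![1, 0, 0; φ a, 1, 0; b, -a, 1]

/-- torus elements -/
def Hm (φ : F →+* F) (t : F) : Matrix (Fin 3) (Fin 3) F :=
  !![t, 0, 0; 0, φ t / t, 0; 0, 0, (φ t)⁻¹]

/-- the Weyl element -/
def Nm (F : Type*) [Field F] : Matrix (Fin 3) (Fin 3) F := !![0, 0, 1; 0, -1, 0; 1, 0, 0]

section basic

variable (φ : F →+* F) (hφφ : ∀ x, φ (φ x) = x)

include hφφ in
theorem isJ_Um (a b : F) (h : b + φ b + a * φ a = 0) : IsJ φ (Um φ a b) := by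
  unfold Um
  rw [isJ_iff]
  simp only [map_zero, map_one, map_neg, hφφ]
  refine ⟨?_, ?_, ?_, ?_, ?_, ?_, ?_, ?_, ?_⟩
  all_goals first | ring1 | linear_combination h

include hφφ in
theorem isJ_Lm (a b : F) (h : b + φ b + a * φ a = 0) : IsJ φ (Lm φ a b) := by
  unfold Lm
  rw [isJ_iff]
  simp only [map_zero, map_one, map_neg, hφφ]
  refine ⟨?_, ?_, ?_, ?_, ?_, ?_, ?_, ?_, ?_⟩
  all_goals first | ring1 | linear_combination h

include hφφ in
theorem isJ_Hm (t : F) (ht : t ≠ 0) : IsJ φ (Hm φ t) := by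
  have ht' : φ t ≠ 0 := fun h => ht (by rw [← hφφ t, h, map_zero])
  unfold Hm
  rw [isJ_iff]
  simp only [map_zero, map_div₀, map_inv₀, hφφ]
  refine ⟨?_, ?_, ?_, ?_, ?_, ?_, ?_, ?_, ?_⟩
  all_goals first | ring1 | (field_simp; ring1)

theorem isJ_Nm : IsJ φ (Nm F) := by
  unfold Nm
  rw [isJ_iff]
  simp only [map_zero, map_one, map_neg]
  refine ⟨?_, ?_, ?_, ?_, ?_, ?_, ?_, ?_, ?_⟩
  all_goals ring1

theorem det_Um (a b : F) : (Um φ a b).det = 1 := by
  rw [Um, Matrix.det_fin_three]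
  simp

theorem det_Lm (a b : F) : (Lm φ a b).det = 1 := by
  rw [Lm, Matrix.det_fin_three]
  simp

include hφφ in
theorem det_Hm (t : F) (ht : t ≠ 0) : (Hm φ t).det = 1 := by
  have ht' : φ t ≠ 0 := fun h => ht (by rw [← hφφ t, h, map_zero])
  rw [Hm, Matrix.det_fin_three]
  simp
  field_simp

theorem det_Nm : (Nm F).det = 1 := by
  rw [Nm, Matrix.det_fin_three]
  simp

theorem Um_mul (a b a' b' : F) : Um φ a b * Um φ a' b' = Um φ (a + a') (b + b' - a * φ a') := by
  simp only [Um, Matrix.mul_fin_three, map_add]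
  apply m3ext'
  all_goals ring1

theorem Um_zero : Um φ 0 0 = 1 := by
  simp only [Um, map_zero, neg_zero, Matrix.one_fin_three]

theorem Um_mul_inv (a b : F) (h : b + φ b + a * φ a = 0) : Um φ a b * Um φ (-a) (φ b) = 1 := by
  rw [Um_mul, ← Um_zero φ]
  congr 1
  · ring
  · rw [map_neg]
    linear_combination h

theorem Um_inv_mul (a b : F) (h : b + φ b + a * φ a = 0) : Um φ (-a) (φ b) * Um φ a b = 1 := by
  rw [Um_mul, ← Um_zero φ]
  congr 1
  · ring
  · linear_combination h

theorem Nm_mul_Nm : Nm F * Nm F = 1 := by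
  simp only [Nm, Matrix.mul_fin_three, Matrix.one_fin_three]
  apply m3ext'
  all_goals ring1

theorem Nm_Um_Nm (a b : F) : Nm F * Um φ a b * Nm F = Lm φ a b := by
  simp only [Nm, Um, Lm, Matrix.mul_fin_three]
  apply m3ext'
  all_goals ring1

include hφφ in
theorem Hm_mul_Um (t a b : F) (ht : t ≠ 0) :
    Hm φ t * Um φ a b = Um φ (t ^ 2 * a / φ t) (t * φ t * b) * Hm φ t := by
  have ht' : φ t ≠ 0 := fun h => ht (by rw [← hφφ t, h, map_zero])
  simp only [Hm, Um, Matrix.mul_fin_three, map_div₀, map_mul, map_pow, hφφ]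
  apply m3ext'
  all_goals first | ring1 | (field_simp; ring1)

include hφφ in
theorem Hm_mul_Hm (s t : F) (hs : s ≠ 0) (ht : t ≠ 0) : Hm φ s * Hm φ t = Hm φ (s * t) := by
  have hs' : φ s ≠ 0 := fun h => hs (by rw [← hφφ s, h, map_zero])
  have ht' : φ t ≠ 0 := fun h => ht (by rw [← hφφ t, h, map_zero])
  simp only [Hm, Matrix.mul_fin_three, map_mul]
  apply m3ext'
  all_goals first | ring1 | (field_simp; ring1)

theorem Hm_one : Hm φ 1 = 1 := by
  simp only [Hm, map_one, div_one, inv_one, Matrix.one_fin_three]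

include hφφ in
theorem Nm_Hm_Nm (t : F) (ht : t ≠ 0) : Nm F * Hm φ t * Nm F = Hm φ (φ t)⁻¹ := by
  have ht' : φ t ≠ 0 := fun h => ht (by rw [← hφφ t, h, map_zero])
  simp only [Nm, Hm, Matrix.mul_fin_three, map_inv₀, hφφ]
  apply m3ext'
  all_goals first | ring1 | (field_simp; ring1)

include hφφ in
/-- the Bruhat decomposition of a lower unitriangular element -/
theorem Lm_bruhat (a b : F) (hb : b ≠ 0) (h : b + φ b + a * φ a = 0) :
    Lm φ a b = Um φ (-a / φ b) (1 / b) * Nm F * Hm φ b * Um φ (-a / b) (1 / b) := by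
  have hb' : φ b ≠ 0 := fun h' => hb (by rw [← hφφ b, h', map_zero])
  simp only [Lm, Um, Nm, Hm, Matrix.mul_fin_three, map_div₀, map_neg, map_one, hφφ]
  apply m3ext'
  all_goals first | ring1 | (field_simp; ring1) |
    (field_simp; linear_combination (-(b * φ b)) * h) |
    (field_simp; linear_combination (b * φ b) * h)

end basic

end Cfsg.Agent.Helper28.SU3
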