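import Cfsg.Agent.Lib.Helper28.SU3A

/-!
# `SU_3` in a Witt basis: the Borel subgroup and the big cell
-/

set_option autoImplicit false
set_option linter.unusedSimpArgs false

namespace Cfsg.Agent.Helper28.SU3

open Matrix

variable {F : Type*} [Field F] (φ : F →+* F) (hφφ : ∀ x, φ (φ x) = x)

include hφφ in
/-- elements of the Borel subgroup -/
theorem borel_form_comp (s m12 m13 m22 m23 m32 m33 : F)
    (hJ : IsJ φ !![s, m12, m13; 0, m22, m23; 0, m32, m33])
    (hdet : (!![s, m12, m13; 0, m22, m23; 0, m32, m33] : Matrix (Fin 3) (Fin 3) F).det = 1) :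
    s ≠ 0 ∧ ∃ x y : F, y + φ y + x * φ x = 0 ∧
      (!![s, m12, m13; 0, m22, m23; 0, m32, m33] : Matrix (Fin 3) (Fin 3) F) =
        Hm φ s * Um φ x y := by
  rw [isJ_iff] at hJ
  simp only [map_zero, mul_zero, zero_mul, add_zero, zero_add] at hJ
  obtain ⟨-, e01, e02, e10, e11, e12, e20, e21, e22⟩ := hJ
  have hs : s ≠ 0 := by
    intro h
    rw [h, zero_mul] at e02
    exact zero_ne_one e02
  have hs' : φ s ≠ 0 := fun h => hs (by rw [← hφφ s, h, map_zero])
  have h32 : m32 = 0 := by
    have : φ m32 = 0 := (mul_eq_zero.mp e01).resolve_left hs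
    rw [← hφφ m32, this, map_zero]
  subst h32
  have h33 : m33 = (φ s)⁻¹ := by
    have h1 : φ m33 = s⁻¹ := by
      field_simp
      linear_combination e02
    rw [← hφφ m33, h1, map_inv₀]
  subst h33
  rw [Matrix.det_fin_three] at hdet
  simp only [Matrix.of_apply, Matrix.cons_val', Matrix.cons_val_zero, Matrix.cons_val_one,
    Matrix.cons_val_two, Matrix.empty_val', Matrix.cons_val_fin_one, Matrix.head_cons,
    Matrix.tail_cons, Matrix.head_fin_const] at hdet
  have h22 : m22 = φ s / s := by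
    field_simp
    field_simp at hdet
    linear_combination hdet
  subst h22
  simp only [map_zero, mul_zero, zero_mul, add_zero, zero_add, map_inv₀, map_div₀, hφφ] at e12 e22
  have h23 : m23 = -(φ s / s) * φ (m12 / s) := by
    have h1 : φ m23 = -(m12 / φ s) := by
      field_simp
      field_simp at e12
      linear_combination e12
    rw [← hφφ m23, h1, map_neg, map_div₀, hφφ, map_div₀]
    field_simp
  refine ⟨hs, m12 / s, m13 / s, ?_, ?_⟩
  · rw [h23] at e22
    simp only [map_div₀, map_neg, map_mul, hφφ] at e22 ⊢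
    field_simp
    field_simp at e22
    linear_combination e22
  · simp only [Hm, Um, Matrix.mul_fin_three]
    apply m3ext'
    all_goals first | ring1 | (field_simp; ring1) | (rw [h23]; ring1) | field_simp

include hφφ in
/-- elements of the Borel subgroup -/
theorem borel_form (M : Matrix (Fin 3) (Fin 3) F) (hJ : IsJ φ M) (hdet : M.det = 1)
    (h10 : M 1 0 = 0) (h20 : M 2 0 = 0) :
    M 0 0 ≠ 0 ∧ ∃ x y : F, y + φ y + x * φ x = 0 ∧ M = Hm φ (M 0 0) * Um φ x y := by
  have e := Matrix.eta_fin_three M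
  rw [h10, h20] at e
  rw [e] at hJ hdet
  obtain ⟨hs, x, y, hxy, hM⟩ := borel_form_comp φ hφφ _ _ _ _ _ _ _ hJ hdet
  exact ⟨hs, x, y, hxy, e.trans hM⟩

include hφφ in
/-- elements of the big cell: the first column can be moved to the first basis vector -/
theorem big_cell_comp (a11 a12 a13 a21 a22 a23 a31 a32 a33 : F)
    (hJ : IsJ φ !![a11, a12, a13; a21, a22, a23; a31, a32, a33]) (h31 : a31 ≠ 0) :
    (a11 / a31) + φ (a11 / a31) + (-φ (a21 / a31)) * φ (-φ (a21 / a31)) = 0 ∧
    (Nm F * Um φ (-(-φ (a21 / a31))) (φ (a11 / a31)) *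
      !![a11, a12, a13; a21, a22, a23; a31, a32, a33]) 1 0 = 0 ∧
    (Nm F * Um φ (-(-φ (a21 / a31))) (φ (a11 / a31)) *
      !![a11, a12, a13; a21, a22, a23; a31, a32, a33]) 2 0 = 0 := by
  have h31' : φ a31 ≠ 0 := fun h => h31 (by rw [← hφφ a31, h, map_zero])
  rw [isJ_iff] at hJ
  obtain ⟨e00, -⟩ := hJ
  have hn : (a11 / a31) + φ (a11 / a31) + (-φ (a21 / a31)) * φ (-φ (a21 / a31)) = 0 := by
    simp only [map_div₀, map_neg, hφφ]
    field_simp
    linear_combination e00
  refine ⟨hn, ?_, ?_⟩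
  · simp only [Nm, Um, Matrix.mul_fin_three, map_div₀, map_neg, hφφ, neg_neg,
      Matrix.of_apply, Matrix.cons_val', Matrix.cons_val_zero, Matrix.cons_val_one,
      Matrix.cons_val_two, Matrix.empty_val', Matrix.cons_val_fin_one, Matrix.head_cons,
      Matrix.tail_cons, Matrix.head_fin_const]
    field_simp
    ring1
  · simp only [map_div₀, map_neg, hφφ] at hn
    simp only [Nm, Um, Matrix.mul_fin_three, map_div₀, map_neg, hφφ, neg_neg,
      Matrix.of_apply, Matrix.cons_val', Matrix.cons_val_zero, Matrix.cons_val_one,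
      Matrix.cons_val_two, Matrix.empty_val', Matrix.cons_val_fin_one, Matrix.head_cons,
      Matrix.tail_cons, Matrix.head_fin_const]
    field_simp
    linear_combination e00

include hφφ in
/-- elements of the big cell -/
theorem big_cell (M : Matrix (Fin 3) (Fin 3) F) (hJ : IsJ φ M) (h20 : M 2 0 ≠ 0) :
    ∃ a b : F, b + φ b + a * φ a = 0 ∧ (Nm F * Um φ (-a) (φ b) * M) 1 0 = 0 ∧
      (Nm F * Um φ (-a) (φ b) * M) 2 0 = 0 := by
  have e := Matrix.eta_fin_three M
  rw [e] at hJ
  obtain ⟨h1, h2, h3⟩ := big_cell_comp φ hφφ _ _ _ _ _ _ _ _ _ hJ h20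
  refine ⟨-φ (M 1 0 / M 2 0), M 0 0 / M 2 0, h1, ?_, ?_⟩
  · rw [e]; exact h2
  · rw [e]; exact h3

end Cfsg.Agent.Helper28.SU3
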