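import Cfsg.Agent.Lib.Helper28.SU3B
import Cfsg.Agent.Lib.Helper12.RegUnipA
import Cfsg.Agent.Lib.Helper12.SLGen2

/-!
# `SU_3` in a Witt basis: a regular unipotent element and a torus element generate the
unipotent radical
-/

set_option autoImplicit false
set_option linter.unusedSimpArgs false

namespace Cfsg.Agent.Helper28.SU3

open Matrix Cfsg.Agent.Helper12.RegUnip

variable {F : Type*} [Field F] (φ : F →+* F) (hφφ : ∀ x, φ (φ x) = x)
variable {H : Subgroup (Matrix.SpecialLinearGroup (Fin 3) F)}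

include hφφ in
/-- the norm condition is preserved by products -/
theorem norm_cond_mul {a b a' b' : F} (h : b + φ b + a * φ a = 0) (h' : b' + φ b' + a' * φ a' = 0) :
    (b + b' - a * φ a') + φ (b + b' - a * φ a') + (a + a') * φ (a + a') = 0 := by
  simp only [map_add, map_sub, map_mul, hφφ]
  linear_combination h + h'

include hφφ in
/-- the norm condition is preserved by inverses -/
theorem norm_cond_inv {a b : F} (h : b + φ b + a * φ a = 0) :
    φ b + φ (φ b) + (-a) * φ (-a) = 0 := by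
  simp only [map_neg, hφφ]
  linear_combination h

include hφφ in
/-- the additive group of the `a`-coordinates of the elements `Um a' b'` of `H`, divided by `a` -/
def multGroup (H : Subgroup (Matrix.SpecialLinearGroup (Fin 3) F)) (a : F) : AddSubgroup F where
  carrier := {ρ | ∃ β : F, β + φ β + (ρ * a) * φ (ρ * a) = 0 ∧ Um φ (ρ * a) β ∈ Mset H}
  zero_mem' := by
    refine ⟨0, ?_, ?_⟩
    · simp
    · rw [zero_mul, Um_zero]
      exact mset_one
  add_mem' := by
    rintro ρ ρ' ⟨β, h1, h2⟩ ⟨β', h1', h2'⟩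
    refine ⟨β + β' - (ρ * a) * φ (ρ' * a), ?_, ?_⟩
    · rw [add_mul]
      exact norm_cond_mul φ hφφ h1 h1'
    · rw [add_mul, ← Um_mul]
      exact mset_mul h2 h2'
  neg_mem' := by
    rintro ρ ⟨β, h1, h2⟩
    refine ⟨φ β, ?_, ?_⟩
    · rw [neg_mul]
      exact norm_cond_inv φ hφφ h1
    · rw [neg_mul]
      have h3 := Um_mul_inv φ (ρ * a) β h1
      exact mset_cancel_left h2 (h3 ▸ mset_one)

include hφφ in
/-- conjugation of an upper unitriangular element by an element of the Borel subgroup -/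
theorem borel_conj (s x0 y0 a' β : F) (hs : s ≠ 0) :
    (Hm φ s * Um φ x0 y0) * Um φ a' β =
      Um φ (s ^ 2 / φ s * a') (s * φ s * (β - x0 * φ a' + a' * φ x0)) * (Hm φ s * Um φ x0 y0) := by
  have hs' : φ s ≠ 0 := fun h => hs (by rw [← hφφ s, h, map_zero])
  simp only [Hm, Um, Matrix.mul_fin_three, map_div₀, map_mul, map_pow, hφφ]
  apply m3ext'
  all_goals first | ring1 | (field_simp; ring1)

include hφφ in
theorem multGroup_smul (a : F) (w : Matrix (Fin 3) (Fin 3) F) (hw : w ∈ Mset H) (hJ : IsJ φ w)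
    (h10 : w 1 0 = 0) (h20 : w 2 0 = 0) (ρ : F) (hρ : ρ ∈ multGroup φ hφφ H a) :
    (w 0 0) ^ 2 / φ (w 0 0) * ρ ∈ multGroup φ hφφ H a := by
  have hdet : w.det = 1 := by
    obtain ⟨g, -, rfl⟩ := hw
    exact g.2
  obtain ⟨hs, x0, y0, hxy, hM⟩ := borel_form φ hφφ w hJ hdet h10 h20
  have hs' : φ (w 0 0) ≠ 0 := fun h => hs (by rw [← hφφ (w 0 0), h, map_zero])
  obtain ⟨β, h1, h2⟩ := hρ
  refine ⟨w 0 0 * φ (w 0 0) * (β - x0 * φ (ρ * a) + (ρ * a) * φ x0), ?_, ?_⟩
  · simp only [map_mul, map_div₀, map_pow, map_sub, map_add, hφφ] at h1 ⊢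
    field_simp
    first | linear_combination (w 0 0 * φ (w 0 0)) * h1 | linear_combination (w 0 0 * φ (w 0 0) ^ 2) * h1 | linear_combination (w 0 0 ^ 2 * φ (w 0 0)) * h1
  · have h3 := borel_conj φ hφφ (w 0 0) x0 y0 (ρ * a) β hs
    rw [← hM] at h3
    rw [mul_assoc]
    exact mset_conj hw h2 h3

include hφφ in
/-- **The unipotent radical.** A regular unipotent element and an element of the Borel subgroup
whose multiplier generates the field generate a group containing the whole unipotent radical. -/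
theorem Um_mem_of_torus [Fintype F] (a b : F) (ha : a ≠ 0) (hab : b + φ b + a * φ a = 0)
    (hz : Um φ a b ∈ Mset H) (w : Matrix (Fin 3) (Fin 3) F) (hw : w ∈ Mset H) (hJ : IsJ φ w)
    (h10 : w 1 0 = 0) (h20 : w 2 0 = 0)
    (hgen : ∀ K : Subfield F, (w 0 0) ^ 2 / φ (w 0 0) ∈ K → K = ⊤)
    (e0 : F) (he0 : e0 + φ e0 = 1) (x y : F) (hxy : y + φ y + x * φ x = 0) :
    Um φ x y ∈ Mset H := by
  have hφa : φ a ≠ 0 := fun h => ha (by rw [← hφφ a, h, map_zero])
  have h1 : (1 : F) ∈ multGroup φ hφφ H a := ⟨b, by rw [one_mul]; exact hab, by rw [one_mul]; exact hz⟩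
  have hμ : (w 0 0) ^ 2 / φ (w 0 0) ∈
      Cfsg.Agent.Helper12.multiplierSubfield (multGroup φ hφφ H a) :=
    fun ρ hρ => multGroup_smul φ hφφ a w hw hJ h10 h20 ρ hρ
  have htop := hgen _ hμ
  have hall : ∀ ρ : F, ρ ∈ multGroup φ hφφ H a := by
    intro ρ
    have h2 : ρ ∈ Cfsg.Agent.Helper12.multiplierSubfield (multGroup φ hφφ H a) := by
      rw [htop]
      trivial
    have h3 := h2 1 h1
    rwa [mul_one] at h3
  have hex : ∀ x' : F, ∃ β : F, β + φ β + x' * φ x' = 0 ∧ Um φ x' β ∈ Mset H := by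
    intro x'
    obtain ⟨β, h2, h3⟩ := hall (x' / a)
    have e : x' / a * a = x' := by field_simp
    rw [e] at h2 h3
    exact ⟨β, h2, h3⟩
  have hcen : ∀ c : F, c + φ c = 0 → Um φ 0 c ∈ Mset H := by
    intro c hc
    obtain ⟨β, h2, h3⟩ := hex (c / (a * φ a) * e0 * a)
    have h4 : Um φ a b * Um φ (c / (a * φ a) * e0 * a) β =
        (Um φ (c / (a * φ a) * e0 * a) β * Um φ a b) * Um φ 0 c := by
      rw [Um_mul, Um_mul, Um_mul]
      have hφc : φ c = -c := by linear_combination hc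
      have hφe : φ e0 = 1 - e0 := by linear_combination he0
      congr 1
      · ring
      · simp only [map_mul, map_div₀, map_zero, hφφ, hφc, hφe]
        field_simp
        ring
    exact mset_cancel_left (mset_mul h3 hz) (h4 ▸ mset_mul hz h3)
  obtain ⟨β, h2, h3⟩ := hex x
  have h5 : Um φ x y = Um φ x β * Um φ 0 (y - β) := by
    rw [Um_mul, map_zero, mul_zero, sub_zero, add_zero]
    congr 1
    ring
  rw [h5]
  apply mset_mul h3
  apply hcen
  rw [map_sub]
  linear_combination hxy - h2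

end Cfsg.Agent.Helper28.SU3
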