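import Cfsg.Agent.Lib.Helper28.SU3C

/-!
# `SU_3` in a Witt basis: generation by the unipotent radical and a Weyl element
-/

set_option autoImplicit false
set_option linter.unusedSimpArgs false

namespace Cfsg.Agent.Helper28.SU3

open Matrix Cfsg.Agent.Helper12.RegUnip

variable {F : Type*} [Field F] (φ : F →+* F) (hφφ : ∀ x, φ (φ x) = x)
variable {H : Subgroup (Matrix.SpecialLinearGroup (Fin 3) F)}

include hφφ in
/-- **Generation.** A subgroup containing the unipotent radical and one element `n h(t₀)` contains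
every matrix of determinant one preserving the form. -/
theorem mem_of_isJ (hU : ∀ x y : F, y + φ y + x * φ x = 0 → Um φ x y ∈ Mset H)
    (t0 : F) (ht0 : t0 ≠ 0) (hn : Nm F * Hm φ t0 ∈ Mset H)
    (hN : ∀ c : F, φ c = c → ∃ l : F, l * φ l = c)
    (M : Matrix (Fin 3) (Fin 3) F) (hJ : IsJ φ M) (hdet : M.det = 1) : M ∈ Mset H := by
  have ht0' : φ t0 ≠ 0 := fun h => ht0 (by rw [← hφφ t0, h, map_zero])
  -- the opposite unipotent radical
  have hL : ∀ a b : F, b + φ b + a * φ a = 0 → Lm φ a b ∈ Mset H := by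
    intro a b hab
    have hX : Um φ (a * φ t0 / t0 ^ 2) (b / (t0 * φ t0)) ∈ Mset H := by
      apply hU
      simp only [map_div₀, map_mul, map_pow, hφφ]
      field_simp
      linear_combination hab
    have e1 : Hm φ t0 * Um φ (a * φ t0 / t0 ^ 2) (b / (t0 * φ t0)) = Um φ a b * Hm φ t0 := by
      rw [Hm_mul_Um φ hφφ _ _ _ ht0]
      congr 2
      · field_simp
      · field_simp
    have e2 : Nm F * Um φ a b = Lm φ a b * Nm F := by
      rw [← Nm_Um_Nm, Matrix.mul_assoc, Matrix.mul_assoc, Nm_mul_Nm, Matrix.mul_one]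
    have e3 : (Nm F * Hm φ t0) * Um φ (a * φ t0 / t0 ^ 2) (b / (t0 * φ t0)) =
        Lm φ a b * (Nm F * Hm φ t0) := by
      rw [Matrix.mul_assoc, e1, ← Matrix.mul_assoc, e2, Matrix.mul_assoc]
    exact mset_conj hn hX e3
  -- all elements `n h(b)`
  have hnh : ∀ b : F, b ≠ 0 → Nm F * Hm φ b ∈ Mset H := by
    intro b hb
    obtain ⟨a, ha⟩ := hN (-(b + φ b)) (by rw [map_neg, map_add, hφφ]; ring)
    have hab : b + φ b + a * φ a = 0 := by linear_combination ha
    have hb' : φ b ≠ 0 := fun h => hb (by rw [← hφφ b, h, map_zero])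
    have e := Lm_bruhat φ hφφ a b hb hab
    have h1 : Um φ (-a / φ b) (1 / b) ∈ Mset H := by
      apply hU
      simp only [map_div₀, map_neg, map_one, hφφ]
      field_simp
      linear_combination hab
    have h2 : Um φ (-a / b) (1 / b) ∈ Mset H := by
      apply hU
      simp only [map_div₀, map_neg, map_one, hφφ]
      field_simp
      linear_combination hab
    have h3 : Um φ (-a / φ b) (1 / b) * Nm F * Hm φ b * Um φ (-a / b) (1 / b) ∈ Mset H :=
      e ▸ hL a b hab
    have h4 := mset_cancel_right h2 h3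
    rw [Matrix.mul_assoc] at h4
    exact mset_cancel_left h1 h4
  -- the torus
  have hT : ∀ s : F, s ≠ 0 → Hm φ s ∈ Mset H := by
    intro s hs
    have h1 := hnh (t0 * s) (mul_ne_zero ht0 hs)
    rw [← Hm_mul_Hm φ hφφ t0 s ht0 hs, ← Matrix.mul_assoc] at h1
    exact mset_cancel_left hn h1
  have hNm : Nm F ∈ Mset H := by
    have h1 := hnh 1 one_ne_zero
    rwa [Hm_one, Matrix.mul_one] at h1
  -- the Borel subgroup
  have hB : ∀ M' : Matrix (Fin 3) (Fin 3) F, IsJ φ M' → M'.det = 1 → M' 1 0 = 0 → M' 2 0 = 0 →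
      M' ∈ Mset H := by
    intro M' hJ' hdet' h10 h20
    obtain ⟨hs, x, y, hxy, hM'⟩ := borel_form φ hφφ M' hJ' hdet' h10 h20
    rw [hM']
    exact mset_mul (hT _ hs) (hU x y hxy)
  by_cases h20 : M 2 0 = 0
  · have h10 : M 1 0 = 0 := by
      have e := Matrix.eta_fin_three M
      rw [e, isJ_iff] at hJ
      obtain ⟨e00, -⟩ := hJ
      rw [h20, map_zero, mul_zero, zero_mul, add_zero, zero_add] at e00
      rcases mul_eq_zero.mp e00 with h | h
      · exact h
      · rw [← hφφ (M 1 0), h, map_zero]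
    exact hB M hJ hdet h10 h20
  · obtain ⟨a, b, hab, h1, h2⟩ := big_cell φ hφφ M hJ h20
    have hUinv : Um φ (-a) (φ b) ∈ Mset H := hU _ _ (norm_cond_inv φ hφφ hab)
    have hg : Nm F * Um φ (-a) (φ b) ∈ Mset H := mset_mul hNm hUinv
    have hJ' : IsJ φ (Nm F * Um φ (-a) (φ b) * M) :=
      ((isJ_Nm φ).mul (isJ_Um φ hφφ _ _ (norm_cond_inv φ hφφ hab))).mul hJ
    have hdet' : (Nm F * Um φ (-a) (φ b) * M).det = 1 := by
      rw [Matrix.det_mul, Matrix.det_mul, det_Nm, det_Um, hdet]
      ring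
    exact mset_cancel_left hg (hB _ hJ' hdet' h1 h2)

end Cfsg.Agent.Helper28.SU3
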