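import Cfsg.Agent.Lib.Helper28.SU3D

/-!
# `SU_3` in a Witt basis: the generating pair
-/

set_option autoImplicit false
set_option linter.unusedSimpArgs false

namespace Cfsg.Agent.Helper28.SU3

open Matrix Cfsg.Agent.Helper12.RegUnip

variable {F : Type*} [Field F] (φ : F →+* F) (hφφ : ∀ x, φ (φ x) = x)
variable {H : Subgroup (Matrix.SpecialLinearGroup (Fin 3) F)}

/-- the first generator -/
def zGen (t lam : F) : Matrix (Fin 3) (Fin 3) F :=
  Um φ (lam / (t * (1 - t))) ((2 * t + 1) / t ^ 2)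

/-- the conjugating element -/
def gGen (t lam : F) : Matrix (Fin 3) (Fin 3) F :=
  Um φ (-lam / (1 - t)) (1 / (1 - t)) * Nm F * Hm φ (-(t * (1 - t))) *
    Um φ ((1 + t * (1 - t)) * lam / (1 - t)) ((1 + t * (1 - t)) ^ 2 / (1 - t))

section params

variable (t lam : F) (ht : t + φ t = 1) (ht0 : t ≠ 0) (ht1 : t ≠ 1) (hlam : lam * φ lam = -1)

include ht in
theorem phi_t : φ t = 1 - t := by linear_combination ht

include ht hlam ht0 ht1 in
theorem zGen_norm : (2 * t + 1) / t ^ 2 + φ ((2 * t + 1) / t ^ 2) +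
    lam / (t * (1 - t)) * φ (lam / (t * (1 - t))) = 0 := by
  have h1 : (1 : F) - t ≠ 0 := sub_ne_zero.mpr (Ne.symm ht1)
  have hl : lam ≠ 0 := by
    intro h
    rw [h, zero_mul] at hlam
    exact (neg_ne_zero.mpr one_ne_zero) hlam.symm
  have hφl : φ lam = -1 / lam := by
    field_simp
    linear_combination hlam
  simp only [map_div₀, map_mul, map_add, map_sub, map_pow, map_one, map_ofNat, phi_t φ t ht, hφl]
  have h2 : (1 : F) - (1 - t) = t := by ring
  rw [h2]
  field_simp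
  ring

include hφφ ht ht0 ht1 hlam in
theorem isJ_zGen : IsJ φ (zGen φ t lam) :=
  isJ_Um φ hφφ _ _ (zGen_norm φ t lam ht ht0 ht1 hlam)

theorem det_zGen : (zGen φ t lam).det = 1 := det_Um φ _ _

include ht hlam ht0 ht1 in
theorem conj_core :
    Um φ (-lam / (1 - t)) (1 / (1 - t)) * Lm φ (-lam) t =
      (Nm F * Hm φ t * zGen φ t lam) * Um φ (-lam / (1 - t)) (1 / (1 - t)) := by
  have h1 : (1 : F) - t ≠ 0 := sub_ne_zero.mpr (Ne.symm ht1)
  have hl : lam ≠ 0 := by
    intro h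
    rw [h, zero_mul] at hlam
    exact (neg_ne_zero.mpr one_ne_zero) hlam.symm
  have hφl : φ lam = -1 / lam := by
    field_simp
    linear_combination hlam
  have h2 : (1 : F) - (1 - t) = t := by ring
  simp only [zGen, Um, Lm, Hm, Nm, map_div₀, map_mul, map_add, map_sub, map_pow, map_one,
    map_neg, map_ofNat, phi_t φ t ht, hφl, h2]
  simp only [Matrix.mul_fin_three]
  apply m3ext'
  all_goals first | ring1 | (field_simp; ring1)

include hφφ ht hlam ht0 ht1 in
/-- the second generator is conjugate to the first -/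
theorem gGen_conj : gGen φ t lam * zGen φ t lam = (Nm F * Hm φ t * zGen φ t lam) * gGen φ t lam := by
  have h1 : (1 : F) - t ≠ 0 := sub_ne_zero.mpr (Ne.symm ht1)
  have hl : lam ≠ 0 := by
    intro h
    rw [h, zero_mul] at hlam
    exact (neg_ne_zero.mpr one_ne_zero) hlam.symm
  have hφl : φ lam = -1 / lam := by
    field_simp
    linear_combination hlam
  have h2 : (1 : F) - (1 - t) = t := by ring
  have hν : t * (1 - t) ≠ 0 := mul_ne_zero ht0 h1
  have hφν : φ (-(t * (1 - t))) = -(t * (1 - t)) := by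
    simp only [map_neg, map_mul, map_sub, map_one, phi_t φ t ht, h2]
    ring
  -- step 1: inside the unipotent radical
  have s1 : Um φ ((1 + t * (1 - t)) * lam / (1 - t)) ((1 + t * (1 - t)) ^ 2 / (1 - t)) *
      zGen φ t lam = Um φ (lam / (t * (1 - t))) (t / (t * (1 - t)) ^ 2) *
        Um φ ((1 + t * (1 - t)) * lam / (1 - t)) ((1 + t * (1 - t)) ^ 2 / (1 - t)) := by
    unfold zGen
    rw [Um_mul, Um_mul]
    congr 1
    · ring
    · simp only [map_div₀, map_mul, map_add, map_sub, map_pow, map_one, phi_t φ t ht, hφl, h2]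
      field_simp
      ring
  -- step 2: the torus element
  have s2 : Hm φ (-(t * (1 - t))) * Um φ (lam / (t * (1 - t))) (t / (t * (1 - t)) ^ 2) =
      Um φ (-lam) t * Hm φ (-(t * (1 - t))) := by
    rw [Hm_mul_Um φ hφφ _ _ _ (neg_ne_zero.mpr hν), hφν]
    congr 2
    · field_simp
    · field_simp
  -- step 3: the Weyl element
  have s3 : Nm F * Um φ (-lam) t = Lm φ (-lam) t * Nm F := by
    rw [← Nm_Um_Nm, Matrix.mul_assoc, Matrix.mul_assoc, Nm_mul_Nm, Matrix.mul_one]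
  have s4 := conj_core φ t lam ht ht0 ht1 hlam
  unfold gGen
  calc Um φ (-lam / (1 - t)) (1 / (1 - t)) * Nm F * Hm φ (-(t * (1 - t))) *
        Um φ ((1 + t * (1 - t)) * lam / (1 - t)) ((1 + t * (1 - t)) ^ 2 / (1 - t)) * zGen φ t lam
      = Um φ (-lam / (1 - t)) (1 / (1 - t)) * Nm F * Hm φ (-(t * (1 - t))) *
        (Um φ ((1 + t * (1 - t)) * lam / (1 - t)) ((1 + t * (1 - t)) ^ 2 / (1 - t)) *
          zGen φ t lam) := by simp only [Matrix.mul_assoc]
    _ = Um φ (-lam / (1 - t)) (1 / (1 - t)) * Nm F *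
        (Hm φ (-(t * (1 - t))) * Um φ (lam / (t * (1 - t))) (t / (t * (1 - t)) ^ 2)) *
        Um φ ((1 + t * (1 - t)) * lam / (1 - t)) ((1 + t * (1 - t)) ^ 2 / (1 - t)) := by
        rw [s1]; simp only [Matrix.mul_assoc]
    _ = Um φ (-lam / (1 - t)) (1 / (1 - t)) * (Nm F * Um φ (-lam) t) *
        Hm φ (-(t * (1 - t))) *
        Um φ ((1 + t * (1 - t)) * lam / (1 - t)) ((1 + t * (1 - t)) ^ 2 / (1 - t)) := by
        rw [s2]; simp only [Matrix.mul_assoc]
    _ = (Um φ (-lam / (1 - t)) (1 / (1 - t)) * Lm φ (-lam) t) * Nm F *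
        Hm φ (-(t * (1 - t))) *
        Um φ ((1 + t * (1 - t)) * lam / (1 - t)) ((1 + t * (1 - t)) ^ 2 / (1 - t)) := by
        rw [s3]; simp only [Matrix.mul_assoc]
    _ = (Nm F * Hm φ t * zGen φ t lam) * (Um φ (-lam / (1 - t)) (1 / (1 - t)) * Nm F *
        Hm φ (-(t * (1 - t))) *
        Um φ ((1 + t * (1 - t)) * lam / (1 - t)) ((1 + t * (1 - t)) ^ 2 / (1 - t))) := by
        rw [s4]; simp only [Matrix.mul_assoc]

include hφφ ht hlam ht0 ht1 in
theorem isJ_gGen : IsJ φ (gGen φ t lam) := by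
  have h1 : (1 : F) - t ≠ 0 := sub_ne_zero.mpr (Ne.symm ht1)
  have hl : lam ≠ 0 := by
    intro h
    rw [h, zero_mul] at hlam
    exact (neg_ne_zero.mpr one_ne_zero) hlam.symm
  have hφl : φ lam = -1 / lam := by
    field_simp
    linear_combination hlam
  have h2 : (1 : F) - (1 - t) = t := by ring
  have hν : t * (1 - t) ≠ 0 := mul_ne_zero ht0 h1
  unfold gGen
  refine (((isJ_Um φ hφφ _ _ ?_).mul (isJ_Nm φ)).mul (isJ_Hm φ hφφ _ (neg_ne_zero.mpr hν))).mul
    (isJ_Um φ hφφ _ _ ?_)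
  · simp only [map_div₀, map_mul, map_add, map_sub, map_pow, map_one, map_neg, phi_t φ t ht,
      hφl, h2]
    field_simp
    ring
  · simp only [map_div₀, map_mul, map_add, map_sub, map_pow, map_one, map_neg, phi_t φ t ht,
      hφl, h2]
    field_simp
    ring

include hφφ ht ht0 ht1 in
theorem det_gGen : (gGen φ t lam).det = 1 := by
  have h1 : (1 : F) - t ≠ 0 := sub_ne_zero.mpr (Ne.symm ht1)
  have hν : t * (1 - t) ≠ 0 := mul_ne_zero ht0 h1
  unfold gGen
  rw [Matrix.det_mul, Matrix.det_mul, Matrix.det_mul, det_Um, det_Um, det_Nm,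
    det_Hm φ hφφ _ (neg_ne_zero.mpr hν)]
  ring

include hφφ ht ht0 ht1 hlam in
/-- **The generating pair.** -/
theorem family_generates [Fintype F] (hN : ∀ c : F, φ c = c → ∃ l : F, l * φ l = c)
    (hgen : ∀ K : Subfield F, (t / (1 - t)) ^ 3 ∈ K → K = ⊤)
    (hz : zGen φ t lam ∈ Mset H) (hv : Nm F * Hm φ t * zGen φ t lam ∈ Mset H)
    (M : Matrix (Fin 3) (Fin 3) F) (hJ : IsJ φ M) (hdet : M.det = 1) : M ∈ Mset H := by
  have h1 : (1 : F) - t ≠ 0 := sub_ne_zero.mpr (Ne.symm ht1)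
  have hφt : φ t ≠ 0 := by rw [phi_t φ t ht]; exact h1
  have hl : lam ≠ 0 := by
    intro h
    rw [h, zero_mul] at hlam
    exact (neg_ne_zero.mpr one_ne_zero) hlam.symm
  have hν : t * (1 - t) ≠ 0 := mul_ne_zero ht0 h1
  -- the Weyl element
  have hn : Nm F * Hm φ t ∈ Mset H := mset_cancel_right hz hv
  -- its square
  have hw : Hm φ (t / (1 - t)) ∈ Mset H := by
    have e : (Nm F * Hm φ t) * (Nm F * Hm φ t) = Hm φ (t / (1 - t)) := by
      calc (Nm F * Hm φ t) * (Nm F * Hm φ t) = (Nm F * Hm φ t * Nm F) * Hm φ t := by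
            simp only [Matrix.mul_assoc]
        _ = Hm φ (φ t)⁻¹ * Hm φ t := by rw [Nm_Hm_Nm φ hφφ t ht0]
        _ = Hm φ ((φ t)⁻¹ * t) := Hm_mul_Hm φ hφφ _ _ (inv_ne_zero hφt) ht0
        _ = Hm φ (t / (1 - t)) := by rw [phi_t φ t ht]; congr 1; field_simp
    rw [← e]
    exact mset_mul hn hn
  have hτ : t / (1 - t) ≠ 0 := div_ne_zero ht0 h1
  have hφτ : φ (t / (1 - t)) = (1 - t) / t := by
    rw [map_div₀, map_sub, map_one, phi_t φ t ht]
    congr 1
    ring
  have hU : ∀ x y : F, y + φ y + x * φ x = 0 → Um φ x y ∈ Mset H := by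
    intro x y hxy
    refine Um_mem_of_torus φ hφφ _ _ (div_ne_zero hl hν) (zGen_norm φ t lam ht ht0 ht1 hlam) hz
      (Hm φ (t / (1 - t))) hw (isJ_Hm φ hφφ _ hτ) (by simp [Hm]) (by simp [Hm]) ?_ t ht x y hxy
    intro K hK
    apply hgen K
    have e : (Hm φ (t / (1 - t))) 0 0 = t / (1 - t) := by simp [Hm]
    rw [e, hφτ] at hK
    have e2 : (t / (1 - t)) ^ 2 / ((1 - t) / t) = (t / (1 - t)) ^ 3 := by
      field_simp
    rwa [e2] at hK
  exact mem_of_isJ φ hφφ hU t ht0 hn hN M hJ hdet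

end params

end Cfsg.Agent.Helper28.SU3
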