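import Cfsg.Agent.Lib.Helper28.SU3E
import Cfsg.Agent.Lib.Helper28.RU5
import Cfsg.Agent.Lib.Helper11.Unitary2

/-!
# `SU_3`: the parameters of the generating pair
-/

set_option autoImplicit false

namespace Cfsg.Agent.Helper28.SU3

open Cfsg.Agent.Helper28.RU

variable {F : Type*} [Field F] [Fintype F]

/-- the cube of an element of order `q + 1` generates the field with `q ^ 2` elements, unless
`q` is `2`, `5` or `8` -/
theorem tau_cube_gen (q : ℕ) (hq3 : 3 ≤ q) (hq5 : q ≠ 5) (hq8 : q ≠ 8)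
    (hF : Fintype.card F = q ^ 2) (τ : F) (hτ : orderOf τ = q + 1) (K : Subfield F)
    (hK : τ ^ 3 ∈ K) : K = ⊤ := by
  obtain ⟨m, hm⟩ := subfield_card K
  have hQ2 := subfield_two_le_card K
  have hfix := subfield_pow_card K hK
  rw [Nat.card_eq_fintype_card, hF] at hm
  set Q := Nat.card K with hQ
  have hτ0 : τ ≠ 0 := by
    intro h
    rw [h, orderOf_zero] at hτ
    omega
  have hdvd : (q + 1) ∣ 3 * (Q - 1) := by
    rw [← hτ]
    apply orderOf_dvd_of_pow_eq_one
    have h1 : τ ^ (3 * (Q - 1)) * τ ^ 3 = 1 * τ ^ 3 := by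
      rw [one_mul, ← pow_add]
      have e : 3 * (Q - 1) + 3 = 3 * Q := by omega
      rw [e, pow_mul]
      exact hfix
    exact mul_right_cancel₀ (pow_ne_zero 3 hτ0) h1
  have hle : q + 1 ≤ 3 * (Q - 1) := Nat.le_of_dvd (by omega) hdvd
  rcases Nat.lt_or_ge m 2 with hm2 | hm2
  · -- m ≤ 1
    interval_cases m
    · rw [pow_zero] at hm
      have : 9 ≤ q ^ 2 := by nlinarith
      omega
    · apply subfield_eq_top_of_card
      rw [Nat.card_eq_fintype_card (α := F), hF, hm, pow_one]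
  · exfalso
    rcases Nat.lt_or_ge m 3 with hm3 | hm3
    · -- m = 2
      have hm' : m = 2 := by omega
      subst hm'
      have hQq : Q = q := by
        have := Nat.pow_left_injective (n := 2) (by norm_num) hm
        exact this.symm
      rw [hQq] at hdvd
      have h6 : (q + 1) ∣ 6 := by
        have h1 : 3 * (q - 1) + 6 = 3 * (q + 1) := by omega
        have h2 : (q + 1) ∣ 3 * (q - 1) + 6 := by
          rw [h1]
          exact Dvd.intro_left 3 rfl
        exact (Nat.dvd_add_right hdvd).mp h2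
      have h7 : q + 1 ≤ 6 := Nat.le_of_dvd (by norm_num) h6
      have h8 : q ≤ 5 := by omega
      interval_cases q <;> omega
    · -- m ≥ 3
      have h1 : Q ^ 3 ≤ q ^ 2 := by
        rw [hm]
        exact Nat.pow_le_pow_right (by omega) hm3
      have h2 : q + 4 ≤ 3 * Q := by omega
      have h3 : (q + 4) ^ 3 ≤ 27 * q ^ 2 := by
        calc (q + 4) ^ 3 ≤ (3 * Q) ^ 3 := Nat.pow_le_pow_left h2 3
          _ = 27 * Q ^ 3 := by ring
          _ ≤ 27 * q ^ 2 := Nat.mul_le_mul_left 27 h1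
      rcases Nat.lt_or_ge q 15 with h15 | h15
      · interval_cases q <;> omega
      · have h4 : 15 * q ^ 2 ≤ q ^ 3 := by
          have : q ^ 3 = q * q ^ 2 := by ring
          rw [this]
          exact Nat.mul_le_mul_right _ h15
        nlinarith

/-- existence of an element of order `q + 1` -/
theorem exists_orderOf_eq (q : ℕ) (hq : 2 ≤ q) (hF : Fintype.card F = q ^ 2) :
    ∃ τ : F, orderOf τ = q + 1 := by
  obtain ⟨g, hg⟩ := IsCyclic.exists_generator (α := Fˣ)
  have h1 : orderOf g = q ^ 2 - 1 := by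
    rw [orderOf_eq_card_of_forall_mem_zpowers hg, Nat.card_units, Nat.card_eq_fintype_card, hF]
  have h2 : q ^ 2 - 1 = (q + 1) * (q - 1) := by
    obtain ⟨m, rfl⟩ := Nat.exists_eq_add_of_le hq
    have e : 2 + m - 1 = m + 1 := by omega
    have : (2 + m) ^ 2 = (2 + m + 1) * (m + 1) + 1 := by ring
    rw [e]
    omega
  refine ⟨((g ^ (q - 1) : Fˣ) : F), ?_⟩
  rw [orderOf_units, orderOf_pow, h1, h2, Nat.gcd_mul_left_left,
    Nat.mul_div_cancel _ (by omega : 0 < q - 1)]

/-- the parameters -/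
theorem exists_params (q : ℕ) (hq3 : 3 ≤ q) (hF : Fintype.card F = q ^ 2) (φ : F →+* F)
    (hφ : ∀ x, φ x = x ^ q) :
    ∃ t lam : F, t + φ t = 1 ∧ t ≠ 0 ∧ t ≠ 1 ∧ lam * φ lam = -1 ∧
      (q ≠ 5 → q ≠ 8 → ∀ K : Subfield F, (t / (1 - t)) ^ 3 ∈ K → K = ⊤) := by
  obtain ⟨τ, hτ⟩ := exists_orderOf_eq q (by omega) hF
  have hτ0 : τ ≠ 0 := by
    intro h
    rw [h, orderOf_zero] at hτ
    omega
  have hτq : τ ^ (q + 1) = 1 := by rw [← hτ]; exact pow_orderOf_eq_one τ
  have hφτ : φ τ * τ = 1 := by rw [hφ, ← pow_succ]; exact hτq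
  have h1τ : 1 + τ ≠ 0 := by
    intro h
    have h2 : τ ^ 2 = 1 := by
      have : τ = -1 := by linear_combination h
      rw [this]
      ring
    have h3 := orderOf_dvd_of_pow_eq_one h2
    rw [hτ] at h3
    have := Nat.le_of_dvd (by norm_num) h3
    omega
  obtain ⟨lam, -, hlam⟩ := Cfsg.Agent.Helper11.Herm.frob_norm_surj hF φ hφ (-1)
    (neg_ne_zero.mpr one_ne_zero) (by rw [map_neg, map_one])
  have hφτ' : φ τ = τ⁻¹ := eq_inv_of_mul_eq_one_left hφτ
  refine ⟨τ / (1 + τ), lam, ?_, ?_, ?_, hlam, ?_⟩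
  · have h1τ' : τ + 1 ≠ 0 := by rwa [add_comm] at h1τ
    rw [map_div₀, map_add, map_one, hφτ']
    field_simp
    ring
  · exact div_ne_zero hτ0 h1τ
  · intro h
    rw [div_eq_one_iff_eq h1τ] at h
    have : (1 : F) = 0 := by linear_combination -h
    exact one_ne_zero this
  · intro hq5 hq8 K hK
    have e : τ / (1 + τ) / (1 - τ / (1 + τ)) = τ := by
      field_simp
      ring
    rw [e] at hK
    exact tau_cube_gen q hq3 hq5 hq8 hF τ hτ K hK

end Cfsg.Agent.Helper28.SU3
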