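import Cfsg.Agent.Lib.Helper28.SU3F
import Cfsg.Agent.Lib.Helper11.UnitaryGeom

/-!
# `SU_3`: from the Witt basis to the orthonormal basis
-/

set_option autoImplicit false
set_option linter.unusedSimpArgs false

namespace Cfsg.Agent.Helper28.SU3

open Matrix Cfsg.Agent.Helper11.Herm

variable {F : Type*} [Field F]

/-- the base change matrix -/
def Cm (φ : F →+* F) (x l0 : F) : Matrix (Fin 3) (Fin 3) F :=
  !![1, 0, φ x / (x - φ x); l0, 0, l0 * x / (x - φ x); 0, -1 / l0, 0]

theorem det_Cm (φ : F →+* F) (x l0 : F) (hx : φ x ≠ x) (hl : l0 ≠ 0) : (Cm φ x l0).det = 1 := by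
  have h1 : x - φ x ≠ 0 := sub_ne_zero.mpr (Ne.symm hx)
  rw [Cm, Matrix.det_fin_three]
  simp only [Matrix.of_apply, Matrix.cons_val', Matrix.cons_val_zero, Matrix.cons_val_one,
    Matrix.cons_val_two, Matrix.empty_val', Matrix.cons_val_fin_one, Matrix.head_cons,
    Matrix.tail_cons, Matrix.head_fin_const]
  field_simp
  ring

theorem Cm_gram (φ : F →+* F) (hφφ : ∀ x, φ (φ x) = x) (x l0 : F) (hx : φ x ≠ x)
    (hl : l0 * φ l0 = -1) : (Cm φ x l0)ᵀ * (Cm φ x l0).map φ = -Jm F := by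
  have h1 : x - φ x ≠ 0 := sub_ne_zero.mpr (Ne.symm hx)
  have h2 : φ x - x ≠ 0 := sub_ne_zero.mpr hx
  have hl0 : l0 ≠ 0 := by
    intro h
    rw [h, zero_mul] at hl
    exact (neg_ne_zero.mpr one_ne_zero) hl.symm
  have hφl : φ l0 = -1 / l0 := by
    field_simp
    linear_combination hl
  have e : (-Jm F : Matrix (Fin 3) (Fin 3) F) = !![0, 0, -1; 0, -1, 0; -1, 0, 0] := by
    unfold Jm
    ext i j
    fin_cases i <;> fin_cases j <;> simp
  rw [e]
  unfold Cm
  rw [transpose_fin_three, map_fin_three]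
  simp only [Matrix.mul_fin_three, map_div₀, map_mul, map_sub, map_neg, map_one, map_zero, hφφ,
    hφl]
  apply m3ext'
  all_goals first | ring1 | (field_simp; ring1)

end Cfsg.Agent.Helper28.SU3
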