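import Cfsg.Agent.Lib.Helper28.SU3G

/-!
# `SU_3`: transfer of a generation statement from the Witt model to `Cfsg.SU 3 F q`
-/

set_option autoImplicit false
set_option linter.unusedSimpArgs false

namespace Cfsg.Agent.Helper28.SU3

open Matrix Cfsg.Agent.Helper11.Herm Cfsg.Agent.Helper12.RegUnip

section ringaux

variable {R : Type*} [Ring R]

theorem ring_aux1 (A B D E G K J : R) (h1 : D * E = -J) (h2 : B * J * G = J) (h3 : A * D = 1)
    (h4 : E * K = 1) : A * B * D * E * G * K = 1 := by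
  have hJ : J = -(D * E) := by rw [h1, neg_neg]
  have e1 : A * B * D * E * G * K = -(A * (B * J * G) * K) := by
    rw [hJ]; noncomm_ring
  have e2 : -(A * J * K) = A * D * (E * K) := by
    rw [hJ]; noncomm_ring
  rw [e1, h2, e2, h3, h4, mul_one]

theorem ring_aux2 (A B D E G K J : R) (h1 : D * J * E = -1) (h2 : B * G = 1) (h3 : A * K = -J) :
    A * B * D * J * E * G * K = J := by
  have e1 : A * B * D * J * E * G * K = A * B * (D * J * E) * G * K := by noncomm_ring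
  have e2 : A * B * (-1) * G * K = -(A * (B * G) * K) := by noncomm_ring
  rw [e1, h1, e2, h2, mul_one, h3, neg_neg]

theorem conj_pow_aux (a a' b : R) (h : a' * a = 1) (h' : a * a' = 1) (n : ℕ) :
    (a * b * a') ^ n = a * b ^ n * a' := by
  induction n with
  | zero => rw [pow_zero, pow_zero, mul_one, h']
  | succ n ih =>
    rw [pow_succ, ih, pow_succ]
    have : a * b ^ n * a' * (a * b * a') = a * b ^ n * (a' * a) * b * a' := by noncomm_ring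
    rw [this, h, mul_one]
    noncomm_ring

end ringaux

variable {F : Type*} [Field F]

theorem coe_mul_inv_eq_one (C : Matrix.SpecialLinearGroup (Fin 3) F) :
    (C : Matrix (Fin 3) (Fin 3) F) * ((C⁻¹ : Matrix.SpecialLinearGroup (Fin 3) F) :
      Matrix (Fin 3) (Fin 3) F) = 1 := by
  rw [← Matrix.SpecialLinearGroup.coe_mul, mul_inv_cancel, Matrix.SpecialLinearGroup.coe_one]

theorem coe_inv_mul_eq_one (C : Matrix.SpecialLinearGroup (Fin 3) F) :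
    ((C⁻¹ : Matrix.SpecialLinearGroup (Fin 3) F) : Matrix (Fin 3) (Fin 3) F) *
      (C : Matrix (Fin 3) (Fin 3) F) = 1 := by
  rw [← Matrix.SpecialLinearGroup.coe_mul, inv_mul_cancel, Matrix.SpecialLinearGroup.coe_one]

/-- the inverse base change carries `J` to `-1` -/
theorem inv_gram (φ : F →+* F) (C : Matrix.SpecialLinearGroup (Fin 3) F)
    (hC : (C : Matrix (Fin 3) (Fin 3) F)ᵀ * (C : Matrix (Fin 3) (Fin 3) F).map φ = -Jm F) :
    ((C⁻¹ : Matrix.SpecialLinearGroup (Fin 3) F) : Matrix (Fin 3) (Fin 3) F)ᵀ * Jm F *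
      ((C⁻¹ : Matrix.SpecialLinearGroup (Fin 3) F) : Matrix (Fin 3) (Fin 3) F).map φ = -1 := by
  set c : Matrix (Fin 3) (Fin 3) F := (C : Matrix (Fin 3) (Fin 3) F) with hc
  set c' : Matrix (Fin 3) (Fin 3) F :=
    ((C⁻¹ : Matrix.SpecialLinearGroup (Fin 3) F) : Matrix (Fin 3) (Fin 3) F) with hc'
  have h1 : c * c' = 1 := coe_mul_inv_eq_one C
  have h2 : c'ᵀ * cᵀ = 1 := by rw [← Matrix.transpose_mul, h1, Matrix.transpose_one]
  have h3 : c.map φ * c'.map φ = 1 := by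
    rw [← Matrix.map_mul, h1, Matrix.map_one _ (map_zero φ) (map_one φ)]
  have hJ : Jm F = -(cᵀ * c.map φ) := by rw [hC, neg_neg]
  have e : c'ᵀ * (-(cᵀ * c.map φ)) * c'.map φ = -((c'ᵀ * cᵀ) * (c.map φ * c'.map φ)) := by
    noncomm_ring
  rw [hJ, e, h2, h3, mul_one]

theorem conj_mem_SU (q : ℕ) (φ : F →+* F) (hφ : ∀ x, φ x = x ^ q)
    (C : Matrix.SpecialLinearGroup (Fin 3) F)
    (hC : (C : Matrix (Fin 3) (Fin 3) F)ᵀ * (C : Matrix (Fin 3) (Fin 3) F).map φ = -Jm F)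
    (M : Matrix.SpecialLinearGroup (Fin 3) F) (hM : IsJ φ (M : Matrix (Fin 3) (Fin 3) F)) :
    C * M * C⁻¹ ∈ Cfsg.SU 3 F q := by
  rw [mem_SU_iff_isU φ hφ]
  unfold IsU
  rw [Matrix.SpecialLinearGroup.coe_mul, Matrix.SpecialLinearGroup.coe_mul]
  set c : Matrix (Fin 3) (Fin 3) F := (C : Matrix (Fin 3) (Fin 3) F) with hc
  set c' : Matrix (Fin 3) (Fin 3) F :=
    ((C⁻¹ : Matrix.SpecialLinearGroup (Fin 3) F) : Matrix (Fin 3) (Fin 3) F) with hc'
  set m : Matrix (Fin 3) (Fin 3) F := (M : Matrix (Fin 3) (Fin 3) F) with hm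
  have h1 : c * c' = 1 := coe_mul_inv_eq_one C
  have h2 : c'ᵀ * cᵀ = 1 := by rw [← Matrix.transpose_mul, h1, Matrix.transpose_one]
  have h3 : c.map φ * c'.map φ = 1 := by
    rw [← Matrix.map_mul, h1, Matrix.map_one _ (map_zero φ) (map_one φ)]
  rw [Matrix.transpose_mul, Matrix.transpose_mul, Matrix.map_mul, Matrix.map_mul]
  have := ring_aux1 (c'ᵀ) (mᵀ) (cᵀ) (c.map φ) (m.map φ) (c'.map φ) (Jm F) hC hM h2 h3
  rw [← this]
  simp only [Matrix.mul_assoc]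

theorem conj_isJ (q : ℕ) (φ : F →+* F) (hφ : ∀ x, φ x = x ^ q)
    (C : Matrix.SpecialLinearGroup (Fin 3) F)
    (hC : (C : Matrix (Fin 3) (Fin 3) F)ᵀ * (C : Matrix (Fin 3) (Fin 3) F).map φ = -Jm F)
    (X : Matrix.SpecialLinearGroup (Fin 3) F) (hX : X ∈ Cfsg.SU 3 F q) :
    IsJ φ ((C⁻¹ * X * C : Matrix.SpecialLinearGroup (Fin 3) F) : Matrix (Fin 3) (Fin 3) F) := by
  rw [mem_SU_iff_isU φ hφ] at hX
  unfold IsU at hX
  unfold IsJ
  rw [Matrix.SpecialLinearGroup.coe_mul, Matrix.SpecialLinearGroup.coe_mul]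
  have hg := inv_gram φ C hC
  set c : Matrix (Fin 3) (Fin 3) F := (C : Matrix (Fin 3) (Fin 3) F) with hc
  set c' : Matrix (Fin 3) (Fin 3) F :=
    ((C⁻¹ : Matrix.SpecialLinearGroup (Fin 3) F) : Matrix (Fin 3) (Fin 3) F) with hc'
  set x : Matrix (Fin 3) (Fin 3) F := (X : Matrix (Fin 3) (Fin 3) F) with hx
  rw [Matrix.transpose_mul, Matrix.transpose_mul, Matrix.map_mul, Matrix.map_mul]
  have := ring_aux2 (cᵀ) (xᵀ) (c'ᵀ) (c'.map φ) (x.map φ) (c.map φ) (Jm F) hg hX hC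
  refine Eq.trans ?_ this
  simp only [Matrix.mul_assoc]

/-- **Transfer.** A generation statement in the Witt model gives the statement for
`Cfsg.SU 3 F q`. -/
theorem transfer (q : ℕ) (φ : F →+* F) (hφ : ∀ x, φ x = x ^ q)
    (C : Matrix.SpecialLinearGroup (Fin 3) F)
    (hC : (C : Matrix (Fin 3) (Fin 3) F)ᵀ * (C : Matrix (Fin 3) (Fin 3) F).map φ = -Jm F)
    (Z G : Matrix.SpecialLinearGroup (Fin 3) F)
    (hZ : IsJ φ (Z : Matrix (Fin 3) (Fin 3) F)) (hG : IsJ φ (G : Matrix (Fin 3) (Fin 3) F))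
    (hnil : ((Z : Matrix (Fin 3) (Fin 3) F) - 1) ^ 3 = 0)
    (hsq : ((Z : Matrix (Fin 3) (Fin 3) F) - 1) ^ 2 ≠ 0)
    (hgen : ∀ H : Subgroup (Matrix.SpecialLinearGroup (Fin 3) F), Z ∈ H → G * Z * G⁻¹ ∈ H →
      ∀ M : Matrix.SpecialLinearGroup (Fin 3) F, IsJ φ (M : Matrix (Fin 3) (Fin 3) F) → M ∈ H) :
    ∃ u g : ↥(Cfsg.SU 3 F q),
      (IsNilpotent (((u : Matrix.SpecialLinearGroup (Fin 3) F) : Matrix (Fin 3) (Fin 3) F) - 1) ∧
        (((u : Matrix.SpecialLinearGroup (Fin 3) F) : Matrix (Fin 3) (Fin 3) F) - 1) ^ (3 - 1)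
          ≠ 0) ∧
      Subgroup.closure ({u, g * u * g⁻¹} : Set ↥(Cfsg.SU 3 F q)) = ⊤ := by
  have h1 : (C : Matrix (Fin 3) (Fin 3) F) * ((C⁻¹ : Matrix.SpecialLinearGroup (Fin 3) F) :
      Matrix (Fin 3) (Fin 3) F) = 1 := coe_mul_inv_eq_one C
  have h2 : ((C⁻¹ : Matrix.SpecialLinearGroup (Fin 3) F) : Matrix (Fin 3) (Fin 3) F) *
      (C : Matrix (Fin 3) (Fin 3) F) = 1 := coe_inv_mul_eq_one C
  refine ⟨⟨C * Z * C⁻¹, conj_mem_SU q φ hφ C hC Z hZ⟩, ⟨C * G * C⁻¹, conj_mem_SU q φ hφ C hC G hG⟩,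
    ⟨?_, ?_⟩, ?_⟩
  · refine ⟨3, ?_⟩
    show ((((C * Z * C⁻¹ : Matrix.SpecialLinearGroup (Fin 3) F)) : Matrix (Fin 3) (Fin 3) F) - 1) ^ 3
      = 0
    rw [Matrix.SpecialLinearGroup.coe_mul, Matrix.SpecialLinearGroup.coe_mul]
    have e : (C : Matrix (Fin 3) (Fin 3) F) * (Z : Matrix (Fin 3) (Fin 3) F) *
        ((C⁻¹ : Matrix.SpecialLinearGroup (Fin 3) F) : Matrix (Fin 3) (Fin 3) F) - 1 =
        (C : Matrix (Fin 3) (Fin 3) F) * ((Z : Matrix (Fin 3) (Fin 3) F) - 1) *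
        ((C⁻¹ : Matrix.SpecialLinearGroup (Fin 3) F) : Matrix (Fin 3) (Fin 3) F) := by
      rw [Matrix.mul_sub, Matrix.sub_mul, Matrix.mul_one, h1]
    rw [e, conj_pow_aux _ _ _ h2 h1, hnil, Matrix.mul_zero, Matrix.zero_mul]
  · show ((((C * Z * C⁻¹ : Matrix.SpecialLinearGroup (Fin 3) F)) : Matrix (Fin 3) (Fin 3) F) - 1) ^ 2
      ≠ 0
    rw [Matrix.SpecialLinearGroup.coe_mul, Matrix.SpecialLinearGroup.coe_mul]
    have e : (C : Matrix (Fin 3) (Fin 3) F) * (Z : Matrix (Fin 3) (Fin 3) F) *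
        ((C⁻¹ : Matrix.SpecialLinearGroup (Fin 3) F) : Matrix (Fin 3) (Fin 3) F) - 1 =
        (C : Matrix (Fin 3) (Fin 3) F) * ((Z : Matrix (Fin 3) (Fin 3) F) - 1) *
        ((C⁻¹ : Matrix.SpecialLinearGroup (Fin 3) F) : Matrix (Fin 3) (Fin 3) F) := by
      rw [Matrix.mul_sub, Matrix.sub_mul, Matrix.mul_one, h1]
    rw [e, conj_pow_aux _ _ _ h2 h1]
    intro h0
    apply hsq
    have e2 : ((Z : Matrix (Fin 3) (Fin 3) F) - 1) ^ 2 =
        ((C⁻¹ : Matrix.SpecialLinearGroup (Fin 3) F) : Matrix (Fin 3) (Fin 3) F) *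
        ((C : Matrix (Fin 3) (Fin 3) F) * ((Z : Matrix (Fin 3) (Fin 3) F) - 1) ^ 2 *
        ((C⁻¹ : Matrix.SpecialLinearGroup (Fin 3) F) : Matrix (Fin 3) (Fin 3) F)) *
        (C : Matrix (Fin 3) (Fin 3) F) := by
      rw [Matrix.mul_assoc, Matrix.mul_assoc, h2, Matrix.mul_one, ← Matrix.mul_assoc, h2,
        Matrix.one_mul]
    rw [e2, h0, Matrix.mul_zero, Matrix.zero_mul]
  · set u : ↥(Cfsg.SU 3 F q) := ⟨C * Z * C⁻¹, conj_mem_SU q φ hφ C hC Z hZ⟩ with hu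
    set g : ↥(Cfsg.SU 3 F q) := ⟨C * G * C⁻¹, conj_mem_SU q φ hφ C hC G hG⟩ with hg
    set K : Subgroup ↥(Cfsg.SU 3 F q) := Subgroup.closure {u, g * u * g⁻¹} with hK
    let H : Subgroup (Matrix.SpecialLinearGroup (Fin 3) F) :=
      (K.map (Cfsg.SU 3 F q).subtype).comap (MulAut.conj C).toMonoidHom
    have hmem : ∀ X : Matrix.SpecialLinearGroup (Fin 3) F,
        X ∈ H ↔ ∃ k ∈ K, (k : Matrix.SpecialLinearGroup (Fin 3) F) = C * X * C⁻¹ := by
      intro X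
      show (MulAut.conj C).toMonoidHom X ∈ K.map (Cfsg.SU 3 F q).subtype ↔ _
      rw [Subgroup.mem_map]
      rfl
    have hZH : Z ∈ H := by
      rw [hmem]
      exact ⟨u, Subgroup.subset_closure (Set.mem_insert _ _), rfl⟩
    have hGH : G * Z * G⁻¹ ∈ H := by
      rw [hmem]
      refine ⟨g * u * g⁻¹,
        Subgroup.subset_closure (Set.mem_insert_of_mem _ (Set.mem_singleton _)), ?_⟩
      show (C * G * C⁻¹) * (C * Z * C⁻¹) * (C * G * C⁻¹)⁻¹ = C * (G * Z * G⁻¹) * C⁻¹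
      group
    rw [Subgroup.eq_top_iff']
    intro y
    have hy := hgen H hZH hGH (C⁻¹ * (y : Matrix.SpecialLinearGroup (Fin 3) F) * C)
      (conj_isJ q φ hφ C hC _ y.2)
    rw [hmem] at hy
    obtain ⟨k, hk, hk'⟩ := hy
    have : k = y := by
      apply Subtype.ext
      rw [hk']
      group
    rw [← this]
    exact hk

end Cfsg.Agent.Helper28.SU3
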