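import Cfsg.Agent.Lib.Helper28.SU3H

/-!
# `SU_3(q)`, `q ∉ {5, 8}`: two conjugate regular unipotent generators
-/

set_option autoImplicit false
set_option linter.unusedSimpArgs false

namespace Cfsg.Agent.Helper28.SU3

open Matrix Cfsg.Agent.Helper11.Herm Cfsg.Agent.Helper12.RegUnip

variable {F : Type*} [Field F]

theorem Um_sub_one (φ : F →+* F) (a b : F) :
    Um φ a b - 1 = !![0, a, b; 0, 0, -φ a; 0, 0, 0] := by
  unfold Um
  ext i j
  fin_cases i <;> fin_cases j <;> simp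

theorem Um_sub_one_sq (φ : F →+* F) (a b : F) :
    (Um φ a b - 1) ^ 2 = !![0, 0, -(a * φ a); 0, 0, 0; 0, 0, 0] := by
  rw [Um_sub_one, pow_two]
  simp only [Matrix.mul_fin_three]
  apply m3ext'
  all_goals ring1

theorem Um_sub_one_cube (φ : F →+* F) (a b : F) : (Um φ a b - 1) ^ 3 = 0 := by
  rw [pow_succ, Um_sub_one_sq, Um_sub_one]
  simp only [Matrix.mul_fin_three]
  ext i j
  fin_cases i <;> fin_cases j <;> simp

theorem Um_sub_one_sq_ne (φ : F →+* F) (a b : F) (ha : a ≠ 0) : (Um φ a b - 1) ^ 2 ≠ 0 := by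
  rw [Um_sub_one_sq]
  intro h
  have h1 := congrFun (congrFun h 0) 2
  simp only [Matrix.of_apply, Matrix.cons_val', Matrix.cons_val_zero, Matrix.cons_val_two,
    Matrix.empty_val', Matrix.cons_val_fin_one, Matrix.head_cons, Matrix.tail_cons,
    Matrix.zero_apply, neg_eq_zero, mul_eq_zero] at h1
  rcases h1 with h1 | h1
  · exact ha h1
  · exact ha ((map_eq_zero φ).1 h1)

variable [Fintype F]

/-- the base change exists -/
theorem exists_baseChange (q : ℕ) (hF : Fintype.card F = q ^ 2) (φ : F →+* F)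
    (hφ : ∀ x, φ x = x ^ q) :
    ∃ C : Matrix.SpecialLinearGroup (Fin 3) F,
      (C : Matrix (Fin 3) (Fin 3) F)ᵀ * (C : Matrix (Fin 3) (Fin 3) F).map φ = -Jm F := by
  have hφφ := frob_frob hF φ hφ
  obtain ⟨x, hx⟩ : ∃ x, φ x ≠ x := by
    by_contra hcon
    push Not at hcon
    exact frob_ne_id hF φ hφ (RingHom.ext hcon)
  obtain ⟨l0, hl0, hl⟩ := frob_norm_surj hF φ hφ (-1) (neg_ne_zero.mpr one_ne_zero)
    (by rw [map_neg, map_one])
  exact ⟨⟨Cm φ x l0, det_Cm φ x l0 hx hl0⟩, Cm_gram φ hφφ x l0 hx hl⟩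

theorem norm_surj' (q : ℕ) (hF : Fintype.card F = q ^ 2) (φ : F →+* F)
    (hφ : ∀ x, φ x = x ^ q) : ∀ c : F, φ c = c → ∃ l : F, l * φ l = c := by
  intro c hc
  by_cases hc0 : c = 0
  · exact ⟨0, by rw [zero_mul, hc0]⟩
  · obtain ⟨l, -, hl⟩ := frob_norm_surj hF φ hφ c hc0 hc
    exact ⟨l, hl⟩

/-- **The general case.** -/
theorem general_case (q : ℕ) (hq : 3 ≤ q) (hq5 : q ≠ 5) (hq8 : q ≠ 8)
    (hF : Fintype.card F = q ^ 2) :
    ∃ u g : ↥(Cfsg.SU 3 F q),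
      (IsNilpotent (((u : Matrix.SpecialLinearGroup (Fin 3) F) : Matrix (Fin 3) (Fin 3) F) - 1) ∧
        (((u : Matrix.SpecialLinearGroup (Fin 3) F) : Matrix (Fin 3) (Fin 3) F) - 1) ^ (3 - 1)
          ≠ 0) ∧
      Subgroup.closure ({u, g * u * g⁻¹} : Set ↥(Cfsg.SU 3 F q)) = ⊤ := by
  obtain ⟨φ, hφ⟩ := exists_frob hF
  have hφφ := frob_frob hF φ hφ
  obtain ⟨C, hC⟩ := exists_baseChange q hF φ hφ
  obtain ⟨t, lam, ht, ht0, ht1, hlam, hK⟩ := exists_params q hq hF φ hφ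
  have h1 : (1 : F) - t ≠ 0 := sub_ne_zero.mpr (Ne.symm ht1)
  have hl : lam ≠ 0 := by
    intro h
    rw [h, zero_mul] at hlam
    exact (neg_ne_zero.mpr one_ne_zero) hlam.symm
  have hdetV : (Nm F * Hm φ t * zGen φ t lam).det = 1 := by
    rw [Matrix.det_mul, Matrix.det_mul, det_Nm, det_Hm φ hφφ t ht0, det_zGen]
    ring
  let Zs : Matrix.SpecialLinearGroup (Fin 3) F := ⟨zGen φ t lam, det_zGen φ t lam⟩
  let Gs : Matrix.SpecialLinearGroup (Fin 3) F := ⟨gGen φ t lam, det_gGen φ hφφ t lam ht ht0 ht1⟩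
  let Vs : Matrix.SpecialLinearGroup (Fin 3) F := ⟨Nm F * Hm φ t * zGen φ t lam, hdetV⟩
  have e : Gs * Zs = Vs * Gs := by
    apply Subtype.ext
    exact gGen_conj φ hφφ t lam ht ht0 ht1 hlam
  refine transfer q φ hφ C hC Zs Gs
    (isJ_zGen φ hφφ t lam ht ht0 ht1 hlam) (isJ_gGen φ hφφ t lam ht ht0 ht1 hlam)
    (Um_sub_one_cube φ _ _) (Um_sub_one_sq_ne φ _ _ (div_ne_zero hl (mul_ne_zero ht0 h1))) ?_
  intro H hZ hGZ M hM
  have hz : zGen φ t lam ∈ Mset H := ⟨_, hZ, rfl⟩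
  have hv : Nm F * Hm φ t * zGen φ t lam ∈ Mset H := by
    refine ⟨_, hGZ, ?_⟩
    rw [e, mul_inv_cancel_right]
  obtain ⟨g, hg, hgM⟩ := family_generates φ hφφ t lam ht ht0 ht1 hlam (norm_surj' q hF φ hφ)
    (hK hq5 hq8) hz hv (M : Matrix (Fin 3) (Fin 3) F) hM M.2
  have : g = M := Subtype.ext hgM
  rw [← this]
  exact hg

end Cfsg.Agent.Helper28.SU3
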