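import Cfsg.Agent.Lib.Helper28.SU3I

/-!
# `SU_3(q)`: a general criterion used for the exceptional values `q = 5, 8`
-/

set_option autoImplicit false
set_option linter.unusedSimpArgs false

namespace Cfsg.Agent.Helper28.SU3

open Matrix Cfsg.Agent.Helper11.Herm Cfsg.Agent.Helper12.RegUnip

variable {F : Type*} [Field F]

theorem Um_mulVec (φ : F →+* F) (a b p q r : F) :
    Um φ a b *ᵥ ![p, q, r] = ![p + a * q + b * r, q + -φ a * r, r] := by
  unfold Um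
  ext i
  fin_cases i <;> simp [Matrix.mulVec, dotProduct, Fin.sum_univ_three] <;> ring

theorem Lm_mulVec (φ : F →+* F) (c d p q r : F) :
    Lm φ c d *ᵥ ![p, q, r] = ![p, φ c * p + q, d * p + -c * q + r] := by
  unfold Lm
  ext i
  fin_cases i <;> simp [Matrix.mulVec, dotProduct, Fin.sum_univ_three] <;> ring

theorem col_of_mulVec (w : Matrix (Fin 3) (Fin 3) F) (s0 : F)
    (h : w *ᵥ ![1, 0, 0] = ![s0, 0, 0]) : w 0 0 = s0 ∧ w 1 0 = 0 ∧ w 2 0 = 0 := by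
  have h0 := congrFun h 0
  have h1 := congrFun h 1
  have h2 := congrFun h 2
  simp [Matrix.mulVec, dotProduct, Fin.sum_univ_three] at h0 h1 h2
  exact ⟨h0, h1, h2⟩

theorem vec3_congr {p q r p' q' r' : F} (h1 : p = p') (h2 : q = q') (h3 : r = r') :
    ![p, q, r] = ![p', q', r'] := by
  rw [h1, h2, h3]

variable [Fintype F]

/-- **The criterion.** -/
theorem exceptional_case (q : ℕ) (hF : Fintype.card F = q ^ 2) (φ : F →+* F)
    (hφ : ∀ x, φ x = x ^ q) (a b s x y c d s0 e0 : F) (ha : a ≠ 0) (hs : s ≠ 0)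
    (hab : b + φ b + a * φ a = 0) (hxy : y + φ y + x * φ x = 0)
    (hc : c * φ s = s ^ 2 * a) (hd : d = s * φ s * (b - x * φ a + a * φ x))
    (hd0 : d ≠ 0) (hcd : d + φ d + c * φ c = 0)
    (w : Matrix (Fin 3) (Fin 3) F)
    (hw : ∀ S : Set (Matrix (Fin 3) (Fin 3) F), Um φ a b ∈ S → Lm φ c d ∈ S →
      (∀ A B, A ∈ S → B ∈ S → A * B ∈ S) → w ∈ S)
    (hcol : w *ᵥ ![1, 0, 0] = ![s0, 0, 0])
    (hgen : ∀ K : Subfield F, s0 ^ 2 / φ s0 ∈ K → K = ⊤)
    (he0 : e0 + φ e0 = 1) :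
    ∃ u g : ↥(Cfsg.SU 3 F q),
      (IsNilpotent (((u : Matrix.SpecialLinearGroup (Fin 3) F) : Matrix (Fin 3) (Fin 3) F) - 1) ∧
        (((u : Matrix.SpecialLinearGroup (Fin 3) F) : Matrix (Fin 3) (Fin 3) F) - 1) ^ (3 - 1)
          ≠ 0) ∧
      Subgroup.closure ({u, g * u * g⁻¹} : Set ↥(Cfsg.SU 3 F q)) = ⊤ := by
  have hφφ := frob_frob hF φ hφ
  obtain ⟨C, hC⟩ := exists_baseChange q hF φ hφ
  have hφs : φ s ≠ 0 := fun h => hs (by rw [← hφφ s, h, map_zero])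
  have hφd : φ d ≠ 0 := fun h => hd0 (by rw [← hφφ d, h, map_zero])
  have hc' : s ^ 2 / φ s * a = c := by
    rw [div_mul_eq_mul_div, div_eq_iff hφs, hc]
  have hdetG : (Nm F * Hm φ s * Um φ x y).det = 1 := by
    rw [Matrix.det_mul, Matrix.det_mul, det_Nm, det_Hm φ hφφ s hs, det_Um]
    ring
  let Zs : Matrix.SpecialLinearGroup (Fin 3) F := ⟨Um φ a b, det_Um φ a b⟩
  let Gs : Matrix.SpecialLinearGroup (Fin 3) F := ⟨Nm F * Hm φ s * Um φ x y, hdetG⟩
  let Vs : Matrix.SpecialLinearGroup (Fin 3) F := ⟨Lm φ c d, det_Lm φ c d⟩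
  have e : Gs * Zs = Vs * Gs := by
    apply Subtype.ext
    show Nm F * Hm φ s * Um φ x y * Um φ a b = Lm φ c d * (Nm F * Hm φ s * Um φ x y)
    have h1 := borel_conj φ hφφ s x y a b hs
    rw [hc', ← hd] at h1
    have h2 : Nm F * Um φ c d = Lm φ c d * Nm F := by
      rw [← Nm_Um_Nm, Matrix.mul_assoc, Nm_mul_Nm, Matrix.mul_one]
    calc Nm F * Hm φ s * Um φ x y * Um φ a b = Nm F * ((Hm φ s * Um φ x y) * Um φ a b) := by
          simp only [Matrix.mul_assoc]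
      _ = Nm F * (Um φ c d * (Hm φ s * Um φ x y)) := by rw [h1]
      _ = (Nm F * Um φ c d) * (Hm φ s * Um φ x y) := by simp only [Matrix.mul_assoc]
      _ = Lm φ c d * (Nm F * Hm φ s * Um φ x y) := by rw [h2]; simp only [Matrix.mul_assoc]
  have hJG : IsJ φ (Nm F * Hm φ s * Um φ x y) :=
    ((isJ_Nm φ).mul (isJ_Hm φ hφφ s hs)).mul (isJ_Um φ hφφ x y hxy)
  refine transfer q φ hφ C hC Zs Gs (isJ_Um φ hφφ a b hab) hJG
    (Um_sub_one_cube φ _ _) (Um_sub_one_sq_ne φ _ _ ha) ?_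
  intro H hZ hGZ M hM
  have hz : Um φ a b ∈ Mset H := ⟨_, hZ, rfl⟩
  have hv : Lm φ c d ∈ Mset H := by
    refine ⟨_, hGZ, ?_⟩
    rw [e, mul_inv_cancel_right]
  have hwH : w ∈ Mset H := hw (Mset H) hz hv (fun A B hA hB => mset_mul hA hB)
  have hwJ : IsJ φ w := hw {M | IsJ φ M} (isJ_Um φ hφφ a b hab) (isJ_Lm φ hφφ c d hcd)
    (fun A B hA hB => IsJ.mul hA hB)
  obtain ⟨h00, h10, h20⟩ := col_of_mulVec w s0 hcol
  have hU : ∀ x' y' : F, y' + φ y' + x' * φ x' = 0 → Um φ x' y' ∈ Mset H := fun x' y' hxy' =>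
    Um_mem_of_torus φ hφφ a b ha hab hz w hwH hwJ h10 h20 (by rw [h00]; exact hgen) e0 he0 x' y'
      hxy'
  have hn : Nm F * Hm φ d ∈ Mset H := by
    have hb := Lm_bruhat φ hφφ c d hd0 hcd
    have hU1 : Um φ (-c / φ d) (1 / d) ∈ Mset H := by
      apply hU
      simp only [map_div₀, map_neg, map_one, hφφ]
      field_simp
      linear_combination hcd
    have hU2 : Um φ (-c / d) (1 / d) ∈ Mset H := by
      apply hU
      simp only [map_div₀, map_neg, map_one, hφφ]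
      field_simp
      linear_combination hcd
    have h3 : Um φ (-c / φ d) (1 / d) * Nm F * Hm φ d ∈ Mset H := by
      apply mset_cancel_right hU2
      rw [← hb]
      exact hv
    rw [Matrix.mul_assoc] at h3
    exact mset_cancel_left hU1 h3
  obtain ⟨g, hg, hgM⟩ := mem_of_isJ φ hφφ hU d hd0 hn (norm_surj' q hF φ hφ)
    (M : Matrix (Fin 3) (Fin 3) F) hM M.2
  have : g = M := Subtype.ext hgM
  rw [← this]
  exact hg

end Cfsg.Agent.Helper28.SU3
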