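import Cfsg.Agent.Lib.Helper28.SU3J

/-!
# Fields with `25` and `64` elements: generators and subfields
-/

set_option autoImplicit false
set_option linter.unusedSimpArgs false

namespace Cfsg.Agent.Helper28.SU3

open Cfsg.Agent.Helper28.RU

variable {F : Type*} [Field F] [Fintype F]

theorem ne_zero_of_mul_eq_one' {x y : F} (h : x * y = 1) : x ≠ 0 := by
  intro h0
  rw [h0, zero_mul] at h
  exact zero_ne_one h

theorem ne_of_sub_mul_eq_one {x y r : F} (h : (x - y) * r = 1) : x ≠ y := by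
  intro h0
  rw [h0, sub_self, zero_mul] at h
  exact zero_ne_one h

theorem subfield_top_25 (hF : Fintype.card F = 5 ^ 2) (μ : F) (h5 : μ ^ 5 ≠ μ) (K : Subfield F)
    (hK : μ ∈ K) : K = ⊤ := by
  obtain ⟨m, hm⟩ := subfield_card K
  have hQ2 := subfield_two_le_card K
  have hfix := subfield_pow_card K hK
  rw [Nat.card_eq_fintype_card, hF] at hm
  set Q := Nat.card K with hQ
  have hm0 : m ≠ 0 := by
    rintro rfl
    simp at hm
  have hdvd : Q ∣ 5 ^ 2 := by
    rw [hm]
    exact dvd_pow_self Q hm0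
  obtain ⟨j, hj, hQj⟩ := (Nat.dvd_prime_pow Nat.prime_five).1 hdvd
  interval_cases j
  · omega
  · rw [hQj, pow_one] at hfix
    exact absurd hfix h5
  · apply subfield_eq_top_of_card
    rw [Nat.card_eq_fintype_card (α := F), hF]
    exact hQj

theorem subfield_top_64 (hF : Fintype.card F = 8 ^ 2) (μ : F) (h4 : μ ^ 4 ≠ μ) (h8 : μ ^ 8 ≠ μ)
    (K : Subfield F) (hK : μ ∈ K) : K = ⊤ := by
  obtain ⟨m, hm⟩ := subfield_card K
  have hQ2 := subfield_two_le_card K
  have hfix := subfield_pow_card K hK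
  rw [Nat.card_eq_fintype_card, hF] at hm
  set Q := Nat.card K with hQ
  have hm0 : m ≠ 0 := by
    rintro rfl
    simp at hm
  have hdvd : Q ∣ 2 ^ 6 := by
    have : (8 : ℕ) ^ 2 = 2 ^ 6 := by norm_num
    rw [← this, hm]
    exact dvd_pow_self Q hm0
  obtain ⟨j, hj, hQj⟩ := (Nat.dvd_prime_pow Nat.prime_two).1 hdvd
  interval_cases j
  · omega
  · exfalso
    apply h4
    rw [hQj, pow_one] at hfix
    have : μ ^ 4 = (μ ^ 2) ^ 2 := by ring
    rw [this, hfix, hfix]
  · exfalso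
    rw [hQj] at hfix
    exact h4 hfix
  · exfalso
    rw [hQj] at hfix
    exact h8 hfix
  · exfalso
    rw [hQj] at hm
    rcases Nat.lt_or_ge m 2 with h | h
    · interval_cases m <;> omega
    · have := Nat.pow_le_pow_right (n := 2 ^ 4) (by norm_num) h
      omega
  · exfalso
    rw [hQj] at hm
    rcases Nat.lt_or_ge m 2 with h | h
    · interval_cases m <;> omega
    · have := Nat.pow_le_pow_right (n := 2 ^ 5) (by norm_num) h
      omega
  · apply subfield_eq_top_of_card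
    rw [Nat.card_eq_fintype_card (α := F), hF]
    rw [← hQ, hQj]
    norm_num

/-- a field with `25` elements -/
theorem field25 (hF : Fintype.card F = 5 ^ 2) (φ : F →+* F) (hφ : ∀ x, φ x = x ^ 5) :
    ∃ τ : F, τ ^ 2 - τ + 1 = 0 ∧ φ τ = 1 - τ ∧ (5 : F) = 0 := by
  obtain ⟨τ, hτo⟩ := exists_orderOf_eq 5 (by norm_num) hF
  have h5 : (5 : F) = 0 := by
    have h := Nat.cast_card_eq_zero F
    rw [hF] at h
    have e : ((5 ^ 2 : ℕ) : F) = (5 : F) ^ 2 := by norm_num
    rw [e] at h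
    exact pow_eq_zero_iff (two_ne_zero) |>.1 h
  have h6 : τ ^ 6 = 1 := by
    have := pow_orderOf_eq_one τ
    rwa [hτo] at this
  have h3 : τ ^ 3 ≠ 1 := by
    intro h
    have := orderOf_dvd_of_pow_eq_one h
    rw [hτo] at this
    omega
  have h2 : τ ^ 2 ≠ 1 := by
    intro h
    have := orderOf_dvd_of_pow_eq_one h
    rw [hτo] at this
    omega
  have h3' : τ ^ 3 + 1 = 0 := by
    have : (τ ^ 3 - 1) * (τ ^ 3 + 1) = 0 := by linear_combination h6
    rcases mul_eq_zero.1 this with h | h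
    · exact absurd (sub_eq_zero.1 h) h3
    · exact h
  have hτ : τ ^ 2 - τ + 1 = 0 := by
    have : (τ + 1) * (τ ^ 2 - τ + 1) = 0 := by linear_combination h3'
    rcases mul_eq_zero.1 this with h | h
    · exfalso
      apply h2
      have : τ = -1 := by linear_combination h
      rw [this]
      ring
    · exact h
  refine ⟨τ, hτ, ?_, h5⟩
  rw [hφ]
  linear_combination (τ ^ 3 + τ ^ 2 - 1) * hτ

/-- a field with `64` elements -/
theorem field64 (hF : Fintype.card F = 8 ^ 2) (φ : F →+* F) (hφ : ∀ x, φ x = x ^ 8) :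
    ∃ τ : F, τ ^ 6 + τ ^ 3 + 1 = 0 ∧ φ τ = τ ^ 5 + τ ^ 2 ∧ (2 : F) = 0 := by
  obtain ⟨τ, hτo⟩ := exists_orderOf_eq 8 (by norm_num) hF
  have h2 : (2 : F) = 0 := by
    have h := Nat.cast_card_eq_zero F
    rw [hF] at h
    have e : ((8 ^ 2 : ℕ) : F) = (2 : F) ^ 6 := by norm_num
    rw [e] at h
    exact pow_eq_zero_iff (by norm_num) |>.1 h
  have h9 : τ ^ 9 = 1 := by
    have := pow_orderOf_eq_one τ
    rwa [hτo] at this
  have h3 : τ ^ 3 ≠ 1 := by
    intro h
    have := orderOf_dvd_of_pow_eq_one h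
    rw [hτo] at this
    omega
  have hτ : τ ^ 6 + τ ^ 3 + 1 = 0 := by
    have : (τ ^ 3 - 1) * (τ ^ 6 + τ ^ 3 + 1) = 0 := by linear_combination h9
    rcases mul_eq_zero.1 this with h | h
    · exact absurd (sub_eq_zero.1 h) h3
    · exact h
  refine ⟨τ, hτ, ?_, h2⟩
  rw [hφ]
  linear_combination τ ^ 2 * hτ - (τ ^ 5 + τ ^ 2) * h2

end Cfsg.Agent.Helper28.SU3
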