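import Cfsg.Agent.Lib.Helper28.SU3K

/-!
# `SU_3(5)`: two conjugate regular unipotent generators (machine generated certificate)
-/

set_option autoImplicit false
set_option linter.unusedSimpArgs false
set_option linter.unusedTactic false
set_option linter.unreachableTactic false
set_option maxHeartbeats 1000000

namespace Cfsg.Agent.Helper28.SU3

open Matrix Cfsg.Agent.Helper11.Herm

variable {F : Type*} [Field F] [Fintype F]

theorem case5 (hF : Fintype.card F = 5 ^ 2) :
    ∃ u g : ↥(Cfsg.SU 3 F 5),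
      (IsNilpotent (((u : Matrix.SpecialLinearGroup (Fin 3) F) : Matrix (Fin 3) (Fin 3) F) - 1) ∧
        (((u : Matrix.SpecialLinearGroup (Fin 3) F) : Matrix (Fin 3) (Fin 3) F) - 1) ^ (3 - 1)
          ≠ 0) ∧
      Subgroup.closure ({u, g * u * g⁻¹} : Set ↥(Cfsg.SU 3 F 5)) = ⊤ := by
  obtain ⟨φ, hφ⟩ := exists_frob hF
  obtain ⟨τ, hτ, hφτ, h5⟩ := field25 hF φ hφ
  have hs : (1 + τ) * (4 + 3 * τ) = (1 : F) := by
    linear_combination (3) * hτ + (2 * τ) * h5
  have hd0 : (2 * τ) * (3 + 2 * τ) = (1 : F) := by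
    linear_combination (4) * hτ + (-1 + 2 * τ) * h5
  have ha : (1) ≠ (0 : F) := one_ne_zero
  have hab : (4 * τ) + φ (4 * τ) + (1) * φ (1) = 0 := by
    simp only [map_add, map_sub, map_mul, map_pow, map_neg, map_one, map_zero, map_ofNat, hφτ]
    linear_combination (1) * h5
  have hxy : 0 + φ 0 + 0 * φ 0 = 0 := by
    simp only [map_add, map_sub, map_mul, map_pow, map_neg, map_one, map_zero, map_ofNat, hφτ]
    ring
  have hc : (4 + 2 * τ) * φ (1 + τ) = (1 + τ) ^ 2 * (1) := by
    simp only [map_add, map_sub, map_mul, map_pow, map_neg, map_one, map_zero, map_ofNat, hφτ]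
    linear_combination (-3) * hτ + (2 - τ) * h5
  have hd : (2 * τ) = (1 + τ) * φ (1 + τ) * ((4 * τ) - 0 * φ (1) + (1) * φ 0) := by
    simp only [map_add, map_sub, map_mul, map_pow, map_neg, map_one, map_zero, map_ofNat, hφτ]
    linear_combination (4 * τ) * hτ + (-2 * τ) * h5
  have hcd : (2 * τ) + φ (2 * τ) + (4 + 2 * τ) * φ (4 + 2 * τ) = 0 := by
    simp only [map_add, map_sub, map_mul, map_pow, map_neg, map_one, map_zero, map_ofNat, hφτ]
    linear_combination (-4) * hτ + (6) * h5
  have he0 : (τ) + φ (τ) = 1 := by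
    simp only [map_add, map_sub, map_mul, map_pow, map_neg, map_one, map_zero, map_ofNat, hφτ]
    ring
  have e0 : Lm φ (4 + 2 * τ) (2 * τ) *ᵥ ![1, 0, 0] = ![(1), (1 + 3 * τ), (2 * τ)] := by
    rw [Lm_mulVec]
    refine vec3_congr ?_ ?_ ?_
    · try simp only [map_add, map_sub, map_mul, map_pow, map_neg, map_one, map_zero, map_ofNat, hφτ]
      try ring
    · try simp only [map_add, map_sub, map_mul, map_pow, map_neg, map_one, map_zero, map_ofNat, hφτ]
      try linear_combination (1 - τ) * h5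
    · try simp only [map_add, map_sub, map_mul, map_pow, map_neg, map_one, map_zero, map_ofNat, hφτ]
      try ring
  have e1 : Lm φ (4 + 2 * τ) (2 * τ) *ᵥ ![(1), (1 + 3 * τ), (2 * τ)] = ![(1), (2 + τ), (2 + 4 * τ)] := by
    rw [Lm_mulVec]
    refine vec3_congr ?_ ?_ ?_
    · try simp only [map_add, map_sub, map_mul, map_pow, map_neg, map_one, map_zero, map_ofNat, hφτ]
      try ring
    · try simp only [map_add, map_sub, map_mul, map_pow, map_neg, map_one, map_zero, map_ofNat, hφτ]
      try linear_combination (1) * h5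
    · try simp only [map_add, map_sub, map_mul, map_pow, map_neg, map_one, map_zero, map_ofNat, hφτ]
      try linear_combination (-6) * hτ + (-4 * τ) * h5
  have e2 : Um φ (1) (4 * τ) *ᵥ ![(1), (2 + τ), (2 + 4 * τ)] = ![(2), (2 * τ), (2 + 4 * τ)] := by
    rw [Um_mulVec]
    refine vec3_congr ?_ ?_ ?_
    · try simp only [map_add, map_sub, map_mul, map_pow, map_neg, map_one, map_zero, map_ofNat, hφτ]
      try linear_combination (16) * hτ + (-3 + 5 * τ) * h5
    · try simp only [map_add, map_sub, map_mul, map_pow, map_neg, map_one, map_zero, map_ofNat, hφτ]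
      try linear_combination (-τ) * h5
    · try simp only [map_add, map_sub, map_mul, map_pow, map_neg, map_one, map_zero, map_ofNat, hφτ]
      try ring
  have e3 : Um φ (1) (4 * τ) *ᵥ ![(2), (2 * τ), (2 + 4 * τ)] = ![(1 + τ), (3 + 3 * τ), (2 + 4 * τ)] := by
    rw [Um_mulVec]
    refine vec3_congr ?_ ?_ ?_
    · try simp only [map_add, map_sub, map_mul, map_pow, map_neg, map_one, map_zero, map_ofNat, hφτ]
      try linear_combination (16) * hτ + (-3 + 5 * τ) * h5
    · try simp only [map_add, map_sub, map_mul, map_pow, map_neg, map_one, map_zero, map_ofNat, hφτ]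
      try linear_combination (-1 - τ) * h5
    · try simp only [map_add, map_sub, map_mul, map_pow, map_neg, map_one, map_zero, map_ofNat, hφτ]
      try ring
  have e4 : Um φ (1) (4 * τ) *ᵥ ![(1 + τ), (3 + 3 * τ), (2 + 4 * τ)] = ![(3 + 3 * τ), (1 + 4 * τ), (2 + 4 * τ)] := by
    rw [Um_mulVec]
    refine vec3_congr ?_ ?_ ?_
    · try simp only [map_add, map_sub, map_mul, map_pow, map_neg, map_one, map_zero, map_ofNat, hφτ]
      try linear_combination (16) * hτ + (-3 + 5 * τ) * h5
    · try simp only [map_add, map_sub, map_mul, map_pow, map_neg, map_one, map_zero, map_ofNat, hφτ]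
      try linear_combination (-τ) * h5
    · try simp only [map_add, map_sub, map_mul, map_pow, map_neg, map_one, map_zero, map_ofNat, hφτ]
      try ring
  have e5 : Lm φ (4 + 2 * τ) (2 * τ) *ᵥ ![(3 + 3 * τ), (1 + 4 * τ), (2 + 4 * τ)] = ![(3 + 3 * τ), 0, 0] := by
    rw [Lm_mulVec]
    refine vec3_congr ?_ ?_ ?_
    · try simp only [map_add, map_sub, map_mul, map_pow, map_neg, map_one, map_zero, map_ofNat, hφτ]
      try ring
    · try simp only [map_add, map_sub, map_mul, map_pow, map_neg, map_one, map_zero, map_ofNat, hφτ]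
      try linear_combination (-6) * hτ + (5 + 2 * τ) * h5
    · try simp only [map_add, map_sub, map_mul, map_pow, map_neg, map_one, map_zero, map_ofNat, hφτ]
      try linear_combination (-2) * hτ + (-2 * τ) * h5
  have hφs0 : φ (3 + 3 * τ) * (4 + 4 * τ) = 1 := by
    simp only [map_add, map_sub, map_mul, map_pow, map_neg, map_one, map_zero, map_ofNat, hφτ]
    linear_combination (-12) * hτ + (7) * h5
  have hμ : (3 + 3 * τ) ^ 2 / φ (3 + 3 * τ) = (2 + τ) := by
    rw [div_eq_iff (ne_zero_of_mul_eq_one' hφs0)]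
    simp only [map_add, map_sub, map_mul, map_pow, map_neg, map_one, map_zero, map_ofNat, hφτ]
    linear_combination (12) * hτ + (-3 + 6 * τ) * h5
  have hne : (2 + τ) ^ 5 ≠ (2 + τ) := by
    apply ne_of_sub_mul_eq_one (r := (3 + 4 * τ))
    linear_combination (949 + 626 * τ + 233 * τ ^ 2 + 47 * τ ^ 3 + 4 * τ ^ 4) * hτ + (-172 + 136 * τ) * h5
  have hgen : ∀ K : Subfield F, (3 + 3 * τ) ^ 2 / φ (3 + 3 * τ) ∈ K → K = ⊤ := by
    rw [hμ]
    exact subfield_top_25 hF _ hne
  refine exceptional_case 5 hF φ hφ (1) (4 * τ) (1 + τ) 0 0 (4 + 2 * τ) (2 * τ) (3 + 3 * τ) (τ)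
    ha (ne_zero_of_mul_eq_one' hs) hab hxy hc hd (ne_zero_of_mul_eq_one' hd0) hcd
    (Lm φ (4 + 2 * τ) (2 * τ) * Um φ (1) (4 * τ) * Um φ (1) (4 * τ) * Um φ (1) (4 * τ) * Lm φ (4 + 2 * τ) (2 * τ) * Lm φ (4 + 2 * τ) (2 * τ))
    (fun S hz hv hmul => ?_) ?_ hgen he0
  · exact hmul _ _ (hmul _ _ (hmul _ _ (hmul _ _ (hmul _ _ hv hz) hz) hz) hv) hv
  · simp only [← Matrix.mulVec_mulVec]
    rw [e0, e1, e2, e3, e4, e5]

end Cfsg.Agent.Helper28.SU3
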