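import Cfsg.Agent.Lib.Helper28.SU3K

/-!
# `SU_3(8)`: two conjugate regular unipotent generators (machine generated certificate)
-/

set_option autoImplicit false
set_option linter.unusedSimpArgs false
set_option linter.unusedTactic false
set_option linter.unreachableTactic false
set_option maxHeartbeats 1000000

namespace Cfsg.Agent.Helper28.SU3

open Matrix Cfsg.Agent.Helper11.Herm

variable {F : Type*} [Field F] [Fintype F]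

theorem case8 (hF : Fintype.card F = 8 ^ 2) :
    ∃ u g : ↥(Cfsg.SU 3 F 8),
      (IsNilpotent (((u : Matrix.SpecialLinearGroup (Fin 3) F) : Matrix (Fin 3) (Fin 3) F) - 1) ∧
        (((u : Matrix.SpecialLinearGroup (Fin 3) F) : Matrix (Fin 3) (Fin 3) F) - 1) ^ (3 - 1)
          ≠ 0) ∧
      Subgroup.closure ({u, g * u * g⁻¹} : Set ↥(Cfsg.SU 3 F 8)) = ⊤ := by
  obtain ⟨φ, hφ⟩ := exists_frob hF
  obtain ⟨τ, hτ, hφτ, h2⟩ := field64 hF φ hφ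
  have hs : (1 + τ) * (τ ^ 3 + τ ^ 4 + τ ^ 5) = (1 : F) := by
    linear_combination (1) * hτ + (-1 + τ ^ 4 + τ ^ 5) * h2
  have hd0 : (τ) * (τ ^ 2 + τ ^ 5) = (1 : F) := by
    linear_combination (1) * hτ + (-1) * h2
  have ha : (1) ≠ (0 : F) := one_ne_zero
  have hab : (τ + τ ^ 2 + τ ^ 3 + τ ^ 4) + φ (τ + τ ^ 2 + τ ^ 3 + τ ^ 4) + (1) * φ (1) = 0 := by
    simp only [map_add, map_sub, map_mul, map_pow, map_neg, map_one, map_zero, map_ofNat, hφτ]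
    linear_combination (-1 + τ + τ ^ 4 - τ ^ 5 + 2 * τ ^ 6 + 2 * τ ^ 8 + τ ^ 9 + 3 * τ ^ 11 + τ ^ 14) * hτ + (1 + τ ^ 2 + τ ^ 3 + τ ^ 5) * h2
  have hxy : (τ ^ 3) + φ (τ ^ 3) + (τ ^ 4) * φ (τ ^ 4) = 0 := by
    simp only [map_add, map_sub, map_mul, map_pow, map_neg, map_one, map_zero, map_ofNat, hφτ]
    linear_combination (-2 + τ ^ 3 + 2 * τ ^ 6 + 2 * τ ^ 12 + 3 * τ ^ 15 + τ ^ 18) * hτ + (1 + τ ^ 3) * h2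
  have hc : (τ + τ ^ 2) * φ (1 + τ) = (1 + τ) ^ 2 * (1) := by
    simp only [map_add, map_sub, map_mul, map_pow, map_neg, map_one, map_zero, map_ofNat, hφτ]
    linear_combination (1 + τ) * hτ + (-1 - τ) * h2
  have hd : (τ) = (1 + τ) * φ (1 + τ) * ((τ + τ ^ 2 + τ ^ 3 + τ ^ 4) - (τ ^ 4) * φ (1) + (1) * φ (τ ^ 4)) := by
    simp only [map_add, map_sub, map_mul, map_pow, map_neg, map_one, map_zero, map_ofNat, hφτ]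
    linear_combination (-2 - 2 * τ - 2 * τ ^ 2 - τ ^ 3 - τ ^ 4 + τ ^ 6 + τ ^ 7 - τ ^ 8 - 2 * τ ^ 9 - τ ^ 10 - 4 * τ ^ 11 - 3 * τ ^ 12 - 5 * τ ^ 13 - 6 * τ ^ 14 - τ ^ 15 - 4 * τ ^ 16 - 4 * τ ^ 17 - τ ^ 19 - τ ^ 20) * hτ + (1 + τ) * h2
  have hcd : (τ) + φ (τ) + (τ + τ ^ 2) * φ (τ + τ ^ 2) = 0 := by
    simp only [map_add, map_sub, map_mul, map_pow, map_neg, map_one, map_zero, map_ofNat, hφτ]
    linear_combination (τ + τ ^ 2 + τ ^ 3 + τ ^ 5 + τ ^ 6) * hτ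
  have he0 : (τ ^ 3) + φ (τ ^ 3) = 1 := by
    simp only [map_add, map_sub, map_mul, map_pow, map_neg, map_one, map_zero, map_ofNat, hφτ]
    linear_combination (-1 + 2 * τ ^ 6 + τ ^ 9) * hτ + (τ ^ 3) * h2
  have e0 : Lm φ (τ + τ ^ 2) (τ) *ᵥ ![1, 0, 0] = ![(1), (τ + τ ^ 2 + τ ^ 4 + τ ^ 5), (τ)] := by
    rw [Lm_mulVec]
    refine vec3_congr ?_ ?_ ?_
    · try simp only [map_add, map_sub, map_mul, map_pow, map_neg, map_one, map_zero, map_ofNat, hφτ]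
      try ring
    · try simp only [map_add, map_sub, map_mul, map_pow, map_neg, map_one, map_zero, map_ofNat, hφτ]
      try linear_combination (τ + τ ^ 4) * hτ + (-τ - τ ^ 4) * h2
    · try simp only [map_add, map_sub, map_mul, map_pow, map_neg, map_one, map_zero, map_ofNat, hφτ]
      try ring
  have e1 : Um φ (1) (τ + τ ^ 2 + τ ^ 3 + τ ^ 4) *ᵥ ![(1), (τ + τ ^ 2 + τ ^ 4 + τ ^ 5), (τ)] = ![(1 + τ + τ ^ 3), (τ ^ 2 + τ ^ 4 + τ ^ 5), (τ)] := by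
    rw [Um_mulVec]
    refine vec3_congr ?_ ?_ ?_
    · try simp only [map_add, map_sub, map_mul, map_pow, map_neg, map_one, map_zero, map_ofNat, hφτ]
      try linear_combination (τ ^ 2 + τ ^ 4 + τ ^ 5) * h2
    · try simp only [map_add, map_sub, map_mul, map_pow, map_neg, map_one, map_zero, map_ofNat, hφτ]
      try ring
    · try simp only [map_add, map_sub, map_mul, map_pow, map_neg, map_one, map_zero, map_ofNat, hφτ]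
      try ring
  have e2 : Lm φ (τ + τ ^ 2) (τ) *ᵥ ![(1 + τ + τ ^ 3), (τ ^ 2 + τ ^ 4 + τ ^ 5), (τ)] = ![(1 + τ + τ ^ 3), (1 + τ ^ 5), (τ + τ ^ 2 + τ ^ 3 + τ ^ 4 + τ ^ 5)] := by
    rw [Lm_mulVec]
    refine vec3_congr ?_ ?_ ?_
    · try simp only [map_add, map_sub, map_mul, map_pow, map_neg, map_one, map_zero, map_ofNat, hφτ]
      try ring
    · try simp only [map_add, map_sub, map_mul, map_pow, map_neg, map_one, map_zero, map_ofNat, hφτ]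
      try linear_combination (1 + 2 * τ ^ 2 + 2 * τ ^ 4 + τ ^ 5 + τ ^ 7) * hτ + (-1) * h2
    · try simp only [map_add, map_sub, map_mul, map_pow, map_neg, map_one, map_zero, map_ofNat, hφτ]
      try linear_combination (-2 - τ) * hτ + (1 + τ - τ ^ 5) * h2
  have e3 : Um φ (1) (τ + τ ^ 2 + τ ^ 3 + τ ^ 4) *ᵥ ![(1 + τ + τ ^ 3), (1 + τ ^ 5), (τ + τ ^ 2 + τ ^ 3 + τ ^ 4 + τ ^ 5)] = ![(1 + τ ^ 2 + τ ^ 3 + τ ^ 5), (1 + τ + τ ^ 2 + τ ^ 3 + τ ^ 4), (τ + τ ^ 2 + τ ^ 3 + τ ^ 4 + τ ^ 5)] := by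
    rw [Um_mulVec]
    refine vec3_congr ?_ ?_ ?_
    · try simp only [map_add, map_sub, map_mul, map_pow, map_neg, map_one, map_zero, map_ofNat, hφτ]
      try linear_combination (3 + 3 * τ + 2 * τ ^ 2 + τ ^ 3) * hτ + (-1 - τ - τ ^ 2 - τ ^ 3 + τ ^ 5) * h2
    · try simp only [map_add, map_sub, map_mul, map_pow, map_neg, map_one, map_zero, map_ofNat, hφτ]
      try linear_combination (-τ - τ ^ 2 - τ ^ 3 - τ ^ 4) * h2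
    · try simp only [map_add, map_sub, map_mul, map_pow, map_neg, map_one, map_zero, map_ofNat, hφτ]
      try ring
  have e4 : Um φ (1) (τ + τ ^ 2 + τ ^ 3 + τ ^ 4) *ᵥ ![(1 + τ ^ 2 + τ ^ 3 + τ ^ 5), (1 + τ + τ ^ 2 + τ ^ 3 + τ ^ 4), (τ + τ ^ 2 + τ ^ 3 + τ ^ 4 + τ ^ 5)] = ![(1 + τ ^ 2 + τ ^ 4 + τ ^ 5), (1 + τ ^ 5), (τ + τ ^ 2 + τ ^ 3 + τ ^ 4 + τ ^ 5)] := by
    rw [Um_mulVec]
    refine vec3_congr ?_ ?_ ?_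
    · try simp only [map_add, map_sub, map_mul, map_pow, map_neg, map_one, map_zero, map_ofNat, hφτ]
      try linear_combination (3 + 3 * τ + 2 * τ ^ 2 + τ ^ 3) * hτ + (-1 - τ + τ ^ 5) * h2
    · try simp only [map_add, map_sub, map_mul, map_pow, map_neg, map_one, map_zero, map_ofNat, hφτ]
      try linear_combination (-τ ^ 5) * h2
    · try simp only [map_add, map_sub, map_mul, map_pow, map_neg, map_one, map_zero, map_ofNat, hφτ]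
      try ring
  have e5 : Lm φ (τ + τ ^ 2) (τ) *ᵥ ![(1 + τ ^ 2 + τ ^ 4 + τ ^ 5), (1 + τ ^ 5), (τ + τ ^ 2 + τ ^ 3 + τ ^ 4 + τ ^ 5)] = ![(1 + τ ^ 2 + τ ^ 4 + τ ^ 5), 0, 0] := by
    rw [Lm_mulVec]
    refine vec3_congr ?_ ?_ ?_
    · try simp only [map_add, map_sub, map_mul, map_pow, map_neg, map_one, map_zero, map_ofNat, hφτ]
      try ring
    · try simp only [map_add, map_sub, map_mul, map_pow, map_neg, map_one, map_zero, map_ofNat, hφτ]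
      try linear_combination (-1 + 2 * τ - τ ^ 2 + τ ^ 3 + 2 * τ ^ 4 + τ ^ 5 + 2 * τ ^ 6 + τ ^ 8 + τ ^ 9) * hτ + (1 - τ + τ ^ 2 - τ ^ 4 + τ ^ 5) * h2
    · try simp only [map_add, map_sub, map_mul, map_pow, map_neg, map_one, map_zero, map_ofNat, hφτ]
      try linear_combination (-τ) * hτ + (τ + τ ^ 3 + τ ^ 4 + τ ^ 5) * h2
  have hφs0 : φ (1 + τ ^ 2 + τ ^ 4 + τ ^ 5) * (1 + τ ^ 2 + τ ^ 3) = 1 := by
    simp only [map_add, map_sub, map_mul, map_pow, map_neg, map_one, map_zero, map_ofNat, hφτ]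
    linear_combination (-2 + τ ^ 2 + τ ^ 3 + 3 * τ ^ 4 - τ ^ 5 + 2 * τ ^ 6 + τ ^ 8 - τ ^ 9 + 2 * τ ^ 10 + 5 * τ ^ 11 + τ ^ 12 + 9 * τ ^ 13 + 4 * τ ^ 14 + 5 * τ ^ 15 + 10 * τ ^ 16 + τ ^ 17 + 4 * τ ^ 18 + 5 * τ ^ 19 + τ ^ 21 + τ ^ 22) * hτ + (1 + τ ^ 3 - τ ^ 4) * h2
  have hμ : (1 + τ ^ 2 + τ ^ 4 + τ ^ 5) ^ 2 / φ (1 + τ ^ 2 + τ ^ 4 + τ ^ 5) = (τ + τ ^ 2 + τ ^ 3 + τ ^ 4 + τ ^ 5) := by
    rw [div_eq_iff (ne_zero_of_mul_eq_one' hφs0)]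
    simp only [map_add, map_sub, map_mul, map_pow, map_neg, map_one, map_zero, map_ofNat, hφτ]
    linear_combination (1 + 3 * τ + τ ^ 2 + 2 * τ ^ 3 - τ ^ 4 - 3 * τ ^ 5 - 2 * τ ^ 6 - τ ^ 7 - 2 * τ ^ 9 - 2 * τ ^ 11 - 5 * τ ^ 12 - 6 * τ ^ 13 - 9 * τ ^ 14 - 10 * τ ^ 15 - 9 * τ ^ 16 - 10 * τ ^ 17 - 10 * τ ^ 18 - 5 * τ ^ 19 - 5 * τ ^ 20 - 5 * τ ^ 21 - τ ^ 22 - τ ^ 23 - τ ^ 24) * hτ + (-2 * τ - 2 * τ ^ 3 + τ ^ 5) * h2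
  have hne4 : (τ + τ ^ 2 + τ ^ 3 + τ ^ 4 + τ ^ 5) ^ 4 ≠ (τ + τ ^ 2 + τ ^ 3 + τ ^ 4 + τ ^ 5) := by
    apply ne_of_sub_mul_eq_one (r := (1 + τ ^ 2 + τ ^ 3 + τ ^ 4 + τ ^ 5))
    linear_combination (47 + 55 * τ + 37 * τ ^ 2 + τ ^ 3 - 35 * τ ^ 4 - 53 * τ ^ 5 - 41 * τ ^ 6 + τ ^ 7 + 63 * τ ^ 8 + 125 * τ ^ 9 + 170 * τ ^ 10 + 187 * τ ^ 11 + 176 * τ ^ 12 + 144 * τ ^ 13 + 103 * τ ^ 14 + 64 * τ ^ 15 + 34 * τ ^ 16 + 15 * τ ^ 17 + 5 * τ ^ 18 + τ ^ 19) * hτ + (-24 - 28 * τ - 19 * τ ^ 2 - 25 * τ ^ 3 - 11 * τ ^ 4 + 8 * τ ^ 5) * h2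
  have hne8 : (τ + τ ^ 2 + τ ^ 3 + τ ^ 4 + τ ^ 5) ^ 8 ≠ (τ + τ ^ 2 + τ ^ 3 + τ ^ 4 + τ ^ 5) := by
    apply ne_of_sub_mul_eq_one (r := (τ + τ ^ 2 + τ ^ 4))
    linear_combination (-1793 + 620 * τ + 2743 * τ ^ 2 + 3581 * τ ^ 3 + 2744 * τ ^ 4 + 622 * τ ^ 5 - 1791 * τ ^ 6 - 3366 * τ ^ 7 - 3366 * τ ^ 8 - 1790 * τ ^ 9 + 631 * τ ^ 10 + 2788 * τ ^ 11 + 3738 * τ ^ 12 + 3193 * τ ^ 13 + 1728 * τ ^ 14 + 608 * τ ^ 15 + 1302 * τ ^ 16 + 4887 * τ ^ 17 + 11581 * τ ^ 18 + 20589 * τ ^ 19 + 30320 * τ ^ 20 + 38871 * τ ^ 21 + 44589 * τ ^ 22 + 46513 * τ ^ 23 + 44568 * τ ^ 24 + 39467 * τ ^ 25 + 32412 * τ ^ 26 + 24721 * τ ^ 27 + 17509 * τ ^ 28 + 11495 * τ ^ 29 + 6971 * τ ^ 30 + 3884 * τ ^ 31 + 1973 * τ ^ 32 + 903 * τ ^ 33 + 366 * τ ^ 34 + 128 * τ ^ 35 + 37 * τ ^ 36 + 8 * τ ^ 37 + τ ^ 38) * hτ + (896 - 310 * τ - 1372 * τ ^ 2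 - 895 * τ ^ 3 - 1683 * τ ^ 4 - 1684 * τ ^ 5) * h2
  have hgen : ∀ K : Subfield F, (1 + τ ^ 2 + τ ^ 4 + τ ^ 5) ^ 2 / φ (1 + τ ^ 2 + τ ^ 4 + τ ^ 5) ∈ K → K = ⊤ := by
    rw [hμ]
    exact subfield_top_64 hF _ hne4 hne8
  refine exceptional_case 8 hF φ hφ (1) (τ + τ ^ 2 + τ ^ 3 + τ ^ 4) (1 + τ) (τ ^ 4) (τ ^ 3) (τ + τ ^ 2) (τ) (1 + τ ^ 2 + τ ^ 4 + τ ^ 5) (τ ^ 3)
    ha (ne_zero_of_mul_eq_one' hs) hab hxy hc hd (ne_zero_of_mul_eq_one' hd0) hcd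
    (Lm φ (τ + τ ^ 2) (τ) * Um φ (1) (τ + τ ^ 2 + τ ^ 3 + τ ^ 4) * Um φ (1) (τ + τ ^ 2 + τ ^ 3 + τ ^ 4) * Lm φ (τ + τ ^ 2) (τ) * Um φ (1) (τ + τ ^ 2 + τ ^ 3 + τ ^ 4) * Lm φ (τ + τ ^ 2) (τ))
    (fun S hz hv hmul => ?_) ?_ hgen he0
  · exact hmul _ _ (hmul _ _ (hmul _ _ (hmul _ _ (hmul _ _ hv hz) hz) hv) hz) hv
  · simp only [← Matrix.mulVec_mulVec]
    rw [e0, e1, e2, e3, e4, e5]

end Cfsg.Agent.Helper28.SU3
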