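import Mathlib
import Cfsg.Prelude.Def_GeometricClasses
import Cfsg.Agent.Lib.Helper2.SympGen
import Cfsg.Agent.Lib.Helper28.SympIso
import Cfsg.Agent.Lib.Helper28.SpSingMax

/-!
# Maximality of the stabiliser of a non-degenerate subspace in the symplectic group (helper28)
-/

set_option autoImplicit false

namespace Cfsg.Agent.Helper28.SpNondegMax

open Cfsg Matrix Cfsg.Agent.Helper2.Symp Cfsg.Agent.Helper28.SpSingMax Cfsg.Agent.Helper28.SympIso
open scoped Cfsg.Agent.Helper2.Symp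

variable {F : Type*} [Field F] {m : ℕ}

/-- transfer of maximality from the matrix symplectic group to the subgroup of `GL` -/
theorem maximal_of_sp (W : Submodule F (Fin m ⊕ Fin m → F))
    (hne : ∃ g : Matrix.symplecticGroup (Fin m) F, ¬ Stab W g)
    (hmax : ∀ M : Subgroup (Matrix.symplecticGroup (Fin m) F), (∀ g, Stab W g → g ∈ M) →
      ∀ h ∈ M, ¬ Stab W h → M = ⊤) :
    Cfsg.Geo.IsMaximalIn (Cfsg.spGL m F) (Cfsg.Geo.subspaceStabilizer W ⊓ Cfsg.spGL m F) := by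
  refine ⟨?_, ?_⟩
  · rw [lt_iff_le_and_ne]
    refine ⟨inf_le_right, fun heq => ?_⟩
    obtain ⟨g, hg⟩ := hne
    have h1 : toGLHom m F g ∈ Cfsg.spGL m F := toGLHom_mem_spGL g
    rw [← heq] at h1
    exact hg ((toGLHom_mem_stabilizer_iff W g).mp h1.1)
  · intro M hPM hMG
    by_cases hMP : M ≤ Cfsg.Geo.subspaceStabilizer W
    · left
      exact le_antisymm (fun x hx => ⟨hMP hx, hMG hx⟩) hPM
    · right
      obtain ⟨h, hhM, hhW⟩ := SetLike.not_le_iff_exists.mp hMP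
      obtain ⟨h', rfl⟩ := exists_of_mem_spGL h (hMG hhM)
      have htop : M.comap (toGLHom m F) = ⊤ := by
        apply hmax _ _ h' hhM (fun hst => hhW ((toGLHom_mem_stabilizer_iff W h').mpr hst))
        intro g hg
        exact hPM ⟨(toGLHom_mem_stabilizer_iff W g).mpr hg, toGLHom_mem_spGL g⟩
      apply le_antisymm hMG
      intro x hx
      obtain ⟨x', rfl⟩ := exists_of_mem_spGL x hx
      have : x' ∈ M.comap (toGLHom m F) := by rw [htop]; exact Subgroup.mem_top _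
      exact this

/-- the orthogonal of `W` as a submodule -/
noncomputable def perpSub (W : Submodule F (Fin m ⊕ Fin m → F)) :
    Submodule F (Fin m ⊕ Fin m → F) :=
  (sympBil m F).orthogonal W

theorem mem_perpSub (W : Submodule F (Fin m ⊕ Fin m → F)) (v : Fin m ⊕ Fin m → F) :
    v ∈ perpSub W ↔ ∀ w ∈ W, Bf w v = 0 := by
  unfold perpSub
  rw [LinearMap.BilinForm.mem_orthogonal_iff]
  constructor
  · intro h w hw
    have := h w hw
    rwa [sympBil_apply] at this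
  · intro h w hw
    rw [sympBil_apply]
    exact h w hw

theorem mem_perpSub' (W : Submodule F (Fin m ⊕ Fin m → F)) (v : Fin m ⊕ Fin m → F) :
    v ∈ perpSub W ↔ ∀ w ∈ W, Bf v w = 0 := by
  rw [mem_perpSub]
  constructor
  · intro h w hw
    rw [Bf_skew, h w hw, neg_zero]
  · intro h w hw
    rw [Bf_skew, h w hw, neg_zero]

theorem disjoint_perpSub (W : Submodule F (Fin m ⊕ Fin m → F)) (hW : IsND W) :
    Disjoint W (perpSub W) := by
  rw [Submodule.disjoint_def]
  intro x hx hx'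
  by_contra hne
  obtain ⟨y, hy, hxy⟩ := hW x hx hne
  exact hxy (((mem_perpSub' W x).mp hx') y hy)

theorem isCompl_perpSub (W : Submodule F (Fin m ⊕ Fin m → F)) (hW : IsND W) :
    IsCompl W (perpSub W) := by
  unfold perpSub
  rw [LinearMap.BilinForm.isCompl_orthogonal_iff_disjoint (sympBil_isRefl m)]
  exact disjoint_perpSub W hW

theorem exists_decomp (W : Submodule F (Fin m ⊕ Fin m → F)) (hW : IsND W)
    (v : Fin m ⊕ Fin m → F) : ∃ w ∈ W, ∃ y ∈ perpSub W, v = w + y := by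
  have h : v ∈ W ⊔ perpSub W := by
    rw [(isCompl_perpSub W hW).sup_eq_top]; exact Submodule.mem_top
  obtain ⟨w, hw, y, hy, rfl⟩ := Submodule.mem_sup.mp h
  exact ⟨w, hw, y, hy, rfl⟩

theorem isND_perpSub (W : Submodule F (Fin m ⊕ Fin m → F)) (hW : IsND W) : IsND (perpSub W) := by
  intro y hy hy0
  obtain ⟨x, hx⟩ := exists_Bf_ne_zero hy0
  obtain ⟨w, hw, z, hz, rfl⟩ := exists_decomp W hW x
  refine ⟨z, hz, ?_⟩
  rwa [Bf_add_right, (mem_perpSub' W y).mp hy w hw, zero_add] at hx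

theorem finrank_add (W : Submodule F (Fin m ⊕ Fin m → F)) (hW : IsND W) :
    Module.finrank F W + Module.finrank F (perpSub W) = 2 * m := by
  rw [Submodule.finrank_add_eq_of_isCompl (isCompl_perpSub W hW), Module.finrank_pi,
    Fintype.card_sum, Fintype.card_fin]
  ring

theorem smul_mem_perpSub (W : Submodule F (Fin m ⊕ Fin m → F))
    (g : Matrix.symplecticGroup (Fin m) F) (hg : Stab W g) (y : Fin m ⊕ Fin m → F)
    (hy : y ∈ perpSub W) : g • y ∈ perpSub W := by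
  rw [mem_perpSub] at hy ⊢
  intro w hw
  have h1 : g⁻¹ • w ∈ W := by
    rw [hg (g⁻¹ • w), smul_inv_smul]; exact hw
  have := hy _ h1
  rwa [Bf_smul_inv] at this

/-- a vector with non-zero components in both `W` and its orthogonal -/
def Mixed (W : Submodule F (Fin m ⊕ Fin m → F)) (v : Fin m ⊕ Fin m → F) : Prop :=
  ∃ w ∈ W, ∃ y ∈ perpSub W, w ≠ 0 ∧ y ≠ 0 ∧ v = w + y

theorem mem_or_of_not_mixed (W : Submodule F (Fin m ⊕ Fin m → F)) (hW : IsND W)
    (v : Fin m ⊕ Fin m → F) (hv : ¬ Mixed W v) : v ∈ W ∨ v ∈ perpSub W := by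
  obtain ⟨w, hw, y, hy, rfl⟩ := exists_decomp W hW v
  by_cases hw0 : w = 0
  · right; rw [hw0, zero_add]; exact hy
  · by_cases hy0 : y = 0
    · left; rw [hy0, add_zero]; exact hw
    · exact absurd ⟨w, hw, y, hy, hw0, hy0, rfl⟩ hv

theorem into_or_into (W U : Submodule F (Fin m ⊕ Fin m → F)) (hW : IsND W)
    (g : Matrix.symplecticGroup (Fin m) F) (h : ∀ u ∈ U, ¬ Mixed W (g • u)) :
    (∀ u ∈ U, g • u ∈ W) ∨ (∀ u ∈ U, g • u ∈ perpSub W) := by
  by_contra hcon
  push Not at hcon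
  obtain ⟨⟨u₁, hu₁, h₁⟩, ⟨u₂, hu₂, h₂⟩⟩ := hcon
  have h₁' : g • u₁ ∈ perpSub W := (mem_or_of_not_mixed W hW _ (h u₁ hu₁)).resolve_left h₁
  have h₂' : g • u₂ ∈ W := (mem_or_of_not_mixed W hW _ (h u₂ hu₂)).resolve_right h₂
  rcases mem_or_of_not_mixed W hW _ (h (u₁ + u₂) (U.add_mem hu₁ hu₂)) with h3 | h3
  · rw [smul_add] at h3
    exact h₁ ((W.add_mem_iff_left h₂').mp h3)
  · rw [smul_add] at h3
    exact h₂ (((perpSub W).add_mem_iff_right h₁').mp h3)

theorem exists_mixed [Finite F] (W : Submodule F (Fin m ⊕ Fin m → F)) (hW : IsND W) (hW0 : W ≠ ⊥)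
    (hdim : Module.finrank F W < m)
    (M : Subgroup (Matrix.symplecticGroup (Fin m) F)) (hPM : ∀ g, Stab W g → g ∈ M)
    (g : Matrix.symplecticGroup (Fin m) F) (hgM : g ∈ M) (hgW : ¬ Stab W g) :
    ∃ u', u' ∈ Cen M ∧ Mixed W u' := by
  have hWc : ∀ w ∈ W, w ∈ Cen M := by
    intro w hw c
    apply hPM
    apply stab_of_maps
    intro x hx
    rw [tv_smul]
    exact W.add_mem hx (W.smul_mem _ hw)
  have hPc : ∀ y ∈ perpSub W, y ∈ Cen M := by
    intro y hy
    exact perp_mem_cen W M hPM y ((mem_perpSub W y).mp hy)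
  by_contra hcon
  push Not at hcon
  have h1 : ∀ u ∈ W, ¬ Mixed W (g • u) := fun u hu => hcon _ (cen_smul M g hgM u (hWc u hu))
  have h2 : ∀ u ∈ perpSub W, ¬ Mixed W (g • u) :=
    fun u hu => hcon _ (cen_smul M g hgM u (hPc u hu))
  rcases into_or_into W W hW g h1 with hA | hA
  · exact hgW (stab_of_maps W g hA)
  · rcases into_or_into W (perpSub W) hW g h2 with hB | hB
    · -- dimension count
      have hle : (perpSub W).map (toLinEquiv m g : (Fin m ⊕ Fin m → F) →ₗ[F] _) ≤ W := by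
        rintro _ ⟨y, hy, rfl⟩
        exact hB y hy
      have h3 := Submodule.finrank_mono hle
      rw [LinearEquiv.finrank_map_eq] at h3
      have h4 := finrank_add W hW
      omega
    · -- the image of `g` lies in the orthogonal
      obtain ⟨w, hwW, hw0⟩ := (Submodule.ne_bot_iff W).mp hW0
      obtain ⟨a, ha, b, hb, hab⟩ := exists_decomp W hW (g⁻¹ • w)
      have h3 : w = g • a + g • b := by
        rw [← smul_add, ← hab, smul_inv_smul]
      have h4 : w ∈ perpSub W := by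
        rw [h3]; exact (perpSub W).add_mem (hA a ha) (hB b hb)
      exact hw0 ((Submodule.disjoint_def.mp (disjoint_perpSub W hW)) w hwW h4)

theorem all_mem_cen [Finite F] (W : Submodule F (Fin m ⊕ Fin m → F)) (hW : IsND W) (hW0 : W ≠ ⊥)
    (hdim : Module.finrank F W < m)
    (M : Subgroup (Matrix.symplecticGroup (Fin m) F)) (hPM : ∀ g, Stab W g → g ∈ M)
    (g : Matrix.symplecticGroup (Fin m) F) (hgM : g ∈ M) (hgW : ¬ Stab W g)
    (u : Fin m ⊕ Fin m → F) : u ∈ Cen M := by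
  have hWc : ∀ w ∈ W, w ∈ Cen M := by
    intro w hw c
    apply hPM
    apply stab_of_maps
    intro x hx
    rw [tv_smul]
    exact W.add_mem hx (W.smul_mem _ hw)
  have hPc : ∀ y ∈ perpSub W, y ∈ Cen M := by
    intro y hy
    exact perp_mem_cen W M hPM y ((mem_perpSub W y).mp hy)
  have hT1 : tvGroup W ≤ M := by
    unfold tvGroup
    rw [Subgroup.closure_le]
    rintro _ ⟨x, hx, c, rfl⟩
    exact hWc x hx c
  have hT2 : tvGroup (perpSub W) ≤ M := by
    unfold tvGroup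
    rw [Subgroup.closure_le]
    rintro _ ⟨x, hx, c, rfl⟩
    exact hPc x hx c
  obtain ⟨w, hw, y, hy, rfl⟩ := exists_decomp W hW u
  by_cases hw0 : w = 0
  · rw [hw0, zero_add]; exact hPc y hy
  by_cases hy0 : y = 0
  · rw [hy0, add_zero]; exact hWc w hw
  obtain ⟨u', hu'M, w₀, hw₀, y₀, hy₀, hw₀0, hy₀0, rfl⟩ :=
    exists_mixed W hW hW0 hdim M hPM g hgM hgW
  obtain ⟨g₁, hg₁, e₁⟩ := trans_vec hW hw₀ hw hw₀0 hw0
  obtain ⟨g₂, hg₂, e₂⟩ := trans_vec (isND_perpSub W hW) hy₀ hy hy₀0 hy0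
  have f₁ : g₁ • y₀ = y₀ := smul_eq_of_mem_tvGroup hg₁ y₀ ((mem_perpSub' W y₀).mp hy₀)
  have f₂ : g₂ • w = w := by
    apply smul_eq_of_mem_tvGroup hg₂ w
    intro x hx
    exact (mem_perpSub W x).mp hx w hw
  have h1 := cen_smul M (g₂ * g₁) (M.mul_mem (hT2 hg₂) (hT1 hg₁)) _ hu'M
  rwa [mul_smul, smul_add, e₁, f₁, smul_add, f₂, e₂] at h1

theorem eq_top_of_stab_lt [Finite F] (W : Submodule F (Fin m ⊕ Fin m → F)) (hW : IsND W)
    (hW0 : W ≠ ⊥) (hdim : Module.finrank F W < m)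
    (M : Subgroup (Matrix.symplecticGroup (Fin m) F)) (hPM : ∀ g, Stab W g → g ∈ M)
    (h : Matrix.symplecticGroup (Fin m) F) (hhM : h ∈ M) (hhW : ¬ Stab W h) : M = ⊤ := by
  rw [eq_top_iff, ← tvGroup_top_eq_top]
  unfold tvGroup
  rw [Subgroup.closure_le]
  rintro g ⟨x, -, c, rfl⟩
  exact all_mem_cen W hW hW0 hdim M hPM h hhM hhW x c

theorem exists_not_stab (W : Submodule F (Fin m ⊕ Fin m → F)) (hW : IsND W)
    (hW0 : W ≠ ⊥) (hdim : Module.finrank F W < m) :
    ∃ g : Matrix.symplecticGroup (Fin m) F, ¬ Stab W g := by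
  obtain ⟨w, hwW, hw0⟩ := (Submodule.ne_bot_iff W).mp hW0
  have hP0 : perpSub W ≠ ⊥ := by
    intro h
    have h1 := finrank_add W hW
    rw [h, finrank_bot] at h1
    omega
  obtain ⟨y, hyW, hy0⟩ := (Submodule.ne_bot_iff _).mp hP0
  obtain ⟨g, -, hg⟩ := trans_vec (isND_top (m := m) (F := F)) (Submodule.mem_top (x := w))
    (Submodule.mem_top (x := y)) hw0 hy0
  refine ⟨g, fun hst => ?_⟩
  have h1 := (hst w).mp hwW
  rw [hg] at h1
  exact hy0 ((Submodule.disjoint_def.mp (disjoint_perpSub W hW)) y h1 hyW)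

/-- the stabiliser of a non-zero non-degenerate subspace of dimension less than `m` is maximal -/
theorem maximal_spGL [Finite F] (W : Submodule F (Fin m ⊕ Fin m → F)) (hW0 : W ≠ ⊥)
    (hW : Cfsg.Geo.IsNondegenerateOn (Cfsg.sympForm m F) W) (hdim : Module.finrank F W < m) :
    Cfsg.Geo.IsMaximalIn (Cfsg.spGL m F) (Cfsg.Geo.subspaceStabilizer W ⊓ Cfsg.spGL m F) := by
  have hND : IsND W := by
    intro u hu hu0
    exact (hW u hu hu0).2
  exact maximal_of_sp W (exists_not_stab W hND hW0 hdim)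
    (fun M hPM h hhM hhW => eq_top_of_stab_lt W hND hW0 hdim M hPM h hhM hhW)

end Cfsg.Agent.Helper28.SpNondegMax
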