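import Mathlib
import Cfsg.Agent.Lib.Helper28.DecompGen
import Cfsg.Agent.Lib.Helper28.SpNondegMax

set_option autoImplicit false
set_option linter.unusedSectionVars false

/-! The stabiliser of an orthogonal decomposition into non-degenerate subspaces is a maximal
subgroup of the symplectic group. -/

namespace Cfsg.Agent.Helper28.SpImprim

open Cfsg Matrix Cfsg.Agent.Helper2.Symp Cfsg.Agent.Helper28.SpSingMax
  Cfsg.Agent.Helper28.DecompGen Cfsg.Agent.Helper28.SympIso
open scoped Cfsg.Agent.Helper2.Symp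
open scoped Classical

variable {F : Type*} [Field F] {m t k : ℕ} {D : Fin t → Submodule F (Fin m ⊕ Fin m → F)}

theorem Bf_sum_left {α : Type*} (s : Finset α) (a : α → Fin m ⊕ Fin m → F)
    (w : Fin m ⊕ Fin m → F) : Bf (∑ i ∈ s, a i) w = ∑ i ∈ s, Bf (a i) w := by
  induction s using Finset.induction_on with
  | empty => simp [Bf_zero_left]
  | insert x s hx ih => rw [Finset.sum_insert hx, Finset.sum_insert hx, Bf_add_left, ih]

theorem Bf_sum_right {α : Type*} (s : Finset α) (a : α → Fin m ⊕ Fin m → F)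
    (w : Fin m ⊕ Fin m → F) : Bf w (∑ i ∈ s, a i) = ∑ i ∈ s, Bf w (a i) := by
  induction s using Finset.induction_on with
  | empty => simp [Bf_zero_right]
  | insert x s hx ih => rw [Finset.sum_insert hx, Finset.sum_insert hx, Bf_add_right, ih]

section decomp

variable (hD : Cfsg.Geo.IsNondegenerateMDecomposition (Cfsg.sympForm m F) k D)

/-- the form is the sum of its values on the components -/
theorem Bf_comp (v w : Fin m ⊕ Fin m → F) :
    Bf v w = ∑ i, Bf (comp hD.decomp i v) (comp hD.decomp i w) := by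
  conv_lhs => rw [← sum_comp hD.decomp v, ← sum_comp hD.decomp w]
  rw [Bf_sum_left]
  apply Finset.sum_congr rfl
  intro i _
  rw [Bf_sum_right, Finset.sum_eq_single i]
  · intro j _ hji
    exact hD.orthogonal i j (Ne.symm hji) _ (comp_mem hD.decomp i v) _ (comp_mem hD.decomp j w)
  · intro h; exact absurd (Finset.mem_univ _) h

include hD in
theorem isND (i : Fin t) : IsND (D i) := by
  intro u hu hu0
  obtain ⟨-, x, hx, hux⟩ := hD.nondegenerate i u hu hu0
  exact ⟨x, hx, hux⟩

theorem comp_add (i : Fin t) (v w : Fin m ⊕ Fin m → F) :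
    comp hD.decomp i (v + w) = comp hD.decomp i v + comp hD.decomp i w := map_add _ _ _

theorem comp_sub (i : Fin t) (v w : Fin m ⊕ Fin m → F) :
    comp hD.decomp i (v - w) = comp hD.decomp i v - comp hD.decomp i w := map_sub _ _ _

theorem comp_comp_same (i : Fin t) (v : Fin m ⊕ Fin m → F) :
    comp hD.decomp i (comp hD.decomp i v) = comp hD.decomp i v :=
  comp_of_mem_same hD.decomp i _ (comp_mem hD.decomp i v)

theorem comp_comp_ne (i j : Fin t) (hij : i ≠ j) (v : Fin m ⊕ Fin m → F) :
    comp hD.decomp i (comp hD.decomp j v) = 0 :=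
  comp_of_mem_ne hD.decomp i j hij _ (comp_mem hD.decomp j v)

/-- vectors are determined by their components -/
theorem ext_comp (v w : Fin m ⊕ Fin m → F) (h : ∀ i, comp hD.decomp i v = comp hD.decomp i w) :
    v = w := by
  rw [← sum_comp hD.decomp v, ← sum_comp hD.decomp w]
  exact Finset.sum_congr rfl (fun i _ => h i)

/-- the stabiliser of the decomposition inside the symplectic group -/
noncomputable def HD (D : Fin t → Submodule F (Fin m ⊕ Fin m → F)) :
    Subgroup (Matrix.symplecticGroup (Fin m) F) :=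
  (Cfsg.Geo.decompositionStabilizer D).comap (toGLHom m F)

include hD in
theorem mem_HD_of_maps (g : Matrix.symplecticGroup (Fin m) F) (σ : Equiv.Perm (Fin t))
    (h : ∀ i, ∀ x ∈ D i, g • x ∈ D (σ i)) : g ∈ HD D := by
  refine ⟨σ, fun i => ?_⟩
  apply Submodule.eq_of_le_of_finrank_eq
  · rintro _ ⟨x, hx, rfl⟩
    rw [Matrix.toLin'_apply]
    exact h i x hx
  · have h1 : (D i).map (Matrix.toLin' ((toGLHom m F g : GL (Fin m ⊕ Fin m) F) :
        Matrix (Fin m ⊕ Fin m) (Fin m ⊕ Fin m) F)) =
        (D i).map (toLinEquiv m g : (Fin m ⊕ Fin m → F) →ₗ[F] (Fin m ⊕ Fin m → F)) := rfl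
    rw [h1, LinearEquiv.finrank_map_eq, hD.decomp.finrank_eq, hD.decomp.finrank_eq]

theorem maps_of_mem_HD (g : Matrix.symplecticGroup (Fin m) F) (hg : g ∈ HD D) :
    ∃ σ : Equiv.Perm (Fin t), ∀ i, ∀ x ∈ D i, g • x ∈ D (σ i) := by
  obtain ⟨σ, hσ⟩ := hg
  refine ⟨σ, fun i x hx => ?_⟩
  rw [← hσ i]
  exact ⟨x, hx, Matrix.toLin'_apply _ _⟩

include hD in
/-- members of the decomposition consist of centres -/
theorem mem_cen_of_mem (M : Subgroup (Matrix.symplecticGroup (Fin m) F)) (hHM : HD D ≤ M)
    (i : Fin t) (v : Fin m ⊕ Fin m → F) (hv : v ∈ D i) : v ∈ Cen M := by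
  intro c
  apply hHM
  apply mem_HD_of_maps hD _ 1
  intro j x hx
  rw [tv_smul, Equiv.Perm.one_apply]
  by_cases hij : j = i
  · subst hij
    exact (D j).add_mem hx ((D j).smul_mem _ hv)
  · have h0 : Bf x v = 0 := hD.orthogonal j i hij x hx v hv
    rw [h0, mul_zero, zero_smul, add_zero]
    exact hx

include hD in
theorem tvGroup_le (M : Subgroup (Matrix.symplecticGroup (Fin m) F)) (hHM : HD D ≤ M)
    (i : Fin t) : tvGroup (D i) ≤ M := by
  unfold tvGroup
  rw [Subgroup.closure_le]
  rintro _ ⟨x, hx, c, rfl⟩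
  exact mem_cen_of_mem hD M hHM i x hx c

/-- replacing one non-zero component of a centre by another non-zero vector -/
theorem cen_replace (M : Subgroup (Matrix.symplecticGroup (Fin m) F)) (hHM : HD D ≤ M)
    (x : Fin m ⊕ Fin m → F) (hx : x ∈ Cen M) (j : Fin t) (hj : comp hD.decomp j x ≠ 0)
    (y : Fin m ⊕ Fin m → F) (hy : y ∈ D j) (hy0 : y ≠ 0) :
    x - comp hD.decomp j x + y ∈ Cen M := by
  obtain ⟨g, hg, hgy⟩ := trans_vec (isND hD j) (comp_mem hD.decomp j x) hy hj hy0
  have hfix : g • (x - comp hD.decomp j x) = x - comp hD.decomp j x := by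
    apply smul_eq_of_mem_tvGroup hg
    intro u hu
    rw [Bf_comp hD, Finset.sum_eq_zero]
    intro i _
    by_cases hij : i = j
    · subst hij
      rw [comp_sub hD, comp_comp_same hD, sub_self, Bf_zero_left]
    · rw [comp_of_mem_ne hD.decomp i j hij u hu, Bf_zero_right]
  have := cen_smul M g (tvGroup_le hD M hHM j hg) x hx
  have e : g • x = x - comp hD.decomp j x + y := by
    conv_lhs => rw [show x = (x - comp hD.decomp j x) + comp hD.decomp j x by abel]
    rw [smul_add, hfix, hgy]
  rwa [e] at this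

/-- components of a vector with one component replaced -/
theorem comp_replace (x : Fin m ⊕ Fin m → F) (j : Fin t) (y : Fin m ⊕ Fin m → F) (hy : y ∈ D j)
    (i : Fin t) :
    comp hD.decomp i (x - comp hD.decomp j x + y) =
      if i = j then y else comp hD.decomp i x := by
  rw [comp_add hD, comp_sub hD]
  by_cases hij : i = j
  · subst hij
    rw [if_pos rfl, comp_comp_same hD, sub_self, zero_add, comp_of_mem_same hD.decomp i y hy]
  · rw [if_neg hij, comp_comp_ne hD i j hij, sub_zero, comp_of_mem_ne hD.decomp i j hij y hy,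
      add_zero]

/-- components of a sum of members -/
theorem comp_sum (W : Fin t → Fin m ⊕ Fin m → F) (hW : ∀ i, W i ∈ D i) (i : Fin t) :
    comp hD.decomp i (∑ j, W j) = W i :=
  comp_unique hD.decomp (fun j => ⟨W j, hW j⟩) _ rfl i

/-- two centres with the same support -/
theorem cen_same_supp (M : Subgroup (Matrix.symplecticGroup (Fin m) F)) (hHM : HD D ≤ M)
    (v w : Fin m ⊕ Fin m → F) (hv : v ∈ Cen M)
    (hs : ∀ i, comp hD.decomp i v = 0 ↔ comp hD.decomp i w = 0) : w ∈ Cen M := by
  suffices H : ∀ n : ℕ, ∀ v : Fin m ⊕ Fin m → F, v ∈ Cen M →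
      (∀ i, comp hD.decomp i v = 0 ↔ comp hD.decomp i w = 0) →
      (Finset.univ.filter (fun i => comp hD.decomp i v ≠ comp hD.decomp i w)).card = n →
      w ∈ Cen M from H _ v hv hs rfl
  intro n
  induction n with
  | zero =>
    intro v hv hs hn
    rw [Finset.card_eq_zero, Finset.filter_eq_empty_iff] at hn
    have : v = w := ext_comp hD v w (fun i => by
      have := hn (Finset.mem_univ i)
      push Not at this
      exact this)
    rw [← this]
    exact hv
  | succ n ih =>
    intro v hv hs hn
    have hne : (Finset.univ.filter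
        (fun i => comp hD.decomp i v ≠ comp hD.decomp i w)).Nonempty := by
      rw [← Finset.card_pos, hn]
      omega
    obtain ⟨j, hj⟩ := hne
    have hj2 := (Finset.mem_filter.mp hj).2
    have hjv : comp hD.decomp j v ≠ 0 := by
      intro h0
      have := (hs j).mp h0
      exact hj2 (by rw [h0, this])
    have hjw : comp hD.decomp j w ≠ 0 := fun h0 => hjv ((hs j).mpr h0)
    have hv' := cen_replace hD M hHM v hv j hjv (comp hD.decomp j w) (comp_mem hD.decomp j w) hjw
    have hc := comp_replace hD v j (comp hD.decomp j w) (comp_mem hD.decomp j w)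
    apply ih _ hv'
    · intro i
      rw [hc i]
      by_cases hij : i = j
      · subst hij
        rw [if_pos rfl]
      · rw [if_neg hij]
        exact hs i
    · have hfe : Finset.univ.filter (fun i => comp hD.decomp i
          (v - comp hD.decomp j v + comp hD.decomp j w) ≠ comp hD.decomp i w) =
          (Finset.univ.filter
            (fun i => comp hD.decomp i v ≠ comp hD.decomp i w)).erase j := by
        ext i
        rw [Finset.mem_erase, Finset.mem_filter, Finset.mem_filter, hc i]
        by_cases hij : i = j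
        · subst hij
          simp
        · simp [hij]
      rw [hfe, Finset.card_erase_of_mem hj, hn]
      rfl

/-- an element outside the stabiliser produces a centre with two non-zero components -/
theorem exists_mixed (M : Subgroup (Matrix.symplecticGroup (Fin m) F)) (hHM : HD D ≤ M)
    (g : Matrix.symplecticGroup (Fin m) F) (hgM : g ∈ M) (hg : g ∉ HD D) :
    ∃ x ∈ Cen M, ∃ j₁ j₂ : Fin t, j₁ ≠ j₂ ∧ comp hD.decomp j₁ x ≠ 0 ∧
      comp hD.decomp j₂ x ≠ 0 := by
  by_contra hcon
  push Not at hcon
  apply hg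
  have hnz : ∀ i, ∃ v ∈ D i, v ≠ 0 := by
    intro i
    have hpos : 0 < Module.finrank F (D i) := by
      rw [hD.decomp.finrank_eq]
      exact hD.decomp.pos
    obtain ⟨⟨v, hv⟩, hv0⟩ := Module.finrank_pos_iff_exists_ne_zero.mp hpos
    exact ⟨v, hv, fun h => hv0 (Subtype.ext h)⟩
  have hsm0 : ∀ (h : Matrix.symplecticGroup (Fin m) F) (v : Fin m ⊕ Fin m → F),
      h • v = 0 → v = 0 := by
    intro h v hv
    have := congrArg (fun z => h⁻¹ • z) hv
    simpa using this
  have hone : ∀ i, ∃ j, ∀ v ∈ D i, g • v ∈ D j := by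
    intro i
    obtain ⟨v₀, hv₀, hv₀0⟩ := hnz i
    have hgv₀ : g • v₀ ≠ 0 := fun h => hv₀0 (hsm0 g v₀ h)
    obtain ⟨j₀, hj₀⟩ : ∃ j₀, comp hD.decomp j₀ (g • v₀) ≠ 0 := by
      by_contra hall
      push Not at hall
      apply hgv₀
      apply ext_comp hD
      intro i
      rw [hall i, map_zero]
    have hcen : ∀ v ∈ D i, g • v ∈ Cen M := fun v hv =>
      cen_smul M g hgM v (mem_cen_of_mem hD M hHM i v hv)
    have hv₀only : ∀ j, j ≠ j₀ → comp hD.decomp j (g • v₀) = 0 := by
      intro j hj
      exact hcon _ (hcen v₀ hv₀) j₀ j (Ne.symm hj) hj₀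
    refine ⟨j₀, fun v hv => ?_⟩
    have hvonly : ∀ j, j ≠ j₀ → comp hD.decomp j (g • v) = 0 := by
      intro j hj
      by_contra hne
      have h1 : comp hD.decomp j₀ (g • v) = 0 := hcon _ (hcen v hv) j j₀ hj hne
      have h2 := hcon _ (hcen (v + v₀) ((D i).add_mem hv hv₀)) j j₀ hj (by
        rw [smul_add, comp_add hD, hv₀only j hj, add_zero]
        exact hne)
      rw [smul_add, comp_add hD, h1, zero_add] at h2
      exact hj₀ h2
    have : g • v = comp hD.decomp j₀ (g • v) := by
      apply ext_comp hD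
      intro i'
      by_cases hi' : i' = j₀
      · subst hi'
        rw [comp_comp_same hD]
      · rw [hvonly i' hi', comp_comp_ne hD i' j₀ hi']
    rw [this]
    exact comp_mem hD.decomp j₀ _
  choose σ₀ hσ₀ using hone
  have hsurj : Function.Surjective σ₀ := by
    intro j
    by_contra hj
    push Not at hj
    obtain ⟨w, hw, hw0⟩ := hnz j
    have h1 : comp hD.decomp j w = w := comp_of_mem_same hD.decomp j w hw
    have h2 : w = ∑ i, g • comp hD.decomp i (g⁻¹ • w) := by
      rw [← Finset.smul_sum, sum_comp, smul_inv_smul]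
    rw [h2, map_sum] at h1
    have h3 : ∀ i ∈ Finset.univ, comp hD.decomp j (g • comp hD.decomp i (g⁻¹ • w)) = 0 := by
      intro i _
      exact comp_of_mem_ne hD.decomp j (σ₀ i) (Ne.symm (hj i)) _
        (hσ₀ i _ (comp_mem hD.decomp i _))
    rw [Finset.sum_eq_zero h3] at h1
    rw [← h2] at h1
    exact hw0 h1.symm
  have hbij : Function.Bijective σ₀ := Function.Surjective.bijective_of_finite hsurj
  exact mem_HD_of_maps hD g (Equiv.ofBijective σ₀ hbij) (fun i x hx => hσ₀ i x hx)

/-- the number of non-zero components -/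
noncomputable def cnt (v : Fin m ⊕ Fin m → F) : ℕ :=
  (Finset.univ.filter (fun i => comp hD.decomp i v ≠ 0)).card

section fin

variable [Fintype F]

include hD in
/-- a non-zero vector of a member has a non-zero orthogonal companion in that member that is not
its negative -/
theorem exists_orth (hex : ¬ (k = 2 ∧ Fintype.card F = 2)) (i : Fin t) (a : Fin m ⊕ Fin m → F)
    (ha : a ∈ D i) (ha0 : a ≠ 0) : ∃ b ∈ D i, b ≠ 0 ∧ Bf a b = 0 ∧ a + b ≠ 0 := by
  by_cases hq : Fintype.card F = 2
  · -- `k ≠ 2`
    have hk2 : k ≠ 2 := fun h => hex ⟨h, hq⟩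
    let φ : D i →ₗ[F] F :=
      { toFun := fun u => Bf a (u : Fin m ⊕ Fin m → F)
        map_add' := fun u v => Bf_add_right _ _ _
        map_smul' := fun c u => by
          show Bf a (c • (u : Fin m ⊕ Fin m → F)) = c • Bf a (u : Fin m ⊕ Fin m → F)
          rw [Bf_smul_right, smul_eq_mul] }
    have hrk := LinearMap.finrank_range_add_finrank_ker φ
    rw [hD.decomp.finrank_eq] at hrk
    have hr1 : Module.finrank F (LinearMap.range φ) ≤ 1 := by
      have := Submodule.finrank_le (LinearMap.range φ)
      rwa [Module.finrank_self] at this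
    have ha' : (⟨a, ha⟩ : D i) ∈ LinearMap.ker φ := by
      rw [LinearMap.mem_ker]
      exact Bf_self a
    have hker1 : 1 ≤ Module.finrank F (LinearMap.ker φ) := by
      rw [Nat.one_le_iff_ne_zero]
      intro h0
      have hbot := (Submodule.finrank_eq_zero).mp h0
      rw [hbot, Submodule.mem_bot] at ha'
      exact ha0 (congrArg Subtype.val ha')
    obtain ⟨x, hx, hax⟩ := isND hD i a ha ha0
    have hr0 : Module.finrank F (LinearMap.range φ) ≠ 0 := by
      intro h0
      have hbot := (Submodule.finrank_eq_zero).mp h0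
      have : φ ⟨x, hx⟩ ∈ LinearMap.range φ := LinearMap.mem_range_self φ _
      rw [hbot, Submodule.mem_bot] at this
      exact hax this
    have hker2 : 2 ≤ Module.finrank F (LinearMap.ker φ) := by omega
    obtain ⟨b, hbker, hbspan⟩ : ∃ b ∈ LinearMap.ker φ, b ∉ Submodule.span F {(⟨a, ha⟩ : D i)} := by
      by_contra hcon
      push Not at hcon
      have h1 := Submodule.finrank_mono (show LinearMap.ker φ ≤ Submodule.span F {(⟨a, ha⟩ : D i)}
        from hcon)
      have h2 : Module.finrank F (Submodule.span F {(⟨a, ha⟩ : D i)}) ≤ 1 := by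
        have := finrank_span_finset_le_card (R := F) ({(⟨a, ha⟩ : D i)} : Finset (D i))
        rw [Finset.coe_singleton, Finset.card_singleton] at this
        exact this
      omega
    refine ⟨b, b.2, ?_, ?_, ?_⟩
    · intro h0
      apply hbspan
      have : b = 0 := Subtype.ext h0
      rw [this]
      exact Submodule.zero_mem _
    · exact LinearMap.mem_ker.mp hbker
    · intro h0
      apply hbspan
      rw [Submodule.mem_span_singleton]
      refine ⟨-1, Subtype.ext ?_⟩
      show (-1 : F) • a = (b : Fin m ⊕ Fin m → F)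
      rw [neg_one_smul]
      exact (eq_neg_of_add_eq_zero_right h0).symm
  · -- a scalar different from `0` and `-1`
    have h3 : 2 < Fintype.card F := by
      have := Fintype.one_lt_card (α := F)
      omega
    obtain ⟨l, hl0, hl1⟩ : ∃ l : F, l ≠ 0 ∧ l ≠ -1 := by
      by_contra hcon
      push Not at hcon
      have hsub : (Finset.univ : Finset F) ⊆ {0, -1} := by
        intro x _
        by_cases hx : x = 0
        · rw [hx]; simp
        · rw [hcon x hx]; simp
      have := Finset.card_le_card hsub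
      have h2 : ({0, -1} : Finset F).card ≤ 2 := Finset.card_le_two
      rw [Finset.card_univ] at this
      omega
    refine ⟨l • a, (D i).smul_mem l ha, smul_ne_zero hl0 ha0, ?_, ?_⟩
    · rw [Bf_smul_right, Bf_self, mul_zero]
    · intro h0
      have : (1 + l) • a = 0 := by rw [add_smul, one_smul, h0]
      rcases smul_eq_zero.mp this with h | h
      · apply hl1
        linear_combination h
      · exact ha0 h

/-- shrinking the support of a centre by one -/
theorem shrink (hex : ¬ (k = 2 ∧ Fintype.card F = 2))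
    (M : Subgroup (Matrix.symplecticGroup (Fin m) F)) (hHM : HD D ≤ M)
    (v : Fin m ⊕ Fin m → F) (hv : v ∈ Cen M) (h3 : 3 ≤ cnt hD v) :
    ∃ v' ∈ Cen M, cnt hD v' + 1 = cnt hD v := by
  unfold cnt at h3
  obtain ⟨j, hj, l, hl, hjl⟩ := Finset.one_lt_card.mp (show 1 <
    (Finset.univ.filter (fun i => comp hD.decomp i v ≠ 0)).card by omega)
  have hjv : comp hD.decomp j v ≠ 0 := (Finset.mem_filter.mp hj).2
  have hlv : comp hD.decomp l v ≠ 0 := (Finset.mem_filter.mp hl).2
  obtain ⟨w', hw', hjw'⟩ := isND hD j _ (comp_mem hD.decomp j v) hjv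
  obtain ⟨wj, hwjdef⟩ : ∃ wj, wj = (Bf (comp hD.decomp j v) w')⁻¹ • w' := ⟨_, rfl⟩
  have hwj : wj ∈ D j := by rw [hwjdef]; exact (D j).smul_mem _ hw'
  have hjwj : Bf (comp hD.decomp j v) wj = 1 := by
    rw [hwjdef, Bf_smul_right, inv_mul_cancel₀ hjw']
  have hb : ∀ i, ∃ b ∈ D i, (comp hD.decomp i v ≠ 0 → b ≠ 0 ∧ Bf (comp hD.decomp i v) b = 0 ∧
      comp hD.decomp i v + b ≠ 0) ∧ (comp hD.decomp i v = 0 → b = 0) := by
    intro i
    by_cases hi : comp hD.decomp i v = 0
    · exact ⟨0, (D i).zero_mem, fun h => absurd hi h, fun _ => rfl⟩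
    · obtain ⟨b, hbD, hb0, hab, hsum⟩ := exists_orth hD hex i _ (comp_mem hD.decomp i v) hi
      exact ⟨b, hbD, fun _ => ⟨hb0, hab, hsum⟩, fun h => absurd h hi⟩
  choose b hbD hb1 hb2 using hb
  obtain ⟨W, hWdef⟩ : ∃ W : Fin t → Fin m ⊕ Fin m → F,
      W = fun i => if i = j then wj else if i = l then -comp hD.decomp l v else b i := ⟨_, rfl⟩
  have hWj : W j = wj := by rw [hWdef]; simp
  have hWl : W l = -comp hD.decomp l v := by rw [hWdef]; simp [Ne.symm hjl]
  have hWi : ∀ i, i ≠ j → i ≠ l → W i = b i := by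
    intro i h1 h2; rw [hWdef]; simp [h1, h2]
  have hWD : ∀ i, W i ∈ D i := by
    intro i
    by_cases h1 : i = j
    · subst h1; rw [hWj]; exact hwj
    · by_cases h2 : i = l
      · subst h2; rw [hWl]; exact (D i).neg_mem (comp_mem hD.decomp i v)
      · rw [hWi i h1 h2]; exact hbD i
  have hcw : ∀ i, comp hD.decomp i (∑ i', W i') = W i := comp_sum hD W hWD
  have hwj0 : wj ≠ 0 := by
    intro h
    rw [h, Bf_zero_right] at hjwj
    exact zero_ne_one hjwj
  -- same support
  have hsupp : ∀ i, comp hD.decomp i v = 0 ↔ comp hD.decomp i (∑ i', W i') = 0 := by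
    intro i
    rw [hcw i]
    by_cases h1 : i = j
    · subst h1; rw [hWj]
      exact ⟨fun h => absurd h hjv, fun h => absurd h hwj0⟩
    · by_cases h2 : i = l
      · subst h2; rw [hWl, neg_eq_zero]
      · rw [hWi i h1 h2]
        constructor
        · exact hb2 i
        · intro h
          by_contra hne
          exact (hb1 i hne).1 h
  have hwcen : (∑ i', W i') ∈ Cen M := cen_same_supp hD M hHM v _ hv hsupp
  have hBvw : Bf v (∑ i', W i') = 1 := by
    rw [Bf_comp hD, Finset.sum_eq_single j]
    · rw [hcw j, hWj, hjwj]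
    · intro i _ hij
      rw [hcw i]
      by_cases h2 : i = l
      · subst h2; rw [hWl, Bf_neg_right, Bf_self, neg_zero]
      · rw [hWi i hij h2]
        by_cases hi : comp hD.decomp i v = 0
        · rw [hi, Bf_zero_left]
        · exact (hb1 i hi).2.1
    · intro h; exact absurd (Finset.mem_univ _) h
  have hv' := cen_smul M (tv (∑ i', W i') 1) (hwcen 1) v hv
  rw [tv_smul, hBvw, mul_one, one_smul] at hv'
  refine ⟨_, hv', ?_⟩
  have hfe : Finset.univ.filter (fun i => comp hD.decomp i (v + ∑ i', W i') ≠ 0) =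
      (Finset.univ.filter (fun i => comp hD.decomp i v ≠ 0)).erase l := by
    ext i
    rw [Finset.mem_erase, Finset.mem_filter, Finset.mem_filter, comp_add hD, hcw i]
    simp only [Finset.mem_univ, true_and]
    by_cases h2 : i = l
    · subst h2
      rw [hWl, add_neg_cancel]
      simp
    · by_cases h1 : i = j
      · subst h1
        rw [hWj]
        constructor
        · intro _; exact ⟨h2, hjv⟩
        · intro _ h0
          have : Bf (comp hD.decomp i v) (comp hD.decomp i v + wj) = 1 := by
            rw [Bf_add_right, Bf_self, zero_add, hjwj]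
          rw [h0, Bf_zero_right] at this
          exact zero_ne_one this
      · rw [hWi i h1 h2]
        by_cases hi : comp hD.decomp i v = 0
        · rw [hi, hb2 i hi, add_zero]
          simp
        · constructor
          · intro _; exact ⟨h2, hi⟩
          · intro _; exact (hb1 i hi).2.2
  unfold cnt
  rw [hfe, Finset.card_erase_of_mem hl]
  have : 0 < (Finset.univ.filter (fun i => comp hD.decomp i v ≠ 0)).card := by omega
  omega

/-- some centre has exactly two non-zero components -/
theorem exists_two (hex : ¬ (k = 2 ∧ Fintype.card F = 2))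
    (M : Subgroup (Matrix.symplecticGroup (Fin m) F)) (hHM : HD D ≤ M)
    (g : Matrix.symplecticGroup (Fin m) F) (hgM : g ∈ M) (hg : g ∉ HD D) :
    ∃ v ∈ Cen M, cnt hD v = 2 := by
  obtain ⟨x, hx, j₁, j₂, h12, h1, h2⟩ := exists_mixed hD M hHM g hgM hg
  have hx2 : 2 ≤ cnt hD x := by
    unfold cnt
    have : 1 < (Finset.univ.filter (fun i => comp hD.decomp i x ≠ 0)).card :=
      Finset.one_lt_card.mpr ⟨j₁, by simp [h1], j₂, by simp [h2], h12⟩
    omega
  have key : ∀ n : ℕ, 2 ≤ n → (∃ v ∈ Cen M, cnt hD v = n) → ∃ v ∈ Cen M, cnt hD v = 2 := by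
    intro n hn
    induction n, hn using Nat.le_induction with
    | base => exact fun h => h
    | succ n hn ih =>
      rintro ⟨v, hv, hvn⟩
      obtain ⟨v', hv', hv'n⟩ := shrink hD hex M hHM v hv (by omega)
      exact ih ⟨v', hv', by omega⟩
  exact key _ hx2 ⟨x, hx, rfl⟩

/-- all vectors are centres once those with two non-zero components are -/
theorem all_of_two (M : Subgroup (Matrix.symplecticGroup (Fin m) F)) (hHM : HD D ≤ M)
    (hC : ∀ v : Fin m ⊕ Fin m → F, cnt hD v = 2 → v ∈ Cen M) (v : Fin m ⊕ Fin m → F) :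
    v ∈ Cen M := by
  suffices H : ∀ n : ℕ, ∀ v : Fin m ⊕ Fin m → F, cnt hD v = n → v ∈ Cen M from H _ v rfl
  intro n
  induction n using Nat.strong_induction_on with
  | _ n ih =>
    intro v hvn
    by_cases h3 : 3 ≤ n
    · unfold cnt at hvn
      obtain ⟨j, hj, l, hl, hjl⟩ := Finset.one_lt_card.mp (show 1 <
        (Finset.univ.filter (fun i => comp hD.decomp i v ≠ 0)).card by omega)
      have hjv : comp hD.decomp j v ≠ 0 := (Finset.mem_filter.mp hj).2
      have hlv : comp hD.decomp l v ≠ 0 := (Finset.mem_filter.mp hl).2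
      obtain ⟨w', hw', hjw'⟩ := isND hD j _ (comp_mem hD.decomp j v) hjv
      obtain ⟨wj, hwjdef⟩ : ∃ wj, wj = (Bf (comp hD.decomp j v) w')⁻¹ • w' := ⟨_, rfl⟩
      have hwj : wj ∈ D j := by rw [hwjdef]; exact (D j).smul_mem _ hw'
      have hjwj : Bf (comp hD.decomp j v) wj = 1 := by
        rw [hwjdef, Bf_smul_right, inv_mul_cancel₀ hjw']
      have hwj0 : wj ≠ 0 := by
        intro h
        rw [h, Bf_zero_right] at hjwj
        exact zero_ne_one hjwj
      -- the vector `w = wj + v_l`
      have hcw : ∀ i, comp hD.decomp i (wj + comp hD.decomp l v) =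
          if i = j then wj else if i = l then comp hD.decomp l v else 0 := by
        intro i
        rw [comp_add hD]
        by_cases h1 : i = j
        · subst h1
          rw [if_pos rfl, comp_of_mem_same hD.decomp i wj hwj, comp_comp_ne hD i l hjl, add_zero]
        · rw [if_neg h1, comp_of_mem_ne hD.decomp i j h1 wj hwj, zero_add]
          by_cases h2 : i = l
          · subst h2; rw [if_pos rfl, comp_comp_same hD]
          · rw [if_neg h2, comp_comp_ne hD i l h2]
      have hw2 : cnt hD (wj + comp hD.decomp l v) = 2 := by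
        unfold cnt
        have : Finset.univ.filter (fun i => comp hD.decomp i (wj + comp hD.decomp l v) ≠ 0) =
            {j, l} := by
          ext i
          rw [Finset.mem_filter, hcw i]
          simp only [Finset.mem_univ, true_and, Finset.mem_insert, Finset.mem_singleton]
          by_cases h1 : i = j
          · subst h1; simp [hwj0]
          · by_cases h2 : i = l
            · subst h2; simp [h1, hlv]
            · simp [h1, h2]
        rw [this, Finset.card_pair hjl]
      have hwcen := hC _ hw2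
      -- the vector `v' = v - w`
      have hcv' : ∀ i, comp hD.decomp i (v - (wj + comp hD.decomp l v)) =
          if i = j then comp hD.decomp j v - wj else if i = l then 0 else comp hD.decomp i v := by
        intro i
        rw [comp_sub hD, hcw i]
        by_cases h1 : i = j
        · subst h1; rw [if_pos rfl, if_pos rfl]
        · rw [if_neg h1, if_neg h1]
          by_cases h2 : i = l
          · subst h2; rw [if_pos rfl, if_pos rfl, sub_self]
          · rw [if_neg h2, if_neg h2, sub_zero]
      have hjne : comp hD.decomp j v - wj ≠ 0 := by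
        intro h0
        have : Bf (comp hD.decomp j v - wj) wj = 1 := by
          rw [Bf_sub_left, hjwj, Bf_self, sub_zero]
        rw [h0, Bf_zero_left] at this
        exact zero_ne_one this
      have hv'n : cnt hD (v - (wj + comp hD.decomp l v)) = n - 1 := by
        unfold cnt
        have : Finset.univ.filter
            (fun i => comp hD.decomp i (v - (wj + comp hD.decomp l v)) ≠ 0) =
            (Finset.univ.filter (fun i => comp hD.decomp i v ≠ 0)).erase l := by
          ext i
          rw [Finset.mem_erase, Finset.mem_filter, Finset.mem_filter, hcv' i]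
          simp only [Finset.mem_univ, true_and]
          by_cases h1 : i = j
          · subst h1
            rw [if_pos rfl]
            exact ⟨fun _ => ⟨hjl, hjv⟩, fun _ => hjne⟩
          · rw [if_neg h1]
            by_cases h2 : i = l
            · subst h2; simp
            · rw [if_neg h2]
              exact ⟨fun h => ⟨h2, h⟩, fun h => h.2⟩
        rw [this, Finset.card_erase_of_mem hl, hvn]
      have hv'cen := ih (n - 1) (by omega) _ hv'n
      have hB : Bf (v - (wj + comp hD.decomp l v)) (wj + comp hD.decomp l v) = 1 := by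
        rw [Bf_comp hD, Finset.sum_eq_single j]
        · rw [hcv' j, hcw j, if_pos rfl, if_pos rfl, Bf_sub_left, hjwj, Bf_self, sub_zero]
        · intro i _ hij
          rw [hcv' i, hcw i, if_neg hij, if_neg hij]
          by_cases h2 : i = l
          · rw [if_pos h2, Bf_zero_left]
          · rw [if_neg h2, if_neg h2, Bf_zero_right]
        · intro h; exact absurd (Finset.mem_univ _) h
      have := cen_smul M (tv (wj + comp hD.decomp l v) 1) (hwcen 1) _ hv'cen
      rw [tv_smul, hB, mul_one, one_smul, sub_add_cancel] at this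
      exact this
    · -- small supports
      have hn2 : n ≤ 2 := by omega
      by_cases h2 : n = 2
      · exact hC v (by rw [hvn, h2])
      by_cases h1 : n = 1
      · rw [h1] at hvn
        unfold cnt at hvn
        obtain ⟨j, hj⟩ := Finset.card_eq_one.mp hvn
        have hvj : v = comp hD.decomp j v := by
          apply ext_comp hD
          intro i
          by_cases hij : i = j
          · subst hij; rw [comp_comp_same hD]
          · rw [comp_comp_ne hD i j hij]
            by_contra hne
            have : i ∈ Finset.univ.filter (fun i => comp hD.decomp i v ≠ 0) := by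
              simp [hne]
            rw [hj, Finset.mem_singleton] at this
            exact hij this
        rw [hvj]
        exact mem_cen_of_mem hD M hHM j _ (comp_mem hD.decomp j v)
      · have h0 : n = 0 := by omega
        rw [h0] at hvn
        unfold cnt at hvn
        rw [Finset.card_eq_zero, Finset.filter_eq_empty_iff] at hvn
        have : v = 0 := by
          apply ext_comp hD
          intro i
          have := hvn (Finset.mem_univ i)
          push Not at this
          rw [this, map_zero]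
        rw [this]
        intro c
        rw [tv_zero_left]
        exact M.one_mem

end fin

/-! ### elements permuting the members -/

include hD in
/-- all members are isometric to one standard symplectic space -/
theorem exists_block_equiv : ∃ k' : ℕ, ∀ i, ∃ e : D i ≃ₗ[F] (Fin k' ⊕ Fin k' → F),
    ∀ x y : D i, sympBil k' F (e x) (e y) =
      Bf (x : Fin m ⊕ Fin m → F) (y : Fin m ⊕ Fin m → F) := by
  have hA : ∀ i, ((sympBil m F).restrict (D i)).IsAlt := by
    intro i x
    show sympBil m F (x : Fin m ⊕ Fin m → F) (x : Fin m ⊕ Fin m → F) = 0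
    rw [sympBil_apply]
    exact Bf_self _
  have hB : ∀ i, ((sympBil m F).restrict (D i)).Nondegenerate := by
    intro i
    constructor
    · intro x hx
      by_contra hx0
      have hx0' : (x : Fin m ⊕ Fin m → F) ≠ 0 := fun h => hx0 (Subtype.ext h)
      obtain ⟨-, y, hy, hxy⟩ := hD.nondegenerate i x x.2 hx0'
      apply hxy
      have := hx ⟨y, hy⟩
      rw [← sympBil_apply]
      exact this
    · intro x hx
      by_contra hx0
      have hx0' : (x : Fin m ⊕ Fin m → F) ≠ 0 := fun h => hx0 (Subtype.ext h)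
      obtain ⟨⟨y, hy, hyx⟩, -⟩ := hD.nondegenerate i x x.2 hx0'
      apply hyx
      have := hx ⟨y, hy⟩
      rw [← sympBil_apply]
      exact this
  have i₀ : Fin t := ⟨0, by have := hD.decomp.two_le; omega⟩
  obtain ⟨m', k'', b, -, -, -, h4⟩ := Cfsg.Agent.S0752.result _ (hA i₀)
  have hk'' : k'' = 0 := by
    by_contra hne
    have j : Fin k'' := ⟨0, Nat.pos_of_ne_zero hne⟩
    exact b.ne_zero (Sum.inr j) ((hB i₀).1 _ (h4 j))
  subst hk''
  have hk : k = 2 * m' := by
    have := Module.finrank_eq_card_basis b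
    rw [hD.decomp.finrank_eq] at this
    simp only [Fintype.card_sum, Fintype.card_fin] at this
    omega
  refine ⟨m', fun i => ?_⟩
  obtain ⟨e, he⟩ := exists_symp_equiv ((sympBil m F).restrict (D i)) (hA i) (hB i) m'
    (by rw [hD.decomp.finrank_eq, hk])
  refine ⟨e, fun x y => ?_⟩
  rw [he x y]
  show sympBil m F (x : Fin m ⊕ Fin m → F) (y : Fin m ⊕ Fin m → F) = _
  rw [sympBil_apply]

include hD in
/-- every permutation of the members is induced by an element of the stabiliser -/
theorem exists_perm_elt (σ : Equiv.Perm (Fin t)) :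
    ∃ s ∈ HD D, ∀ i, ∀ x ∈ D i, s • x ∈ D (σ i) := by
  obtain ⟨k', hk'⟩ := exists_block_equiv hD
  choose e he using hk'
  let E : (∀ i, D i) ≃ₗ[F] (Fin t → (Fin k' ⊕ Fin k' → F)) := LinearEquiv.piCongrRight e
  let P : (Fin t → (Fin k' ⊕ Fin k' → F)) ≃ₗ[F] (Fin t → (Fin k' ⊕ Fin k' → F)) :=
    LinearEquiv.funCongrLeft F (Fin k' ⊕ Fin k' → F) σ.symm
  let Φ : (Fin m ⊕ Fin m → F) ≃ₗ[F] (Fin m ⊕ Fin m → F) :=
    (equiv hD.decomp).symm.trans (E.trans (P.trans (E.symm.trans (equiv hD.decomp))))
  have hcomp : ∀ (x : Fin m ⊕ Fin m → F) (j : Fin t), comp hD.decomp j (Φ x) =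
      (((e j).symm (e (σ.symm j) ((equiv hD.decomp).symm x (σ.symm j))) : D j) :
        Fin m ⊕ Fin m → F) := by
    intro x j
    rw [DecompGen.comp_apply]
    show ((((equiv hD.decomp).symm ((equiv hD.decomp) (E.symm (P (E ((equiv hD.decomp).symm x))))))
      j : D j) : Fin m ⊕ Fin m → F) = _
    rw [LinearEquiv.symm_apply_apply]
    rfl
  have hiso : ∀ x y, sympBil m F (Φ x) (Φ y) = sympBil m F x y := by
    intro x y
    rw [sympBil_apply, sympBil_apply]
    show Bf (Φ x) (Φ y) = Bf x y
    rw [Bf_comp hD (Φ x) (Φ y), Bf_comp hD x y]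
    rw [← Equiv.sum_comp σ.symm (fun i => Bf (comp hD.decomp i x) (comp hD.decomp i y))]
    apply Finset.sum_congr rfl
    intro j _
    rw [hcomp x j, hcomp y j, ← he j, LinearEquiv.apply_symm_apply, LinearEquiv.apply_symm_apply,
      he (σ.symm j)]
    rfl
  obtain ⟨s, hsdef⟩ : ∃ s : Matrix.symplecticGroup (Fin m) F,
      s = (sympMulEquiv m).symm ⟨Φ, hiso⟩ := ⟨_, rfl⟩
  have hs : ∀ x : Fin m ⊕ Fin m → F, s • x = Φ x := by
    intro x
    have h1 := sympMulEquiv_apply m s x
    rw [hsdef, MulEquiv.apply_symm_apply] at h1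
    rw [hsdef]
    exact h1.symm
  have hmaps : ∀ i, ∀ x ∈ D i, s • x ∈ D (σ i) := by
    intro i x hx
    rw [hs x]
    have : Φ x = comp hD.decomp (σ i) (Φ x) := by
      apply ext_comp hD
      intro j
      by_cases hj : j = σ i
      · subst hj
        rw [comp_comp_same hD]
      · rw [comp_comp_ne hD j (σ i) hj, hcomp x j]
        have hne : σ.symm j ≠ i := by
          intro h
          apply hj
          rw [← h, Equiv.apply_symm_apply]
        have h0 : (equiv hD.decomp).symm x (σ.symm j) = 0 := by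
          apply Subtype.ext
          have := comp_of_mem_ne hD.decomp (σ.symm j) i hne x hx
          rw [DecompGen.comp_apply] at this
          exact this
        rw [h0, map_zero, map_zero]
        rfl
    rw [this]
    exact comp_mem hD.decomp (σ i) _
  exact ⟨s, mem_HD_of_maps hD s σ hmaps, hmaps⟩

/-- components of the image under an element permuting the members -/
theorem comp_perm (s : Matrix.symplecticGroup (Fin m) F) (σ : Equiv.Perm (Fin t))
    (hs : ∀ i, ∀ x ∈ D i, s • x ∈ D (σ i)) (i : Fin t) (v : Fin m ⊕ Fin m → F) :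
    comp hD.decomp (σ i) (s • v) = s • comp hD.decomp i v := by
  have hmem : ∀ j, s • comp hD.decomp (σ.symm j) v ∈ D j := by
    intro j
    have := hs (σ.symm j) _ (comp_mem hD.decomp (σ.symm j) v)
    rwa [Equiv.apply_symm_apply] at this
  have := comp_unique hD.decomp (fun j => ⟨_, hmem j⟩) (s • v) (by
    show ∑ j, s • comp hD.decomp (σ.symm j) v = _
    rw [Equiv.sum_comp σ.symm (fun j => s • comp hD.decomp j v), ← Finset.smul_sum, sum_comp])
    (σ i)
  rw [this]
  show s • comp hD.decomp (σ.symm (σ i)) v = _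
  rw [Equiv.symm_apply_apply]

theorem exists_perm_two (a b a' b' : Fin t) (hab : a ≠ b) (hab' : a' ≠ b') :
    ∃ σ : Equiv.Perm (Fin t), σ a = a' ∧ σ b = b' := by
  have h1 : Equiv.swap a a' b ≠ a' := by
    intro h
    have : Equiv.swap a a' b = Equiv.swap a a' a := by rw [h, Equiv.swap_apply_left]
    exact hab (Equiv.injective _ this).symm
  refine ⟨(Equiv.swap a a').trans (Equiv.swap (Equiv.swap a a' b) b'), ?_, ?_⟩
  · rw [Equiv.trans_apply, Equiv.swap_apply_left,
      Equiv.swap_apply_of_ne_of_ne (Ne.symm h1) hab']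
  · rw [Equiv.trans_apply, Equiv.swap_apply_left]

section fin2

variable [Fintype F]

/-- all vectors with exactly two non-zero components are centres -/
theorem two_all (M : Subgroup (Matrix.symplecticGroup (Fin m) F)) (hHM : HD D ≤ M)
    (v₂ : Fin m ⊕ Fin m → F) (hv₂ : v₂ ∈ Cen M) (hc₂ : cnt hD v₂ = 2)
    (u : Fin m ⊕ Fin m → F) (hu : cnt hD u = 2) : u ∈ Cen M := by
  unfold cnt at hc₂ hu
  obtain ⟨a, b, hab, hsv⟩ := Finset.card_eq_two.mp hc₂
  obtain ⟨a', b', hab', hsu⟩ := Finset.card_eq_two.mp hu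
  obtain ⟨σ, hσa, hσb⟩ := exists_perm_two a b a' b' hab hab'
  obtain ⟨s, hsH, hsmaps⟩ := exists_perm_elt hD σ
  have hsv₂ := cen_smul M s (hHM hsH) v₂ hv₂
  apply cen_same_supp hD M hHM _ u hsv₂
  intro j
  obtain ⟨i, rfl⟩ := σ.surjective j
  rw [comp_perm hD s σ hsmaps i v₂]
  have h1 : s • comp hD.decomp i v₂ = 0 ↔ comp hD.decomp i v₂ = 0 := by
    constructor
    · intro h
      have := congrArg (fun z => s⁻¹ • z) h
      simpa using this
    · intro h; rw [h, smul_zero]
  rw [h1]
  have h2 : comp hD.decomp i v₂ = 0 ↔ i ∉ ({a, b} : Finset (Fin t)) := by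
    rw [← hsv, Finset.mem_filter]
    simp
  have h3 : comp hD.decomp (σ i) u = 0 ↔ σ i ∉ ({a', b'} : Finset (Fin t)) := by
    rw [← hsu, Finset.mem_filter]
    simp
  rw [h2, h3, Finset.mem_insert, Finset.mem_singleton, Finset.mem_insert, Finset.mem_singleton,
    ← hσa, ← hσb, σ.injective.eq_iff, σ.injective.eq_iff]

include hD in
/-- a subgroup properly containing the stabiliser of the decomposition is the whole group -/
theorem imprim_top (hex : ¬ (k = 2 ∧ Fintype.card F = 2))
    (M : Subgroup (Matrix.symplecticGroup (Fin m) F)) (hHM : HD D ≤ M) (hM : M ≠ HD D) :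
    M = ⊤ := by
  obtain ⟨g, hgM, hg⟩ : ∃ g ∈ M, g ∉ HD D := by
    by_contra hcon
    push Not at hcon
    exact hM (le_antisymm hcon hHM)
  obtain ⟨v₂, hv₂, hc₂⟩ := exists_two hD hex M hHM g hgM hg
  have hall := all_of_two hD M hHM (fun u hu => two_all hD M hHM v₂ hv₂ hc₂ u hu)
  rw [eq_top_iff, ← tvGroup_top_eq_top]
  unfold tvGroup
  rw [Subgroup.closure_le]
  rintro g ⟨x, -, c, rfl⟩
  exact hall x c

include hD in
theorem hd_ne_top : HD D ≠ ⊤ := by
  intro htop
  have ht := hD.decomp.two_le
  obtain ⟨i₀, hi₀⟩ : ∃ i₀ : Fin t, i₀ = ⟨0, by omega⟩ := ⟨_, rfl⟩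
  obtain ⟨i₁, hi₁⟩ : ∃ i₁ : Fin t, i₁ = ⟨1, by omega⟩ := ⟨_, rfl⟩
  have h01 : i₀ ≠ i₁ := by
    rw [hi₀, hi₁]
    intro h
    simp [Fin.ext_iff] at h
  have hnz : ∀ i, ∃ v ∈ D i, v ≠ 0 := by
    intro i
    have hpos : 0 < Module.finrank F (D i) := by
      rw [hD.decomp.finrank_eq]
      exact hD.decomp.pos
    obtain ⟨⟨v, hv⟩, hv0⟩ := Module.finrank_pos_iff_exists_ne_zero.mp hpos
    exact ⟨v, hv, fun h => hv0 (Subtype.ext h)⟩
  obtain ⟨x₀, hx₀, hx₀0⟩ := hnz i₀
  obtain ⟨x₁, hx₁, hx₁0⟩ := hnz i₁
  obtain ⟨w₁, hw₁, hxw⟩ := isND hD i₀ x₀ hx₀ hx₀0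
  have hg : tv (x₀ + x₁) 1 ∈ HD D := by rw [htop]; exact Subgroup.mem_top _
  obtain ⟨σ, hσ⟩ := maps_of_mem_HD _ hg
  have hmem := hσ i₀ w₁ hw₁
  have hβ : Bf w₁ (x₀ + x₁) = Bf w₁ x₀ := by
    rw [Bf_add_right]
    have : Bf w₁ x₁ = 0 := hD.orthogonal i₀ i₁ h01 w₁ hw₁ x₁ hx₁
    rw [this, add_zero]
  have hβ0 : Bf w₁ x₀ ≠ 0 := by
    rw [Bf_skew]; exact neg_ne_zero.mpr hxw
  rw [tv_smul, hβ, one_mul, smul_add] at hmem
  have hc0 : comp hD.decomp i₀ (w₁ + (Bf w₁ x₀ • x₀ + Bf w₁ x₀ • x₁)) = w₁ + Bf w₁ x₀ • x₀ := by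
    rw [comp_add hD, comp_add hD, comp_of_mem_same hD.decomp i₀ w₁ hw₁,
      comp_of_mem_same hD.decomp i₀ _ ((D i₀).smul_mem _ hx₀),
      comp_of_mem_ne hD.decomp i₀ i₁ h01 _ ((D i₁).smul_mem _ hx₁), add_zero]
  have hc1 : comp hD.decomp i₁ (w₁ + (Bf w₁ x₀ • x₀ + Bf w₁ x₀ • x₁)) = Bf w₁ x₀ • x₁ := by
    rw [comp_add hD, comp_add hD, comp_of_mem_ne hD.decomp i₁ i₀ (Ne.symm h01) w₁ hw₁,
      comp_of_mem_ne hD.decomp i₁ i₀ (Ne.symm h01) _ ((D i₀).smul_mem _ hx₀),
      comp_of_mem_same hD.decomp i₁ _ ((D i₁).smul_mem _ hx₁), zero_add, zero_add]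
  refine not_mem_of_two hD.decomp i₀ i₁ h01 _ ?_ ?_ (σ i₀) hmem
  · rw [hc0]
    intro h0
    have : Bf x₀ (w₁ + Bf w₁ x₀ • x₀) = Bf x₀ w₁ := by
      rw [Bf_add_right, Bf_smul_right, Bf_self, mul_zero, add_zero]
    rw [h0, Bf_zero_right] at this
    exact hxw this.symm
  · rw [hc1]
    exact smul_ne_zero hβ0 hx₁0

end fin2

end decomp

end Cfsg.Agent.Helper28.SpImprim
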