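import Mathlib
import Cfsg.Agent.Lib.Helper28.SpSingMax

/-!
# Subfield subgroups of the symplectic group (helper28), part A: rational vectors,
short root elements and transitivity of the rational transvection group
-/

set_option autoImplicit false

namespace Cfsg.Agent.H28SpSub

open Cfsg Matrix Cfsg.Agent.Helper2.Symp Cfsg.Agent.Helper28.SpSingMax
open scoped Cfsg.Agent.Helper2.Symp

variable {F : Type*} [Field F] {m : ℕ}

/-- rational vectors -/
def RatV (F₀ : Subfield F) (v : Fin m ⊕ Fin m → F) : Prop := ∀ i, v i ∈ F₀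

section rat

variable (F₀ : Subfield F)

theorem ratV_zero : RatV F₀ (0 : Fin m ⊕ Fin m → F) := fun _ => F₀.zero_mem

variable {F₀}

theorem ratV_add {u v : Fin m ⊕ Fin m → F} (hu : RatV F₀ u) (hv : RatV F₀ v) : RatV F₀ (u + v) :=
  fun i => F₀.add_mem (hu i) (hv i)

theorem ratV_sub {u v : Fin m ⊕ Fin m → F} (hu : RatV F₀ u) (hv : RatV F₀ v) : RatV F₀ (u - v) :=
  fun i => F₀.sub_mem (hu i) (hv i)

theorem ratV_neg {u : Fin m ⊕ Fin m → F} (hu : RatV F₀ u) : RatV F₀ (-u) :=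
  fun i => F₀.neg_mem (hu i)

theorem ratV_smul {c : F} (hc : c ∈ F₀) {u : Fin m ⊕ Fin m → F} (hu : RatV F₀ u) :
    RatV F₀ (c • u) :=
  fun i => F₀.mul_mem hc (hu i)

variable (F₀)

theorem ratV_eV (i : Fin m) : RatV F₀ (eV i : Fin m ⊕ Fin m → F) := by
  intro j
  unfold eV
  by_cases h : j = Sum.inl i
  · rw [h, Pi.single_eq_same]
    exact F₀.one_mem
  · rw [Pi.single_eq_of_ne h]
    exact F₀.zero_mem

theorem ratV_fV (i : Fin m) : RatV F₀ (fV i : Fin m ⊕ Fin m → F) := by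
  intro j
  unfold fV
  by_cases h : j = Sum.inr i
  · rw [h, Pi.single_eq_same]
    exact F₀.one_mem
  · rw [Pi.single_eq_of_ne h]
    exact F₀.zero_mem

theorem J_mem (i j : Fin m ⊕ Fin m) : (Matrix.J (Fin m) F) i j ∈ F₀ := by
  rcases i with i | i <;> rcases j with j | j
  · rw [Matrix.J, Matrix.fromBlocks_apply₁₁]
    exact F₀.zero_mem
  · rw [Matrix.J, Matrix.fromBlocks_apply₁₂, Matrix.neg_apply, Matrix.one_apply]
    split_ifs
    · exact F₀.neg_mem F₀.one_mem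
    · rw [neg_zero]
      exact F₀.zero_mem
  · rw [Matrix.J, Matrix.fromBlocks_apply₂₁, Matrix.one_apply]
    split_ifs
    · exact F₀.one_mem
    · exact F₀.zero_mem
  · rw [Matrix.J, Matrix.fromBlocks_apply₂₂]
    exact F₀.zero_mem

variable {F₀}

theorem ratV_Bf {u v : Fin m ⊕ Fin m → F} (hu : RatV F₀ u) (hv : RatV F₀ v) : Bf u v ∈ F₀ := by
  rw [Bf_def, dotProduct]
  apply F₀.sum_mem
  intro i _
  apply F₀.mul_mem (hu i)
  rw [Matrix.mulVec, dotProduct]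
  apply F₀.sum_mem
  intro j _
  exact F₀.mul_mem (J_mem F₀ i j) (hv j)

theorem mem_of_ratV_smul {e : Fin m ⊕ Fin m → F} (he : RatV F₀ e) (he0 : e ≠ 0) {t : F}
    (ht : RatV F₀ (t • e)) : t ∈ F₀ := by
  obtain ⟨i, hi⟩ : ∃ i, e i ≠ 0 := by
    by_contra hcon
    push Not at hcon
    exact he0 (funext hcon)
  have h1 : t = (t • e) i * (e i)⁻¹ := by
    rw [Pi.smul_apply, smul_eq_mul, mul_assoc, mul_inv_cancel₀ hi, mul_one]
  rw [h1]
  exact F₀.mul_mem (ht i) (F₀.inv_mem (he i))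

end rat

/-! ### coordinates of the standard vectors -/

theorem eV_inl_same (i : Fin m) : (eV i : Fin m ⊕ Fin m → F) (Sum.inl i) = 1 := by
  simp [eV]

theorem eV_inl_ne {i j : Fin m} (h : j ≠ i) : (eV i : Fin m ⊕ Fin m → F) (Sum.inl j) = 0 := by
  simp [eV, h]

theorem eV_inr (i j : Fin m) : (eV i : Fin m ⊕ Fin m → F) (Sum.inr j) = 0 := by
  simp [eV]

theorem fV_inr_same (i : Fin m) : (fV i : Fin m ⊕ Fin m → F) (Sum.inr i) = 1 := by
  simp [fV]

theorem fV_inr_ne {i j : Fin m} (h : j ≠ i) : (fV i : Fin m ⊕ Fin m → F) (Sum.inr j) = 0 := by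
  simp [fV, h]

theorem fV_inl (i j : Fin m) : (fV i : Fin m ⊕ Fin m → F) (Sum.inl j) = 0 := by
  simp [fV]

theorem Bf_eV_eV (i j : Fin m) : Bf (eV i : Fin m ⊕ Fin m → F) (eV j) = 0 := by
  rw [Bf_eV_right, eV_inr]

theorem Bf_fV_fV (i j : Fin m) : Bf (fV i : Fin m ⊕ Fin m → F) (fV j) = 0 := by
  rw [Bf_fV_right, fV_inl, neg_zero]

theorem Bf_fV_eV_ne {i j : Fin m} (h : i ≠ j) : Bf (fV i : Fin m ⊕ Fin m → F) (eV j) = 0 := by
  rw [Bf_eV_right, fV_inr_ne (Ne.symm h)]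

theorem Bf_eV_fV_ne {i j : Fin m} (h : i ≠ j) : Bf (eV i : Fin m ⊕ Fin m → F) (fV j) = 0 := by
  rw [Bf_fV_right, eV_inl_ne (Ne.symm h), neg_zero]

theorem Bf_eV_fV (i : Fin m) : Bf (eV i : Fin m ⊕ Fin m → F) (fV i) = -1 := by
  rw [Bf_fV_right, eV_inl_same]

/-! ### short root elements -/

/-- the element `x ↦ x + c (B(x,a) b + B(x,b) a)` for orthogonal `a`, `b` -/
def sr (a b : Fin m ⊕ Fin m → F) (c : F) : Matrix.symplecticGroup (Fin m) F :=
  tv (a + b) c * tv a (-c) * tv b (-c)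

theorem sr_smul (a b : Fin m ⊕ Fin m → F) (hab : Bf a b = 0) (c : F) (x : Fin m ⊕ Fin m → F) :
    sr a b c • x = x + c • (Bf x a • b + Bf x b • a) := by
  have hba : Bf b a = 0 := by rw [Bf_skew, hab, neg_zero]
  unfold sr
  rw [mul_smul, mul_smul, tv_smul, tv_smul, tv_smul]
  simp only [Bf_add_left, Bf_add_right, Bf_smul_left, Bf_self, hab, hba, mul_zero, add_zero]
  module

theorem conj_sr (g : Matrix.symplecticGroup (Fin m) F) (a b : Fin m ⊕ Fin m → F) (c : F) :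
    g * sr a b c * g⁻¹ = sr (g • a) (g • b) c := by
  unfold sr
  rw [← smul_add, ← conj_tv, ← conj_tv, ← conj_tv]
  group

theorem sr_zero (a b : Fin m ⊕ Fin m → F) : sr a b (0 : F) = 1 := by
  unfold sr
  rw [neg_zero, tv_zero_right, tv_zero_right, tv_zero_right, mul_one, mul_one]

theorem sr_mul (a b : Fin m ⊕ Fin m → F) (hab : Bf a b = 0) (c d : F) :
    sr a b c * sr a b d = sr a b (c + d) := by
  have hba : Bf b a = 0 := by rw [Bf_skew, hab, neg_zero]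
  apply ext_smul
  intro x
  rw [mul_smul, sr_smul a b hab, sr_smul a b hab, sr_smul a b hab]
  simp only [Bf_add_left, Bf_smul_left, Bf_self, hab, hba, mul_zero, add_zero]
  module

theorem sr_inv (a b : Fin m ⊕ Fin m → F) (hab : Bf a b = 0) (c : F) :
    (sr a b c)⁻¹ = sr a b (-c) := by
  rw [inv_eq_iff_mul_eq_one, sr_mul a b hab, add_neg_cancel, sr_zero]

theorem sr_symm (a b : Fin m ⊕ Fin m → F) (hab : Bf a b = 0) (c : F) :
    sr a b c = sr b a c := by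
  have hba : Bf b a = 0 := by rw [Bf_skew, hab, neg_zero]
  apply ext_smul
  intro x
  rw [sr_smul a b hab, sr_smul b a hba]
  module

theorem sr_smul_left (a b : Fin m ⊕ Fin m → F) (hab : Bf a b = 0) (t c : F) :
    sr (t • a) b c = sr a b (t * c) := by
  have h1 : Bf (t • a) b = 0 := by rw [Bf_smul_left, hab, mul_zero]
  apply ext_smul
  intro x
  rw [sr_smul _ b h1, sr_smul a b hab, Bf_smul_right]
  module

theorem sr_smul_right (a b : Fin m ⊕ Fin m → F) (hab : Bf a b = 0) (t c : F) :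
    sr a (t • b) c = sr a b (t * c) := by
  have h1 : Bf a (t • b) = 0 := by rw [Bf_smul_right, hab, mul_zero]
  apply ext_smul
  intro x
  rw [sr_smul a _ h1, sr_smul a b hab, Bf_smul_right]
  module

theorem sr_add_left (a a' b : Fin m ⊕ Fin m → F) (hab : Bf a b = 0) (ha'b : Bf a' b = 0)
    (haa' : Bf a a' = 0) (c : F) : sr (a + a') b c = sr a b c * sr a' b c := by
  have hba : Bf b a = 0 := by rw [Bf_skew, hab, neg_zero]
  have ha'a : Bf a' a = 0 := by rw [Bf_skew, haa', neg_zero]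
  have h1 : Bf (a + a') b = 0 := by rw [Bf_add_left, hab, ha'b, add_zero]
  apply ext_smul
  intro x
  rw [mul_smul, sr_smul _ b h1, sr_smul a b hab, sr_smul a' b ha'b]
  simp only [Bf_add_left, Bf_add_right, Bf_smul_left, Bf_self, hab, ha'b, hba, ha'a, mul_zero,
    add_zero]
  module

theorem tv_add_orth (v w : Fin m ⊕ Fin m → F) (h : Bf v w = 0) (c : F) :
    tv (v + w) c = tv v c * tv w c * sr v w c := by
  have h' : Bf w v = 0 := by rw [Bf_skew, h, neg_zero]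
  apply ext_smul
  intro x
  rw [mul_smul, mul_smul, sr_smul v w h, tv_smul, tv_smul, tv_smul]
  simp only [Bf_add_left, Bf_add_right, Bf_smul_left, Bf_self, h, h', mul_zero, add_zero]
  module

/-! ### the rational transvection group -/

/-- the group generated by the rational transvections -/
def R0 (m : ℕ) (F₀ : Subfield F) : Subgroup (Matrix.symplecticGroup (Fin m) F) :=
  Subgroup.closure {g | ∃ (v : Fin m ⊕ Fin m → F) (c : F), RatV F₀ v ∧ c ∈ F₀ ∧ g = tv v c}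

section R0

variable {F₀ : Subfield F}

theorem tv_mem_R0 {v : Fin m ⊕ Fin m → F} (hv : RatV F₀ v) {c : F} (hc : c ∈ F₀) :
    tv v c ∈ R0 m F₀ :=
  Subgroup.subset_closure ⟨v, c, hv, hc, rfl⟩

theorem sr_mem_R0 {a b : Fin m ⊕ Fin m → F} (ha : RatV F₀ a) (hb : RatV F₀ b) {c : F}
    (hc : c ∈ F₀) : sr a b c ∈ R0 m F₀ := by
  unfold sr
  exact Subgroup.mul_mem _ (Subgroup.mul_mem _ (tv_mem_R0 (ratV_add ha hb) hc)
    (tv_mem_R0 ha (F₀.neg_mem hc))) (tv_mem_R0 hb (F₀.neg_mem hc))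

theorem ratV_tv_smul {v : Fin m ⊕ Fin m → F} (hv : RatV F₀ v) {c : F} (hc : c ∈ F₀)
    {x : Fin m ⊕ Fin m → F} (hx : RatV F₀ x) : RatV F₀ (tv v c • x) := by
  rw [tv_smul]
  exact ratV_add hx (ratV_smul (F₀.mul_mem hc (ratV_Bf hx hv)) hv)

theorem ratV_smul_R0 {g : Matrix.symplecticGroup (Fin m) F} (hg : g ∈ R0 m F₀) :
    ∀ x : Fin m ⊕ Fin m → F, RatV F₀ x → RatV F₀ (g • x) ∧ RatV F₀ (g⁻¹ • x) := by
  induction hg using Subgroup.closure_induction with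
  | mem g hg =>
    obtain ⟨v, c, hv, hc, rfl⟩ := hg
    intro x hx
    refine ⟨ratV_tv_smul hv hc hx, ?_⟩
    rw [tv_inv]
    exact ratV_tv_smul hv (F₀.neg_mem hc) hx
  | one =>
    intro x hx
    simp only [one_smul, inv_one]
    exact ⟨hx, hx⟩
  | mul g h _ _ ihg ihh =>
    intro x hx
    constructor
    · rw [mul_smul]
      exact (ihg _ (ihh x hx).1).1
    · rw [_root_.mul_inv_rev, mul_smul]
      exact (ihh _ (ihg x hx).2).2
  | inv g _ ih =>
    intro x hx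
    rw [inv_inv]
    exact ⟨(ih x hx).2, (ih x hx).1⟩

theorem exists_ratV_Bf_ne {u : Fin m ⊕ Fin m → F} (hu : u ≠ 0) :
    ∃ x, RatV F₀ x ∧ Bf u x ≠ 0 := by
  obtain ⟨j, hj⟩ : ∃ j, u j ≠ 0 := by
    by_contra hcon
    push Not at hcon
    exact hu (funext hcon)
  rcases j with i | i
  · refine ⟨fV i, ratV_fV F₀ i, ?_⟩
    rw [Bf_fV_right]
    exact neg_ne_zero.2 hj
  · refine ⟨eV i, ratV_eV F₀ i, ?_⟩
    rw [Bf_eV_right]
    exact hj

theorem exists_ratV_avoid {u w : Fin m ⊕ Fin m → F} (hu0 : u ≠ 0) (hw0 : w ≠ 0) :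
    ∃ x, RatV F₀ x ∧ Bf u x ≠ 0 ∧ Bf w x ≠ 0 := by
  obtain ⟨x₁, hx₁, h₁⟩ := exists_ratV_Bf_ne (F₀ := F₀) hu0
  obtain ⟨x₂, hx₂, h₂⟩ := exists_ratV_Bf_ne (F₀ := F₀) hw0
  by_cases h3 : Bf w x₁ = 0
  · by_cases h4 : Bf u x₂ = 0
    · refine ⟨x₁ + x₂, ratV_add hx₁ hx₂, ?_, ?_⟩
      · rw [Bf_add_right, h4, add_zero]; exact h₁
      · rw [Bf_add_right, h3, zero_add]; exact h₂
    · exact ⟨x₂, hx₂, h4, h₂⟩
  · exact ⟨x₁, hx₁, h₁, h3⟩

theorem ratTrans_vec_aux {u w : Fin m ⊕ Fin m → F} (hu : RatV F₀ u) (hw : RatV F₀ w)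
    (h : Bf u w ≠ 0) : ∃ g ∈ R0 m F₀, g • u = w := by
  refine ⟨tv (w - u) (Bf u w)⁻¹, tv_mem_R0 (ratV_sub hw hu) (F₀.inv_mem (ratV_Bf hu hw)), ?_⟩
  rw [tv_smul, Bf_sub_right, Bf_self, sub_zero, inv_mul_cancel₀ h, one_smul]
  abel

/-- the rational transvection group is transitive on the nonzero rational vectors -/
theorem ratTrans_vec {u w : Fin m ⊕ Fin m → F} (hu : RatV F₀ u) (hw : RatV F₀ w)
    (hu0 : u ≠ 0) (hw0 : w ≠ 0) : ∃ g ∈ R0 m F₀, g • u = w := by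
  by_cases h : Bf u w = 0
  · obtain ⟨x, hx, h1, h2⟩ := exists_ratV_avoid (F₀ := F₀) hu0 hw0
    obtain ⟨g₁, hg₁, e₁⟩ := ratTrans_vec_aux hu hx h1
    have h2' : Bf x w ≠ 0 := by rw [Bf_skew]; exact neg_ne_zero.2 h2
    obtain ⟨g₂, hg₂, e₂⟩ := ratTrans_vec_aux hx hw h2'
    exact ⟨g₂ * g₁, (R0 m F₀).mul_mem hg₂ hg₁, by rw [mul_smul, e₁, e₂]⟩
  · exact ratTrans_vec_aux hu hw h

end R0

/-! ### rational orthogonal pairs -/

/-- a pair of linearly independent orthogonal rational vectors -/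
structure RatPair (F₀ : Subfield F) (a b : Fin m ⊕ Fin m → F) : Prop where
  ra : RatV F₀ a
  rb : RatV F₀ b
  orth : Bf a b = 0
  ne : a ≠ 0
  ind : ∀ t : F, b ≠ t • a

section pairs

variable {F₀ : Subfield F}

theorem RatPair.smul {a b : Fin m ⊕ Fin m → F} (h : RatPair F₀ a b)
    {g : Matrix.symplecticGroup (Fin m) F} (hg : g ∈ R0 m F₀) : RatPair F₀ (g • a) (g • b) where
  ra := (ratV_smul_R0 hg a h.ra).1
  rb := (ratV_smul_R0 hg b h.rb).1
  orth := by rw [Bf_smul_smul, h.orth]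
  ne := by
    intro h0
    apply h.ne
    have := congrArg (fun x => g⁻¹ • x) h0
    simpa using this
  ind := by
    intro t h0
    apply h.ind t
    have := congrArg (fun x => g⁻¹ • x) h0
    simp only [inv_smul_smul] at this
    rw [this, smul_comm, inv_smul_smul]

theorem RatPair.ne_right {a b : Fin m ⊕ Fin m → F} (h : RatPair F₀ a b) : b ≠ 0 := by
  intro h0
  apply h.ind 0
  rw [h0, zero_smul]

theorem exists_sep {a b : Fin m ⊕ Fin m → F} (ha : RatV F₀ a) (_hb : RatV F₀ b) (ha0 : a ≠ 0)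
    (hind : ∀ t : F, b ≠ t • a) : ∃ z, RatV F₀ z ∧ Bf a z = 0 ∧ Bf b z ≠ 0 := by
  by_contra hcon
  push Not at hcon
  obtain ⟨w, hw, haw⟩ := exists_ratV_Bf_ne (F₀ := F₀) ha0
  apply hind (Bf b w * (Bf a w)⁻¹)
  have key : ∀ x, RatV F₀ x → Bf (b - (Bf b w * (Bf a w)⁻¹) • a) x = 0 := by
    intro x hx
    have hz : RatV F₀ (x - (Bf a x * (Bf a w)⁻¹) • w) :=
      ratV_sub hx (ratV_smul (F₀.mul_mem (ratV_Bf ha hx) (F₀.inv_mem (ratV_Bf ha hw))) hw)
    have h1 : Bf a (x - (Bf a x * (Bf a w)⁻¹) • w) = 0 := by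
      rw [Bf_sub_right, Bf_smul_right, mul_assoc, inv_mul_cancel₀ haw, mul_one, sub_self]
    have h2 := hcon _ hz h1
    rw [Bf_sub_right, Bf_smul_right, sub_eq_zero] at h2
    rw [Bf_sub_left, Bf_smul_left, h2]
    field_simp
    ring
  have h0 : b - (Bf b w * (Bf a w)⁻¹) • a = 0 := by
    by_contra hne
    obtain ⟨x, hx, hx'⟩ := exists_ratV_Bf_ne (F₀ := F₀) hne
    exact hx' (key x hx)
  exact sub_eq_zero.mp h0

theorem ratTrans_fix_aux {a b b' : Fin m ⊕ Fin m → F} (h : RatPair F₀ a b) (h' : RatPair F₀ a b')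
    (hbb' : Bf b b' ≠ 0) : ∃ g ∈ R0 m F₀, g • a = a ∧ g • b = b' := by
  refine ⟨tv (b' - b) (Bf b b')⁻¹,
    tv_mem_R0 (ratV_sub h'.rb h.rb) (F₀.inv_mem (ratV_Bf h.rb h'.rb)), ?_, ?_⟩
  · rw [tv_smul, Bf_sub_right, h.orth, h'.orth, sub_self, mul_zero, zero_smul, add_zero]
  · rw [tv_smul, Bf_sub_right, Bf_self, sub_zero, inv_mul_cancel₀ hbb', one_smul]
    abel

theorem ratTrans_fix {a b b' : Fin m ⊕ Fin m → F} (h : RatPair F₀ a b) (h' : RatPair F₀ a b') :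
    ∃ g ∈ R0 m F₀, g • a = a ∧ g • b = b' := by
  by_cases hbb' : Bf b b' = 0
  · -- find a rational `z` orthogonal to `a`, not orthogonal to `b` and `b'`
    obtain ⟨z₁, hz₁, haz₁, hbz₁⟩ := exists_sep h.ra h.rb h.ne h.ind
    obtain ⟨z₂, hz₂, haz₂, hbz₂⟩ := exists_sep h'.ra h'.rb h'.ne h'.ind
    obtain ⟨z, hz, haz, hbz, hb'z⟩ : ∃ z, RatV F₀ z ∧ Bf a z = 0 ∧ Bf b z ≠ 0 ∧ Bf b' z ≠ 0 := by
      by_cases h3 : Bf b' z₁ = 0
      · by_cases h4 : Bf b z₂ = 0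
        · refine ⟨z₁ + z₂, ratV_add hz₁ hz₂, ?_, ?_, ?_⟩
          · rw [Bf_add_right, haz₁, haz₂, add_zero]
          · rw [Bf_add_right, h4, add_zero]; exact hbz₁
          · rw [Bf_add_right, h3, zero_add]; exact hbz₂
        · exact ⟨z₂, hz₂, haz₂, h4, hbz₂⟩
      · exact ⟨z₁, hz₁, haz₁, hbz₁, h3⟩
    have hpz : RatPair F₀ a z :=
      { ra := h.ra
        rb := hz
        orth := haz
        ne := h.ne
        ind := by
          intro t h0
          apply hbz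
          rw [h0, Bf_smul_right, Bf_skew, h.orth, neg_zero, mul_zero] }
    obtain ⟨g₁, hg₁, a₁, b₁⟩ := ratTrans_fix_aux h hpz hbz
    have hzb' : Bf z b' ≠ 0 := by rw [Bf_skew]; exact neg_ne_zero.2 hb'z
    obtain ⟨g₂, hg₂, a₂, b₂⟩ := ratTrans_fix_aux hpz h' hzb'
    exact ⟨g₂ * g₁, (R0 m F₀).mul_mem hg₂ hg₁, by rw [mul_smul, a₁, a₂], by rw [mul_smul, b₁, b₂]⟩
  · exact ratTrans_fix_aux h h' hbb'

/-- the rational transvection group is transitive on the rational orthogonal pairs -/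
theorem ratTrans_pair {a b a' b' : Fin m ⊕ Fin m → F} (h : RatPair F₀ a b)
    (h' : RatPair F₀ a' b') : ∃ g ∈ R0 m F₀, g • a = a' ∧ g • b = b' := by
  obtain ⟨g₁, hg₁, e₁⟩ := ratTrans_vec h.ra h'.ra h.ne h'.ne
  have h1 : RatPair F₀ a' (g₁ • b) := by
    have := h.smul hg₁
    rwa [e₁] at this
  obtain ⟨g₂, hg₂, a₂, b₂⟩ := ratTrans_fix h1 h'
  exact ⟨g₂ * g₁, (R0 m F₀).mul_mem hg₂ hg₁, by rw [mul_smul, e₁, a₂], by rw [mul_smul, b₂]⟩

variable (F₀)

theorem ratPair_eV_eV {i j : Fin m} (hij : i ≠ j) :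
    RatPair F₀ (eV i : Fin m ⊕ Fin m → F) (eV j) where
  ra := ratV_eV F₀ i
  rb := ratV_eV F₀ j
  orth := Bf_eV_eV i j
  ne := eV_ne_zero i
  ind := by
    intro t h
    have := congrFun h (Sum.inl j)
    rw [eV_inl_same, Pi.smul_apply, eV_inl_ne (Ne.symm hij), smul_zero] at this
    exact one_ne_zero this

theorem ratPair_fV_eV {i j : Fin m} (hij : i ≠ j) :
    RatPair F₀ (fV i : Fin m ⊕ Fin m → F) (eV j) where
  ra := ratV_fV F₀ i
  rb := ratV_eV F₀ j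
  orth := Bf_fV_eV_ne hij
  ne := fV_ne_zero i
  ind := by
    intro t h
    have := congrFun h (Sum.inl j)
    rw [eV_inl_same, Pi.smul_apply, fV_inl, smul_zero] at this
    exact one_ne_zero this

theorem ratPair_eV_fV {i j : Fin m} (hij : i ≠ j) :
    RatPair F₀ (eV i : Fin m ⊕ Fin m → F) (fV j) where
  ra := ratV_eV F₀ i
  rb := ratV_fV F₀ j
  orth := Bf_eV_fV_ne hij
  ne := eV_ne_zero i
  ind := by
    intro t h
    have := congrFun h (Sum.inr j)
    rw [fV_inr_same, Pi.smul_apply, eV_inr, smul_zero] at this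
    exact one_ne_zero this

end pairs

end Cfsg.Agent.H28SpSub
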