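import Mathlib
import Cfsg.Agent.Lib.Helper28.SpSubA
import Cfsg.Agent.Lib.Helper28.SubfA

/-!
# Subfield subgroups of the symplectic group (helper28), part B: an irrational short root
element forces the whole symplectic group
-/

set_option autoImplicit false

namespace Cfsg.Agent.H28SpSub

open Cfsg Matrix Cfsg.Agent.Helper2.Symp Cfsg.Agent.Helper28.SpSingMax
open scoped Cfsg.Agent.Helper2.Symp

variable {F : Type*} [Field F] {m : ℕ} {F₀ : Subfield F}
  {M : Subgroup (Matrix.symplecticGroup (Fin m) F)}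

/-- transfer of short root elements between rational pairs -/
theorem sr_transfer (hR : R0 m F₀ ≤ M) {a b a' b' : Fin m ⊕ Fin m → F} (h : RatPair F₀ a b)
    (h' : RatPair F₀ a' b') {c : F} (hc : sr a b c ∈ M) : sr a' b' c ∈ M := by
  obtain ⟨g, hg, e₁, e₂⟩ := ratTrans_pair h h'
  rw [← e₁, ← e₂, ← conj_sr]
  exact M.mul_mem (M.mul_mem (hR hg) hc) (M.inv_mem (hR hg))

/-- transfer of transvections between nonzero rational vectors -/
theorem tv_transfer (hR : R0 m F₀ ≤ M) {a a' : Fin m ⊕ Fin m → F} (ha : RatV F₀ a)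
    (ha' : RatV F₀ a') (ha0 : a ≠ 0) (ha'0 : a' ≠ 0) {c : F} (hc : tv a c ∈ M) : tv a' c ∈ M := by
  obtain ⟨g, hg, e₁⟩ := ratTrans_vec ha ha' ha0 ha'0
  rw [← e₁, ← conj_tv]
  exact M.mul_mem (M.mul_mem (hR hg) hc) (M.inv_mem (hR hg))

theorem sr_comm3 (a b b' c' : Fin m ⊕ Fin m → F) (hab : Bf a b = 0) (hb'c' : Bf b' c' = 0)
    (hac' : Bf a c' = 0) (hbc' : Bf b c' = 0) (hb'a : Bf b' a = 0) (hb'b : Bf b' b = 1) (s t : F) :
    sr a b s * sr b' c' t * (sr a b s)⁻¹ = sr b' c' t * sr a c' (s * t) := by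
  have hc'a : Bf c' a = 0 := by rw [Bf_skew, hac', neg_zero]
  have hc'b : Bf c' b = 0 := by rw [Bf_skew, hbc', neg_zero]
  have e1 : sr a b s • b' = b' + s • a := by
    rw [sr_smul a b hab, hb'a, hb'b, zero_smul, one_smul, zero_add]
  have e2 : sr a b s • c' = c' := by
    rw [sr_smul a b hab, hc'a, hc'b, zero_smul, zero_smul, zero_add, smul_zero, add_zero]
  have h1 : Bf (s • a) c' = 0 := by rw [Bf_smul_left, hac', mul_zero]
  have h2 : Bf b' (s • a) = 0 := by rw [Bf_smul_right, hb'a, mul_zero]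
  rw [conj_sr, e1, e2, sr_add_left b' (s • a) c' hb'c' h1 h2, sr_smul_left a c' hac']

theorem sr_conj_tv (a b w : Fin m ⊕ Fin m → F) (hab : Bf a b = 0) (hwa : Bf w a = 0)
    (hwb : Bf w b = 1) (s τ : F) :
    sr a b s * tv w τ * (sr a b s)⁻¹ = tv w τ * tv a (s * s * τ) * sr w a (s * τ) := by
  have e1 : sr a b s • w = w + s • a := by
    rw [sr_smul a b hab, hwa, hwb, zero_smul, one_smul, zero_add]
  have h1 : Bf w (s • a) = 0 := by rw [Bf_smul_right, hwa, mul_zero]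
  rw [conj_tv, e1, tv_add_orth w (s • a) h1, tv_smul_vec, sr_smul_right w a hwa]

/-- every element of a finite field is a difference of two squares -/
theorem exists_sq_sub_sq [Fintype F] (c : F) : ∃ x y : F, c = x * x - y * y := by
  by_cases h2 : (2 : F) = 0
  · have hchar : ringChar F = 2 := CharP.ringChar_of_prime_eq_zero Nat.prime_two (by exact_mod_cast h2)
    obtain ⟨x, hx⟩ := FiniteField.isSquare_of_char_two hchar c
    exact ⟨x, 0, by rw [hx]; ring⟩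
  · refine ⟨(c + 1) / 2, (c - 1) / 2, ?_⟩
    field_simp
    ring

/-! ### coordinates of transvections along the standard vectors -/

theorem tvE_inl_same (k : Fin m) (c : F) (v : Fin m ⊕ Fin m → F) :
    (tv (eV k) c • v) (Sum.inl k) = v (Sum.inl k) + c * v (Sum.inr k) := by
  rw [tv_smul, Bf_eV_right, Pi.add_apply, Pi.smul_apply, eV_inl_same, smul_eq_mul, mul_one]

theorem tvE_inl_ne {k j : Fin m} (h : j ≠ k) (c : F) (v : Fin m ⊕ Fin m → F) :
    (tv (eV k) c • v) (Sum.inl j) = v (Sum.inl j) := by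
  rw [tv_smul, Pi.add_apply, Pi.smul_apply, eV_inl_ne h, smul_zero, add_zero]

theorem tvE_inr (k j : Fin m) (c : F) (v : Fin m ⊕ Fin m → F) :
    (tv (eV k) c • v) (Sum.inr j) = v (Sum.inr j) := by
  rw [tv_smul, Pi.add_apply, Pi.smul_apply, eV_inr, smul_zero, add_zero]

theorem tvF_inr_same (k : Fin m) (c : F) (v : Fin m ⊕ Fin m → F) :
    (tv (fV k) c • v) (Sum.inr k) = v (Sum.inr k) - c * v (Sum.inl k) := by
  rw [tv_smul, Bf_fV_right, Pi.add_apply, Pi.smul_apply, fV_inr_same, smul_eq_mul, mul_one]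
  ring

theorem tvF_inr_ne {k j : Fin m} (h : j ≠ k) (c : F) (v : Fin m ⊕ Fin m → F) :
    (tv (fV k) c • v) (Sum.inr j) = v (Sum.inr j) := by
  rw [tv_smul, Pi.add_apply, Pi.smul_apply, fV_inr_ne h, smul_zero, add_zero]

theorem tvF_inl (k j : Fin m) (c : F) (v : Fin m ⊕ Fin m → F) :
    (tv (fV k) c • v) (Sum.inl j) = v (Sum.inl j) := by
  rw [tv_smul, Pi.add_apply, Pi.smul_apply, fV_inl, smul_zero, add_zero]

section moves

variable (hE : ∀ (k : Fin m) (c : F), tv (eV k) c ∈ M) (hF : ∀ (k : Fin m) (c : F), tv (fV k) c ∈ M)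

include hE hF

theorem plane_move_aux (v : Fin m ⊕ Fin m → F) (k : Fin m) (hy : v (Sum.inr k) ≠ 0) :
    ∃ g ∈ M, (g • v) (Sum.inl k) ∈ F₀ ∧ (g • v) (Sum.inr k) ∈ F₀ ∧
      ∀ j, j ≠ k → (g • v) (Sum.inl j) = v (Sum.inl j) ∧ (g • v) (Sum.inr j) = v (Sum.inr j) := by
  set c₁ : F := (1 - v (Sum.inl k)) * (v (Sum.inr k))⁻¹ with hc₁
  set c₂ : F := v (Sum.inr k) with hc₂
  refine ⟨tv (fV k) c₂ * tv (eV k) c₁, M.mul_mem (hF k c₂) (hE k c₁), ?_, ?_, ?_⟩
  · rw [mul_smul, tvF_inl, tvE_inl_same, hc₁, mul_assoc, inv_mul_cancel₀ hy, mul_one]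
    have : v (Sum.inl k) + (1 - v (Sum.inl k)) = 1 := by ring
    rw [this]
    exact F₀.one_mem
  · rw [mul_smul, tvF_inr_same, tvE_inr, tvE_inl_same, hc₁, mul_assoc, inv_mul_cancel₀ hy, mul_one]
    have : v (Sum.inr k) - c₂ * (v (Sum.inl k) + (1 - v (Sum.inl k))) = 0 := by
      rw [hc₂]; ring
    rw [this]
    exact F₀.zero_mem
  · intro j hj
    rw [mul_smul, tvF_inl, tvE_inl_ne hj, tvF_inr_ne hj, tvE_inr]
    exact ⟨rfl, rfl⟩

theorem plane_move (v : Fin m ⊕ Fin m → F) (k : Fin m) :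
    ∃ g ∈ M, (g • v) (Sum.inl k) ∈ F₀ ∧ (g • v) (Sum.inr k) ∈ F₀ ∧
      ∀ j, j ≠ k → (g • v) (Sum.inl j) = v (Sum.inl j) ∧ (g • v) (Sum.inr j) = v (Sum.inr j) := by
  by_cases hy : v (Sum.inr k) = 0
  · by_cases hx : v (Sum.inl k) = 0
    · refine ⟨1, M.one_mem, ?_, ?_, ?_⟩
      · rw [one_smul, hx]; exact F₀.zero_mem
      · rw [one_smul, hy]; exact F₀.zero_mem
      · intro j _
        rw [one_smul]
        exact ⟨rfl, rfl⟩
    · set v' : Fin m ⊕ Fin m → F := tv (fV k) (-(v (Sum.inl k))⁻¹) • v with hv'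
      have hy' : v' (Sum.inr k) ≠ 0 := by
        rw [hv', tvF_inr_same, hy, neg_mul, inv_mul_cancel₀ hx]
        norm_num
      obtain ⟨g, hg, h1, h2, h3⟩ := plane_move_aux (F₀ := F₀) hE hF v' k hy'
      refine ⟨g * tv (fV k) (-(v (Sum.inl k))⁻¹), M.mul_mem hg (hF k _), ?_, ?_, ?_⟩
      · rw [mul_smul]; exact h1
      · rw [mul_smul]; exact h2
      · intro j hj
        rw [mul_smul, (h3 j hj).1, (h3 j hj).2, hv', tvF_inl, tvF_inr_ne hj]
        exact ⟨rfl, rfl⟩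
  · exact plane_move_aux hE hF v k hy

theorem stage_move (n : ℕ) (hn : n ≤ m) (v : Fin m ⊕ Fin m → F) :
    ∃ g ∈ M, ∀ k : Fin m, k.val < n → (g • v) (Sum.inl k) ∈ F₀ ∧ (g • v) (Sum.inr k) ∈ F₀ := by
  induction n with
  | zero => exact ⟨1, M.one_mem, fun k hk => absurd hk (Nat.not_lt_zero _)⟩
  | succ n ih =>
    obtain ⟨g₁, hg₁, h1⟩ := ih (by omega)
    obtain ⟨g₂, hg₂, h2, h3, h4⟩ := plane_move (F₀ := F₀) hE hF (g₁ • v) ⟨n, by omega⟩
    refine ⟨g₂ * g₁, M.mul_mem hg₂ hg₁, ?_⟩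
    intro k hk
    rw [mul_smul]
    by_cases hkn : k = ⟨n, by omega⟩
    · rw [hkn]
      exact ⟨h2, h3⟩
    · have hk' : k.val < n := by
        have : k.val ≠ n := fun h => hkn (Fin.ext h)
        omega
      rw [(h4 k hkn).1, (h4 k hkn).2]
      exact h1 k hk'

theorem all_move (v : Fin m ⊕ Fin m → F) : ∃ g ∈ M, RatV F₀ (g • v) := by
  obtain ⟨g, hg, h⟩ := stage_move (F₀ := F₀) hE hF m le_rfl v
  refine ⟨g, hg, ?_⟩
  intro i
  rcases i with k | k
  · exact (h k k.2).1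
  · exact (h k k.2).2

end moves

/-- if the rational vectors have all their transvections in `M`, then `M` is everything -/
theorem eq_top_of_rat_cen (hR : R0 m F₀ ≤ M)
    (hcen : ∀ v : Fin m ⊕ Fin m → F, RatV F₀ v → v ∈ Cen M) : M = ⊤ := by
  have hE : ∀ (k : Fin m) (c : F), tv (eV k) c ∈ M := fun k c => hcen _ (ratV_eV F₀ k) c
  have hF : ∀ (k : Fin m) (c : F), tv (fV k) c ∈ M := fun k c => hcen _ (ratV_fV F₀ k) c
  rw [eq_top_iff, ← tvGroup_top_eq_top]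
  unfold tvGroup
  rw [Subgroup.closure_le]
  rintro g ⟨x, -, c, rfl⟩
  obtain ⟨g, hg, hgx⟩ := all_move (F₀ := F₀) hE hF x
  have h1 := cen_smul M g⁻¹ (M.inv_mem hg) _ (hcen _ hgx)
  rw [inv_smul_smul] at h1
  exact h1 c

/-- Part A: an irrational short root element forces the whole symplectic group -/
theorem partA [Fintype F] (hm : 3 ≤ m) (r : ℕ) (hr : r.Prime)
    (hcard : Fintype.card F = Nat.card F₀ ^ r) (hR : R0 m F₀ ≤ M)
    {a b : Fin m ⊕ Fin m → F} (hab : RatPair F₀ a b) {c₀ : F} (hc₀ : c₀ ∉ F₀)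
    (hsr : sr a b c₀ ∈ M) : M = ⊤ := by
  set i0 : Fin m := ⟨0, by omega⟩ with hi0
  set i1 : Fin m := ⟨1, by omega⟩ with hi1
  set i2 : Fin m := ⟨2, by omega⟩ with hi2
  have h01 : i0 ≠ i1 := by
    intro h; have := congrArg Fin.val h; simp [hi0, hi1] at this
  have h02 : i0 ≠ i2 := by
    intro h; have := congrArg Fin.val h; simp [hi0, hi2] at this
  have h12 : i1 ≠ i2 := by
    intro h; have := congrArg Fin.val h; simp [hi1, hi2] at this
  have p01 : RatPair F₀ (eV i0 : Fin m ⊕ Fin m → F) (eV i1) := ratPair_eV_eV F₀ h01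
  have p02 : RatPair F₀ (eV i0 : Fin m ⊕ Fin m → F) (eV i2) := ratPair_eV_eV F₀ h02
  have pf12 : RatPair F₀ (fV i1 : Fin m ⊕ Fin m → F) (eV i2) := ratPair_fV_eV F₀ h12
  have pf10 : RatPair F₀ (fV i1 : Fin m ⊕ Fin m → F) (eV i0) := ratPair_fV_eV F₀ (Ne.symm h01)
  let L : Subalgebra F₀ F :=
    { carrier := {s | sr (eV i0 : Fin m ⊕ Fin m → F) (eV i1) s ∈ M}
      mul_mem' := by
        intro s t hs ht
        have h1 : sr (fV i1 : Fin m ⊕ Fin m → F) (eV i2) t ∈ M := sr_transfer hR p01 pf12 ht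
        have h2 := sr_comm3 (eV i0 : Fin m ⊕ Fin m → F) (eV i1) (fV i1) (eV i2) (Bf_eV_eV _ _)
          (Bf_fV_eV_ne h12) (Bf_eV_eV _ _) (Bf_eV_eV _ _) (Bf_fV_eV_ne (Ne.symm h01))
          (Bf_fV_eV i1) s t
        have h3 : sr (eV i0 : Fin m ⊕ Fin m → F) (eV i2) (s * t) ∈ M := by
          have h4 : sr (eV i0 : Fin m ⊕ Fin m → F) (eV i2) (s * t) =
              (sr (fV i1 : Fin m ⊕ Fin m → F) (eV i2) t)⁻¹ *
                (sr (eV i0 : Fin m ⊕ Fin m → F) (eV i1) s * sr (fV i1) (eV i2) t *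
                  (sr (eV i0 : Fin m ⊕ Fin m → F) (eV i1) s)⁻¹) := by
            rw [h2]; group
          rw [h4]
          exact M.mul_mem (M.inv_mem h1) (M.mul_mem (M.mul_mem hs h1) (M.inv_mem hs))
        exact sr_transfer hR p02 p01 h3
      add_mem' := by
        intro s t hs ht
        show sr (eV i0 : Fin m ⊕ Fin m → F) (eV i1) (s + t) ∈ M
        rw [← sr_mul _ _ (Bf_eV_eV _ _)]
        exact M.mul_mem hs ht
      algebraMap_mem' := by
        intro x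
        exact hR (sr_mem_R0 (ratV_eV F₀ i0) (ratV_eV F₀ i1) x.2) }
  have hL : L = ⊤ := Cfsg.Agent.Helper28.Subf.subalgebra_eq_top F₀ r hr hcard L c₀ hc₀
    (sr_transfer hR hab p01 hsr)
  have hall : ∀ s : F, sr (eV i0 : Fin m ⊕ Fin m → F) (eV i1) s ∈ M := by
    intro s
    have : s ∈ L := by rw [hL]; exact Algebra.mem_top
    exact this
  -- squares
  have hsq : ∀ s : F, tv (eV i0 : Fin m ⊕ Fin m → F) (s * s) ∈ M := by
    intro s
    have h1 := sr_conj_tv (eV i0 : Fin m ⊕ Fin m → F) (eV i1) (fV i1) (Bf_eV_eV _ _)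
      (Bf_fV_eV_ne (Ne.symm h01)) (Bf_fV_eV i1) s 1
    rw [mul_one, mul_one] at h1
    have h2 : tv (fV i1 : Fin m ⊕ Fin m → F) 1 ∈ M := hR (tv_mem_R0 (ratV_fV F₀ i1) F₀.one_mem)
    have h3 : sr (fV i1 : Fin m ⊕ Fin m → F) (eV i0) s ∈ M := sr_transfer hR p01 pf10 (hall s)
    have h4 : tv (eV i0 : Fin m ⊕ Fin m → F) (s * s) =
        (tv (fV i1 : Fin m ⊕ Fin m → F) 1)⁻¹ *
          (sr (eV i0 : Fin m ⊕ Fin m → F) (eV i1) s * tv (fV i1) 1 *
            (sr (eV i0 : Fin m ⊕ Fin m → F) (eV i1) s)⁻¹) *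
          (sr (fV i1 : Fin m ⊕ Fin m → F) (eV i0) s)⁻¹ := by
      rw [h1]; group
    rw [h4]
    exact M.mul_mem (M.mul_mem (M.inv_mem h2) (M.mul_mem (M.mul_mem (hall s) h2)
      (M.inv_mem (hall s)))) (M.inv_mem h3)
  have hcen0 : (eV i0 : Fin m ⊕ Fin m → F) ∈ Cen M := by
    intro c
    obtain ⟨x, y, rfl⟩ := exists_sq_sub_sq c
    rw [sub_eq_add_neg, ← tv_mul_tv, ← tv_inv]
    exact M.mul_mem (hsq x) (M.inv_mem (hsq y))
  apply eq_top_of_rat_cen hR
  intro v hv c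
  by_cases hv0 : v = 0
  · rw [hv0, tv_zero_left]
    exact M.one_mem
  · exact tv_transfer hR (ratV_eV F₀ i0) hv (eV_ne_zero i0) hv0 (hcen0 c)

end Cfsg.Agent.H28SpSub
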