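import Mathlib
import Cfsg.Agent.Lib.Helper28.SpSubB

/-!
# Subfield subgroups of the symplectic group (helper28), part C: the case where all short
root elements along rational pairs are rational
-/

set_option autoImplicit false

namespace Cfsg.Agent.H28SpSub

open Cfsg Matrix Cfsg.Agent.Helper2.Symp Cfsg.Agent.Helper28.SpSingMax
open scoped Cfsg.Agent.Helper2.Symp

variable {F : Type*} [Field F] {m : ℕ} {F₀ : Subfield F}
  {M : Subgroup (Matrix.symplecticGroup (Fin m) F)}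

theorem exists_three (hm : 3 ≤ m) : ∃ i0 i1 i2 : Fin m, i0 ≠ i1 ∧ i0 ≠ i2 ∧ i1 ≠ i2 := by
  refine ⟨⟨0, by omega⟩, ⟨1, by omega⟩, ⟨2, by omega⟩, ?_, ?_, ?_⟩ <;>
  · intro h
    have := congrArg Fin.val h
    simp at this

/-- the standing hypotheses of part C -/
structure Hyp (F₀ : Subfield F) (M : Subgroup (Matrix.symplecticGroup (Fin m) F)) : Prop where
  hm : 5 ≤ m
  hR : R0 m F₀ ≤ M
  hD : ∀ a b : Fin m ⊕ Fin m → F, RatPair F₀ a b → ∀ c : F, sr a b c ∈ M → c ∈ F₀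

/-- elements normalising the rational structure -/
def InN (F₀ : Subfield F) (k : Matrix.symplecticGroup (Fin m) F) : Prop :=
  ∃ s : F, s ≠ 0 ∧ ∀ v : Fin m ⊕ Fin m → F, RatV F₀ v → RatV F₀ (s • (k • v))

theorem smul_ne_zero_of_ne (k : Matrix.symplecticGroup (Fin m) F) {v : Fin m ⊕ Fin m → F}
    (hv : v ≠ 0) : k • v ≠ 0 := by
  intro h
  apply hv
  have := congrArg (fun x => k⁻¹ • x) h
  simpa using this

/-- B0: a transvection along a rational vector lying in `M` has a rational parameter -/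
theorem C_sub (hyp : Hyp F₀ M) {a : Fin m ⊕ Fin m → F} (ha : RatV F₀ a) (ha0 : a ≠ 0) {c : F}
    (hc : tv a c ∈ M) : c ∈ F₀ := by
  obtain ⟨i0, i1, i2, h01, h02, h12⟩ := exists_three (by have := hyp.hm; omega : 3 ≤ m)
  have hR := hyp.hR
  have hs0 : (eV i0 + eV i1 : Fin m ⊕ Fin m → F) ≠ 0 := by
    intro h
    have := congrFun h (Sum.inl i0)
    rw [Pi.add_apply, eV_inl_same, eV_inl_ne h01, add_zero] at this
    exact one_ne_zero this
  have h0 : tv (eV i0 : Fin m ⊕ Fin m → F) c ∈ M :=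
    tv_transfer hR ha (ratV_eV F₀ i0) ha0 (eV_ne_zero i0) hc
  have h1 : tv (eV i1 : Fin m ⊕ Fin m → F) c ∈ M :=
    tv_transfer hR ha (ratV_eV F₀ i1) ha0 (eV_ne_zero i1) hc
  have h2 : tv (eV i0 + eV i1 : Fin m ⊕ Fin m → F) c ∈ M :=
    tv_transfer hR ha (ratV_add (ratV_eV F₀ i0) (ratV_eV F₀ i1)) ha0 hs0 hc
  have h3 := tv_add_orth (eV i0 : Fin m ⊕ Fin m → F) (eV i1) (Bf_eV_eV _ _) c
  have h4 : sr (eV i0 : Fin m ⊕ Fin m → F) (eV i1) c =
      (tv (eV i1 : Fin m ⊕ Fin m → F) c)⁻¹ * (tv (eV i0 : Fin m ⊕ Fin m → F) c)⁻¹ *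
        tv (eV i0 + eV i1 : Fin m ⊕ Fin m → F) c := by
    rw [h3]; group
  apply hyp.hD _ _ (ratPair_eV_eV F₀ h01) c
  rw [h4]
  exact M.mul_mem (M.mul_mem (M.inv_mem h1) (M.inv_mem h0)) h2

theorem tvsr_conj (a w p q : Fin m ⊕ Fin m → F) (hwa : Bf w a = 0) (hpq : Bf p q = 0)
    (hpa : Bf p a = 0) (hqa : Bf q a = 0) (hqw : Bf q w = 0) (hpw : Bf p w = 1) (x σ : F) :
    (tv a x * sr w a σ) * sr p q 1 * (tv a x * sr w a σ)⁻¹ = sr p q 1 * sr a q σ := by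
  have haq : Bf a q = 0 := by rw [Bf_skew, hqa, neg_zero]
  have e1 : (tv a x * sr w a σ) • p = p + σ • a := by
    rw [mul_smul, sr_smul w a hwa, hpw, hpa, one_smul, zero_smul, add_zero, tv_smul, Bf_add_left,
      Bf_smul_left, Bf_self, hpa, mul_zero, add_zero, mul_zero, zero_smul, add_zero]
  have e2 : (tv a x * sr w a σ) • q = q := by
    rw [mul_smul, sr_smul w a hwa, hqw, hqa, zero_smul, zero_smul, add_zero, smul_zero, add_zero,
      tv_smul, hqa, mul_zero, zero_smul, add_zero]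
  have h1 : Bf (σ • a) q = 0 := by rw [Bf_smul_left, haq, mul_zero]
  have h2 : Bf p (σ • a) = 0 := by rw [Bf_smul_right, hpa, mul_zero]
  rw [conj_sr, e1, e2, sr_add_left p (σ • a) q hpq h1 h2, sr_smul_left a q haq, mul_one]

/-- the short root parameter of a mixed element of `M` is rational -/
theorem sr_param_rat (hyp : Hyp F₀ M) {a w : Fin m ⊕ Fin m → F} (h : RatPair F₀ a w) {x σ : F}
    (hM : tv a x * sr w a σ ∈ M) : σ ∈ F₀ := by
  obtain ⟨i0, i1, i2, h01, h02, h12⟩ := exists_three (by have := hyp.hm; omega : 3 ≤ m)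
  have hR := hyp.hR
  obtain ⟨g, hg, e₁, e₂⟩ := ratTrans_pair h (ratPair_eV_eV F₀ h01)
  have h1 : tv (eV i0 : Fin m ⊕ Fin m → F) x * sr (eV i1) (eV i0) σ ∈ M := by
    have h2 : tv (eV i0 : Fin m ⊕ Fin m → F) x * sr (eV i1) (eV i0) σ =
        g * (tv a x * sr w a σ) * g⁻¹ := by
      rw [← e₁, ← e₂, ← conj_tv, ← conj_sr]; group
    rw [h2]
    exact M.mul_mem (M.mul_mem (hR hg) hM) (M.inv_mem (hR hg))
  have h3 := tvsr_conj (eV i0 : Fin m ⊕ Fin m → F) (eV i1) (fV i1) (eV i2) (Bf_eV_eV _ _)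
    (Bf_fV_eV_ne h12) (Bf_fV_eV_ne (Ne.symm h01)) (Bf_eV_eV _ _) (Bf_eV_eV _ _) (Bf_fV_eV i1) x σ
  have h4 : sr (fV i1 : Fin m ⊕ Fin m → F) (eV i2) 1 ∈ M :=
    hR (sr_mem_R0 (ratV_fV F₀ i1) (ratV_eV F₀ i2) F₀.one_mem)
  have h5 : sr (eV i0 : Fin m ⊕ Fin m → F) (eV i2) σ =
      (sr (fV i1 : Fin m ⊕ Fin m → F) (eV i2) 1)⁻¹ *
        ((tv (eV i0 : Fin m ⊕ Fin m → F) x * sr (eV i1) (eV i0) σ) * sr (fV i1) (eV i2) 1 *
          (tv (eV i0 : Fin m ⊕ Fin m → F) x * sr (eV i1) (eV i0) σ)⁻¹) := by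
    rw [h3]; group
  apply hyp.hD _ _ (ratPair_eV_eV F₀ h02) σ
  rw [h5]
  exact M.mul_mem (M.inv_mem h4) (M.mul_mem (M.mul_mem h1 h4) (M.inv_mem h1))

/-- B1 -/
theorem partB1 (hyp : Hyp F₀ M) {e y : Fin m ⊕ Fin m → F} (he : RatV F₀ e) (he0 : e ≠ 0)
    (hey : Bf e y = 0) (hM : sr e y 1 ∈ M) {w : Fin m ⊕ Fin m → F} (hw : RatV F₀ w)
    (hwe : Bf w e = 0) : Bf w y ∈ F₀ := by
  by_cases hind : ∃ t : F, w = t • e
  · obtain ⟨t, rfl⟩ := hind
    rw [Bf_smul_left, hey, mul_zero]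
    exact F₀.zero_mem
  · push Not at hind
    have hew : Bf e w = 0 := by rw [Bf_skew, hwe, neg_zero]
    have hp : RatPair F₀ e w := ⟨he, hw, hew, he0, hind⟩
    have e1 : sr e y 1 • w = w + Bf w y • e := by
      rw [sr_smul e y hey, hwe, zero_smul, zero_add, one_smul]
    have h1 : Bf w (Bf w y • e) = 0 := by rw [Bf_smul_right, hwe, mul_zero]
    have h2 : sr e y 1 * tv w 1 * (sr e y 1)⁻¹ =
        tv w 1 * tv e (Bf w y * Bf w y * 1) * sr w e (Bf w y * 1) := by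
      rw [conj_tv, e1, tv_add_orth w _ h1, tv_smul_vec, sr_smul_right w e hwe]
    have h3 : tv w 1 ∈ M := hyp.hR (tv_mem_R0 hw F₀.one_mem)
    have h4 : tv e (Bf w y * Bf w y * 1) * sr w e (Bf w y * 1) =
        (tv w 1)⁻¹ * (sr e y 1 * tv w 1 * (sr e y 1)⁻¹) := by
      rw [h2]; group
    have h5 : tv e (Bf w y * Bf w y * 1) * sr w e (Bf w y * 1) ∈ M := by
      rw [h4]
      exact M.mul_mem (M.inv_mem h3) (M.mul_mem (M.mul_mem hM h3) (M.inv_mem hM))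
    have := sr_param_rat hyp hp h5
    rwa [mul_one] at this

/-- a vector pairing rationally with the rational vectors orthogonal to `eV i0` is rational up to
a multiple of `eV i0` -/
theorem rat_mod_eV (i0 : Fin m) {z : Fin m ⊕ Fin m → F}
    (h : ∀ w : Fin m ⊕ Fin m → F, RatV F₀ w → Bf w (eV i0) = 0 → Bf w z ∈ F₀) :
    RatV F₀ (z - z (Sum.inl i0) • eV i0) := by
  intro j
  rcases j with j | j
  · by_cases hj : j = i0
    · rw [hj, Pi.sub_apply, Pi.smul_apply, eV_inl_same, smul_eq_mul, mul_one, sub_self]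
      exact F₀.zero_mem
    · rw [Pi.sub_apply, Pi.smul_apply, eV_inl_ne hj, smul_zero, sub_zero]
      have := h (fV j) (ratV_fV F₀ j) (Bf_fV_eV_ne hj)
      rwa [Bf_fV_left] at this
  · rw [Pi.sub_apply, Pi.smul_apply, eV_inr, smul_zero, sub_zero]
    have := h (eV j) (ratV_eV F₀ j) (Bf_eV_eV _ _)
    rw [Bf_eV_left] at this
    have h2 := F₀.neg_mem this
    rwa [neg_neg] at h2

/-- B2 -/
theorem pairing (hyp : Hyp F₀ M) {e y : Fin m ⊕ Fin m → F} (he : RatV F₀ e) (he0 : e ≠ 0)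
    (hey : Bf e y = 0) (hM : sr e y 1 ∈ M) :
    ∃ (y₀ : Fin m ⊕ Fin m → F) (μ : F), RatV F₀ y₀ ∧ y = y₀ + μ • e := by
  obtain ⟨i0, i1, i2, h01, h02, h12⟩ := exists_three (by have := hyp.hm; omega : 3 ≤ m)
  obtain ⟨g, hg, e₁⟩ := ratTrans_vec he (ratV_eV F₀ i0) he0 (eV_ne_zero i0)
  have hgM : g ∈ M := hyp.hR hg
  have h1 : sr (eV i0 : Fin m ⊕ Fin m → F) (g • y) 1 ∈ M := by
    rw [← e₁, ← conj_sr]
    exact M.mul_mem (M.mul_mem hgM hM) (M.inv_mem hgM)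
  have h2 : Bf (eV i0 : Fin m ⊕ Fin m → F) (g • y) = 0 := by
    rw [← e₁, Bf_smul_smul, hey]
  have h3 : RatV F₀ (g • y - (g • y) (Sum.inl i0) • eV i0) := by
    apply rat_mod_eV
    intro w hw hwe
    exact partB1 hyp (ratV_eV F₀ i0) (eV_ne_zero i0) h2 h1 hw hwe
  refine ⟨g⁻¹ • (g • y - (g • y) (Sum.inl i0) • eV i0), (g • y) (Sum.inl i0),
    (ratV_smul_R0 hg _ h3).2, ?_⟩
  have h4 : g⁻¹ • (eV i0 : Fin m ⊕ Fin m → F) = e := by
    rw [← e₁, inv_smul_smul]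
  rw [smul_sub, inv_smul_smul, smul_comm, h4]
  abel

/-- B3 -/
theorem P1 (hyp : Hyp F₀ M) {k : Matrix.symplecticGroup (Fin m) F} (hk : k ∈ M)
    {e : Fin m ⊕ Fin m → F} (he : RatV F₀ e) (he0 : e ≠ 0) {c : F} (hke : k • e = c • e) :
    c * c ∈ F₀ ∧ ∀ w : Fin m ⊕ Fin m → F, RatV F₀ w → Bf w e = 0 → RatV F₀ (c • (k • w)) := by
  have hc0 : c ≠ 0 := by
    intro h
    rw [h, zero_smul] at hke
    exact smul_ne_zero_of_ne k he0 hke
  have hcc : c * c ∈ F₀ := by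
    apply C_sub hyp he he0
    have h1 : tv e (c * c) = k * tv e 1 * k⁻¹ := by
      rw [conj_tv, hke, tv_smul_vec, mul_one]
    rw [h1]
    exact M.mul_mem (M.mul_mem hk (hyp.hR (tv_mem_R0 he F₀.one_mem))) (M.inv_mem hk)
  refine ⟨hcc, ?_⟩
  intro w hw hwe
  by_cases hind : ∃ t : F, w = t • e
  · obtain ⟨t, rfl⟩ := hind
    have ht : t ∈ F₀ := mem_of_ratV_smul he he0 hw
    rw [smul_comm k t e, hke, smul_smul, smul_smul]
    have h1 : c * t * c = t * (c * c) := by ring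
    rw [h1]
    exact ratV_smul (F₀.mul_mem ht hcc) he
  · push Not at hind
    have hew : Bf e w = 0 := by rw [Bf_skew, hwe, neg_zero]
    have hp : RatPair F₀ e w := ⟨he, hw, hew, he0, hind⟩
    have h0 : Bf e (k • w) = 0 := by
      have h1 : Bf (k • e) (k • w) = 0 := by rw [Bf_smul_smul, hew]
      rw [hke, Bf_smul_left] at h1
      exact (mul_eq_zero.mp h1).resolve_left hc0
    set y : Fin m ⊕ Fin m → F := c • (k • w) with hy
    have hey : Bf e y = 0 := by rw [hy, Bf_smul_right, h0, mul_zero]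
    have hsr : sr e y 1 ∈ M := by
      have h1 : sr e y 1 = k * sr e w 1 * k⁻¹ := by
        rw [conj_sr, hke, sr_smul_left e (k • w) h0, hy, sr_smul_right e (k • w) h0]
      rw [h1]
      exact M.mul_mem (M.mul_mem hk (hyp.hR (sr_mem_R0 he hw F₀.one_mem))) (M.inv_mem hk)
    obtain ⟨y₀, μ, hy₀, hyy⟩ := pairing hyp he he0 hey hsr
    have hey₀ : Bf e y₀ = 0 := by
      have h1 := hey
      rw [hyy, Bf_add_right, Bf_smul_right, Bf_self, mul_zero, add_zero] at h1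
      exact h1
    have hy₀e : Bf y₀ e = 0 := by rw [Bf_skew, hey₀, neg_zero]
    have hkw : k • w = c⁻¹ • y := by
      rw [hy, smul_smul, inv_mul_cancel₀ hc0, one_smul]
    have hp₀ : RatPair F₀ e y₀ := by
      refine ⟨he, hy₀, hey₀, he0, ?_⟩
      intro t ht
      apply hind (c⁻¹ * (t + μ) * c⁻¹)
      have h1 : k • w = k • ((c⁻¹ * (t + μ) * c⁻¹) • e) := by
        rw [smul_comm k _ e, hke, hkw, hyy, ht, smul_smul, ← add_smul, smul_smul]
        congr 1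
        field_simp
      have := congrArg (fun x => k⁻¹ • x) h1
      simpa using this
    set d : F := c⁻¹ * c⁻¹ with hd
    have hdF : d ∈ F₀ := by
      have : d = (c * c)⁻¹ := by rw [hd, _root_.mul_inv]
      rw [this]
      exact F₀.inv_mem hcc
    have h1 : Bf y₀ (μ • e) = 0 := by rw [Bf_smul_right, hy₀e, mul_zero]
    have h2 : k * tv w 1 * k⁻¹ = tv y₀ d * tv e (μ * μ * d) * sr y₀ e (μ * d) := by
      rw [conj_tv, hkw, tv_smul_vec, mul_one, hyy, tv_add_orth y₀ _ h1, tv_smul_vec,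
        sr_smul_right y₀ e hy₀e]
    have h3 : tv y₀ d ∈ M := hyp.hR (tv_mem_R0 hy₀ hdF)
    have h4 : tv e (μ * μ * d) * sr y₀ e (μ * d) = (tv y₀ d)⁻¹ * (k * tv w 1 * k⁻¹) := by
      rw [h2]; group
    have h5 : tv e (μ * μ * d) * sr y₀ e (μ * d) ∈ M := by
      rw [h4]
      exact M.mul_mem (M.inv_mem h3)
        (M.mul_mem (M.mul_mem hk (hyp.hR (tv_mem_R0 hw F₀.one_mem))) (M.inv_mem hk))
    have h6 : μ * d ∈ F₀ := sr_param_rat hyp hp₀ h5
    have hμ : μ ∈ F₀ := by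
      have : μ = μ * d * (c * c) := by
        rw [hd]; field_simp
      rw [this]
      exact F₀.mul_mem h6 hcc
    rw [hyy]
    exact ratV_add hy₀ (ratV_smul hμ he)

/-- B4, for the first standard vector -/
theorem step1_std (hyp : Hyp F₀ M) {k : Matrix.symplecticGroup (Fin m) F} (hk : k ∈ M)
    {i0 i1 i2 : Fin m} (h01 : i0 ≠ i1) (h02 : i0 ≠ i2) (h12 : i1 ≠ i2) {c : F}
    (hke : k • (eV i0 : Fin m ⊕ Fin m → F) = c • eV i0) :
    ∀ v : Fin m ⊕ Fin m → F, RatV F₀ v → RatV F₀ (c • (k • v)) := by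
  have he : RatV F₀ (eV i0 : Fin m ⊕ Fin m → F) := ratV_eV F₀ i0
  have he0 : (eV i0 : Fin m ⊕ Fin m → F) ≠ 0 := eV_ne_zero i0
  have hc0 : c ≠ 0 := by
    intro h
    rw [h, zero_smul] at hke
    exact smul_ne_zero_of_ne k he0 hke
  obtain ⟨hcc, hperp⟩ := P1 hyp hk he he0 hke
  have hkinv : k⁻¹ • (eV i0 : Fin m ⊕ Fin m → F) = c⁻¹ • eV i0 := by
    rw [inv_smul_eq_iff, smul_comm, hke, smul_smul, inv_mul_cancel₀ hc0, one_smul]
  obtain ⟨-, hperp'⟩ := P1 hyp (M.inv_mem hk) he he0 hkinv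
  set u : Fin m ⊕ Fin m → F := k • (fV i0 : Fin m ⊕ Fin m → F) with hu
  -- it suffices to treat `fV i0`
  suffices hsuff : RatV F₀ (c • u) by
    intro v hv
    set t : F := Bf v (eV i0) with ht
    have htF : t ∈ F₀ := ratV_Bf hv he
    have hw : RatV F₀ (v - t • fV i0) := ratV_sub hv (ratV_smul htF (ratV_fV F₀ i0))
    have hwe : Bf (v - t • fV i0) (eV i0 : Fin m ⊕ Fin m → F) = 0 := by
      rw [Bf_sub_left, Bf_smul_left, Bf_fV_eV, mul_one, ht, sub_self]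
    have h1 := hperp _ hw hwe
    have h2 : c • (k • v) = c • (k • (v - t • fV i0)) + t • (c • u) := by
      rw [hu, smul_sub, smul_sub, smul_comm k t, smul_comm c t]
      abel
    rw [h2]
    exact ratV_add h1 (ratV_smul htF hsuff)
  set z : Fin m ⊕ Fin m → F := c⁻¹ • u with hz
  have hzpair : ∀ w : Fin m ⊕ Fin m → F, RatV F₀ w → Bf w (eV i0) = 0 → Bf w z ∈ F₀ := by
    intro w hw hwe
    have h1 := hperp' w hw hwe
    have h2 : Bf w z = Bf (c⁻¹ • (k⁻¹ • w)) (fV i0) := by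
      rw [hz, hu, Bf_smul_right, Bf_smul_left, Bf_smul_inv]
    rw [h2]
    exact ratV_Bf h1 (ratV_fV F₀ i0)
  set z₀ : Fin m ⊕ Fin m → F := z - z (Sum.inl i0) • eV i0 with hz₀
  have hz₀rat : RatV F₀ z₀ := rat_mod_eV i0 hzpair
  -- a rational vector orthogonal to `eV i0` and `u`
  obtain ⟨w₃, hw₃, hw₃0, hw₃e, hw₃z⟩ : ∃ w₃ : Fin m ⊕ Fin m → F, RatV F₀ w₃ ∧ w₃ ≠ 0 ∧
      Bf w₃ (eV i0) = 0 ∧ Bf w₃ z₀ = 0 := by
    by_cases hab : Bf (eV i2) z₀ = 0 ∧ Bf (eV i1) z₀ = 0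
    · exact ⟨eV i1, ratV_eV F₀ i1, eV_ne_zero i1, Bf_eV_eV _ _, hab.2⟩
    · refine ⟨Bf (eV i2) z₀ • eV i1 - Bf (eV i1) z₀ • eV i2,
        ratV_sub (ratV_smul (ratV_Bf (ratV_eV F₀ i2) hz₀rat) (ratV_eV F₀ i1))
          (ratV_smul (ratV_Bf (ratV_eV F₀ i1) hz₀rat) (ratV_eV F₀ i2)), ?_, ?_, ?_⟩
      · intro h0
        apply hab
        have a1 := congrFun h0 (Sum.inl i1)
        have a2 := congrFun h0 (Sum.inl i2)
        rw [Pi.sub_apply, Pi.smul_apply, Pi.smul_apply, eV_inl_same, eV_inl_ne h12, smul_zero,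
          sub_zero, smul_eq_mul, mul_one, Pi.zero_apply] at a1
        rw [Pi.sub_apply, Pi.smul_apply, Pi.smul_apply, eV_inl_same, eV_inl_ne (Ne.symm h12),
          smul_zero, zero_sub, smul_eq_mul, mul_one, Pi.zero_apply, neg_eq_zero] at a2
        exact ⟨a1, a2⟩
      · rw [Bf_sub_left, Bf_smul_left, Bf_smul_left, Bf_eV_eV, Bf_eV_eV, mul_zero, mul_zero,
          sub_zero]
      · rw [Bf_sub_left, Bf_smul_left, Bf_smul_left]
        ring
  have hw₃u : Bf w₃ u = 0 := by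
    have h1 : u = c • (z₀ + z (Sum.inl i0) • eV i0) := by
      rw [hz₀, sub_add_cancel, hz, smul_smul, mul_inv_cancel₀ hc0, one_smul]
    rw [h1, Bf_smul_right, Bf_add_right, Bf_smul_right, hw₃z, hw₃e, mul_zero, add_zero, mul_zero]
  have hk₂ : tv u 1 ∈ M := by
    have h1 : tv u 1 = k * tv (fV i0) 1 * k⁻¹ := by rw [conj_tv]
    rw [h1]
    exact M.mul_mem (M.mul_mem hk (hyp.hR (tv_mem_R0 (ratV_fV F₀ i0) F₀.one_mem))) (M.inv_mem hk)
  have hfix : tv u 1 • w₃ = (1 : F) • w₃ := by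
    rw [tv_smul, hw₃u, mul_zero, zero_smul, add_zero, one_smul]
  obtain ⟨-, hperp₂⟩ := P1 hyp hk₂ hw₃ hw₃0 hfix
  have hew₃ : Bf (eV i0 : Fin m ⊕ Fin m → F) w₃ = 0 := by rw [Bf_skew, hw₃e, neg_zero]
  have h1 := hperp₂ (eV i0) he hew₃
  have heu : Bf (eV i0 : Fin m ⊕ Fin m → F) u = -c⁻¹ := by
    have h2 : Bf (k • (eV i0 : Fin m ⊕ Fin m → F)) (k • (fV i0 : Fin m ⊕ Fin m → F)) = -1 := by
      rw [Bf_smul_smul, Bf_eV_fV]
    rw [hke, Bf_smul_left, ← hu] at h2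
    have : Bf (eV i0 : Fin m ⊕ Fin m → F) u = c⁻¹ * (c * Bf (eV i0 : Fin m ⊕ Fin m → F) u) := by
      rw [← mul_assoc, inv_mul_cancel₀ hc0, one_mul]
    rw [this, h2]
    ring
  rw [one_smul, tv_smul, one_mul, heu] at h1
  have h2 : RatV F₀ (c⁻¹ • u) := by
    have h3 := ratV_sub he h1
    have h4 : (eV i0 : Fin m ⊕ Fin m → F) - (eV i0 + -c⁻¹ • u) = c⁻¹ • u := by
      rw [neg_smul]
      abel
    rwa [h4] at h3
  have h3 : c • u = (c * c) • (c⁻¹ • u) := by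
    rw [smul_smul, mul_assoc, mul_inv_cancel₀ hc0, mul_one]
  rw [h3]
  exact ratV_smul hcc h2

/-- B4 -/
theorem step1 (hyp : Hyp F₀ M) {k : Matrix.symplecticGroup (Fin m) F} (hk : k ∈ M)
    {e : Fin m ⊕ Fin m → F} (he : RatV F₀ e) (he0 : e ≠ 0) {c : F} (hke : k • e = c • e) :
    ∀ v : Fin m ⊕ Fin m → F, RatV F₀ v → RatV F₀ (c • (k • v)) := by
  obtain ⟨i0, i1, i2, h01, h02, h12⟩ := exists_three (by have := hyp.hm; omega : 3 ≤ m)
  obtain ⟨g, hg, e₁⟩ := ratTrans_vec he (ratV_eV F₀ i0) he0 (eV_ne_zero i0)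
  have hgM : g ∈ M := hyp.hR hg
  have hk' : g * k * g⁻¹ ∈ M := M.mul_mem (M.mul_mem hgM hk) (M.inv_mem hgM)
  have hke' : (g * k * g⁻¹) • (eV i0 : Fin m ⊕ Fin m → F) = c • eV i0 := by
    rw [mul_smul, mul_smul, ← e₁, inv_smul_smul, hke, smul_comm]
  have h1 := step1_std hyp hk' h01 h02 h12 hke'
  intro v hv
  have h2 := h1 (g • v) (ratV_smul_R0 hg v hv).1
  rw [mul_smul, mul_smul, inv_smul_smul] at h2
  have h3 := (ratV_smul_R0 hg _ h2).2
  rwa [smul_comm, inv_smul_smul] at h3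

/-- an element of `M` mapping one nonzero rational vector to a rational point normalises the
rational structure -/
theorem maps_rat (hyp : Hyp F₀ M) {k : Matrix.symplecticGroup (Fin m) F} (hk : k ∈ M)
    {e : Fin m ⊕ Fin m → F} (he : RatV F₀ e) (he0 : e ≠ 0) {t : F} (ht0 : t ≠ 0)
    (hr : RatV F₀ (t • (k • e))) :
    ∀ v : Fin m ⊕ Fin m → F, RatV F₀ v → RatV F₀ (t⁻¹ • (k • v)) := by
  have he'0 : t • (k • e) ≠ 0 := by
    intro h
    rcases smul_eq_zero.mp h with h | h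
    · exact ht0 h
    · exact smul_ne_zero_of_ne k he0 h
  obtain ⟨g, hg, e₁⟩ := ratTrans_vec hr he he'0 he0
  have hgM : g ∈ M := hyp.hR hg
  have hke : (g * k) • e = t⁻¹ • e := by
    have h1 : k • e = t⁻¹ • (t • (k • e)) := by
      rw [smul_smul, inv_mul_cancel₀ ht0, one_smul]
    rw [mul_smul, h1, smul_comm, e₁]
  have h1 := step1 hyp (M.mul_mem hgM hk) he he0 hke
  intro v hv
  have h2 := h1 v hv
  rw [mul_smul] at h2
  have h3 := (ratV_smul_R0 hg _ h2).2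
  rwa [smul_comm, inv_smul_smul] at h3

/-- B5 -/
theorem step2 (hyp : Hyp F₀ M) {u : Fin m ⊕ Fin m → F} (hu : tv u 1 ∈ M)
    (hirr : ∀ t : F, t ≠ 0 → ¬ RatV F₀ (t • u)) :
    ∀ w : Fin m ⊕ Fin m → F, RatV F₀ w → w ≠ 0 → Bf w u ≠ 0 := by
  intro w hw hw0 hwu
  have hu0 : u ≠ 0 := by
    intro h
    apply hirr 1 one_ne_zero
    rw [h, smul_zero]
    exact ratV_zero F₀
  have hfix : tv u 1 • w = (1 : F) • w := by
    rw [tv_smul, hwu, mul_zero, zero_smul, add_zero, one_smul]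
  have h1 := step1 hyp hu hw hw0 hfix
  obtain ⟨v, hv, hv'⟩ := exists_ratV_Bf_ne (F₀ := F₀) hu0
  have hvu : Bf v u ≠ 0 := by rw [Bf_skew]; exact neg_ne_zero.2 hv'
  have h2 := h1 v hv
  rw [one_smul, tv_smul, one_mul] at h2
  have h3 := ratV_sub h2 hv
  rw [add_sub_cancel_left] at h3
  exact hirr _ hvu h3

/-- an element of `M` not normalising the rational structure yields a totally irrational
transvection direction -/
theorem exists_tot (hyp : Hyp F₀ M) {k : Matrix.symplecticGroup (Fin m) F} (hk : k ∈ M)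
    (hkN : ¬ InN F₀ k) :
    ∃ u : Fin m ⊕ Fin m → F, tv u 1 ∈ M ∧
      ∀ w : Fin m ⊕ Fin m → F, RatV F₀ w → w ≠ 0 → Bf w u ≠ 0 := by
  obtain ⟨i0, i1, i2, h01, h02, h12⟩ := exists_three (by have := hyp.hm; omega : 3 ≤ m)
  set u : Fin m ⊕ Fin m → F := k • (eV i0 : Fin m ⊕ Fin m → F) with hu
  have hirr : ∀ t : F, t ≠ 0 → ¬ RatV F₀ (t • u) := by
    intro t ht0 hr
    apply hkN
    exact ⟨t⁻¹, inv_ne_zero ht0, maps_rat hyp hk (ratV_eV F₀ i0) (eV_ne_zero i0) ht0 hr⟩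
  have hk₂ : tv u 1 ∈ M := by
    have h1 : tv u 1 = k * tv (eV i0) 1 * k⁻¹ := by rw [conj_tv]
    rw [h1]
    exact M.mul_mem (M.mul_mem hk (hyp.hR (tv_mem_R0 (ratV_eV F₀ i0) F₀.one_mem))) (M.inv_mem hk)
  exact ⟨u, hk₂, step2 hyp hk₂ hirr⟩

end Cfsg.Agent.H28SpSub
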