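import Mathlib
import Cfsg.Agent.Lib.Helper28.SpSubC
import Cfsg.Agent.Lib.Helper28.SubfC3

/-!
# Subfield subgroups of the symplectic group (helper28), part D: the rank one analysis
-/

set_option autoImplicit false

namespace Cfsg.Agent.H28SpSub

open Cfsg Matrix Cfsg.Agent.Helper2.Symp Cfsg.Agent.Helper28.SpSingMax
open scoped Cfsg.Agent.Helper2.Symp

variable {F : Type*} [Field F] {m : ℕ} {F₀ : Subfield F}
  {M : Subgroup (Matrix.symplecticGroup (Fin m) F)}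

theorem dep3 {K : Type*} [Field K] (p q : Fin 3 → K) :
    ∃ α : Fin 3 → K, (∃ i, α i ≠ 0) ∧ α 0 * p 0 + α 1 * p 1 + α 2 * p 2 = 0 ∧
      α 0 * q 0 + α 1 * q 1 + α 2 * q 2 = 0 := by
  have h : ¬ LinearIndependent K (fun i : Fin 3 => ![p i, q i]) := by
    intro hli
    have := hli.fintype_card_le_finrank
    simp at this
  rw [Fintype.not_linearIndependent_iff] at h
  obtain ⟨g, hg, hne⟩ := h
  refine ⟨g, hne, ?_, ?_⟩
  · have := congrFun hg 0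
    simpa [Fin.sum_univ_three] using this
  · have := congrFun hg 1
    simpa [Fin.sum_univ_three] using this

theorem dep3' (F₀ : Subfield F) (p q : Fin 3 → F) (hp : ∀ i, p i ∈ F₀)
    (hq : ∀ i, q i ∈ F₀) :
    ∃ α : Fin 3 → F, (∀ i, α i ∈ F₀) ∧ (∃ i, α i ≠ 0) ∧
      α 0 * p 0 + α 1 * p 1 + α 2 * p 2 = 0 ∧ α 0 * q 0 + α 1 * q 1 + α 2 * q 2 = 0 := by
  obtain ⟨α, ⟨i, hi⟩, h1, h2⟩ := dep3 (K := ↥F₀) (fun i => ⟨p i, hp i⟩) (fun i => ⟨q i, hq i⟩)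
  refine ⟨fun i => (α i : F), fun i => (α i).2, ⟨i, fun h => hi (Subtype.ext h)⟩, ?_, ?_⟩
  · have := congrArg Subtype.val h1
    simpa using this
  · have := congrArg Subtype.val h2
    simpa using this

/-- the radical vector of the span of `e₀`, `e₁`, `u` -/
def radV (e₀ e₁ u : Fin m ⊕ Fin m → F) : Fin m ⊕ Fin m → F := Bf e₁ u • e₀ - Bf e₀ u • e₁

theorem Bf_radV_left (e₀ e₁ u : Fin m ⊕ Fin m → F) (h01 : Bf e₀ e₁ = 0) :
    Bf (radV e₀ e₁ u) e₀ = 0 := by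
  have h10 : Bf e₁ e₀ = 0 := by rw [Bf_skew, h01, neg_zero]
  unfold radV
  rw [Bf_sub_left, Bf_smul_left, Bf_smul_left, Bf_self, h10, mul_zero, mul_zero, sub_zero]

theorem Bf_radV_right (e₀ e₁ u : Fin m ⊕ Fin m → F) (h01 : Bf e₀ e₁ = 0) :
    Bf (radV e₀ e₁ u) e₁ = 0 := by
  unfold radV
  rw [Bf_sub_left, Bf_smul_left, Bf_smul_left, Bf_self, h01, mul_zero, mul_zero, sub_zero]

theorem Bf_radV_u (e₀ e₁ u : Fin m ⊕ Fin m → F) : Bf (radV e₀ e₁ u) u = 0 := by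
  unfold radV
  rw [Bf_sub_left, Bf_smul_left, Bf_smul_left]
  ring

/-- the elements of `M` fixing the orthogonal of `e₀`, `e₁`, `u` pointwise -/
def GW (M : Subgroup (Matrix.symplecticGroup (Fin m) F)) (e₀ e₁ u : Fin m ⊕ Fin m → F) :
    Subgroup (Matrix.symplecticGroup (Fin m) F) where
  carrier := {g | g ∈ M ∧ ∀ y : Fin m ⊕ Fin m → F, Bf y e₀ = 0 → Bf y e₁ = 0 → Bf y u = 0 →
    g • y = y}
  mul_mem' := by
    rintro g h ⟨hg, hg'⟩ ⟨hh, hh'⟩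
    refine ⟨M.mul_mem hg hh, fun y h0 h1 h2 => ?_⟩
    rw [mul_smul, hh' y h0 h1 h2, hg' y h0 h1 h2]
  one_mem' := ⟨M.one_mem, fun y _ _ _ => one_smul _ y⟩
  inv_mem' := by
    rintro g ⟨hg, hg'⟩
    refine ⟨M.inv_mem hg, fun y h0 h1 h2 => ?_⟩
    rw [inv_smul_eq_iff, hg' y h0 h1 h2]

theorem mem_GW_iff {e₀ e₁ u : Fin m ⊕ Fin m → F} {g : Matrix.symplecticGroup (Fin m) F} :
    g ∈ GW M e₀ e₁ u ↔ g ∈ M ∧ ∀ y : Fin m ⊕ Fin m → F, Bf y e₀ = 0 → Bf y e₁ = 0 → Bf y u = 0 →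
      g • y = y := Iff.rfl

theorem GW_fix_radV {e₀ e₁ u : Fin m ⊕ Fin m → F} (h01 : Bf e₀ e₁ = 0)
    {g : Matrix.symplecticGroup (Fin m) F} (hg : g ∈ GW M e₀ e₁ u) :
    g • radV e₀ e₁ u = radV e₀ e₁ u :=
  hg.2 _ (Bf_radV_left e₀ e₁ u h01) (Bf_radV_right e₀ e₁ u h01) (Bf_radV_u e₀ e₁ u)

theorem entries_mul_inv (X : GL (Fin 2) F) :
    (X : Matrix (Fin 2) (Fin 2) F) 0 0 * ((X⁻¹ : GL (Fin 2) F) : Matrix (Fin 2) (Fin 2) F) 0 0 +
      (X : Matrix (Fin 2) (Fin 2) F) 0 1 * ((X⁻¹ : GL (Fin 2) F) : Matrix (Fin 2) (Fin 2) F) 1 0 = 1 ∧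
    (X : Matrix (Fin 2) (Fin 2) F) 1 0 * ((X⁻¹ : GL (Fin 2) F) : Matrix (Fin 2) (Fin 2) F) 0 0 +
      (X : Matrix (Fin 2) (Fin 2) F) 1 1 * ((X⁻¹ : GL (Fin 2) F) : Matrix (Fin 2) (Fin 2) F) 1 0 = 0 ∧
    (X : Matrix (Fin 2) (Fin 2) F) 0 0 * ((X⁻¹ : GL (Fin 2) F) : Matrix (Fin 2) (Fin 2) F) 0 1 +
      (X : Matrix (Fin 2) (Fin 2) F) 0 1 * ((X⁻¹ : GL (Fin 2) F) : Matrix (Fin 2) (Fin 2) F) 1 1 = 0 ∧
    (X : Matrix (Fin 2) (Fin 2) F) 1 0 * ((X⁻¹ : GL (Fin 2) F) : Matrix (Fin 2) (Fin 2) F) 0 1 +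
      (X : Matrix (Fin 2) (Fin 2) F) 1 1 * ((X⁻¹ : GL (Fin 2) F) : Matrix (Fin 2) (Fin 2) F) 1 1 = 1 := by
  have h : (X : Matrix (Fin 2) (Fin 2) F) * ((X⁻¹ : GL (Fin 2) F) : Matrix (Fin 2) (Fin 2) F) = 1 := by
    rw [← Units.val_mul, mul_inv_cancel, Units.val_one]
  have h00 := congrFun (congrFun h 0) 0
  have h10 := congrFun (congrFun h 1) 0
  have h01 := congrFun (congrFun h 0) 1
  have h11 := congrFun (congrFun h 1) 1
  rw [Matrix.mul_apply, Fin.sum_univ_two] at h00 h10 h01 h11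
  refine ⟨?_, ?_, ?_, ?_⟩
  · rw [h00]; rfl
  · rw [h10]; rfl
  · rw [h01]; rfl
  · rw [h11]; rfl

/-- the group induced by `GW` on the span of `e₀`, `e₁`, `u` modulo its radical -/
def indR (M : Subgroup (Matrix.symplecticGroup (Fin m) F)) (e₀ e₁ u : Fin m ⊕ Fin m → F)
    (h01 : Bf e₀ e₁ = 0) : Subgroup (GL (Fin 2) F) where
  carrier := {X | ∃ g ∈ GW M e₀ e₁ u, ∃ a b : F,
    g • e₀ = (X : Matrix (Fin 2) (Fin 2) F) 0 0 • e₀ + (X : Matrix (Fin 2) (Fin 2) F) 1 0 • u +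
      a • radV e₀ e₁ u ∧
    g • u = (X : Matrix (Fin 2) (Fin 2) F) 0 1 • e₀ + (X : Matrix (Fin 2) (Fin 2) F) 1 1 • u +
      b • radV e₀ e₁ u}
  mul_mem' := by
    rintro X Y ⟨g, hg, a, b, hg0, hg1⟩ ⟨h, hh, a', b', hh0, hh1⟩
    have hgr := GW_fix_radV h01 hg
    refine ⟨g * h, (GW M e₀ e₁ u).mul_mem hg hh,
      (Y : Matrix (Fin 2) (Fin 2) F) 0 0 * a + (Y : Matrix (Fin 2) (Fin 2) F) 1 0 * b + a',
      (Y : Matrix (Fin 2) (Fin 2) F) 0 1 * a + (Y : Matrix (Fin 2) (Fin 2) F) 1 1 * b + b', ?_, ?_⟩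
    · rw [mul_smul, hh0, smul_add, smul_add, smul_comm g, smul_comm g, smul_comm g, hg0, hg1, hgr,
        Units.val_mul, Matrix.mul_apply, Matrix.mul_apply, Fin.sum_univ_two, Fin.sum_univ_two]
      module
    · rw [mul_smul, hh1, smul_add, smul_add, smul_comm g, smul_comm g, smul_comm g, hg0, hg1, hgr,
        Units.val_mul, Matrix.mul_apply, Matrix.mul_apply, Fin.sum_univ_two, Fin.sum_univ_two]
      module
  one_mem' := by
    refine ⟨1, (GW M e₀ e₁ u).one_mem, 0, 0, ?_, ?_⟩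
    · rw [one_smul, Units.val_one, Matrix.one_apply_eq, Matrix.one_apply_ne (by decide)]
      module
    · rw [one_smul, Units.val_one, Matrix.one_apply_eq, Matrix.one_apply_ne (by decide)]
      module
  inv_mem' := by
    rintro X ⟨g, hg, a, b, hg0, hg1⟩
    have hgr := GW_fix_radV h01 hg
    obtain ⟨m00, m10, m01, m11⟩ := entries_mul_inv X
    refine ⟨g⁻¹, (GW M e₀ e₁ u).inv_mem hg,
      -(a * ((X⁻¹ : GL (Fin 2) F) : Matrix (Fin 2) (Fin 2) F) 0 0 +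
        b * ((X⁻¹ : GL (Fin 2) F) : Matrix (Fin 2) (Fin 2) F) 1 0),
      -(a * ((X⁻¹ : GL (Fin 2) F) : Matrix (Fin 2) (Fin 2) F) 0 1 +
        b * ((X⁻¹ : GL (Fin 2) F) : Matrix (Fin 2) (Fin 2) F) 1 1), ?_, ?_⟩
    · rw [inv_smul_eq_iff, smul_add, smul_add, smul_comm g, smul_comm g, smul_comm g, hg0, hg1, hgr]
      have h1 : ((X⁻¹ : GL (Fin 2) F) : Matrix (Fin 2) (Fin 2) F) 0 0 •
            ((X : Matrix (Fin 2) (Fin 2) F) 0 0 • e₀ + (X : Matrix (Fin 2) (Fin 2) F) 1 0 • u +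
              a • radV e₀ e₁ u) +
          ((X⁻¹ : GL (Fin 2) F) : Matrix (Fin 2) (Fin 2) F) 1 0 •
            ((X : Matrix (Fin 2) (Fin 2) F) 0 1 • e₀ + (X : Matrix (Fin 2) (Fin 2) F) 1 1 • u +
              b • radV e₀ e₁ u) +
          (-(a * ((X⁻¹ : GL (Fin 2) F) : Matrix (Fin 2) (Fin 2) F) 0 0 +
            b * ((X⁻¹ : GL (Fin 2) F) : Matrix (Fin 2) (Fin 2) F) 1 0)) • radV e₀ e₁ u =
          ((X : Matrix (Fin 2) (Fin 2) F) 0 0 * ((X⁻¹ : GL (Fin 2) F) : Matrix (Fin 2) (Fin 2) F) 0 0 +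
            (X : Matrix (Fin 2) (Fin 2) F) 0 1 *
              ((X⁻¹ : GL (Fin 2) F) : Matrix (Fin 2) (Fin 2) F) 1 0) • e₀ +
          ((X : Matrix (Fin 2) (Fin 2) F) 1 0 * ((X⁻¹ : GL (Fin 2) F) : Matrix (Fin 2) (Fin 2) F) 0 0 +
            (X : Matrix (Fin 2) (Fin 2) F) 1 1 *
              ((X⁻¹ : GL (Fin 2) F) : Matrix (Fin 2) (Fin 2) F) 1 0) • u := by
        module
      rw [h1, m00, m10, one_smul, zero_smul, add_zero]
    · rw [inv_smul_eq_iff, smul_add, smul_add, smul_comm g, smul_comm g, smul_comm g, hg0, hg1, hgr]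
      have h1 : ((X⁻¹ : GL (Fin 2) F) : Matrix (Fin 2) (Fin 2) F) 0 1 •
            ((X : Matrix (Fin 2) (Fin 2) F) 0 0 • e₀ + (X : Matrix (Fin 2) (Fin 2) F) 1 0 • u +
              a • radV e₀ e₁ u) +
          ((X⁻¹ : GL (Fin 2) F) : Matrix (Fin 2) (Fin 2) F) 1 1 •
            ((X : Matrix (Fin 2) (Fin 2) F) 0 1 • e₀ + (X : Matrix (Fin 2) (Fin 2) F) 1 1 • u +
              b • radV e₀ e₁ u) +
          (-(a * ((X⁻¹ : GL (Fin 2) F) : Matrix (Fin 2) (Fin 2) F) 0 1 +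
            b * ((X⁻¹ : GL (Fin 2) F) : Matrix (Fin 2) (Fin 2) F) 1 1)) • radV e₀ e₁ u =
          ((X : Matrix (Fin 2) (Fin 2) F) 0 0 * ((X⁻¹ : GL (Fin 2) F) : Matrix (Fin 2) (Fin 2) F) 0 1 +
            (X : Matrix (Fin 2) (Fin 2) F) 0 1 *
              ((X⁻¹ : GL (Fin 2) F) : Matrix (Fin 2) (Fin 2) F) 1 1) • e₀ +
          ((X : Matrix (Fin 2) (Fin 2) F) 1 0 * ((X⁻¹ : GL (Fin 2) F) : Matrix (Fin 2) (Fin 2) F) 0 1 +
            (X : Matrix (Fin 2) (Fin 2) F) 1 1 *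
              ((X⁻¹ : GL (Fin 2) F) : Matrix (Fin 2) (Fin 2) F) 1 1) • u := by
        module
      rw [h1, m01, m11, one_smul, zero_smul, zero_add]

theorem mem_indR_iff {e₀ e₁ u : Fin m ⊕ Fin m → F} (h01 : Bf e₀ e₁ = 0) {X : GL (Fin 2) F} :
    X ∈ indR M e₀ e₁ u h01 ↔ ∃ g ∈ GW M e₀ e₁ u, ∃ a b : F,
      g • e₀ = (X : Matrix (Fin 2) (Fin 2) F) 0 0 • e₀ + (X : Matrix (Fin 2) (Fin 2) F) 1 0 • u +
        a • radV e₀ e₁ u ∧
      g • u = (X : Matrix (Fin 2) (Fin 2) F) 0 1 • e₀ + (X : Matrix (Fin 2) (Fin 2) F) 1 1 • u +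
        b • radV e₀ e₁ u := Iff.rfl

/-- an element of `GW` mapping `eV i0` into the span of `eV i0` and the radical fixes `eV i0` -/
theorem ut_fix (hyp : Hyp F₀ M) {u : Fin m ⊕ Fin m → F}
    (htot : ∀ w : Fin m ⊕ Fin m → F, RatV F₀ w → w ≠ 0 → Bf w u ≠ 0)
    {i0 i1 i2 : Fin m} (h01 : i0 ≠ i1) (h02 : i0 ≠ i2) (h12 : i1 ≠ i2)
    {g : Matrix.symplecticGroup (Fin m) F} (hg : g ∈ GW M (eV i0) (eV i1) u) {x a : F}
    (hge : g • (eV i0 : Fin m ⊕ Fin m → F) = x • eV i0 + a • radV (eV i0) (eV i1) u) :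
    g • (eV i0 : Fin m ⊕ Fin m → F) = eV i0 := by
  have he : RatV F₀ (eV i0 : Fin m ⊕ Fin m → F) := ratV_eV F₀ i0
  have he0 : (eV i0 : Fin m ⊕ Fin m → F) ≠ 0 := eV_ne_zero i0
  have hb01 : Bf (eV i0 : Fin m ⊕ Fin m → F) (eV i1) = 0 := Bf_eV_eV _ _
  have hgM : g ∈ M := hg.1
  have h1 : Bf (eV i0 : Fin m ⊕ Fin m → F) (g • (eV i0 : Fin m ⊕ Fin m → F)) = 0 := by
    have h2 : Bf (eV i0 : Fin m ⊕ Fin m → F) (radV (eV i0) (eV i1) u) = 0 := by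
      rw [Bf_skew, Bf_radV_left _ _ _ hb01, neg_zero]
    rw [hge, Bf_add_right, Bf_smul_right, Bf_smul_right, Bf_self, h2, mul_zero, mul_zero, add_zero]
  have ht' : tv (g • (eV i0 : Fin m ⊕ Fin m → F)) 1 ∈ M := by
    rw [← conj_tv]
    exact M.mul_mem (M.mul_mem hgM (hyp.hR (tv_mem_R0 he F₀.one_mem))) (M.inv_mem hgM)
  have hfix : tv (g • (eV i0 : Fin m ⊕ Fin m → F)) 1 • (eV i0 : Fin m ⊕ Fin m → F) =
      (1 : F) • eV i0 := by
    rw [tv_smul, h1, mul_zero, zero_smul, add_zero, one_smul]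
  have hrat := step1 hyp ht' he he0 hfix
  have hge0 : g • (eV i0 : Fin m ⊕ Fin m → F) ≠ 0 := smul_ne_zero_of_ne g he0
  obtain ⟨v, hv, hv'⟩ := exists_ratV_Bf_ne (F₀ := F₀) hge0
  have ht0 : Bf v (g • (eV i0 : Fin m ⊕ Fin m → F)) ≠ 0 := by
    rw [Bf_skew]; exact neg_ne_zero.2 hv'
  have hr : RatV F₀ (Bf v (g • (eV i0 : Fin m ⊕ Fin m → F)) • (g • (eV i0 : Fin m ⊕ Fin m → F))) := by
    have h2 := hrat v hv
    rw [one_smul, tv_smul, one_mul] at h2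
    have h3 := ratV_sub h2 hv
    rwa [add_sub_cancel_left] at h3
  have hs := maps_rat hyp hgM he he0 ht0 hr
  set s : F := (Bf v (g • (eV i0 : Fin m ⊕ Fin m → F)))⁻¹ with hs_def
  have hs0 : s ≠ 0 := inv_ne_zero ht0
  set D : F := Bf (eV i0 : Fin m ⊕ Fin m → F) u with hD
  have hD0 : D ≠ 0 := htot _ he he0
  by_contra hne
  set δ : Fin m ⊕ Fin m → F := g • (eV i0 : Fin m ⊕ Fin m → F) - eV i0 with hδ
  have hδ0 : δ ≠ 0 := fun h => hne (sub_eq_zero.mp h)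
  obtain ⟨j, hj⟩ : ∃ j, δ j ≠ 0 := by
    by_contra hcon
    push Not at hcon
    exact hδ0 (funext hcon)
  have key : ∀ w : Fin m ⊕ Fin m → F, Bf w (eV i0) = 0 → Bf w (eV i1) = 0 →
      g • w = w + (Bf w u * D⁻¹) • δ := by
    intro w hw0 hw1
    have h2 := hg.2 (w - (Bf w u * D⁻¹) • eV i0)
      (by rw [Bf_sub_left, Bf_smul_left, Bf_self, hw0, mul_zero, sub_zero])
      (by rw [Bf_sub_left, Bf_smul_left, hb01, hw1, mul_zero, sub_zero])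
      (by rw [Bf_sub_left, Bf_smul_left, ← hD, mul_assoc, inv_mul_cancel₀ hD0, mul_one, sub_self])
    rw [smul_sub, smul_comm g] at h2
    rw [hδ, smul_sub]
    have h3 : g • w = (g • w - (Bf w u * D⁻¹) • g • (eV i0 : Fin m ⊕ Fin m → F)) +
        (Bf w u * D⁻¹) • g • (eV i0 : Fin m ⊕ Fin m → F) := by abel
    rw [h3, h2]
    abel
  -- the three test vectors
  set wv : Fin 3 → (Fin m ⊕ Fin m → F) := ![eV i0, eV i1, eV i2] with hwv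
  have hwrat : ∀ i, RatV F₀ (wv i) := by
    intro i
    fin_cases i
    · exact ratV_eV F₀ i0
    · exact ratV_eV F₀ i1
    · exact ratV_eV F₀ i2
  have hw0 : ∀ i, Bf (wv i) (eV i0 : Fin m ⊕ Fin m → F) = 0 := by
    intro i
    fin_cases i <;> exact Bf_eV_eV _ _
  have hw1 : ∀ i, Bf (wv i) (eV i1 : Fin m ⊕ Fin m → F) = 0 := by
    intro i
    fin_cases i <;> exact Bf_eV_eV _ _
  have hp : ∀ i, (s • (g • wv i)) j ∈ F₀ := fun i => hs (wv i) (hwrat i) j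
  have hq : ∀ i, (wv i) j ∈ F₀ := fun i => hwrat i j
  have hpq : ∀ i, (s • (g • wv i)) j = s * ((wv i) j + (Bf (wv i) u * D⁻¹) * δ j) := by
    intro i
    rw [key (wv i) (hw0 i) (hw1 i), Pi.smul_apply, Pi.add_apply, Pi.smul_apply, smul_eq_mul,
      smul_eq_mul]
  obtain ⟨α, hαF, hαne, hα1, hα2⟩ := dep3' F₀ (fun i => (s • (g • wv i)) j) (fun i => (wv i) j) hp hq
  simp only [hpq] at hα1
  have hsum : α 0 * Bf (wv 0) u + α 1 * Bf (wv 1) u + α 2 * Bf (wv 2) u = 0 := by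
    have h2 : (s * δ j * D⁻¹) * (α 0 * Bf (wv 0) u + α 1 * Bf (wv 1) u + α 2 * Bf (wv 2) u) = 0 := by
      linear_combination hα1 - s * hα2
    rcases mul_eq_zero.mp h2 with h3 | h3
    · exfalso
      exact mul_ne_zero (mul_ne_zero hs0 hj) (inv_ne_zero hD0) h3
    · exact h3
  set W : Fin m ⊕ Fin m → F := α 0 • wv 0 + α 1 • wv 1 + α 2 • wv 2 with hW
  have hWrat : RatV F₀ W :=
    ratV_add (ratV_add (ratV_smul (hαF 0) (hwrat 0)) (ratV_smul (hαF 1) (hwrat 1)))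
      (ratV_smul (hαF 2) (hwrat 2))
  have hWu : Bf W u = 0 := by
    rw [hW, Bf_add_left, Bf_add_left, Bf_smul_left, Bf_smul_left, Bf_smul_left]
    exact hsum
  have hW0 : W = 0 := by
    by_contra h
    exact htot W hWrat h hWu
  have c0 := congrFun hW0 (Sum.inl i0)
  have c1 := congrFun hW0 (Sum.inl i1)
  have c2 := congrFun hW0 (Sum.inl i2)
  simp only [hW, hwv, Pi.add_apply, Pi.smul_apply, Matrix.cons_val_zero, Matrix.cons_val_one,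
    Matrix.cons_val_two, Matrix.head_cons, Matrix.tail_cons, smul_eq_mul, Pi.zero_apply] at c0 c1 c2
  rw [eV_inl_same, eV_inl_ne h01, eV_inl_ne h02, mul_one, mul_zero, mul_zero, add_zero,
    add_zero] at c0
  rw [eV_inl_same, eV_inl_ne (Ne.symm h01), eV_inl_ne h12, mul_one, mul_zero, mul_zero, zero_add,
    add_zero] at c1
  rw [eV_inl_same, eV_inl_ne (Ne.symm h02), eV_inl_ne (Ne.symm h12), mul_one, mul_zero, mul_zero,
    zero_add, zero_add] at c2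
  obtain ⟨i, hi⟩ := hαne
  fin_cases i
  · exact hi c0
  · exact hi c1
  · exact hi c2

/-! ### elements of the induced group -/

/-- lower unitriangular matrices -/
noncomputable def lmat (b : F) : GL (Fin 2) F :=
  Matrix.GeneralLinearGroup.mkOfDetNeZero !![1, 0; b, 1] (by simp [Matrix.det_fin_two])

theorem lmat_val (b : F) :
    ((lmat b : GL (Fin 2) F) : Matrix (Fin 2) (Fin 2) F) = !![1, 0; b, 1] := rfl

theorem tv_mem_GW_left (hR : R0 m F₀ ≤ M) {e₀ e₁ u : Fin m ⊕ Fin m → F} (he₀ : RatV F₀ e₀)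
    {c : F} (hc : c ∈ F₀) : tv e₀ c ∈ GW M e₀ e₁ u := by
  refine ⟨hR (tv_mem_R0 he₀ hc), fun y h0 _ _ => ?_⟩
  rw [tv_smul, h0, mul_zero, zero_smul, add_zero]

theorem tv_mem_GW_right (hR : R0 m F₀ ≤ M) {e₀ e₁ u : Fin m ⊕ Fin m → F} (he₁ : RatV F₀ e₁)
    {c : F} (hc : c ∈ F₀) : tv e₁ c ∈ GW M e₀ e₁ u := by
  refine ⟨hR (tv_mem_R0 he₁ hc), fun y _ h1 _ => ?_⟩
  rw [tv_smul, h1, mul_zero, zero_smul, add_zero]

theorem sr_mem_GW (hR : R0 m F₀ ≤ M) {e₀ e₁ u : Fin m ⊕ Fin m → F} (h01 : Bf e₀ e₁ = 0)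
    (he₀ : RatV F₀ e₀) (he₁ : RatV F₀ e₁) {c : F} (hc : c ∈ F₀) : sr e₀ e₁ c ∈ GW M e₀ e₁ u := by
  refine ⟨hR (sr_mem_R0 he₀ he₁ hc), fun y h0 h1 _ => ?_⟩
  rw [sr_smul e₀ e₁ h01, h0, h1, zero_smul, zero_smul, add_zero, smul_zero, add_zero]

theorem tv_mem_GW_u {e₀ e₁ u : Fin m ⊕ Fin m → F} {c : F} (hu : tv u c ∈ M) :
    tv u c ∈ GW M e₀ e₁ u := by
  refine ⟨hu, fun y _ _ h2 => ?_⟩
  rw [tv_smul, h2, mul_zero, zero_smul, add_zero]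

theorem xmat_mem_indR {e₀ e₁ u : Fin m ⊕ Fin m → F} (h01 : Bf e₀ e₁ = 0)
    {g : Matrix.symplecticGroup (Fin m) F} (hg : g ∈ GW M e₀ e₁ u) {β b : F} (h0 : g • e₀ = e₀)
    (h1 : g • u = β • e₀ + u + b • radV e₀ e₁ u) :
    Cfsg.Agent.Helper28.Subf.xmat β ∈ indR M e₀ e₁ u h01 := by
  rw [mem_indR_iff]
  refine ⟨g, hg, 0, b, ?_, ?_⟩
  · rw [h0, Cfsg.Agent.Helper28.Subf.xmat_val]
    simp
  · rw [h1, Cfsg.Agent.Helper28.Subf.xmat_val]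
    simp

theorem lmat_mem_indR {e₀ e₁ u : Fin m ⊕ Fin m → F} (h01 : Bf e₀ e₁ = 0) (hu : tv u 1 ∈ M) :
    lmat (Bf e₀ u) ∈ indR M e₀ e₁ u h01 := by
  rw [mem_indR_iff]
  refine ⟨tv u 1, tv_mem_GW_u hu, 0, 0, ?_, ?_⟩
  · rw [tv_smul, one_mul, lmat_val]
    simp
  · rw [tv_smul, Bf_self, mul_zero, zero_smul, add_zero, lmat_val]
    simp

theorem unip_char2 (e₀ e₁ u : Fin m ⊕ Fin m → F) (h01 : Bf e₀ e₁ = 0) (f φ₁ : F)
    (hf : Bf e₀ u = f) (hφ : Bf e₁ u = φ₁) (hf0 : f ≠ 0) (c₁ c₂ : F) :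
    (tv e₀ c₁ * tv e₁ c₂) • e₀ = e₀ ∧
    (tv e₀ c₁ * tv e₁ c₂) • u = (-(c₁ * f + c₂ * φ₁ * φ₁ / f)) • e₀ + u +
      (c₂ * φ₁ / f) • radV e₀ e₁ u := by
  have h10 : Bf e₁ e₀ = 0 := by rw [Bf_skew, h01, neg_zero]
  have hue₀ : Bf u e₀ = -f := by rw [Bf_skew, hf]
  have hue₁ : Bf u e₁ = -φ₁ := by rw [Bf_skew, hφ]
  constructor
  · have hi : tv e₁ c₂ • e₀ = e₀ := by rw [tv_smul, h01, mul_zero, zero_smul, add_zero]
    rw [mul_smul, hi, tv_smul, Bf_self, mul_zero, zero_smul, add_zero]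
  · rw [mul_smul, tv_smul, tv_smul, Bf_add_left, Bf_smul_left, hue₁, hue₀, h10]
    unfold radV
    rw [hf, hφ]
    match_scalars <;> field_simp <;> ring

theorem unip_odd (e₀ e₁ u : Fin m ⊕ Fin m → F) (h01 : Bf e₀ e₁ = 0) (f φ₁ : F)
    (hf : Bf e₀ u = f) (hφ : Bf e₁ u = φ₁) (c₁ c₂ : F) :
    (tv e₀ c₁ * sr e₀ e₁ c₂) • e₀ = e₀ ∧
    (tv e₀ c₁ * sr e₀ e₁ c₂) • u = (-(c₁ * f + 2 * c₂ * φ₁)) • e₀ + u + c₂ • radV e₀ e₁ u := by
  have h10 : Bf e₁ e₀ = 0 := by rw [Bf_skew, h01, neg_zero]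
  have hue₀ : Bf u e₀ = -f := by rw [Bf_skew, hf]
  have hue₁ : Bf u e₁ = -φ₁ := by rw [Bf_skew, hφ]
  constructor
  · rw [mul_smul, sr_smul e₀ e₁ h01, Bf_self, h01, zero_smul, zero_smul, add_zero, smul_zero,
      add_zero, tv_smul, Bf_self, mul_zero, zero_smul, add_zero]
  · rw [mul_smul, sr_smul e₀ e₁ h01, tv_smul, hue₀, hue₁]
    simp only [Bf_add_left, Bf_smul_left, Bf_self, h10, hue₀, mul_zero, add_zero]
    unfold radV
    rw [hf, hφ]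
    module

/-- the rank one contradiction -/
theorem rank_one_false [Fintype F] (hyp : Hyp F₀ M) {u : Fin m ⊕ Fin m → F} (hu : tv u 1 ∈ M)
    (htot : ∀ w : Fin m ⊕ Fin m → F, RatV F₀ w → w ≠ 0 → Bf w u ≠ 0) : False := by
  classical
  obtain ⟨i0, i1, i2, h01, h02, h12⟩ := exists_three (by have := hyp.hm; omega : 3 ≤ m)
  have hR := hyp.hR
  obtain ⟨e₀, he₀⟩ : ∃ e₀ : Fin m ⊕ Fin m → F, e₀ = eV i0 := ⟨_, rfl⟩
  obtain ⟨e₁, he₁⟩ : ∃ e₁ : Fin m ⊕ Fin m → F, e₁ = eV i1 := ⟨_, rfl⟩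
  have hb01 : Bf e₀ e₁ = 0 := by rw [he₀, he₁]; exact Bf_eV_eV _ _
  have hre₀ : RatV F₀ e₀ := by rw [he₀]; exact ratV_eV F₀ i0
  have hre₁ : RatV F₀ e₁ := by rw [he₁]; exact ratV_eV F₀ i1
  have hne₀ : e₀ ≠ 0 := by rw [he₀]; exact eV_ne_zero i0
  have hne₁ : e₁ ≠ 0 := by rw [he₁]; exact eV_ne_zero i1
  obtain ⟨f, hf⟩ : ∃ f : F, Bf e₀ u = f := ⟨_, rfl⟩
  obtain ⟨φ₁, hφ⟩ : ∃ φ₁ : F, Bf e₁ u = φ₁ := ⟨_, rfl⟩
  have hf0 : f ≠ 0 := by rw [← hf]; exact htot e₀ hre₀ hne₀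
  -- independence of `f`, `φ₁` over the subfield
  have hind : ∀ α β : F, α ∈ F₀ → β ∈ F₀ → α * f + β * φ₁ = 0 → α = 0 ∧ β = 0 := by
    intro α β hα hβ h
    have hW : RatV F₀ (α • e₀ + β • e₁) := ratV_add (ratV_smul hα hre₀) (ratV_smul hβ hre₁)
    have hWu : Bf (α • e₀ + β • e₁) u = 0 := by
      rw [Bf_add_left, Bf_smul_left, Bf_smul_left, hf, hφ]
      exact h
    have hW0 : α • e₀ + β • e₁ = 0 := by
      by_contra hne
      exact htot _ hW hne hWu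
    have c0 := congrFun hW0 (Sum.inl i0)
    have c1 := congrFun hW0 (Sum.inl i1)
    simp only [he₀, he₁, Pi.add_apply, Pi.smul_apply, eV_inl_same, eV_inl_ne h01, smul_eq_mul,
      mul_one, mul_zero, add_zero, Pi.zero_apply] at c0
    simp only [he₀, he₁, Pi.add_apply, Pi.smul_apply, eV_inl_same, eV_inl_ne (Ne.symm h01),
      smul_eq_mul, mul_one, mul_zero, zero_add, Pi.zero_apply] at c1
    exact ⟨c0, c1⟩
  -- upper triangular elements are unipotent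
  have hut : ∀ X ∈ indR M e₀ e₁ u hb01, (X : Matrix (Fin 2) (Fin 2) F) 1 0 = 0 →
      (X : Matrix (Fin 2) (Fin 2) F) 0 0 = 1 ∧ (X : Matrix (Fin 2) (Fin 2) F) 1 1 = 1 := by
    intro X hX hX10
    obtain ⟨g, hg, a, b, hg0, hg1⟩ := hX
    rw [hX10, zero_smul, add_zero] at hg0
    have hfix : g • e₀ = e₀ := by
      subst he₀ he₁
      exact ut_fix hyp htot h01 h02 h12 hg hg0
    have hBr : Bf (radV e₀ e₁ u) u = 0 := Bf_radV_u _ _ _
    have hBer : Bf e₀ (radV e₀ e₁ u) = 0 := by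
      rw [Bf_skew, Bf_radV_left _ _ _ hb01, neg_zero]
    constructor
    · have h1 : Bf (g • e₀) u = f := by rw [hfix, hf]
      rw [hg0, Bf_add_left, Bf_smul_left, Bf_smul_left, hBr, mul_zero, add_zero, hf] at h1
      exact mul_right_cancel₀ hf0 (h1.trans (one_mul f).symm)
    · have h1 : Bf (g • e₀) (g • u) = f := by rw [Bf_smul_smul, hf]
      rw [hfix, hg1, Bf_add_right, Bf_add_right, Bf_smul_right, Bf_smul_right, Bf_smul_right,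
        Bf_self, hBer, mul_zero, mul_zero, zero_add, add_zero, hf] at h1
      exact mul_right_cancel₀ hf0 (h1.trans (one_mul f).symm)
  have ha : ∀ X ∈ indR M e₀ e₁ u hb01, (X : Matrix (Fin 2) (Fin 2) F) 1 0 = 0 →
      ∀ Y ∈ indR M e₀ e₁ u hb01, (Y : Matrix (Fin 2) (Fin 2) F) 1 0 ≠ 0 →
      ((Y⁻¹ * X * Y : GL (Fin 2) F) : Matrix (Fin 2) (Fin 2) F) 1 0 = 0 →
      ∃ s : F, (X : Matrix (Fin 2) (Fin 2) F) = s • 1 := by
    intro X hX hX10 Y hY hY10 hZ10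
    obtain ⟨hX00, hX11⟩ := hut X hX hX10
    have hZ : Y⁻¹ * X * Y ∈ indR M e₀ e₁ u hb01 :=
      Subgroup.mul_mem _ (Subgroup.mul_mem _ (Subgroup.inv_mem _ hY) hX) hY
    obtain ⟨hZ00, hZ11⟩ := hut _ hZ hZ10
    obtain ⟨Z, hZdef⟩ : ∃ Z : GL (Fin 2) F, Z = Y⁻¹ * X * Y := ⟨_, rfl⟩
    rw [← hZdef] at hZ10 hZ00
    have hXY : X * Y = Y * Z := by rw [hZdef]; group
    have e00 := congrArg (fun t : GL (Fin 2) F => (t : Matrix (Fin 2) (Fin 2) F) 0 0) hXY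
    simp only [Units.val_mul, Matrix.mul_apply, Fin.sum_univ_two] at e00
    rw [hX00, hZ00, hZ10, mul_zero, add_zero, one_mul, mul_one] at e00
    have hX01 : (X : Matrix (Fin 2) (Fin 2) F) 0 1 = 0 := by
      have h1 : (X : Matrix (Fin 2) (Fin 2) F) 0 1 * (Y : Matrix (Fin 2) (Fin 2) F) 1 0 = 0 := by
        linear_combination e00
      exact (mul_eq_zero.mp h1).resolve_right hY10
    refine ⟨1, ?_⟩
    ext i j
    fin_cases i <;> fin_cases j <;> simp [hX00, hX10, hX01, hX11]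
  have hd : ∃ Y ∈ indR M e₀ e₁ u hb01, (Y : Matrix (Fin 2) (Fin 2) F) 1 0 ≠ 0 := by
    refine ⟨lmat (Bf e₀ u), lmat_mem_indR hb01 hu, ?_⟩
    rw [lmat_val, hf]
    simpa using hf0
  haveI : Fintype ↥F₀ := Fintype.ofFinite _
  have hcard : 4 ≤ Fintype.card (↥F₀ × ↥F₀) := by
    rw [Fintype.card_prod]
    have : 1 < Fintype.card ↥F₀ := Fintype.one_lt_card
    nlinarith
  by_cases h2 : (2 : F) = 0
  · -- characteristic two
    have hsq : ∀ γ : F, γ ∈ F₀ → ∃ η : F, η ∈ F₀ ∧ γ = η * η := by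
      intro γ hγ
      have h2' : ((2 : ℕ) : ↥F₀) = 0 := by
        apply Subtype.ext
        push_cast
        exact h2
      have hchar : ringChar ↥F₀ = 2 := CharP.ringChar_of_prime_eq_zero Nat.prime_two h2'
      obtain ⟨η, hη⟩ := FiniteField.isSquare_of_char_two hchar (⟨γ, hγ⟩ : ↥F₀)
      refine ⟨η, η.2, ?_⟩
      have := congrArg Subtype.val hη
      simpa using this
    apply Cfsg.Agent.Helper28.Subf.frob_false (indR M e₀ e₁ u hb01) ha (ι := ↥F₀ × ↥F₀)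
      (fun c => -((c.1 : F) * f + (c.2 : F) * φ₁ * φ₁ / f)) ?_ hcard ?_ hd
    · intro c c' hcc
      simp only at hcc
      have e1 : ∀ a b : F, -(a * f + b * φ₁ * φ₁ / f) * f = -(a * (f * f) + b * (φ₁ * φ₁)) := by
        intro a b
        field_simp
      have h3 := congrArg (fun t => t * f) hcc
      simp only [e1] at h3
      obtain ⟨η₁, hη₁, e₁'⟩ := hsq ((c.1 : F) - (c'.1 : F)) (F₀.sub_mem c.1.2 c'.1.2)
      obtain ⟨η₂, hη₂, e₂'⟩ := hsq ((c.2 : F) - (c'.2 : F)) (F₀.sub_mem c.2.2 c'.2.2)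
      have h4 : (η₁ * f + η₂ * φ₁) * (η₁ * f + η₂ * φ₁) = 0 := by
        linear_combination -h3 + (η₁ * η₂ * f * φ₁) * h2 - (f * f) * e₁' - (φ₁ * φ₁) * e₂'
      have h5 : η₁ * f + η₂ * φ₁ = 0 := mul_self_eq_zero.mp h4
      obtain ⟨z1, z2⟩ := hind η₁ η₂ hη₁ hη₂ h5
      rw [z1, mul_zero] at e₁'
      rw [z2, mul_zero] at e₂'
      exact Prod.ext (Subtype.ext (sub_eq_zero.mp e₁')) (Subtype.ext (sub_eq_zero.mp e₂'))
    · intro c
      obtain ⟨k0, k1⟩ := unip_char2 e₀ e₁ u hb01 f φ₁ hf hφ hf0 (c.1 : F) (c.2 : F)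
      exact xmat_mem_indR hb01 (Subgroup.mul_mem _ (tv_mem_GW_left hR hre₀ c.1.2)
        (tv_mem_GW_right hR hre₁ c.2.2)) k0 k1
  · -- odd characteristic
    apply Cfsg.Agent.Helper28.Subf.frob_false (indR M e₀ e₁ u hb01) ha (ι := ↥F₀ × ↥F₀)
      (fun c => -((c.1 : F) * f + 2 * (c.2 : F) * φ₁)) ?_ hcard ?_ hd
    · intro c c' hcc
      simp only at hcc
      have h2F : (2 : F) ∈ F₀ := by
        have : (2 : F) = 1 + 1 := by norm_num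
        rw [this]
        exact F₀.add_mem F₀.one_mem F₀.one_mem
      have h3 : ((c.1 : F) - (c'.1 : F)) * f + (2 * ((c.2 : F) - (c'.2 : F))) * φ₁ = 0 := by
        linear_combination -hcc
      obtain ⟨z1, z2⟩ := hind _ _ (F₀.sub_mem c.1.2 c'.1.2)
        (F₀.mul_mem h2F (F₀.sub_mem c.2.2 c'.2.2)) h3
      have z2' : (c.2 : F) - (c'.2 : F) = 0 := (mul_eq_zero.mp z2).resolve_left h2
      exact Prod.ext (Subtype.ext (sub_eq_zero.mp z1)) (Subtype.ext (sub_eq_zero.mp z2'))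
    · intro c
      obtain ⟨k0, k1⟩ := unip_odd e₀ e₁ u hb01 f φ₁ hf hφ (c.1 : F) (c.2 : F)
      exact xmat_mem_indR hb01 (Subgroup.mul_mem _ (tv_mem_GW_left hR hre₀ c.1.2)
        (sr_mem_GW hR hb01 hre₀ hre₁ c.2.2)) k0 k1

/-- under the standing hypotheses, `M` normalises the rational structure -/
theorem le_N [Fintype F] (hyp : Hyp F₀ M) {k : Matrix.symplecticGroup (Fin m) F} (hk : k ∈ M) :
    InN F₀ k := by
  by_contra hkN
  obtain ⟨u, hu, htot⟩ := exists_tot hyp hk hkN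
  exact rank_one_false hyp hu htot

end Cfsg.Agent.H28SpSub
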