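import Mathlib
import Cfsg.Agent.Lib.Helper28.SpSubD

/-!
# Subfield subgroups of the symplectic group (helper28), part E: the normaliser of the rational
structure is maximal in the symplectic group
-/

set_option autoImplicit false

namespace Cfsg.Agent.H28SpSub

open Cfsg Matrix Cfsg.Agent.Helper2.Symp Cfsg.Agent.Helper28.SpSingMax
open scoped Cfsg.Agent.Helper2.Symp

variable {F : Type*} [Field F] {m : ℕ} {F₀ : Subfield F}

theorem inN_one : InN F₀ (1 : Matrix.symplecticGroup (Fin m) F) :=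
  ⟨1, one_ne_zero, fun v hv => by rw [one_smul, one_smul]; exact hv⟩

theorem inN_mul {k₁ k₂ : Matrix.symplecticGroup (Fin m) F} (h₁ : InN F₀ k₁) (h₂ : InN F₀ k₂) :
    InN F₀ (k₁ * k₂) := by
  obtain ⟨s₁, hs₁, h₁⟩ := h₁
  obtain ⟨s₂, hs₂, h₂⟩ := h₂
  refine ⟨s₁ * s₂, mul_ne_zero hs₁ hs₂, fun v hv => ?_⟩
  have := h₁ _ (h₂ v hv)
  rwa [smul_comm k₁ s₂, smul_smul, ← mul_smul] at this

theorem inN_pow {k : Matrix.symplecticGroup (Fin m) F} (h : InN F₀ k) (n : ℕ) : InN F₀ (k ^ n) := by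
  induction n with
  | zero => rw [pow_zero]; exact inN_one
  | succ n ih => rw [pow_succ]; exact inN_mul ih h

theorem inN_inv [Finite F] {k : Matrix.symplecticGroup (Fin m) F} (h : InN F₀ k) :
    InN F₀ k⁻¹ := by
  have hinv : k⁻¹ = k ^ (orderOf k - 1) := by
    rw [inv_eq_iff_mul_eq_one, ← pow_succ']
    have : 0 < orderOf k := orderOf_pos k
    rw [show orderOf k - 1 + 1 = orderOf k by omega]
    exact pow_orderOf_eq_one k
  rw [hinv]
  exact inN_pow h _

/-- the normaliser of the rational structure -/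
def N0 (m : ℕ) [Finite F] (F₀ : Subfield F) : Subgroup (Matrix.symplecticGroup (Fin m) F) where
  carrier := {k | InN F₀ k}
  mul_mem' := fun h₁ h₂ => inN_mul h₁ h₂
  one_mem' := inN_one
  inv_mem' := fun h => inN_inv h

theorem mem_N0_iff [Finite F] {k : Matrix.symplecticGroup (Fin m) F} :
    k ∈ N0 m F₀ ↔ InN F₀ k := Iff.rfl

theorem R0_le_N0 [Finite F] : R0 m F₀ ≤ N0 m F₀ := by
  unfold R0
  rw [Subgroup.closure_le]
  rintro g ⟨v, c, hv, hc, rfl⟩
  exact ⟨1, one_ne_zero, fun x hx => by rw [one_smul]; exact ratV_tv_smul hv hc hx⟩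

theorem not_inN_tv (i : Fin m) {c : F} (hc : c ∉ F₀) :
    ¬ InN F₀ (tv (eV i : Fin m ⊕ Fin m → F) c) := by
  rintro ⟨s, hs, h⟩
  have h1 := h (fV i) (ratV_fV F₀ i)
  rw [tv_smul, Bf_fV_eV, mul_one] at h1
  have a1 := h1 (Sum.inr i)
  have a2 := h1 (Sum.inl i)
  rw [Pi.smul_apply, Pi.add_apply, Pi.smul_apply, fV_inr_same, eV_inr, smul_zero, add_zero,
    smul_eq_mul, mul_one] at a1
  rw [Pi.smul_apply, Pi.add_apply, Pi.smul_apply, fV_inl, eV_inl_same, zero_add, smul_eq_mul,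
    smul_eq_mul, mul_one] at a2
  apply hc
  have h3 : c = s⁻¹ * (s * c) := by rw [← mul_assoc, inv_mul_cancel₀ hs, one_mul]
  rw [h3]
  exact F₀.mul_mem (F₀.inv_mem a1) a2

/-- the normaliser of the rational structure is maximal in the symplectic group -/
theorem N0_maximal [Fintype F] (hm : 5 ≤ m) (r : ℕ) (hr : r.Prime)
    (hcard : Fintype.card F = Nat.card F₀ ^ r)
    (M : Subgroup (Matrix.symplecticGroup (Fin m) F)) (hNM : N0 m F₀ ≤ M) :
    M = N0 m F₀ ∨ M = ⊤ := by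
  have hR : R0 m F₀ ≤ M := le_trans R0_le_N0 hNM
  by_cases hA : ∃ a b : Fin m ⊕ Fin m → F, RatPair F₀ a b ∧ ∃ c : F, c ∉ F₀ ∧ sr a b c ∈ M
  · right
    obtain ⟨a, b, hab, c, hc, hsr⟩ := hA
    exact partA (by omega) r hr hcard hR hab hc hsr
  · left
    push Not at hA
    have hyp : Hyp F₀ M :=
      ⟨hm, hR, fun a b hab c hc => by
        by_contra h
        exact hA a b hab c h hc⟩
    exact le_antisymm (fun k hk => le_N hyp hk) hNM

theorem exists_irrational [Fintype F] (r : ℕ) (hr : r.Prime)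
    (hcard : Fintype.card F = Nat.card F₀ ^ r) : ∃ a : F, a ∉ F₀ := by
  by_contra h
  push Not at h
  have h1 : Nat.card F₀ = Fintype.card F := by
    rw [← Nat.card_eq_fintype_card]
    exact Nat.card_congr (Equiv.subtypeUnivEquiv h)
  rw [h1] at hcard
  have h2 : 1 < Fintype.card F := Fintype.one_lt_card
  have h3 : Fintype.card F ^ 2 ≤ Fintype.card F ^ r :=
    Nat.pow_le_pow_right (by omega) hr.two_le
  nlinarith

theorem N0_ne_top [Fintype F] (hm : 1 ≤ m) (r : ℕ) (hr : r.Prime)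
    (hcard : Fintype.card F = Nat.card F₀ ^ r) : N0 m F₀ ≠ ⊤ := by
  intro h
  obtain ⟨c, hc⟩ := exists_irrational (F₀ := F₀) r hr hcard
  have h1 : tv (eV (⟨0, by omega⟩ : Fin m) : Fin m ⊕ Fin m → F) c ∈ N0 m F₀ := by
    rw [h]; exact Subgroup.mem_top _
  exact not_inN_tv _ hc h1

end Cfsg.Agent.H28SpSub
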