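import Mathlib
import Cfsg.Prelude.Def_GeometricClasses
import Cfsg.Agent.Lib.Helper28.SpSubE
import Cfsg.Agent.Lib.Helper28.SpInSU

/-!
# Subfield subgroups of the symplectic group (helper28), part F: normalising the rational
structure and transferring the maximality to the statement
-/

set_option autoImplicit false

namespace Cfsg.Agent.H28SpSub

open Cfsg Matrix Cfsg.Agent.Helper2.Symp Cfsg.Agent.Helper28.SpSingMax
open scoped Cfsg.Agent.Helper2.Symp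

variable {F : Type*} [Field F] {m : ℕ} (F₀ : Subfield F)

/-- the embedding of vectors over the subfield -/
def emb (x : Fin m ⊕ Fin m → ↥F₀) : Fin m ⊕ Fin m → F := fun i => (x i : F)

theorem emb_apply (x : Fin m ⊕ Fin m → ↥F₀) (i : Fin m ⊕ Fin m) : emb F₀ x i = (x i : F) := rfl

theorem emb_add (x y : Fin m ⊕ Fin m → ↥F₀) : emb F₀ (x + y) = emb F₀ x + emb F₀ y := by
  funext i
  simp [emb]

theorem emb_smul (c : ↥F₀) (x : Fin m ⊕ Fin m → ↥F₀) : emb F₀ (c • x) = (c : F) • emb F₀ x := by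
  funext i
  simp [emb]

theorem emb_zero : emb F₀ (0 : Fin m ⊕ Fin m → ↥F₀) = 0 := by
  funext i
  simp [emb]

theorem ratV_emb (x : Fin m ⊕ Fin m → ↥F₀) : RatV F₀ (emb F₀ x) := fun i => (x i).2

theorem exists_emb {v : Fin m ⊕ Fin m → F} (hv : RatV F₀ v) : ∃ x, emb F₀ x = v :=
  ⟨fun i => ⟨v i, hv i⟩, rfl⟩

theorem emb_injective : Function.Injective (emb (m := m) F₀) := by
  intro x y h
  funext i
  exact Subtype.ext (congrFun h i)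

theorem emb_eq_comp (x : Fin m ⊕ Fin m → ↥F₀) : emb F₀ x = (F₀.subtype : ↥F₀ →+* F) ∘ x := rfl

theorem J_map : (Matrix.J (Fin m) ↥F₀).map (F₀.subtype : ↥F₀ →+* F) = Matrix.J (Fin m) F := by
  ext i j
  rcases i with i | i <;> rcases j with j | j
  · simp [Matrix.J]
  · simp only [Matrix.J, Matrix.map_apply, Matrix.fromBlocks_apply₁₂, Matrix.neg_apply,
      Matrix.one_apply]
    split_ifs <;> simp
  · simp only [Matrix.J, Matrix.map_apply, Matrix.fromBlocks_apply₂₁, Matrix.one_apply]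
    split_ifs <;> simp
  · simp [Matrix.J]

theorem sympForm_emb (x y : Fin m ⊕ Fin m → ↥F₀) :
    ((Cfsg.sympForm m ↥F₀ x y : ↥F₀) : F) = Cfsg.sympForm m F (emb F₀ x) (emb F₀ y) := by
  unfold Cfsg.sympForm
  show (F₀.subtype : ↥F₀ →+* F) (x ⬝ᵥ (Matrix.J (Fin m) ↥F₀ *ᵥ y)) = _
  have h : (F₀.subtype : ↥F₀ →+* F) ∘ (Matrix.J (Fin m) ↥F₀ *ᵥ y) =
      ((Matrix.J (Fin m) ↥F₀).map (F₀.subtype : ↥F₀ →+* F)) *ᵥ ((F₀.subtype : ↥F₀ →+* F) ∘ y) :=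
    funext (fun i => RingHom.map_mulVec _ _ _ i)
  rw [RingHom.map_dotProduct, h, J_map]
  rfl

theorem emb_mulVec (A : Matrix (Fin m ⊕ Fin m) (Fin m ⊕ Fin m) ↥F₀) (x : Fin m ⊕ Fin m → ↥F₀) :
    emb F₀ (A *ᵥ x) = (A.map (F₀.subtype : ↥F₀ →+* F)) *ᵥ emb F₀ x := by
  rw [emb_eq_comp, emb_eq_comp]
  funext i
  exact RingHom.map_mulVec (F₀.subtype : ↥F₀ →+* F) A x i

section normal

variable {F₀} (P : GL (Fin m ⊕ Fin m) F) (ζ : F)

/-- the twisted form on the rational vectors -/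
noncomputable def twB (hP : Cfsg.Geo.IsFormRationalStructure (Cfsg.sympForm m F) F₀ ζ P) :
    LinearMap.BilinForm ↥F₀ (Fin m ⊕ Fin m → ↥F₀) :=
  LinearMap.mk₂ ↥F₀
    (fun x y => (⟨ζ * Bf ((P : Matrix (Fin m ⊕ Fin m) (Fin m ⊕ Fin m) F) *ᵥ emb F₀ x)
      ((P : Matrix (Fin m ⊕ Fin m) (Fin m ⊕ Fin m) F) *ᵥ emb F₀ y),
      hP _ _ (ratV_emb F₀ x) (ratV_emb F₀ y)⟩ : ↥F₀))
    (by
      intro x x' y
      apply Subtype.ext
      simp only [emb_add, Matrix.mulVec_add, Bf_add_left, mul_add, Subfield.coe_add])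
    (by
      intro c x y
      apply Subtype.ext
      simp only [emb_smul, Matrix.mulVec_smul, Bf_smul_left, smul_eq_mul, Subfield.coe_mul]
      ring)
    (by
      intro x y y'
      apply Subtype.ext
      simp only [emb_add, Matrix.mulVec_add, Bf_add_right, mul_add, Subfield.coe_add])
    (by
      intro c x y
      apply Subtype.ext
      simp only [emb_smul, Matrix.mulVec_smul, Bf_smul_right, smul_eq_mul, Subfield.coe_mul]
      ring)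

theorem twB_apply (hP : Cfsg.Geo.IsFormRationalStructure (Cfsg.sympForm m F) F₀ ζ P)
    (x y : Fin m ⊕ Fin m → ↥F₀) :
    ((twB P ζ hP x y : ↥F₀) : F) =
      ζ * Bf ((P : Matrix (Fin m ⊕ Fin m) (Fin m ⊕ Fin m) F) *ᵥ emb F₀ x)
        ((P : Matrix (Fin m ⊕ Fin m) (Fin m ⊕ Fin m) F) *ᵥ emb F₀ y) := rfl

theorem twB_isAlt (hP : Cfsg.Geo.IsFormRationalStructure (Cfsg.sympForm m F) F₀ ζ P) :
    (twB P ζ hP).IsAlt := by
  intro x
  apply Subtype.ext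
  rw [twB_apply, Bf_self, mul_zero]
  rfl

theorem Bf_mulVec_single (a : Fin m ⊕ Fin m → F) (j : Fin m ⊕ Fin m) :
    Bf a ((P : Matrix (Fin m ⊕ Fin m) (Fin m ⊕ Fin m) F) *ᵥ Pi.single j 1) =
      ((a ᵥ* Matrix.J (Fin m) F) ᵥ* (P : Matrix (Fin m ⊕ Fin m) (Fin m ⊕ Fin m) F)) j := by
  rw [Bf_def, Matrix.dotProduct_mulVec, Matrix.dotProduct_mulVec, dotProduct_single, mul_one]

theorem eq_zero_of_vecMul_J {a : Fin m ⊕ Fin m → F}
    (h : (a ᵥ* Matrix.J (Fin m) F) ᵥ* (P : Matrix (Fin m ⊕ Fin m) (Fin m ⊕ Fin m) F) = 0) :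
    a = 0 := by
  have h1 : a ᵥ* Matrix.J (Fin m) F = 0 := by
    have := congrArg (fun t => t ᵥ* ((P⁻¹ : GL (Fin m ⊕ Fin m) F) :
      Matrix (Fin m ⊕ Fin m) (Fin m ⊕ Fin m) F)) h
    simp only [Matrix.vecMul_vecMul, Matrix.zero_vecMul] at this
    rwa [Matrix.mul_assoc, ← Units.val_mul, mul_inv_cancel, Units.val_one, Matrix.mul_one] at this
  have h2 := congrArg (fun t => t ᵥ* Matrix.J (Fin m) F) h1
  simp only [Matrix.vecMul_vecMul, Matrix.zero_vecMul, Matrix.J_squared, Matrix.vecMul_neg,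
    Matrix.vecMul_one, neg_eq_zero] at h2
  exact h2

theorem twB_nondegenerate (hζ : ζ ≠ 0)
    (hP : Cfsg.Geo.IsFormRationalStructure (Cfsg.sympForm m F) F₀ ζ P) :
    (twB P ζ hP).Nondegenerate := by
  have left : ∀ x, (∀ y, twB P ζ hP x y = 0) → x = 0 := by
    intro x hx
    apply emb_injective F₀
    rw [emb_zero]
    have h1 : (P : Matrix (Fin m ⊕ Fin m) (Fin m ⊕ Fin m) F) *ᵥ emb F₀ x = 0 := by
      apply eq_zero_of_vecMul_J P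
      funext j
      rw [← Bf_mulVec_single, Pi.zero_apply]
      have h2 := congrArg Subtype.val (hx (fun i => if i = j then 1 else 0))
      rw [twB_apply] at h2
      have h3 : emb F₀ (fun i => if i = j then (1 : ↥F₀) else 0) = Pi.single j 1 := by
        funext i
        rw [emb_apply, Pi.single_apply]
        split_ifs <;> simp
      rw [h3] at h2
      exact (mul_eq_zero.mp h2).resolve_left hζ
    have := congrArg (fun t => ((P⁻¹ : GL (Fin m ⊕ Fin m) F) :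
      Matrix (Fin m ⊕ Fin m) (Fin m ⊕ Fin m) F) *ᵥ t) h1
    simp only [Matrix.mulVec_mulVec, Matrix.mulVec_zero] at this
    rwa [← Units.val_mul, inv_mul_cancel, Units.val_one, Matrix.one_mulVec] at this
  constructor
  · exact left
  · intro y hy
    apply left
    intro x
    have h1 := hy x
    apply Subtype.ext
    have h2 := congrArg Subtype.val h1
    rw [twB_apply] at h2 ⊢
    rw [Bf_skew, mul_neg, h2]
    simp

end normal

theorem Bf_mulVec_eq (A : Matrix (Fin m ⊕ Fin m) (Fin m ⊕ Fin m) F) (u v : Fin m ⊕ Fin m → F) :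
    Bf (A *ᵥ u) (A *ᵥ v) = u ⬝ᵥ ((Aᵀ * Matrix.J (Fin m) F * A) *ᵥ v) := by
  rw [Bf_def, ← Matrix.vecMul_transpose A u, ← Matrix.dotProduct_mulVec, Matrix.mulVec_mulVec,
    Matrix.mulVec_mulVec]

theorem form_ext (A : Matrix (Fin m ⊕ Fin m) (Fin m ⊕ Fin m) F) (ζ : F)
    (h : ∀ i j : Fin m ⊕ Fin m, ζ * Bf (A *ᵥ Pi.single i 1) (A *ᵥ Pi.single j 1) =
      Bf (Pi.single i 1 : Fin m ⊕ Fin m → F) (Pi.single j 1)) :
    ∀ u v : Fin m ⊕ Fin m → F, ζ * Bf (A *ᵥ u) (A *ᵥ v) = Bf u v := by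
  have hM : ζ • (Aᵀ * Matrix.J (Fin m) F * A) = Matrix.J (Fin m) F := by
    ext i j
    have h1 := h i j
    rw [Bf_mulVec_eq] at h1
    have h3 : Bf (Pi.single i 1 : Fin m ⊕ Fin m → F) (Pi.single j 1) = Matrix.J (Fin m) F i j := by
      rw [Bf_def]
      simp
    rw [h3] at h1
    rw [← h1]
    simp
  intro u v
  rw [Bf_mulVec_eq, ← smul_eq_mul, ← dotProduct_smul, ← Matrix.smul_mulVec, hM, Bf_def]

section normal2

variable {F₀} (P : GL (Fin m ⊕ Fin m) F) (ζ : F)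

/-- the rational structure can be normalised so that the twisted form is the standard one -/
theorem exists_normal (hζ : ζ ≠ 0)
    (hP : Cfsg.Geo.IsFormRationalStructure (Cfsg.sympForm m F) F₀ ζ P) :
    ∃ R : GL (Fin m ⊕ Fin m) ↥F₀, ∀ u v : Fin m ⊕ Fin m → F,
      ζ * Bf (((P * Matrix.GeneralLinearGroup.map (F₀.subtype : ↥F₀ →+* F) R :
          GL (Fin m ⊕ Fin m) F) : Matrix (Fin m ⊕ Fin m) (Fin m ⊕ Fin m) F) *ᵥ u)
        (((P * Matrix.GeneralLinearGroup.map (F₀.subtype : ↥F₀ →+* F) R :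
          GL (Fin m ⊕ Fin m) F) : Matrix (Fin m ⊕ Fin m) (Fin m ⊕ Fin m) F) *ᵥ v) = Bf u v := by
  have hk : Module.finrank ↥F₀ (Fin m ⊕ Fin m → ↥F₀) = 2 * m := by
    rw [Module.finrank_fintype_fun_eq_card, Fintype.card_sum, Fintype.card_fin]
    ring
  obtain ⟨e, he⟩ := Cfsg.Agent.Helper28.SympIso.exists_symp_equiv (twB P ζ hP) (twB_isAlt P ζ hP)
    (twB_nondegenerate P ζ hζ hP) m hk
  set R₀ : Matrix (Fin m ⊕ Fin m) (Fin m ⊕ Fin m) ↥F₀ :=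
    LinearMap.toMatrix' (e.symm : (Fin m ⊕ Fin m → ↥F₀) →ₗ[↥F₀] (Fin m ⊕ Fin m → ↥F₀)) with hR₀
  set R₁ : Matrix (Fin m ⊕ Fin m) (Fin m ⊕ Fin m) ↥F₀ :=
    LinearMap.toMatrix' (e : (Fin m ⊕ Fin m → ↥F₀) →ₗ[↥F₀] (Fin m ⊕ Fin m → ↥F₀)) with hR₁
  have h01 : R₀ * R₁ = 1 := by
    rw [hR₀, hR₁, ← LinearMap.toMatrix'_comp]
    have : (e.symm : (Fin m ⊕ Fin m → ↥F₀) →ₗ[↥F₀] (Fin m ⊕ Fin m → ↥F₀)).comp
        (e : (Fin m ⊕ Fin m → ↥F₀) →ₗ[↥F₀] (Fin m ⊕ Fin m → ↥F₀)) = LinearMap.id := by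
      ext x
      simp
    rw [this, LinearMap.toMatrix'_id]
  have h10 : R₁ * R₀ = 1 := by
    rw [hR₀, hR₁, ← LinearMap.toMatrix'_comp]
    have : (e : (Fin m ⊕ Fin m → ↥F₀) →ₗ[↥F₀] (Fin m ⊕ Fin m → ↥F₀)).comp
        (e.symm : (Fin m ⊕ Fin m → ↥F₀) →ₗ[↥F₀] (Fin m ⊕ Fin m → ↥F₀)) = LinearMap.id := by
      ext x
      simp
    rw [this, LinearMap.toMatrix'_id]
  refine ⟨⟨R₀, R₁, h01, h10⟩, ?_⟩
  have hval : ((Matrix.GeneralLinearGroup.map (F₀.subtype : ↥F₀ →+* F)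
      (⟨R₀, R₁, h01, h10⟩ : GL (Fin m ⊕ Fin m) ↥F₀) : GL (Fin m ⊕ Fin m) F) :
      Matrix (Fin m ⊕ Fin m) (Fin m ⊕ Fin m) F) = R₀.map (F₀.subtype : ↥F₀ →+* F) := by
    ext i j
    rfl
  have hmul : ∀ x : Fin m ⊕ Fin m → ↥F₀,
      ((P * Matrix.GeneralLinearGroup.map (F₀.subtype : ↥F₀ →+* F)
        (⟨R₀, R₁, h01, h10⟩ : GL (Fin m ⊕ Fin m) ↥F₀) : GL (Fin m ⊕ Fin m) F) :
        Matrix (Fin m ⊕ Fin m) (Fin m ⊕ Fin m) F) *ᵥ emb F₀ x =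
      (P : Matrix (Fin m ⊕ Fin m) (Fin m ⊕ Fin m) F) *ᵥ emb F₀ (e.symm x) := by
    intro x
    rw [Units.val_mul, ← Matrix.mulVec_mulVec, hval, ← emb_mulVec, hR₀,
      LinearMap.toMatrix'_mulVec]
    rfl
  have hrat : ∀ x y : Fin m ⊕ Fin m → ↥F₀,
      ζ * Bf (((P * Matrix.GeneralLinearGroup.map (F₀.subtype : ↥F₀ →+* F)
        (⟨R₀, R₁, h01, h10⟩ : GL (Fin m ⊕ Fin m) ↥F₀) : GL (Fin m ⊕ Fin m) F) :
        Matrix (Fin m ⊕ Fin m) (Fin m ⊕ Fin m) F) *ᵥ emb F₀ x)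
      (((P * Matrix.GeneralLinearGroup.map (F₀.subtype : ↥F₀ →+* F)
        (⟨R₀, R₁, h01, h10⟩ : GL (Fin m ⊕ Fin m) ↥F₀) : GL (Fin m ⊕ Fin m) F) :
        Matrix (Fin m ⊕ Fin m) (Fin m ⊕ Fin m) F) *ᵥ emb F₀ y) = Bf (emb F₀ x) (emb F₀ y) := by
    intro x y
    rw [hmul, hmul, ← twB_apply P ζ hP, ← he, Cfsg.Agent.Helper28.SympIso.sympBil_apply,
      LinearEquiv.apply_symm_apply, LinearEquiv.apply_symm_apply, sympForm_emb]
  apply form_ext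
  intro i j
  have hi : (Pi.single i 1 : Fin m ⊕ Fin m → F) = emb F₀ (Pi.single i 1) := by
    funext l
    rw [emb_apply, Pi.single_apply, Pi.single_apply]
    split_ifs <;> simp
  have hj : (Pi.single j 1 : Fin m ⊕ Fin m → F) = emb F₀ (Pi.single j 1) := by
    funext l
    rw [emb_apply, Pi.single_apply, Pi.single_apply]
    split_ifs <;> simp
  rw [hi, hj]
  exact hrat _ _

end normal2

section transfer

theorem subfieldSubgroup_mul_rat (P : GL (Fin m ⊕ Fin m) F) (R : GL (Fin m ⊕ Fin m) ↥F₀) :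
    Cfsg.Geo.subfieldSubgroup F₀ (P * Matrix.GeneralLinearGroup.map (F₀.subtype : ↥F₀ →+* F) R) =
      Cfsg.Geo.subfieldSubgroup F₀ P := by
  unfold Cfsg.Geo.subfieldSubgroup
  set H : Subgroup (GL (Fin m ⊕ Fin m) F) :=
    (Matrix.GeneralLinearGroup.map (F₀.subtype : ↥F₀ →+* F)).range ⊔
      Cfsg.Geo.scalars (Fin m ⊕ Fin m) F with hH
  set R' : GL (Fin m ⊕ Fin m) F := Matrix.GeneralLinearGroup.map (F₀.subtype : ↥F₀ →+* F) R
    with hR'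
  have hR'H : R' ∈ H := Subgroup.mem_sup_left ⟨R, rfl⟩
  ext x
  simp only [Subgroup.mem_map, MulEquiv.coe_toMonoidHom, MulAut.conj_apply]
  constructor
  · rintro ⟨y, hy, rfl⟩
    refine ⟨R' * y * R'⁻¹, H.mul_mem (H.mul_mem hR'H hy) (H.inv_mem hR'H), ?_⟩
    group
  · rintro ⟨y, hy, rfl⟩
    refine ⟨R'⁻¹ * y * R', H.mul_mem (H.mul_mem (H.inv_mem hR'H) hy) hR'H, ?_⟩
    group

/-- the embedding of the symplectic group twisted by `Q` -/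
noncomputable def psi (Q : GL (Fin m ⊕ Fin m) F) :
    Matrix.symplecticGroup (Fin m) F →* GL (Fin m ⊕ Fin m) F :=
  (MulAut.conj Q).toMonoidHom.comp (toGLHom m F)

theorem psi_apply (Q : GL (Fin m ⊕ Fin m) F) (k : Matrix.symplecticGroup (Fin m) F) :
    psi Q k = Q * toGLHom m F k * Q⁻¹ := rfl

theorem psi_mulVec (Q : GL (Fin m ⊕ Fin m) F) (k : Matrix.symplecticGroup (Fin m) F)
    (u : Fin m ⊕ Fin m → F) :
    ((psi Q k : GL (Fin m ⊕ Fin m) F) : Matrix (Fin m ⊕ Fin m) (Fin m ⊕ Fin m) F) *ᵥ u =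
      (Q : Matrix (Fin m ⊕ Fin m) (Fin m ⊕ Fin m) F) *ᵥ
        (k • (((Q⁻¹ : GL (Fin m ⊕ Fin m) F) : Matrix (Fin m ⊕ Fin m) (Fin m ⊕ Fin m) F) *ᵥ u)) := by
  rw [psi_apply, Units.val_mul, Units.val_mul, ← Matrix.mulVec_mulVec, ← Matrix.mulVec_mulVec,
    toGLHom_val, smul_def]

theorem Q_inv_mulVec (Q : GL (Fin m ⊕ Fin m) F) (u : Fin m ⊕ Fin m → F) :
    (Q : Matrix (Fin m ⊕ Fin m) (Fin m ⊕ Fin m) F) *ᵥ
      (((Q⁻¹ : GL (Fin m ⊕ Fin m) F) : Matrix (Fin m ⊕ Fin m) (Fin m ⊕ Fin m) F) *ᵥ u) = u := by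
  rw [Matrix.mulVec_mulVec, ← Units.val_mul, mul_inv_cancel, Units.val_one, Matrix.one_mulVec]

variable {F₀} {Q : GL (Fin m ⊕ Fin m) F} {ζ : F}

theorem psi_mem_spGL (hζ : ζ ≠ 0)
    (hQ : ∀ u v : Fin m ⊕ Fin m → F,
      ζ * Bf ((Q : Matrix (Fin m ⊕ Fin m) (Fin m ⊕ Fin m) F) *ᵥ u)
        ((Q : Matrix (Fin m ⊕ Fin m) (Fin m ⊕ Fin m) F) *ᵥ v) = Bf u v)
    (k : Matrix.symplecticGroup (Fin m) F) : psi Q k ∈ Cfsg.spGL m F := by
  have hQ' : ∀ x y : Fin m ⊕ Fin m → F,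
      Bf ((Q : Matrix (Fin m ⊕ Fin m) (Fin m ⊕ Fin m) F) *ᵥ x)
        ((Q : Matrix (Fin m ⊕ Fin m) (Fin m ⊕ Fin m) F) *ᵥ y) = ζ⁻¹ * Bf x y := by
    intro x y
    rw [← hQ x y, ← mul_assoc, inv_mul_cancel₀ hζ, one_mul]
  intro u v
  show Bf (((psi Q k : GL (Fin m ⊕ Fin m) F) : Matrix (Fin m ⊕ Fin m) (Fin m ⊕ Fin m) F) *ᵥ u)
    (((psi Q k : GL (Fin m ⊕ Fin m) F) : Matrix (Fin m ⊕ Fin m) (Fin m ⊕ Fin m) F) *ᵥ v) = Bf u v
  rw [psi_mulVec, psi_mulVec, hQ', Bf_smul_smul, ← hQ', Q_inv_mulVec, Q_inv_mulVec]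

theorem exists_psi_of_mem_spGL (hζ : ζ ≠ 0)
    (hQ : ∀ u v : Fin m ⊕ Fin m → F,
      ζ * Bf ((Q : Matrix (Fin m ⊕ Fin m) (Fin m ⊕ Fin m) F) *ᵥ u)
        ((Q : Matrix (Fin m ⊕ Fin m) (Fin m ⊕ Fin m) F) *ᵥ v) = Bf u v)
    {g : GL (Fin m ⊕ Fin m) F} (hg : g ∈ Cfsg.spGL m F) : ∃ k, psi Q k = g := by
  have hg' : ∀ u v : Fin m ⊕ Fin m → F,
      Bf ((g : Matrix (Fin m ⊕ Fin m) (Fin m ⊕ Fin m) F) *ᵥ u)
        ((g : Matrix (Fin m ⊕ Fin m) (Fin m ⊕ Fin m) F) *ᵥ v) = Bf u v := hg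
  have hh : Q⁻¹ * g * Q ∈ Cfsg.spGL m F := by
    intro u v
    show Bf (((Q⁻¹ * g * Q : GL (Fin m ⊕ Fin m) F) :
        Matrix (Fin m ⊕ Fin m) (Fin m ⊕ Fin m) F) *ᵥ u)
      (((Q⁻¹ * g * Q : GL (Fin m ⊕ Fin m) F) :
        Matrix (Fin m ⊕ Fin m) (Fin m ⊕ Fin m) F) *ᵥ v) = Bf u v
    have e : ∀ x : Fin m ⊕ Fin m → F, (Q : Matrix (Fin m ⊕ Fin m) (Fin m ⊕ Fin m) F) *ᵥ
        (((Q⁻¹ * g * Q : GL (Fin m ⊕ Fin m) F) :
          Matrix (Fin m ⊕ Fin m) (Fin m ⊕ Fin m) F) *ᵥ x) =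
        (g : Matrix (Fin m ⊕ Fin m) (Fin m ⊕ Fin m) F) *ᵥ
          ((Q : Matrix (Fin m ⊕ Fin m) (Fin m ⊕ Fin m) F) *ᵥ x) := by
      intro x
      rw [Units.val_mul, Units.val_mul, ← Matrix.mulVec_mulVec, ← Matrix.mulVec_mulVec,
        Q_inv_mulVec]
    rw [← hQ, e, e, hg', hQ]
  obtain ⟨k, hk⟩ := exists_of_mem_spGL _ hh
  refine ⟨k, ?_⟩
  rw [psi_apply, hk]
  group

theorem psi_mem_subfield_iff (Q : GL (Fin m ⊕ Fin m) F) (k : Matrix.symplecticGroup (Fin m) F) :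
    psi Q k ∈ Cfsg.Geo.subfieldSubgroup F₀ Q ↔ InN F₀ k := by
  have e : Q⁻¹ * psi Q k * Q = toGLHom m F k := by
    rw [psi_apply]; group
  have e2 : ∀ u : Fin m ⊕ Fin m → F,
      Cfsg.Agent.Helper28.SpInSU.cj Q (psi Q k) u = k • u := by
    intro u
    rw [Cfsg.Agent.Helper28.SpInSU.cj_eq, e, toGLHom_val, smul_def]
  constructor
  · intro h
    obtain ⟨c, hc, hr⟩ := Cfsg.Agent.Helper28.SpInSU.rat_of_mem_subfield F₀ Q (psi Q k) h
    refine ⟨c, hc, fun v hv => ?_⟩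
    have := hr v hv
    rwa [e2] at this
  · rintro ⟨s, hs, h⟩
    apply Cfsg.Agent.Helper28.SpInSU.mem_subfield_of_rat F₀ Q (psi Q k) s hs
    intro j
    rw [e2]
    exact h _ (Cfsg.Agent.Helper28.SpInSU.rat_single F₀ j)

end transfer

/-- the subfield subgroup is maximal in the symplectic group -/
theorem sp_subfield_maximal [Fintype F] (hm : 5 ≤ m) (r : ℕ) (hr : r.Prime)
    (hcard : Fintype.card F = Nat.card F₀ ^ r) (P : GL (Fin m ⊕ Fin m) F) (ζ : F) (hζ : ζ ≠ 0)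
    (hP : Cfsg.Geo.IsFormRationalStructure (Cfsg.sympForm m F) F₀ ζ P) :
    Cfsg.Geo.IsMaximalIn (Cfsg.spGL m F) (Cfsg.Geo.subfieldSubgroup F₀ P ⊓ Cfsg.spGL m F) := by
  obtain ⟨R, hQ⟩ := exists_normal P ζ hζ hP
  rw [← subfieldSubgroup_mul_rat F₀ P R]
  set Q : GL (Fin m ⊕ Fin m) F :=
    P * Matrix.GeneralLinearGroup.map (F₀.subtype : ↥F₀ →+* F) R with hQdef
  constructor
  · apply lt_of_le_of_ne inf_le_right
    intro heq
    apply N0_ne_top (F₀ := F₀) (m := m) (by omega) r hr hcard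
    rw [eq_top_iff]
    intro k _
    have h1 : psi Q k ∈ Cfsg.spGL m F := psi_mem_spGL hζ hQ k
    rw [← heq] at h1
    exact (psi_mem_subfield_iff Q k).mp h1.1
  · intro M hNM hMK
    set M' : Subgroup (Matrix.symplecticGroup (Fin m) F) := M.comap (psi Q) with hM'
    have hN0 : N0 m F₀ ≤ M' := by
      intro k hk
      exact hNM ⟨(psi_mem_subfield_iff Q k).mpr hk, psi_mem_spGL hζ hQ k⟩
    rcases N0_maximal hm r hr hcard M' hN0 with h | h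
    · left
      apply le_antisymm _ hNM
      intro g hg
      obtain ⟨k, rfl⟩ := exists_psi_of_mem_spGL hζ hQ (hMK hg)
      have hk : k ∈ M' := hg
      rw [h] at hk
      exact ⟨(psi_mem_subfield_iff Q k).mpr hk, hMK hg⟩
    · right
      apply le_antisymm hMK
      intro g hg
      obtain ⟨k, rfl⟩ := exists_psi_of_mem_spGL hζ hQ hg
      have hk : k ∈ M' := by rw [h]; exact Subgroup.mem_top _
      exact hk

end Cfsg.Agent.H28SpSub
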