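import Mathlib
import Cfsg.Prelude.Def_ClassicalGeometry
import Cfsg.Agent.Lib.Helper28.SympIso

/-!
# The diagonal torus of the symplectic group and its normaliser (helper28)
-/

set_option autoImplicit false

namespace Cfsg.Agent.Helper28.SpTorus
open Cfsg Matrix

variable {F : Type*} [Field F] {m : ℕ}

/-- the pairing involution on the coordinates -/
def tau (m : ℕ) : Equiv.Perm (Fin m ⊕ Fin m) := Equiv.sumComm (Fin m) (Fin m)

/-- the sign of a coordinate -/
def sgn (F : Type*) [Field F] {m : ℕ} : Fin m ⊕ Fin m → F := Sum.elim (fun _ => -1) (fun _ => 1)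

theorem tau_inl (a : Fin m) : tau m (Sum.inl a) = Sum.inr a := rfl
theorem tau_inr (a : Fin m) : tau m (Sum.inr a) = Sum.inl a := rfl
theorem tau_tau (c : Fin m ⊕ Fin m) : tau m (tau m c) = c := by
  rcases c with a | a <;> rfl
theorem tau_ne (c : Fin m ⊕ Fin m) : tau m c ≠ c := by
  rcases c with a | a <;> simp [tau]
theorem sgn_tau (c : Fin m ⊕ Fin m) : sgn F (tau m c) = - sgn F c := by
  rcases c with a | a <;> simp [sgn, tau]
theorem sgn_mul_self (c : Fin m ⊕ Fin m) : sgn F c * sgn F c = 1 := by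
  rcases c with a | a <;> simp [sgn]
theorem sgn_ne_zero (c : Fin m ⊕ Fin m) : sgn F c ≠ 0 := by
  rcases c with a | a <;> simp [sgn]

theorem J_apply (c d : Fin m ⊕ Fin m) :
    Matrix.J (Fin m) F c d = if d = tau m c then sgn F c else 0 := by
  rcases c with a | a <;> rcases d with b | b <;>
    simp [Matrix.J, tau, sgn, Matrix.one_apply, eq_comm] <;> split_ifs <;> simp

theorem J_mulVec (v : Fin m ⊕ Fin m → F) (c : Fin m ⊕ Fin m) :
    (Matrix.J (Fin m) F *ᵥ v) c = sgn F c * v (tau m c) := by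
  rw [Matrix.mulVec, dotProduct, Finset.sum_eq_single (tau m c)]
  · rw [J_apply, if_pos rfl]
  · intro d _ hd
    rw [J_apply, if_neg hd, zero_mul]
  · intro h
    exact absurd (Finset.mem_univ _) h

theorem sympForm_eq (u v : Fin m ⊕ Fin m → F) :
    Cfsg.sympForm m F u v = ∑ c, u c * (sgn F c * v (tau m c)) := by
  unfold Cfsg.sympForm
  rw [dotProduct]
  apply Finset.sum_congr rfl
  intro c _
  rw [J_mulVec]

/-- the coordinate axes -/
def axis (F : Type*) [Field F] {m : ℕ} (i : Fin m ⊕ Fin m) : Set (Fin m ⊕ Fin m → F) :=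
  ((Submodule.span F {(Pi.single i (1 : F) : Fin m ⊕ Fin m → F)} :
    Submodule F (Fin m ⊕ Fin m → F)) : Set (Fin m ⊕ Fin m → F))

theorem mem_axis_iff (v : Fin m ⊕ Fin m → F) (i : Fin m ⊕ Fin m) :
    v ∈ axis F i ↔ ∀ k, k ≠ i → v k = 0 := by
  unfold axis
  rw [SetLike.mem_coe, Submodule.mem_span_singleton]
  constructor
  · rintro ⟨a, rfl⟩ k hk
    simp [Pi.single_apply, hk]
  · intro h
    refine ⟨v i, ?_⟩
    funext k
    by_cases hk : k = i
    · subst hk
      simp
    · rw [h k hk]
      simp [Pi.single_apply, hk]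

/-- the diagonal torus -/
def torus (m : ℕ) (F : Type*) [Field F] : Subgroup (Matrix.symplecticGroup (Fin m) F) :=
  ⨅ i : Fin m ⊕ Fin m, Cfsg.stabilizing (Cfsg.spToMat m F) (axis F i)

/-- a matrix is diagonal -/
def IsDiag (g : Matrix (Fin m ⊕ Fin m) (Fin m ⊕ Fin m) F) : Prop := ∀ i j, i ≠ j → g i j = 0

theorem isDiag_iff_eq_diagonal (g : Matrix (Fin m ⊕ Fin m) (Fin m ⊕ Fin m) F) :
    IsDiag g ↔ g = Matrix.diagonal (fun i => g i i) := by
  constructor
  · intro h
    ext i j
    by_cases hij : i = j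
    · subst hij; simp
    · rw [h i j hij, Matrix.diagonal_apply_ne _ hij]
  · intro h i j hij
    rw [h, Matrix.diagonal_apply_ne _ hij]

theorem diag_ne_zero {g : Matrix (Fin m ⊕ Fin m) (Fin m ⊕ Fin m) F}
    (hg : g ∈ Matrix.symplecticGroup (Fin m) F) (hd : IsDiag g) (i : Fin m ⊕ Fin m) :
    g i i ≠ 0 := by
  have h1 := SymplecticGroup.det_eq_one hg
  rw [(isDiag_iff_eq_diagonal g).1 hd, Matrix.det_diagonal] at h1
  intro h
  have : ∏ i, g i i = 0 := Finset.prod_eq_zero (Finset.mem_univ i) h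
  rw [this] at h1
  exact zero_ne_one h1

theorem diag_mulVec {g : Matrix (Fin m ⊕ Fin m) (Fin m ⊕ Fin m) F} (hd : IsDiag g)
    (v : Fin m ⊕ Fin m → F) (k : Fin m ⊕ Fin m) : (g *ᵥ v) k = g k k * v k := by
  rw [Matrix.mulVec, dotProduct, Finset.sum_eq_single k]
  · intro j _ hj
    rw [hd k j hj.symm, zero_mul]
  · intro h
    exact absurd (Finset.mem_univ _) h

theorem mem_torus_iff (g : Matrix.symplecticGroup (Fin m) F) :
    g ∈ torus m F ↔ IsDiag (g : Matrix (Fin m ⊕ Fin m) (Fin m ⊕ Fin m) F) := by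
  constructor
  · intro hg i j hij
    have h1 := Subgroup.mem_iInf.1 hg j
    have h2 := (h1 (Pi.single j 1)).1 (by
      rw [mem_axis_iff]
      intro k hk
      simp [Pi.single_apply, hk])
    have h3 := (mem_axis_iff _ _).1 h2 i hij
    change ((g : Matrix (Fin m ⊕ Fin m) (Fin m ⊕ Fin m) F) *ᵥ Pi.single j 1) i = 0 at h3
    rw [Matrix.mulVec_single_one] at h3
    exact h3
  · intro hd
    apply Subgroup.mem_iInf.2
    intro i v
    show v ∈ axis F i ↔ (g : Matrix (Fin m ⊕ Fin m) (Fin m ⊕ Fin m) F) *ᵥ v ∈ axis F i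
    rw [mem_axis_iff, mem_axis_iff]
    constructor
    · intro h k hk
      rw [diag_mulVec hd, h k hk, mul_zero]
    · intro h k hk
      have := h k hk
      rw [diag_mulVec hd] at this
      exact (mul_eq_zero.1 this).resolve_left (diag_ne_zero g.2 hd k)

theorem diagonal_mem_of_rel {δ : Fin m ⊕ Fin m → F} (h : ∀ c, δ c * δ (tau m c) = 1) :
    Matrix.diagonal δ ∈ Matrix.symplecticGroup (Fin m) F := by
  apply Cfsg.Agent.Helper28.SympIso.mem_symplectic_of_preserves
  intro u v
  rw [sympForm_eq, sympForm_eq]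
  apply Finset.sum_congr rfl
  intro c _
  rw [Matrix.mulVec_diagonal, Matrix.mulVec_diagonal]
  have := h c
  linear_combination (u c * sgn F c * v (tau m c)) * this

theorem rel_of_diag {g : Matrix (Fin m ⊕ Fin m) (Fin m ⊕ Fin m) F}
    (hg : g ∈ Matrix.symplecticGroup (Fin m) F) (hd : IsDiag g) (c : Fin m ⊕ Fin m) :
    g c c * g (tau m c) (tau m c) = 1 := by
  have h1 := SymplecticGroup.mem_iff.1 hg
  rw [(isDiag_iff_eq_diagonal g).1 hd, Matrix.diagonal_transpose] at h1
  have h2 := congrFun (congrFun h1 c) (tau m c)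
  rw [Matrix.mul_diagonal, Matrix.diagonal_mul, J_apply, if_pos rfl] at h2
  have h3 := sgn_ne_zero (F := F) c
  have h4 : sgn F c * (g c c * g (tau m c) (tau m c) - 1) = 0 := by linear_combination h2
  have h5 := (mul_eq_zero.1 h4).resolve_left h3
  linear_combination h5

/-- the torus is parametrised by `m` units -/
noncomputable def torusEquiv : ↥(torus m F) ≃ (Fin m → Fˣ) where
  toFun g := fun a => Units.mk0
    ((g : Matrix.symplecticGroup (Fin m) F).1 (Sum.inl a) (Sum.inl a))
    (diag_ne_zero g.1.2 ((mem_torus_iff g.1).1 g.2) _)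
  invFun d := ⟨⟨Matrix.diagonal (Sum.elim (fun a => (d a : F)) (fun a => ((d a)⁻¹ : Fˣ))),
      diagonal_mem_of_rel (by
        intro c
        rcases c with a | a
        · simp [tau]
        · simp [tau])⟩, by
      rw [mem_torus_iff]
      intro i j hij
      exact Matrix.diagonal_apply_ne _ hij⟩
  left_inv g := by
    have hd := (mem_torus_iff g.1).1 g.2
    apply Subtype.ext
    apply Subtype.ext
    show Matrix.diagonal _ = (g : Matrix.symplecticGroup (Fin m) F).1
    rw [(isDiag_iff_eq_diagonal _).1 hd]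
    congr 1
    funext c
    rcases c with a | a
    · simp
    · have h1 := rel_of_diag g.1.2 hd (Sum.inl a)
      rw [tau_inl] at h1
      simp only [Sum.elim_inr, Units.val_inv_eq_inv_val, Units.val_mk0]
      exact (eq_inv_of_mul_eq_one_right h1).symm
  right_inv d := by
    funext a
    apply Units.ext
    simp

theorem card_torus [Fintype F] : Nat.card ↥(torus m F) = (Fintype.card F - 1) ^ m := by
  rw [Nat.card_congr torusEquiv, Nat.card_fun, Nat.card_units, Nat.card_eq_fintype_card (α := Fin m),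
    Fintype.card_fin, Nat.card_eq_fintype_card]

/-! ### Monomial matrices -/

/-- the support of `g` lies in the graph of `σ` -/
def IsMono (g : Matrix (Fin m ⊕ Fin m) (Fin m ⊕ Fin m) F) (σ : Equiv.Perm (Fin m ⊕ Fin m)) : Prop :=
  ∀ i j, g i j ≠ 0 → i = σ j

theorem isMono_mul {g g' : Matrix (Fin m ⊕ Fin m) (Fin m ⊕ Fin m) F}
    {σ σ' : Equiv.Perm (Fin m ⊕ Fin m)} (h : IsMono g σ) (h' : IsMono g' σ') :
    IsMono (g * g') (σ * σ') := by
  intro i j hij
  rw [Matrix.mul_apply] at hij
  obtain ⟨k, _, hk⟩ := Finset.exists_ne_zero_of_sum_ne_zero hij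
  have h1 : g i k ≠ 0 := left_ne_zero_of_mul hk
  have h2 : g' k j ≠ 0 := right_ne_zero_of_mul hk
  rw [Equiv.Perm.mul_apply, ← h' k j h2]
  exact h i k h1

theorem exists_col_ne_zero {g : Matrix (Fin m ⊕ Fin m) (Fin m ⊕ Fin m) F}
    (hg : g ∈ Matrix.symplecticGroup (Fin m) F) (j : Fin m ⊕ Fin m) : ∃ i, g i j ≠ 0 := by
  by_contra hcon
  push Not at hcon
  have h1 := SymplecticGroup.det_eq_one hg
  rw [Matrix.det_eq_zero_of_column_eq_zero j hcon] at h1
  exact zero_ne_one h1

theorem exists_row_ne_zero {g : Matrix (Fin m ⊕ Fin m) (Fin m ⊕ Fin m) F}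
    (hg : g ∈ Matrix.symplecticGroup (Fin m) F) (i : Fin m ⊕ Fin m) : ∃ j, g i j ≠ 0 := by
  by_contra hcon
  push Not at hcon
  have h1 := SymplecticGroup.det_eq_one hg
  rw [Matrix.det_eq_zero_of_row_eq_zero i hcon] at h1
  exact zero_ne_one h1

theorem isMono_unique {g : Matrix (Fin m ⊕ Fin m) (Fin m ⊕ Fin m) F}
    (hg : g ∈ Matrix.symplecticGroup (Fin m) F) {σ σ' : Equiv.Perm (Fin m ⊕ Fin m)}
    (h : IsMono g σ) (h' : IsMono g σ') : σ = σ' := by
  ext j
  obtain ⟨i, hi⟩ := exists_col_ne_zero hg j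
  rw [← h i j hi, ← h' i j hi]

theorem isMono_one_iff (g : Matrix (Fin m ⊕ Fin m) (Fin m ⊕ Fin m) F) :
    IsMono g 1 ↔ IsDiag g := by
  constructor
  · intro h i j hij
    by_contra hne
    exact hij (h i j hne)
  · intro h i j hij
    by_contra hne
    exact hij (h i j hne)

theorem mono_mul_diag {n h : Matrix (Fin m ⊕ Fin m) (Fin m ⊕ Fin m) F}
    {σ : Equiv.Perm (Fin m ⊕ Fin m)} (hn : IsMono n σ) (hd : IsDiag h) :
    n * h = Matrix.diagonal (fun i => h (σ.symm i) (σ.symm i)) * n := by
  ext i j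
  rw [(isDiag_iff_eq_diagonal h).1 hd, Matrix.mul_diagonal, Matrix.diagonal_mul]
  by_cases hij : n i j = 0
  · rw [hij, zero_mul, mul_zero]
  · have := hn i j hij
    rw [this, Equiv.symm_apply_apply, mul_comm]
    simp [Matrix.diagonal_apply_eq]

/-- monomial symplectic matrices conjugate the torus into itself -/
theorem conj_mem_torus {n : Matrix.symplecticGroup (Fin m) F} {σ : Equiv.Perm (Fin m ⊕ Fin m)}
    (hn : IsMono (n : Matrix (Fin m ⊕ Fin m) (Fin m ⊕ Fin m) F) σ)
    {h : Matrix.symplecticGroup (Fin m) F} (hh : h ∈ torus m F) : n * h * n⁻¹ ∈ torus m F := by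
  rw [mem_torus_iff] at hh ⊢
  have h1 := mono_mul_diag hn hh
  have h2 : ((n * h * n⁻¹ : Matrix.symplecticGroup (Fin m) F) :
      Matrix (Fin m ⊕ Fin m) (Fin m ⊕ Fin m) F)
      = (n : Matrix (Fin m ⊕ Fin m) (Fin m ⊕ Fin m) F) * (h : Matrix _ _ F)
        * ((n⁻¹ : Matrix.symplecticGroup (Fin m) F) : Matrix _ _ F) := rfl
  have h3 : (n : Matrix (Fin m ⊕ Fin m) (Fin m ⊕ Fin m) F)
      * ((n⁻¹ : Matrix.symplecticGroup (Fin m) F) : Matrix _ _ F) = 1 :=
    congrArg Subtype.val (mul_inv_cancel n)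
  rw [h2, h1, Matrix.mul_assoc, h3, Matrix.mul_one]
  intro i j hij
  exact Matrix.diagonal_apply_ne _ hij

/-- in a finite group, conjugating the torus into itself is normalising it -/
theorem mem_normalizer_of_conj [Finite F] {n : Matrix.symplecticGroup (Fin m) F}
    (hn : ∀ h ∈ torus m F, n * h * n⁻¹ ∈ torus m F) :
    n ∈ Subgroup.normalizer ((torus m F : Subgroup _) : Set (Matrix.symplecticGroup (Fin m) F)) := by
  have : Finite (Matrix.symplecticGroup (Fin m) F) :=
    Finite.of_injective (fun g : Matrix.symplecticGroup (Fin m) F =>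
      (g : Matrix (Fin m ⊕ Fin m) (Fin m ⊕ Fin m) F)) Subtype.val_injective
  rw [Subgroup.mem_set_normalizer_iff]
  intro h
  refine ⟨hn h, fun hh => ?_⟩
  let c : torus m F → torus m F := fun t => ⟨n * t.1 * n⁻¹, hn t.1 t.2⟩
  have hc : Function.Injective c := by
    intro a b hab
    have := congrArg Subtype.val hab
    apply Subtype.ext
    exact mul_left_cancel (mul_right_cancel this)
  obtain ⟨t, ht⟩ := (Finite.injective_iff_surjective.1 hc) ⟨_, hh⟩
  have h2 : n * t.1 * n⁻¹ = n * h * n⁻¹ := congrArg Subtype.val ht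
  have h3 : t.1 = h := mul_left_cancel (mul_right_cancel h2)
  rw [← h3]
  exact t.2

/-! ### The normaliser consists of monomial matrices -/

/-- the diagonal of a one-parameter torus element -/
def dvec (j : Fin m ⊕ Fin m) (l : F) : Fin m ⊕ Fin m → F :=
  fun c => if c = j then l else if c = tau m j then l⁻¹ else 1

theorem dvec_rel (j : Fin m ⊕ Fin m) {l : F} (hl : l ≠ 0) (c : Fin m ⊕ Fin m) :
    dvec j l c * dvec j l (tau m c) = 1 := by
  unfold dvec
  by_cases h1 : c = j
  · subst h1
    rw [if_pos rfl, if_neg (tau_ne c), if_pos rfl, mul_inv_cancel₀ hl]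
  · by_cases h2 : c = tau m j
    · subst h2
      rw [if_neg h1, if_pos rfl, tau_tau, if_pos rfl, inv_mul_cancel₀ hl]
    · have h3 : tau m c ≠ j := by
        intro h
        apply h2
        rw [← h, tau_tau]
      have h4 : tau m c ≠ tau m j := by
        intro h
        exact h1 ((tau m).injective h)
      rw [if_neg h1, if_neg h2, if_neg h3, if_neg h4, mul_one]

/-- a one-parameter torus element -/
def tmat (j : Fin m ⊕ Fin m) {l : F} (hl : l ≠ 0) : Matrix.symplecticGroup (Fin m) F :=
  ⟨Matrix.diagonal (dvec j l), diagonal_mem_of_rel (dvec_rel j hl)⟩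

theorem tmat_mem (j : Fin m ⊕ Fin m) {l : F} (hl : l ≠ 0) : tmat j hl ∈ torus m F := by
  rw [mem_torus_iff]
  intro i k hik
  exact Matrix.diagonal_apply_ne _ hik

theorem exists_sq_ne_one [Fintype F] (hq : 4 ≤ Fintype.card F) : ∃ l : F, l ≠ 0 ∧ l * l ≠ 1 := by
  classical
  by_contra hcon
  push Not at hcon
  have h1 : (Finset.univ : Finset F) ⊆ {0, 1, -1} := by
    intro l _
    by_cases hl : l = 0
    · simp [hl]
    · have h2 := hcon l hl
      have h3 : (l - 1) * (l + 1) = 0 := by linear_combination h2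
      rcases mul_eq_zero.1 h3 with h | h
      · have : l = 1 := by linear_combination h
        simp [this]
      · have : l = -1 := by linear_combination h
        simp [this]
  have h2 := Finset.card_le_card h1
  rw [Finset.card_univ] at h2
  have h3 : ({0, 1, -1} : Finset F).card ≤ 3 := Finset.card_le_three
  omega

theorem row_unique [Fintype F] (hq : 4 ≤ Fintype.card F) {n : Matrix.symplecticGroup (Fin m) F}
    (hn : ∀ h ∈ torus m F, n * h * n⁻¹ ∈ torus m F) {i j j' : Fin m ⊕ Fin m}
    (hj : (n : Matrix (Fin m ⊕ Fin m) (Fin m ⊕ Fin m) F) i j ≠ 0)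
    (hj' : (n : Matrix (Fin m ⊕ Fin m) (Fin m ⊕ Fin m) F) i j' ≠ 0) : j = j' := by
  by_contra hne
  obtain ⟨l, hl0, hl1⟩ := exists_sq_ne_one hq
  have hT := hn _ (tmat_mem j hl0)
  have hd := (mem_torus_iff _).1 hT
  have heq : (n * tmat j hl0 * n⁻¹) * n = n * tmat j hl0 := by group
  have heq' : ((n * tmat j hl0 * n⁻¹ : Matrix.symplecticGroup (Fin m) F) :
      Matrix (Fin m ⊕ Fin m) (Fin m ⊕ Fin m) F) * (n : Matrix _ _ F)
      = (n : Matrix (Fin m ⊕ Fin m) (Fin m ⊕ Fin m) F) * Matrix.diagonal (dvec j l) :=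
    congrArg Subtype.val heq
  rw [(isDiag_iff_eq_diagonal _).1 hd] at heq'
  have e1 := congrFun (congrFun heq' i) j
  have e2 := congrFun (congrFun heq' i) j'
  rw [Matrix.diagonal_mul, Matrix.mul_diagonal] at e1 e2
  have v1 : dvec j l j = l := by unfold dvec; rw [if_pos rfl]
  rw [v1] at e1
  have f1 := mul_right_cancel₀ hj (e1.trans (mul_comm _ _))
  have f2 := mul_right_cancel₀ hj' (e2.trans (mul_comm _ _))
  have f3 : l = dvec j l j' := f1.symm.trans f2
  unfold dvec at f3
  rw [if_neg (Ne.symm hne)] at f3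
  by_cases h2 : j' = tau m j
  · rw [if_pos h2] at f3
    apply hl1
    nth_rewrite 2 [f3]
    exact mul_inv_cancel₀ hl0
  · rw [if_neg h2] at f3
    apply hl1
    rw [f3, mul_one]

theorem exists_isMono [Fintype F] (hq : 4 ≤ Fintype.card F) {n : Matrix.symplecticGroup (Fin m) F}
    (hn : ∀ h ∈ torus m F, n * h * n⁻¹ ∈ torus m F) :
    ∃ σ : Equiv.Perm (Fin m ⊕ Fin m),
      IsMono (n : Matrix (Fin m ⊕ Fin m) (Fin m ⊕ Fin m) F) σ := by
  choose ρ hρ using exists_row_ne_zero n.2
  have hsurj : Function.Surjective ρ := by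
    intro j
    obtain ⟨i, hi⟩ := exists_col_ne_zero n.2 j
    exact ⟨i, row_unique hq hn (hρ i) hi⟩
  have hbij : Function.Bijective ρ := ⟨Finite.injective_iff_surjective.2 hsurj, hsurj⟩
  refine ⟨(Equiv.ofBijective ρ hbij).symm, ?_⟩
  intro i j hij
  have h1 : ρ i = j := row_unique hq hn (hρ i) hij
  rw [← h1]
  exact ((Equiv.ofBijective ρ hbij).symm_apply_apply i).symm

theorem sympForm_single (j : Fin m ⊕ Fin m) :
    Cfsg.sympForm m F (Pi.single j 1) (Pi.single (tau m j) 1) = sgn F j := by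
  rw [sympForm_eq, Finset.sum_eq_single j]
  · simp
  · intro c _ hc
    simp [Pi.single_apply, hc]
  · intro h
    exact absurd (Finset.mem_univ _) h

/-- the permutation of a monomial symplectic matrix commutes with the pairing -/
theorem isMono_comm {n : Matrix (Fin m ⊕ Fin m) (Fin m ⊕ Fin m) F}
    (hn : n ∈ Matrix.symplecticGroup (Fin m) F) {σ : Equiv.Perm (Fin m ⊕ Fin m)}
    (hσ : IsMono n σ) : σ * tau m = tau m * σ := by
  ext j
  rw [Equiv.Perm.mul_apply, Equiv.Perm.mul_apply]
  by_contra hne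
  have h1 := Cfsg.Agent.Helper2.Symp.Bf_mulVec hn (Pi.single j 1) (Pi.single (tau m j) 1)
  have h2 : Cfsg.sympForm m F (n *ᵥ Pi.single j 1) (n *ᵥ Pi.single (tau m j) 1) = 0 := by
    rw [sympForm_eq]
    apply Finset.sum_eq_zero
    intro c _
    rw [Matrix.mulVec_single_one, Matrix.mulVec_single_one]
    show n c j * (sgn F c * n (tau m c) (tau m j)) = 0
    by_contra hc
    have h3 : n c j ≠ 0 := left_ne_zero_of_mul hc
    have h4 : n (tau m c) (tau m j) ≠ 0 := right_ne_zero_of_mul (right_ne_zero_of_mul hc)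
    have h5 := hσ _ _ h3
    have h6 := hσ _ _ h4
    apply hne
    rw [← h6, h5]
  have h7 : Cfsg.Agent.Helper2.Symp.Bf (n *ᵥ Pi.single j 1) (n *ᵥ Pi.single (tau m j) 1)
      = (0 : F) := h2
  rw [h7] at h1
  have h8 : Cfsg.Agent.Helper2.Symp.Bf (Pi.single j (1 : F)) (Pi.single (tau m j) 1)
      = sgn F j := sympForm_single j
  rw [h8] at h1
  exact sgn_ne_zero j h1.symm

/-! ### Monomial symplectic matrices with a given permutation -/

/-- the signs of the monomial matrix -/
def eps (F : Type*) [Field F] {m : ℕ} (σ : Equiv.Perm (Fin m ⊕ Fin m)) : Fin m ⊕ Fin m → F :=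
  Sum.elim (fun _ => 1) (fun a => sgn F (σ (Sum.inr a)))

/-- the monomial matrix of a permutation commuting with the pairing -/
def monoMat (F : Type*) [Field F] {m : ℕ} (σ : Equiv.Perm (Fin m ⊕ Fin m)) :
    Matrix (Fin m ⊕ Fin m) (Fin m ⊕ Fin m) F :=
  Matrix.of fun i j => if i = σ j then eps F σ j else 0

theorem monoMat_apply (σ : Equiv.Perm (Fin m ⊕ Fin m)) (i j : Fin m ⊕ Fin m) :
    monoMat F σ i j = if i = σ j then eps F σ j else 0 := rfl

theorem isMono_monoMat (σ : Equiv.Perm (Fin m ⊕ Fin m)) : IsMono (monoMat F σ) σ := by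
  intro i j hij
  by_contra hne
  rw [monoMat_apply, if_neg hne] at hij
  exact hij rfl

theorem monoMat_mulVec (σ : Equiv.Perm (Fin m ⊕ Fin m)) (u : Fin m ⊕ Fin m → F)
    (i : Fin m ⊕ Fin m) : (monoMat F σ *ᵥ u) i = eps F σ (σ.symm i) * u (σ.symm i) := by
  rw [Matrix.mulVec, dotProduct, Finset.sum_eq_single (σ.symm i)]
  · rw [monoMat_apply, if_pos (σ.apply_symm_apply i).symm]
  · intro j _ hj
    rw [monoMat_apply, if_neg, zero_mul]
    intro h
    apply hj
    rw [h, Equiv.symm_apply_apply]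
  · intro h
    exact absurd (Finset.mem_univ _) h

theorem eps_rel {σ : Equiv.Perm (Fin m ⊕ Fin m)} (hσ : σ * tau m = tau m * σ)
    (c : Fin m ⊕ Fin m) : eps F σ c * sgn F (σ c) * eps F σ (tau m c) = sgn F c := by
  have hc : ∀ d, σ (tau m d) = tau m (σ d) := fun d => by
    have := congrArg (fun f : Equiv.Perm (Fin m ⊕ Fin m) => f d) hσ
    simpa [Equiv.Perm.mul_apply] using this
  rcases c with a | a
  · have h1 : σ (Sum.inl a) = tau m (σ (Sum.inr a)) := by
      rw [← hc, tau_inr]
    simp only [eps, Sum.elim_inl, Sum.elim_inr, tau_inl, h1, sgn_tau]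
    have := sgn_mul_self (F := F) (σ (Sum.inr a))
    simp only [sgn, Sum.elim_inl] at this ⊢
    linear_combination -this
  · simp only [eps, Sum.elim_inl, Sum.elim_inr, tau_inr]
    have := sgn_mul_self (F := F) (σ (Sum.inr a))
    simp only [sgn, Sum.elim_inr] at this ⊢
    linear_combination this

theorem monoMat_mem {σ : Equiv.Perm (Fin m ⊕ Fin m)} (hσ : σ * tau m = tau m * σ) :
    monoMat F σ ∈ Matrix.symplecticGroup (Fin m) F := by
  have hc : ∀ d, σ (tau m d) = tau m (σ d) := fun d => by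
    have := congrArg (fun f : Equiv.Perm (Fin m ⊕ Fin m) => f d) hσ
    simpa [Equiv.Perm.mul_apply] using this
  apply Cfsg.Agent.Helper28.SympIso.mem_symplectic_of_preserves
  intro u v
  rw [sympForm_eq, sympForm_eq, ← Equiv.sum_comp σ]
  apply Finset.sum_congr rfl
  intro c _
  rw [monoMat_mulVec, monoMat_mulVec, Equiv.symm_apply_apply, ← hc, Equiv.symm_apply_apply]
  have := eps_rel (F := F) hσ c
  linear_combination (u c * v (tau m c)) * this

/-! ### The normaliser of the torus -/

section hom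

variable [Fintype F]

/-- the normaliser of the torus -/
abbrev NT (m : ℕ) (F : Type*) [Field F] : Subgroup (Matrix.symplecticGroup (Fin m) F) :=
  Subgroup.normalizer ((torus m F : Subgroup _) : Set (Matrix.symplecticGroup (Fin m) F))

theorem conj_of_mem_NT {n : Matrix.symplecticGroup (Fin m) F} (hn : n ∈ NT m F) :
    ∀ h ∈ torus m F, n * h * n⁻¹ ∈ torus m F :=
  fun h hh => (Subgroup.mem_set_normalizer_iff.1 hn h).1 hh

variable (hq : 4 ≤ Fintype.card F)

/-- the permutation of an element of the normaliser -/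
noncomputable def permOf (n : NT m F) : Equiv.Perm (Fin m ⊕ Fin m) :=
  Classical.choose (exists_isMono hq (conj_of_mem_NT n.2))

theorem permOf_spec (n : NT m F) :
    IsMono ((n : Matrix.symplecticGroup (Fin m) F) :
      Matrix (Fin m ⊕ Fin m) (Fin m ⊕ Fin m) F) (permOf hq n) :=
  Classical.choose_spec (exists_isMono hq (conj_of_mem_NT n.2))

/-- the normaliser maps to the permutations of the coordinates -/
noncomputable def permHom : NT m F →* Equiv.Perm (Fin m ⊕ Fin m) where
  toFun := permOf hq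
  map_one' := by
    apply isMono_unique (1 : Matrix.symplecticGroup (Fin m) F).2 (permOf_spec hq 1)
    rw [isMono_one_iff]
    intro i j hij
    exact Matrix.one_apply_ne hij
  map_mul' a b :=
    isMono_unique (a * b).1.2 (permOf_spec hq (a * b))
      (isMono_mul (permOf_spec hq a) (permOf_spec hq b))

theorem permHom_apply (n : NT m F) : permHom hq n = permOf hq n := rfl

theorem range_permHom : (permHom (m := m) (F := F) hq).range = Subgroup.centralizer {tau m} := by
  ext σ
  rw [MonoidHom.mem_range, Subgroup.mem_centralizer_iff]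
  constructor
  · rintro ⟨n, rfl⟩ t ht
    rw [Set.mem_singleton_iff] at ht
    subst ht
    exact (isMono_comm n.1.2 (permOf_spec hq n)).symm
  · intro h
    have hσ : σ * tau m = tau m * σ := (h (tau m) rfl).symm
    have hmem : (⟨monoMat F σ, monoMat_mem hσ⟩ : Matrix.symplecticGroup (Fin m) F) ∈ NT m F :=
      mem_normalizer_of_conj (fun t ht => conj_mem_torus (σ := σ) (isMono_monoMat σ) ht)
    refine ⟨⟨_, hmem⟩, ?_⟩
    exact isMono_unique (monoMat_mem hσ) (permOf_spec hq ⟨_, hmem⟩) (isMono_monoMat σ)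

theorem ker_permHom : (permHom (m := m) (F := F) hq).ker = (torus m F).subgroupOf (NT m F) := by
  ext n
  rw [MonoidHom.mem_ker, Subgroup.mem_subgroupOf, mem_torus_iff, ← isMono_one_iff]
  constructor
  · intro h
    have := permOf_spec hq n
    rw [← permHom_apply, h] at this
    exact this
  · intro h
    exact isMono_unique n.1.2 (permOf_spec hq n) h

theorem tau_sq : tau m ^ 2 = 1 := by
  ext c
  rw [sq, Equiv.Perm.mul_apply, tau_tau]
  rfl

theorem cycleType_tau : (tau m).cycleType = Multiset.replicate m 2 := by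
  have h1 := Equiv.Perm.cycleType_of_pow_prime_eq_one (σ := tau m) (p := 2) tau_sq
  have h2 := Equiv.Perm.sum_cycleType (tau m)
  have h3 : (tau m).support = Finset.univ := by
    ext c
    simp only [Equiv.Perm.mem_support, Finset.mem_univ, iff_true]
    exact tau_ne c
  rw [h3, Finset.card_univ, Fintype.card_sum, Fintype.card_fin, h1, Multiset.sum_replicate,
    smul_eq_mul] at h2
  have h4 : (tau m).cycleType.card = m := by omega
  rw [h1, h4]

theorem card_centralizer_tau :
    Nat.card (Subgroup.centralizer {tau m}) = 2 ^ m * Nat.factorial m := by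
  rw [Equiv.Perm.nat_card_centralizer, cycleType_tau, Multiset.sum_replicate,
    Multiset.prod_replicate, Fintype.card_sum, Fintype.card_fin, smul_eq_mul]
  have h0 : m + m - m * 2 = 0 := by omega
  rw [h0, Nat.factorial_zero, one_mul]
  rcases Nat.eq_zero_or_pos m with hm | hm
  · subst hm
    simp
  · have h1 : (Multiset.replicate m 2).toFinset = {2} := by
      ext x
      simp only [Multiset.mem_toFinset, Multiset.mem_replicate, Finset.mem_singleton]
      constructor
      · exact fun h => h.2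
      · exact fun h => ⟨by omega, h⟩
    rw [h1, Finset.prod_singleton, Multiset.count_replicate_self]

include hq in
theorem card_NT : Nat.card (NT m F)
    = 2 ^ m * Nat.factorial m * (Fintype.card F - 1) ^ m := by
  have h1 := Subgroup.card_mul_index (permHom (m := m) (F := F) hq).ker
  rw [Subgroup.index_ker, range_permHom, card_centralizer_tau, ker_permHom,
    Nat.card_congr (Subgroup.subgroupOfEquivOfLe Subgroup.le_normalizer).toEquiv, card_torus] at h1
  rw [← h1]
  ring

end hom

end Cfsg.Agent.Helper28.SpTorus
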