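import Mathlib
import Cfsg.Agent.Lib.Helper28.SpSingMax

set_option autoImplicit false
set_option linter.unusedSectionVars false

/-! The stabiliser in the symplectic group (odd characteristic) of a pair of complementary totally
isotropic subspaces is maximal (helper28). -/

namespace Cfsg.Agent.Helper28.SpTsPair

open Cfsg Matrix Cfsg.Agent.Helper2.Symp Cfsg.Agent.Helper28.SpSingMax
  Cfsg.Agent.Helper28.SympIso
open scoped Cfsg.Agent.Helper2.Symp

variable {F : Type*} [Field F] [Fintype F] {m : ℕ}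

section general

theorem finrank_span_pair_le (x y : Fin m ⊕ Fin m → F) :
    Module.finrank F (Submodule.span F ({x, y} : Set (Fin m ⊕ Fin m → F))) ≤ 2 := by
  classical
  have := finrank_span_finset_le_card (R := F) ({x, y} : Finset (Fin m ⊕ Fin m → F))
  have h2 : ({x, y} : Finset (Fin m ⊕ Fin m → F)).card ≤ 2 := Finset.card_le_two
  rw [Finset.coe_insert, Finset.coe_singleton] at this
  exact this.trans h2

theorem mem_orth_iff (S : Submodule F (Fin m ⊕ Fin m → F)) (x : Fin m ⊕ Fin m → F) :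
    x ∈ LinearMap.BilinForm.orthogonal (sympBil m F) S ↔ ∀ s ∈ S, Bf s x = 0 := by
  rw [LinearMap.BilinForm.mem_orthogonal_iff]
  constructor
  · intro h s hs
    have := h s hs
    rwa [sympBil_apply] at this
  · intro h s hs
    rw [sympBil_apply]
    exact h s hs

/-- a vector outside a subspace is separated from it by the form -/
theorem exists_sep (S : Submodule F (Fin m ⊕ Fin m → F)) (y : Fin m ⊕ Fin m → F) (hy : y ∉ S) :
    ∃ v : Fin m ⊕ Fin m → F, (∀ s ∈ S, Bf s v = 0) ∧ Bf y v = 1 := by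
  by_contra hcon
  push Not at hcon
  apply hy
  rw [← LinearMap.BilinForm.orthogonal_orthogonal (sympBil_nondegenerate m) (sympBil_isRefl m) S,
    mem_orth_iff]
  intro v hv
  rw [mem_orth_iff] at hv
  by_contra hne
  have hne' : Bf y v ≠ 0 := by rw [Bf_skew]; exact neg_ne_zero.mpr hne
  apply hcon ((Bf y v)⁻¹ • v)
  · intro s hs
    rw [Bf_smul_right, hv s hs, mul_zero]
  · rw [Bf_smul_right, inv_mul_cancel₀ hne']

theorem exists_not_mem_of_finrank_lt (A B : Submodule F (Fin m ⊕ Fin m → F))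
    (h : Module.finrank F B < Module.finrank F A) : ∃ c ∈ A, c ∉ B := by
  by_contra hcon
  push Not at hcon
  have : A ≤ B := hcon
  have := Submodule.finrank_mono this
  omega

theorem exists_perp_not_mem (A B : Submodule F (Fin m ⊕ Fin m → F)) (x y : Fin m ⊕ Fin m → F)
    (h : Module.finrank F B + 2 < Module.finrank F A) :
    ∃ c ∈ A, Bf x c = 0 ∧ Bf y c = 0 ∧ c ∉ B := by
  have hP := finrank_span_pair_le (F := F) x y
  have hfr := LinearMap.BilinForm.finrank_orthogonal (sympBil_nondegenerate (F := F) m)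
    (Submodule.span F ({x, y} : Set (Fin m ⊕ Fin m → F)))
  have h1 := Submodule.finrank_sup_add_finrank_inf_eq A
    (LinearMap.BilinForm.orthogonal (sympBil m F)
      (Submodule.span F ({x, y} : Set (Fin m ⊕ Fin m → F))))
  have h2 := Submodule.finrank_le (A ⊔
    (LinearMap.BilinForm.orthogonal (sympBil m F)
      (Submodule.span F ({x, y} : Set (Fin m ⊕ Fin m → F)))))
  obtain ⟨c, hc, hcB⟩ := exists_not_mem_of_finrank_lt (A ⊓
    (LinearMap.BilinForm.orthogonal (sympBil m F)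
      (Submodule.span F ({x, y} : Set (Fin m ⊕ Fin m → F))))) B (by omega)
  have hso := (mem_orth_iff _ c).1 hc.2
  exact ⟨c, hc.1, hso x (Submodule.subset_span (by simp)),
    hso y (Submodule.subset_span (by simp)), hcB⟩

end general

section sieg

theorem Bf_comm_zero {a b : Fin m ⊕ Fin m → F} (h : Bf a b = 0) : Bf b a = 0 := by
  rw [Bf_skew, h, neg_zero]

theorem conj_sieg (g : Matrix.symplecticGroup (Fin m) F) (a b : Fin m ⊕ Fin m → F) :
    g * sieg a b * g⁻¹ = sieg (g • a) (g • b) := by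
  unfold sieg
  have e : g • a + g • b = g • (a + b) := (smul_add g a b).symm
  rw [e, ← conj_tv g (a + b) 1, ← conj_tv g a (-1), ← conj_tv g b (-1)]
  group

/-- the product rule in the Heisenberg group at `c` -/
theorem sieg_mul' (c b b' : Fin m ⊕ Fin m → F) (hcb : Bf c b = 0) (hcb' : Bf c b' = 0) (t : F) :
    sieg c b * tv c t * sieg c b' = sieg c (b + b') * tv c (t + Bf b' b) := by
  apply ext_smul
  intro x
  have hbc : Bf b c = 0 := Bf_comm_zero hcb
  have hb'c : Bf b' c = 0 := Bf_comm_zero hcb'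
  rw [mul_smul, mul_smul, mul_smul, sieg_smul c b' hcb', tv_smul, sieg_smul c b hcb, tv_smul,
    sieg_smul c (b + b') (by rw [Bf_add_right, hcb, hcb', add_zero])]
  simp only [Bf_add_left, Bf_add_right, Bf_smul_left, Bf_self, hcb, hcb', hb'c, mul_zero,
    add_zero]
  module

theorem sieg_mul (c b b' : Fin m ⊕ Fin m → F) (hcb : Bf c b = 0) (hcb' : Bf c b' = 0) :
    sieg c b * sieg c b' = sieg c (b + b') * tv c (Bf b' b) := by
  have := sieg_mul' c b b' hcb hcb' 0
  rwa [tv_zero_right, mul_one, zero_add] at this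

end sieg

section pair

variable (U U' : Submodule F (Fin m ⊕ Fin m → F)) (hU : ∀ u ∈ U, ∀ v ∈ U, Bf u v = 0)
  (hU' : ∀ u ∈ U', ∀ v ∈ U', Bf u v = 0)
  (hdec : ∀ v : Fin m ⊕ Fin m → F, ∃ u ∈ U, ∃ u' ∈ U', v = u + u')

include hU hU' hdec in
theorem inter_zero {x : Fin m ⊕ Fin m → F} (hx : x ∈ U) (hx' : x ∈ U') : x = 0 := by
  by_contra hne
  obtain ⟨v, hv⟩ := exists_Bf_ne_zero hne
  apply hv
  obtain ⟨u, hu, u', hu', rfl⟩ := hdec v
  rw [Bf_add_right, hU x hx u hu, hU' x hx' u' hu', add_zero]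

include hU hdec in
/-- separation inside `U` by a vector of `U'` -/
theorem exists_sepU' (S : Submodule F (Fin m ⊕ Fin m → F)) (hS : S ≤ U)
    {y : Fin m ⊕ Fin m → F} (hy : y ∈ U) (hyS : y ∉ S) :
    ∃ d ∈ U', (∀ s ∈ S, Bf s d = 0) ∧ Bf y d = 1 := by
  obtain ⟨v, hv, hyv⟩ := exists_sep S y hyS
  obtain ⟨a, ha, a', ha', rfl⟩ := hdec v
  refine ⟨a', ha', fun s hs => ?_, ?_⟩
  · have := hv s hs
    rwa [Bf_add_right, hU s (hS hs) a ha, zero_add] at this
  · rwa [Bf_add_right, hU y hy a ha, zero_add] at hyv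

include hU hdec in
theorem exists_sep2 {c x : Fin m ⊕ Fin m → F} (hc : c ∈ U) (hx : x ∈ U)
    (hxc : ∀ β : F, x ≠ β • c) : ∃ d ∈ U', Bf c d = 0 ∧ Bf x d = 1 := by
  obtain ⟨d, hd, hS, hxd⟩ := exists_sepU' U U' hU hdec (Submodule.span F {c})
    (by rw [Submodule.span_le]; intro z hz; rw [Set.mem_singleton_iff] at hz; rw [hz]; exact hc)
    hx (by
      intro h
      obtain ⟨β, hβ⟩ := Submodule.mem_span_singleton.mp h
      exact hxc β hβ.symm)
  exact ⟨d, hd, hS c (Submodule.mem_span_singleton_self c), hxd⟩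

include hU hdec in
/-- a Heisenberg element at `c` with direction in `U` forces all transvections at `c` -/
theorem cen_of_start (h2 : (2 : F) ≠ 0) (M : Subgroup (Matrix.symplecticGroup (Fin m) F))
    (hM : ∀ a ∈ U, ∀ b ∈ U', Bf a b = 0 → sieg a b ∈ M)
    {c x₀ : Fin m ⊕ Fin m → F} (hc : c ∈ U) (hx₀ : x₀ ∈ U) (hx₀c : ∀ β : F, x₀ ≠ β • c) (τ : F)
    (hE : sieg c x₀ * tv c τ ∈ M) : c ∈ Cen M := by
  obtain ⟨d, hd, hcd, hx₀d⟩ := exists_sep2 U U' hU hdec hc hx₀ hx₀c
  have hcx₀ : Bf c x₀ = 0 := hU c hc x₀ hx₀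
  intro t
  obtain ⟨l, hl⟩ : ∃ l : F, l = -t / 2 := ⟨_, rfl⟩
  have hcld : Bf c (l • d) = 0 := by rw [Bf_smul_right, hcd, mul_zero]
  have hB : sieg c (l • d) ∈ M := hM c hc _ (U'.smul_mem _ hd) hcld
  have e1 : sieg c x₀ * tv c τ * sieg c (l • d) = sieg c (x₀ + l • d) * tv c (τ - l) := by
    rw [sieg_mul' c x₀ (l • d) hcx₀ hcld, Bf_smul_left, Bf_skew d x₀, hx₀d]
    congr 2
    ring
  have e2 : sieg c (l • d) * (sieg c x₀ * tv c τ) = sieg c (x₀ + l • d) * tv c (l + τ) := by
    rw [← mul_assoc, sieg_mul c (l • d) x₀ hcld hcx₀, Bf_smul_right, hx₀d, mul_one, mul_assoc,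
      tv_mul_tv, add_comm (l • d) x₀]
  have e3 : tv c t = (sieg c (l • d) * (sieg c x₀ * tv c τ))⁻¹ *
      (sieg c x₀ * tv c τ * sieg c (l • d)) := by
    rw [e1, e2, _root_.mul_inv_rev, mul_assoc, inv_mul_cancel_left, tv_inv, tv_mul_tv]
    congr 1
    rw [hl]
    field_simp
    ring
  rw [e3]
  exact M.mul_mem (M.inv_mem (M.mul_mem hB hE)) (M.mul_mem hE hB)

include hU hdec in
/-- the transvection property spreads over all of `U` -/
theorem cen_all_U (M : Subgroup (Matrix.symplecticGroup (Fin m) F))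
    (hM : ∀ a ∈ U, ∀ b ∈ U', Bf a b = 0 → sieg a b ∈ M)
    {c : Fin m ⊕ Fin m → F} (hc : c ∈ U) (hc0 : c ≠ 0) (hcM : c ∈ Cen M)
    {z : Fin m ⊕ Fin m → F} (hz : z ∈ U) (hz0 : z ≠ 0) : z ∈ Cen M := by
  by_cases hdep : ∃ β : F, z = β • c
  · obtain ⟨β, rfl⟩ := hdep
    exact cen_scalar M β c hcM
  · push Not at hdep
    have hdep' : ∀ β : F, c ≠ β • z := by
      intro β hβ
      have hβ0 : β ≠ 0 := by
        intro h
        apply hc0
        rw [hβ, h, zero_smul]
      apply hdep β⁻¹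
      rw [hβ, smul_smul, inv_mul_cancel₀ hβ0, one_smul]
    obtain ⟨b₁, hb₁, hcb₁, hzb₁⟩ := exists_sep2 U U' hU hdec hc hz hdep
    obtain ⟨b₂, hb₂, hzb₂, hcb₂⟩ := exists_sep2 U U' hU hdec hz hc hdep'
    have hab : Bf (z - c) (b₁ + b₂) = 0 := by
      rw [Bf_sub_left, Bf_add_right, Bf_add_right, hcb₁, hzb₁, hzb₂, hcb₂]
      ring
    have hh : sieg (z - c) (b₁ + b₂) ∈ M := hM _ (U.sub_mem hz hc) _ (U'.add_mem hb₁ hb₂) hab
    have himg : sieg (z - c) (b₁ + b₂) • c = z := by
      rw [sieg_smul _ _ hab, Bf_add_right, hcb₁, hcb₂, hU c hc _ (U.sub_mem hz hc)]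
      simp
    rw [← himg]
    exact cen_smul M _ hh c hcM

include hU hU' hdec in
/-- a Siegel element of `M` on a line missing `U'` gives a Heisenberg element with centre and
direction in `U` -/
theorem start_of_line (hk : 5 ≤ Module.finrank F U)
    (M : Subgroup (Matrix.symplecticGroup (Fin m) F))
    (hM : ∀ a ∈ U, ∀ b ∈ U', Bf a b = 0 → sieg a b ∈ M)
    {x y x₁ x₁' y₁ y₁' : Fin m ⊕ Fin m → F} (hx₁ : x₁ ∈ U) (hx₁' : x₁' ∈ U') (hy₁ : y₁ ∈ U)
    (hy₁' : y₁' ∈ U') (hx : x = x₁ + x₁') (hy : y = y₁ + y₁') (hxy : Bf x y = 0)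
    (hE : sieg x y ∈ M) (hind : ∀ α β : F, α • x₁ + β • y₁ = 0 → α = 0 ∧ β = 0) :
    ∃ c ∈ U, ∃ x₀ ∈ U, ∃ τ : F, c ≠ 0 ∧ (∀ β : F, x₀ ≠ β • c) ∧ sieg c x₀ * tv c τ ∈ M := by
  have hP := finrank_span_pair_le (F := F) x₁ y₁
  obtain ⟨c, hc, hxc, hyc, hcS⟩ := exists_perp_not_mem U
    (Submodule.span F ({x₁, y₁} : Set (Fin m ⊕ Fin m → F))) x y (by omega)
  have hc0 : c ≠ 0 := by
    intro h
    apply hcS
    rw [h]
    exact Submodule.zero_mem _
  have hx₁0 : x₁ ≠ 0 := by
    intro h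
    have := (hind 1 0 (by rw [h, smul_zero, zero_smul, add_zero])).1
    exact one_ne_zero this
  have hx₁c : ∀ β : F, -x₁ ≠ β • c := by
    intro β hβ
    have hβ0 : β ≠ 0 := by
      intro h
      apply hx₁0
      rw [h, zero_smul] at hβ
      exact neg_eq_zero.mp hβ
    apply hcS
    have : c = (-β⁻¹) • x₁ := by
      rw [neg_smul, ← smul_neg, hβ, smul_smul, inv_mul_cancel₀ hβ0, one_smul]
    rw [this]
    exact Submodule.smul_mem _ _ (Submodule.subset_span (by simp))
  have hy₁S : y₁ ∉ Submodule.span F ({c, x₁} : Set (Fin m ⊕ Fin m → F)) := by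
    intro h
    obtain ⟨α, β, hαβ⟩ := Submodule.mem_span_pair.mp h
    by_cases hα : α = 0
    · rw [hα, zero_smul, zero_add] at hαβ
      have := (hind β (-1) (by rw [hαβ, neg_smul, one_smul, add_neg_cancel])).2
      exact one_ne_zero (neg_eq_zero.mp this)
    · apply hcS
      have : c = α⁻¹ • (y₁ - β • x₁) := by
        rw [← hαβ, add_sub_cancel_right, smul_smul, inv_mul_cancel₀ hα, one_smul]
      rw [this]
      exact Submodule.smul_mem _ _ (Submodule.sub_mem _ (Submodule.subset_span (by simp))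
        (Submodule.smul_mem _ _ (Submodule.subset_span (by simp))))
  obtain ⟨d, hd, hSd, hy₁d⟩ := exists_sepU' U U' hU hdec
    (Submodule.span F ({c, x₁} : Set (Fin m ⊕ Fin m → F))) (by
      rw [Submodule.span_le]
      intro z hz
      rcases hz with rfl | hz
      · exact hc
      · rw [Set.mem_singleton_iff] at hz
        rw [hz]; exact hx₁) hy₁ hy₁S
  have hcd : Bf c d = 0 := hSd c (Submodule.subset_span (by simp))
  have hx₁d : Bf x₁ d = 0 := hSd x₁ (Submodule.subset_span (by simp))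
  have hxd : Bf x d = 0 := by
    rw [hx, Bf_add_left, hx₁d, hU' x₁' hx₁' d hd, add_zero]
  have hyd : Bf y d = 1 := by
    rw [hy, Bf_add_left, hy₁d, hU' y₁' hy₁' d hd, add_zero]
  have hEc : sieg x y • c = c := by
    rw [sieg_smul x y hxy, Bf_comm_zero hxc, Bf_comm_zero hyc]
    simp
  have hEd : sieg x y • d = d - x := by
    rw [sieg_smul x y hxy, Bf_comm_zero hxd, Bf_skew d y, hyd]
    simp [sub_eq_add_neg]
  have h1 : sieg c (d - x) ∈ M := by
    have := conj_sieg (sieg x y) c d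
    rw [hEc, hEd] at this
    rw [← this]
    exact M.mul_mem (M.mul_mem hE (hM c hc d hd hcd)) (M.inv_mem hE)
  have hcx : Bf c x = 0 := Bf_comm_zero hxc
  have hcnx : Bf c (-x) = 0 := by rw [Bf_neg_right, hcx, neg_zero]
  have h2 : sieg c (-x) ∈ M := by
    have := sieg_mul c d (-x) hcd hcnx
    rw [Bf_neg_left, hxd, neg_zero, tv_zero_right, mul_one, ← sub_eq_add_neg] at this
    have e : sieg c (-x) = (sieg c d)⁻¹ * sieg c (d - x) := by
      rw [← this, inv_mul_cancel_left]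
    rw [e]
    exact M.mul_mem (M.inv_mem (hM c hc d hd hcd)) h1
  have hcx₁ : Bf c x₁ = 0 := hU c hc x₁ hx₁
  have hcx₁' : Bf c x₁' = 0 := by
    rw [hx, Bf_add_right, hcx₁, zero_add] at hcx
    exact hcx
  have hcnx₁ : Bf c (-x₁) = 0 := by rw [Bf_neg_right, hcx₁, neg_zero]
  have hcnx₁' : Bf c (-x₁') = 0 := by rw [Bf_neg_right, hcx₁', neg_zero]
  have h3 : sieg c (-x₁) * tv c (-Bf x₁' x₁) ∈ M := by
    have := sieg_mul' c (-x₁) (-x₁') hcnx₁ hcnx₁' (-Bf x₁' x₁)
    rw [Bf_neg_left, Bf_neg_right, neg_neg, neg_add_cancel, tv_zero_right, mul_one, ← neg_add,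
      ← hx] at this
    have e : sieg c (-x₁) * tv c (-Bf x₁' x₁) = sieg c (-x) * (sieg c (-x₁'))⁻¹ := by
      rw [← this, mul_inv_cancel_right]
    rw [e]
    exact M.mul_mem h2 (M.inv_mem (hM c hc _ (U'.neg_mem hx₁') hcnx₁'))
  exact ⟨c, hc, -x₁, U.neg_mem hx₁, _, hc0, hx₁c, h3⟩

theorem maps_union (g : Matrix.symplecticGroup (Fin m) F) (W : Submodule F (Fin m ⊕ Fin m → F))
    (h : ∀ p ∈ W, g • p ∈ U ∨ g • p ∈ U') : (∀ p ∈ W, g • p ∈ U) ∨ (∀ p ∈ W, g • p ∈ U') := by
  by_contra hcon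
  push Not at hcon
  obtain ⟨⟨p₁, hp₁, hp₁U⟩, ⟨p₂, hp₂, hp₂U'⟩⟩ := hcon
  have h1 : g • p₁ ∈ U' := (h p₁ hp₁).resolve_left hp₁U
  have h2 : g • p₂ ∈ U := (h p₂ hp₂).resolve_right hp₂U'
  rcases h (p₁ + p₂) (W.add_mem hp₁ hp₂) with h3 | h3
  · rw [smul_add] at h3
    apply hp₁U
    have := U.sub_mem h3 h2
    rwa [add_sub_cancel_right] at this
  · rw [smul_add] at h3
    apply hp₂U'
    have := U'.sub_mem h3 h1
    rwa [add_sub_cancel_left] at this

theorem indep_of_not_dep {a y : Fin m ⊕ Fin m → F} (ha : a ≠ 0) (hdep : ∀ β : F, y ≠ β • a)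
    (α β' : F) (h : α • a + β' • y = 0) : α = 0 ∧ β' = 0 := by
  by_cases hβ'0 : β' = 0
  · rw [hβ'0, zero_smul, add_zero] at h
    rcases smul_eq_zero.mp h with h' | h'
    · exact ⟨h', hβ'0⟩
    · exact absurd h' ha
  · exfalso
    apply hdep (-α / β')
    have : β' • y = -(α • a) := eq_neg_of_add_eq_zero_right h
    calc y = β'⁻¹ • (β' • y) := by rw [smul_smul, inv_mul_cancel₀ hβ'0, one_smul]
      _ = (-α / β') • a := by
          rw [this, smul_neg, smul_smul, ← neg_smul]
          congr 1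
          field_simp

include hU hU' hdec in
/-- **a subgroup containing the Siegel elements of the pair stabiliser, a swap and an element not
stabilising the pair is the whole symplectic group** -/
theorem pair_top (h2 : (2 : F) ≠ 0) (hk : 5 ≤ Module.finrank F U)
    (hk' : 5 ≤ Module.finrank F U') (M : Subgroup (Matrix.symplecticGroup (Fin m) F))
    (hM : ∀ a ∈ U, ∀ b ∈ U', Bf a b = 0 → sieg a b ∈ M)
    (s : Matrix.symplecticGroup (Fin m) F) (hsM : s ∈ M) (hsU : ∀ u ∈ U, s • u ∈ U')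
    (hsU' : ∀ u' ∈ U', s • u' ∈ U) (g : Matrix.symplecticGroup (Fin m) F) (hgM : g ∈ M)
    (hg1 : ¬ ((∀ u ∈ U, g • u ∈ U) ∧ (∀ u' ∈ U', g • u' ∈ U')))
    (hg2 : ¬ ((∀ u ∈ U, g • u ∈ U') ∧ (∀ u' ∈ U', g • u' ∈ U))) : M = ⊤ := by
  have hUne : ∃ u ∈ U, u ≠ 0 := by
    have hpos : 0 < Module.finrank F U := by omega
    obtain ⟨⟨w, hw⟩, hw0⟩ := Module.finrank_pos_iff_exists_ne_zero.mp hpos
    exact ⟨w, hw, fun h => hw0 (Subtype.ext h)⟩
  have hU'ne : ∃ u ∈ U', u ≠ 0 := by
    have hpos : 0 < Module.finrank F U' := by omega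
    obtain ⟨⟨w, hw⟩, hw0⟩ := Module.finrank_pos_iff_exists_ne_zero.mp hpos
    exact ⟨w, hw, fun h => hw0 (Subtype.ext h)⟩
  -- step A: a point of `U` moved off both subspaces
  obtain ⟨g', hg'M, p, hp, hxU, hxU'⟩ : ∃ g' ∈ M, ∃ p ∈ U, g' • p ∉ U ∧ g' • p ∉ U' := by
    by_contra hcon
    push Not at hcon
    have hA : ∀ p ∈ U, g • p ∈ U ∨ g • p ∈ U' := by
      intro p hp
      by_cases h : g • p ∈ U
      · left; exact h
      · right; exact hcon g hgM p hp h
    have hB : ∀ p' ∈ U', g • p' ∈ U ∨ g • p' ∈ U' := by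
      intro p' hp'
      have e : (g * s⁻¹) • (s • p') = g • p' := by rw [mul_smul, inv_smul_smul]
      by_cases h : g • p' ∈ U
      · left; exact h
      · right
        have := hcon (g * s⁻¹) (M.mul_mem hgM (M.inv_mem hsM)) (s • p') (hsU' p' hp') (by
          rw [e]; exact h)
        rwa [e] at this
    rcases maps_union U U' g U hA with hA1 | hA2
    · rcases maps_union U U' g U' hB with hB1 | hB2
      · have hst := stab_of_maps U g hA1
        obtain ⟨u', hu', hu'0⟩ := hU'ne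
        apply hu'0
        exact inter_zero U U' hU hU' hdec ((hst u').mpr (hB1 u' hu')) hu'
      · exact hg1 ⟨hA1, hB2⟩
    · rcases maps_union U U' g U' hB with hB1 | hB2
      · exact hg2 ⟨hA2, hB1⟩
      · have hst := stab_of_maps U' g hB2
        obtain ⟨u, hu, hu0⟩ := hUne
        apply hu0
        exact inter_zero U U' hU hU' hdec hu ((hst u).mpr (hA2 u hu))
  -- step B: a Siegel element of `M` on a line missing `U'`
  obtain ⟨a₀, ha₀, b₀, hb₀, hxdec⟩ := hdec (g' • p)
  have ha₀0 : a₀ ≠ 0 := by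
    intro h
    apply hxU'
    rw [hxdec, h, zero_add]
    exact hb₀
  have hb₀0 : b₀ ≠ 0 := by
    intro h
    apply hxU
    rw [hxdec, h, add_zero]
    exact ha₀
  have hP := finrank_span_pair_le (F := F) (g'⁻¹ • a₀) (g'⁻¹ • b₀)
  obtain ⟨b, hb, hpb, -, hbS⟩ := exists_perp_not_mem U'
    (Submodule.span F ({g'⁻¹ • a₀, g'⁻¹ • b₀} : Set (Fin m ⊕ Fin m → F))) p p (by omega)
  have hyspan : ∀ α β : F, g' • b ≠ α • a₀ + β • b₀ := by
    intro α β h
    apply hbS
    have : b = α • g'⁻¹ • a₀ + β • g'⁻¹ • b₀ := by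
      rw [smul_comm α, smul_comm β, ← smul_add, ← h, inv_smul_smul]
    rw [this]
    exact Submodule.add_mem _ (Submodule.smul_mem _ _ (Submodule.subset_span (by simp)))
      (Submodule.smul_mem _ _ (Submodule.subset_span (by simp)))
  have hExy : sieg (g' • p) (g' • b) ∈ M := by
    rw [← conj_sieg g']
    exact M.mul_mem (M.mul_mem hg'M (hM p hp b hb hpb)) (M.inv_mem hg'M)
  have hxy : Bf (g' • p) (g' • b) = 0 := by rw [Bf_smul_smul, hpb]
  obtain ⟨y₁, hy₁, y₁', hy₁', hydec⟩ := hdec (g' • b)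
  obtain ⟨c, hc, x₀, hx₀, τ, hc0, hx₀c, hE'⟩ : ∃ c ∈ U, ∃ x₀ ∈ U, ∃ τ : F, c ≠ 0 ∧
      (∀ β : F, x₀ ≠ β • c) ∧ sieg c x₀ * tv c τ ∈ M := by
    by_cases hdep : ∃ β : F, y₁ = β • a₀
    · obtain ⟨β, hβ⟩ := hdep
      have hy₁'b₀ : ∀ β' : F, y₁' ≠ β' • b₀ := by
        intro β' hβ'
        apply hyspan β β'
        rw [hydec, hβ, hβ']
      have hEs : sieg (s • g' • p) (s • g' • b) ∈ M := by
        rw [← conj_sieg s]
        exact M.mul_mem (M.mul_mem hsM hExy) (M.inv_mem hsM)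
      refine start_of_line U U' hU hU' hdec hk M hM (hsU' b₀ hb₀) (hsU a₀ ha₀)
        (hsU' y₁' hy₁') (hsU y₁ hy₁) (by rw [hxdec, smul_add, add_comm])
        (by rw [hydec, smul_add, add_comm]) (by rw [Bf_smul_smul, hxy]) hEs ?_
      intro α β' h
      rw [smul_comm α, smul_comm β', ← smul_add, smul_eq_zero_iff_eq] at h
      exact indep_of_not_dep hb₀0 hy₁'b₀ α β' h
    · push Not at hdep
      exact start_of_line U U' hU hU' hdec hk M hM ha₀ hb₀ hy₁ hy₁' hxdec hydec hxy
        hExy (indep_of_not_dep ha₀0 hdep)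
  -- step C: all of `U` and `U'`
  have hcC : c ∈ Cen M := cen_of_start U U' hU hdec h2 M hM hc hx₀ hx₀c τ hE'
  have hRU : ∀ z ∈ U, z ∈ Cen M := by
    intro z hz
    by_cases hz0 : z = 0
    · intro t
      rw [hz0, tv_zero_left]
      exact M.one_mem
    · exact cen_all_U U U' hU hdec M hM hc hc0 hcC hz hz0
  have hRU' : ∀ z' ∈ U', z' ∈ Cen M := by
    intro z' hz'
    have h1 : s • z' ∈ Cen M := hRU _ (hsU' z' hz')
    have h2 := cen_smul M s⁻¹ (M.inv_mem hsM) _ h1
    rwa [inv_smul_smul] at h2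
  -- step D: all vectors
  have hall : ∀ v : Fin m ⊕ Fin m → F, v ∈ Cen M := by
    intro v
    obtain ⟨u, hu, u', hu', rfl⟩ := hdec v
    by_cases hne : Bf u u' = 0
    · by_cases hu0 : u = 0
      · rw [hu0, zero_add]
        exact hRU' u' hu'
      · obtain ⟨x, hx⟩ := exists_Bf_ne_zero hu0
        obtain ⟨a, ha, a', ha', rfl⟩ := hdec x
        rw [Bf_add_right, hU u hu a ha, zero_add] at hx
        have h1 : u + a' ∈ Cen M := by
          have := hyp_mem_cen M u a' (hRU u hu) (hRU' a' ha') hx 1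
          rwa [one_smul] at this
        have h3 : Bf (u + a') (u' - a') ≠ 0 := by
          rw [Bf_add_left, Bf_sub_right, Bf_sub_right, hne, Bf_self, hU' a' ha' u' hu', sub_zero,
            zero_sub, add_zero]
          exact neg_ne_zero.mpr hx
        have := hyp_mem_cen M (u + a') (u' - a') h1 (hRU' _ (U'.sub_mem hu' ha')) h3 1
        rw [one_smul] at this
        have e : u + a' + (u' - a') = u + u' := by abel
        rwa [e] at this
    · have := hyp_mem_cen M u u' (hRU u hu) (hRU' u' hu') hne 1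
      rwa [one_smul] at this
  rw [eq_top_iff, ← tvGroup_top_eq_top]
  unfold tvGroup
  rw [Subgroup.closure_le]
  rintro g ⟨x, -, c, rfl⟩
  exact hall x c

end pair

section swap

variable (U U' : Submodule F (Fin m ⊕ Fin m → F)) (hU : ∀ u ∈ U, ∀ v ∈ U, Bf u v = 0)
  (hU' : ∀ u ∈ U', ∀ v ∈ U', Bf u v = 0)
  (hdec : ∀ v : Fin m ⊕ Fin m → F, ∃ u ∈ U, ∃ u' ∈ U', v = u + u')

theorem map_eq_of_maps (h : Matrix.symplecticGroup (Fin m) F)
    (A B : Submodule F (Fin m ⊕ Fin m → F))
    (hAB : ∀ a ∈ A, h • a ∈ B) (hfr : Module.finrank F A = Module.finrank F B) :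
    A.map (Matrix.toLin' (h : Matrix (Fin m ⊕ Fin m) (Fin m ⊕ Fin m) F)) = B := by
  apply Submodule.eq_of_le_of_finrank_eq
  · rintro _ ⟨a, ha, rfl⟩
    rw [Matrix.toLin'_apply]
    exact hAB a ha
  · have hinj : Function.Injective
        ((Matrix.toLin' (h : Matrix (Fin m ⊕ Fin m) (Fin m ⊕ Fin m) F)).domRestrict A) := by
      intro a b hab
      apply Subtype.ext
      have hab' : h • (a : Fin m ⊕ Fin m → F) = h • (b : Fin m ⊕ Fin m → F) := by
        rw [LinearMap.domRestrict_apply, LinearMap.domRestrict_apply, Matrix.toLin'_apply,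
          Matrix.toLin'_apply] at hab
        exact hab
      exact MulAction.injective h hab'
    have := LinearMap.finrank_range_of_inj hinj
    rw [LinearMap.range_domRestrict] at this
    rw [this, hfr]

/-- the element interchanging `e` and `f` up to sign -/
def wv (e f : Fin m ⊕ Fin m → F) : Matrix.symplecticGroup (Fin m) F :=
  tv e 1 * tv f 1 * tv e 1

theorem wv_smul (e f x : Fin m ⊕ Fin m → F) (hef : Bf e f = 1) :
    wv e f • x = x + (Bf x e - Bf x f) • e + (Bf x e + Bf x f) • f := by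
  have hfe : Bf f e = -1 := by rw [Bf_skew, hef]
  unfold wv
  rw [mul_smul, mul_smul, tv_smul, tv_smul, tv_smul]
  simp only [Bf_add_left, Bf_smul_left, Bf_self, hef, hfe, one_mul, mul_zero, add_zero, mul_one,
    mul_neg]
  module

include hU hU' hdec in
/-- a symplectic element interchanging the two subspaces -/
theorem exists_swap (hfr : Module.finrank F U' = Module.finrank F U) :
    ∃ s : Matrix.symplecticGroup (Fin m) F, (∀ u ∈ U, s • u ∈ U') ∧ (∀ u' ∈ U', s • u' ∈ U) := by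
  classical
  let e : Module.Basis (Fin (Module.finrank F U)) F U := Module.finBasis F U
  have hli : LinearIndependent F (fun j => ((e j : U) : Fin m ⊕ Fin m → F)) :=
    e.linearIndependent.map' U.subtype (Submodule.ker_subtype U)
  have hdual : ∀ i, ∃ d ∈ U', (∀ j, j ≠ i → Bf ((e j : U) : Fin m ⊕ Fin m → F) d = 0) ∧
      Bf ((e i : U) : Fin m ⊕ Fin m → F) d = 1 := by
    intro i
    have hnot : ((e i : U) : Fin m ⊕ Fin m → F) ∉ Submodule.span F
        ((fun j => ((e j : U) : Fin m ⊕ Fin m → F)) '' {j | j ≠ i}) :=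
      hli.notMem_span_image (s := {j | j ≠ i}) (x := i) (by simp)
    obtain ⟨d, hd, hS, hid⟩ := exists_sepU' U U' hU hdec _ (by
      rw [Submodule.span_le]
      rintro _ ⟨j, -, rfl⟩
      exact (e j).2) (e i).2 hnot
    exact ⟨d, hd, fun j hj => hS _ (Submodule.subset_span ⟨j, hj, rfl⟩), hid⟩
  choose f hfU' hf0 hf1 using hdual
  have hef : ∀ i j, Bf ((e j : U) : Fin m ⊕ Fin m → F) (f i) = if j = i then 1 else 0 := by
    intro i j
    by_cases hji : j = i
    · rw [if_pos hji, hji]; exact hf1 i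
    · rw [if_neg hji]; exact hf0 i j hji
  have hfe : ∀ i j, Bf (f i) ((e j : U) : Fin m ⊕ Fin m → F) = if j = i then -1 else 0 := by
    intro i j
    rw [Bf_skew, hef]
    by_cases hji : j = i
    · rw [if_pos hji, if_pos hji]
    · rw [if_neg hji, if_neg hji, neg_zero]
  have hee : ∀ i j, Bf ((e i : U) : Fin m ⊕ Fin m → F) ((e j : U) : Fin m ⊕ Fin m → F) = 0 :=
    fun i j => hU _ (e i).2 _ (e j).2
  have hff : ∀ i j, Bf (f i) (f j) = 0 := fun i j => hU' _ (hfU' i) _ (hfU' j)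
  have hr_e : ∀ i j, wv ((e i : U) : Fin m ⊕ Fin m → F) (f i) • ((e j : U) : Fin m ⊕ Fin m → F) =
      if j = i then f i else ((e j : U) : Fin m ⊕ Fin m → F) := by
    intro i j
    rw [wv_smul _ _ _ (hf1 i), hee, hef]
    by_cases hji : j = i
    · rw [if_pos hji, if_pos hji, hji]
      simp
    · rw [if_neg hji, if_neg hji]
      simp
  have hr_f : ∀ i j, wv ((e i : U) : Fin m ⊕ Fin m → F) (f i) • f j =
      if j = i then -((e i : U) : Fin m ⊕ Fin m → F) else f j := by
    intro i j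
    rw [wv_smul _ _ _ (hf1 i), hff, hfe]
    by_cases hji : j = i
    · rw [if_pos hji.symm, if_pos hji, hji]
      simp
    · rw [if_neg (fun h => hji h.symm), if_neg hji]
      simp
  have hP : ∀ l : List (Fin (Module.finrank F U)), l.Nodup →
      (∀ j, (l.map (fun i => wv ((e i : U) : Fin m ⊕ Fin m → F) (f i))).prod •
          ((e j : U) : Fin m ⊕ Fin m → F) =
        if j ∈ l then f j else ((e j : U) : Fin m ⊕ Fin m → F)) ∧
      (∀ j, (l.map (fun i => wv ((e i : U) : Fin m ⊕ Fin m → F) (f i))).prod • f j =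
        if j ∈ l then -((e j : U) : Fin m ⊕ Fin m → F) else f j) := by
    intro l
    induction l with
    | nil =>
      intro _
      refine ⟨fun j => ?_, fun j => ?_⟩ <;> simp
    | cons i l ih =>
      intro hnd
      obtain ⟨hil, hl⟩ := List.nodup_cons.mp hnd
      obtain ⟨ih1, ih2⟩ := ih hl
      refine ⟨fun j => ?_, fun j => ?_⟩
      · rw [List.map_cons, List.prod_cons, mul_smul, ih1 j]
        by_cases hjl : j ∈ l
        · have hji : j ≠ i := fun h => hil (h ▸ hjl)
          rw [if_pos hjl, hr_f, if_neg hji, if_pos (List.mem_cons_of_mem _ hjl)]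
        · rw [if_neg hjl, hr_e]
          by_cases hji : j = i
          · rw [if_pos hji, if_pos (by rw [hji]; exact List.mem_cons_self), hji]
          · rw [if_neg hji, if_neg (by
              intro h
              rcases List.mem_cons.mp h with h | h
              · exact hji h
              · exact hjl h)]
      · rw [List.map_cons, List.prod_cons, mul_smul, ih2 j]
        by_cases hjl : j ∈ l
        · have hji : j ≠ i := fun h => hil (h ▸ hjl)
          rw [if_pos hjl, smul_neg, hr_e, if_neg hji, if_pos (List.mem_cons_of_mem _ hjl)]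
        · rw [if_neg hjl, hr_f]
          by_cases hji : j = i
          · rw [if_pos hji, if_pos (by rw [hji]; exact List.mem_cons_self), hji]
          · rw [if_neg hji, if_neg (by
              intro h
              rcases List.mem_cons.mp h with h | h
              · exact hji h
              · exact hjl h)]
  obtain ⟨hs1, hs2⟩ := hP (List.finRange _) (List.nodup_finRange _)
  obtain ⟨s, hsdef⟩ : ∃ s, s = ((List.finRange (Module.finrank F U)).map
    (fun i => wv ((e i : U) : Fin m ⊕ Fin m → F) (f i))).prod := ⟨_, rfl⟩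
  rw [← hsdef] at hs1 hs2
  simp only [List.mem_finRange, if_true] at hs1 hs2
  -- the action on `U`
  have hact : ∀ u ∈ U, s • u ∈ U' ∧ s • (s • u) = -u := by
    intro u hu
    have hrep := congrArg (fun z : U => (z : Fin m ⊕ Fin m → F)) (e.sum_repr ⟨u, hu⟩)
    simp only [Submodule.coe_sum, Submodule.coe_smul] at hrep
    generalize e.repr ⟨u, hu⟩ = c at hrep
    have h1 : s • u = ∑ j, (c j) • f j := by
      rw [← hrep, Finset.smul_sum]
      apply Finset.sum_congr rfl
      intro j _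
      rw [smul_comm, hs1]
    refine ⟨?_, ?_⟩
    · rw [h1]
      exact Submodule.sum_mem _ (fun j _ => U'.smul_mem _ (hfU' j))
    · rw [h1, Finset.smul_sum]
      conv_rhs => rw [← hrep]
      rw [← Finset.sum_neg_distrib]
      apply Finset.sum_congr rfl
      intro j _
      rw [smul_comm, hs2, smul_neg]
  refine ⟨s, fun u hu => (hact u hu).1, fun u' hu' => ?_⟩
  have hmap := map_eq_of_maps s U U' (fun u hu => (hact u hu).1) hfr.symm
  rw [← hmap] at hu'
  obtain ⟨u, hu, rfl⟩ := hu'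
  rw [Matrix.toLin'_apply, ← smul_def, (hact u hu).2]
  exact U.neg_mem hu

end swap

section glue

variable (D : Fin 2 → Submodule F (Fin m ⊕ Fin m → F))

/-- the stabiliser of the pair in the symplectic group -/
noncomputable def PairG (D : Fin 2 → Submodule F (Fin m ⊕ Fin m → F)) :
    Subgroup (Matrix.symplecticGroup (Fin m) F) :=
  (Cfsg.Geo.decompositionStabilizer D).comap (toGLHom m F)

theorem mem_pairG_of_fix (h : Matrix.symplecticGroup (Fin m) F) (h0 : ∀ u ∈ D 0, h • u ∈ D 0)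
    (h1 : ∀ u ∈ D 1, h • u ∈ D 1) : h ∈ PairG D := by
  refine ⟨1, fun i => ?_⟩
  fin_cases i
  · exact map_eq_of_maps h (D 0) (D 0) h0 rfl
  · exact map_eq_of_maps h (D 1) (D 1) h1 rfl

theorem mem_pairG_of_swap (h : Matrix.symplecticGroup (Fin m) F) (h0 : ∀ u ∈ D 0, h • u ∈ D 1)
    (h1 : ∀ u ∈ D 1, h • u ∈ D 0) (hfr : Module.finrank F (D 1) = Module.finrank F (D 0)) :
    h ∈ PairG D := by
  refine ⟨Equiv.swap 0 1, fun i => ?_⟩
  fin_cases i
  · exact map_eq_of_maps h (D 0) (D 1) h0 hfr.symm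
  · exact map_eq_of_maps h (D 1) (D 0) h1 hfr

/-- **the stabiliser in the symplectic group (odd characteristic) of a pair of complementary totally
isotropic subspaces is maximal** -/
theorem maximal_pair (h2 : (2 : F) ≠ 0)
    (hU : ∀ u ∈ D 0, ∀ v ∈ D 0, Bf u v = 0) (hU' : ∀ u ∈ D 1, ∀ v ∈ D 1, Bf u v = 0)
    (hdec : ∀ v : Fin m ⊕ Fin m → F, ∃ u ∈ D 0, ∃ u' ∈ D 1, v = u + u')
    (hk : 5 ≤ Module.finrank F (D 0)) (hfr : Module.finrank F (D 1) = Module.finrank F (D 0)) :
    Cfsg.Geo.IsMaximalIn (Cfsg.spGL m F)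
      (Cfsg.Geo.decompositionStabilizer D ⊓ Cfsg.spGL m F) := by
  have hroot : ∀ a ∈ D 0, ∀ b ∈ D 1, Bf a b = 0 → sieg a b ∈ PairG D := by
    intro a ha b hb hab
    refine mem_pairG_of_fix D _ (fun u hu => ?_) (fun u hu => ?_)
    · rw [sieg_smul a b hab, hU u hu a ha, zero_smul, add_zero]
      exact (D 0).add_mem hu ((D 0).smul_mem _ ha)
    · rw [sieg_smul a b hab, hU' u hu b hb, zero_smul, add_zero]
      exact (D 1).add_mem hu ((D 1).smul_mem _ hb)
  refine ⟨?_, fun M hHM hMG => ?_⟩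
  · apply lt_of_le_of_ne inf_le_right
    intro heq
    have hpos : 0 < Module.finrank F (D 0) := by omega
    obtain ⟨⟨c, hc⟩, hc0'⟩ := Module.finrank_pos_iff_exists_ne_zero.mp hpos
    have hc0 : c ≠ 0 := fun h => hc0' (Subtype.ext h)
    have hfs : Module.finrank F (Submodule.span F {c}) = 1 := finrank_span_singleton hc0
    obtain ⟨x, hx, hxS⟩ := exists_not_mem_of_finrank_lt (D 0) (Submodule.span F {c}) (by omega)
    have hxc : ∀ β : F, x ≠ β • c := by
      intro β hβ
      apply hxS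
      rw [hβ]
      exact Submodule.smul_mem _ _ (Submodule.mem_span_singleton_self c)
    obtain ⟨d, hd, hcd, hxd⟩ := exists_sep2 (D 0) (D 1) hU hdec hc hx hxc
    have hcx : Bf c x = 0 := hU c hc x hx
    have hg : toGLHom m F (sieg c x) ∈ Cfsg.spGL m F := toGLHom_mem_spGL _
    rw [← heq] at hg
    obtain ⟨σ, hσ⟩ := hg.1
    have himg : sieg c x • d = d - c := by
      rw [sieg_smul c x hcx, Bf_comm_zero hcd, Bf_skew d x, hxd]
      simp [sub_eq_add_neg]
    have hmem : sieg c x • d ∈ (D 1).map (Matrix.toLin'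
        ((toGLHom m F (sieg c x) : GL (Fin m ⊕ Fin m) F) :
          Matrix (Fin m ⊕ Fin m) (Fin m ⊕ Fin m) F)) := ⟨d, hd, by
      rw [Matrix.toLin'_apply]; rfl⟩
    have hσ1 := hσ 1
    have hmem' : sieg c x • d ∈ D (σ 1) := by
      rw [← hσ1]
      exact hmem
    rw [himg] at hmem'
    have hcases : σ 1 = 0 ∨ σ 1 = 1 := by
      generalize σ 1 = j
      fin_cases j
      · left; rfl
      · right; rfl
    rcases hcases with hc' | hc'
    · rw [hc'] at hmem'
      have hdU : d ∈ D 0 := by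
        have := (D 0).add_mem hmem' hc
        rwa [sub_add_cancel] at this
      have hd0 := inter_zero (D 0) (D 1) hU hU' hdec hdU hd
      rw [hd0, Bf_zero_right] at hxd
      exact zero_ne_one hxd
    · rw [hc'] at hmem'
      have hcU' : c ∈ D 1 := by
        have := (D 1).sub_mem hd hmem'
        rwa [sub_sub_cancel] at this
      exact hc0 (inter_zero (D 0) (D 1) hU hU' hdec hc hcU')
  · by_cases hMP : M ≤ Cfsg.Geo.decompositionStabilizer D
    · left
      exact le_antisymm (fun x hx => ⟨hMP hx, hMG hx⟩) hHM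
    · right
      obtain ⟨h, hhM, hhP⟩ := SetLike.not_le_iff_exists.mp hMP
      obtain ⟨g, rfl⟩ := exists_of_mem_spGL h (hMG hhM)
      obtain ⟨s, hsU, hsU'⟩ := exists_swap (D 0) (D 1) hU hU' hdec hfr
      have hsub : PairG D ≤ M.comap (toGLHom m F) := fun x hx =>
        hHM ⟨hx, toGLHom_mem_spGL x⟩
      have htop : M.comap (toGLHom m F) = ⊤ :=
        pair_top (D 0) (D 1) hU hU' hdec h2 hk (by omega) _
          (fun a ha b hb hab => hsub (hroot a ha b hb hab)) s
          (hsub (mem_pairG_of_swap D s hsU hsU' hfr)) hsU hsU' g hhM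
          (fun h => hhP (mem_pairG_of_fix D g h.1 h.2))
          (fun h => hhP (mem_pairG_of_swap D g h.1 h.2 hfr))
      apply le_antisymm hMG
      intro x hx
      obtain ⟨x', rfl⟩ := exists_of_mem_spGL x hx
      have : x' ∈ M.comap (toGLHom m F) := by rw [htop]; exact Subgroup.mem_top _
      exact this

end glue

end Cfsg.Agent.Helper28.SpTsPair
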