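import Mathlib
import Cfsg.Agent.Lib.Helper28.SqW
import Cfsg.Agent.Lib.Helper28.SqGen

/-!
# Squares in the unitriangular subgroup of `WSU n φ` in characteristic `2` (helper28)
-/

set_option autoImplicit false
set_option linter.unusedSectionVars false
set_option linter.unusedVariables false

namespace Cfsg.Agent.Helper28.SqW

open Matrix Cfsg.Agent.Helper13.SuBN Cfsg.Agent.Helper13.SuP
open scoped commutatorElement

variable {n : ℕ} {F : Type*} [Field F] {φ : F →+* F}

theorem Tm_eq_one_of_not {a b : Fin n} {t : F}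
    (h : ¬ ((∀ x, φ (φ x) = x) ∧ a ≠ b ∧ a ≠ Fin.rev a ∧ b ≠ Fin.rev b)) : Tm φ a b t = 1 := by
  unfold Tm
  rw [dif_neg h]

theorem Lm_eq_one_of_not {a : Fin n} {t : F} (h : ¬ (a ≠ Fin.rev a ∧ t + φ t = 0)) : Lm φ a t = 1 := by
  unfold Lm
  rw [dif_neg h]

theorem Mm_eq_one_of_not {a c : Fin n} {u v : F}
    (h : ¬ ((∀ x, φ (φ x) = x) ∧ a ≠ c ∧ a ≠ Fin.rev a ∧ c = Fin.rev c ∧ v + φ v + u * φ u = 0)) :
    Mm φ a c u v = 1 := by
  unfold Mm
  rw [dif_neg h]

section

variable (hφφ : ∀ x, φ (φ x) = x)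
include hφφ

/-- the root elements are unitriangular -/
theorem rootSet_subset : rootSet n φ ⊆ unip n φ := by
  rintro g ((⟨a, b, t, hab, rfl⟩ | ⟨a, t, ha, rfl⟩) | ⟨a, c, u, v, hac, rfl⟩)
  · by_cases h : a ≠ Fin.rev a ∧ b ≠ Fin.rev b
    · exact Tm_mem_unip hφφ hab h.1 h.2 t
    · rw [Tm_eq_one_of_not (fun hh => h ⟨hh.2.2.1, hh.2.2.2⟩)]
      exact one_mem _
  · by_cases h : t + φ t = 0
    · exact Lm_mem_unip ha h
    · rw [Lm_eq_one_of_not (fun hh => h hh.2)]
      exact one_mem _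
  · by_cases h : a ≠ Fin.rev a ∧ c = Fin.rev c ∧ v + φ v + u * φ u = 0
    · exact Mm_mem_unip hφφ hac h.1 h.2.1 h.2.2
    · rw [Mm_eq_one_of_not (fun hh => h ⟨hh.2.2.1, hh.2.2.2.1, hh.2.2.2.2⟩)]
      exact one_mem _

variable (htr : n % 2 = 1 → ∀ r : F, φ r = r → ∃ s : F, s + φ s = r) (h2 : (2 : F) = 0)
include htr h2

/-- in characteristic `2` the squares of the root elements lie in the derived subgroup -/
theorem root_sq : ∀ s ∈ rootSet n φ, s * s ∈ ⁅unip n φ, unip n φ⁆ := by
  have hdbl : ∀ x : F, x + x = 0 := fun x => by rw [← two_mul, h2, zero_mul]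
  rintro g ((⟨a, b, t, hab, rfl⟩ | ⟨a, t, ha, rfl⟩) | ⟨a, c, u, v, hac, rfl⟩)
  · by_cases h : a ≠ Fin.rev a ∧ b ≠ Fin.rev b
    · rw [Tm_add hφφ (ne_of_lt hab) h.1 h.2, hdbl, Tm_zero hφφ (ne_of_lt hab) h.1 h.2]
      exact one_mem _
    · rw [Tm_eq_one_of_not (fun hh => h ⟨hh.2.2.1, hh.2.2.2⟩), mul_one]
      exact one_mem _
  · by_cases h : t + φ t = 0
    · rw [Lm_add (ne_of_lt ha) h h, hdbl, Lm_zero (ne_of_lt ha)]
      exact one_mem _
    · rw [Lm_eq_one_of_not (fun hh => h hh.2), mul_one]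
      exact one_mem _
  · by_cases h : a ≠ Fin.rev a ∧ c = Fin.rev c ∧ v + φ v + u * φ u = 0
    · obtain ⟨ha, hc, huv⟩ := h
      have hne : a ≠ c := ne_of_lt hac
      have hodd : n % 2 = 1 := by
        have := congrArg Fin.val hc
        rw [Fin.val_rev] at this
        omega
      obtain ⟨l, hl⟩ := htr hodd 1 (map_one φ)
      have hfix : φ (-((l * u) * φ (l * u))) = -((l * u) * φ (l * u)) := by
        rw [map_neg, map_mul, hφφ]
        ring
      obtain ⟨v', hv'⟩ := htr hodd _ hfix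
      have huv' : v' + φ v' + (l * u) * φ (l * u) = 0 := by rw [hv']; ring
      have hx : Mm φ a c u v ∈ unip n φ := Mm_mem_unip hφφ hac ha hc huv
      have hy : Mm φ a c (l * u) v' ∈ unip n φ := Mm_mem_unip hφφ hac ha hc huv'
      obtain ⟨e1, n1⟩ := Mm_mul hφφ hne ha hc huv huv
      obtain ⟨e2, n2⟩ := Mm_mul hφφ hne ha hc huv huv'
      obtain ⟨e3, n3⟩ := Mm_mul hφφ hne ha hc huv' huv
      -- the commutator
      have hw : (u * φ u) + φ (u * φ u) + (0 : F) * φ 0 = 0 := by
        rw [map_mul, hφφ, map_zero, mul_zero, add_zero, mul_comm (φ u) u]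
        exact hdbl _
      obtain ⟨e4, n4⟩ := Mm_mul hφφ hne ha hc hw n3
      have hneg : ∀ x : F, -x = x := fun x => by
        have := hdbl x
        exact neg_eq_of_add_eq_zero_left this
      have e5 : Mm φ a c u v * Mm φ a c (l * u) v' =
          Mm φ a c 0 (u * φ u) * (Mm φ a c (l * u) v' * Mm φ a c u v) := by
        rw [e2, e3, e4]
        have c1 : u + l * u = 0 + (l * u + u) := by ring
        have c2 : v + v' - u * φ (l * u) = u * φ u + (v' + v - l * u * φ u) - 0 * φ (l * u + u) := by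
          have hl' : φ l = 1 - l := by
            have : l + φ l = 1 := hl
            linear_combination this
          rw [map_mul, hl', zero_mul, sub_zero]
          have h8 := hdbl (l * u * φ u)
          have h9 := hdbl (u * φ u)
          linear_combination h8 - h9
        rw [c1, c2]
      have e6 : Mm φ a c u v * Mm φ a c u v = Mm φ a c 0 (u * φ u) := by
        rw [e1]
        have c1 : u + u = 0 := hdbl u
        have c2 : v + v - u * φ u = u * φ u := by
          rw [hdbl, zero_sub, hneg]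
        rw [c1, c2]
      have e7 : Mm φ a c 0 (u * φ u) = ⁅Mm φ a c u v, Mm φ a c (l * u) v'⁆ := by
        rw [commutatorElement_def]
        calc Mm φ a c 0 (u * φ u)
            = Mm φ a c 0 (u * φ u) * (Mm φ a c (l * u) v' * Mm φ a c u v) *
                (Mm φ a c (l * u) v' * Mm φ a c u v)⁻¹ := by group
          _ = Mm φ a c u v * Mm φ a c (l * u) v' * (Mm φ a c (l * u) v' * Mm φ a c u v)⁻¹ := by
              rw [← e5]
          _ = Mm φ a c u v * Mm φ a c (l * u) v' * (Mm φ a c u v)⁻¹ * (Mm φ a c (l * u) v')⁻¹ := by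
              group
      rw [e6, e7]
      exact Subgroup.commutator_mem_commutator hx hy
    · rw [Mm_eq_one_of_not (fun hh => h ⟨hh.2.2.1, hh.2.2.2.1, hh.2.2.2.2⟩), mul_one]
      exact one_mem _

/-- **in characteristic `2` the squares of the unitriangular subgroup lie in its derived subgroup** -/
theorem sqComm_unip : Cfsg.Agent.Helper28.Sq.SqComm ↥(unip n φ) :=
  Cfsg.Agent.Helper28.Sq.sqComm_subgroup_of_closure (unip n φ) (rootSet n φ) (rootSet_subset hφφ)
    (unip_le_closure hφφ htr) (root_sq hφφ htr h2)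

/-- the same in terms of the commutator of subgroups -/
theorem sq_mem_commutator_unip (x : WSU n φ) (hx : x ∈ unip n φ) : x ^ 2 ∈ ⁅unip n φ, unip n φ⁆ := by
  have h := sqComm_unip hφφ htr h2 ⟨x, hx⟩
  rw [← Subgroup.map_subtype_commutator]
  exact ⟨_, h, rfl⟩

end

end Cfsg.Agent.Helper28.SqW
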