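import Mathlib

set_option autoImplicit false

namespace Cfsg.Agent.Helper28

open Finset

variable {α : Type*} [DecidableEq α]

/-- The number of sets of size `j` between `S` and `b`. -/
theorem card_between (S b : Finset α) (hSb : S ⊆ b) (j : ℕ) (hj : S.card ≤ j) :
    ((b.powerset).filter (fun T => S ⊆ T ∧ T.card = j)).card = (b.card - S.card).choose (j - S.card) := by
  rw [← Finset.card_sdiff_of_subset hSb, ← Finset.card_powersetCard]
  apply Finset.card_nbij' (fun T => T \ S) (fun U => U ∪ S)
  · intro T hT
    rw [Finset.mem_coe, Finset.mem_filter, Finset.mem_powerset] at hT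
    rw [Finset.mem_coe, Finset.mem_powersetCard]
    refine ⟨Finset.sdiff_subset_sdiff hT.1 (subset_refl S), ?_⟩
    rw [Finset.card_sdiff_of_subset hT.2.1, hT.2.2]
  · intro U hU
    rw [Finset.mem_coe, Finset.mem_powersetCard] at hU
    rw [Finset.mem_coe, Finset.mem_filter, Finset.mem_powerset]
    have hdisj : Disjoint U S := by
      apply Finset.disjoint_of_subset_left hU.1
      exact Finset.sdiff_disjoint
    refine ⟨Finset.union_subset (hU.1.trans Finset.sdiff_subset) hSb, Finset.subset_union_right, ?_⟩
    rw [Finset.card_union_of_disjoint hdisj, hU.2]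
    omega
  · intro T hT
    rw [Finset.mem_coe, Finset.mem_filter, Finset.mem_powerset] at hT
    exact Finset.sdiff_union_of_subset hT.2.1
  · intro U hU
    rw [Finset.mem_coe, Finset.mem_powersetCard] at hU
    have hdisj : Disjoint U S := by
      apply Finset.disjoint_of_subset_left hU.1
      exact Finset.sdiff_disjoint
    show (U ∪ S) \ S = U
    rw [Finset.union_sdiff_right]
    exact Finset.sdiff_eq_self_of_disjoint hdisj

/-- In a Steiner system `S(t, k, v)` the number of blocks through a set `S` of size at most `t`. -/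
theorem steiner_count [Fintype α] (t k : ℕ) (B : Finset (Finset α)) (hB : ∀ b ∈ B, b.card = k)
    (hSt : ∀ T : Finset α, T.card = t → ∃! b, b ∈ B ∧ T ⊆ b) (S : Finset α) (hS : S.card ≤ t) :
    (B.filter (fun b => S ⊆ b)).card * (k - S.card).choose (t - S.card)
      = (Fintype.card α - S.card).choose (t - S.card) := by
  classical
  set s := ((Finset.univ : Finset α).powerset).filter (fun T => S ⊆ T ∧ T.card = t) with hs
  set tt := B.filter (fun b => S ⊆ b) with htt
  have hdc := Finset.sum_card_bipartiteAbove_eq_sum_card_bipartiteBelow (s := s) (t := tt)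
    (fun (T b : Finset α) => T ⊆ b)
  have habove : ∀ T ∈ s, (tt.bipartiteAbove (fun (T b : Finset α) => T ⊆ b) T).card = 1 := by
    intro T hT
    rw [hs, Finset.mem_filter] at hT
    obtain ⟨b, ⟨hbB, hTb⟩, huniq⟩ := hSt T hT.2.2
    rw [Finset.card_eq_one]
    refine ⟨b, ?_⟩
    ext b'
    simp only [Finset.bipartiteAbove, htt, Finset.mem_filter, Finset.mem_singleton]
    constructor
    · rintro ⟨⟨hb'B, _⟩, hTb'⟩
      exact huniq b' ⟨hb'B, hTb'⟩
    · rintro rfl
      exact ⟨⟨hbB, hT.2.1.trans hTb⟩, hTb⟩
  have hbelow : ∀ b ∈ tt, (s.bipartiteBelow (fun (T b : Finset α) => T ⊆ b) b).card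
      = (k - S.card).choose (t - S.card) := by
    intro b hb
    rw [htt, Finset.mem_filter] at hb
    rw [← hB b hb.1, ← card_between S b hb.2 t hS]
    congr 1
    ext T
    simp only [Finset.bipartiteBelow, hs, Finset.mem_filter, Finset.mem_powerset]
    constructor
    · rintro ⟨⟨_, h1, h2⟩, h3⟩
      exact ⟨h3, h1, h2⟩
    · rintro ⟨h3, h1, h2⟩
      exact ⟨⟨Finset.subset_univ _, h1, h2⟩, h3⟩
  rw [Finset.sum_congr rfl habove, Finset.sum_congr rfl hbelow, Finset.sum_const, Finset.sum_const,
    smul_eq_mul, smul_eq_mul, mul_one] at hdc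
  rw [← hdc, hs, card_between S Finset.univ (Finset.subset_univ _) t hS, Finset.card_univ]

/-- Counting blocks by their intersection with a fixed set `Y`, weighted by binomial coefficients. -/
theorem sum_choose_inter (B : Finset (Finset α)) (Y : Finset α) (j : ℕ) :
    ∑ b ∈ B, ((b ∩ Y).card).choose j
      = ∑ J ∈ Y.powersetCard j, (B.filter (fun b => J ⊆ b)).card := by
  classical
  have hdc := Finset.sum_card_bipartiteAbove_eq_sum_card_bipartiteBelow (s := Y.powersetCard j) (t := B)
    (fun (J b : Finset α) => J ⊆ b)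
  have h1 : ∀ J ∈ Y.powersetCard j, (B.bipartiteAbove (fun (J b : Finset α) => J ⊆ b) J).card
      = (B.filter (fun b => J ⊆ b)).card := fun J _ => rfl
  have h2 : ∀ b ∈ B, ((Y.powersetCard j).bipartiteBelow (fun (J b : Finset α) => J ⊆ b) b).card
      = ((b ∩ Y).card).choose j := by
    intro b _
    rw [← Finset.card_powersetCard]
    congr 1
    ext J
    simp only [Finset.bipartiteBelow, Finset.mem_filter, Finset.mem_powersetCard, Finset.subset_inter_iff]
    tauto
  rw [Finset.sum_congr rfl h1, Finset.sum_congr rfl h2] at hdc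
  exact hdc.symm

end Cfsg.Agent.Helper28
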