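import Mathlib
import Cfsg.Prelude.Def_GeometricClasses
import Cfsg.Agent.Lib.Helper28.SuGen
import Cfsg.Agent.Lib.Helper11.UnitaryGeom

/-!
# Maximality of the stabiliser of a coordinate subspace in the special unitary group (helper28)
-/

set_option autoImplicit false

namespace Cfsg.Agent.Helper28.SuNondegStd

open Cfsg Matrix Cfsg.Agent.Helper28 Cfsg.Agent.Helper28.SuGen Cfsg.Agent.Helper11.Herm
open Cfsg.Agent.Helper11

variable {F : Type*} [Field F] (φ : F →+* F)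
variable {κ₁ κ₂ : Type} [Fintype κ₁] [DecidableEq κ₁] [Fintype κ₂] [DecidableEq κ₂]

theorem hdot_elim (a a' : κ₁ → F) (b b' : κ₂ → F) :
    hdot φ (Sum.elim a b) (Sum.elim a' b') = hdot φ a a' + hdot φ b b' := by
  simp [hdot_def, Fintype.sum_sum_type]

theorem hdot_split (v v' : κ₁ ⊕ κ₂ → F) :
    hdot φ v v' = hdot φ (v ∘ Sum.inl) (v' ∘ Sum.inl) + hdot φ (v ∘ Sum.inr) (v' ∘ Sum.inr) := by
  simp [hdot_def, Fintype.sum_sum_type]

theorem elim_smul (c : F) (a : κ₁ → F) (b : κ₂ → F) :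
    c • (Sum.elim a b : κ₁ ⊕ κ₂ → F) = Sum.elim (c • a) (c • b) := by
  funext i
  rcases i with i | i <;> simp

theorem elim_add (a a' : κ₁ → F) (b b' : κ₂ → F) :
    (Sum.elim a b : κ₁ ⊕ κ₂ → F) + Sum.elim a' b' = Sum.elim (a + a') (b + b') := by
  funext i
  rcases i with i | i <;> simp

/-- the stabiliser of the coordinate subspace -/
abbrev St (F : Type*) [Field F] (κ₁ κ₂ : Type) [Fintype κ₁] [DecidableEq κ₁] [Fintype κ₂]
    [DecidableEq κ₂] : Subgroup (GL (κ₁ ⊕ κ₂) F) :=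
  Cfsg.stabilizing (Cfsg.glToMat (κ₁ ⊕ κ₂) F) (W0 F κ₁ κ₂)

/-- block diagonal unitary matrices -/
noncomputable def blk (A : Matrix κ₁ κ₁ F) (D : Matrix κ₂ κ₂ F) (hA : IsU φ A) (hD : IsU φ D) :
    GL (κ₁ ⊕ κ₂) F :=
  ((isU_fromBlocks₂ φ A D hA hD).toUG φ : GL (κ₁ ⊕ κ₂) F)

theorem blk_val (A : Matrix κ₁ κ₁ F) (D : Matrix κ₂ κ₂ F) (hA : IsU φ A) (hD : IsU φ D) :
    ((blk φ A D hA hD : GL (κ₁ ⊕ κ₂) F) : Matrix (κ₁ ⊕ κ₂) (κ₁ ⊕ κ₂) F) =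
      Matrix.fromBlocks A 0 0 D := rfl

theorem blk_mem_UG (A : Matrix κ₁ κ₁ F) (D : Matrix κ₂ κ₂ F) (hA : IsU φ A) (hD : IsU φ D) :
    blk φ A D hA hD ∈ UG (κ₁ ⊕ κ₂) φ := ((isU_fromBlocks₂ φ A D hA hD).toUG φ).2

theorem blk_mem_St (A : Matrix κ₁ κ₁ F) (D : Matrix κ₂ κ₂ F) (hA : IsU φ A) (hD : IsU φ D) :
    blk φ A D hA hD ∈ St F κ₁ κ₂ := by
  intro v
  exact fromBlocks_mulVec_mem_W0 φ A D hD v

theorem blk_mem_SL (A : Matrix κ₁ κ₁ F) (D : Matrix κ₂ κ₂ F) (hA : IsU φ A) (hD : IsU φ D)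
    (hdet : A.det * D.det = 1) : blk φ A D hA hD ∈ Cfsg.Geo.specialLinear (κ₁ ⊕ κ₂) F := by
  rw [mem_specialLinear_iff]
  apply Units.ext
  rw [Matrix.GeneralLinearGroup.val_det_apply, blk_val, Matrix.det_fromBlocks_zero₂₁, hdet,
    Units.val_one]

theorem blk_mulVec (A : Matrix κ₁ κ₁ F) (D : Matrix κ₂ κ₂ F) (hA : IsU φ A) (hD : IsU φ D)
    (a : κ₁ → F) (b : κ₂ → F) :
    ((blk φ A D hA hD : GL (κ₁ ⊕ κ₂) F) : Matrix (κ₁ ⊕ κ₂) (κ₁ ⊕ κ₂) F) *ᵥ Sum.elim a b =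
      Sum.elim (A *ᵥ a) (D *ᵥ b) := by
  rw [blk_val, Matrix.fromBlocks_mulVec]
  simp

variable [Finite F]

/-- a unitary matrix of prescribed determinant fixing a given vector -/
theorem exists_det_fix {κ : Type} [Fintype κ] [DecidableEq κ]
    (hφ : φ ≠ RingHom.id F) (hφφ : ∀ x, φ (φ x) = x)
    (hN1 : ∀ c : F, c ≠ 0 → φ c = c → ∃ l : F, l ≠ 0 ∧ l * φ l = c)
    (hN2 : ∃ μ : F, μ + φ μ ≠ 0)
    (hcard : 3 ≤ Fintype.card κ) (r : κ → F) (δ : F) (hδ : δ * φ δ = 1) :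
    ∃ D : Matrix κ κ F, IsU φ D ∧ D.det = δ ∧ D *ᵥ r = r := by
  by_cases hr : hdot φ r r = 0
  · exact exists_isU_det_fix φ hφ hφφ hN1 hcard r hr δ hδ
  · obtain ⟨ρ, hρ0, hρ⟩ := hN1 (hdot φ r r) hr (hdot_conj φ hφφ r r)
    have hne : Nonempty κ := by
      rw [← Fintype.card_pos_iff]; omega
    obtain ⟨i₀⟩ := hne
    have hc0 : hdot φ (ρ⁻¹ • r) (ρ⁻¹ • r) = 1 := by
      have hφρ : φ ρ ≠ 0 := (map_ne_zero φ).mpr hρ0
      rw [hdot_smul_left, hdot_smul_right, ← hρ, map_inv₀,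
        show ρ⁻¹ * ((φ ρ)⁻¹ * (ρ * φ ρ)) = (ρ⁻¹ * ρ) * ((φ ρ)⁻¹ * φ ρ) by ring,
        inv_mul_cancel₀ hρ0, inv_mul_cancel₀ hφρ, one_mul]
    obtain ⟨w, hww, hw⟩ := exists_orthonormal_extend φ hφφ hN1 hN2 {i₀} (fun _ => ρ⁻¹ • r)
      (by
        intro i hi j hj
        rw [Finset.mem_singleton] at hi hj
        rw [hi, hj, if_pos rfl]
        exact hc0)
      (by rw [Finset.card_singleton]; omega)
    have hwr : hdot φ w r = 0 := by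
      have := hw i₀ (Finset.mem_singleton_self _)
      rw [hdot_smul_right] at this
      rcases mul_eq_zero.mp this with h | h
      · exact absurd h ((map_ne_zero φ).mpr (inv_ne_zero hρ0))
      · exact h
    refine ⟨Herm.tv φ w (δ - 1), ?_, ?_, ?_⟩
    · apply isU_tv φ hφφ
      rw [hww, map_sub, map_one]
      linear_combination hδ
    · rw [det_tv, hww]
      ring
    · rw [Herm.tv_mulVec, hdot_eq_zero_symm φ hφφ _ _ hwr, mul_zero, zero_smul, add_zero]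

section main

variable (hφ : φ ≠ RingHom.id F) (hφφ : ∀ x, φ (φ x) = x)
  (hN1 : ∀ c : F, c ≠ 0 → φ c = c → ∃ l : F, l ≠ 0 ∧ l * φ l = c)
  (hN2 : ∃ μ : F, μ + φ μ ≠ 0)
  (M : Subgroup (GL (κ₁ ⊕ κ₂) F))
  (hPM : St F κ₁ κ₂ ⊓ SuGen.SUg (κ₁ ⊕ κ₂) φ ≤ M)

include hφφ hPM in
theorem inl_mem_cen (a : κ₁ → F) (ha : hdot φ a a = 0) :
    (Sum.elim a 0 : κ₁ ⊕ κ₂ → F) ∈ Cen φ M := by
  have hv : hdot φ (Sum.elim a 0 : κ₁ ⊕ κ₂ → F) (Sum.elim a 0) = 0 := by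
    rw [hdot_elim, ha, hdot_zero_left, add_zero]
  refine ⟨hv, fun c hc => hPM ⟨?_, UT_mem_UG φ hφφ _ hv c hc, UT_mem_SL φ _ hv c⟩⟩
  apply stab_of_maps
  intro x hx b
  rw [UT_mulVec φ _ hv]
  simp only [Pi.add_apply, Pi.smul_apply, Sum.elim_inr, Pi.zero_apply, smul_zero, add_zero]
  exact hx b

include hφφ hPM in
theorem inr_mem_cen (b : κ₂ → F) (hb : hdot φ b b = 0) :
    (Sum.elim 0 b : κ₁ ⊕ κ₂ → F) ∈ Cen φ M := by
  have hv : hdot φ (Sum.elim 0 b : κ₁ ⊕ κ₂ → F) (Sum.elim 0 b) = 0 := by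
    rw [hdot_elim, hb, hdot_zero_left, add_zero]
  refine ⟨hv, fun c hc => hPM ⟨?_, UT_mem_UG φ hφφ _ hv c hc, UT_mem_SL φ _ hv c⟩⟩
  apply stab_of_maps
  intro x hx
  have hxr : x ∘ Sum.inr = 0 := funext hx
  have : hdot φ x (Sum.elim 0 b) = 0 := by
    rw [hdot_split, hxr]
    simp [hdot_zero_left, hdot_zero_right]
  rw [UT_mulVec φ _ hv, this, mul_zero, zero_smul, add_zero]
  exact hx

include hφ hφφ hN1 hN2 hPM in
/-- transitivity of the stabiliser on mixed isotropic vectors of the same type -/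
theorem trans_same (hcard : 3 ≤ Fintype.card κ₂) (a₀ a : κ₁ → F) (b₀ b : κ₂ → F)
    (hu₀ : (Sum.elim a₀ b₀ : κ₁ ⊕ κ₂ → F) ∈ Cen φ M)
    (ha₀ : a₀ ≠ 0) (hb₀ : b₀ ≠ 0) (ha : a ≠ 0) (hb : b ≠ 0)
    (hiso : hdot φ a a + hdot φ b b = 0)
    (htype : hdot φ a₀ a₀ = 0 ↔ hdot φ a a = 0) :
    (Sum.elim a b : κ₁ ⊕ κ₂ → F) ∈ Cen φ M := by
  have hiso₀ : hdot φ a₀ a₀ + hdot φ b₀ b₀ = 0 := by
    have := hu₀.1
    rwa [hdot_elim] at this
  -- the scaling factor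
  obtain ⟨l, hl0, hla, hlb⟩ : ∃ l : F, l ≠ 0 ∧ hdot φ (l • a) (l • a) = hdot φ a₀ a₀ ∧
      hdot φ (l • b) (l • b) = hdot φ b₀ b₀ := by
    by_cases h0 : hdot φ a₀ a₀ = 0
    · refine ⟨1, one_ne_zero, ?_, ?_⟩
      · rw [one_smul, h0, htype.mp h0]
      · rw [one_smul]
        have h1 := htype.mp h0
        rw [h1, zero_add] at hiso
        rw [h0, zero_add] at hiso₀
        rw [hiso, hiso₀]
    · have h1 : hdot φ a a ≠ 0 := fun h => h0 (htype.mpr h)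
      have hfix : φ (hdot φ a₀ a₀ / hdot φ a a) = hdot φ a₀ a₀ / hdot φ a a := by
        rw [map_div₀, hdot_conj φ hφφ, hdot_conj φ hφφ]
      obtain ⟨l, hl0, hl⟩ := hN1 _ (div_ne_zero h0 h1) hfix
      refine ⟨l, hl0, ?_, ?_⟩
      · rw [hdot_smul_left, hdot_smul_right, ← mul_assoc, hl, div_mul_cancel₀ _ h1]
      · rw [hdot_smul_left, hdot_smul_right, ← mul_assoc, hl]
        have e1 : hdot φ b b = -hdot φ a a := by linear_combination hiso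
        have e2 : hdot φ b₀ b₀ = -hdot φ a₀ a₀ := by linear_combination hiso₀
        rw [e1, e2]
        field_simp
  have hla0 : l • a ≠ 0 := smul_ne_zero hl0 ha
  have hlb0 : l • b ≠ 0 := smul_ne_zero hl0 hb
  obtain ⟨A, hA, hAa⟩ := exists_isU_map φ hφ hφφ a₀ (l • a) ha₀ hla0 hla.symm
  obtain ⟨D, hD, hDb⟩ := exists_isU_map φ hφ hφφ b₀ (l • b) hb₀ hlb0 hlb.symm
  have hdn : (A.det * D.det)⁻¹ * φ ((A.det * D.det)⁻¹) = 1 := by
    rw [map_inv₀, ← mul_inv, map_mul]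
    have h1 := hA.det_norm φ
    have h2 := hD.det_norm φ
    have : A.det * D.det * (φ A.det * φ D.det) = 1 := by
      linear_combination D.det * φ D.det * h1 + h2
    rw [this, inv_one]
  obtain ⟨D', hD', hD'det, hD'b⟩ := exists_det_fix φ hφ hφφ hN1 hN2 hcard (l • b) _ hdn
  have hdet : A.det * (D' * D).det = 1 := by
    rw [Matrix.det_mul, hD'det]
    have hne : A.det * D.det ≠ 0 := mul_ne_zero (hA.det_ne_zero φ) (hD.det_ne_zero φ)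
    rw [show A.det * ((A.det * D.det)⁻¹ * D.det) = (A.det * D.det) * (A.det * D.det)⁻¹ by ring,
      mul_inv_cancel₀ hne]
  have hp : blk φ A (D' * D) hA (hD'.mul φ hD) ∈ M :=
    hPM ⟨blk_mem_St φ _ _ _ _, blk_mem_UG φ _ _ _ _, blk_mem_SL φ _ _ _ _ hdet⟩
  have h1 := cen_smul φ M _ hp (blk_mem_UG φ _ _ _ _) _ hu₀
  rw [blk_mulVec, hAa, ← Matrix.mulVec_mulVec, hDb, hD'b, ← elim_smul] at h1
  have h2 := cen_scalar φ hφφ M l⁻¹ _ h1
  rwa [smul_smul, inv_mul_cancel₀ hl0, one_smul] at h2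

end main

/-- the embedding of the second block, as a linear map -/
def embR (F : Type*) [Field F] (κ₁ κ₂ : Type) : (κ₂ → F) →ₗ[F] (κ₁ ⊕ κ₂ → F) where
  toFun b := Sum.elim (0 : κ₁ → F) b
  map_add' b b' := by
    funext i
    rcases i with i | i <;> simp
  map_smul' c b := by
    funext i
    rcases i with i | i <;> simp

theorem embR_apply (b : κ₂ → F) : embR F κ₁ κ₂ b = Sum.elim (0 : κ₁ → F) b := rfl

omit [Finite F] in
/-- a linear map vanishing on all isotropic vectors is zero (dimension at least two) -/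
theorem eq_zero_of_iso {κ : Type} [Fintype κ] [DecidableEq κ] (hφ : φ ≠ RingHom.id F)
    (hφφ : ∀ x, φ (φ x) = x)
    (hN1 : ∀ c : F, c ≠ 0 → φ c = c → ∃ l : F, l ≠ 0 ∧ l * φ l = c)
    (hcard : 2 ≤ Fintype.card κ) {V' : Type*} [AddCommGroup V'] [Module F V']
    (L : (κ → F) →ₗ[F] V') (hL : ∀ b, hdot φ b b = 0 → L b = 0) : L = 0 := by
  obtain ⟨ε, hε0, hε⟩ := hN1 (-1) (by simp) (by rw [map_neg, map_one])
  obtain ⟨μ, hμ⟩ : ∃ μ, φ μ ≠ μ := by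
    by_contra h
    push Not at h
    exact hφ (RingHom.ext h)
  have hμ0 : μ ≠ 0 := by
    rintro rfl
    exact hμ (map_zero φ)
  have hφμ0 : φ μ ≠ 0 := (map_ne_zero φ).mpr hμ0
  have key : ∀ (e' : F), e' * φ e' = -1 → ∀ j j' : κ, j ≠ j' →
      L (Pi.single j 1) + e' • L (Pi.single j' 1) = 0 := by
    intro e' he' j j' hjj'
    have h1 : hdot φ (Pi.single j 1 + e' • Pi.single j' (1 : F))
        (Pi.single j 1 + e' • Pi.single j' (1 : F)) = 0 := by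
      simp only [hdot_add_left, hdot_add_right, hdot_smul_left, hdot_smul_right,
        hdot_single_single, if_true, if_neg hjj', if_neg (Ne.symm hjj')]
      linear_combination he'
    have := hL _ h1
    rwa [map_add, map_smul] at this
  have hε2 : (ε * (μ / φ μ)) * φ (ε * (μ / φ μ)) = -1 := by
    rw [map_mul, map_div₀, hφφ,
      show ε * (μ / φ μ) * (φ ε * (φ μ / μ)) = (ε * φ ε) * ((μ / φ μ) * (φ μ / μ)) by ring,
      hε, div_mul_div_comm, mul_comm μ, div_self (mul_ne_zero hφμ0 hμ0), mul_one]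
  have hne : ε ≠ ε * (μ / φ μ) := by
    intro h
    have h1 : μ / φ μ = 1 := by
      have := mul_left_cancel₀ hε0 (show ε * 1 = ε * (μ / φ μ) by rw [mul_one]; exact h)
      exact this.symm
    rw [div_eq_one_iff_eq hφμ0] at h1
    exact hμ h1.symm
  have hsingle : ∀ j' : κ, L (Pi.single j' 1) = 0 := by
    intro j'
    obtain ⟨j, hj⟩ := Fintype.exists_ne_of_one_lt_card (by omega) j'
    have h1 := key ε hε j j' hj
    have h2 := key _ hε2 j j' hj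
    have h3 : (ε - ε * (μ / φ μ)) • L (Pi.single j' 1) = 0 := by
      rw [sub_smul]
      have : ε • L (Pi.single j' 1) = (ε * (μ / φ μ)) • L (Pi.single j' 1) := by
        have e1 : ε • L (Pi.single j' 1) = - L (Pi.single j 1) := by
          rw [eq_neg_iff_add_eq_zero, add_comm]; exact h1
        have e2 : (ε * (μ / φ μ)) • L (Pi.single j' 1) = - L (Pi.single j 1) := by
          rw [eq_neg_iff_add_eq_zero, add_comm]; exact h2
        rw [e1, e2]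
      rw [this, sub_self]
    rcases smul_eq_zero.mp h3 with h | h
    · exact absurd (sub_eq_zero.mp h) hne
    · exact h
  apply LinearMap.pi_ext
  intro i x
  have : (Pi.single i x : κ → F) = x • Pi.single i 1 := by
    funext k
    by_cases hk : k = i
    · subst hk; simp
    · simp [Pi.single_eq_of_ne hk]
  rw [this, map_smul, hsingle, smul_zero, LinearMap.zero_apply]

section main2

variable (hφ : φ ≠ RingHom.id F) (hφφ : ∀ x, φ (φ x) = x)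
  (hN1 : ∀ c : F, c ≠ 0 → φ c = c → ∃ l : F, l ≠ 0 ∧ l * φ l = c)
  (hN2 : ∃ μ : F, μ + φ μ ≠ 0)
  (M : Subgroup (GL (κ₁ ⊕ κ₂) F))
  (hPM : St F κ₁ κ₂ ⊓ SuGen.SUg (κ₁ ⊕ κ₂) φ ≤ M)

omit [Finite F] in
theorem elim_comp (v : κ₁ ⊕ κ₂ → F) : Sum.elim (v ∘ Sum.inl) (v ∘ Sum.inr) = v := by
  funext i
  rcases i with i | i <;> rfl

include hφ hφφ hN1 hPM in
theorem exists_mixed (hcard2 : 2 ≤ Fintype.card κ₂) (hlt : Fintype.card κ₁ < Fintype.card κ₂)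
    (hMG : M ≤ SuGen.SUg (κ₁ ⊕ κ₂) φ) (g : GL (κ₁ ⊕ κ₂) F) (hgM : g ∈ M) (hg : g ∉ St F κ₁ κ₂) :
    ∃ u₀, u₀ ∈ Cen φ M ∧ u₀ ∘ Sum.inl ≠ 0 ∧ u₀ ∘ Sum.inr ≠ 0 := by
  by_contra hcon
  push Not at hcon
  have hgU : g ∈ UG (κ₁ ⊕ κ₂) φ := (hMG hgM).1
  have hgI : IsU φ (g : Matrix (κ₁ ⊕ κ₂) (κ₁ ⊕ κ₂) F) := (mem_UG_iff φ g).mp hgU
  have hvb : ∀ b : κ₂ → F, hdot φ b b = 0 →
      (g : Matrix (κ₁ ⊕ κ₂) (κ₁ ⊕ κ₂) F) *ᵥ (Sum.elim 0 b) ∈ Cen φ M :=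
    fun b hb => cen_smul φ M g hgM hgU _ (inr_mem_cen φ hφφ M hPM b hb)
  have hdotb : ∀ b b' : κ₂ → F, hdot φ ((g : Matrix (κ₁ ⊕ κ₂) (κ₁ ⊕ κ₂) F) *ᵥ (Sum.elim 0 b))
      ((g : Matrix (κ₁ ⊕ κ₂) (κ₁ ⊕ κ₂) F) *ᵥ (Sum.elim 0 b')) = hdot φ b b' := by
    intro b b'
    rw [hgI.hdot_mulVec, hdot_elim, hdot_zero_left, zero_add]
  have hdich : (∀ b : κ₂ → F, hdot φ b b = 0 →
        ((g : Matrix (κ₁ ⊕ κ₂) (κ₁ ⊕ κ₂) F) *ᵥ (Sum.elim 0 b)) ∘ Sum.inl = 0) ∨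
      (∀ b : κ₂ → F, hdot φ b b = 0 →
        ((g : Matrix (κ₁ ⊕ κ₂) (κ₁ ⊕ κ₂) F) *ᵥ (Sum.elim 0 b)) ∘ Sum.inr = 0) := by
    by_contra hd
    push Not at hd
    obtain ⟨⟨b₁, hb₁, h₁⟩, ⟨b₂, hb₂, h₂⟩⟩ := hd
    have h₁' := hcon _ (hvb b₁ hb₁) h₁
    have h₂' : ((g : Matrix (κ₁ ⊕ κ₂) (κ₁ ⊕ κ₂) F) *ᵥ (Sum.elim 0 b₂)) ∘ Sum.inl = 0 := by
      by_contra h
      exact h₂ (hcon _ (hvb b₂ hb₂) h)
    have hb₁0 : b₁ ≠ 0 := by
      rintro rfl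
      apply h₁
      have : (Sum.elim 0 0 : κ₁ ⊕ κ₂ → F) = 0 := by
        funext i; rcases i with i | i <;> rfl
      rw [this, Matrix.mulVec_zero]
      rfl
    have hb₂0 : b₂ ≠ 0 := by
      rintro rfl
      apply h₂
      have : (Sum.elim 0 0 : κ₁ ⊕ κ₂ → F) = 0 := by
        funext i; rcases i with i | i <;> rfl
      rw [this, Matrix.mulVec_zero]
      rfl
    obtain ⟨y, hyy, hy1, hy2⟩ := exists_avoid φ hφ hφφ b₁ b₂ hb₁ hb₁0 hb₂ hb₂0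
    by_cases hy : ((g : Matrix (κ₁ ⊕ κ₂) (κ₁ ⊕ κ₂) F) *ᵥ (Sum.elim 0 y)) ∘ Sum.inl = 0
    · have := hdotb b₁ y
      rw [hdot_split, hy, h₁', hdot_zero_right, hdot_zero_left, add_zero] at this
      exact hy1 this.symm
    · have hy' := hcon _ (hvb y hyy) hy
      have := hdotb b₂ y
      rw [hdot_split, hy', h₂', hdot_zero_right, hdot_zero_left, add_zero] at this
      exact hy2 this.symm
  rcases hdich with hA | hB
  · -- `g` maps the second block into itself, hence stabilises the first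
    have hL : (LinearMap.funLeft F F Sum.inl).comp
        ((Matrix.toLin' (g : Matrix (κ₁ ⊕ κ₂) (κ₁ ⊕ κ₂) F)).comp (embR F κ₁ κ₂)) = 0 := by
      apply eq_zero_of_iso φ hφ hφφ hN1 hcard2
      intro b hb
      exact hA b hb
    have hU0 : ∀ v : κ₁ ⊕ κ₂ → F, v ∈ {v : κ₁ ⊕ κ₂ → F | v ∘ Sum.inl = 0} →
        (g : Matrix (κ₁ ⊕ κ₂) (κ₁ ⊕ κ₂) F) *ᵥ v ∈ {v : κ₁ ⊕ κ₂ → F | v ∘ Sum.inl = 0} := by
      intro v hv
      have hv' : v = Sum.elim (0 : κ₁ → F) (v ∘ Sum.inr) := by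
        conv_lhs => rw [← elim_comp v]
        rw [show v ∘ Sum.inl = 0 from hv]
      have := LinearMap.congr_fun hL (v ∘ Sum.inr)
      show ((g : Matrix (κ₁ ⊕ κ₂) (κ₁ ⊕ κ₂) F) *ᵥ v) ∘ Sum.inl = 0
      rw [hv']
      exact this
    have hstab := stab_of_maps _ g hU0
    have hinv := Subgroup.inv_mem _ hstab
    apply hg
    apply stab_of_maps
    intro w hw
    have hwr : w ∘ Sum.inr = 0 := funext hw
    have hz : ((g : Matrix (κ₁ ⊕ κ₂) (κ₁ ⊕ κ₂) F) *ᵥ w) ∘ Sum.inr = 0 := by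
      apply eq_zero_of_hdot_right φ
      intro y
      have h1 : hdot φ ((g : Matrix (κ₁ ⊕ κ₂) (κ₁ ⊕ κ₂) F) *ᵥ w) (Sum.elim 0 y) =
          hdot φ (((g : Matrix (κ₁ ⊕ κ₂) (κ₁ ⊕ κ₂) F) *ᵥ w) ∘ Sum.inr) y := by
        rw [hdot_split]
        simp [hdot_zero_right]
      rw [← h1]
      have h2 : ((g⁻¹ : GL (κ₁ ⊕ κ₂) F) : Matrix (κ₁ ⊕ κ₂) (κ₁ ⊕ κ₂) F) *ᵥ (Sum.elim 0 y) ∈
          {v : κ₁ ⊕ κ₂ → F | v ∘ Sum.inl = 0} := by
        refine (hinv (Sum.elim 0 y)).mp ?_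
        show (Sum.elim 0 y : κ₁ ⊕ κ₂ → F) ∘ Sum.inl = 0
        rfl
      have h3 := hgI.hdot_mulVec φ w
        (((g⁻¹ : GL (κ₁ ⊕ κ₂) F) : Matrix (κ₁ ⊕ κ₂) (κ₁ ⊕ κ₂) F) *ᵥ (Sum.elim 0 y))
      rw [inv_mulVec_mulVec] at h3
      rw [h3, hdot_split, hwr, show (((g⁻¹ : GL (κ₁ ⊕ κ₂) F) : Matrix (κ₁ ⊕ κ₂) (κ₁ ⊕ κ₂) F) *ᵥ
        (Sum.elim 0 y)) ∘ Sum.inl = 0 from h2, hdot_zero_right, hdot_zero_left, add_zero]
    intro b
    exact congrFun hz b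
  · -- `g` maps the second block into the first: impossible by dimensions
    have hL' : (LinearMap.funLeft F F Sum.inr).comp
        ((Matrix.toLin' (g : Matrix (κ₁ ⊕ κ₂) (κ₁ ⊕ κ₂) F)).comp (embR F κ₁ κ₂)) = 0 := by
      apply eq_zero_of_iso φ hφ hφφ hN1 hcard2
      intro b hb
      exact hB b hb
    have hinj : Function.Injective ((LinearMap.funLeft F F Sum.inl).comp
        ((Matrix.toLin' (g : Matrix (κ₁ ⊕ κ₂) (κ₁ ⊕ κ₂) F)).comp (embR F κ₁ κ₂))) := by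
      rw [← LinearMap.ker_eq_bot, LinearMap.ker_eq_bot']
      intro b hb
      have h1 : ((g : Matrix (κ₁ ⊕ κ₂) (κ₁ ⊕ κ₂) F) *ᵥ (Sum.elim 0 b)) ∘ Sum.inl = 0 := hb
      have h2 : ((g : Matrix (κ₁ ⊕ κ₂) (κ₁ ⊕ κ₂) F) *ᵥ (Sum.elim 0 b)) ∘ Sum.inr = 0 :=
        LinearMap.congr_fun hL' b
      have h3 : (g : Matrix (κ₁ ⊕ κ₂) (κ₁ ⊕ κ₂) F) *ᵥ (Sum.elim 0 b) = 0 := by
        rw [← elim_comp ((g : Matrix (κ₁ ⊕ κ₂) (κ₁ ⊕ κ₂) F) *ᵥ (Sum.elim 0 b)), h1, h2]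
        funext i; rcases i with i | i <;> rfl
      have h4 := congrArg (fun v => ((g⁻¹ : GL (κ₁ ⊕ κ₂) F) : Matrix (κ₁ ⊕ κ₂) (κ₁ ⊕ κ₂) F) *ᵥ v) h3
      simp only [mulVec_inv_mulVec, Matrix.mulVec_zero] at h4
      funext j
      exact congrFun h4 (Sum.inr j)
    have := LinearMap.finrank_le_finrank_of_injective hinj
    rw [Module.finrank_fintype_fun_eq_card, Module.finrank_fintype_fun_eq_card] at this
    omega

include hφ hφφ in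
/-- from mixed vectors with isotropic components to one with anisotropic components -/
theorem type_change_01 (hMU : M ≤ UG (κ₁ ⊕ κ₂) φ)
    (hall0 : ∀ (a : κ₁ → F) (b : κ₂ → F), a ≠ 0 → b ≠ 0 → hdot φ a a = 0 → hdot φ b b = 0 →
      (Sum.elim a b : κ₁ ⊕ κ₂ → F) ∈ Cen φ M)
    (a₁ : κ₁ → F) (b₁ : κ₂ → F) (ha₁0 : a₁ ≠ 0) (hb₁0 : b₁ ≠ 0) (ha₁ : hdot φ a₁ a₁ = 0)
    (hb₁ : hdot φ b₁ b₁ = 0) :
    ∃ (a' : κ₁ → F) (b' : κ₂ → F), (Sum.elim a' b' : κ₁ ⊕ κ₂ → F) ∈ Cen φ M ∧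
      hdot φ a' a' ≠ 0 := by
  obtain ⟨a₂, ha₂, ha₁₂⟩ := exists_partner φ hφ hφφ a₁ ha₁ ha₁0
  obtain ⟨b₂, hb₂, hb₁₂⟩ := exists_partner φ hφ hφφ b₁ hb₁ hb₁0
  obtain ⟨ν, hν⟩ : ∃ ν, φ ν ≠ ν := by
    by_contra h
    push Not at h
    exact hφ (RingHom.ext h)
  have hν0 : ν ≠ 0 := by
    rintro rfl
    exact hν (map_zero φ)
  obtain ⟨τ, hτ0, hτ⟩ := Witt.exists_trace_zero φ hφ hφφ
  have ha₂0 : a₂ ≠ 0 := by
    rintro rfl
    rw [hdot_zero_right] at ha₁₂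
    exact zero_ne_one ha₁₂
  have hb₂0 : b₂ ≠ 0 := by
    rintro rfl
    rw [hdot_zero_right] at hb₁₂
    exact zero_ne_one hb₁₂
  have hx := hall0 a₁ b₁ ha₁0 hb₁0 ha₁ hb₁
  have hz := hall0 a₂ (ν • b₂) ha₂0 (smul_ne_zero hν0 hb₂0) ha₂
    (by rw [hdot_smul_left, hdot_smul_right, hb₂, mul_zero, mul_zero])
  have hline := cen_line φ hφφ M hMU _ _ hx hz τ hτ
  rw [hdot_elim, ha₁₂, hdot_smul_right, hb₁₂, mul_one, elim_smul, elim_add] at hline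
  refine ⟨_, _, hline, ?_⟩
  have ha₂₁ : hdot φ a₂ a₁ = 1 := by rw [← hdot_conj φ hφφ a₁ a₂, ha₁₂, map_one]
  simp only [hdot_add_left, hdot_add_right, hdot_smul_left, hdot_smul_right, ha₁, ha₂, ha₁₂, ha₂₁,
    map_mul, map_add, map_one, hφφ]
  have hφτ : φ τ = -τ := by linear_combination hτ
  rw [hφτ]
  intro h
  have h1 : τ * (φ ν - ν) = 0 := by linear_combination h
  rcases mul_eq_zero.mp h1 with h2 | h2
  · exact hτ0 h2
  · exact hν (sub_eq_zero.mp h2)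

include hφ hφφ hN1 in
/-- from mixed vectors with anisotropic components to one with isotropic components -/
theorem type_change_10 (hMU : M ≤ UG (κ₁ ⊕ κ₂) φ)
    (hall1 : ∀ (a : κ₁ → F) (b : κ₂ → F), a ≠ 0 → b ≠ 0 → hdot φ a a ≠ 0 →
      hdot φ a a + hdot φ b b = 0 → (Sum.elim a b : κ₁ ⊕ κ₂ → F) ∈ Cen φ M)
    (i j : κ₁) (hij : i ≠ j) (j₁ j₂ j₃ : κ₂) (h12 : j₁ ≠ j₂) (h13 : j₁ ≠ j₃) (h23 : j₂ ≠ j₃) :
    ∃ (a' : κ₁ → F) (b' : κ₂ → F), (Sum.elim a' b' : κ₁ ⊕ κ₂ → F) ∈ Cen φ M ∧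
      a' ≠ 0 ∧ b' ≠ 0 ∧ hdot φ a' a' = 0 := by
  obtain ⟨ε, hε0, hε⟩ := hN1 (-1) (by simp) (by rw [map_neg, map_one])
  obtain ⟨τ, hτ0, hτ⟩ := Witt.exists_trace_zero φ hφ hφφ
  have hφτ : φ τ = -τ := by linear_combination hτ
  have hφτ0 : φ τ ≠ 0 := (map_ne_zero φ).mpr hτ0
  set b₁ : κ₂ → F := ε • Pi.single j₁ 1 with hb₁
  set b₂ : κ₂ → F := τ⁻¹ • Pi.single j₁ 1 + ε • Pi.single j₂ 1 + (τ⁻¹ * ε) • Pi.single j₃ 1 with hb₂
  have hb₁n : hdot φ b₁ b₁ = -1 := by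
    rw [hb₁, hdot_smul_left, hdot_smul_right, hdot_single_single, if_pos rfl, mul_one]
    exact hε
  have hb₂n : hdot φ b₂ b₂ = -1 := by
    rw [hb₂]
    simp only [hdot_add_left, hdot_add_right, hdot_smul_left, hdot_smul_right,
      hdot_single_single, if_true, if_neg h12, if_neg h13, if_neg h23, if_neg (Ne.symm h12),
      if_neg (Ne.symm h13), if_neg (Ne.symm h23), map_mul, map_inv₀, hφτ]
    field_simp
    linear_combination (τ ^ 2 - 1) * hε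
  have hb₁₂ : hdot φ b₁ b₂ = -(ε * τ⁻¹) := by
    rw [hb₁, hb₂]
    simp only [hdot_add_right, hdot_smul_left, hdot_smul_right,
      hdot_single_single, if_true, if_neg h12, if_neg h13, map_inv₀, hφτ, mul_one, mul_zero,
      add_zero]
    ring
  have hb₁0 : b₁ ≠ 0 := by
    intro h
    rw [h, hdot_zero_left] at hb₁n
    exact absurd hb₁n (by simp)
  have hb₂0 : b₂ ≠ 0 := by
    intro h
    rw [h, hdot_zero_left] at hb₂n
    exact absurd hb₂n (by simp)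
  have hei : hdot φ (Pi.single i (1 : F) : κ₁ → F) (Pi.single i 1) = 1 := by
    rw [hdot_single_single, if_pos rfl]
  have hej : hdot φ (Pi.single j (1 : F) : κ₁ → F) (Pi.single j 1) = 1 := by
    rw [hdot_single_single, if_pos rfl]
  have hei0 : (Pi.single i (1 : F) : κ₁ → F) ≠ 0 := by
    intro h
    rw [h, hdot_zero_left] at hei
    exact zero_ne_one hei
  have hej0 : (Pi.single j (1 : F) : κ₁ → F) ≠ 0 := by
    intro h
    rw [h, hdot_zero_left] at hej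
    exact zero_ne_one hej
  have hx := hall1 (Pi.single i 1) b₁ hei0 hb₁0 (by rw [hei]; exact one_ne_zero)
    (by rw [hei, hb₁n]; ring)
  have hz := hall1 (Pi.single j 1) b₂ hej0 hb₂0 (by rw [hej]; exact one_ne_zero)
    (by rw [hej, hb₂n]; ring)
  have hline := cen_line φ hφφ M hMU _ _ hx hz τ hτ
  rw [hdot_elim, hdot_single_single, if_neg hij, zero_add, hb₁₂, elim_smul, elim_add] at hline
  have hcoef : τ * -(ε * τ⁻¹) = -ε := by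
    field_simp
  rw [hcoef] at hline
  refine ⟨_, _, hline, ?_, ?_, ?_⟩
  · intro h
    have := congrFun h i
    simp [Pi.single_eq_of_ne hij] at this
  · intro h
    have := congrFun h j₂
    rw [hb₁, hb₂] at this
    simp [Pi.single_eq_of_ne (Ne.symm h12), Pi.single_eq_of_ne h23, hε0] at this
  · simp only [hdot_add_left, hdot_add_right, hdot_smul_left, hdot_smul_right,
      hdot_single_single, if_true, if_neg hij, if_neg (Ne.symm hij), map_neg]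
    linear_combination hε

end main2

section main3

variable (hφ : φ ≠ RingHom.id F) (hφφ : ∀ x, φ (φ x) = x)
  (hN1 : ∀ c : F, c ≠ 0 → φ c = c → ∃ l : F, l ≠ 0 ∧ l * φ l = c)
  (hN2 : ∃ μ : F, μ + φ μ ≠ 0)
  (M : Subgroup (GL (κ₁ ⊕ κ₂) F))
  (hPM : St F κ₁ κ₂ ⊓ SuGen.SUg (κ₁ ⊕ κ₂) φ ≤ M)

omit [Finite F] in
theorem exists_ne_of_iso (a : κ₁ → F) (ha0 : a ≠ 0) (ha : hdot φ a a = 0) :
    ∃ i j : κ₁, i ≠ j := by
  obtain ⟨i, hi⟩ : ∃ i, a i ≠ 0 := by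
    by_contra h
    push Not at h
    exact ha0 (funext h)
  by_contra hcon
  push Not at hcon
  rw [hdot_def, Fintype.sum_eq_single i (fun j hj => absurd (hcon j i) hj)] at ha
  rcases mul_eq_zero.mp ha with h | h
  · exact hi h
  · exact hi ((map_eq_zero φ).mp h)

include hφ hφφ hN1 hN2 hPM in
theorem all_mem_cen (hcard : 3 ≤ Fintype.card κ₂) (hlt : Fintype.card κ₁ < Fintype.card κ₂)
    (hMG : M ≤ SuGen.SUg (κ₁ ⊕ κ₂) φ) (g : GL (κ₁ ⊕ κ₂) F) (hgM : g ∈ M) (hg : g ∉ St F κ₁ κ₂)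
    (v : κ₁ ⊕ κ₂ → F) (hv : hdot φ v v = 0) : v ∈ Cen φ M := by
  have hMU : M ≤ UG (κ₁ ⊕ κ₂) φ := fun x hx => (hMG hx).1
  rw [← elim_comp v] at hv ⊢
  set a := v ∘ Sum.inl with hadef
  set b := v ∘ Sum.inr with hbdef
  rw [hdot_elim] at hv
  by_cases ha0 : a = 0
  · rw [ha0]
    rw [ha0, hdot_zero_left, zero_add] at hv
    exact inr_mem_cen φ hφφ M hPM b hv
  by_cases hb0 : b = 0
  · rw [hb0]
    rw [hb0, hdot_zero_left, add_zero] at hv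
    exact inl_mem_cen φ hφφ M hPM a hv
  obtain ⟨u₀, hu₀, hu₀l, hu₀r⟩ := exists_mixed φ hφ hφφ hN1 M hPM (by omega) hlt hMG g hgM hg
  rw [← elim_comp u₀] at hu₀
  set a₀ := u₀ ∘ Sum.inl with ha₀def
  set b₀ := u₀ ∘ Sum.inr with hb₀def
  have hiso₀ : hdot φ a₀ a₀ + hdot φ b₀ b₀ = 0 := by
    have := hu₀.1
    rwa [hdot_elim] at this
  by_cases htype : (hdot φ a₀ a₀ = 0 ↔ hdot φ a a = 0)
  · exact trans_same φ hφ hφφ hN1 hN2 M hPM hcard a₀ a b₀ b hu₀ hu₀l hu₀r ha0 hb0 hv htype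
  · by_cases h0 : hdot φ a₀ a₀ = 0
    · have h1 : hdot φ a a ≠ 0 := fun h => htype ⟨fun _ => h, fun _ => h0⟩
      have hb₀ : hdot φ b₀ b₀ = 0 := by rw [h0, zero_add] at hiso₀; exact hiso₀
      have hall0 : ∀ (a' : κ₁ → F) (b' : κ₂ → F), a' ≠ 0 → b' ≠ 0 → hdot φ a' a' = 0 →
          hdot φ b' b' = 0 → (Sum.elim a' b' : κ₁ ⊕ κ₂ → F) ∈ Cen φ M := by
        intro a' b' ha' hb' haa' hbb'
        exact trans_same φ hφ hφφ hN1 hN2 M hPM hcard a₀ a' b₀ b' hu₀ hu₀l hu₀r ha' hb'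
          (by rw [haa', hbb', add_zero]) ⟨fun _ => haa', fun _ => h0⟩
      obtain ⟨a', b', hr, hr1⟩ := type_change_01 φ hφ hφφ M hMU hall0 a₀ b₀ hu₀l hu₀r h0 hb₀
      have hriso : hdot φ a' a' + hdot φ b' b' = 0 := by
        have := hr.1
        rwa [hdot_elim] at this
      have ha'0 : a' ≠ 0 := by
        rintro rfl
        exact hr1 (hdot_zero_left φ _)
      have hb'0 : b' ≠ 0 := by
        rintro rfl
        rw [hdot_zero_left, add_zero] at hriso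
        exact hr1 hriso
      exact trans_same φ hφ hφφ hN1 hN2 M hPM hcard a' a b' b hr ha'0 hb'0 ha0 hb0 hv
        ⟨fun h => absurd h hr1, fun h => absurd h h1⟩
    · have h1 : hdot φ a a = 0 := by
        by_contra h
        exact htype ⟨fun h' => absurd h' h0, fun h' => absurd h' h⟩
      have hall1 : ∀ (a' : κ₁ → F) (b' : κ₂ → F), a' ≠ 0 → b' ≠ 0 → hdot φ a' a' ≠ 0 →
          hdot φ a' a' + hdot φ b' b' = 0 → (Sum.elim a' b' : κ₁ ⊕ κ₂ → F) ∈ Cen φ M := by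
        intro a' b' ha' hb' haa' hiso'
        exact trans_same φ hφ hφφ hN1 hN2 M hPM hcard a₀ a' b₀ b' hu₀ hu₀l hu₀r ha' hb'
          hiso' ⟨fun h => absurd h h0, fun h => absurd h haa'⟩
      obtain ⟨i, j, hij⟩ := exists_ne_of_iso φ a ha0 h1
      obtain ⟨j₁, j₂, j₃, h12, h13, h23⟩ := Fintype.two_lt_card_iff.mp (by omega : 2 < Fintype.card κ₂)
      obtain ⟨a', b', hr, ha'0, hb'0, hr0⟩ :=
        type_change_10 φ hφ hφφ hN1 M hMU hall1 i j hij j₁ j₂ j₃ h12 h13 h23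
      exact trans_same φ hφ hφφ hN1 hN2 M hPM hcard a' a b' b hr ha'0 hb'0 ha0 hb0 hv
        ⟨fun _ => h1, fun _ => hr0⟩

include hφ hφφ hN1 in
omit [Finite F] in
theorem exists_not_stab (i : κ₁) (j : κ₂) :
    ∃ g : GL (κ₁ ⊕ κ₂) F, g ∈ SuGen.SUg (κ₁ ⊕ κ₂) φ ∧ g ∉ St F κ₁ κ₂ := by
  obtain ⟨ε, hε0, hε⟩ := hN1 (-1) (by simp) (by rw [map_neg, map_one])
  obtain ⟨τ, hτ0, hτ⟩ := Witt.exists_trace_zero φ hφ hφφ
  set v : κ₁ ⊕ κ₂ → F := Sum.elim (Pi.single i 1) (ε • Pi.single j 1) with hvdef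
  have hv : hdot φ v v = 0 := by
    rw [hvdef, hdot_elim, hdot_single_single, if_pos rfl, hdot_smul_left, hdot_smul_right,
      hdot_single_single, if_pos rfl, mul_one]
    linear_combination hε
  refine ⟨UT φ v τ, ⟨UT_mem_UG φ hφφ v hv τ hτ, UT_mem_SL φ v hv τ⟩, fun hst => ?_⟩
  have hw : (Sum.elim (Pi.single i 1) 0 : κ₁ ⊕ κ₂ → F) ∈ W0 F κ₁ κ₂ := by
    intro b
    rfl
  have h1 := (hst _).mp hw j
  have h1' : (((UT φ v τ : GL (κ₁ ⊕ κ₂) F) : Matrix (κ₁ ⊕ κ₂) (κ₁ ⊕ κ₂) F) *ᵥ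
      (Sum.elim (Pi.single i 1) 0 : κ₁ ⊕ κ₂ → F)) (Sum.inr j) = 0 := h1
  rw [UT_mulVec φ v hv, hvdef, hdot_elim, hdot_single_single, if_pos rfl, hdot_zero_left, add_zero,
    mul_one] at h1'
  simp only [Pi.add_apply, Pi.smul_apply, Sum.elim_inr, Pi.zero_apply, zero_add, Pi.single_eq_same,
    smul_eq_mul, mul_one] at h1'
  rcases mul_eq_zero.mp h1' with h | h
  · exact hτ0 h
  · exact hε0 h

include hφ hφφ hN1 hN2 in
/-- the stabiliser of the first block is maximal in the special unitary group -/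
theorem maximal_std (hcard : 3 ≤ Fintype.card κ₂) (hlt : Fintype.card κ₁ < Fintype.card κ₂)
    (h1 : 1 ≤ Fintype.card κ₁) (hn : 4 ≤ Fintype.card (κ₁ ⊕ κ₂)) :
    Cfsg.Geo.IsMaximalIn (SuGen.SUg (κ₁ ⊕ κ₂) φ) (St F κ₁ κ₂ ⊓ SuGen.SUg (κ₁ ⊕ κ₂) φ) := by
  refine ⟨?_, ?_⟩
  · rw [lt_iff_le_and_ne]
    refine ⟨inf_le_right, fun heq => ?_⟩
    have hne1 : Nonempty κ₁ := by rw [← Fintype.card_pos_iff]; omega
    have hne2 : Nonempty κ₂ := by rw [← Fintype.card_pos_iff]; omega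
    obtain ⟨i⟩ := hne1
    obtain ⟨j⟩ := hne2
    obtain ⟨g, hg, hgW⟩ := exists_not_stab φ hφ hφφ hN1 i j
    rw [← heq] at hg
    exact hgW hg.1
  · intro M hPM hMG
    by_cases hMP : M ≤ St F κ₁ κ₂
    · left
      exact le_antisymm (fun x hx => ⟨hMP hx, hMG hx⟩) hPM
    · right
      obtain ⟨h, hhM, hhW⟩ := SetLike.not_le_iff_exists.mp hMP
      apply le_antisymm hMG
      apply sug_le_of_UT φ hφ hφφ hN1 hn M
      intro v hv c hc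
      exact (all_mem_cen φ hφ hφφ hN1 hN2 M hPM hcard hlt hMG h hhM hhW v hv).2 c hc

end main3

end Cfsg.Agent.Helper28.SuNondegStd
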