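import Mathlib
import Cfsg.Prelude.Def_GeometricClasses
import Cfsg.Agent.Lib.Helper28.SuNondegStd

/-!
# Maximality of the stabiliser of a non-degenerate subspace in the special unitary group (helper28)
-/

set_option autoImplicit false

namespace Cfsg.Agent.Helper28.SuNondegMax

open Cfsg Matrix Cfsg.Agent.Helper28 Cfsg.Agent.Helper28.SuGen Cfsg.Agent.Helper11.Herm
open Cfsg.Agent.Helper28.SuNondegStd
open Cfsg.Agent.Helper11

variable {F : Type*} [Field F] (φ : F →+* F)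

theorem det_conjReindex {ι ι' : Type} [Fintype ι] [DecidableEq ι] [Fintype ι'] [DecidableEq ι']
    (T : GL ι F) (e : ι ≃ ι') (g : GL ι F) :
    ((conjReindex T e g : GL ι' F) : Matrix ι' ι' F).det = (g : Matrix ι ι F).det := by
  rw [conjReindex_val, Matrix.det_submatrix_equiv_self, Matrix.det_mul, Matrix.det_mul,
    mul_comm, ← mul_assoc, ← Matrix.det_mul, ← Units.val_mul, mul_inv_cancel, Units.val_one,
    Matrix.det_one, one_mul]

theorem conjReindex_mem_SL_iff {ι ι' : Type} [Fintype ι] [DecidableEq ι] [Fintype ι']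
    [DecidableEq ι'] (T : GL ι F) (e : ι ≃ ι') (g : GL ι F) :
    g ∈ Cfsg.Geo.specialLinear ι F ↔ conjReindex T e g ∈ Cfsg.Geo.specialLinear ι' F := by
  rw [mem_specialLinear_iff, mem_specialLinear_iff, Units.ext_iff, Units.ext_iff,
    Matrix.GeneralLinearGroup.val_det_apply, Matrix.GeneralLinearGroup.val_det_apply,
    det_conjReindex]

theorem maximal_nondeg [Finite F] (hφ : φ ≠ RingHom.id F) (hφφ : ∀ x, φ (φ x) = x)
    (hN1 : ∀ c : F, c ≠ 0 → φ c = c → ∃ l : F, l ≠ 0 ∧ l * φ l = c)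
    (hN2 : ∃ μ : F, μ + φ μ ≠ 0) {n : ℕ} (hn : 7 ≤ n) (W : Submodule F (Fin n → F))
    (hW0 : W ≠ ⊥) (hW : ∀ u ∈ W, (∀ v ∈ W, hdot φ u v = 0) → u = 0)
    (hdim : 2 * Module.finrank F W < n) :
    Cfsg.Geo.IsMaximalIn (SuGen.SUg (Fin n) φ)
      (Cfsg.Geo.subspaceStabilizer W ⊓ SuGen.SUg (Fin n) φ) := by
  obtain ⟨k, hk⟩ : ∃ k, Module.finrank F W = k := ⟨_, rfl⟩
  have hk1 : 1 ≤ k := by
    rw [← hk]
    exact Submodule.one_le_finrank_iff.mpr hW0
  rw [hk] at hdim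
  obtain ⟨l, hl⟩ : ∃ l, n = k + l := ⟨n - k, by omega⟩
  have e : Fin n ≃ Fin k ⊕ Fin l := (finCongr hl).trans finSumFinEquiv.symm
  obtain ⟨T, hT, hTW⟩ := exists_UG_map_W0 φ hφ hφφ hN1 hN2 W hW k hk e
  have hstd := maximal_std (κ₁ := Fin k) (κ₂ := Fin l) φ hφ hφφ hN1 hN2
    (by rw [Fintype.card_fin]; omega) (by rw [Fintype.card_fin, Fintype.card_fin]; omega)
    (by rw [Fintype.card_fin]; exact hk1)
    (by rw [Fintype.card_sum, Fintype.card_fin, Fintype.card_fin]; omega)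
  have hUG : ∀ g : GL (Fin n) F, g ∈ UG (Fin n) φ ↔
      conjReindex (hT.toUG φ : GL (Fin n) F) e g ∈ UG (Fin k ⊕ Fin l) φ :=
    fun g => conjReindex_mem_UG_iff φ _ (hT.toUG φ).2 e g
  have hSL : ∀ g : GL (Fin n) F, g ∈ Cfsg.Geo.specialLinear (Fin n) F ↔
      conjReindex (hT.toUG φ : GL (Fin n) F) e g ∈ Cfsg.Geo.specialLinear (Fin k ⊕ Fin l) F :=
    fun g => conjReindex_mem_SL_iff _ e g
  have hSt : ∀ g : GL (Fin n) F, g ∈ Cfsg.Geo.subspaceStabilizer W ↔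
      conjReindex (hT.toUG φ : GL (Fin n) F) e g ∈ St F (Fin k) (Fin l) :=
    fun g => conjReindex_mem_stab_iff _ e _ _ (fun u' => hTW u') g
  refine isMaximalIn_of_equiv (conjReindex (hT.toUG φ : GL (Fin n) F) e) _ _ _ _ ?_ ?_ hstd
  · intro g
    rw [Subgroup.mem_inf, Subgroup.mem_inf, hUG g, hSL g]
  · intro g
    rw [Subgroup.mem_inf, Subgroup.mem_inf, Subgroup.mem_inf, Subgroup.mem_inf, hUG g, hSL g, hSt g]

end Cfsg.Agent.Helper28.SuNondegMax
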