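import Mathlib
import Cfsg.Prelude.Def_GeometricClasses
import Cfsg.Agent.Lib.Helper28.SuSingMax
import Cfsg.Agent.Lib.Helper28.SubfA
import Cfsg.Agent.Lib.Helper28.FieldInvolution

/-!
# Subfield subgroups of the special unitary group (helper28), part A: the action on vectors,
unitary transvections, short root elements and Siegel elements
-/

set_option autoImplicit false

namespace Cfsg.Agent.H28SuSub

open Cfsg Matrix Cfsg.Agent.Helper11.Herm Cfsg.Agent.Helper28.SuSingMax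
open Cfsg.Agent.Helper11

variable {F : Type*} [Field F] {n : ℕ}

/-! ### the action on vectors -/

/-- the action of the general linear group on vectors -/
@[reducible] def glAct (n : ℕ) (F : Type*) [Field F] :
    DistribMulAction (GL (Fin n) F) (Fin n → F) where
  smul g v := (g : Matrix (Fin n) (Fin n) F) *ᵥ v
  one_smul v := Matrix.one_mulVec v
  mul_smul g h v := (Matrix.mulVec_mulVec v (g : Matrix (Fin n) (Fin n) F)
    (h : Matrix (Fin n) (Fin n) F)).symm
  smul_zero _ := Matrix.mulVec_zero _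
  smul_add _ u v := Matrix.mulVec_add _ u v

scoped[Cfsg.Agent.H28SuSub] attribute [instance] Cfsg.Agent.H28SuSub.glAct

theorem smul_def (g : GL (Fin n) F) (v : Fin n → F) :
    g • v = (g : Matrix (Fin n) (Fin n) F) *ᵥ v := rfl

theorem glSMulCommClass (n : ℕ) (F : Type*) [Field F] :
    SMulCommClass (GL (Fin n) F) F (Fin n → F) :=
  ⟨fun g a v => by rw [smul_def g, smul_def g, Matrix.mulVec_smul]⟩

scoped[Cfsg.Agent.H28SuSub] attribute [instance] Cfsg.Agent.H28SuSub.glSMulCommClass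

theorem ext_smul {g h : GL (Fin n) F} (H : ∀ v : Fin n → F, g • v = h • v) : g = h :=
  gl_ext g h H

theorem smul_ne_zero_of_ne (k : GL (Fin n) F) {v : Fin n → F} (hv : v ≠ 0) : k • v ≠ 0 := by
  intro h
  apply hv
  have := congrArg (fun x => k⁻¹ • x) h
  simpa using this

section herm

variable (φ : F →+* F)

theorem hdot_smul_smul {g : GL (Fin n) F} (hg : g ∈ UG (Fin n) φ) (x y : Fin n → F) :
    hdot φ (g • x) (g • y) = hdot φ x y :=
  IsU.hdot_mulVec φ ((mem_UG_iff φ g).mp hg) x y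

theorem hdot_inv_smul {g : GL (Fin n) F} (hg : g ∈ UG (Fin n) φ) (x y : Fin n → F) :
    hdot φ (g⁻¹ • x) y = hdot φ x (g • y) := by
  rw [← hdot_smul_smul φ hg (g⁻¹ • x) y, smul_inv_smul]

theorem hdot_neg_left (x y : Fin n → F) : hdot φ (-x) y = -hdot φ x y := by
  have : -x = (-1 : F) • x := by rw [neg_smul, one_smul]
  rw [this, hdot_smul_left]
  ring

theorem hdot_neg_right (x y : Fin n → F) : hdot φ x (-y) = -hdot φ x y := by
  have : -y = (-1 : F) • y := by rw [neg_smul, one_smul]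
  rw [this, hdot_smul_right, map_neg, map_one]
  ring

/-! ### unitary transvections -/

theorem UT_smul (v : Fin n → F) (hv : hdot φ v v = 0) (c : F) (x : Fin n → F) :
    UT φ v c • x = x + (c * hdot φ x v) • v := UT_mulVec φ v hv c x

theorem UT_zero (v : Fin n → F) (hv : hdot φ v v = 0) : UT φ v 0 = 1 := by
  apply ext_smul
  intro x
  rw [UT_smul φ v hv, zero_mul, zero_smul, add_zero, one_smul]

theorem UT_zero_vec (c : F) : UT φ (0 : Fin n → F) c = 1 := by
  apply ext_smul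
  intro x
  rw [UT_smul φ 0 (hdot_zero_left φ 0), smul_zero, add_zero, one_smul]

theorem UT_mul (v : Fin n → F) (hv : hdot φ v v = 0) (c d : F) :
    UT φ v c * UT φ v d = UT φ v (c + d) := by
  apply ext_smul
  intro x
  rw [mul_smul, UT_smul φ v hv, UT_smul φ v hv, UT_smul φ v hv, hdot_add_left, hdot_smul_left, hv,
    mul_zero, add_zero]
  module

theorem UT_inv (v : Fin n → F) (hv : hdot φ v v = 0) (c : F) :
    (UT φ v c)⁻¹ = UT φ v (-c) := by
  rw [inv_eq_iff_mul_eq_one, UT_mul φ v hv, add_neg_cancel, UT_zero φ v hv]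

theorem UT_smul_vec (v : Fin n → F) (hv : hdot φ v v = 0) (t c : F) :
    UT φ (t • v) c = UT φ v (c * (t * φ t)) := by
  have htv : hdot φ (t • v) (t • v) = 0 := by
    rw [hdot_smul_left, hdot_smul_right, hv, mul_zero, mul_zero]
  apply ext_smul
  intro x
  rw [UT_smul φ _ htv, UT_smul φ v hv, hdot_smul_right, smul_smul]
  congr 2
  ring

theorem conj_UT' {g : GL (Fin n) F} (hg : g ∈ UG (Fin n) φ) (v : Fin n → F)
    (hv : hdot φ v v = 0) (c : F) : g * UT φ v c * g⁻¹ = UT φ (g • v) c :=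
  conj_UT φ g hg v hv c

theorem UT_mem_SUg (hφφ : ∀ x, φ (φ x) = x) (v : Fin n → F) (hv : hdot φ v v = 0) (c : F)
    (hc : c + φ c = 0) : UT φ v c ∈ SUg n φ :=
  ⟨UT_mem_UG φ hφφ v hv c hc, UT_mem_SL φ v c⟩

/-! ### short root elements -/

/-- a pair of orthogonal singular vectors -/
structure SPair (a b : Fin n → F) : Prop where
  aa : hdot φ a a = 0
  bb : hdot φ b b = 0
  ab : hdot φ a b = 0
  ba : hdot φ b a = 0

variable {φ}

theorem SPair.symm {a b : Fin n → F} (p : SPair φ a b) : SPair φ b a :=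
  ⟨p.bb, p.aa, p.ba, p.ab⟩

theorem SPair.smul {a b : Fin n → F} (p : SPair φ a b) {g : GL (Fin n) F}
    (hg : g ∈ UG (Fin n) φ) : SPair φ (g • a) (g • b) :=
  ⟨by rw [hdot_smul_smul φ hg, p.aa], by rw [hdot_smul_smul φ hg, p.bb],
    by rw [hdot_smul_smul φ hg, p.ab], by rw [hdot_smul_smul φ hg, p.ba]⟩

theorem SPair.smul_left {a b : Fin n → F} (p : SPair φ a b) (t : F) : SPair φ (t • a) b :=
  ⟨by rw [hdot_smul_left, hdot_smul_right, p.aa, mul_zero, mul_zero], p.bb,
    by rw [hdot_smul_left, p.ab, mul_zero], by rw [hdot_smul_right, p.ba, mul_zero]⟩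

theorem SPair.smul_right {a b : Fin n → F} (p : SPair φ a b) (t : F) : SPair φ a (t • b) :=
  (p.symm.smul_left t).symm

theorem SPair.add_left {a a' b : Fin n → F} (p : SPair φ a b) (p' : SPair φ a' b)
    (q : SPair φ a a') : SPair φ (a + a') b :=
  ⟨by simp only [hdot_add_left, hdot_add_right, p.aa, p'.aa, q.ab, q.ba, add_zero], p.bb,
    by rw [hdot_add_left, p.ab, p'.ab, add_zero], by rw [hdot_add_right, p.ba, p'.ba, add_zero]⟩

variable (φ)

/-- the element `x ↦ x + c h(x,a) b - φ(c) h(x,b) a` for orthogonal singular `a`, `b` -/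
noncomputable def S (a b : Fin n → F) (c : F) : GL (Fin n) F := EE φ a (c • b) 0

variable {φ}

theorem S_smul {a b : Fin n → F} (p : SPair φ a b) (c : F) (x : Fin n → F) :
    S φ a b c • x = x + (c * hdot φ x a) • b - (φ c * hdot φ x b) • a := by
  unfold S
  rw [smul_def, EE_mulVec φ a (c • b) 0 p.aa (by rw [hdot_smul_left, p.ba, mul_zero])
    (by rw [hdot_smul_right, p.ab, mul_zero]), hdot_smul_right]
  module

theorem S_mem_SUg (hφφ : ∀ x, φ (φ x) = x) {a b : Fin n → F} (p : SPair φ a b) (c : F) :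
    S φ a b c ∈ SUg n φ := by
  refine ⟨?_, EE_mem_SL φ _ _ _⟩
  apply EE_mem_UG φ hφφ a (c • b) 0 p.aa (by rw [hdot_smul_left, p.ba, mul_zero])
    (by rw [hdot_smul_right, p.ab, mul_zero])
  rw [map_zero, hdot_smul_left, hdot_smul_right, p.bb, mul_zero, mul_zero, add_zero, add_zero]

theorem conj_S {g : GL (Fin n) F} (hg : g ∈ UG (Fin n) φ) {a b : Fin n → F} (p : SPair φ a b)
    (c : F) : g * S φ a b c * g⁻¹ = S φ (g • a) (g • b) c := by
  apply ext_smul
  intro x
  rw [mul_smul, mul_smul, S_smul p, S_smul (p.smul hg), smul_sub, smul_add, smul_inv_smul,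
    smul_comm g, smul_comm g, hdot_inv_smul φ hg, hdot_inv_smul φ hg]

theorem S_zero {a b : Fin n → F} (p : SPair φ a b) : S φ a b 0 = 1 := by
  apply ext_smul
  intro x
  rw [S_smul p, map_zero, zero_mul, zero_mul, zero_smul, zero_smul, add_zero, sub_zero, one_smul]

theorem S_mul {a b : Fin n → F} (p : SPair φ a b) (c d : F) :
    S φ a b c * S φ a b d = S φ a b (c + d) := by
  apply ext_smul
  intro x
  rw [mul_smul, S_smul p, S_smul p, S_smul p]
  simp only [hdot_add_left, hdot_sub_left, hdot_smul_left, p.aa, p.bb, p.ab, p.ba, mul_zero,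
    add_zero, sub_zero, map_add]
  module

theorem S_inv {a b : Fin n → F} (p : SPair φ a b) (c : F) : (S φ a b c)⁻¹ = S φ a b (-c) := by
  rw [inv_eq_iff_mul_eq_one, S_mul p, add_neg_cancel, S_zero p]

theorem S_symm (hφφ : ∀ x, φ (φ x) = x) {a b : Fin n → F} (p : SPair φ a b) (c : F) :
    S φ a b c = S φ b a (-φ c) := by
  apply ext_smul
  intro x
  rw [S_smul p, S_smul p.symm, map_neg, hφφ]
  module

theorem S_smul_left (hφφ : ∀ x, φ (φ x) = x) {a b : Fin n → F} (p : SPair φ a b) (t c : F) :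
    S φ (t • a) b c = S φ a b (c * φ t) := by
  apply ext_smul
  intro x
  rw [S_smul (p.smul_left t), S_smul p, hdot_smul_right, map_mul, hφφ]
  module

theorem S_smul_right {a b : Fin n → F} (p : SPair φ a b) (t c : F) :
    S φ a (t • b) c = S φ a b (c * t) := by
  apply ext_smul
  intro x
  rw [S_smul (p.smul_right t), S_smul p, hdot_smul_right, map_mul]
  module

theorem S_add_left {a a' b : Fin n → F} (p : SPair φ a b) (p' : SPair φ a' b)
    (q : SPair φ a a') (c : F) : S φ (a + a') b c = S φ a b c * S φ a' b c := by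
  apply ext_smul
  intro x
  rw [mul_smul, S_smul (p.add_left p' q), S_smul p, S_smul p']
  simp only [hdot_add_left, hdot_sub_left, hdot_add_right, hdot_smul_left, p.ba, p'.ab, p.bb,
    q.ba, mul_zero, add_zero, sub_zero]
  module

theorem UT_add_orth {w a : Fin n → F} (p : SPair φ a w) (c : F) (hc : c + φ c = 0) :
    UT φ (w + a) c = UT φ w c * UT φ a c * S φ a w c := by
  have hwa : hdot φ (w + a) (w + a) = 0 := by
    simp only [hdot_add_left, hdot_add_right, p.aa, p.bb, p.ab, p.ba, add_zero]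
  have hφc : φ c = -c := by linear_combination hc
  apply ext_smul
  intro x
  rw [mul_smul, mul_smul, S_smul p, UT_smul φ _ hwa, UT_smul φ a p.aa, UT_smul φ w p.bb, hφc]
  simp only [hdot_add_left, hdot_sub_left, hdot_add_right, hdot_smul_left, p.aa, p.bb, p.ab, p.ba,
    mul_zero, add_zero, sub_zero]
  module

/-! ### Siegel elements -/

variable (φ)

theorem EE_smul (e w : Fin n → F) (μ : F) (he : hdot φ e e = 0) (hwe : hdot φ w e = 0)
    (hew : hdot φ e w = 0) (x : Fin n → F) :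
    EE φ e w μ • x = x + hdot φ x e • w - hdot φ x w • e + (μ * hdot φ x e) • e :=
  EE_mulVec φ e w μ he hwe hew x

theorem EE_mul (e w w' : Fin n → F) (μ μ' : F) (he : hdot φ e e = 0) (hwe : hdot φ w e = 0)
    (hew : hdot φ e w = 0) (hw'e : hdot φ w' e = 0) (hew' : hdot φ e w' = 0) :
    EE φ e w μ * EE φ e w' μ' = EE φ e (w + w') (μ + μ' - hdot φ w' w) := by
  have h1 : hdot φ (w + w') e = 0 := by rw [hdot_add_left, hwe, hw'e, add_zero]
  have h2 : hdot φ e (w + w') = 0 := by rw [hdot_add_right, hew, hew', add_zero]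
  apply ext_smul
  intro x
  rw [mul_smul, EE_smul φ e w' μ' he hw'e hew', EE_smul φ e w μ he hwe hew,
    EE_smul φ e (w + w') _ he h1 h2]
  simp only [hdot_add_left, hdot_sub_left, hdot_add_right, hdot_smul_left, he, hw'e, hew,
    mul_zero, add_zero, sub_zero]
  module

theorem EE_zero_eq_UT (e : Fin n → F) (μ : F) (he : hdot φ e e = 0) :
    EE φ e 0 μ = UT φ e μ := by
  apply ext_smul
  intro x
  rw [EE_smul φ e 0 μ he (hdot_zero_left φ e) (hdot_zero_right φ e), UT_smul φ e he,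
    hdot_zero_right, smul_zero, zero_smul, add_zero, sub_zero]

theorem EE_smul_self (e : Fin n → F) (t μ : F) (he : hdot φ e e = 0) :
    EE φ e (t • e) μ = UT φ e (μ + t - φ t) := by
  apply ext_smul
  intro x
  rw [EE_smul φ e (t • e) μ he (by rw [hdot_smul_left, he, mul_zero])
    (by rw [hdot_smul_right, he, mul_zero]), UT_smul φ e he, hdot_smul_right]
  module

end herm

/-! ### rational vectors -/

/-- rational vectors -/
def RatV (F₀ : Subfield F) (v : Fin n → F) : Prop := ∀ i, v i ∈ F₀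

section rat

variable (F₀ : Subfield F)

theorem ratV_zero : RatV F₀ (0 : Fin n → F) := fun _ => F₀.zero_mem

variable {F₀}

theorem ratV_add {u v : Fin n → F} (hu : RatV F₀ u) (hv : RatV F₀ v) : RatV F₀ (u + v) :=
  fun i => F₀.add_mem (hu i) (hv i)

theorem ratV_sub {u v : Fin n → F} (hu : RatV F₀ u) (hv : RatV F₀ v) : RatV F₀ (u - v) :=
  fun i => F₀.sub_mem (hu i) (hv i)

theorem ratV_neg {u : Fin n → F} (hu : RatV F₀ u) : RatV F₀ (-u) :=
  fun i => F₀.neg_mem (hu i)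

theorem ratV_smul {c : F} (hc : c ∈ F₀) {u : Fin n → F} (hu : RatV F₀ u) :
    RatV F₀ (c • u) :=
  fun i => F₀.mul_mem hc (hu i)

variable (F₀)

theorem ratV_single (j : Fin n) : RatV F₀ (Pi.single j (1 : F)) := by
  intro i
  by_cases h : i = j
  · rw [h, Pi.single_eq_same]
    exact F₀.one_mem
  · rw [Pi.single_eq_of_ne h]
    exact F₀.zero_mem

variable {F₀}

theorem mem_of_ratV_smul {e : Fin n → F} (he : RatV F₀ e) (he0 : e ≠ 0) {t : F}
    (ht : RatV F₀ (t • e)) : t ∈ F₀ := by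
  obtain ⟨i, hi⟩ : ∃ i, e i ≠ 0 := by
    by_contra hcon
    push Not at hcon
    exact he0 (funext hcon)
  have h1 : t = (t • e) i * (e i)⁻¹ := by
    rw [Pi.smul_apply, smul_eq_mul, mul_assoc, mul_inv_cancel₀ hi, mul_one]
  rw [h1]
  exact F₀.mul_mem (ht i) (F₀.inv_mem (he i))

theorem ratV_of_smul {e : Fin n → F} {t : F} (ht : t ∈ F₀) (ht0 : t ≠ 0)
    (h : RatV F₀ (t • e)) : RatV F₀ e := by
  have := ratV_smul (F₀.inv_mem ht) h
  rwa [smul_smul, inv_mul_cancel₀ ht0, one_smul] at this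

end rat

/-! ### the standing data -/

/-- the standing data: a field involution stabilising the subfield and acting nontrivially on
it, two rational elements of norm `-1`, and seven coordinates -/
structure Data (φ : F →+* F) (F₀ : Subfield F) (n : ℕ) where
  hφ : φ ≠ RingHom.id F
  hφφ : ∀ x, φ (φ x) = x
  hN1 : ∀ c : F, c ≠ 0 → φ c = c → ∃ l : F, l ≠ 0 ∧ l * φ l = c
  hst : ∀ x ∈ F₀, φ x ∈ F₀
  ω : F
  hω : ω ∈ F₀
  hω' : φ ω ≠ ω
  lam : F
  lam' : F
  hl : lam ∈ F₀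
  hl' : lam' ∈ F₀
  hNl : lam * φ lam = -1
  hNl' : lam' * φ lam' = -1
  hll : lam ≠ lam'
  c : Fin 7 → Fin n
  hc : Function.Injective c

section data

variable {φ : F →+* F} {F₀ : Subfield F} (D : Data φ F₀ n)

/-- a rational element of trace zero -/
def Data.τ : F := D.ω - φ D.ω

theorem Data.τ_mem : D.τ ∈ F₀ := F₀.sub_mem D.hω (D.hst _ D.hω)

theorem Data.τ_ne : D.τ ≠ 0 := fun h => D.hω' (sub_eq_zero.mp h).symm

theorem Data.τ_tr : D.τ + φ D.τ = 0 := by
  unfold Data.τ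
  rw [map_sub, D.hφφ]
  ring

theorem Data.φτ : φ D.τ = -D.τ := by linear_combination D.τ_tr

theorem Data.lam_ne : D.lam ≠ 0 := by
  intro h
  have := D.hNl
  rw [h, zero_mul] at this
  exact one_ne_zero (neg_eq_zero.mp this.symm)

theorem Data.lam'_ne : D.lam' ≠ 0 := by
  intro h
  have := D.hNl'
  rw [h, zero_mul] at this
  exact one_ne_zero (neg_eq_zero.mp this.symm)

include D in
theorem Data.φ_inj {x y : F} (h : φ x = φ y) : x = y := by
  rw [← D.hφφ x, ← D.hφφ y, h]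

include D in
theorem Data.φ_mem_iff {x : F} : φ x ∈ F₀ ↔ x ∈ F₀ :=
  ⟨fun h => by rw [← D.hφφ x]; exact D.hst _ h, D.hst x⟩

include D in
theorem Data.rat_hdot {x y : Fin n → F} (hx : RatV F₀ x) (hy : RatV F₀ y) :
    hdot φ x y ∈ F₀ := by
  rw [hdot_def]
  apply F₀.sum_mem
  intro i _
  exact F₀.mul_mem (hx i) (D.hst _ (hy i))

end data

/-! ### standard singular vectors -/

/-- the vector `ε_j + l ε_k` -/
def sv (l : F) (j k : Fin n) : Fin n → F := Pi.single j 1 + l • Pi.single k 1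

theorem sv_apply (l : F) (j k i : Fin n) :
    sv l j k i = (if i = j then 1 else 0) + l * (if i = k then 1 else 0) := by
  unfold sv
  rw [Pi.add_apply, Pi.smul_apply, Pi.single_apply, Pi.single_apply, smul_eq_mul]

theorem hdot_sv_right (φ : F →+* F) (l : F) (j k : Fin n) (x : Fin n → F) :
    hdot φ x (sv l j k) = x j + φ l * x k := by
  unfold sv
  rw [hdot_add_right, hdot_smul_right, hdot_single_right, hdot_single_right]

theorem hdot_sv_left (φ : F →+* F) (l : F) (j k : Fin n) (x : Fin n → F) :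
    hdot φ (sv l j k) x = φ (x j) + l * φ (x k) := by
  unfold sv
  rw [hdot_add_left, hdot_smul_left, hdot_single_left, hdot_single_left]

theorem ratV_sv {F₀ : Subfield F} {l : F} (hl : l ∈ F₀) (j k : Fin n) : RatV F₀ (sv l j k) :=
  ratV_add (ratV_single F₀ j) (ratV_smul hl (ratV_single F₀ k))

theorem sv_ne_zero (l : F) {j k : Fin n} (hjk : j ≠ k) : sv l j k ≠ 0 := by
  intro h
  have := congrFun h j
  rw [sv_apply, if_pos rfl, if_neg hjk, mul_zero, add_zero, Pi.zero_apply] at this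
  exact one_ne_zero this

theorem hdot_sv_self (φ : F →+* F) {l : F} (hl : l * φ l = -1) {j k : Fin n} (hjk : j ≠ k) :
    hdot φ (sv l j k) (sv l j k) = 0 := by
  rw [hdot_sv_right, sv_apply, sv_apply, if_pos rfl, if_neg hjk, if_neg hjk.symm, if_pos rfl]
  linear_combination hl

theorem hdot_sv_disj (φ : F →+* F) (l l' : F) {j k j' k' : Fin n} (h1 : j ≠ j') (h2 : j ≠ k')
    (h3 : k ≠ j') (h4 : k ≠ k') : hdot φ (sv l j k) (sv l' j' k') = 0 := by
  rw [hdot_sv_right, sv_apply, sv_apply, if_neg h1.symm, if_neg h3.symm, if_neg h2.symm,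
    if_neg h4.symm]
  ring

theorem spair_sv (φ : F →+* F) {l l' : F} (hl : l * φ l = -1) (hl' : l' * φ l' = -1)
    {j k j' k' : Fin n} (hjk : j ≠ k) (hjk' : j' ≠ k') (h1 : j ≠ j') (h2 : j ≠ k')
    (h3 : k ≠ j') (h4 : k ≠ k') : SPair φ (sv l j k) (sv l' j' k') :=
  ⟨hdot_sv_self φ hl hjk, hdot_sv_self φ hl' hjk', hdot_sv_disj φ l l' h1 h2 h3 h4,
    hdot_sv_disj φ l' l h1.symm h3.symm h2.symm h4.symm⟩

/-! ### the standard vectors attached to the data -/

section std

variable {φ : F →+* F} {F₀ : Subfield F} (D : Data φ F₀ n)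

theorem Data.cne (a b : Fin 7) (h : a ≠ b) : D.c a ≠ D.c b := fun e => h (D.hc e)

/-- the first standard singular vector -/
def Data.e0 : Fin n → F := sv D.lam (D.c 0) (D.c 1)

/-- the second standard singular vector -/
def Data.e1 : Fin n → F := sv D.lam (D.c 2) (D.c 3)

/-- the third standard singular vector -/
def Data.e2 : Fin n → F := sv D.lam (D.c 4) (D.c 5)

/-- the pairing of the two singular vectors of a coordinate plane -/
def Data.d : F := 1 + D.lam * φ D.lam'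

/-- the partner of the first standard singular vector -/
def Data.f0 : Fin n → F := (φ D.d)⁻¹ • sv D.lam' (D.c 0) (D.c 1)

/-- the partner of the second standard singular vector -/
def Data.f1 : Fin n → F := (φ D.d)⁻¹ • sv D.lam' (D.c 2) (D.c 3)

theorem Data.d_ne : D.d ≠ 0 := by
  intro h
  unfold Data.d at h
  apply D.hll
  have h1 : D.lam * φ D.lam' = D.lam * φ D.lam := by linear_combination h - D.hNl
  exact (D.φ_inj (mul_left_cancel₀ D.lam_ne h1)).symm

theorem Data.d_mem : D.d ∈ F₀ :=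
  F₀.add_mem F₀.one_mem (F₀.mul_mem D.hl (D.hst _ D.hl'))

theorem Data.φd_ne : φ D.d ≠ 0 := (map_ne_zero φ).mpr D.d_ne

theorem Data.φd_eq : φ D.d = 1 + φ D.lam * D.lam' := by
  unfold Data.d
  rw [map_add, map_one, map_mul, D.hφφ]

theorem Data.e0_rat : RatV F₀ D.e0 := ratV_sv D.hl _ _

theorem Data.e1_rat : RatV F₀ D.e1 := ratV_sv D.hl _ _

theorem Data.e2_rat : RatV F₀ D.e2 := ratV_sv D.hl _ _

theorem Data.f0_rat : RatV F₀ D.f0 :=
  ratV_smul (F₀.inv_mem (D.hst _ D.d_mem)) (ratV_sv D.hl' _ _)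

theorem Data.f1_rat : RatV F₀ D.f1 :=
  ratV_smul (F₀.inv_mem (D.hst _ D.d_mem)) (ratV_sv D.hl' _ _)

theorem Data.e0_ne : D.e0 ≠ 0 := sv_ne_zero _ (D.cne 0 1 (by decide))

theorem Data.e1_ne : D.e1 ≠ 0 := sv_ne_zero _ (D.cne 2 3 (by decide))

theorem Data.e2_ne : D.e2 ≠ 0 := sv_ne_zero _ (D.cne 4 5 (by decide))

theorem Data.f0_ne : D.f0 ≠ 0 :=
  smul_ne_zero (inv_ne_zero D.φd_ne) (sv_ne_zero _ (D.cne 0 1 (by decide)))

theorem Data.f1_ne : D.f1 ≠ 0 :=
  smul_ne_zero (inv_ne_zero D.φd_ne) (sv_ne_zero _ (D.cne 2 3 (by decide)))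

theorem Data.e0_sing : hdot φ D.e0 D.e0 = 0 := hdot_sv_self φ D.hNl (D.cne 0 1 (by decide))

theorem Data.e1_sing : hdot φ D.e1 D.e1 = 0 := hdot_sv_self φ D.hNl (D.cne 2 3 (by decide))

theorem Data.e2_sing : hdot φ D.e2 D.e2 = 0 := hdot_sv_self φ D.hNl (D.cne 4 5 (by decide))

theorem Data.sp01 : SPair φ D.e0 D.e1 :=
  spair_sv φ D.hNl D.hNl (D.cne 0 1 (by decide)) (D.cne 2 3 (by decide)) (D.cne 0 2 (by decide))
    (D.cne 0 3 (by decide)) (D.cne 1 2 (by decide)) (D.cne 1 3 (by decide))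

theorem Data.sp02 : SPair φ D.e0 D.e2 :=
  spair_sv φ D.hNl D.hNl (D.cne 0 1 (by decide)) (D.cne 4 5 (by decide)) (D.cne 0 4 (by decide))
    (D.cne 0 5 (by decide)) (D.cne 1 4 (by decide)) (D.cne 1 5 (by decide))

theorem Data.sp12 : SPair φ D.e1 D.e2 :=
  spair_sv φ D.hNl D.hNl (D.cne 2 3 (by decide)) (D.cne 4 5 (by decide)) (D.cne 2 4 (by decide))
    (D.cne 2 5 (by decide)) (D.cne 3 4 (by decide)) (D.cne 3 5 (by decide))

theorem Data.spf1e0 : SPair φ D.f1 D.e0 :=
  (spair_sv φ D.hNl' D.hNl (D.cne 2 3 (by decide)) (D.cne 0 1 (by decide)) (D.cne 2 0 (by decide))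
    (D.cne 2 1 (by decide)) (D.cne 3 0 (by decide)) (D.cne 3 1 (by decide))).smul_left _

theorem Data.spf1e2 : SPair φ D.f1 D.e2 :=
  (spair_sv φ D.hNl' D.hNl (D.cne 2 3 (by decide)) (D.cne 4 5 (by decide)) (D.cne 2 4 (by decide))
    (D.cne 2 5 (by decide)) (D.cne 3 4 (by decide)) (D.cne 3 5 (by decide))).smul_left _

theorem Data.spf0e1 : SPair φ D.f0 D.e1 :=
  (spair_sv φ D.hNl' D.hNl (D.cne 0 1 (by decide)) (D.cne 2 3 (by decide)) (D.cne 0 2 (by decide))
    (D.cne 0 3 (by decide)) (D.cne 1 2 (by decide)) (D.cne 1 3 (by decide))).smul_left _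

theorem Data.spf0e2 : SPair φ D.f0 D.e2 :=
  (spair_sv φ D.hNl' D.hNl (D.cne 0 1 (by decide)) (D.cne 4 5 (by decide)) (D.cne 0 4 (by decide))
    (D.cne 0 5 (by decide)) (D.cne 1 4 (by decide)) (D.cne 1 5 (by decide))).smul_left _

theorem Data.f0_sing : hdot φ D.f0 D.f0 = 0 := D.spf0e1.aa

theorem Data.f1_sing : hdot φ D.f1 D.f1 = 0 := D.spf1e0.aa

theorem hdot_sv_sv_same (φ : F →+* F) (l l' : F) {j k : Fin n} (hjk : j ≠ k) :
    hdot φ (sv l j k) (sv l' j k) = 1 + l * φ l' := by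
  rw [hdot_sv_right, sv_apply, sv_apply, if_pos rfl, if_neg hjk, if_neg hjk.symm, if_pos rfl]
  ring

theorem Data.e0_f0 : hdot φ D.e0 D.f0 = 1 := by
  unfold Data.e0 Data.f0
  rw [hdot_smul_right, map_inv₀, D.hφφ, hdot_sv_sv_same φ _ _ (D.cne 0 1 (by decide))]
  exact inv_mul_cancel₀ D.d_ne

theorem Data.f0_e0 : hdot φ D.f0 D.e0 = 1 := by
  rw [← hdot_conj φ D.hφφ, D.e0_f0, map_one]

theorem Data.e1_f1 : hdot φ D.e1 D.f1 = 1 := by
  unfold Data.e1 Data.f1
  rw [hdot_smul_right, map_inv₀, D.hφφ, hdot_sv_sv_same φ _ _ (D.cne 2 3 (by decide))]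
  exact inv_mul_cancel₀ D.d_ne

theorem Data.f1_e1 : hdot φ D.f1 D.e1 = 1 := by
  rw [← hdot_conj φ D.hφφ, D.e1_f1, map_one]

end std

/-! ### rational pairs -/

/-- a pair of linearly independent orthogonal rational singular vectors -/
structure RatPair (φ : F →+* F) (F₀ : Subfield F) (a b : Fin n → F) : Prop where
  ra : RatV F₀ a
  rb : RatV F₀ b
  sp : SPair φ a b
  ne : a ≠ 0
  ind : ∀ t : F, b ≠ t • a

theorem RatPair.ne_right {φ : F →+* F} {F₀ : Subfield F} {a b : Fin n → F}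
    (h : RatPair φ F₀ a b) : b ≠ 0 := by
  intro h0
  apply h.ind 0
  rw [h0, zero_smul]

theorem ratPair_of_coord {φ : F →+* F} {F₀ : Subfield F} {a b : Fin n → F} (ra : RatV F₀ a)
    (rb : RatV F₀ b) (sp : SPair φ a b) (ne : a ≠ 0) (i : Fin n) (hai : a i = 0) (hbi : b i ≠ 0) :
    RatPair φ F₀ a b :=
  ⟨ra, rb, sp, ne, fun t h => by
    apply hbi
    rw [h, Pi.smul_apply, hai, smul_zero]⟩

section stdpairs

variable {φ : F →+* F} {F₀ : Subfield F} (D : Data φ F₀ n)

theorem Data.e0_apply_c0 : D.e0 (D.c 0) = 1 := by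
  unfold Data.e0
  rw [sv_apply, if_pos rfl, if_neg (D.cne 0 1 (by decide)), mul_zero, add_zero]

theorem Data.e1_apply_c2 : D.e1 (D.c 2) = 1 := by
  unfold Data.e1
  rw [sv_apply, if_pos rfl, if_neg (D.cne 2 3 (by decide)), mul_zero, add_zero]

theorem Data.e2_apply_c4 : D.e2 (D.c 4) = 1 := by
  unfold Data.e2
  rw [sv_apply, if_pos rfl, if_neg (D.cne 4 5 (by decide)), mul_zero, add_zero]

theorem Data.e0_apply_of_ne {i : Fin n} (h0 : i ≠ D.c 0) (h1 : i ≠ D.c 1) : D.e0 i = 0 := by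
  unfold Data.e0
  rw [sv_apply, if_neg h0, if_neg h1, mul_zero, add_zero]

theorem Data.e1_apply_of_ne {i : Fin n} (h0 : i ≠ D.c 2) (h1 : i ≠ D.c 3) : D.e1 i = 0 := by
  unfold Data.e1
  rw [sv_apply, if_neg h0, if_neg h1, mul_zero, add_zero]

theorem Data.e2_apply_of_ne {i : Fin n} (h0 : i ≠ D.c 4) (h1 : i ≠ D.c 5) : D.e2 i = 0 := by
  unfold Data.e2
  rw [sv_apply, if_neg h0, if_neg h1, mul_zero, add_zero]

theorem Data.f0_apply_of_ne {i : Fin n} (h0 : i ≠ D.c 0) (h1 : i ≠ D.c 1) : D.f0 i = 0 := by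
  unfold Data.f0
  rw [Pi.smul_apply, sv_apply, if_neg h0, if_neg h1, mul_zero, add_zero, smul_zero]

theorem Data.f1_apply_of_ne {i : Fin n} (h0 : i ≠ D.c 2) (h1 : i ≠ D.c 3) : D.f1 i = 0 := by
  unfold Data.f1
  rw [Pi.smul_apply, sv_apply, if_neg h0, if_neg h1, mul_zero, add_zero, smul_zero]

theorem Data.rp01 : RatPair φ F₀ D.e0 D.e1 :=
  ratPair_of_coord D.e0_rat D.e1_rat D.sp01 D.e0_ne (D.c 2)
    (D.e0_apply_of_ne (D.cne 2 0 (by decide)) (D.cne 2 1 (by decide)))
    (by rw [D.e1_apply_c2]; exact one_ne_zero)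

theorem Data.rp10 : RatPair φ F₀ D.e1 D.e0 :=
  ratPair_of_coord D.e1_rat D.e0_rat D.sp01.symm D.e1_ne (D.c 0)
    (D.e1_apply_of_ne (D.cne 0 2 (by decide)) (D.cne 0 3 (by decide)))
    (by rw [D.e0_apply_c0]; exact one_ne_zero)

theorem Data.rp02 : RatPair φ F₀ D.e0 D.e2 :=
  ratPair_of_coord D.e0_rat D.e2_rat D.sp02 D.e0_ne (D.c 4)
    (D.e0_apply_of_ne (D.cne 4 0 (by decide)) (D.cne 4 1 (by decide)))
    (by rw [D.e2_apply_c4]; exact one_ne_zero)

theorem Data.rp12 : RatPair φ F₀ D.e1 D.e2 :=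
  ratPair_of_coord D.e1_rat D.e2_rat D.sp12 D.e1_ne (D.c 4)
    (D.e1_apply_of_ne (D.cne 4 2 (by decide)) (D.cne 4 3 (by decide)))
    (by rw [D.e2_apply_c4]; exact one_ne_zero)

theorem Data.rpf1e2 : RatPair φ F₀ D.f1 D.e2 :=
  ratPair_of_coord D.f1_rat D.e2_rat D.spf1e2 D.f1_ne (D.c 4)
    (D.f1_apply_of_ne (D.cne 4 2 (by decide)) (D.cne 4 3 (by decide)))
    (by rw [D.e2_apply_c4]; exact one_ne_zero)

theorem Data.rpf1e0 : RatPair φ F₀ D.f1 D.e0 :=
  ratPair_of_coord D.f1_rat D.e0_rat D.spf1e0 D.f1_ne (D.c 0)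
    (D.f1_apply_of_ne (D.cne 0 2 (by decide)) (D.cne 0 3 (by decide)))
    (by rw [D.e0_apply_c0]; exact one_ne_zero)

theorem Data.rpe0f1 : RatPair φ F₀ D.e0 D.f1 :=
  ratPair_of_coord D.e0_rat D.f1_rat D.spf1e0.symm D.e0_ne (D.c 2)
    (D.e0_apply_of_ne (D.cne 2 0 (by decide)) (D.cne 2 1 (by decide)))
    (by
      unfold Data.f1
      rw [Pi.smul_apply, sv_apply, if_pos rfl, if_neg (D.cne 2 3 (by decide)), mul_zero, add_zero,
        smul_eq_mul, mul_one]
      exact inv_ne_zero D.φd_ne)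

end stdpairs

end Cfsg.Agent.H28SuSub
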