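import Mathlib
import Cfsg.Agent.Lib.Helper28.SuSubA
import Cfsg.Agent.Lib.Helper11.UnitaryGeom

/-!
# Subfield subgroups of the special unitary group (helper28), part B: the rational unitary group
and its transitivity properties (via Witt's lemma over the subfield)
-/

set_option autoImplicit false

namespace Cfsg.Agent.H28SuSub

open Cfsg Matrix Cfsg.Agent.Helper11.Herm Cfsg.Agent.Helper28.SuSingMax
open Cfsg.Agent.Helper11
open scoped Cfsg.Agent.H28SuSub

variable {F : Type*} [Field F] {n : ℕ} {φ : F →+* F} {F₀ : Subfield F}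

/-! ### elements preserving the rational structure -/

/-- elements mapping rational vectors to rational vectors -/
def InR (F₀ : Subfield F) (g : GL (Fin n) F) : Prop := ∀ v : Fin n → F, RatV F₀ v → RatV F₀ (g • v)

theorem inR_one : InR F₀ (1 : GL (Fin n) F) := fun v hv => by rw [one_smul]; exact hv

theorem inR_mul {g h : GL (Fin n) F} (hg : InR F₀ g) (hh : InR F₀ h) : InR F₀ (g * h) :=
  fun v hv => by rw [mul_smul]; exact hg _ (hh v hv)

theorem inR_pow {g : GL (Fin n) F} (hg : InR F₀ g) (k : ℕ) : InR F₀ (g ^ k) := by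
  induction k with
  | zero => rw [pow_zero]; exact inR_one
  | succ k ih => rw [pow_succ]; exact inR_mul ih hg

theorem inv_eq_pow [Finite F] (g : GL (Fin n) F) : g⁻¹ = g ^ (orderOf g - 1) := by
  rw [inv_eq_iff_mul_eq_one, ← pow_succ']
  have : 0 < orderOf g := orderOf_pos g
  rw [show orderOf g - 1 + 1 = orderOf g by omega]
  exact pow_orderOf_eq_one g

theorem inR_inv [Finite F] {g : GL (Fin n) F} (hg : InR F₀ g) : InR F₀ g⁻¹ := by
  rw [inv_eq_pow g]
  exact inR_pow hg _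

/-- the rational special unitary group -/
def R0 (n : ℕ) (φ : F →+* F) (F₀ : Subfield F) [Finite F] : Subgroup (GL (Fin n) F) where
  carrier := {g | g ∈ SUg n φ ∧ InR F₀ g}
  mul_mem' := fun h₁ h₂ => ⟨(SUg n φ).mul_mem h₁.1 h₂.1, inR_mul h₁.2 h₂.2⟩
  one_mem' := ⟨(SUg n φ).one_mem, inR_one⟩
  inv_mem' := fun h => ⟨(SUg n φ).inv_mem h.1, inR_inv h.2⟩

theorem mem_R0_iff [Finite F] {g : GL (Fin n) F} :
    g ∈ R0 n φ F₀ ↔ g ∈ SUg n φ ∧ InR F₀ g := Iff.rfl

theorem R0_le_SUg [Finite F] : R0 n φ F₀ ≤ SUg n φ := fun _ h => h.1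

theorem ratV_smul_R0 [Finite F] {g : GL (Fin n) F} (hg : g ∈ R0 n φ F₀) {x : Fin n → F}
    (hx : RatV F₀ x) : RatV F₀ (g • x) := hg.2 x hx

theorem ratV_inv_smul_R0 [Finite F] {g : GL (Fin n) F} (hg : g ∈ R0 n φ F₀) {x : Fin n → F}
    (hx : RatV F₀ x) : RatV F₀ (g⁻¹ • x) := ((R0 n φ F₀).inv_mem hg).2 x hx

/-- elements normalising the rational structure -/
def InN (F₀ : Subfield F) (k : GL (Fin n) F) : Prop :=
  ∃ s : F, s ≠ 0 ∧ ∀ v : Fin n → F, RatV F₀ v → RatV F₀ (s • (k • v))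

theorem inN_one : InN F₀ (1 : GL (Fin n) F) :=
  ⟨1, one_ne_zero, fun v hv => by rw [one_smul, one_smul]; exact hv⟩

theorem inN_mul {k₁ k₂ : GL (Fin n) F} (h₁ : InN F₀ k₁) (h₂ : InN F₀ k₂) :
    InN F₀ (k₁ * k₂) := by
  obtain ⟨s₁, hs₁, h₁⟩ := h₁
  obtain ⟨s₂, hs₂, h₂⟩ := h₂
  refine ⟨s₁ * s₂, mul_ne_zero hs₁ hs₂, fun v hv => ?_⟩
  have := h₁ _ (h₂ v hv)
  rwa [smul_comm k₁ s₂, smul_smul, ← mul_smul] at this

theorem inN_pow {k : GL (Fin n) F} (h : InN F₀ k) (m : ℕ) : InN F₀ (k ^ m) := by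
  induction m with
  | zero => rw [pow_zero]; exact inN_one
  | succ m ih => rw [pow_succ]; exact inN_mul ih h

theorem inN_inv [Finite F] {k : GL (Fin n) F} (h : InN F₀ k) : InN F₀ k⁻¹ := by
  rw [inv_eq_pow k]
  exact inN_pow h _

/-- the normaliser of the rational structure in the special unitary group -/
def N0 (n : ℕ) (φ : F →+* F) (F₀ : Subfield F) [Finite F] : Subgroup (GL (Fin n) F) where
  carrier := {k | k ∈ SUg n φ ∧ InN F₀ k}
  mul_mem' := fun h₁ h₂ => ⟨(SUg n φ).mul_mem h₁.1 h₂.1, inN_mul h₁.2 h₂.2⟩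
  one_mem' := ⟨(SUg n φ).one_mem, inN_one⟩
  inv_mem' := fun h => ⟨(SUg n φ).inv_mem h.1, inN_inv h.2⟩

theorem mem_N0_iff [Finite F] {k : GL (Fin n) F} :
    k ∈ N0 n φ F₀ ↔ k ∈ SUg n φ ∧ InN F₀ k := Iff.rfl

theorem R0_le_N0 [Finite F] : R0 n φ F₀ ≤ N0 n φ F₀ := fun g hg =>
  ⟨hg.1, 1, one_ne_zero, fun v hv => by rw [one_smul]; exact hg.2 v hv⟩

/-! ### the involution on the subfield -/

section sub

variable (D : Data φ F₀ n)

/-- the restriction of the involution to the subfield -/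
def Data.φ₀ : ↥F₀ →+* ↥F₀ := (φ.comp F₀.subtype).codRestrict F₀ (fun x => D.hst _ x.2)

theorem Data.φ₀_coe (x : ↥F₀) : ((D.φ₀ x : ↥F₀) : F) = φ (x : F) := rfl

theorem Data.hφ₀ : D.φ₀ ≠ RingHom.id ↥F₀ := by
  intro h
  apply D.hω'
  have h1 := congrArg (fun f : ↥F₀ →+* ↥F₀ => ((f ⟨D.ω, D.hω⟩ : ↥F₀) : F)) h
  exact h1

theorem Data.hφ₀φ₀ (x : ↥F₀) : D.φ₀ (D.φ₀ x) = x := by
  apply Subtype.ext
  rw [Data.φ₀_coe, Data.φ₀_coe, D.hφφ]

end sub

/-! ### embedding vectors over the subfield -/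

variable (F₀)

/-- the embedding of vectors over the subfield -/
def emb (x : Fin n → ↥F₀) : Fin n → F := fun i => (x i : F)

theorem emb_apply (x : Fin n → ↥F₀) (i : Fin n) : emb F₀ x i = (x i : F) := rfl

theorem emb_add (x y : Fin n → ↥F₀) : emb F₀ (x + y) = emb F₀ x + emb F₀ y := by
  funext i
  simp [emb]

theorem emb_smul (c : ↥F₀) (x : Fin n → ↥F₀) : emb F₀ (c • x) = (c : F) • emb F₀ x := by
  funext i
  simp [emb]

theorem emb_zero : emb F₀ (0 : Fin n → ↥F₀) = 0 := by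
  funext i
  simp [emb]

theorem ratV_emb (x : Fin n → ↥F₀) : RatV F₀ (emb F₀ x) := fun i => (x i).2

theorem exists_emb {v : Fin n → F} (hv : RatV F₀ v) : ∃ x, emb F₀ x = v :=
  ⟨fun i => ⟨v i, hv i⟩, rfl⟩

theorem emb_injective : Function.Injective (emb (n := n) F₀) := by
  intro x y h
  funext i
  exact Subtype.ext (congrFun h i)

theorem emb_eq_comp (x : Fin n → ↥F₀) : emb F₀ x = (F₀.subtype : ↥F₀ →+* F) ∘ x := rfl

theorem emb_mulVec (A : Matrix (Fin n) (Fin n) ↥F₀) (x : Fin n → ↥F₀) :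
    emb F₀ (A *ᵥ x) = (A.map (F₀.subtype : ↥F₀ →+* F)) *ᵥ emb F₀ x := by
  rw [emb_eq_comp, emb_eq_comp]
  funext i
  exact RingHom.map_mulVec (F₀.subtype : ↥F₀ →+* F) A x i

variable {F₀}

theorem hdot_emb (D : Data φ F₀ n) (x y : Fin n → ↥F₀) :
    ((hdot D.φ₀ x y : ↥F₀) : F) = hdot φ (emb F₀ x) (emb F₀ y) := by
  rw [hdot_def, hdot_def]
  show (F₀.subtype : ↥F₀ →+* F) (∑ i, x i * D.φ₀ (y i)) = _
  rw [map_sum]
  rfl

theorem isU_map (D : Data φ F₀ n) {M₀ : Matrix (Fin n) (Fin n) ↥F₀} (h : IsU D.φ₀ M₀) :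
    IsU φ (M₀.map (F₀.subtype : ↥F₀ →+* F)) := by
  unfold IsU at h ⊢
  have h1 : (M₀.map (F₀.subtype : ↥F₀ →+* F)).map φ =
      (M₀.map D.φ₀).map (F₀.subtype : ↥F₀ →+* F) := by
    ext i j
    rfl
  rw [h1, ← Matrix.transpose_map, ← Matrix.map_mul, h, Matrix.map_one _ (map_zero _) (map_one _)]

/-- Witt's lemma for the rational special unitary group: rational families with the same Gram
matrix are conjugate, if the target avoids one coordinate -/
theorem witt_rat [Finite F] (D : Data φ F₀ n) (k : ℕ) (x y : Fin k → Fin n → ↥F₀)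
    (hx : LinearIndependent ↥F₀ x) (hy : LinearIndependent ↥F₀ y)
    (hxy : ∀ i j, hdot D.φ₀ (x i) (x j) = hdot D.φ₀ (y i) (y j))
    (l : Fin n) (hl : ∀ i, y i l = 0) :
    ∃ g ∈ R0 n φ F₀, ∀ i, g • emb F₀ (x i) = emb F₀ (y i) := by
  classical
  obtain ⟨M₀, hM₀, hM₀x⟩ := witt_family_UG D.φ₀ D.hφ₀ D.hφ₀φ₀ k x y hx hy hxy
  obtain ⟨A, hAdef⟩ : ∃ A : Matrix (Fin n) (Fin n) F, A = M₀.map (F₀.subtype : ↥F₀ →+* F) :=
    ⟨_, rfl⟩
  have hA : IsU φ A := by rw [hAdef]; exact isU_map D hM₀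
  have hAent : ∀ i j, A i j ∈ F₀ := by
    intro i j
    rw [hAdef]
    exact (M₀ i j).2
  obtain ⟨δ, hδdef⟩ : ∃ δ : F, δ = A.det := ⟨_, rfl⟩
  have hδ : δ * φ δ = 1 := by rw [hδdef]; exact IsU.det_norm φ hA
  have hδ0 : δ ≠ 0 := by
    intro h
    rw [h, zero_mul] at hδ
    exact zero_ne_one hδ
  have hδF : δ ∈ F₀ := by
    rw [hδdef, hAdef]
    have : (M₀.map (F₀.subtype : ↥F₀ →+* F)).det = (F₀.subtype : ↥F₀ →+* F) M₀.det := by
      rw [RingHom.map_det, RingHom.mapMatrix_apply]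
    rw [this]
    exact (M₀.det).2
  obtain ⟨d, hd⟩ : ∃ d : Fin n → F, d = fun i => if i = l then δ⁻¹ else 1 := ⟨_, rfl⟩
  have hdF : ∀ i, d i ∈ F₀ := by
    intro i
    rw [hd]
    show (if i = l then δ⁻¹ else 1) ∈ F₀
    split_ifs
    · exact F₀.inv_mem hδF
    · exact F₀.one_mem
  have hDm : IsU φ (Matrix.diagonal d) := by
    apply isU_diagonal
    intro i
    rw [hd]
    show (if i = l then δ⁻¹ else 1) * φ (if i = l then δ⁻¹ else 1) = 1
    split_ifs
    · rw [map_inv₀, ← mul_inv, hδ, inv_one]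
    · rw [map_one, mul_one]
  have hB : IsU φ (Matrix.diagonal d * A) := IsU.mul φ hDm hA
  have hdetB : (Matrix.diagonal d * A).det = 1 := by
    rw [Matrix.det_mul, Matrix.det_diagonal, ← hδdef, hd, Finset.prod_ite_eq' Finset.univ l,
      if_pos (Finset.mem_univ _)]
    exact inv_mul_cancel₀ hδ0
  obtain ⟨g, hg⟩ : ∃ g : GL (Fin n) F, (g : Matrix (Fin n) (Fin n) F) = Matrix.diagonal d * A :=
    ⟨Matrix.GeneralLinearGroup.mkOfDetNeZero _ (by rw [hdetB]; exact one_ne_zero), rfl⟩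
  have hgsmul : ∀ v : Fin n → F, g • v = fun i => d i * (A *ᵥ v) i := by
    intro v
    rw [smul_def, hg, ← Matrix.mulVec_mulVec]
    funext i
    rw [Matrix.mulVec_diagonal]
  have hgU : g ∈ UG (Fin n) φ := by
    rw [mem_UG_iff, hg]
    exact hB
  have hgS : g ∈ Cfsg.Geo.specialLinear (Fin n) F := by
    rw [Cfsg.Agent.Helper28.mem_specialLinear_iff]
    apply Units.ext
    rw [Matrix.GeneralLinearGroup.val_det_apply, hg, hdetB]
    rfl
  refine ⟨g, ⟨⟨hgU, hgS⟩, ?_⟩, ?_⟩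
  · intro v hv
    rw [hgsmul]
    intro i
    apply F₀.mul_mem (hdF i)
    rw [Matrix.mulVec, dotProduct]
    apply F₀.sum_mem
    intro j _
    exact F₀.mul_mem (hAent i j) (hv j)
  · intro i
    rw [hgsmul, hAdef, ← emb_mulVec, hM₀x]
    funext j
    rw [hd]
    show (if j = l then δ⁻¹ else 1) * emb F₀ (y i) j = emb F₀ (y i) j
    split_ifs with hj
    · rw [hj, emb_apply, hl i]
      simp
    · rw [one_mul]

theorem linInd_pair {a' b' : Fin n → ↥F₀} (hne : emb F₀ a' ≠ 0)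
    (hind : ∀ t : F, emb F₀ b' ≠ t • emb F₀ a') : LinearIndependent ↥F₀ ![a', b'] := by
  rw [LinearIndependent.pair_iff]
  intro s t h
  have h' := congrArg (emb F₀) h
  rw [emb_add, emb_smul, emb_smul, emb_zero] at h'
  by_cases ht : t = 0
  · rw [ht] at h'
    simp only [ZeroMemClass.coe_zero, zero_smul, add_zero] at h'
    rcases smul_eq_zero.mp h' with h1 | h1
    · exact ⟨Subtype.ext h1, ht⟩
    · exact absurd h1 hne
  · exfalso
    have ht' : (t : F) ≠ 0 := fun h0 => ht (Subtype.ext h0)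
    apply hind (-(s : F) / (t : F))
    have h2 : (t : F) • emb F₀ b' = -((s : F) • emb F₀ a') := by
      rw [eq_neg_iff_add_eq_zero, add_comm]
      exact h'
    have h3 : emb F₀ b' = (t : F)⁻¹ • ((t : F) • emb F₀ b') := by
      rw [smul_smul, inv_mul_cancel₀ ht', one_smul]
    rw [h3, h2, smul_neg, smul_smul, ← neg_smul]
    congr 1
    field_simp

/-- the rational special unitary group moves any nonzero rational singular vector to the first
standard one -/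
theorem trans_vec_std [Finite F] (D : Data φ F₀ n) {a : Fin n → F} (ha : RatV F₀ a)
    (hs : hdot φ a a = 0) (h0 : a ≠ 0) : ∃ g ∈ R0 n φ F₀, g • a = D.e0 := by
  obtain ⟨a', rfl⟩ := exists_emb F₀ ha
  obtain ⟨e', he'⟩ := exists_emb F₀ D.e0_rat
  have ha'0 : a' ≠ 0 := by
    intro h
    apply h0
    rw [h, emb_zero]
  have he'0 : e' ≠ 0 := by
    intro h
    apply D.e0_ne
    rw [← he', h, emb_zero]
  obtain ⟨g, hg, hgx⟩ := witt_rat D 1 ![a'] ![e']
    (linearIndependent_unique_iff.mpr ha'0) (linearIndependent_unique_iff.mpr he'0)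
    (by
      intro i j
      rw [Subsingleton.elim i 0, Subsingleton.elim j 0]
      apply Subtype.ext
      rw [hdot_emb, hdot_emb]
      show hdot φ (emb F₀ a') (emb F₀ a') = hdot φ (emb F₀ e') (emb F₀ e')
      rw [hs, he', D.e0_sing])
    (D.c 6)
    (by
      intro i
      rw [Subsingleton.elim i 0]
      apply Subtype.ext
      show emb F₀ e' (D.c 6) = 0
      rw [he']
      exact D.e0_apply_of_ne (D.cne 6 0 (by decide)) (D.cne 6 1 (by decide)))
  refine ⟨g, hg, ?_⟩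
  have := hgx 0
  rw [← he']
  exact this

theorem RatPair.smul [Finite F] {a b : Fin n → F} (h : RatPair φ F₀ a b) {g : GL (Fin n) F}
    (hg : g ∈ R0 n φ F₀) : RatPair φ F₀ (g • a) (g • b) where
  ra := ratV_smul_R0 hg h.ra
  rb := ratV_smul_R0 hg h.rb
  sp := h.sp.smul hg.1.1
  ne := smul_ne_zero_of_ne g h.ne
  ind := by
    intro t h0
    apply h.ind t
    have := congrArg (fun x => g⁻¹ • x) h0
    simp only [inv_smul_smul] at this
    rw [this, smul_comm, inv_smul_smul]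

/-- the rational special unitary group moves any rational pair to the standard one -/
theorem trans_pair_std [Finite F] (D : Data φ F₀ n) {a b : Fin n → F}
    (p : RatPair φ F₀ a b) : ∃ g ∈ R0 n φ F₀, g • a = D.e0 ∧ g • b = D.e1 := by
  obtain ⟨a', ha'⟩ := exists_emb F₀ p.ra
  obtain ⟨b', hb'⟩ := exists_emb F₀ p.rb
  obtain ⟨e', he'⟩ := exists_emb F₀ D.e0_rat
  obtain ⟨f', hf'⟩ := exists_emb F₀ D.e1_rat
  have q := D.rp01
  obtain ⟨g, hg, hgx⟩ := witt_rat D 2 ![a', b'] ![e', f']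
    (linInd_pair (by rw [ha']; exact p.ne) (by rw [ha', hb']; exact p.ind))
    (linInd_pair (by rw [he']; exact q.ne) (by rw [he', hf']; exact q.ind))
    (by
      intro i j
      apply Subtype.ext
      rw [hdot_emb, hdot_emb]
      fin_cases i <;> fin_cases j
      · show hdot φ (emb F₀ a') (emb F₀ a') = hdot φ (emb F₀ e') (emb F₀ e')
        rw [ha', he', p.sp.aa, q.sp.aa]
      · show hdot φ (emb F₀ a') (emb F₀ b') = hdot φ (emb F₀ e') (emb F₀ f')
        rw [ha', hb', he', hf', p.sp.ab, q.sp.ab]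
      · show hdot φ (emb F₀ b') (emb F₀ a') = hdot φ (emb F₀ f') (emb F₀ e')
        rw [ha', hb', he', hf', p.sp.ba, q.sp.ba]
      · show hdot φ (emb F₀ b') (emb F₀ b') = hdot φ (emb F₀ f') (emb F₀ f')
        rw [hb', hf', p.sp.bb, q.sp.bb])
    (D.c 6)
    (by
      intro i
      apply Subtype.ext
      fin_cases i
      · show emb F₀ e' (D.c 6) = 0
        rw [he']
        exact D.e0_apply_of_ne (D.cne 6 0 (by decide)) (D.cne 6 1 (by decide))
      · show emb F₀ f' (D.c 6) = 0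
        rw [hf']
        exact D.e1_apply_of_ne (D.cne 6 2 (by decide)) (D.cne 6 3 (by decide)))
  refine ⟨g, hg, ?_, ?_⟩
  · have := hgx 0
    rw [← ha', ← he']
    exact this
  · have := hgx 1
    rw [← hb', ← hf']
    exact this

/-- the rational special unitary group is transitive on the nonzero rational singular vectors -/
theorem ratTrans_vec [Finite F] (D : Data φ F₀ n) {u w : Fin n → F} (hu : RatV F₀ u)
    (hw : RatV F₀ w) (hus : hdot φ u u = 0) (hws : hdot φ w w = 0) (hu0 : u ≠ 0) (hw0 : w ≠ 0) :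
    ∃ g ∈ R0 n φ F₀, g • u = w := by
  obtain ⟨g₁, hg₁, e₁⟩ := trans_vec_std D hu hus hu0
  obtain ⟨g₂, hg₂, e₂⟩ := trans_vec_std D hw hws hw0
  refine ⟨g₂⁻¹ * g₁, (R0 n φ F₀).mul_mem ((R0 n φ F₀).inv_mem hg₂) hg₁, ?_⟩
  rw [mul_smul, e₁, ← e₂, inv_smul_smul]

/-- the rational special unitary group is transitive on the rational pairs -/
theorem ratTrans_pair [Finite F] (D : Data φ F₀ n) {a b a' b' : Fin n → F}
    (h : RatPair φ F₀ a b) (h' : RatPair φ F₀ a' b') :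
    ∃ g ∈ R0 n φ F₀, g • a = a' ∧ g • b = b' := by
  obtain ⟨g₁, hg₁, e₁, e₁'⟩ := trans_pair_std D h
  obtain ⟨g₂, hg₂, e₂, e₂'⟩ := trans_pair_std D h'
  refine ⟨g₂⁻¹ * g₁, (R0 n φ F₀).mul_mem ((R0 n φ F₀).inv_mem hg₂) hg₁, ?_, ?_⟩
  · rw [mul_smul, e₁, ← e₂, inv_smul_smul]
  · rw [mul_smul, e₁', ← e₂', inv_smul_smul]

end Cfsg.Agent.H28SuSub
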