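import Mathlib
import Cfsg.Agent.Lib.Helper28.SuSubB

/-!
# Subfield subgroups of the special unitary group (helper28), part C: an irrational short root
element forces the whole special unitary group
-/

set_option autoImplicit false

namespace Cfsg.Agent.H28SuSub

open Cfsg Matrix Cfsg.Agent.Helper11.Herm Cfsg.Agent.Helper28.SuSingMax
open Cfsg.Agent.Helper11
open scoped Cfsg.Agent.H28SuSub

variable {F : Type*} [Field F] {n : ℕ} {φ : F →+* F} {F₀ : Subfield F}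
  {M : Subgroup (GL (Fin n) F)}

theorem Data.seven_le (D : Data φ F₀ n) : 7 ≤ n := by
  have := Fintype.card_le_of_injective D.c D.hc
  simpa using this

/-! ### rational elements -/

theorem UT_mem_R0 [Finite F] (D : Data φ F₀ n) {v : Fin n → F} (hv : RatV F₀ v)
    (hs : hdot φ v v = 0) {c : F} (hc : c ∈ F₀) (hc' : c + φ c = 0) : UT φ v c ∈ R0 n φ F₀ := by
  refine ⟨UT_mem_SUg φ D.hφφ v hs c hc', fun x hx => ?_⟩
  rw [UT_smul φ v hs]
  exact ratV_add hx (ratV_smul (F₀.mul_mem hc (D.rat_hdot hx hv)) hv)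

theorem S_mem_R0 [Finite F] (D : Data φ F₀ n) {a b : Fin n → F} (ha : RatV F₀ a)
    (hb : RatV F₀ b) (p : SPair φ a b) {c : F} (hc : c ∈ F₀) : S φ a b c ∈ R0 n φ F₀ := by
  refine ⟨S_mem_SUg D.hφφ p c, fun x hx => ?_⟩
  rw [S_smul p]
  exact ratV_sub (ratV_add hx (ratV_smul (F₀.mul_mem hc (D.rat_hdot hx ha)) hb))
    (ratV_smul (F₀.mul_mem (D.hst _ hc) (D.rat_hdot hx hb)) ha)

/-! ### transfer -/

/-- transfer of short root elements between rational pairs -/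
theorem S_transfer [Finite F] (D : Data φ F₀ n) (hR : R0 n φ F₀ ≤ M) {a b a' b' : Fin n → F}
    (h : RatPair φ F₀ a b) (h' : RatPair φ F₀ a' b') {c : F} (hc : S φ a b c ∈ M) :
    S φ a' b' c ∈ M := by
  obtain ⟨g, hg, e₁, e₂⟩ := ratTrans_pair D h h'
  rw [← e₁, ← e₂, ← conj_S hg.1.1 h.sp]
  exact M.mul_mem (M.mul_mem (hR hg) hc) (M.inv_mem (hR hg))

/-- transfer of transvections between nonzero rational singular vectors -/
theorem UT_transfer [Finite F] (D : Data φ F₀ n) (hR : R0 n φ F₀ ≤ M) {a a' : Fin n → F}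
    (ha : RatV F₀ a) (ha' : RatV F₀ a') (has : hdot φ a a = 0) (ha's : hdot φ a' a' = 0)
    (ha0 : a ≠ 0) (ha'0 : a' ≠ 0) {c : F} (hc : UT φ a c ∈ M) : UT φ a' c ∈ M := by
  obtain ⟨g, hg, e₁⟩ := ratTrans_vec D ha ha' has ha's ha0 ha'0
  rw [← e₁, ← conj_UT' φ hg.1.1 a has]
  exact M.mul_mem (M.mul_mem (hR hg) hc) (M.inv_mem (hR hg))

/-! ### commutator relations -/

theorem S_comm3 (hφφ : ∀ x, φ (φ x) = x) {a b b' c' : Fin n → F} (pab : SPair φ a b)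
    (pbc : SPair φ b' c') (pac : SPair φ a c') (pba : SPair φ b' a) (hcb : hdot φ c' b = 0)
    (hbb : hdot φ b' b = 1) (s t : F) :
    S φ a b s * S φ b' c' t * (S φ a b s)⁻¹ = S φ b' c' t * S φ a c' (-(s * t)) := by
  have hU : S φ a b s ∈ UG (Fin n) φ := (S_mem_SUg hφφ pab s).1
  have e1 : S φ a b s • b' = b' + (-φ s) • a := by
    rw [S_smul pab, pba.ab, hbb, mul_zero, zero_smul, add_zero, mul_one]
    module
  have e2 : S φ a b s • c' = c' := by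
    rw [S_smul pab, pac.ba, hcb, mul_zero, mul_zero, zero_smul, zero_smul, add_zero, sub_zero]
  rw [conj_S hU pbc, e1, e2, S_add_left pbc (pac.smul_left _) (pba.smul_right _),
    S_smul_left hφφ pac]
  congr 2
  rw [map_neg, hφφ]
  ring

theorem S_conj_UT (hφφ : ∀ x, φ (φ x) = x) {a b w : Fin n → F} (pab : SPair φ a b)
    (paw : SPair φ a w) (hwb : hdot φ w b = 1) (s τ : F) (hτ : τ + φ τ = 0) :
    S φ a b s * UT φ w τ * (S φ a b s)⁻¹ =
      UT φ w τ * UT φ a (τ * (s * φ s)) * S φ a w (-(τ * s)) := by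
  have hU : S φ a b s ∈ UG (Fin n) φ := (S_mem_SUg hφφ pab s).1
  have e1 : S φ a b s • w = w + (-φ s) • a := by
    rw [S_smul pab, paw.ba, hwb, mul_zero, zero_smul, add_zero, mul_one]
    module
  rw [conj_UT' φ hU w paw.bb, e1, UT_add_orth (paw.smul_left _) τ hτ, UT_smul_vec φ a paw.aa,
    S_smul_left hφφ paw]
  congr 2
  · congr 2
    rw [map_neg, hφφ]
    ring
  · rw [map_neg, hφφ]
    ring

/-! ### step 1: all short root elements along rational pairs -/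

theorem all_S [Fintype F] (D : Data φ F₀ n) (r : ℕ) (hr : r.Prime)
    (hcard : Fintype.card F = Nat.card F₀ ^ r) (hR : R0 n φ F₀ ≤ M)
    {a b : Fin n → F} (hab : RatPair φ F₀ a b) {c₀ : F} (hc₀ : c₀ ∉ F₀)
    (hS : S φ a b c₀ ∈ M) :
    ∀ a' b' : Fin n → F, RatPair φ F₀ a' b' → ∀ c : F, S φ a' b' c ∈ M := by
  let L : Subalgebra F₀ F :=
    { carrier := {s | S φ D.e0 D.e1 s ∈ M}
      mul_mem' := by
        intro s t hs ht
        have h1 : S φ D.f1 D.e2 t ∈ M := S_transfer D hR D.rp01 D.rpf1e2 ht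
        have h2 := S_comm3 D.hφφ D.sp01 D.spf1e2 D.sp02 D.spf1e0 D.sp12.ba D.f1_e1 s t
        have h3 : S φ D.e0 D.e2 (-(s * t)) ∈ M := by
          have h4 : S φ D.e0 D.e2 (-(s * t)) =
              (S φ D.f1 D.e2 t)⁻¹ * (S φ D.e0 D.e1 s * S φ D.f1 D.e2 t * (S φ D.e0 D.e1 s)⁻¹) := by
            rw [h2]; group
          rw [h4]
          exact M.mul_mem (M.inv_mem h1) (M.mul_mem (M.mul_mem hs h1) (M.inv_mem hs))
        have h5 : S φ D.e0 D.e1 (-(s * t)) ∈ M := S_transfer D hR D.rp02 D.rp01 h3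
        have h6 := M.inv_mem h5
        rw [S_inv D.sp01, neg_neg] at h6
        exact h6
      add_mem' := by
        intro s t hs ht
        show S φ D.e0 D.e1 (s + t) ∈ M
        rw [← S_mul D.sp01]
        exact M.mul_mem hs ht
      algebraMap_mem' := by
        intro x
        exact hR (S_mem_R0 D D.e0_rat D.e1_rat D.sp01 x.2) }
  have hL : L = ⊤ := Cfsg.Agent.Helper28.Subf.subalgebra_eq_top F₀ r hr hcard L c₀ hc₀
    (S_transfer D hR hab D.rp01 hS)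
  intro a' b' h' c
  have : c ∈ L := by rw [hL]; exact Algebra.mem_top
  exact S_transfer D hR D.rp01 h' this

/-! ### step 2: all transvections along rational singular vectors -/

theorem cen_e0 [Finite F] (D : Data φ F₀ n) (hR : R0 n φ F₀ ≤ M)
    (hS : ∀ a' b' : Fin n → F, RatPair φ F₀ a' b' → ∀ c : F, S φ a' b' c ∈ M) :
    D.e0 ∈ Cen φ M := by
  have hsq : ∀ s : F, UT φ D.e0 (D.τ * (s * φ s)) ∈ M := by
    intro s
    have h1 := S_conj_UT D.hφφ D.sp01 D.spf1e0.symm D.f1_e1 s D.τ D.τ_tr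
    have h2 : UT φ D.f1 D.τ ∈ M := hR (UT_mem_R0 D D.f1_rat D.f1_sing D.τ_mem D.τ_tr)
    have h3 : S φ D.e0 D.f1 (-(D.τ * s)) ∈ M := hS _ _ D.rpe0f1 _
    have h0 : S φ D.e0 D.e1 s ∈ M := hS _ _ D.rp01 _
    have h4 : UT φ D.e0 (D.τ * (s * φ s)) =
        (UT φ D.f1 D.τ)⁻¹ * (S φ D.e0 D.e1 s * UT φ D.f1 D.τ * (S φ D.e0 D.e1 s)⁻¹) *
          (S φ D.e0 D.f1 (-(D.τ * s)))⁻¹ := by
      rw [h1]; group
    rw [h4]
    exact M.mul_mem (M.mul_mem (M.inv_mem h2) (M.mul_mem (M.mul_mem h0 h2) (M.inv_mem h0)))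
      (M.inv_mem h3)
  refine ⟨D.e0_sing, fun c hc => ?_⟩
  by_cases hc0 : c = 0
  · rw [hc0, UT_zero φ _ D.e0_sing]
    exact M.one_mem
  · have hfix : φ (c / D.τ) = c / D.τ := by
      rw [map_div₀, D.φτ]
      have : φ c = -c := by linear_combination hc
      rw [this, neg_div_neg_eq]
    obtain ⟨l, -, hl⟩ := D.hN1 (c / D.τ) (div_ne_zero hc0 D.τ_ne) hfix
    have := hsq l
    rw [hl, mul_div_cancel₀ _ D.τ_ne] at this
    exact this

theorem cen_rat [Finite F] (D : Data φ F₀ n) (hR : R0 n φ F₀ ≤ M)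
    (hS : ∀ a' b' : Fin n → F, RatPair φ F₀ a' b' → ∀ c : F, S φ a' b' c ∈ M)
    {v : Fin n → F} (hv : RatV F₀ v) (hvs : hdot φ v v = 0) : v ∈ Cen φ M := by
  refine ⟨hvs, fun c hc => ?_⟩
  by_cases hv0 : v = 0
  · rw [hv0, UT_zero_vec]
    exact M.one_mem
  · exact UT_transfer D hR D.e0_rat hv D.e0_sing hvs D.e0_ne hv0 ((cen_e0 D hR hS).2 c hc)

/-! ### step 3: the Siegel elements -/

theorem single_eq_sv {l l' : F} (hll : l ≠ l') (j k : Fin n) :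
    (Pi.single j 1 : Fin n → F) = (l' / (l' - l)) • sv l j k + (-l / (l' - l)) • sv l' j k := by
  have h : l' - l ≠ 0 := sub_ne_zero.mpr hll.symm
  unfold sv
  match_scalars <;> field_simp <;> ring

theorem Data.exists_other (D : Data φ F₀ n) (j : Fin n) :
    ∃ k : Fin n, k ≠ j ∧ k ≠ D.c 0 ∧ k ≠ D.c 1 := by
  by_cases h : j = D.c 2
  · exact ⟨D.c 3, by rw [h]; exact D.cne 3 2 (by decide), D.cne 3 0 (by decide),
      D.cne 3 1 (by decide)⟩
  · exact ⟨D.c 2, fun h' => h h'.symm, D.cne 2 0 (by decide), D.cne 2 1 (by decide)⟩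

theorem Data.rp_e0_sv (D : Data φ F₀ n) {l : F} (hl : l ∈ F₀) (hN : l * φ l = -1)
    {j k : Fin n} (hjk : j ≠ k) (hj0 : j ≠ D.c 0) (hj1 : j ≠ D.c 1) (hk0 : k ≠ D.c 0)
    (hk1 : k ≠ D.c 1) : RatPair φ F₀ D.e0 (sv l j k) :=
  ratPair_of_coord D.e0_rat (ratV_sv hl j k)
    (spair_sv φ D.hNl hN (D.cne 0 1 (by decide)) hjk hj0.symm hk0.symm hj1.symm hk1.symm)
    D.e0_ne j (D.e0_apply_of_ne hj0 hj1)
    (by
      rw [sv_apply, if_pos rfl, if_neg hjk, mul_zero, add_zero]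
      exact one_ne_zero)

/-- the vectors all of whose Siegel elements lie in `M` -/
def QS (hφ : φ ≠ RingHom.id F) (hφφ : ∀ x, φ (φ x) = x) (M : Subgroup (GL (Fin n) F))
    (e : Fin n → F) (he : e ∈ Cen φ M) : AddSubmonoid (Fin n → F) where
  carrier := {w | hdot φ w e = 0 ∧ ∀ μ : F, μ + φ μ + hdot φ w w = 0 → EE φ e w μ ∈ M}
  zero_mem' := by
    refine ⟨hdot_zero_left φ e, fun μ hμ => ?_⟩
    rw [EE_zero_eq_UT φ e μ he.1]
    apply he.2 μ
    rwa [hdot_zero_left, add_zero] at hμ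
  add_mem' := by
    rintro w w' ⟨hw, hw2⟩ ⟨hw', hw'2⟩
    refine ⟨by rw [hdot_add_left, hw, hw', add_zero], fun μ'' hμ'' => ?_⟩
    obtain ⟨μ', hμ'⟩ := Witt.exists_trace_eq φ hφ hφφ (-hdot φ w' w')
      (by rw [map_neg, hdot_conj φ hφφ])
    have hew : hdot φ e w = 0 := hdot_eq_zero_symm φ hφφ _ _ hw
    have hew' : hdot φ e w' = 0 := hdot_eq_zero_symm φ hφφ _ _ hw'
    have h1 := EE_mul φ e w w' (μ'' - μ' + hdot φ w' w) μ' he.1 hw hew hw' hew'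
    have h2 : μ'' - μ' + hdot φ w' w + μ' - hdot φ w' w = μ'' := by ring
    rw [h2] at h1
    rw [← h1]
    refine M.mul_mem (hw2 _ ?_) (hw'2 μ' (by linear_combination hμ'))
    simp only [hdot_add_left, hdot_add_right] at hμ''
    simp only [map_add, map_sub, hdot_conj φ hφφ]
    linear_combination hμ'' - hμ'

theorem mem_QS_iff (hφ : φ ≠ RingHom.id F) (hφφ : ∀ x, φ (φ x) = x) (e : Fin n → F)
    (he : e ∈ Cen φ M) (w : Fin n → F) :
    w ∈ QS hφ hφφ M e he ↔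
      hdot φ w e = 0 ∧ ∀ μ : F, μ + φ μ + hdot φ w w = 0 → EE φ e w μ ∈ M := Iff.rfl

theorem smul_pair_mem_QS (hφ : φ ≠ RingHom.id F) (hφφ : ∀ x, φ (φ x) = x) {e b : Fin n → F}
    (he : e ∈ Cen φ M) (p : SPair φ e b) (c : F) (hS : S φ e b c ∈ M) :
    c • b ∈ QS hφ hφφ M e he := by
  rw [mem_QS_iff]
  have h1 : hdot φ (c • b) e = 0 := by rw [hdot_smul_left, p.ba, mul_zero]
  have h2 : hdot φ e (c • b) = 0 := by rw [hdot_smul_right, p.ab, mul_zero]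
  refine ⟨h1, fun μ hμ => ?_⟩
  have h3 := EE_mul φ e (c • b) 0 0 μ he.1 h1 h2 (hdot_zero_left φ e) (hdot_zero_right φ e)
  rw [add_zero, zero_add, hdot_zero_left, sub_zero] at h3
  rw [← h3, EE_zero_eq_UT φ e μ he.1]
  refine M.mul_mem hS (he.2 μ ?_)
  rw [hdot_smul_left, hdot_smul_right, p.bb, mul_zero, mul_zero, add_zero] at hμ
  exact hμ

theorem smul_self_mem_QS (hφ : φ ≠ RingHom.id F) (hφφ : ∀ x, φ (φ x) = x) {e : Fin n → F}
    (he : e ∈ Cen φ M) (t : F) : t • e ∈ QS hφ hφφ M e he := by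
  rw [mem_QS_iff]
  refine ⟨by rw [hdot_smul_left, he.1, mul_zero], fun μ hμ => ?_⟩
  rw [EE_smul_self φ e t μ he.1]
  apply he.2
  rw [hdot_smul_left, hdot_smul_right, he.1, mul_zero, mul_zero, add_zero] at hμ
  rw [map_sub, map_add, hφφ]
  linear_combination hμ

theorem all_QS [Finite F] (D : Data φ F₀ n) (hR : R0 n φ F₀ ≤ M)
    (hS : ∀ a' b' : Fin n → F, RatPair φ F₀ a' b' → ∀ c : F, S φ a' b' c ∈ M)
    (w : Fin n → F) (hw : hdot φ w D.e0 = 0) :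
    w ∈ QS D.hφ D.hφφ M D.e0 (cen_e0 D hR hS) := by
  classical
  have he := cen_e0 D hR hS
  have hsingle : ∀ j : Fin n, j ≠ D.c 0 → j ≠ D.c 1 → ∀ x : F,
      x • (Pi.single j 1 : Fin n → F) ∈ QS D.hφ D.hφφ M D.e0 he := by
    intro j hj0 hj1 x
    obtain ⟨k, hkj, hk0, hk1⟩ := D.exists_other j
    rw [single_eq_sv D.hll j k, smul_add, smul_smul, smul_smul]
    have p1 := D.rp_e0_sv D.hl D.hNl hkj.symm hj0 hj1 hk0 hk1
    have p2 := D.rp_e0_sv D.hl' D.hNl' hkj.symm hj0 hj1 hk0 hk1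
    exact (QS D.hφ D.hφφ M D.e0 he).add_mem
      (smul_pair_mem_QS D.hφ D.hφφ he p1.sp _ (hS _ _ p1 _))
      (smul_pair_mem_QS D.hφ D.hφφ he p2.sp _ (hS _ _ p2 _))
  have hsupp : ∀ w' : Fin n → F, w' (D.c 0) = 0 → w' (D.c 1) = 0 →
      w' ∈ QS D.hφ D.hφφ M D.e0 he := by
    intro w' h0 h1
    rw [pi_eq_sum_univ' w']
    apply AddSubmonoid.sum_mem
    intro j _
    by_cases hj0 : j = D.c 0
    · rw [hj0, h0, zero_smul]
      exact AddSubmonoid.zero_mem _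
    by_cases hj1 : j = D.c 1
    · rw [hj1, h1, zero_smul]
      exact AddSubmonoid.zero_mem _
    exact hsingle j hj0 hj1 _
  obtain ⟨w', hw'⟩ : ∃ w' : Fin n → F, w' = w + (w (D.c 1) * φ D.lam) • D.e0 := ⟨_, rfl⟩
  have hw0 : hdot φ w D.e0 = w (D.c 0) + φ D.lam * w (D.c 1) := hdot_sv_right φ _ _ _ w
  have e0c1 : D.e0 (D.c 1) = D.lam := by
    unfold Data.e0
    rw [sv_apply, if_neg (D.cne 1 0 (by decide)), if_pos rfl, mul_one, zero_add]
  have h0 : w' (D.c 0) = 0 := by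
    rw [hw', Pi.add_apply, Pi.smul_apply, D.e0_apply_c0, smul_eq_mul, mul_one]
    linear_combination hw - hw0
  have h1 : w' (D.c 1) = 0 := by
    rw [hw', Pi.add_apply, Pi.smul_apply, e0c1, smul_eq_mul]
    linear_combination (w (D.c 1)) * D.hNl
  have h2 : w = w' + (-(w (D.c 1) * φ D.lam)) • D.e0 := by
    rw [hw', neg_smul]
    abel
  rw [h2]
  exact AddSubmonoid.add_mem _ (hsupp w' h0 h1) (smul_self_mem_QS D.hφ D.hφφ he _)

/-! ### step 4: all transvections -/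

theorem cen_of_ne [Finite F] (D : Data φ F₀ n) (hR : R0 n φ F₀ ≤ M)
    (hS : ∀ a' b' : Fin n → F, RatPair φ F₀ a' b' → ∀ c : F, S φ a' b' c ∈ M)
    {v : Fin n → F} (hvs : hdot φ v v = 0) (hve : hdot φ v D.e0 ≠ 0) : v ∈ Cen φ M := by
  obtain ⟨a, ha⟩ : ∃ a : F, a = hdot φ v D.e0 := ⟨_, rfl⟩
  have ha0 : a ≠ 0 := by rw [ha]; exact hve
  obtain ⟨v', hv'⟩ : ∃ v' : Fin n → F, v' = a⁻¹ • v := ⟨_, rfl⟩
  have hv'e : hdot φ v' D.e0 = 1 := by rw [hv', hdot_smul_left, ← ha, inv_mul_cancel₀ ha0]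
  have hv's : hdot φ v' v' = 0 := by
    rw [hv', hdot_smul_left, hdot_smul_right, hvs, mul_zero, mul_zero]
  obtain ⟨t, ht⟩ : ∃ t : F, t = hdot φ v' D.f0 := ⟨_, rfl⟩
  obtain ⟨w₀, hw₀⟩ : ∃ w₀ : Fin n → F, w₀ = v' - t • D.e0 - D.f0 := ⟨_, rfl⟩
  have hev' : hdot φ D.e0 v' = 1 := by rw [← hdot_conj φ D.hφφ, hv'e, map_one]
  have hfv' : hdot φ D.f0 v' = φ t := by rw [ht, hdot_conj φ D.hφφ]
  have hw₀e : hdot φ w₀ D.e0 = 0 := by
    rw [hw₀, hdot_sub_left, hdot_sub_left, hdot_smul_left, hv'e, D.e0_sing, D.f0_e0]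
    ring
  have hew₀ : hdot φ D.e0 w₀ = 0 := hdot_eq_zero_symm φ D.hφφ _ _ hw₀e
  have hw₀f : hdot φ w₀ D.f0 = 0 := by
    rw [hw₀, hdot_sub_left, hdot_sub_left, hdot_smul_left, ← ht, D.e0_f0, D.f0_sing]
    ring
  have hfw₀ : hdot φ D.f0 w₀ = 0 := hdot_eq_zero_symm φ D.hφφ _ _ hw₀f
  have hw₀v' : hdot φ w₀ v' = -t - φ t := by
    rw [hw₀, hdot_sub_left, hdot_sub_left, hdot_smul_left, hv's, hev', hfv']
    ring
  have hvalid : t + φ t + hdot φ w₀ w₀ = 0 := by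
    have e1 : hdot φ w₀ (v' - t • D.e0 - D.f0) =
        hdot φ w₀ v' - φ t * hdot φ w₀ D.e0 - hdot φ w₀ D.f0 := by
      rw [hdot_sub_right, hdot_sub_right, hdot_smul_right]
    rw [← hw₀, hw₀e, hw₀f, hw₀v'] at e1
    rw [e1]
    ring
  have hE : EE φ D.e0 w₀ t ∈ M :=
    ((mem_QS_iff D.hφ D.hφφ D.e0 (cen_e0 D hR hS) w₀).mp (all_QS D hR hS w₀ hw₀e)).2 t hvalid
  have hEU : EE φ D.e0 w₀ t ∈ UG (Fin n) φ :=
    EE_mem_UG φ D.hφφ D.e0 w₀ t D.e0_sing hw₀e hew₀ hvalid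
  have hEf : EE φ D.e0 w₀ t • D.f0 = v' := by
    rw [EE_smul φ _ _ _ D.e0_sing hw₀e hew₀, D.f0_e0, hfw₀, hw₀]
    module
  have hf0 : D.f0 ∈ Cen φ M := cen_rat D hR hS D.f0_rat D.f0_sing
  have h1 : EE φ D.e0 w₀ t • D.f0 ∈ Cen φ M := cen_smul φ M _ hE hEU D.f0 hf0
  rw [hEf] at h1
  have h2 := cen_scalar φ D.hφφ M a v' h1
  rwa [hv', smul_smul, mul_inv_cancel₀ ha0, one_smul] at h2

theorem cen_all [Finite F] (D : Data φ F₀ n) (hR : R0 n φ F₀ ≤ M)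
    (hS : ∀ a' b' : Fin n → F, RatPair φ F₀ a' b' → ∀ c : F, S φ a' b' c ∈ M)
    {v : Fin n → F} (hvs : hdot φ v v = 0) : v ∈ Cen φ M := by
  by_cases hv0 : v = 0
  · refine ⟨hvs, fun c _ => ?_⟩
    rw [hv0, UT_zero_vec]
    exact M.one_mem
  obtain ⟨j, hj⟩ : ∃ j, v j ≠ 0 := by
    by_contra hcon
    push Not at hcon
    exact hv0 (funext hcon)
  obtain ⟨k, hkj, -, -⟩ := D.exists_other j
  obtain ⟨e', he'r, he's, he'0, hve'⟩ : ∃ e' : Fin n → F, RatV F₀ e' ∧ hdot φ e' e' = 0 ∧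
      e' ≠ 0 ∧ hdot φ v e' ≠ 0 := by
    by_cases h1 : hdot φ v (sv D.lam j k) = 0
    · by_cases h2 : hdot φ v (sv D.lam' j k) = 0
      · exfalso
        rw [hdot_sv_right] at h1 h2
        have h3 : (φ D.lam - φ D.lam') * v k = 0 := by linear_combination h1 - h2
        have h4 : φ D.lam - φ D.lam' ≠ 0 := by
          intro h
          exact D.hll (D.φ_inj (sub_eq_zero.mp h))
        have h5 : v k = 0 := (mul_eq_zero.mp h3).resolve_left h4
        rw [h5, mul_zero, add_zero] at h1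
        exact hj h1
      · exact ⟨_, ratV_sv D.hl' j k, hdot_sv_self φ D.hNl' hkj.symm, sv_ne_zero _ hkj.symm, h2⟩
    · exact ⟨_, ratV_sv D.hl j k, hdot_sv_self φ D.hNl hkj.symm, sv_ne_zero _ hkj.symm, h1⟩
  obtain ⟨g, hg, e₁⟩ := ratTrans_vec D D.e0_rat he'r D.e0_sing he's D.e0_ne he'0
  have hgU : g ∈ UG (Fin n) φ := hg.1.1
  have hgU' : g⁻¹ ∈ UG (Fin n) φ := (UG (Fin n) φ).inv_mem hgU
  have h1 : hdot φ (g⁻¹ • v) (g⁻¹ • v) = 0 := by rw [hdot_smul_smul φ hgU', hvs]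
  have h2 : hdot φ (g⁻¹ • v) D.e0 ≠ 0 := by rw [hdot_inv_smul φ hgU, e₁]; exact hve'
  have h3 := cen_of_ne D hR hS h1 h2
  have h4 : g • (g⁻¹ • v) ∈ Cen φ M := cen_smul φ M g (hR hg) hgU _ h3
  rwa [smul_inv_smul] at h4

/-- Part A: an irrational short root element forces the whole special unitary group -/
theorem partA [Fintype F] (D : Data φ F₀ n) (r : ℕ) (hr : r.Prime)
    (hcard : Fintype.card F = Nat.card F₀ ^ r) (hR : R0 n φ F₀ ≤ M)
    {a b : Fin n → F} (hab : RatPair φ F₀ a b) {c₀ : F} (hc₀ : c₀ ∉ F₀)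
    (hS : S φ a b c₀ ∈ M) : SUg n φ ≤ M := by
  have hS' := all_S D r hr hcard hR hab hc₀ hS
  apply sug_le_of_UT φ D.hφ D.hφφ D.hN1 (by have := D.seven_le; omega) M
  intro v hv c hc
  exact (cen_all D hR hS' hv).2 c hc

end Cfsg.Agent.H28SuSub
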