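import Mathlib
import Cfsg.Agent.Lib.Helper28.SuSubC

/-!
# Subfield subgroups of the special unitary group (helper28), part D: the case where all short
root elements along rational pairs are rational
-/

set_option autoImplicit false

namespace Cfsg.Agent.H28SuSub

open Cfsg Matrix Cfsg.Agent.Helper11.Herm Cfsg.Agent.Helper28.SuSingMax
open Cfsg.Agent.Helper11
open scoped Cfsg.Agent.H28SuSub

variable {F : Type*} [Field F] {n : ℕ} {φ : F →+* F} {F₀ : Subfield F}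
  {M : Subgroup (GL (Fin n) F)}

theorem conj_EE {g : GL (Fin n) F} (hg : g ∈ UG (Fin n) φ) (e y : Fin n → F) (μ : F)
    (he : hdot φ e e = 0) (hye : hdot φ y e = 0) (hey : hdot φ e y = 0) :
    g * EE φ e y μ * g⁻¹ = EE φ (g • e) (g • y) μ := by
  apply ext_smul
  intro x
  rw [mul_smul, mul_smul, EE_smul φ e y μ he hye hey,
    EE_smul φ (g • e) (g • y) μ (by rw [hdot_smul_smul φ hg, he])
      (by rw [hdot_smul_smul φ hg, hye]) (by rw [hdot_smul_smul φ hg, hey]),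
    smul_add, smul_sub, smul_add, smul_inv_smul, smul_comm g, smul_comm g, smul_comm g,
    hdot_inv_smul φ hg, hdot_inv_smul φ hg]

/-- the standing hypotheses of part D -/
structure Hyp [Finite F] (φ : F →+* F) (F₀ : Subfield F) (M : Subgroup (GL (Fin n) F)) :
    Prop where
  hMU : M ≤ SUg n φ
  hR : R0 n φ F₀ ≤ M
  hD : ∀ a b : Fin n → F, RatPair φ F₀ a b → ∀ c : F, S φ a b c ∈ M → c ∈ F₀

section partD

variable [Finite F]

/-- a transvection along a rational singular vector lying in `M` has a rational parameter -/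
theorem C_sub (hyp : Hyp φ F₀ M) (D : Data φ F₀ n) {a : Fin n → F} (ha : RatV F₀ a)
    (has : hdot φ a a = 0) (ha0 : a ≠ 0) {c : F} (hcz : c + φ c = 0) (hc : UT φ a c ∈ M) :
    c ∈ F₀ := by
  have hR := hyp.hR
  have hsum : hdot φ (D.e0 + D.e1) (D.e0 + D.e1) = 0 := by
    simp only [hdot_add_left, hdot_add_right, D.sp01.aa, D.sp01.bb, D.sp01.ab, D.sp01.ba,
      add_zero]
  have hs0 : D.e0 + D.e1 ≠ 0 := by
    intro h
    have := congrFun h (D.c 0)
    rw [Pi.add_apply, D.e0_apply_c0,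
      D.e1_apply_of_ne (D.cne 0 2 (by decide)) (D.cne 0 3 (by decide)), add_zero] at this
    exact one_ne_zero this
  have h0 : UT φ D.e0 c ∈ M := UT_transfer D hR ha D.e0_rat has D.e0_sing ha0 D.e0_ne hc
  have h1 : UT φ D.e1 c ∈ M := UT_transfer D hR ha D.e1_rat has D.e1_sing ha0 D.e1_ne hc
  have h2 : UT φ (D.e0 + D.e1) c ∈ M :=
    UT_transfer D hR ha (ratV_add D.e0_rat D.e1_rat) has hsum ha0 hs0 hc
  have h3 := UT_add_orth D.sp01.symm c hcz
  have h4 : S φ D.e1 D.e0 c = (UT φ D.e1 c)⁻¹ * (UT φ D.e0 c)⁻¹ * UT φ (D.e0 + D.e1) c := by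
    rw [h3]; group
  apply hyp.hD _ _ D.rp10 c
  rw [h4]
  exact M.mul_mem (M.mul_mem (M.inv_mem h1) (M.inv_mem h0)) h2

theorem UTS_conj (hφφ : ∀ x, φ (φ x) = x) {a w p q : Fin n → F} (pwa : SPair φ w a)
    (ppq : SPair φ p q) (ppa : SPair φ p a) (pqa : SPair φ q a) (hqw : hdot φ q w = 0)
    (hpw : hdot φ p w = 1) (x σ : F) (hgU : UT φ a x * S φ w a σ ∈ UG (Fin n) φ) :
    (UT φ a x * S φ w a σ) * S φ p q 1 * (UT φ a x * S φ w a σ)⁻¹ =
      S φ p q 1 * S φ a q (φ σ) := by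
  have e1 : (UT φ a x * S φ w a σ) • p = p + σ • a := by
    rw [mul_smul, S_smul pwa, hpw, ppa.ab, mul_one, mul_zero, zero_smul, sub_zero,
      UT_smul φ a pwa.bb, hdot_add_left, hdot_smul_left, ppa.ab, pwa.bb, mul_zero, add_zero,
      mul_zero, zero_smul, add_zero]
  have e2 : (UT φ a x * S φ w a σ) • q = q := by
    rw [mul_smul, S_smul pwa, hqw, pqa.ab, mul_zero, mul_zero, zero_smul, zero_smul, add_zero,
      sub_zero, UT_smul φ a pwa.bb, pqa.ab, mul_zero, zero_smul, add_zero]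
  rw [conj_S hgU ppq, e1, e2, S_add_left ppq (pqa.symm.smul_left σ) (ppa.smul_right σ),
    S_smul_left hφφ pqa.symm, one_mul]

/-- the short root parameter of a mixed element of `M` is rational -/
theorem S_param_rat (hyp : Hyp φ F₀ M) (D : Data φ F₀ n) {a w : Fin n → F}
    (h : RatPair φ F₀ a w) {x σ : F} (hM : UT φ a x * S φ w a σ ∈ M) : σ ∈ F₀ := by
  have hR := hyp.hR
  obtain ⟨g, hg, e₁, e₂⟩ := ratTrans_pair D h D.rp01
  have hgU : g ∈ UG (Fin n) φ := hg.1.1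
  have h1 : UT φ D.e0 x * S φ D.e1 D.e0 σ ∈ M := by
    have h2 : UT φ D.e0 x * S φ D.e1 D.e0 σ = g * (UT φ a x * S φ w a σ) * g⁻¹ := by
      rw [← e₁, ← e₂, ← conj_UT' φ hgU a h.sp.aa, ← conj_S hgU h.sp.symm]; group
    rw [h2]
    exact M.mul_mem (M.mul_mem (hR hg) hM) (M.inv_mem (hR hg))
  have h3 := UTS_conj D.hφφ D.sp01.symm D.spf1e2 D.spf1e0 D.sp02.symm D.sp12.ba D.f1_e1 x σ
    (hyp.hMU h1).1
  have h4 : S φ D.f1 D.e2 1 ∈ M := hR (S_mem_R0 D D.f1_rat D.e2_rat D.spf1e2 F₀.one_mem)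
  have h5 : S φ D.e0 D.e2 (φ σ) =
      (S φ D.f1 D.e2 1)⁻¹ * ((UT φ D.e0 x * S φ D.e1 D.e0 σ) * S φ D.f1 D.e2 1 *
        (UT φ D.e0 x * S φ D.e1 D.e0 σ)⁻¹) := by
    rw [h3]; group
  have h6 : φ σ ∈ F₀ := by
    apply hyp.hD _ _ D.rp02 (φ σ)
    rw [h5]
    exact M.mul_mem (M.inv_mem h4) (M.mul_mem (M.mul_mem h1 h4) (M.inv_mem h1))
  exact D.φ_mem_iff.mp h6

/-- B1 -/
theorem partB1 (hyp : Hyp φ F₀ M) (D : Data φ F₀ n) {e y : Fin n → F} (he : RatV F₀ e)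
    (hes : hdot φ e e = 0) (he0 : e ≠ 0) (hye : hdot φ y e = 0) {μ : F}
    (hM : EE φ e y μ ∈ M) {w : Fin n → F} (hw : RatV F₀ w) (hws : hdot φ w w = 0)
    (hwe : hdot φ w e = 0) : hdot φ w y ∈ F₀ := by
  have hey : hdot φ e y = 0 := hdot_eq_zero_symm φ D.hφφ _ _ hye
  have hew : hdot φ e w = 0 := hdot_eq_zero_symm φ D.hφφ _ _ hwe
  by_cases hind : ∃ t : F, w = t • e
  · obtain ⟨t, rfl⟩ := hind
    rw [hdot_smul_left, hey, mul_zero]
    exact F₀.zero_mem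
  · push Not at hind
    have pew : SPair φ e w := ⟨hes, hws, hew, hwe⟩
    have hp : RatPair φ F₀ e w := ⟨he, hw, pew, he0, hind⟩
    have hgU : EE φ e y μ ∈ UG (Fin n) φ := (hyp.hMU hM).1
    obtain ⟨l, hl⟩ : ∃ l : F, l = -hdot φ w y := ⟨_, rfl⟩
    have e1 : EE φ e y μ • w = w + l • e := by
      rw [EE_smul φ e y μ hes hye hey, hwe, hl]
      module
    have h2 : EE φ e y μ * UT φ w D.τ * (EE φ e y μ)⁻¹ =
        UT φ w D.τ * UT φ e (D.τ * (l * φ l)) * S φ w e (D.τ * l) := by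
      rw [conj_UT' φ hgU w hws, e1, UT_add_orth (pew.smul_left l) D.τ D.τ_tr,
        UT_smul_vec φ e hes, S_smul_left D.hφφ pew, S_symm D.hφφ pew]
      congr 2
      rw [map_mul, D.hφφ, D.φτ]
      ring
    have h3 : UT φ w D.τ ∈ M := hyp.hR (UT_mem_R0 D hw hws D.τ_mem D.τ_tr)
    have h4 : UT φ e (D.τ * (l * φ l)) * S φ w e (D.τ * l) =
        (UT φ w D.τ)⁻¹ * (EE φ e y μ * UT φ w D.τ * (EE φ e y μ)⁻¹) := by
      rw [h2]; group
    have h5 : UT φ e (D.τ * (l * φ l)) * S φ w e (D.τ * l) ∈ M := by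
      rw [h4]
      exact M.mul_mem (M.inv_mem h3) (M.mul_mem (M.mul_mem hM h3) (M.inv_mem hM))
    have h6 : D.τ * l ∈ F₀ := S_param_rat hyp D hp h5
    have h7 : l ∈ F₀ := by
      have : l = D.τ⁻¹ * (D.τ * l) := by rw [← mul_assoc, inv_mul_cancel₀ D.τ_ne, one_mul]
      rw [this]
      exact F₀.mul_mem (F₀.inv_mem D.τ_mem) h6
    have h8 : hdot φ w y = -l := by rw [hl, neg_neg]
    rw [h8]
    exact F₀.neg_mem h7

/-- a vector pairing rationally with the rational singular vectors orthogonal to the first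
standard vector is rational up to a multiple of that vector -/
theorem rat_mod_e0 (D : Data φ F₀ n) {z : Fin n → F}
    (h : ∀ w : Fin n → F, RatV F₀ w → hdot φ w w = 0 → hdot φ w D.e0 = 0 → hdot φ w z ∈ F₀) :
    RatV F₀ (z - z (D.c 0) • D.e0) := by
  intro j
  rw [Pi.sub_apply, Pi.smul_apply, smul_eq_mul]
  by_cases hj0 : j = D.c 0
  · rw [hj0, D.e0_apply_c0, mul_one, sub_self]
    exact F₀.zero_mem
  by_cases hj1 : j = D.c 1
  · have e0c1 : D.e0 (D.c 1) = D.lam := by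
      unfold Data.e0
      rw [sv_apply, if_neg (D.cne 1 0 (by decide)), if_pos rfl, mul_one, zero_add]
    rw [hj1, e0c1]
    have h1 := h D.e0 D.e0_rat D.e0_sing D.e0_sing
    have h2 : hdot φ D.e0 z = φ (z (D.c 0)) + D.lam * φ (z (D.c 1)) := hdot_sv_left φ _ _ _ z
    rw [h2] at h1
    have h3 := D.hst _ h1
    rw [map_add, map_mul, D.hφφ, D.hφφ] at h3
    have h4 : z (D.c 1) - z (D.c 0) * D.lam = -D.lam * (z (D.c 0) + φ D.lam * z (D.c 1)) := by
      linear_combination (z (D.c 1)) * D.hNl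
    rw [h4]
    exact F₀.mul_mem (F₀.neg_mem D.hl) h3
  · rw [D.e0_apply_of_ne hj0 hj1, mul_zero, sub_zero]
    obtain ⟨k, hkj, hk0, hk1⟩ := D.exists_other j
    have p1 := D.rp_e0_sv D.hl D.hNl hkj.symm hj0 hj1 hk0 hk1
    have p2 := D.rp_e0_sv D.hl' D.hNl' hkj.symm hj0 hj1 hk0 hk1
    have h1 := h _ p1.rb p1.sp.bb p1.sp.ba
    have h2 := h _ p2.rb p2.sp.bb p2.sp.ba
    rw [hdot_sv_left] at h1 h2
    have hne : D.lam - D.lam' ≠ 0 := sub_ne_zero.mpr D.hll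
    have h3 : φ (z k) ∈ F₀ := by
      have : φ (z k) = (D.lam - D.lam')⁻¹ *
          ((φ (z j) + D.lam * φ (z k)) - (φ (z j) + D.lam' * φ (z k))) := by
        field_simp
        ring
      rw [this]
      exact F₀.mul_mem (F₀.inv_mem (F₀.sub_mem D.hl D.hl')) (F₀.sub_mem h1 h2)
    have h4 : φ (z j) ∈ F₀ := by
      have : φ (z j) = (φ (z j) + D.lam * φ (z k)) - D.lam * φ (z k) := by ring
      rw [this]
      exact F₀.sub_mem h1 (F₀.mul_mem D.hl h3)
    exact D.φ_mem_iff.mp h4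

/-- B2 -/
theorem pairing (hyp : Hyp φ F₀ M) (D : Data φ F₀ n) {e y : Fin n → F} (he : RatV F₀ e)
    (hes : hdot φ e e = 0) (he0 : e ≠ 0) (hye : hdot φ y e = 0) {μ : F}
    (hM : EE φ e y μ ∈ M) :
    ∃ (y₀ : Fin n → F) (ν : F), RatV F₀ y₀ ∧ y = y₀ + ν • e := by
  have hey : hdot φ e y = 0 := hdot_eq_zero_symm φ D.hφφ _ _ hye
  obtain ⟨g, hg, e₁⟩ := ratTrans_vec D he D.e0_rat hes D.e0_sing he0 D.e0_ne
  have hgM : g ∈ M := hyp.hR hg
  have hgU : g ∈ UG (Fin n) φ := hg.1.1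
  have h1 : EE φ D.e0 (g • y) μ ∈ M := by
    rw [← e₁, ← conj_EE hgU e y μ hes hye hey]
    exact M.mul_mem (M.mul_mem hgM hM) (M.inv_mem hgM)
  have h2 : hdot φ (g • y) D.e0 = 0 := by
    rw [← e₁, hdot_smul_smul φ hgU, hye]
  have h3 : RatV F₀ (g • y - (g • y) (D.c 0) • D.e0) := by
    apply rat_mod_e0
    intro w hw hws hwe
    exact partB1 hyp D D.e0_rat D.e0_sing D.e0_ne h2 h1 hw hws hwe
  refine ⟨g⁻¹ • (g • y - (g • y) (D.c 0) • D.e0), (g • y) (D.c 0), ratV_inv_smul_R0 hg h3, ?_⟩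
  have h4 : g⁻¹ • D.e0 = e := by
    rw [← e₁, inv_smul_smul]
  rw [smul_sub, inv_smul_smul, smul_comm, h4]
  abel

/-- B3 -/
theorem P1 (hyp : Hyp φ F₀ M) (D : Data φ F₀ n) {k : GL (Fin n) F} (hk : k ∈ M)
    {e : Fin n → F} (he : RatV F₀ e) (hes : hdot φ e e = 0) (he0 : e ≠ 0) {c : F}
    (hke : k • e = c • e) :
    c * φ c ∈ F₀ ∧ ∀ w : Fin n → F, RatV F₀ w → hdot φ w w = 0 → hdot φ w e = 0 →
      RatV F₀ (φ c • (k • w)) := by
  have hkU : k ∈ UG (Fin n) φ := (hyp.hMU hk).1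
  have hc0 : c ≠ 0 := by
    intro h
    rw [h, zero_smul] at hke
    exact smul_ne_zero_of_ne k he0 hke
  have hφc0 : φ c ≠ 0 := (map_ne_zero φ).mpr hc0
  have hN : c * φ c ∈ F₀ := by
    have h1 : UT φ e (D.τ * (c * φ c)) = k * UT φ e D.τ * k⁻¹ := by
      rw [conj_UT' φ hkU e hes, hke, UT_smul_vec φ e hes]
    have h2 : UT φ e (D.τ * (c * φ c)) ∈ M := by
      rw [h1]
      exact M.mul_mem (M.mul_mem hk (hyp.hR (UT_mem_R0 D he hes D.τ_mem D.τ_tr))) (M.inv_mem hk)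
    have h3 : D.τ * (c * φ c) + φ (D.τ * (c * φ c)) = 0 := by
      rw [map_mul, map_mul, D.hφφ, D.φτ]
      ring
    have h4 := C_sub hyp D he hes he0 h3 h2
    have : c * φ c = D.τ⁻¹ * (D.τ * (c * φ c)) := by
      rw [← mul_assoc, inv_mul_cancel₀ D.τ_ne, one_mul]
    rw [this]
    exact F₀.mul_mem (F₀.inv_mem D.τ_mem) h4
  have hN0 : c * φ c ≠ 0 := mul_ne_zero hc0 hφc0
  refine ⟨hN, ?_⟩
  intro w hw hws hwe
  have hew : hdot φ e w = 0 := hdot_eq_zero_symm φ D.hφφ _ _ hwe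
  by_cases hind : ∃ t : F, w = t • e
  · obtain ⟨t, rfl⟩ := hind
    have ht : t ∈ F₀ := mem_of_ratV_smul he he0 hw
    rw [smul_comm k t e, hke, smul_smul, smul_smul]
    have h1 : φ c * t * c = t * (c * φ c) := by ring
    rw [h1]
    exact ratV_smul (F₀.mul_mem ht hN) he
  · push Not at hind
    have pew : SPair φ e w := ⟨hes, hws, hew, hwe⟩
    have hp : RatPair φ F₀ e w := ⟨he, hw, pew, he0, hind⟩
    have h0 : hdot φ e (k • w) = 0 := by
      have h1 : hdot φ (k • e) (k • w) = 0 := by rw [hdot_smul_smul φ hkU, hew]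
      rw [hke, hdot_smul_left] at h1
      exact (mul_eq_zero.mp h1).resolve_left hc0
    have h0' : hdot φ (k • w) e = 0 := hdot_eq_zero_symm φ D.hφφ _ _ h0
    have hkws : hdot φ (k • w) (k • w) = 0 := by rw [hdot_smul_smul φ hkU, hws]
    have pekw : SPair φ e (k • w) := ⟨hes, hkws, h0, h0'⟩
    obtain ⟨y, hy⟩ : ∃ y : Fin n → F, y = φ c • (k • w) := ⟨_, rfl⟩
    have hye : hdot φ y e = 0 := by rw [hy, hdot_smul_left, h0', mul_zero]
    have hey : hdot φ e y = 0 := hdot_eq_zero_symm φ D.hφφ _ _ hye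
    have hys : hdot φ y y = 0 := by
      rw [hy, hdot_smul_left, hdot_smul_right, hkws, mul_zero, mul_zero]
    have hEE : EE φ e y 0 ∈ M := by
      have h1 : EE φ e y 0 = k * S φ e w 1 * k⁻¹ := by
        rw [conj_S hkU pew, hke, S_smul_left D.hφφ pekw, one_mul, hy]
        rfl
      rw [h1]
      exact M.mul_mem (M.mul_mem hk (hyp.hR (S_mem_R0 D he hw pew F₀.one_mem))) (M.inv_mem hk)
    obtain ⟨y₀, ν, hy₀, hyy⟩ := pairing hyp D he hes he0 hye hEE
    have hy₀e : hdot φ y₀ e = 0 := by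
      have h1 := hye
      rw [hyy, hdot_add_left, hdot_smul_left, hes, mul_zero, add_zero] at h1
      exact h1
    have hey₀ : hdot φ e y₀ = 0 := hdot_eq_zero_symm φ D.hφφ _ _ hy₀e
    have hy₀s : hdot φ y₀ y₀ = 0 := by
      have h1 := hys
      rw [hyy] at h1
      simp only [hdot_add_left, hdot_add_right, hdot_smul_left, hdot_smul_right, hes, hy₀e, hey₀,
        mul_zero, add_zero] at h1
      exact h1
    have pey₀ : SPair φ e y₀ := ⟨hes, hy₀s, hey₀, hy₀e⟩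
    have hkw : k • w = (φ c)⁻¹ • y := by
      rw [hy, smul_smul, inv_mul_cancel₀ hφc0, one_smul]
    have hp₀ : RatPair φ F₀ e y₀ := by
      refine ⟨he, hy₀, pey₀, he0, ?_⟩
      intro t ht
      apply hind ((φ c)⁻¹ * (t + ν) * c⁻¹)
      have h1 : k • w = k • (((φ c)⁻¹ * (t + ν) * c⁻¹) • e) := by
        rw [smul_comm k _ e, hke, hkw, hyy, ht, smul_smul, ← add_smul, smul_smul]
        congr 1
        field_simp
      have := congrArg (fun x => k⁻¹ • x) h1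
      simpa using this
    obtain ⟨d, hd⟩ : ∃ d : F, d = D.τ * (c * φ c)⁻¹ := ⟨_, rfl⟩
    have hdF : d ∈ F₀ := by
      rw [hd]
      exact F₀.mul_mem D.τ_mem (F₀.inv_mem hN)
    have hd0 : d ≠ 0 := by
      rw [hd]
      exact mul_ne_zero D.τ_ne (inv_ne_zero hN0)
    have hφd : φ d = -d := by
      rw [hd, map_mul, map_inv₀, map_mul, D.hφφ, D.φτ]
      ring
    have hdz : d + φ d = 0 := by rw [hφd]; ring
    have h2 : k * UT φ w D.τ * k⁻¹ =
        UT φ y₀ d * UT φ e (d * (ν * φ ν)) * S φ y₀ e (d * ν) := by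
      rw [conj_UT' φ hkU w hws, hkw, UT_smul_vec φ y hys, map_inv₀, D.hφφ, hyy,
        UT_add_orth (pey₀.smul_left ν) _ (by
          have : D.τ * ((φ c)⁻¹ * c⁻¹) = d := by rw [hd, mul_inv]; ring
          rw [this]; exact hdz),
        UT_smul_vec φ e hes, S_smul_left D.hφφ pey₀, S_symm D.hφφ pey₀]
      have e1 : D.τ * ((φ c)⁻¹ * c⁻¹) = d := by rw [hd, mul_inv]; ring
      rw [e1]
      congr 2
      rw [map_mul, D.hφφ, hφd]
      ring
    have h3 : UT φ y₀ d ∈ M := hyp.hR (UT_mem_R0 D hy₀ hy₀s hdF hdz)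
    have h4 : UT φ e (d * (ν * φ ν)) * S φ y₀ e (d * ν) =
        (UT φ y₀ d)⁻¹ * (k * UT φ w D.τ * k⁻¹) := by
      rw [h2]; group
    have h5 : UT φ e (d * (ν * φ ν)) * S φ y₀ e (d * ν) ∈ M := by
      rw [h4]
      exact M.mul_mem (M.inv_mem h3)
        (M.mul_mem (M.mul_mem hk (hyp.hR (UT_mem_R0 D hw hws D.τ_mem D.τ_tr))) (M.inv_mem hk))
    have h6 : d * ν ∈ F₀ := S_param_rat hyp D hp₀ h5
    have hν : ν ∈ F₀ := by
      have : ν = d⁻¹ * (d * ν) := by rw [← mul_assoc, inv_mul_cancel₀ hd0, one_mul]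
      rw [this]
      exact F₀.mul_mem (F₀.inv_mem hdF) h6
    rw [← hy, hyy]
    exact ratV_add hy₀ (ratV_smul hν he)

omit [Finite F] in
/-- the rational vectors orthogonal to the first standard vector are spanned over the subfield
by rational singular vectors -/
theorem perp_span (D : Data φ F₀ n) (A : AddSubmonoid (Fin n → F))
    (hb : ∀ b : Fin n → F, RatPair φ F₀ D.e0 b → ∀ x ∈ F₀, x • b ∈ A)
    (he : ∀ x ∈ F₀, x • D.e0 ∈ A) (w : Fin n → F) (hwr : RatV F₀ w)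
    (hw : hdot φ w D.e0 = 0) : w ∈ A := by
  classical
  have hsub : D.lam' - D.lam ∈ F₀ := F₀.sub_mem D.hl' D.hl
  have hsingle : ∀ j : Fin n, j ≠ D.c 0 → j ≠ D.c 1 → ∀ x ∈ F₀,
      x • (Pi.single j 1 : Fin n → F) ∈ A := by
    intro j hj0 hj1 x hx
    obtain ⟨k, hkj, hk0, hk1⟩ := D.exists_other j
    rw [single_eq_sv D.hll j k, smul_add, smul_smul, smul_smul]
    have p1 := D.rp_e0_sv D.hl D.hNl hkj.symm hj0 hj1 hk0 hk1
    have p2 := D.rp_e0_sv D.hl' D.hNl' hkj.symm hj0 hj1 hk0 hk1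
    exact A.add_mem
      (hb _ p1 _ (F₀.mul_mem hx (F₀.div_mem D.hl' hsub)))
      (hb _ p2 _ (F₀.mul_mem hx (F₀.div_mem (F₀.neg_mem D.hl) hsub)))
  have hsupp : ∀ w' : Fin n → F, RatV F₀ w' → w' (D.c 0) = 0 → w' (D.c 1) = 0 → w' ∈ A := by
    intro w' hw'r h0 h1
    rw [pi_eq_sum_univ' w']
    apply AddSubmonoid.sum_mem
    intro j _
    by_cases hj0 : j = D.c 0
    · rw [hj0, h0, zero_smul]
      exact AddSubmonoid.zero_mem _
    by_cases hj1 : j = D.c 1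
    · rw [hj1, h1, zero_smul]
      exact AddSubmonoid.zero_mem _
    exact hsingle j hj0 hj1 _ (hw'r j)
  obtain ⟨w', hw'⟩ : ∃ w' : Fin n → F, w' = w + (w (D.c 1) * φ D.lam) • D.e0 := ⟨_, rfl⟩
  have hcoef : w (D.c 1) * φ D.lam ∈ F₀ := F₀.mul_mem (hwr _) (D.hst _ D.hl)
  have hw'r : RatV F₀ w' := by
    rw [hw']
    exact ratV_add hwr (ratV_smul hcoef D.e0_rat)
  have hw0 : hdot φ w D.e0 = w (D.c 0) + φ D.lam * w (D.c 1) := hdot_sv_right φ _ _ _ w
  have e0c1 : D.e0 (D.c 1) = D.lam := by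
    unfold Data.e0
    rw [sv_apply, if_neg (D.cne 1 0 (by decide)), if_pos rfl, mul_one, zero_add]
  have h0 : w' (D.c 0) = 0 := by
    rw [hw', Pi.add_apply, Pi.smul_apply, D.e0_apply_c0, smul_eq_mul, mul_one]
    linear_combination hw - hw0
  have h1 : w' (D.c 1) = 0 := by
    rw [hw', Pi.add_apply, Pi.smul_apply, e0c1, smul_eq_mul]
    linear_combination (w (D.c 1)) * D.hNl
  have h2 : w = w' + (-(w (D.c 1) * φ D.lam)) • D.e0 := by
    rw [hw', neg_smul]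
    abel
  rw [h2]
  exact A.add_mem (hsupp w' hw'r h0 h1) (he _ (F₀.neg_mem hcoef))

/-- B4, for the first standard vector -/
theorem step1_std (hyp : Hyp φ F₀ M) (D : Data φ F₀ n) {k : GL (Fin n) F} (hk : k ∈ M) {c : F}
    (hke : k • D.e0 = c • D.e0) :
    ∀ v : Fin n → F, RatV F₀ v → RatV F₀ (φ c • (k • v)) := by
  have hkU : k ∈ UG (Fin n) φ := (hyp.hMU hk).1
  have hkU' : k⁻¹ ∈ UG (Fin n) φ := (UG (Fin n) φ).inv_mem hkU
  have hc0 : c ≠ 0 := by
    intro h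
    rw [h, zero_smul] at hke
    exact smul_ne_zero_of_ne k D.e0_ne hke
  have hφc0 : φ c ≠ 0 := (map_ne_zero φ).mpr hc0
  obtain ⟨hN, hperp⟩ := P1 hyp D hk D.e0_rat D.e0_sing D.e0_ne hke
  have hkinv : k⁻¹ • D.e0 = c⁻¹ • D.e0 := by
    rw [inv_smul_eq_iff, smul_comm, hke, smul_smul, inv_mul_cancel₀ hc0, one_smul]
  obtain ⟨-, hperp'⟩ := P1 hyp D (M.inv_mem hk) D.e0_rat D.e0_sing D.e0_ne hkinv
  -- all rational vectors orthogonal to the first standard vector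
  have hperp_all : ∀ w : Fin n → F, RatV F₀ w → hdot φ w D.e0 = 0 →
      RatV F₀ (φ c • (k • w)) := by
    intro w hw hwe
    let A : AddSubmonoid (Fin n → F) :=
      { carrier := {w | RatV F₀ (φ c • (k • w))}
        zero_mem' := by
          show RatV F₀ (φ c • (k • (0 : Fin n → F)))
          rw [smul_zero, smul_zero]
          exact ratV_zero F₀
        add_mem' := by
          intro a b ha hb
          show RatV F₀ (φ c • (k • (a + b)))
          rw [smul_add, smul_add]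
          exact ratV_add ha hb }
    have hA : w ∈ A := by
      apply perp_span D A _ _ w hw hwe
      · intro b hb x hx
        show RatV F₀ (φ c • (k • (x • b)))
        rw [smul_comm k x b, smul_comm (φ c) x]
        exact ratV_smul hx (hperp b hb.rb hb.sp.bb hb.sp.ba)
      · intro x hx
        show RatV F₀ (φ c • (k • (x • D.e0)))
        rw [smul_comm k x, hke, smul_smul, smul_smul]
        have : φ c * x * c = x * (c * φ c) := by ring
        rw [this]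
        exact ratV_smul (F₀.mul_mem hx hN) D.e0_rat
    exact hA
  obtain ⟨u, hu⟩ : ∃ u : Fin n → F, u = k • D.f0 := ⟨_, rfl⟩
  have hus : hdot φ u u = 0 := by rw [hu, hdot_smul_smul φ hkU, D.f0_sing]
  have heu : hdot φ D.e0 u = c⁻¹ := by
    have h2 : hdot φ (k • D.e0) (k • D.f0) = 1 := by rw [hdot_smul_smul φ hkU, D.e0_f0]
    rw [hke, hdot_smul_left, ← hu] at h2
    exact eq_inv_of_mul_eq_one_right h2
  -- it suffices to treat the partner of the first standard vector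
  suffices hsuff : RatV F₀ (φ c • u) by
    intro v hv
    obtain ⟨t, ht⟩ : ∃ t : F, t = hdot φ v D.e0 := ⟨_, rfl⟩
    have htF : t ∈ F₀ := by rw [ht]; exact D.rat_hdot hv D.e0_rat
    have hw : RatV F₀ (v - t • D.f0) := ratV_sub hv (ratV_smul htF D.f0_rat)
    have hwe : hdot φ (v - t • D.f0) D.e0 = 0 := by
      rw [hdot_sub_left, hdot_smul_left, D.f0_e0, mul_one, ht, sub_self]
    have h1 := hperp_all _ hw hwe
    have h2 : φ c • (k • v) = φ c • (k • (v - t • D.f0)) + t • (φ c • u) := by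
      rw [hu, smul_sub, smul_sub, smul_comm k t, smul_comm (φ c) t]
      abel
    rw [h2]
    exact ratV_add h1 (ratV_smul htF hsuff)
  obtain ⟨z, hz⟩ : ∃ z : Fin n → F, z = c⁻¹ • u := ⟨_, rfl⟩
  have hzpair : ∀ w : Fin n → F, RatV F₀ w → hdot φ w w = 0 → hdot φ w D.e0 = 0 →
      hdot φ w z ∈ F₀ := by
    intro w hw hws hwe
    have h1 := hperp' w hw hws hwe
    have h2 : hdot φ w z = hdot φ (φ c⁻¹ • (k⁻¹ • w)) D.f0 := by
      rw [hz, hu, hdot_smul_right, hdot_smul_left, hdot_inv_smul φ hkU]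
    rw [h2]
    exact D.rat_hdot h1 D.f0_rat
  obtain ⟨z₀, hz₀⟩ : ∃ z₀ : Fin n → F, z₀ = z - z (D.c 0) • D.e0 := ⟨_, rfl⟩
  have hz₀rat : RatV F₀ z₀ := by rw [hz₀]; exact rat_mod_e0 D hzpair
  -- a rational singular vector orthogonal to the first standard vector and to `u`
  obtain ⟨w₃, hw₃, hw₃s, hw₃0, hw₃e, hw₃z⟩ : ∃ w₃ : Fin n → F, RatV F₀ w₃ ∧
      hdot φ w₃ w₃ = 0 ∧ w₃ ≠ 0 ∧ hdot φ w₃ D.e0 = 0 ∧ hdot φ w₃ z₀ = 0 := by
    by_cases hab : hdot φ D.e2 z₀ = 0 ∧ hdot φ D.e1 z₀ = 0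
    · exact ⟨D.e1, D.e1_rat, D.e1_sing, D.e1_ne, D.sp01.ba, hab.2⟩
    · refine ⟨hdot φ D.e2 z₀ • D.e1 - hdot φ D.e1 z₀ • D.e2,
        ratV_sub (ratV_smul (D.rat_hdot D.e2_rat hz₀rat) D.e1_rat)
          (ratV_smul (D.rat_hdot D.e1_rat hz₀rat) D.e2_rat), ?_, ?_, ?_, ?_⟩
      · simp only [hdot_sub_left, hdot_sub_right, hdot_smul_left, hdot_smul_right, D.sp12.aa,
          D.sp12.bb, D.sp12.ab, D.sp12.ba, mul_zero, sub_zero]
      · intro h0
        apply hab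
        have a1 := congrFun h0 (D.c 2)
        have a2 := congrFun h0 (D.c 4)
        rw [Pi.sub_apply, Pi.smul_apply, Pi.smul_apply, D.e1_apply_c2,
          D.e2_apply_of_ne (D.cne 2 4 (by decide)) (D.cne 2 5 (by decide)), smul_zero,
          sub_zero, smul_eq_mul, mul_one, Pi.zero_apply] at a1
        rw [Pi.sub_apply, Pi.smul_apply, Pi.smul_apply, D.e2_apply_c4,
          D.e1_apply_of_ne (D.cne 4 2 (by decide)) (D.cne 4 3 (by decide)), smul_zero,
          zero_sub, smul_eq_mul, mul_one, Pi.zero_apply, neg_eq_zero] at a2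
        exact ⟨a1, a2⟩
      · rw [hdot_sub_left, hdot_smul_left, hdot_smul_left, D.sp01.ba, D.sp02.ba, mul_zero,
          mul_zero, sub_zero]
      · rw [hdot_sub_left, hdot_smul_left, hdot_smul_left]
        ring
  have hw₃u : hdot φ w₃ u = 0 := by
    have h1 : u = c • (z₀ + z (D.c 0) • D.e0) := by
      rw [hz₀, sub_add_cancel, hz, smul_smul, mul_inv_cancel₀ hc0, one_smul]
    rw [h1, hdot_smul_right, hdot_add_right, hdot_smul_right, hw₃z, hw₃e, mul_zero, add_zero,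
      mul_zero]
  have hk₂ : UT φ u D.τ ∈ M := by
    have h1 : UT φ u D.τ = k * UT φ D.f0 D.τ * k⁻¹ := by rw [conj_UT' φ hkU _ D.f0_sing, hu]
    rw [h1]
    exact M.mul_mem (M.mul_mem hk (hyp.hR (UT_mem_R0 D D.f0_rat D.f0_sing D.τ_mem D.τ_tr)))
      (M.inv_mem hk)
  have hfix : UT φ u D.τ • w₃ = (1 : F) • w₃ := by
    rw [UT_smul φ u hus, hw₃u, mul_zero, zero_smul, add_zero, one_smul]
  obtain ⟨-, hperp₂⟩ := P1 hyp D hk₂ hw₃ hw₃s hw₃0 hfix
  have hew₃ : hdot φ D.e0 w₃ = 0 := hdot_eq_zero_symm φ D.hφφ _ _ hw₃e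
  have h1 := hperp₂ D.e0 D.e0_rat D.e0_sing hew₃
  rw [map_one, one_smul, UT_smul φ u hus, heu] at h1
  have h2 : RatV F₀ ((D.τ * c⁻¹) • u) := by
    have h3 := ratV_sub h1 D.e0_rat
    rwa [add_sub_cancel_left] at h3
  have h3 : φ c • u = ((c * φ c) * D.τ⁻¹) • ((D.τ * c⁻¹) • u) := by
    rw [smul_smul]
    congr 1
    have := D.τ_ne
    field_simp
  rw [h3]
  exact ratV_smul (F₀.mul_mem hN (F₀.inv_mem D.τ_mem)) h2

/-- B4 -/
theorem step1 (hyp : Hyp φ F₀ M) (D : Data φ F₀ n) {k : GL (Fin n) F} (hk : k ∈ M)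
    {e : Fin n → F} (he : RatV F₀ e) (hes : hdot φ e e = 0) (he0 : e ≠ 0) {c : F}
    (hke : k • e = c • e) :
    ∀ v : Fin n → F, RatV F₀ v → RatV F₀ (φ c • (k • v)) := by
  obtain ⟨g, hg, e₁⟩ := ratTrans_vec D he D.e0_rat hes D.e0_sing he0 D.e0_ne
  have hgM : g ∈ M := hyp.hR hg
  have hk' : g * k * g⁻¹ ∈ M := M.mul_mem (M.mul_mem hgM hk) (M.inv_mem hgM)
  have hke' : (g * k * g⁻¹) • D.e0 = c • D.e0 := by
    rw [mul_smul, mul_smul, ← e₁, inv_smul_smul, hke, smul_comm]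
  have h1 := step1_std hyp D hk' hke'
  intro v hv
  have h2 := h1 (g • v) (ratV_smul_R0 hg hv)
  rw [mul_smul, mul_smul, inv_smul_smul] at h2
  have h3 := ratV_inv_smul_R0 hg h2
  rwa [smul_comm, inv_smul_smul] at h3

/-- an element of `M` mapping one nonzero rational singular vector to a rational point normalises
the rational structure -/
theorem maps_rat (hyp : Hyp φ F₀ M) (D : Data φ F₀ n) {k : GL (Fin n) F} (hk : k ∈ M)
    {e : Fin n → F} (he : RatV F₀ e) (hes : hdot φ e e = 0) (he0 : e ≠ 0) {t : F} (ht0 : t ≠ 0)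
    (hr : RatV F₀ (t • (k • e))) : InN F₀ k := by
  have hkU : k ∈ UG (Fin n) φ := (hyp.hMU hk).1
  have he'0 : t • (k • e) ≠ 0 := by
    intro h
    rcases smul_eq_zero.mp h with h | h
    · exact ht0 h
    · exact smul_ne_zero_of_ne k he0 h
  have he's : hdot φ (t • (k • e)) (t • (k • e)) = 0 := by
    rw [hdot_smul_left, hdot_smul_right, hdot_smul_smul φ hkU, hes, mul_zero, mul_zero]
  obtain ⟨g, hg, e₁⟩ := ratTrans_vec D hr he he's hes he'0 he0
  have hgM : g ∈ M := hyp.hR hg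
  have hke : (g * k) • e = t⁻¹ • e := by
    have h1 : k • e = t⁻¹ • (t • (k • e)) := by
      rw [smul_smul, inv_mul_cancel₀ ht0, one_smul]
    rw [mul_smul, h1, smul_comm, e₁]
  have h1 := step1 hyp D (M.mul_mem hgM hk) he hes he0 hke
  refine ⟨φ t⁻¹, (map_ne_zero φ).mpr (inv_ne_zero ht0), fun v hv => ?_⟩
  have h2 := h1 v hv
  rw [mul_smul] at h2
  have h3 := ratV_inv_smul_R0 hg h2
  rwa [smul_comm, inv_smul_smul] at h3

/-- B5 -/
theorem step2 (hyp : Hyp φ F₀ M) (D : Data φ F₀ n) {u : Fin n → F} (hus : hdot φ u u = 0)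
    (hu : UT φ u D.τ ∈ M) (hirr : ∀ t : F, t ≠ 0 → ¬ RatV F₀ (t • u)) :
    ∀ w : Fin n → F, RatV F₀ w → hdot φ w w = 0 → w ≠ 0 → hdot φ w u ≠ 0 := by
  intro w hw hws hw0 hwu
  have hu0 : u ≠ 0 := by
    intro h
    apply hirr 1 one_ne_zero
    rw [h, smul_zero]
    exact ratV_zero F₀
  have hfix : UT φ u D.τ • w = (1 : F) • w := by
    rw [UT_smul φ u hus, hwu, mul_zero, zero_smul, add_zero, one_smul]
  have h1 := step1 hyp D hu hw hws hw0 hfix
  obtain ⟨j, hj⟩ : ∃ j, u j ≠ 0 := by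
    by_contra hcon
    push Not at hcon
    exact hu0 (funext hcon)
  have hvu : hdot φ (Pi.single j 1) u ≠ 0 := by
    rw [hdot_single_left]
    exact (map_ne_zero φ).mpr hj
  have h2 := h1 _ (ratV_single F₀ j)
  rw [map_one, one_smul, UT_smul φ u hus] at h2
  have h3 := ratV_sub h2 (ratV_single F₀ j)
  rw [add_sub_cancel_left] at h3
  exact hirr _ (mul_ne_zero D.τ_ne hvu) h3

/-- an element of `M` not normalising the rational structure yields a totally irrational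
transvection direction -/
theorem exists_tot (hyp : Hyp φ F₀ M) (D : Data φ F₀ n) {k : GL (Fin n) F} (hk : k ∈ M)
    (hkN : ¬ InN F₀ k) :
    ∃ u : Fin n → F, hdot φ u u = 0 ∧ UT φ u D.τ ∈ M ∧
      ∀ w : Fin n → F, RatV F₀ w → hdot φ w w = 0 → w ≠ 0 → hdot φ w u ≠ 0 := by
  have hkU : k ∈ UG (Fin n) φ := (hyp.hMU hk).1
  obtain ⟨u, hu⟩ : ∃ u : Fin n → F, u = k • D.e0 := ⟨_, rfl⟩
  have hus : hdot φ u u = 0 := by rw [hu, hdot_smul_smul φ hkU, D.e0_sing]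
  have hirr : ∀ t : F, t ≠ 0 → ¬ RatV F₀ (t • u) := by
    intro t ht0 hr
    apply hkN
    rw [hu] at hr
    exact maps_rat hyp D hk D.e0_rat D.e0_sing D.e0_ne ht0 hr
  have hk₂ : UT φ u D.τ ∈ M := by
    have h1 : UT φ u D.τ = k * UT φ D.e0 D.τ * k⁻¹ := by rw [conj_UT' φ hkU _ D.e0_sing, hu]
    rw [h1]
    exact M.mul_mem (M.mul_mem hk (hyp.hR (UT_mem_R0 D D.e0_rat D.e0_sing D.τ_mem D.τ_tr)))
      (M.inv_mem hk)
  exact ⟨u, hus, hk₂, step2 hyp D hus hk₂ hirr⟩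

end partD

end Cfsg.Agent.H28SuSub
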