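import Mathlib
import Cfsg.Agent.Lib.Helper28.SuSubD
import Cfsg.Agent.Lib.Helper28.SubfC3

/-!
# Subfield subgroups of the special unitary group (helper28), part E: the rank one analysis
-/

set_option autoImplicit false

namespace Cfsg.Agent.H28SuSub

open Cfsg Matrix Cfsg.Agent.Helper11.Herm Cfsg.Agent.Helper28.SuSingMax
open Cfsg.Agent.Helper11
open scoped Cfsg.Agent.H28SuSub

variable {F : Type*} [Field F] {n : ℕ} {φ : F →+* F} {F₀ : Subfield F}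
  {M : Subgroup (GL (Fin n) F)}

theorem dep3 {K : Type*} [Field K] (p q : Fin 3 → K) :
    ∃ α : Fin 3 → K, (∃ i, α i ≠ 0) ∧ α 0 * p 0 + α 1 * p 1 + α 2 * p 2 = 0 ∧
      α 0 * q 0 + α 1 * q 1 + α 2 * q 2 = 0 := by
  have h : ¬ LinearIndependent K (fun i : Fin 3 => ![p i, q i]) := by
    intro hli
    have := hli.fintype_card_le_finrank
    simp at this
  rw [Fintype.not_linearIndependent_iff] at h
  obtain ⟨g, hg, hne⟩ := h
  refine ⟨g, hne, ?_, ?_⟩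
  · have := congrFun hg 0
    simpa [Fin.sum_univ_three] using this
  · have := congrFun hg 1
    simpa [Fin.sum_univ_three] using this

theorem dep3' (F₀ : Subfield F) (p q : Fin 3 → F) (hp : ∀ i, p i ∈ F₀)
    (hq : ∀ i, q i ∈ F₀) :
    ∃ α : Fin 3 → F, (∀ i, α i ∈ F₀) ∧ (∃ i, α i ≠ 0) ∧
      α 0 * p 0 + α 1 * p 1 + α 2 * p 2 = 0 ∧ α 0 * q 0 + α 1 * q 1 + α 2 * q 2 = 0 := by
  obtain ⟨α, ⟨i, hi⟩, h1, h2⟩ := dep3 (K := ↥F₀) (fun i => ⟨p i, hp i⟩) (fun i => ⟨q i, hq i⟩)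
  refine ⟨fun i => (α i : F), fun i => (α i).2, ⟨i, fun h => hi (Subtype.ext h)⟩, ?_, ?_⟩
  · have := congrArg Subtype.val h1
    simpa using this
  · have := congrArg Subtype.val h2
    simpa using this

variable (φ)

/-- the radical vector of the span of `e₀`, `e₁`, `u` -/
def radV (e₀ e₁ u : Fin n → F) : Fin n → F := hdot φ e₁ u • e₀ - hdot φ e₀ u • e₁

variable {φ}

theorem hdot_radV_left {e₀ e₁ : Fin n → F} (p : SPair φ e₀ e₁) (u : Fin n → F) :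
    hdot φ (radV φ e₀ e₁ u) e₀ = 0 := by
  unfold radV
  rw [hdot_sub_left, hdot_smul_left, hdot_smul_left, p.aa, p.ba, mul_zero, mul_zero, sub_zero]

theorem hdot_radV_right {e₀ e₁ : Fin n → F} (p : SPair φ e₀ e₁) (u : Fin n → F) :
    hdot φ (radV φ e₀ e₁ u) e₁ = 0 := by
  unfold radV
  rw [hdot_sub_left, hdot_smul_left, hdot_smul_left, p.bb, p.ab, mul_zero, mul_zero, sub_zero]

theorem hdot_radV_u (e₀ e₁ u : Fin n → F) : hdot φ (radV φ e₀ e₁ u) u = 0 := by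
  unfold radV
  rw [hdot_sub_left, hdot_smul_left, hdot_smul_left]
  ring

variable (φ)

/-- the elements of `M` fixing the orthogonal of `e₀`, `e₁`, `u` pointwise -/
def GW (M : Subgroup (GL (Fin n) F)) (e₀ e₁ u : Fin n → F) : Subgroup (GL (Fin n) F) where
  carrier := {g | g ∈ M ∧ ∀ y : Fin n → F, hdot φ y e₀ = 0 → hdot φ y e₁ = 0 → hdot φ y u = 0 →
    g • y = y}
  mul_mem' := by
    rintro g h ⟨hg, hg'⟩ ⟨hh, hh'⟩
    refine ⟨M.mul_mem hg hh, fun y h0 h1 h2 => ?_⟩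
    rw [mul_smul, hh' y h0 h1 h2, hg' y h0 h1 h2]
  one_mem' := ⟨M.one_mem, fun y _ _ _ => one_smul _ y⟩
  inv_mem' := by
    rintro g ⟨hg, hg'⟩
    refine ⟨M.inv_mem hg, fun y h0 h1 h2 => ?_⟩
    rw [inv_smul_eq_iff, hg' y h0 h1 h2]

variable {φ}

theorem mem_GW_iff {e₀ e₁ u : Fin n → F} {g : GL (Fin n) F} :
    g ∈ GW φ M e₀ e₁ u ↔ g ∈ M ∧ ∀ y : Fin n → F, hdot φ y e₀ = 0 → hdot φ y e₁ = 0 →
      hdot φ y u = 0 → g • y = y := Iff.rfl

theorem GW_fix_radV {e₀ e₁ u : Fin n → F} (p : SPair φ e₀ e₁) {g : GL (Fin n) F}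
    (hg : g ∈ GW φ M e₀ e₁ u) : g • radV φ e₀ e₁ u = radV φ e₀ e₁ u :=
  hg.2 _ (hdot_radV_left p u) (hdot_radV_right p u) (hdot_radV_u e₀ e₁ u)

theorem entries_mul_inv (X : GL (Fin 2) F) :
    (X : Matrix (Fin 2) (Fin 2) F) 0 0 * ((X⁻¹ : GL (Fin 2) F) : Matrix (Fin 2) (Fin 2) F) 0 0 +
      (X : Matrix (Fin 2) (Fin 2) F) 0 1 * ((X⁻¹ : GL (Fin 2) F) : Matrix (Fin 2) (Fin 2) F) 1 0 = 1 ∧
    (X : Matrix (Fin 2) (Fin 2) F) 1 0 * ((X⁻¹ : GL (Fin 2) F) : Matrix (Fin 2) (Fin 2) F) 0 0 +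
      (X : Matrix (Fin 2) (Fin 2) F) 1 1 * ((X⁻¹ : GL (Fin 2) F) : Matrix (Fin 2) (Fin 2) F) 1 0 = 0 ∧
    (X : Matrix (Fin 2) (Fin 2) F) 0 0 * ((X⁻¹ : GL (Fin 2) F) : Matrix (Fin 2) (Fin 2) F) 0 1 +
      (X : Matrix (Fin 2) (Fin 2) F) 0 1 * ((X⁻¹ : GL (Fin 2) F) : Matrix (Fin 2) (Fin 2) F) 1 1 = 0 ∧
    (X : Matrix (Fin 2) (Fin 2) F) 1 0 * ((X⁻¹ : GL (Fin 2) F) : Matrix (Fin 2) (Fin 2) F) 0 1 +
      (X : Matrix (Fin 2) (Fin 2) F) 1 1 * ((X⁻¹ : GL (Fin 2) F) : Matrix (Fin 2) (Fin 2) F) 1 1 = 1 := by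
  have h : (X : Matrix (Fin 2) (Fin 2) F) * ((X⁻¹ : GL (Fin 2) F) : Matrix (Fin 2) (Fin 2) F) = 1 := by
    rw [← Units.val_mul, mul_inv_cancel, Units.val_one]
  have h00 := congrFun (congrFun h 0) 0
  have h10 := congrFun (congrFun h 1) 0
  have h01 := congrFun (congrFun h 0) 1
  have h11 := congrFun (congrFun h 1) 1
  rw [Matrix.mul_apply, Fin.sum_univ_two] at h00 h10 h01 h11
  refine ⟨?_, ?_, ?_, ?_⟩
  · rw [h00]; rfl
  · rw [h10]; rfl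
  · rw [h01]; rfl
  · rw [h11]; rfl

variable (φ)

/-- the group induced by `GW` on the span of `e₀`, `e₁`, `u` modulo its radical -/
def indR (M : Subgroup (GL (Fin n) F)) (e₀ e₁ u : Fin n → F) (p : SPair φ e₀ e₁) :
    Subgroup (GL (Fin 2) F) where
  carrier := {X | ∃ g ∈ GW φ M e₀ e₁ u, ∃ a b : F,
    g • e₀ = (X : Matrix (Fin 2) (Fin 2) F) 0 0 • e₀ + (X : Matrix (Fin 2) (Fin 2) F) 1 0 • u +
      a • radV φ e₀ e₁ u ∧
    g • u = (X : Matrix (Fin 2) (Fin 2) F) 0 1 • e₀ + (X : Matrix (Fin 2) (Fin 2) F) 1 1 • u +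
      b • radV φ e₀ e₁ u}
  mul_mem' := by
    rintro X Y ⟨g, hg, a, b, hg0, hg1⟩ ⟨h, hh, a', b', hh0, hh1⟩
    have hgr := GW_fix_radV p hg
    refine ⟨g * h, (GW φ M e₀ e₁ u).mul_mem hg hh,
      (Y : Matrix (Fin 2) (Fin 2) F) 0 0 * a + (Y : Matrix (Fin 2) (Fin 2) F) 1 0 * b + a',
      (Y : Matrix (Fin 2) (Fin 2) F) 0 1 * a + (Y : Matrix (Fin 2) (Fin 2) F) 1 1 * b + b', ?_, ?_⟩
    · rw [mul_smul, hh0, smul_add, smul_add, smul_comm g, smul_comm g, smul_comm g, hg0, hg1, hgr,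
        Units.val_mul, Matrix.mul_apply, Matrix.mul_apply, Fin.sum_univ_two, Fin.sum_univ_two]
      module
    · rw [mul_smul, hh1, smul_add, smul_add, smul_comm g, smul_comm g, smul_comm g, hg0, hg1, hgr,
        Units.val_mul, Matrix.mul_apply, Matrix.mul_apply, Fin.sum_univ_two, Fin.sum_univ_two]
      module
  one_mem' := by
    refine ⟨1, (GW φ M e₀ e₁ u).one_mem, 0, 0, ?_, ?_⟩
    · rw [one_smul, Units.val_one, Matrix.one_apply_eq, Matrix.one_apply_ne (by decide)]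
      module
    · rw [one_smul, Units.val_one, Matrix.one_apply_eq, Matrix.one_apply_ne (by decide)]
      module
  inv_mem' := by
    rintro X ⟨g, hg, a, b, hg0, hg1⟩
    have hgr := GW_fix_radV p hg
    obtain ⟨m00, m10, m01, m11⟩ := entries_mul_inv X
    refine ⟨g⁻¹, (GW φ M e₀ e₁ u).inv_mem hg,
      -(a * ((X⁻¹ : GL (Fin 2) F) : Matrix (Fin 2) (Fin 2) F) 0 0 +
        b * ((X⁻¹ : GL (Fin 2) F) : Matrix (Fin 2) (Fin 2) F) 1 0),
      -(a * ((X⁻¹ : GL (Fin 2) F) : Matrix (Fin 2) (Fin 2) F) 0 1 +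
        b * ((X⁻¹ : GL (Fin 2) F) : Matrix (Fin 2) (Fin 2) F) 1 1), ?_, ?_⟩
    · rw [inv_smul_eq_iff, smul_add, smul_add, smul_comm g, smul_comm g, smul_comm g, hg0, hg1, hgr]
      have h1 : ((X⁻¹ : GL (Fin 2) F) : Matrix (Fin 2) (Fin 2) F) 0 0 •
            ((X : Matrix (Fin 2) (Fin 2) F) 0 0 • e₀ + (X : Matrix (Fin 2) (Fin 2) F) 1 0 • u +
              a • radV φ e₀ e₁ u) +
          ((X⁻¹ : GL (Fin 2) F) : Matrix (Fin 2) (Fin 2) F) 1 0 •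
            ((X : Matrix (Fin 2) (Fin 2) F) 0 1 • e₀ + (X : Matrix (Fin 2) (Fin 2) F) 1 1 • u +
              b • radV φ e₀ e₁ u) +
          (-(a * ((X⁻¹ : GL (Fin 2) F) : Matrix (Fin 2) (Fin 2) F) 0 0 +
            b * ((X⁻¹ : GL (Fin 2) F) : Matrix (Fin 2) (Fin 2) F) 1 0)) • radV φ e₀ e₁ u =
          ((X : Matrix (Fin 2) (Fin 2) F) 0 0 * ((X⁻¹ : GL (Fin 2) F) : Matrix (Fin 2) (Fin 2) F) 0 0 +
            (X : Matrix (Fin 2) (Fin 2) F) 0 1 *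
              ((X⁻¹ : GL (Fin 2) F) : Matrix (Fin 2) (Fin 2) F) 1 0) • e₀ +
          ((X : Matrix (Fin 2) (Fin 2) F) 1 0 * ((X⁻¹ : GL (Fin 2) F) : Matrix (Fin 2) (Fin 2) F) 0 0 +
            (X : Matrix (Fin 2) (Fin 2) F) 1 1 *
              ((X⁻¹ : GL (Fin 2) F) : Matrix (Fin 2) (Fin 2) F) 1 0) • u := by
        module
      rw [h1, m00, m10, one_smul, zero_smul, add_zero]
    · rw [inv_smul_eq_iff, smul_add, smul_add, smul_comm g, smul_comm g, smul_comm g, hg0, hg1, hgr]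
      have h1 : ((X⁻¹ : GL (Fin 2) F) : Matrix (Fin 2) (Fin 2) F) 0 1 •
            ((X : Matrix (Fin 2) (Fin 2) F) 0 0 • e₀ + (X : Matrix (Fin 2) (Fin 2) F) 1 0 • u +
              a • radV φ e₀ e₁ u) +
          ((X⁻¹ : GL (Fin 2) F) : Matrix (Fin 2) (Fin 2) F) 1 1 •
            ((X : Matrix (Fin 2) (Fin 2) F) 0 1 • e₀ + (X : Matrix (Fin 2) (Fin 2) F) 1 1 • u +
              b • radV φ e₀ e₁ u) +
          (-(a * ((X⁻¹ : GL (Fin 2) F) : Matrix (Fin 2) (Fin 2) F) 0 1 +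
            b * ((X⁻¹ : GL (Fin 2) F) : Matrix (Fin 2) (Fin 2) F) 1 1)) • radV φ e₀ e₁ u =
          ((X : Matrix (Fin 2) (Fin 2) F) 0 0 * ((X⁻¹ : GL (Fin 2) F) : Matrix (Fin 2) (Fin 2) F) 0 1 +
            (X : Matrix (Fin 2) (Fin 2) F) 0 1 *
              ((X⁻¹ : GL (Fin 2) F) : Matrix (Fin 2) (Fin 2) F) 1 1) • e₀ +
          ((X : Matrix (Fin 2) (Fin 2) F) 1 0 * ((X⁻¹ : GL (Fin 2) F) : Matrix (Fin 2) (Fin 2) F) 0 1 +
            (X : Matrix (Fin 2) (Fin 2) F) 1 1 *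
              ((X⁻¹ : GL (Fin 2) F) : Matrix (Fin 2) (Fin 2) F) 1 1) • u := by
        module
      rw [h1, m01, m11, one_smul, zero_smul, zero_add]

variable {φ}

theorem mem_indR_iff {e₀ e₁ u : Fin n → F} (p : SPair φ e₀ e₁) {X : GL (Fin 2) F} :
    X ∈ indR φ M e₀ e₁ u p ↔ ∃ g ∈ GW φ M e₀ e₁ u, ∃ a b : F,
      g • e₀ = (X : Matrix (Fin 2) (Fin 2) F) 0 0 • e₀ + (X : Matrix (Fin 2) (Fin 2) F) 1 0 • u +
        a • radV φ e₀ e₁ u ∧
      g • u = (X : Matrix (Fin 2) (Fin 2) F) 0 1 • e₀ + (X : Matrix (Fin 2) (Fin 2) F) 1 1 • u +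
        b • radV φ e₀ e₁ u := Iff.rfl

/-- an element of `GW` mapping the first standard vector into the span of itself and the radical
fixes it -/
theorem ut_fix [Finite F] (hyp : Hyp φ F₀ M) (D : Data φ F₀ n) {u : Fin n → F}
    (htot : ∀ w : Fin n → F, RatV F₀ w → hdot φ w w = 0 → w ≠ 0 → hdot φ w u ≠ 0)
    {g : GL (Fin n) F} (hg : g ∈ GW φ M D.e0 D.e1 u) {x a : F}
    (hge : g • D.e0 = x • D.e0 + a • radV φ D.e0 D.e1 u) : g • D.e0 = D.e0 := by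
  have he := D.e0_rat
  have he0 := D.e0_ne
  have hgM : g ∈ M := hg.1
  have hgU : g ∈ UG (Fin n) φ := (hyp.hMU hgM).1
  have hges : hdot φ (g • D.e0) (g • D.e0) = 0 := by rw [hdot_smul_smul φ hgU, D.e0_sing]
  have h1 : hdot φ D.e0 (g • D.e0) = 0 := by
    have h2 : hdot φ D.e0 (radV φ D.e0 D.e1 u) = 0 :=
      hdot_eq_zero_symm φ D.hφφ _ _ (hdot_radV_left D.sp01 u)
    rw [hge, hdot_add_right, hdot_smul_right, hdot_smul_right, D.e0_sing, h2, mul_zero, mul_zero,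
      add_zero]
  have ht' : UT φ (g • D.e0) D.τ ∈ M := by
    rw [← conj_UT' φ hgU _ D.e0_sing]
    exact M.mul_mem (M.mul_mem hgM (hyp.hR (UT_mem_R0 D he D.e0_sing D.τ_mem D.τ_tr)))
      (M.inv_mem hgM)
  have hfix : UT φ (g • D.e0) D.τ • D.e0 = (1 : F) • D.e0 := by
    rw [UT_smul φ _ hges, h1, mul_zero, zero_smul, add_zero, one_smul]
  have hrat := step1 hyp D ht' he D.e0_sing he0 hfix
  have hge0 : g • D.e0 ≠ 0 := smul_ne_zero_of_ne g he0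
  obtain ⟨j₀, hj₀⟩ : ∃ j, (g • D.e0) j ≠ 0 := by
    by_contra hcon
    push Not at hcon
    exact hge0 (funext hcon)
  have ht0 : D.τ * hdot φ (Pi.single j₀ 1) (g • D.e0) ≠ 0 := by
    rw [hdot_single_left]
    exact mul_ne_zero D.τ_ne ((map_ne_zero φ).mpr hj₀)
  have hr : RatV F₀ ((D.τ * hdot φ (Pi.single j₀ 1) (g • D.e0)) • (g • D.e0)) := by
    have h2 := hrat _ (ratV_single F₀ j₀)
    rw [map_one, one_smul, UT_smul φ _ hges] at h2
    have h3 := ratV_sub h2 (ratV_single F₀ j₀)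
    rwa [add_sub_cancel_left] at h3
  obtain ⟨s, hs0, hs⟩ := maps_rat hyp D hgM he D.e0_sing he0 ht0 hr
  obtain ⟨d, hd⟩ : ∃ d : F, d = hdot φ D.e0 u := ⟨_, rfl⟩
  have hd0 : d ≠ 0 := by rw [hd]; exact htot _ he D.e0_sing he0
  by_contra hne
  obtain ⟨δ, hδ⟩ : ∃ δ : Fin n → F, δ = g • D.e0 - D.e0 := ⟨_, rfl⟩
  have hδ0 : δ ≠ 0 := by
    rw [hδ]
    exact fun h => hne (sub_eq_zero.mp h)
  obtain ⟨j, hj⟩ : ∃ j, δ j ≠ 0 := by
    by_contra hcon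
    push Not at hcon
    exact hδ0 (funext hcon)
  have key : ∀ w : Fin n → F, hdot φ w D.e0 = 0 → hdot φ w D.e1 = 0 →
      g • w = w + (hdot φ w u * d⁻¹) • δ := by
    intro w hw0 hw1
    have h2 := hg.2 (w - (hdot φ w u * d⁻¹) • D.e0)
      (by rw [hdot_sub_left, hdot_smul_left, D.e0_sing, hw0, mul_zero, sub_zero])
      (by rw [hdot_sub_left, hdot_smul_left, D.sp01.ab, hw1, mul_zero, sub_zero])
      (by rw [hdot_sub_left, hdot_smul_left, ← hd, mul_assoc, inv_mul_cancel₀ hd0, mul_one,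
        sub_self])
    rw [smul_sub, smul_comm g] at h2
    rw [hδ, smul_sub]
    have h3 : g • w = (g • w - (hdot φ w u * d⁻¹) • g • D.e0) +
        (hdot φ w u * d⁻¹) • g • D.e0 := by abel
    rw [h3, h2]
    abel
  -- the three test vectors
  obtain ⟨wv, hwv⟩ : ∃ wv : Fin 3 → (Fin n → F), wv = ![D.e0, D.e1, D.e2] := ⟨_, rfl⟩
  have hwrat : ∀ i, RatV F₀ (wv i) := by
    intro i
    rw [hwv]
    fin_cases i
    · exact D.e0_rat
    · exact D.e1_rat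
    · exact D.e2_rat
  have hw0 : ∀ i, hdot φ (wv i) D.e0 = 0 := by
    intro i
    rw [hwv]
    fin_cases i
    · exact D.e0_sing
    · exact D.sp01.ba
    · exact D.sp02.ba
  have hw1 : ∀ i, hdot φ (wv i) D.e1 = 0 := by
    intro i
    rw [hwv]
    fin_cases i
    · exact D.sp01.ab
    · exact D.e1_sing
    · exact D.sp12.ba
  have hp : ∀ i, (s • (g • wv i)) j ∈ F₀ := fun i => hs (wv i) (hwrat i) j
  have hq : ∀ i, (wv i) j ∈ F₀ := fun i => hwrat i j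
  have hpq : ∀ i, (s • (g • wv i)) j = s * ((wv i) j + (hdot φ (wv i) u * d⁻¹) * δ j) := by
    intro i
    rw [key (wv i) (hw0 i) (hw1 i), Pi.smul_apply, Pi.add_apply, Pi.smul_apply, smul_eq_mul,
      smul_eq_mul]
  obtain ⟨α, hαF, hαne, hα1, hα2⟩ := dep3' F₀ (fun i => (s • (g • wv i)) j) (fun i => (wv i) j) hp hq
  simp only [hpq] at hα1
  have hsum : α 0 * hdot φ (wv 0) u + α 1 * hdot φ (wv 1) u + α 2 * hdot φ (wv 2) u = 0 := by
    have h2 : (s * δ j * d⁻¹) *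
        (α 0 * hdot φ (wv 0) u + α 1 * hdot φ (wv 1) u + α 2 * hdot φ (wv 2) u) = 0 := by
      linear_combination hα1 - s * hα2
    rcases mul_eq_zero.mp h2 with h3 | h3
    · exfalso
      exact mul_ne_zero (mul_ne_zero hs0 hj) (inv_ne_zero hd0) h3
    · exact h3
  obtain ⟨W, hW⟩ : ∃ W : Fin n → F, W = α 0 • D.e0 + α 1 • D.e1 + α 2 • D.e2 := ⟨_, rfl⟩
  have hWrat : RatV F₀ W := by
    rw [hW]
    exact ratV_add (ratV_add (ratV_smul (hαF 0) D.e0_rat) (ratV_smul (hαF 1) D.e1_rat))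
      (ratV_smul (hαF 2) D.e2_rat)
  have hWs : hdot φ W W = 0 := by
    rw [hW]
    simp only [hdot_add_left, hdot_add_right, hdot_smul_left, hdot_smul_right, D.sp01.aa,
      D.sp01.bb, D.sp01.ab, D.sp01.ba, D.sp02.bb, D.sp02.ab, D.sp02.ba, D.sp12.ab, D.sp12.ba,
      mul_zero, add_zero]
  have hWu : hdot φ W u = 0 := by
    rw [hW, hdot_add_left, hdot_add_left, hdot_smul_left, hdot_smul_left, hdot_smul_left]
    rw [hwv] at hsum
    exact hsum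
  have hW0 : W = 0 := by
    by_contra h
    exact htot W hWrat hWs h hWu
  have c0 := congrFun hW0 (D.c 0)
  have c1 := congrFun hW0 (D.c 2)
  have c2 := congrFun hW0 (D.c 4)
  rw [hW] at c0 c1 c2
  simp only [Pi.add_apply, Pi.smul_apply, smul_eq_mul, Pi.zero_apply] at c0 c1 c2
  rw [D.e0_apply_c0, D.e1_apply_of_ne (D.cne 0 2 (by decide)) (D.cne 0 3 (by decide)),
    D.e2_apply_of_ne (D.cne 0 4 (by decide)) (D.cne 0 5 (by decide)), mul_one, mul_zero, mul_zero,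
    add_zero, add_zero] at c0
  rw [D.e1_apply_c2, D.e0_apply_of_ne (D.cne 2 0 (by decide)) (D.cne 2 1 (by decide)),
    D.e2_apply_of_ne (D.cne 2 4 (by decide)) (D.cne 2 5 (by decide)), mul_one, mul_zero, mul_zero,
    zero_add, add_zero] at c1
  rw [D.e2_apply_c4, D.e0_apply_of_ne (D.cne 4 0 (by decide)) (D.cne 4 1 (by decide)),
    D.e1_apply_of_ne (D.cne 4 2 (by decide)) (D.cne 4 3 (by decide)), mul_one, mul_zero, mul_zero,
    zero_add, zero_add] at c2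
  obtain ⟨i, hi⟩ := hαne
  fin_cases i
  · exact hi c0
  · exact hi c1
  · exact hi c2

/-! ### elements of the induced group -/

/-- lower unitriangular matrices -/
noncomputable def lmat (b : F) : GL (Fin 2) F :=
  Matrix.GeneralLinearGroup.mkOfDetNeZero !![1, 0; b, 1] (by simp [Matrix.det_fin_two])

theorem lmat_val (b : F) :
    ((lmat b : GL (Fin 2) F) : Matrix (Fin 2) (Fin 2) F) = !![1, 0; b, 1] := rfl

theorem UT_mem_GW_left {e₀ e₁ u : Fin n → F} (he₀ : hdot φ e₀ e₀ = 0) {c : F}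
    (hc : UT φ e₀ c ∈ M) : UT φ e₀ c ∈ GW φ M e₀ e₁ u := by
  refine ⟨hc, fun y h0 _ _ => ?_⟩
  rw [UT_smul φ e₀ he₀, h0, mul_zero, zero_smul, add_zero]

theorem S_mem_GW {e₀ e₁ u : Fin n → F} (p : SPair φ e₀ e₁) {c : F} (hc : S φ e₀ e₁ c ∈ M) :
    S φ e₀ e₁ c ∈ GW φ M e₀ e₁ u := by
  refine ⟨hc, fun y h0 h1 _ => ?_⟩
  rw [S_smul p, h0, h1, mul_zero, mul_zero, zero_smul, zero_smul, add_zero, sub_zero]

theorem UT_mem_GW_u {e₀ e₁ u : Fin n → F} (hus : hdot φ u u = 0) {c : F} (hu : UT φ u c ∈ M) :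
    UT φ u c ∈ GW φ M e₀ e₁ u := by
  refine ⟨hu, fun y _ _ h2 => ?_⟩
  rw [UT_smul φ u hus, h2, mul_zero, zero_smul, add_zero]

theorem xmat_mem_indR {e₀ e₁ u : Fin n → F} (p : SPair φ e₀ e₁) {g : GL (Fin n) F}
    (hg : g ∈ GW φ M e₀ e₁ u) {β b : F} (h0 : g • e₀ = e₀)
    (h1 : g • u = β • e₀ + u + b • radV φ e₀ e₁ u) :
    Cfsg.Agent.Helper28.Subf.xmat β ∈ indR φ M e₀ e₁ u p := by
  rw [mem_indR_iff]
  refine ⟨g, hg, 0, b, ?_, ?_⟩
  · rw [h0, Cfsg.Agent.Helper28.Subf.xmat_val]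
    simp
  · rw [h1, Cfsg.Agent.Helper28.Subf.xmat_val]
    simp

theorem lmat_mem_indR {e₀ e₁ u : Fin n → F} (p : SPair φ e₀ e₁) (hus : hdot φ u u = 0) {c : F}
    (hu : UT φ u c ∈ M) : lmat (c * hdot φ e₀ u) ∈ indR φ M e₀ e₁ u p := by
  rw [mem_indR_iff]
  refine ⟨UT φ u c, UT_mem_GW_u hus hu, 0, 0, ?_, ?_⟩
  · rw [UT_smul φ u hus, lmat_val]
    simp
  · rw [UT_smul φ u hus, hus, mul_zero, zero_smul, add_zero, lmat_val]
    simp

theorem unip (hφφ : ∀ x, φ (φ x) = x) {e₀ e₁ u : Fin n → F} (p : SPair φ e₀ e₁) (f φ₁ : F)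
    (hf : hdot φ e₀ u = f) (hφ₁ : hdot φ e₁ u = φ₁) (hf0 : f ≠ 0) (c₁ c₃ : F) :
    (UT φ e₀ c₁ * S φ e₀ e₁ c₃) • e₀ = e₀ ∧
    (UT φ e₀ c₁ * S φ e₀ e₁ c₃) • u =
      (c₁ * φ f + c₃ * φ f * φ₁ / f - φ c₃ * φ φ₁) • e₀ + u +
        (-(c₃ * φ f / f)) • radV φ e₀ e₁ u := by
  have hue₀ : hdot φ u e₀ = φ f := by rw [← hf, hdot_conj φ hφφ]
  have hue₁ : hdot φ u e₁ = φ φ₁ := by rw [← hφ₁, hdot_conj φ hφφ]
  constructor
  · rw [mul_smul, S_smul p, p.aa, p.ab, mul_zero, mul_zero, zero_smul, zero_smul, add_zero,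
      sub_zero, UT_smul φ e₀ p.aa, p.aa, mul_zero, zero_smul, add_zero]
  · rw [mul_smul, S_smul p, UT_smul φ e₀ p.aa, hue₀, hue₁]
    simp only [hdot_add_left, hdot_sub_left, hdot_smul_left, p.aa, p.ba, hue₀, mul_zero, add_zero,
      sub_zero]
    unfold radV
    rw [hf, hφ₁]
    match_scalars <;> field_simp <;> ring

theorem cast_fin2_inj {i i' : Fin 2} (h : (((i : ℕ) : F)) = (((i' : ℕ) : F))) : i = i' := by
  fin_cases i <;> fin_cases i' <;> simp at h ⊢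

theorem exists_psi (D : Data φ F₀ n) {κ : F} (hκ : κ ∉ F₀) :
    ∃ c ∈ F₀, c * κ - φ (c * κ) ∉ F₀ := by
  by_contra hcon
  push Not at hcon
  have h1 := hcon 1 F₀.one_mem
  have h2 := hcon D.ω D.hω
  apply hκ
  have hne : D.ω - φ D.ω ≠ 0 := D.τ_ne
  have : κ = (D.ω - φ D.ω)⁻¹ *
      ((D.ω * κ - φ (D.ω * κ)) - φ D.ω * (1 * κ - φ (1 * κ))) := by
    rw [map_mul, map_mul, map_one]
    field_simp
    ring
  rw [this]
  exact F₀.mul_mem (F₀.inv_mem D.τ_mem) (F₀.sub_mem h2 (F₀.mul_mem (D.hst _ D.hω) h1))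

/-- the rank one contradiction -/
theorem rank_one_false [Fintype F] (hyp : Hyp φ F₀ M) (D : Data φ F₀ n) {u : Fin n → F}
    (hus : hdot φ u u = 0) (hu : UT φ u D.τ ∈ M)
    (htot : ∀ w : Fin n → F, RatV F₀ w → hdot φ w w = 0 → w ≠ 0 → hdot φ w u ≠ 0) : False := by
  classical
  have hR := hyp.hR
  have p := D.sp01
  obtain ⟨f, hf⟩ : ∃ f : F, hdot φ D.e0 u = f := ⟨_, rfl⟩
  obtain ⟨φ₁, hφ₁⟩ : ∃ φ₁ : F, hdot φ D.e1 u = φ₁ := ⟨_, rfl⟩
  have hf0 : f ≠ 0 := by rw [← hf]; exact htot _ D.e0_rat D.e0_sing D.e0_ne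
  have hφf0 : φ f ≠ 0 := (map_ne_zero φ).mpr hf0
  -- independence of `f`, `φ₁` over the subfield
  have hind : ∀ α β : F, α ∈ F₀ → β ∈ F₀ → α * f + β * φ₁ = 0 → α = 0 ∧ β = 0 := by
    intro α β hα hβ h
    have hW : RatV F₀ (α • D.e0 + β • D.e1) :=
      ratV_add (ratV_smul hα D.e0_rat) (ratV_smul hβ D.e1_rat)
    have hWs : hdot φ (α • D.e0 + β • D.e1) (α • D.e0 + β • D.e1) = 0 := by
      simp only [hdot_add_left, hdot_add_right, hdot_smul_left, hdot_smul_right, p.aa, p.bb, p.ab,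
        p.ba, mul_zero, add_zero]
    have hWu : hdot φ (α • D.e0 + β • D.e1) u = 0 := by
      rw [hdot_add_left, hdot_smul_left, hdot_smul_left, hf, hφ₁]
      exact h
    have hW0 : α • D.e0 + β • D.e1 = 0 := by
      by_contra hne
      exact htot _ hW hWs hne hWu
    have c0 := congrFun hW0 (D.c 0)
    have c1 := congrFun hW0 (D.c 2)
    simp only [Pi.add_apply, Pi.smul_apply, smul_eq_mul, Pi.zero_apply] at c0 c1
    rw [D.e0_apply_c0, D.e1_apply_of_ne (D.cne 0 2 (by decide)) (D.cne 0 3 (by decide)), mul_one,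
      mul_zero, add_zero] at c0
    rw [D.e1_apply_c2, D.e0_apply_of_ne (D.cne 2 0 (by decide)) (D.cne 2 1 (by decide)), mul_one,
      mul_zero, zero_add] at c1
    exact ⟨c0, c1⟩
  -- upper triangular elements are unipotent
  have hut : ∀ X ∈ indR φ M D.e0 D.e1 u p, (X : Matrix (Fin 2) (Fin 2) F) 1 0 = 0 →
      (X : Matrix (Fin 2) (Fin 2) F) 0 0 = 1 ∧ (X : Matrix (Fin 2) (Fin 2) F) 1 1 = 1 := by
    intro X hX hX10
    obtain ⟨g, hg, a, b, hg0, hg1⟩ := hX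
    rw [hX10, zero_smul, add_zero] at hg0
    have hgU : g ∈ UG (Fin n) φ := (hyp.hMU hg.1).1
    have hfix : g • D.e0 = D.e0 := ut_fix hyp D htot hg hg0
    have hBr : hdot φ (radV φ D.e0 D.e1 u) u = 0 := hdot_radV_u _ _ _
    have hBer : hdot φ D.e0 (radV φ D.e0 D.e1 u) = 0 :=
      hdot_eq_zero_symm φ D.hφφ _ _ (hdot_radV_left p u)
    constructor
    · have h1 : hdot φ (g • D.e0) u = f := by rw [hfix, hf]
      rw [hg0, hdot_add_left, hdot_smul_left, hdot_smul_left, hBr, mul_zero, add_zero, hf] at h1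
      exact mul_right_cancel₀ hf0 (h1.trans (one_mul f).symm)
    · have h1 : hdot φ (g • D.e0) (g • u) = f := by rw [hdot_smul_smul φ hgU, hf]
      rw [hfix, hg1, hdot_add_right, hdot_add_right, hdot_smul_right, hdot_smul_right,
        hdot_smul_right, D.e0_sing, hBer, mul_zero, mul_zero, zero_add, add_zero, hf] at h1
      have h2 : φ ((X : Matrix (Fin 2) (Fin 2) F) 1 1) = 1 :=
        mul_right_cancel₀ hf0 (h1.trans (one_mul f).symm)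
      have h3 := congrArg φ h2
      rwa [D.hφφ, map_one] at h3
  have ha : ∀ X ∈ indR φ M D.e0 D.e1 u p, (X : Matrix (Fin 2) (Fin 2) F) 1 0 = 0 →
      ∀ Y ∈ indR φ M D.e0 D.e1 u p, (Y : Matrix (Fin 2) (Fin 2) F) 1 0 ≠ 0 →
      ((Y⁻¹ * X * Y : GL (Fin 2) F) : Matrix (Fin 2) (Fin 2) F) 1 0 = 0 →
      ∃ s : F, (X : Matrix (Fin 2) (Fin 2) F) = s • 1 := by
    intro X hX hX10 Y hY hY10 hZ10
    obtain ⟨hX00, hX11⟩ := hut X hX hX10
    have hZ : Y⁻¹ * X * Y ∈ indR φ M D.e0 D.e1 u p :=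
      Subgroup.mul_mem _ (Subgroup.mul_mem _ (Subgroup.inv_mem _ hY) hX) hY
    obtain ⟨hZ00, hZ11⟩ := hut _ hZ hZ10
    obtain ⟨Z, hZdef⟩ : ∃ Z : GL (Fin 2) F, Z = Y⁻¹ * X * Y := ⟨_, rfl⟩
    rw [← hZdef] at hZ10 hZ00
    have hXY : X * Y = Y * Z := by rw [hZdef]; group
    have e00 := congrArg (fun t : GL (Fin 2) F => (t : Matrix (Fin 2) (Fin 2) F) 0 0) hXY
    simp only [Units.val_mul, Matrix.mul_apply, Fin.sum_univ_two] at e00
    rw [hX00, hZ00, hZ10, mul_zero, add_zero, one_mul, mul_one] at e00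
    have hX01 : (X : Matrix (Fin 2) (Fin 2) F) 0 1 = 0 := by
      have h1 : (X : Matrix (Fin 2) (Fin 2) F) 0 1 * (Y : Matrix (Fin 2) (Fin 2) F) 1 0 = 0 := by
        linear_combination e00
      exact (mul_eq_zero.mp h1).resolve_right hY10
    refine ⟨1, ?_⟩
    ext i j
    fin_cases i <;> fin_cases j <;> simp [hX00, hX10, hX01, hX11]
  have hd : ∃ Y ∈ indR φ M D.e0 D.e1 u p, (Y : Matrix (Fin 2) (Fin 2) F) 1 0 ≠ 0 := by
    refine ⟨lmat (D.τ * hdot φ D.e0 u), lmat_mem_indR p hus hu, ?_⟩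
    rw [lmat_val, hf]
    simpa using mul_ne_zero D.τ_ne hf0
  -- the parameter `κ`
  obtain ⟨κ, hκ⟩ : ∃ κ : F, κ = φ₁ / f := ⟨_, rfl⟩
  have hκF : κ ∉ F₀ := by
    intro h
    have h1 : κ * f + (-1) * φ₁ = 0 := by
      rw [hκ]
      field_simp
      ring
    have := (hind κ (-1) h (F₀.neg_mem F₀.one_mem) h1).2
    exact one_ne_zero (neg_eq_zero.mp this)
  obtain ⟨cs, hcs, hψ⟩ := exists_psi D hκF
  obtain ⟨ψ, hψdef⟩ : ∃ ψ : F, ψ = cs * κ - φ (cs * κ) := ⟨_, rfl⟩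
  rw [← hψdef] at hψ
  have hcard : 4 ≤ Fintype.card (Fin 2 × Fin 2) := by
    rw [Fintype.card_prod, Fintype.card_fin]
  have hnat : ∀ m : ℕ, (m : F) ∈ F₀ := fun m => natCast_mem F₀ m
  have hkey : ∀ i j : Fin 2,
      (((i : ℕ) : F) * D.τ) * φ f + (((j : ℕ) : F) * cs) * φ f * φ₁ / f -
        φ (((j : ℕ) : F) * cs) * φ φ₁ = φ f * (((i : ℕ) : F) * D.τ + ((j : ℕ) : F) * ψ) := by
    intro i j
    rw [hψdef, hκ, map_mul, map_mul, map_natCast, map_div₀]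
    field_simp
    ring
  apply Cfsg.Agent.Helper28.Subf.frob_false (indR φ M D.e0 D.e1 u p) ha (ι := Fin 2 × Fin 2)
    (fun c => (((c.1 : ℕ) : F) * D.τ) * φ f + (((c.2 : ℕ) : F) * cs) * φ f * φ₁ / f -
        φ (((c.2 : ℕ) : F) * cs) * φ φ₁) ?_ hcard ?_ hd
  · intro c c' hcc
    simp only at hcc
    rw [hkey, hkey] at hcc
    have h3 : (((c.1 : ℕ) : F) - ((c'.1 : ℕ) : F)) * D.τ +
        (((c.2 : ℕ) : F) - ((c'.2 : ℕ) : F)) * ψ = 0 := by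
      have h4 := mul_left_cancel₀ hφf0 hcc
      linear_combination h4
    have hβ : ((c.2 : ℕ) : F) - ((c'.2 : ℕ) : F) = 0 := by
      by_contra hne
      apply hψ
      have h5 : ψ = -((((c.1 : ℕ) : F) - ((c'.1 : ℕ) : F)) * D.τ) /
          (((c.2 : ℕ) : F) - ((c'.2 : ℕ) : F)) := by
        field_simp
        linear_combination h3
      rw [h5]
      exact F₀.div_mem (F₀.neg_mem (F₀.mul_mem (F₀.sub_mem (hnat _) (hnat _)) D.τ_mem))
        (F₀.sub_mem (hnat _) (hnat _))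
    rw [hβ, zero_mul, add_zero] at h3
    have hα : ((c.1 : ℕ) : F) - ((c'.1 : ℕ) : F) = 0 :=
      (mul_eq_zero.mp h3).resolve_right D.τ_ne
    exact Prod.ext (cast_fin2_inj (sub_eq_zero.mp hα)) (cast_fin2_inj (sub_eq_zero.mp hβ))
  · intro c
    obtain ⟨k0, k1⟩ := unip D.hφφ p f φ₁ hf hφ₁ hf0 (((c.1 : ℕ) : F) * D.τ) (((c.2 : ℕ) : F) * cs)
    have hz : ((c.1 : ℕ) : F) * D.τ + φ (((c.1 : ℕ) : F) * D.τ) = 0 := by
      rw [map_mul, map_natCast, D.φτ]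
      ring
    have m1 : UT φ D.e0 (((c.1 : ℕ) : F) * D.τ) ∈ M :=
      hR (UT_mem_R0 D D.e0_rat D.e0_sing (F₀.mul_mem (hnat _) D.τ_mem) hz)
    have m2 : S φ D.e0 D.e1 (((c.2 : ℕ) : F) * cs) ∈ M :=
      hR (S_mem_R0 D D.e0_rat D.e1_rat p (F₀.mul_mem (hnat _) hcs))
    exact xmat_mem_indR p (Subgroup.mul_mem _ (UT_mem_GW_left D.e0_sing m1) (S_mem_GW p m2)) k0 k1

/-- under the standing hypotheses, `M` normalises the rational structure -/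
theorem le_N [Fintype F] (hyp : Hyp φ F₀ M) (D : Data φ F₀ n) {k : GL (Fin n) F} (hk : k ∈ M) :
    InN F₀ k := by
  by_contra hkN
  obtain ⟨u, hus, hu, htot⟩ := exists_tot hyp D hk hkN
  exact rank_one_false hyp D hus hu htot

end Cfsg.Agent.H28SuSub
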