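import Mathlib
import Cfsg.Agent.Lib.Helper28.SuSubE
import Cfsg.Agent.Lib.Helper28.SpInSU
import Cfsg.Agent.S0755

/-!
# Subfield subgroups of the special unitary group (helper28), part F: maximality of the
normaliser of the rational structure, the standing data, normalising the rational structure
-/

set_option autoImplicit false

namespace Cfsg.Agent.H28SuSub

open Cfsg Matrix Cfsg.Agent.Helper11.Herm Cfsg.Agent.Helper28.SuSingMax
open Cfsg.Agent.Helper11
open scoped Cfsg.Agent.H28SuSub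

variable {F : Type*} [Field F] {n : ℕ} {φ : F →+* F} {F₀ : Subfield F}

/-- the normaliser of the rational structure is maximal in the special unitary group -/
theorem N0_maximal [Fintype F] (D : Data φ F₀ n) (r : ℕ) (hr : r.Prime)
    (hcard : Fintype.card F = Nat.card F₀ ^ r) (M : Subgroup (GL (Fin n) F))
    (hNM : N0 n φ F₀ ≤ M) (hMK : M ≤ SUg n φ) : M = N0 n φ F₀ ∨ M = SUg n φ := by
  have hR : R0 n φ F₀ ≤ M := le_trans R0_le_N0 hNM
  by_cases hA : ∃ a b : Fin n → F, RatPair φ F₀ a b ∧ ∃ c : F, c ∉ F₀ ∧ S φ a b c ∈ M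
  · right
    obtain ⟨a, b, hab, c, hc, hS⟩ := hA
    exact le_antisymm hMK (partA D r hr hcard hR hab hc hS)
  · left
    push Not at hA
    have hyp : Hyp φ F₀ M :=
      ⟨hMK, hR, fun a b hab c hc => by
        by_contra h
        exact hA a b hab c h hc⟩
    exact le_antisymm (fun k hk => ⟨hMK hk, le_N hyp D hk⟩) hNM

theorem exists_irrational [Fintype F] (r : ℕ) (hr : r.Prime)
    (hcard : Fintype.card F = Nat.card F₀ ^ r) : ∃ a : F, a ∉ F₀ := by
  by_contra h
  push Not at h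
  have h1 : Nat.card F₀ = Fintype.card F := by
    rw [← Nat.card_eq_fintype_card]
    exact Nat.card_congr (Equiv.subtypeUnivEquiv h)
  rw [h1] at hcard
  have h2 : 1 < Fintype.card F := Fintype.one_lt_card
  have h3 : Fintype.card F ^ 2 ≤ Fintype.card F ^ r :=
    Nat.pow_le_pow_right (by omega) hr.two_le
  nlinarith

/-- an irrational element of trace zero -/
theorem exists_irrational_trace_zero [Fintype F] (D : Data φ F₀ n) (r : ℕ) (hr : r.Prime)
    (hcard : Fintype.card F = Nat.card F₀ ^ r) : ∃ c : F, c + φ c = 0 ∧ c ∉ F₀ := by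
  obtain ⟨y, hy⟩ := exists_irrational (F₀ := F₀) r hr hcard
  obtain ⟨b, hb⟩ : ∃ b : F, b = (y - φ y) / D.τ := ⟨_, rfl⟩
  obtain ⟨a, ha⟩ : ∃ a : F, a = y - D.ω * b := ⟨_, rfl⟩
  have hτ : D.τ = D.ω - φ D.ω := rfl
  have hφb : φ b = b := by
    rw [hb, map_div₀, map_sub, D.hφφ, D.φτ]
    have := D.τ_ne
    field_simp
    ring
  have hφa : φ a = a := by
    rw [ha, map_sub, map_mul, hφb, hb]
    have := D.τ_ne
    field_simp
    rw [hτ]
    ring
  obtain ⟨x, hx, hxF⟩ : ∃ x : F, φ x = x ∧ x ∉ F₀ := by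
    by_cases hbF : b ∈ F₀
    · refine ⟨a, hφa, fun haF => hy ?_⟩
      have : y = a + D.ω * b := by rw [ha]; ring
      rw [this]
      exact F₀.add_mem haF (F₀.mul_mem D.hω hbF)
    · exact ⟨b, hφb, hbF⟩
  refine ⟨D.τ * x, ?_, fun h => hxF ?_⟩
  · rw [map_mul, hx, D.φτ]
    ring
  · have : x = D.τ⁻¹ * (D.τ * x) := by rw [← mul_assoc, inv_mul_cancel₀ D.τ_ne, one_mul]
    rw [this]
    exact F₀.mul_mem (F₀.inv_mem D.τ_mem) h

theorem not_inN_UT (D : Data φ F₀ n) {c : F} (hc : c ∉ F₀) : ¬ InN F₀ (UT φ D.e0 c) := by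
  rintro ⟨s, hs, h⟩
  have h0 := h D.e0 D.e0_rat
  rw [UT_smul φ _ D.e0_sing, D.e0_sing, mul_zero, zero_smul, add_zero] at h0
  have hsF : s ∈ F₀ := mem_of_ratV_smul D.e0_rat D.e0_ne h0
  have h1 := h D.f0 D.f0_rat
  rw [UT_smul φ _ D.e0_sing, D.f0_e0, mul_one] at h1
  have h2 := ratV_of_smul hsF hs h1
  have h3 := ratV_sub h2 D.f0_rat
  rw [add_sub_cancel_left] at h3
  exact hc (mem_of_ratV_smul D.e0_rat D.e0_ne h3)

theorem N0_lt [Fintype F] (D : Data φ F₀ n) (r : ℕ) (hr : r.Prime)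
    (hcard : Fintype.card F = Nat.card F₀ ^ r) : N0 n φ F₀ < SUg n φ := by
  apply lt_of_le_of_ne (fun k hk => hk.1)
  intro heq
  obtain ⟨c, hcz, hc⟩ := exists_irrational_trace_zero D r hr hcard
  have h1 : UT φ D.e0 c ∈ SUg n φ := UT_mem_SUg φ D.hφφ _ D.e0_sing c hcz
  rw [← heq] at h1
  exact not_inN_UT D hc h1.2

/-- the normaliser of the rational structure is a maximal subgroup of the special unitary
group -/
theorem N0_isMaximalIn [Fintype F] (D : Data φ F₀ n) (r : ℕ) (hr : r.Prime)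
    (hcard : Fintype.card F = Nat.card F₀ ^ r) :
    Cfsg.Geo.IsMaximalIn (SUg n φ) (N0 n φ F₀) :=
  ⟨N0_lt D r hr hcard, fun M h1 h2 => N0_maximal D r hr hcard M h1 h2⟩

/-! ### the standing data from the hypotheses of the statement -/

/-- an involution of a field of odd prime degree over a subfield moves the subfield -/
theorem exists_moved [Fintype F] (hφ : φ ≠ RingHom.id F) (hφφ : ∀ x, φ (φ x) = x) (r : ℕ)
    (hr : r.Prime) (hro : Odd r) (hcard : Fintype.card F = Nat.card F₀ ^ r) :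
    ∃ ω ∈ F₀, φ ω ≠ ω := by
  classical
  by_contra hcon
  push Not at hcon
  have hfix : ∀ y : F, φ y = y → y ∈ F₀ := by
    intro y hy
    by_contra hyF
    let L : Subalgebra F₀ F :=
      { carrier := {x | φ x = x}
        mul_mem' := by
          intro a b ha hb
          show φ (a * b) = a * b
          rw [map_mul, ha, hb]
        add_mem' := by
          intro a b ha hb
          show φ (a + b) = a + b
          rw [map_add, ha, hb]
        algebraMap_mem' := fun x => hcon x x.2 }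
    have hL := Cfsg.Agent.Helper28.Subf.subalgebra_eq_top F₀ r hr hcard L y hyF hy
    apply hφ
    ext x
    have : x ∈ L := by rw [hL]; exact Algebra.mem_top
    exact this
  obtain ⟨θ, hθ⟩ : ∃ θ : F, φ θ ≠ θ := by
    by_contra h
    push Not at h
    exact hφ (RingHom.ext h)
  have hne : θ - φ θ ≠ 0 := sub_ne_zero.mpr (Ne.symm hθ)
  have hbij : Function.Bijective (fun p : ↥F₀ × ↥F₀ => (p.1 : F) + θ * (p.2 : F)) := by
    constructor
    · rintro ⟨a, b⟩ ⟨a', b'⟩ h
      simp only at h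
      have h' := congrArg φ h
      rw [map_add, map_add, map_mul, map_mul, hcon _ a.2, hcon _ b.2, hcon _ a'.2,
        hcon _ b'.2] at h'
      have hb : (b : F) = b' := by
        have : (θ - φ θ) * ((b : F) - b') = 0 := by linear_combination h - h'
        exact sub_eq_zero.mp ((mul_eq_zero.mp this).resolve_left hne)
      have ha : (a : F) = a' := by
        rw [hb] at h
        exact add_right_cancel h
      exact Prod.ext (Subtype.ext ha) (Subtype.ext hb)
    · intro y
      obtain ⟨b, hbdef⟩ : ∃ b : F, b = (y - φ y) / (θ - φ θ) := ⟨_, rfl⟩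
      have hb : φ b = b := by
        rw [hbdef, map_div₀, map_sub, map_sub, hφφ, hφφ, ← neg_sub y, ← neg_sub θ, neg_div_neg_eq]
      have ha : φ (y - θ * b) = y - θ * b := by
        rw [map_sub, map_mul, hb, hbdef]
        field_simp
        ring
      refine ⟨(⟨y - θ * b, hfix _ ha⟩, ⟨b, hfix _ hb⟩), ?_⟩
      show y - θ * b + θ * b = y
      ring
  haveI : Fintype ↥F₀ := Fintype.ofFinite _
  have hc2 : Fintype.card F = Nat.card F₀ ^ 2 := by
    rw [← Fintype.card_of_bijective hbij, Fintype.card_prod, Nat.card_eq_fintype_card]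
    ring
  have h2 : 2 ≤ Nat.card F₀ := by
    rw [Nat.card_eq_fintype_card]
    exact Fintype.one_lt_card
  have hr2 : r = 2 := Nat.pow_right_injective h2 (by
    show Nat.card F₀ ^ r = Nat.card F₀ ^ 2
    rw [← hcard, hc2])
  rw [hr2] at hro
  exact absurd hro (by decide)

/-- the standing data exist under the hypotheses of the statement -/
theorem exists_data [Fintype F] (hn : 7 ≤ n) (hφ : φ ≠ RingHom.id F) (hφφ : ∀ x, φ (φ x) = x)
    (hN1 : ∀ c : F, c ≠ 0 → φ c = c → ∃ l : F, l ≠ 0 ∧ l * φ l = c)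
    (hst : ∀ x ∈ F₀, φ x ∈ F₀) (r : ℕ) (hr : r.Prime) (hro : Odd r)
    (hcard : Fintype.card F = Nat.card F₀ ^ r) : Nonempty (Data φ F₀ n) := by
  obtain ⟨ω, hω, hω'⟩ := exists_moved hφ hφφ r hr hro hcard
  have hω0 : ω ≠ 0 := by
    intro h
    apply hω'
    rw [h, map_zero]
  have hφω0 : φ ω ≠ 0 := (map_ne_zero φ).mpr hω0
  -- the involution on the subfield
  let φ₀ : ↥F₀ →+* ↥F₀ := (φ.comp F₀.subtype).codRestrict F₀ (fun x => hst _ x.2)
  have hφ₀ : φ₀ ≠ RingHom.id ↥F₀ := by
    intro h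
    apply hω'
    have h1 := congrArg (fun f : ↥F₀ →+* ↥F₀ => ((f ⟨ω, hω⟩ : ↥F₀) : F)) h
    exact h1
  have hφ₀2 : ∀ x : ↥F₀, φ₀ (φ₀ x) = x := by
    intro x
    apply Subtype.ext
    show φ (φ (x : F)) = x
    rw [hφφ]
  obtain ⟨x, hx⟩ := Cfsg.Agent.Helper28.exists_norm_eq φ₀ hφ₀ hφ₀2 (μ := -1)
    (neg_ne_zero.mpr one_ne_zero) (by rw [map_neg, map_one])
  have hx' : (x : F) * φ (x : F) = -1 := by
    have h1 := congrArg Subtype.val hx
    have h2 : ((x * φ₀ x : ↥F₀) : F) = (x : F) * φ (x : F) := rfl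
    rw [h2] at h1
    rw [h1]
    simp
  have hx0 : (x : F) ≠ 0 := by
    intro h
    rw [h, zero_mul] at hx'
    exact one_ne_zero (neg_eq_zero.mp hx'.symm)
  refine ⟨{
    hφ := hφ
    hφφ := hφφ
    hN1 := hN1
    hst := hst
    ω := ω
    hω := hω
    hω' := hω'
    lam := (x : F)
    lam' := (x : F) * (φ ω / ω)
    hl := x.2
    hl' := F₀.mul_mem x.2 (F₀.div_mem (hst _ hω) hω)
    hNl := hx'
    hNl' := by
      rw [map_mul, map_div₀, hφφ]
      have : (x : F) * (φ ω / ω) * (φ (x : F) * (ω / φ ω)) = (x : F) * φ (x : F) := by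
        field_simp
      rw [this, hx']
    hll := by
      intro h
      apply hω'
      have h1 : (x : F) * 1 = (x : F) * (φ ω / ω) := by rw [mul_one]; exact h
      have h2 := mul_left_cancel₀ hx0 h1
      field_simp at h2
      exact h2.symm
    c := Fin.castLE hn
    hc := Fin.castLE_injective hn }⟩

end Cfsg.Agent.H28SuSub
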