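import Mathlib
import Cfsg.Agent.Lib.Helper28.SuSubF
import Cfsg.Agent.Lib.Helper11.UnitaryInvol

/-!
# Subfield subgroups of the special unitary group (helper28), part G: normalising the rational
structure and transferring the maximality to the statement
-/

set_option autoImplicit false

namespace Cfsg.Agent.H28SuSub

open Cfsg Matrix Cfsg.Agent.Helper11.Herm Cfsg.Agent.Helper28.SuSingMax
open Cfsg.Agent.Helper11
open scoped Cfsg.Agent.H28SuSub

variable {F : Type*} [Field F] {n : ℕ} {φ : F →+* F} {F₀ : Subfield F}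

theorem isU_of_cols (A : Matrix (Fin n) (Fin n) F)
    (h : ∀ i j, hdot φ (A *ᵥ Pi.single i 1) (A *ᵥ Pi.single j 1) = if i = j then 1 else 0) :
    IsU φ A := by
  unfold IsU
  ext i j
  rw [Matrix.mul_apply, Matrix.one_apply, ← h i j, Matrix.mulVec_single_one,
    Matrix.mulVec_single_one, hdot_def]
  rfl

section normal

variable (D : Data φ F₀ n) (P : GL (Fin n) F)
  (hP : ∀ u v : Fin n → F, RatV F₀ u → RatV F₀ v → hdot φ (P • u) (P • v) ∈ F₀)

/-- the form on the rational vectors induced by `P` -/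
noncomputable def twH : (Fin n → ↥F₀) →ₛₗ[D.φ₀] (Fin n → ↥F₀) →ₗ[↥F₀] ↥F₀ :=
  LinearMap.mk₂'ₛₗ D.φ₀ (RingHom.id ↥F₀)
    (fun x y => (⟨hdot φ (P • emb F₀ y) (P • emb F₀ x),
      hP _ _ (ratV_emb F₀ y) (ratV_emb F₀ x)⟩ : ↥F₀))
    (by
      intro x x' y
      apply Subtype.ext
      show hdot φ (P • emb F₀ y) (P • emb F₀ (x + x')) =
        hdot φ (P • emb F₀ y) (P • emb F₀ x) + hdot φ (P • emb F₀ y) (P • emb F₀ x')
      rw [emb_add, smul_add, hdot_add_right])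
    (by
      intro c x y
      apply Subtype.ext
      show hdot φ (P • emb F₀ y) (P • emb F₀ (c • x)) =
        φ (c : F) * hdot φ (P • emb F₀ y) (P • emb F₀ x)
      rw [emb_smul, smul_comm P, hdot_smul_right])
    (by
      intro x y y'
      apply Subtype.ext
      show hdot φ (P • emb F₀ (y + y')) (P • emb F₀ x) =
        hdot φ (P • emb F₀ y) (P • emb F₀ x) + hdot φ (P • emb F₀ y') (P • emb F₀ x)
      rw [emb_add, smul_add, hdot_add_left])
    (by
      intro c x y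
      apply Subtype.ext
      show hdot φ (P • emb F₀ (c • y)) (P • emb F₀ x) =
        (c : F) * hdot φ (P • emb F₀ y) (P • emb F₀ x)
      rw [emb_smul, smul_comm P, hdot_smul_left])

theorem twH_apply (x y : Fin n → ↥F₀) :
    ((twH D P hP x y : ↥F₀) : F) = hdot φ (P • emb F₀ y) (P • emb F₀ x) := rfl

theorem twH_isSymm : (twH D P hP).IsSymm :=
  ⟨fun x y => by
    apply Subtype.ext
    rw [D.φ₀_coe, twH_apply, twH_apply, hdot_conj φ D.hφφ]⟩

include D in
theorem eq_zero_of_rat_perp (w : Fin n → F)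
    (h : ∀ y : Fin n → ↥F₀, hdot φ (P • emb F₀ y) w = 0) : w = 0 := by
  classical
  apply eq_zero_of_hdot_left φ D.hφφ
  intro v
  have hv : v = P • (P⁻¹ • v) := by rw [smul_inv_smul]
  rw [hv, pi_eq_sum_univ' (P⁻¹ • v), Finset.smul_sum, hdot_sum_left]
  apply Finset.sum_eq_zero
  intro j _
  rw [smul_comm P, hdot_smul_left]
  have h1 : (Pi.single j 1 : Fin n → F) = emb F₀ (Pi.single j 1) := by
    funext l
    rw [emb_apply, Pi.single_apply, Pi.single_apply]
    split_ifs <;> simp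
  rw [h1, h, mul_zero]

theorem twH_nondegenerate : (twH D P hP).Nondegenerate := by
  constructor
  · intro x hx
    apply emb_injective F₀
    rw [emb_zero]
    have h1 : P • emb F₀ x = 0 := by
      apply eq_zero_of_rat_perp D P
      intro y
      have := congrArg Subtype.val (hx y)
      rw [twH_apply] at this
      exact this
    have := congrArg (fun t => P⁻¹ • t) h1
    simpa using this
  · intro y hy
    apply emb_injective F₀
    rw [emb_zero]
    have h1 : P • emb F₀ y = 0 := by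
      apply eq_zero_of_rat_perp D P
      intro x
      have := congrArg Subtype.val (hy x)
      rw [twH_apply] at this
      apply hdot_eq_zero_symm φ D.hφφ
      exact this
    have := congrArg (fun t => P⁻¹ • t) h1
    simpa using this

include D hP in
/-- the rational structure can be normalised so that the change of basis is unitary -/
theorem exists_normalU [Finite F] :
    ∃ R : GL (Fin n) ↥F₀,
      P * Matrix.GeneralLinearGroup.map (F₀.subtype : ↥F₀ →+* F) R ∈ UG (Fin n) φ := by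
  classical
  obtain ⟨b, hb⟩ := Cfsg.Agent.S0755.main D.φ₀ D.hφ₀ D.hφ₀φ₀ n (twH D P hP) (twH_isSymm D P hP)
    (twH_nondegenerate D P hP) (Module.finrank_fin_fun ↥F₀)
  obtain ⟨e, he⟩ : ∃ e : (Fin n → ↥F₀) ≃ₗ[↥F₀] (Fin n → ↥F₀), e = b.equivFun := ⟨_, rfl⟩
  have hesingle : ∀ j : Fin n, e.symm (Pi.single j 1) = b j := by
    intro j
    rw [LinearEquiv.symm_apply_eq, he]
    funext i
    rw [Module.Basis.equivFun_self, Pi.single_apply]
    simp only [eq_comm]
  set R₀ : Matrix (Fin n) (Fin n) ↥F₀ :=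
    LinearMap.toMatrix' (e.symm : (Fin n → ↥F₀) →ₗ[↥F₀] (Fin n → ↥F₀)) with hR₀
  set R₁ : Matrix (Fin n) (Fin n) ↥F₀ :=
    LinearMap.toMatrix' (e : (Fin n → ↥F₀) →ₗ[↥F₀] (Fin n → ↥F₀)) with hR₁
  have h01 : R₀ * R₁ = 1 := by
    rw [hR₀, hR₁, ← LinearMap.toMatrix'_comp]
    have : (e.symm : (Fin n → ↥F₀) →ₗ[↥F₀] (Fin n → ↥F₀)).comp
        (e : (Fin n → ↥F₀) →ₗ[↥F₀] (Fin n → ↥F₀)) = LinearMap.id := by
      ext x
      simp
    rw [this, LinearMap.toMatrix'_id]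
  have h10 : R₁ * R₀ = 1 := by
    rw [hR₀, hR₁, ← LinearMap.toMatrix'_comp]
    have : (e : (Fin n → ↥F₀) →ₗ[↥F₀] (Fin n → ↥F₀)).comp
        (e.symm : (Fin n → ↥F₀) →ₗ[↥F₀] (Fin n → ↥F₀)) = LinearMap.id := by
      ext x
      simp
    rw [this, LinearMap.toMatrix'_id]
  refine ⟨⟨R₀, R₁, h01, h10⟩, ?_⟩
  have hval : ((Matrix.GeneralLinearGroup.map (F₀.subtype : ↥F₀ →+* F)
      (⟨R₀, R₁, h01, h10⟩ : GL (Fin n) ↥F₀) : GL (Fin n) F) : Matrix (Fin n) (Fin n) F) =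
      R₀.map (F₀.subtype : ↥F₀ →+* F) := by
    ext i j
    rfl
  have hmul : ∀ x : Fin n → ↥F₀,
      ((P * Matrix.GeneralLinearGroup.map (F₀.subtype : ↥F₀ →+* F)
        (⟨R₀, R₁, h01, h10⟩ : GL (Fin n) ↥F₀) : GL (Fin n) F) : Matrix (Fin n) (Fin n) F) *ᵥ
          emb F₀ x = P • emb F₀ (e.symm x) := by
    intro x
    rw [Units.val_mul, ← Matrix.mulVec_mulVec, hval, ← emb_mulVec, hR₀,
      LinearMap.toMatrix'_mulVec]
    rfl
  rw [mem_UG_iff]
  apply isU_of_cols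
  intro i j
  have hi : (Pi.single i 1 : Fin n → F) = emb F₀ (Pi.single i 1) := by
    funext l
    rw [emb_apply, Pi.single_apply, Pi.single_apply]
    split_ifs <;> simp
  have hj : (Pi.single j 1 : Fin n → F) = emb F₀ (Pi.single j 1) := by
    funext l
    rw [emb_apply, Pi.single_apply, Pi.single_apply]
    split_ifs <;> simp
  rw [hi, hj, hmul, hmul, hesingle, hesingle, ← twH_apply D P hP, hb j i]
  split_ifs with h1 h2 h2
  · simp
  · exact absurd h1.symm h2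
  · exact absurd h2.symm h1
  · simp

end normal

/-! ### transfer -/

section transfer

variable (F₀)

theorem subfieldSubgroup_mul_rat' (P : GL (Fin n) F) (R : GL (Fin n) ↥F₀) :
    Cfsg.Geo.subfieldSubgroup F₀ (P * Matrix.GeneralLinearGroup.map (F₀.subtype : ↥F₀ →+* F) R) =
      Cfsg.Geo.subfieldSubgroup F₀ P := by
  unfold Cfsg.Geo.subfieldSubgroup
  set H : Subgroup (GL (Fin n) F) :=
    (Matrix.GeneralLinearGroup.map (F₀.subtype : ↥F₀ →+* F)).range ⊔
      Cfsg.Geo.scalars (Fin n) F with hH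
  set R' : GL (Fin n) F := Matrix.GeneralLinearGroup.map (F₀.subtype : ↥F₀ →+* F) R
    with hR'
  have hR'H : R' ∈ H := Subgroup.mem_sup_left ⟨R, rfl⟩
  ext x
  simp only [Subgroup.mem_map, MulEquiv.coe_toMonoidHom, MulAut.conj_apply]
  constructor
  · rintro ⟨y, hy, rfl⟩
    refine ⟨R' * y * R'⁻¹, H.mul_mem (H.mul_mem hR'H hy) (H.inv_mem hR'H), ?_⟩
    group
  · rintro ⟨y, hy, rfl⟩
    refine ⟨R'⁻¹ * y * R', H.mul_mem (H.mul_mem (H.inv_mem hR'H) hy) hR'H, ?_⟩
    group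

variable {F₀}

theorem mem_subfield_iff_inN (Q g : GL (Fin n) F) :
    g ∈ Cfsg.Geo.subfieldSubgroup F₀ Q ↔ InN F₀ (Q⁻¹ * g * Q) := by
  have e2 : ∀ u : Fin n → F,
      Cfsg.Agent.Helper28.SpInSU.cj Q g u = (Q⁻¹ * g * Q) • u := by
    intro u
    rw [Cfsg.Agent.Helper28.SpInSU.cj_eq]
    rfl
  constructor
  · intro h
    obtain ⟨c, hc, hr⟩ := Cfsg.Agent.Helper28.SpInSU.rat_of_mem_subfield F₀ Q g h
    refine ⟨c, hc, fun v hv => ?_⟩
    have := hr v hv
    rwa [e2] at this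
  · rintro ⟨s, hs, h⟩
    apply Cfsg.Agent.Helper28.SpInSU.mem_subfield_of_rat F₀ Q g s hs
    intro j
    rw [e2]
    exact h _ (ratV_single F₀ j)

theorem conj_mem_SUg_iff {Q : GL (Fin n) F} (hQ : Q ∈ UG (Fin n) φ) (g : GL (Fin n) F) :
    g ∈ SUg n φ ↔ Q⁻¹ * g * Q ∈ SUg n φ := by
  have hQ' : Q⁻¹ ∈ UG (Fin n) φ := (UG (Fin n) φ).inv_mem hQ
  have hdet : Matrix.GeneralLinearGroup.det (Q⁻¹ * g * Q) = Matrix.GeneralLinearGroup.det g := by
    rw [map_mul, map_mul, map_inv, mul_comm, ← mul_assoc, mul_inv_cancel, one_mul]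
  constructor
  · intro h
    have h1 : g ∈ UG (Fin n) φ := h.1
    have h2 : g ∈ Cfsg.Geo.specialLinear (Fin n) F := h.2
    have h5 : Q⁻¹ * g * Q ∈ Cfsg.Geo.specialLinear (Fin n) F := by
      rw [Cfsg.Agent.Helper28.mem_specialLinear_iff] at h2 ⊢
      rw [hdet, h2]
    exact ⟨(UG (Fin n) φ).mul_mem ((UG (Fin n) φ).mul_mem hQ' h1) hQ, h5⟩
  · intro h
    have h1 : Q⁻¹ * g * Q ∈ UG (Fin n) φ := h.1
    have h2 : Q⁻¹ * g * Q ∈ Cfsg.Geo.specialLinear (Fin n) F := h.2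
    have h5 : g ∈ Cfsg.Geo.specialLinear (Fin n) F := by
      rw [Cfsg.Agent.Helper28.mem_specialLinear_iff] at h2 ⊢
      rw [← hdet, h2]
    have h3 := (UG (Fin n) φ).mul_mem ((UG (Fin n) φ).mul_mem hQ h1) hQ'
    have h4 : Q * (Q⁻¹ * g * Q) * Q⁻¹ = g := by group
    rw [h4] at h3
    exact ⟨h3, h5⟩

/-- the subfield subgroup is maximal in the special unitary group -/
theorem su_subfield_maximal [Fintype F] (D : Data φ F₀ n) (r : ℕ) (hr : r.Prime)
    (hcard : Fintype.card F = Nat.card F₀ ^ r) (P : GL (Fin n) F)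
    (hP : ∀ u v : Fin n → F, RatV F₀ u → RatV F₀ v → hdot φ (P • u) (P • v) ∈ F₀) :
    Cfsg.Geo.IsMaximalIn (SUg n φ) (Cfsg.Geo.subfieldSubgroup F₀ P ⊓ SUg n φ) := by
  obtain ⟨R, hQ⟩ := exists_normalU D P hP
  rw [← subfieldSubgroup_mul_rat' F₀ P R]
  obtain ⟨Q, hQdef⟩ : ∃ Q : GL (Fin n) F,
      Q = P * Matrix.GeneralLinearGroup.map (F₀.subtype : ↥F₀ →+* F) R := ⟨_, rfl⟩
  rw [← hQdef] at hQ ⊢
  apply Cfsg.Agent.Helper28.SuGen.isMaximalIn_of_equiv (MulAut.conj Q⁻¹) (SUg n φ)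
    (Cfsg.Geo.subfieldSubgroup F₀ Q ⊓ SUg n φ) (SUg n φ) (N0 n φ F₀) ?_ ?_
    (N0_isMaximalIn D r hr hcard)
  · intro g
    rw [MulAut.conj_apply, inv_inv]
    exact conj_mem_SUg_iff hQ g
  · intro g
    rw [MulAut.conj_apply, inv_inv, mem_N0_iff, Subgroup.mem_inf, mem_subfield_iff_inN,
      ← conj_mem_SUg_iff hQ g]
    exact and_comm

end transfer

end Cfsg.Agent.H28SuSub
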