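import Mathlib
import Cfsg.Prelude.Def_GeometricClasses
import Cfsg.Agent.Lib.Helper28.SubfA
import Cfsg.Agent.Lib.Helper12.SLVecTrans

/-!
# Subfield subgroups of `SL_n` (helper28), part B: the rational structure
-/

set_option autoImplicit false

namespace Cfsg.Agent.Helper28.Subf

open Matrix Cfsg Cfsg.Agent.Helper28 Cfsg.Agent.Helper28.SubspaceMax Cfsg.Agent.Helper28.SpInSL

variable {F : Type*} [Field F] {n : ℕ} (F₀ : Subfield F)

/-- vectors with entries in the subfield -/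
def Rat (x : Fin n → F) : Prop := ∀ i, x i ∈ F₀

/-- matrices with entries in the subfield -/
def RatM (A : Matrix (Fin n) (Fin n) F) : Prop := ∀ i j, A i j ∈ F₀

/-- scalar multiples of matrices with entries in the subfield -/
def InN (g : GL (Fin n) F) : Prop := ∃ c : F, c ≠ 0 ∧ RatM F₀ (c • (g : Matrix (Fin n) (Fin n) F))

variable {F₀}

theorem rat_zero : Rat F₀ (0 : Fin n → F) := fun _ => F₀.zero_mem

theorem rat_add {u v : Fin n → F} (hu : Rat F₀ u) (hv : Rat F₀ v) : Rat F₀ (u + v) :=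
  fun i => F₀.add_mem (hu i) (hv i)

theorem rat_sub {u v : Fin n → F} (hu : Rat F₀ u) (hv : Rat F₀ v) : Rat F₀ (u - v) :=
  fun i => F₀.sub_mem (hu i) (hv i)

theorem rat_neg {u : Fin n → F} (hu : Rat F₀ u) : Rat F₀ (-u) :=
  fun i => F₀.neg_mem (hu i)

theorem rat_smul {c : F} (hc : c ∈ F₀) {u : Fin n → F} (hu : Rat F₀ u) : Rat F₀ (c • u) :=
  fun i => F₀.mul_mem hc (hu i)

theorem rat_single (j : Fin n) {a : F} (ha : a ∈ F₀) : Rat F₀ (Pi.single j a : Fin n → F) := by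
  intro i
  rw [Pi.single_apply]
  split_ifs
  · exact ha
  · exact F₀.zero_mem

theorem rat_dot {u v : Fin n → F} (hu : Rat F₀ u) (hv : Rat F₀ v) : u ⬝ᵥ v ∈ F₀ := by
  rw [dotProduct]
  exact F₀.sum_mem fun i _ => F₀.mul_mem (hu i) (hv i)

theorem ratM_mulVec {A : Matrix (Fin n) (Fin n) F} (hA : RatM F₀ A) {v : Fin n → F}
    (hv : Rat F₀ v) : Rat F₀ (A *ᵥ v) :=
  fun i => rat_dot (hA i) hv

theorem rat_vecMul {A : Matrix (Fin n) (Fin n) F} (hA : RatM F₀ A) {v : Fin n → F}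
    (hv : Rat F₀ v) : Rat F₀ (v ᵥ* A) :=
  fun j => rat_dot hv (fun i => hA i j)

theorem ratM_mul {A B : Matrix (Fin n) (Fin n) F} (hA : RatM F₀ A) (hB : RatM F₀ B) :
    RatM F₀ (A * B) :=
  fun i j => rat_dot (hA i) (fun k => hB k j)

theorem ratM_one : RatM F₀ (1 : Matrix (Fin n) (Fin n) F) := by
  intro i j
  rw [Matrix.one_apply]
  split_ifs
  · exact F₀.one_mem
  · exact F₀.zero_mem

theorem ratM_tv {v ψ : Fin n → F} (hv : Rat F₀ v) (hψ : Rat F₀ ψ) :
    RatM F₀ ((tv v ψ : GL (Fin n) F) : Matrix (Fin n) (Fin n) F) := by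
  by_cases h : ψ ⬝ᵥ v = 0
  · rw [tv_val _ _ h]
    intro i j
    rw [Matrix.add_apply, vecMulVec_apply]
    exact F₀.add_mem (ratM_one i j) (F₀.mul_mem (hv i) (hψ j))
  · rw [tv_of_not _ _ h, Units.val_one]
    exact ratM_one

theorem mulVec_e (A : Matrix (Fin n) (Fin n) F) (j i : Fin n) :
    (A *ᵥ (Pi.single j 1 : Fin n → F)) i = A i j := by
  rw [Matrix.mulVec, dotProduct_single, mul_one]

theorem vecMul_e (A : Matrix (Fin n) (Fin n) F) (i j : Fin n) :
    ((Pi.single i 1 : Fin n → F) ᵥ* A) j = A i j := by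
  rw [Matrix.vecMul, single_dotProduct, one_mul]

theorem single_ne_zero' (i : Fin n) : (Pi.single i 1 : Fin n → F) ≠ 0 := by
  intro h
  have := congrFun h i
  rw [Pi.single_eq_same, Pi.zero_apply] at this
  exact one_ne_zero this

theorem inv_mulVec_mulVec (g : GL (Fin n) F) (x : Fin n → F) :
    ((g⁻¹ : GL (Fin n) F) : Matrix (Fin n) (Fin n) F) *ᵥ
      ((g : Matrix (Fin n) (Fin n) F) *ᵥ x) = x := by
  rw [Matrix.mulVec_mulVec, ← Units.val_mul, inv_mul_cancel, Units.val_one, Matrix.one_mulVec]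

theorem mulVec_inv_mulVec' (g : GL (Fin n) F) (x : Fin n → F) :
    (g : Matrix (Fin n) (Fin n) F) *ᵥ
      (((g⁻¹ : GL (Fin n) F) : Matrix (Fin n) (Fin n) F) *ᵥ x) = x := by
  rw [Matrix.mulVec_mulVec, ← Units.val_mul, mul_inv_cancel, Units.val_one, Matrix.one_mulVec]

theorem vecMul_vecMul_inv (g : GL (Fin n) F) (x : Fin n → F) :
    (x ᵥ* ((g⁻¹ : GL (Fin n) F) : Matrix (Fin n) (Fin n) F)) ᵥ*
      (g : Matrix (Fin n) (Fin n) F) = x := by
  rw [Matrix.vecMul_vecMul, ← Units.val_mul, inv_mul_cancel, Units.val_one, Matrix.vecMul_one]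

theorem vecMul_inv_vecMul (g : GL (Fin n) F) (x : Fin n → F) :
    (x ᵥ* (g : Matrix (Fin n) (Fin n) F)) ᵥ*
      ((g⁻¹ : GL (Fin n) F) : Matrix (Fin n) (Fin n) F) = x := by
  rw [Matrix.vecMul_vecMul, ← Units.val_mul, mul_inv_cancel, Units.val_one, Matrix.vecMul_one]

theorem mulVec_ne_zero (g : GL (Fin n) F) {x : Fin n → F} (hx : x ≠ 0) :
    (g : Matrix (Fin n) (Fin n) F) *ᵥ x ≠ 0 := by
  intro h
  apply hx
  rw [← inv_mulVec_mulVec g x, h, Matrix.mulVec_zero]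

/-- rational elements of `SL` are transitive on rational nonzero vectors -/
theorem exists_rat_SL (hn : 2 ≤ n) (i₀ : Fin n) (v : Fin n → F) (hv : Rat F₀ v) (hv0 : v ≠ 0) :
    ∃ g : GL (Fin n) F, RatM F₀ (g : Matrix (Fin n) (Fin n) F) ∧
      RatM F₀ ((g⁻¹ : GL (Fin n) F) : Matrix (Fin n) (Fin n) F) ∧
      g ∈ Cfsg.Geo.specialLinear (Fin n) F ∧
      (g : Matrix (Fin n) (Fin n) F) *ᵥ (Pi.single i₀ 1 : Fin n → F) = v := by
  let v₀ : Fin n → F₀ := fun i => ⟨v i, hv i⟩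
  have hv₀ : v₀ ≠ 0 := by
    intro h
    apply hv0
    funext i
    have := congrFun h i
    exact congrArg Subtype.val this
  have he₀ : (Pi.single i₀ 1 : Fin n → F₀) ≠ 0 := by
    intro h
    have := congrFun h i₀
    rw [Pi.single_eq_same, Pi.zero_apply] at this
    exact one_ne_zero this
  obtain ⟨s, hs⟩ := Cfsg.Agent.Helper12.exists_SL_smul_eq (F := F₀) (ι := Fin n) (κ := Unit)
    (fun _ => (Pi.single i₀ 1 : Fin n → F₀)) (fun _ => v₀)
    (linearIndependent_unique_iff.mpr he₀) (linearIndependent_unique_iff.mpr hv₀)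
    (by rw [Fintype.card_unit, Fintype.card_fin]; omega)
  have hs' := hs ()
  rw [Matrix.SpecialLinearGroup.smul_def, Matrix.smul_eq_mulVec] at hs'
  let t : Matrix.SpecialLinearGroup (Fin n) F := Matrix.SpecialLinearGroup.map F₀.subtype s
  have ht : ∀ (s' : Matrix.SpecialLinearGroup (Fin n) F₀) (i j : Fin n),
      ((Matrix.SpecialLinearGroup.toGL (Matrix.SpecialLinearGroup.map F₀.subtype s') :
        GL (Fin n) F) : Matrix (Fin n) (Fin n) F) i j = ((s' i j : F₀) : F) := by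
    intro s' i j
    rfl
  refine ⟨Matrix.SpecialLinearGroup.toGL t, ?_, ?_, ?_, ?_⟩
  · intro i j
    rw [ht]
    exact (s i j).2
  · rw [← map_inv, ← map_inv]
    intro i j
    rw [ht]
    exact (s⁻¹ i j).2
  · rw [mem_specialLinear_iff]
    apply Units.ext
    rw [Matrix.GeneralLinearGroup.val_det_apply, Units.val_one]
    exact t.2
  · funext i
    rw [mulVec_e, ht]
    have h1 := congrFun hs' i
    rw [Matrix.mulVec, dotProduct_single, mul_one] at h1
    rw [h1]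

/-- a rational functional vanishing at a prescribed coordinate and on a prescribed vector -/
theorem exists_rat_perp (hn : 3 ≤ n) (i₀ : Fin n) (v : Fin n → F) (hv : Rat F₀ v) :
    ∃ ψ : Fin n → F, Rat F₀ ψ ∧ ψ ≠ 0 ∧ ψ i₀ = 0 ∧ ψ ⬝ᵥ v = 0 := by
  obtain ⟨i₁, h10, -⟩ := exists_third hn i₀ i₀
  obtain ⟨i₂, h20, h21⟩ := exists_third hn i₀ i₁
  by_cases h : v i₁ = 0 ∧ v i₂ = 0
  · refine ⟨Pi.single i₁ 1, rat_single _ F₀.one_mem, single_ne_zero' _, ?_, ?_⟩
    · rw [Pi.single_eq_of_ne (Ne.symm h10)]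
    · rw [single_dotProduct, one_mul, h.1]
  · refine ⟨v i₂ • Pi.single i₁ 1 - v i₁ • Pi.single i₂ 1,
      rat_sub (rat_smul (hv _) (rat_single _ F₀.one_mem))
        (rat_smul (hv _) (rat_single _ F₀.one_mem)), ?_, ?_, ?_⟩
    · intro h0
      apply h
      have e1 := congrFun h0 i₁
      have e2 := congrFun h0 i₂
      simp only [Pi.sub_apply, Pi.smul_apply, Pi.single_eq_same, Pi.zero_apply, smul_eq_mul,
        Pi.single_eq_of_ne h21, Pi.single_eq_of_ne (Ne.symm h21), mul_one, mul_zero, sub_zero,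
        zero_sub, neg_eq_zero] at e1 e2
      exact ⟨e2, e1⟩
    · simp only [Pi.sub_apply, Pi.smul_apply, smul_eq_mul, Pi.single_eq_of_ne (Ne.symm h10),
        Pi.single_eq_of_ne (Ne.symm h20), mul_zero, sub_zero]
    · rw [sub_dotProduct, smul_dotProduct, smul_dotProduct, single_dotProduct, single_dotProduct,
        one_mul, one_mul, smul_eq_mul, smul_eq_mul]
      ring

/-- a vector killed by all rational functionals killing the rational vector `v` is a multiple of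
`v` -/
theorem prop_of_perp (v : Fin n → F) (hv : Rat F₀ v) (hv0 : v ≠ 0) (x : Fin n → F)
    (h : ∀ ψ : Fin n → F, Rat F₀ ψ → ψ ⬝ᵥ v = 0 → ψ ⬝ᵥ x = 0) : ∃ c : F, x = c • v := by
  obtain ⟨i, hi⟩ : ∃ i, v i ≠ 0 := by
    by_contra hcon
    push Not at hcon
    exact hv0 (funext hcon)
  refine ⟨x i / v i, ?_⟩
  funext j
  have h1 := h (v i • Pi.single j 1 - v j • Pi.single i 1)
    (rat_sub (rat_smul (hv _) (rat_single _ F₀.one_mem))
      (rat_smul (hv _) (rat_single _ F₀.one_mem)))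
    (by
      rw [sub_dotProduct, smul_dotProduct, smul_dotProduct, single_dotProduct, single_dotProduct,
        one_mul, one_mul, smul_eq_mul, smul_eq_mul]
      ring)
  rw [sub_dotProduct, smul_dotProduct, smul_dotProduct, single_dotProduct, single_dotProduct,
    one_mul, one_mul, smul_eq_mul, smul_eq_mul] at h1
  rw [Pi.smul_apply, smul_eq_mul]
  field_simp
  linear_combination h1

/-- the standing hypotheses on the overgroup `M` -/
structure Hyp (F₀ : Subfield F) (M : Subgroup (GL (Fin n) F)) : Prop where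
  hn : 3 ≤ n
  rat_mem : ∀ g : GL (Fin n) F, RatM F₀ (g : Matrix (Fin n) (Fin n) F) →
    g ∈ Cfsg.Geo.specialLinear (Fin n) F → g ∈ M
  no_xe : ∀ i j : Fin n, i ≠ j → ∀ a : F, xe i j a ∈ M → a ∈ F₀

variable {M : Subgroup (GL (Fin n) F)}

theorem Hyp.tv_mem (hyp : Hyp F₀ M) {v ψ : Fin n → F} (hv : Rat F₀ v) (hψ : Rat F₀ ψ) :
    tv v ψ ∈ M :=
  hyp.rat_mem _ (ratM_tv hv hψ) (tv_mem_specialLinear _ _)

/-- Part B: no transvection of `M` with rational centre has an irrational axis -/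
theorem partB (hyp : Hyp F₀ M) {v φ : Fin n → F} (hv : Rat F₀ v) (hv0 : v ≠ 0)
    (hφv : φ ⬝ᵥ v = 0) (h : tv v φ ∈ M) : Rat F₀ φ := by
  by_contra hφ
  have hn := hyp.hn
  obtain ⟨i₀⟩ : Nonempty (Fin n) := ⟨⟨0, by omega⟩⟩
  obtain ⟨g, hg1, hg2, hg3, hg4⟩ := exists_rat_SL (F₀ := F₀) (by omega) i₀ v hv hv0
  have hgM : g ∈ M := hyp.rat_mem g hg1 hg3
  have hgM' : g⁻¹ ∈ M := M.inv_mem hgM
  set φ' : Fin n → F := φ ᵥ* (g : Matrix (Fin n) (Fin n) F) with hφ'
  have hu : (Pi.single i₀ 1 : Fin n → F) =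
      ((g⁻¹ : GL (Fin n) F) : Matrix (Fin n) (Fin n) F) *ᵥ v := by
    rw [← hg4, inv_mulVec_mulVec]
  have hl : φ' ᵥ* ((g⁻¹ : GL (Fin n) F) : Matrix (Fin n) (Fin n) F) = φ := by
    rw [hφ', vecMul_inv_vecMul]
  obtain ⟨h1, h2⟩ := conj_tv g⁻¹ v φ (Pi.single i₀ 1) φ' hφv hu hl
  have h3 : tv (Pi.single i₀ 1) φ' ∈ M := by
    rw [← h2]
    exact M.mul_mem (M.mul_mem hgM' h) (M.inv_mem hgM')
  have hφ'rat : ¬ Rat F₀ φ' := by
    intro hr
    apply hφ
    rw [← hl]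
    exact rat_vecMul hg2 hr
  obtain ⟨j, hj⟩ : ∃ j, φ' j ∉ F₀ := by
    by_contra hcon
    push Not at hcon
    exact hφ'rat hcon
  have h10 : φ' i₀ = 0 := by
    rw [dotProduct_single, mul_one] at h1
    exact h1
  have hj0 : j ≠ i₀ := by
    intro hj0
    apply hj
    rw [hj0, h10]
    exact F₀.zero_mem
  obtain ⟨k, hk0, hkj⟩ := exists_third hn i₀ j
  have h4 := tv_comm (Pi.single j 1) (Pi.single k 1) (Pi.single i₀ 1) φ'
    (single_dot_single_ne (Ne.symm hkj) _ _) h1 (single_dot_single_ne (Ne.symm hk0) _ _)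
  have h5 : tv (Pi.single j (1 : F)) (Pi.single k (1 : F)) ∈ M :=
    hyp.tv_mem (rat_single _ F₀.one_mem) (rat_single _ F₀.one_mem)
  have h6 : tv (Pi.single i₀ 1) (-(φ' ⬝ᵥ (Pi.single j 1 : Fin n → F)) • (Pi.single k 1 : Fin n → F))
      ∈ M := by
    rw [← h4]
    exact M.mul_mem (M.mul_mem (M.mul_mem h5 h3) (M.inv_mem h5)) (M.inv_mem h3)
  have h7 : (-(φ' ⬝ᵥ (Pi.single j 1 : Fin n → F)) • (Pi.single k 1 : Fin n → F)) =
      Pi.single k (-(φ' j)) := by
    rw [dotProduct_single, mul_one]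
    funext l
    rw [Pi.smul_apply, Pi.single_apply, Pi.single_apply, smul_eq_mul]
    split_ifs <;> ring
  rw [h7] at h6
  have h8 := hyp.no_xe i₀ k (Ne.symm hk0) _ h6
  apply hj
  have := F₀.neg_mem h8
  rwa [neg_neg] at this

/-- the transpose of an invertible matrix -/
def glT (g : GL (Fin n) F) : GL (Fin n) F :=
  ⟨(g : Matrix (Fin n) (Fin n) F)ᵀ, ((g⁻¹ : GL (Fin n) F) : Matrix (Fin n) (Fin n) F)ᵀ,
    by rw [← Matrix.transpose_mul, ← Units.val_mul, inv_mul_cancel, Units.val_one,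
      Matrix.transpose_one],
    by rw [← Matrix.transpose_mul, ← Units.val_mul, mul_inv_cancel, Units.val_one,
      Matrix.transpose_one]⟩

theorem glT_mem_SL {g : GL (Fin n) F} (hg : g ∈ Cfsg.Geo.specialLinear (Fin n) F) :
    glT g ∈ Cfsg.Geo.specialLinear (Fin n) F := by
  rw [mem_specialLinear_iff] at hg ⊢
  apply Units.ext
  have h2 := congrArg Units.val hg
  rw [Matrix.GeneralLinearGroup.val_det_apply, Units.val_one] at h2 ⊢
  show ((g : Matrix (Fin n) (Fin n) F)ᵀ).det = 1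
  rw [Matrix.det_transpose, h2]

/-- Part B': no transvection of `M` with rational axis has an irrational centre -/
theorem partB' (hyp : Hyp F₀ M) {u ψ : Fin n → F} (hψ : Rat F₀ ψ) (hψ0 : ψ ≠ 0)
    (hψu : ψ ⬝ᵥ u = 0) (h : tv u ψ ∈ M) : Rat F₀ u := by
  by_contra hu
  have hn := hyp.hn
  obtain ⟨i₀⟩ : Nonempty (Fin n) := ⟨⟨0, by omega⟩⟩
  obtain ⟨g, hg1, hg2, hg3, hg4⟩ := exists_rat_SL (F₀ := F₀) (by omega) i₀ ψ hψ hψ0
  set t : GL (Fin n) F := glT g with ht
  have htM : t ∈ M := hyp.rat_mem t (fun i j => hg1 j i) (glT_mem_SL hg3)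
  have htinv : RatM F₀ ((t⁻¹ : GL (Fin n) F) : Matrix (Fin n) (Fin n) F) := fun i j => hg2 j i
  set u' : Fin n → F := (t : Matrix (Fin n) (Fin n) F) *ᵥ u with hu'
  have hl : (Pi.single i₀ 1 : Fin n → F) ᵥ* (t : Matrix (Fin n) (Fin n) F) = ψ := by
    funext j
    rw [vecMul_e]
    show (g : Matrix (Fin n) (Fin n) F)ᵀ i₀ j = ψ j
    rw [Matrix.transpose_apply, ← hg4, mulVec_e]
  obtain ⟨h1, h2⟩ := conj_tv t u ψ u' (Pi.single i₀ 1) hψu hu' hl
  have h3 : tv u' (Pi.single i₀ 1) ∈ M := by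
    rw [← h2]
    exact M.mul_mem (M.mul_mem htM h) (M.inv_mem htM)
  have hu'rat : ¬ Rat F₀ u' := by
    intro hr
    apply hu
    rw [← inv_mulVec_mulVec t u]
    exact ratM_mulVec htinv hr
  obtain ⟨j, hj⟩ : ∃ j, u' j ∉ F₀ := by
    by_contra hcon
    push Not at hcon
    exact hu'rat hcon
  have h10 : u' i₀ = 0 := by
    rw [single_dotProduct, one_mul] at h1
    exact h1
  have hj0 : j ≠ i₀ := by
    intro hj0
    apply hj
    rw [hj0, h10]
    exact F₀.zero_mem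
  obtain ⟨k, hk0, hkj⟩ := exists_third hn i₀ j
  have h4 := tv_comm u' (Pi.single i₀ 1) (Pi.single k 1) (Pi.single j 1)
    h1 (single_dot_single_ne hkj _ _) (single_dot_single_ne hk0 _ _)
  have h5 : tv (Pi.single k (1 : F)) (Pi.single j (1 : F)) ∈ M :=
    hyp.tv_mem (rat_single _ F₀.one_mem) (rat_single _ F₀.one_mem)
  have h6 : tv (Pi.single k 1) (-((Pi.single j 1 : Fin n → F) ⬝ᵥ u') • (Pi.single i₀ 1 : Fin n → F))
      ∈ M := by
    rw [← h4]
    exact M.mul_mem (M.mul_mem (M.mul_mem h3 h5) (M.inv_mem h3)) (M.inv_mem h5)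
  have h7 : (-((Pi.single j 1 : Fin n → F) ⬝ᵥ u') • (Pi.single i₀ 1 : Fin n → F)) =
      Pi.single i₀ (-(u' j)) := by
    rw [single_dotProduct, one_mul]
    funext l
    rw [Pi.smul_apply, Pi.single_apply, Pi.single_apply, smul_eq_mul]
    split_ifs <;> ring
  rw [h7] at h6
  have h8 := hyp.no_xe k i₀ hk0 _ h6
  apply hj
  have := F₀.neg_mem h8
  rwa [neg_neg] at this

end Cfsg.Agent.Helper28.Subf
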