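import Mathlib
import Cfsg.Prelude.Def_GeometricClasses
import Cfsg.Agent.Lib.Helper28.SubfB

/-!
# Subfield subgroups of `SL_n` (helper28), part B2: rational points and total irrationality
-/

set_option autoImplicit false

namespace Cfsg.Agent.Helper28.Subf

open Matrix Cfsg Cfsg.Agent.Helper28 Cfsg.Agent.Helper28.SubspaceMax Cfsg.Agent.Helper28.SpInSL

variable {F : Type*} [Field F] {n : ℕ} {F₀ : Subfield F} {M : Subgroup (GL (Fin n) F)}

theorem ratM_sub {A B : Matrix (Fin n) (Fin n) F} (hA : RatM F₀ A) (hB : RatM F₀ B) :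
    RatM F₀ (A - B) :=
  fun i j => F₀.sub_mem (hA i j) (hB i j)

theorem ratM_smul {c : F} (hc : c ∈ F₀) {A : Matrix (Fin n) (Fin n) F} (hA : RatM F₀ A) :
    RatM F₀ (c • A) :=
  fun i j => F₀.mul_mem hc (hA i j)

/-- rows of the inverse of an element of `M` fixing a rational point -/
theorem rows_rat (hyp : Hyp F₀ M) (i₀ : Fin n) {g : GL (Fin n) F} (hg : g ∈ M) {c : F}
    (hge : (g : Matrix (Fin n) (Fin n) F) *ᵥ (Pi.single i₀ 1 : Fin n → F) =
      c • (Pi.single i₀ 1 : Fin n → F)) (j : Fin n) (hj : j ≠ i₀) :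
    Rat F₀ (c • fun l => ((g⁻¹ : GL (Fin n) F) : Matrix (Fin n) (Fin n) F) j l) := by
  have hc : c ≠ 0 := by
    intro hc
    rw [hc, zero_smul] at hge
    exact mulVec_ne_zero g (single_ne_zero' i₀) hge
  set l' : Fin n → F := fun l => ((g⁻¹ : GL (Fin n) F) : Matrix (Fin n) (Fin n) F) j l with hl'
  have hl'e : l' = (Pi.single j 1 : Fin n → F) ᵥ*
      ((g⁻¹ : GL (Fin n) F) : Matrix (Fin n) (Fin n) F) := by
    funext l
    rw [vecMul_e]
  have hl : l' ᵥ* (g : Matrix (Fin n) (Fin n) F) = Pi.single j 1 := by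
    rw [hl'e, vecMul_vecMul_inv]
  obtain ⟨h1, h2⟩ := conj_tv g (Pi.single i₀ 1) (Pi.single j 1) (c • Pi.single i₀ 1) l'
    (single_dot_single_ne (Ne.symm hj) _ _) hge.symm hl
  have h3 : l' ⬝ᵥ (Pi.single i₀ 1 : Fin n → F) = 0 := by
    rw [dotProduct_smul, smul_eq_mul] at h1
    exact (mul_eq_zero.mp h1).resolve_left hc
  have h4 : tv (Pi.single i₀ 1) (c • l') ∈ M := by
    rw [← tv_smul_left c _ _ h3, ← h2]
    exact M.mul_mem (M.mul_mem hg (hyp.tv_mem (rat_single _ F₀.one_mem)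
      (rat_single _ F₀.one_mem))) (M.inv_mem hg)
  exact partB hyp (rat_single _ F₀.one_mem) (single_ne_zero' i₀)
    (by rw [smul_dotProduct, h3, smul_zero]) h4

/-- an element of `M` fixing the rational point `e_{i₀}` is a scalar multiple of a rational matrix -/
theorem step1' (hyp : Hyp F₀ M) (i₀ : Fin n) {k : GL (Fin n) F} (hk : k ∈ M) {c : F}
    (hke : (k : Matrix (Fin n) (Fin n) F) *ᵥ (Pi.single i₀ 1 : Fin n → F) =
      c • (Pi.single i₀ 1 : Fin n → F)) : InN F₀ k := by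
  have hn := hyp.hn
  have hc : c ≠ 0 := by
    intro hc
    rw [hc, zero_smul] at hke
    exact mulVec_ne_zero k (single_ne_zero' i₀) hke
  have hkinv : ((k⁻¹ : GL (Fin n) F) : Matrix (Fin n) (Fin n) F) *ᵥ
      (Pi.single i₀ 1 : Fin n → F) = c⁻¹ • (Pi.single i₀ 1 : Fin n → F) := by
    have h1 := inv_mulVec_mulVec k (Pi.single i₀ 1 : Fin n → F)
    rw [hke, Matrix.mulVec_smul] at h1
    rw [eq_comm, inv_smul_eq_iff₀ hc]
    exact h1.symm
  have hrows := rows_rat hyp i₀ (M.inv_mem hk) hkinv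
  rw [inv_inv] at hrows
  set A : Matrix (Fin n) (Fin n) F := c⁻¹ • (k : Matrix (Fin n) (Fin n) F) with hA
  have hArow : ∀ j, j ≠ i₀ → ∀ l, A j l ∈ F₀ := by
    intro j hj l
    exact hrows j hj l
  have hkcol : ∀ i, (k : Matrix (Fin n) (Fin n) F) i i₀ = c * (Pi.single i₀ 1 : Fin n → F) i := by
    intro i
    have := congrFun hke i
    rw [mulVec_e, Pi.smul_apply, smul_eq_mul] at this
    exact this
  have hA00 : A i₀ i₀ = 1 := by
    rw [hA, Matrix.smul_apply, hkcol, Pi.single_eq_same, smul_eq_mul, mul_one, inv_mul_cancel₀ hc]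
  have hAj0 : ∀ j, j ≠ i₀ → A j i₀ = 0 := by
    intro j hj
    rw [hA, Matrix.smul_apply, hkcol, Pi.single_eq_of_ne hj, mul_zero, smul_zero]
  by_cases hrow : ∀ l, A i₀ l ∈ F₀
  · refine ⟨c⁻¹, inv_ne_zero hc, ?_⟩
    intro i l
    by_cases hi : i = i₀
    · rw [hi]; exact hrow l
    · exact hArow i hi l
  · exfalso
    push Not at hrow
    obtain ⟨l, hlirr⟩ := hrow
    have hl0 : l ≠ i₀ := by
      intro h
      apply hlirr
      rw [h, hA00]
      exact F₀.one_mem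
    set ρ : F := A i₀ l with hρ
    set w : Fin n → F := Pi.single l 1 - ρ • Pi.single i₀ 1 with hw
    set v : Fin n → F := A *ᵥ w with hv
    have hvi : ∀ i, v i = A i l - ρ * A i i₀ := by
      intro i
      rw [hv, hw, Matrix.mulVec_sub, Matrix.mulVec_smul, Pi.sub_apply, Pi.smul_apply, mulVec_e,
        mulVec_e, smul_eq_mul]
    have hv0' : v i₀ = 0 := by rw [hvi, hA00, mul_one, hρ, sub_self]
    have hvrat : Rat F₀ v := by
      intro i
      by_cases hi : i = i₀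
      · rw [hi, hv0']; exact F₀.zero_mem
      · rw [hvi, hAj0 i hi, mul_zero, sub_zero]
        exact hArow i hi l
    have hwl : w l = 1 := by
      rw [hw, Pi.sub_apply, Pi.smul_apply, Pi.single_eq_same, Pi.single_eq_of_ne hl0, smul_zero,
        sub_zero]
    have hw0 : w ≠ 0 := by
      intro h
      rw [h, Pi.zero_apply] at hwl
      exact zero_ne_one hwl
    have hkw : (k : Matrix (Fin n) (Fin n) F) *ᵥ w = c • v := by
      rw [hv, hA, Matrix.smul_mulVec, smul_smul, mul_inv_cancel₀ hc, one_smul]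
    have hvne : v ≠ 0 := by
      intro h
      rw [h, smul_zero] at hkw
      exact mulVec_ne_zero k hw0 hkw
    obtain ⟨ψ, hψ, hψ0, hψi, hψv⟩ := exists_rat_perp hn i₀ v hvrat
    have hkinvv : ((k⁻¹ : GL (Fin n) F) : Matrix (Fin n) (Fin n) F) *ᵥ v = c⁻¹ • w := by
      have h1 := inv_mulVec_mulVec k w
      rw [hkw, Matrix.mulVec_smul] at h1
      rw [eq_comm, inv_smul_eq_iff₀ hc]
      exact h1.symm
    set l' : Fin n → F := ψ ᵥ* (k : Matrix (Fin n) (Fin n) F) with hl'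
    have hl : l' ᵥ* ((k⁻¹ : GL (Fin n) F) : Matrix (Fin n) (Fin n) F) = ψ := by
      rw [hl', vecMul_inv_vecMul]
    obtain ⟨h1, h2⟩ := conj_tv k⁻¹ v ψ (c⁻¹ • w) l' hψv hkinvv.symm hl
    have h3 : l' ⬝ᵥ w = 0 := by
      rw [dotProduct_smul, smul_eq_mul] at h1
      exact (mul_eq_zero.mp h1).resolve_left (inv_ne_zero hc)
    have h4 : tv w (c⁻¹ • l') ∈ M := by
      rw [← tv_smul_left c⁻¹ _ _ h3, ← h2]
      exact M.mul_mem (M.mul_mem (M.inv_mem hk) (hyp.tv_mem hvrat hψ)) (M.inv_mem (M.inv_mem hk))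
    have h5 : c⁻¹ • l' = ψ ᵥ* A := by
      rw [hl', hA, Matrix.vecMul_smul]
    have h6 : Rat F₀ (c⁻¹ • l') := by
      rw [h5]
      intro j
      rw [Matrix.vecMul, dotProduct]
      apply F₀.sum_mem
      intro i _
      by_cases hi : i = i₀
      · rw [hi, hψi, zero_mul]; exact F₀.zero_mem
      · exact F₀.mul_mem (hψ i) (hArow i hi j)
    have h7 : c⁻¹ • l' ≠ 0 := by
      intro h
      have h8 : l' = 0 := by
        have := congrArg (fun x => c • x) h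
        simpa [smul_smul, mul_inv_cancel₀ hc] using this
      exact hψ0 (by rw [← hl, h8, Matrix.zero_vecMul])
    have h8 := partB' hyp h6 h7 (by rw [smul_dotProduct, h3, smul_zero]) h4
    have h9 := h8 i₀
    rw [hw, Pi.sub_apply, Pi.smul_apply, Pi.single_eq_same, Pi.single_eq_of_ne (Ne.symm hl0),
      smul_eq_mul, mul_one, zero_sub] at h9
    apply hlirr
    have := F₀.neg_mem h9
    rwa [neg_neg] at this

/-- Step 1: an element of `M` mapping a rational point to a rational point is a scalar multiple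
of a rational matrix -/
theorem step1 (hyp : Hyp F₀ M) {k : GL (Fin n) F} (hk : k ∈ M) {w v : Fin n → F}
    (hw : Rat F₀ w) (hw0 : w ≠ 0) (hv : Rat F₀ v) (hv0 : v ≠ 0) {c : F}
    (hkw : (k : Matrix (Fin n) (Fin n) F) *ᵥ w = c • v) : InN F₀ k := by
  have hn := hyp.hn
  obtain ⟨i₀⟩ : Nonempty (Fin n) := ⟨⟨0, by omega⟩⟩
  obtain ⟨a, ha1, ha2, ha3, ha4⟩ := exists_rat_SL (F₀ := F₀) (by omega) i₀ v hv hv0
  obtain ⟨b, hb1, hb2, hb3, hb4⟩ := exists_rat_SL (F₀ := F₀) (by omega) i₀ w hw hw0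
  have haM : a ∈ M := hyp.rat_mem a ha1 ha3
  have hbM : b ∈ M := hyp.rat_mem b hb1 hb3
  have hk' : a⁻¹ * k * b ∈ M := M.mul_mem (M.mul_mem (M.inv_mem haM) hk) hbM
  have hk'e : ((a⁻¹ * k * b : GL (Fin n) F) : Matrix (Fin n) (Fin n) F) *ᵥ
      (Pi.single i₀ 1 : Fin n → F) = c • (Pi.single i₀ 1 : Fin n → F) := by
    rw [Units.val_mul, Units.val_mul, ← Matrix.mulVec_mulVec, ← Matrix.mulVec_mulVec, hb4, hkw,
      Matrix.mulVec_smul, ← ha4, inv_mulVec_mulVec]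
  obtain ⟨c', hc', hr⟩ := step1' hyp i₀ hk' hk'e
  refine ⟨c', hc', ?_⟩
  have : c' • (k : Matrix (Fin n) (Fin n) F) = (a : Matrix (Fin n) (Fin n) F) *
      (c' • ((a⁻¹ * k * b : GL (Fin n) F) : Matrix (Fin n) (Fin n) F)) *
      ((b⁻¹ : GL (Fin n) F) : Matrix (Fin n) (Fin n) F) := by
    rw [Matrix.mul_smul, Matrix.smul_mul, ← Units.val_mul, ← Units.val_mul]
    congr 2
    group
  rw [this]
  exact ratM_mul (ratM_mul ha1 hr) hb2

/-- Step 2: an element of `M` outside `N` maps rational points to totally irrational points -/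
theorem step2 (hyp : Hyp F₀ M) {k : GL (Fin n) F} (hk : k ∈ M) (hkN : ¬ InN F₀ k)
    {v : Fin n → F} (hv : Rat F₀ v) (hv0 : v ≠ 0) {ψ : Fin n → F} (hψ : Rat F₀ ψ) (hψ0 : ψ ≠ 0) :
    ψ ⬝ᵥ ((k : Matrix (Fin n) (Fin n) F) *ᵥ v) ≠ 0 := by
  intro h0
  have hn := hyp.hn
  obtain ⟨i₀⟩ : Nonempty (Fin n) := ⟨⟨0, by omega⟩⟩
  set u : Fin n → F := (k : Matrix (Fin n) (Fin n) F) *ᵥ v with hu
  have hu0 : u ≠ 0 := mulVec_ne_zero k hv0
  have hα : ∀ (c : F) (w : Fin n → F), Rat F₀ w → w ≠ 0 → u ≠ c • w :=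
    fun c w hw hw0 he => hkN (step1 hyp hk hv hv0 hw hw0 he)
  obtain ⟨w, hw, hw0, -, hwψ⟩ := exists_rat_perp hn i₀ ψ hψ
  have hψw : ψ ⬝ᵥ w = 0 := by rw [dotProduct_comm]; exact hwψ
  have hγ : ∀ ψ' : Fin n → F, Rat F₀ ψ' → ψ' ⬝ᵥ v = 0 →
      ψ' ⬝ᵥ (((k⁻¹ : GL (Fin n) F) : Matrix (Fin n) (Fin n) F) *ᵥ w) = 0 := by
    intro ψ' hψ' hψ'v
    set φ : Fin n → F := ψ' ᵥ* ((k⁻¹ : GL (Fin n) F) : Matrix (Fin n) (Fin n) F) with hφ
    have hl : φ ᵥ* (k : Matrix (Fin n) (Fin n) F) = ψ' := by rw [hφ, vecMul_vecMul_inv]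
    obtain ⟨h1, h2⟩ := conj_tv k v ψ' u φ hψ'v hu hl
    have h3 : tv u φ ∈ M := by
      rw [← h2]
      exact M.mul_mem (M.mul_mem hk (hyp.tv_mem hv hψ')) (M.inv_mem hk)
    have h4 := tv_comm w ψ u φ hψw h1 h0
    have h5 : tv u (-(φ ⬝ᵥ w) • ψ) ∈ M := by
      rw [← h4]
      have hA := hyp.tv_mem hw hψ
      exact M.mul_mem (M.mul_mem (M.mul_mem hA h3) (M.inv_mem hA)) (M.inv_mem h3)
    rw [Matrix.dotProduct_mulVec, ← hφ]
    by_contra hne
    have ha : -(φ ⬝ᵥ w) ≠ 0 := neg_ne_zero.mpr hne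
    rw [← tv_smul_left _ _ _ h0] at h5
    have h6 := partB' hyp hψ hψ0 (by rw [dotProduct_smul, h0, smul_zero]) h5
    have h7 : -(φ ⬝ᵥ w) • u ≠ 0 := smul_ne_zero ha hu0
    apply hα (-(φ ⬝ᵥ w))⁻¹ _ h6 h7
    rw [smul_smul, inv_mul_cancel₀ ha, one_smul]
  obtain ⟨c, hc⟩ := prop_of_perp v hv hv0 _ hγ
  have h1 := mulVec_inv_mulVec' k w
  rw [hc, Matrix.mulVec_smul, ← hu] at h1
  have hc0 : c ≠ 0 := by
    intro h
    rw [h, zero_smul] at h1
    exact hw0 h1.symm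
  apply hα c⁻¹ w hw hw0
  rw [← h1, smul_smul, inv_mul_cancel₀ hc0, one_smul]

/-- an element of `M` fixing a rational point and a point in another block is a scalar -/
theorem two_point (hyp : Hyp F₀ M) (i₀ : Fin n) {g : GL (Fin n) F} (hg : g ∈ M) {lam : F}
    (hg0 : (g : Matrix (Fin n) (Fin n) F) *ᵥ (Pi.single i₀ 1 : Fin n → F) =
      lam • (Pi.single i₀ 1 : Fin n → F))
    {h : GL (Fin n) F} (hh : h ∈ M) (hhN : ¬ InN F₀ h) {β : F}
    (hgu : (g : Matrix (Fin n) (Fin n) F) *ᵥ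
        ((h : Matrix (Fin n) (Fin n) F) *ᵥ (Pi.single i₀ 1 : Fin n → F)) =
      β • ((h : Matrix (Fin n) (Fin n) F) *ᵥ (Pi.single i₀ 1 : Fin n → F))) :
    ∃ s : F, (g : Matrix (Fin n) (Fin n) F) = s • (1 : Matrix (Fin n) (Fin n) F) := by
  classical
  have he₀ : Rat F₀ (Pi.single i₀ 1 : Fin n → F) := rat_single _ F₀.one_mem
  obtain ⟨c, hc, hrat⟩ := step1 hyp hg he₀ (single_ne_zero' i₀) he₀ (single_ne_zero' i₀) hg0
  set g₀ : Matrix (Fin n) (Fin n) F := c • (g : Matrix (Fin n) (Fin n) F) with hg₀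
  set u' : Fin n → F := (h : Matrix (Fin n) (Fin n) F) *ᵥ (Pi.single i₀ 1 : Fin n → F) with hu'
  have htot : ∀ ψ : Fin n → F, Rat F₀ ψ → ψ ≠ 0 → ψ ⬝ᵥ u' ≠ 0 :=
    fun ψ hψ hψ0 => step2 hyp hh hhN he₀ (single_ne_zero' i₀) hψ hψ0
  set κ : F := g₀ i₀ i₀ with hκ
  have hκm : κ ∈ F₀ := hrat i₀ i₀
  have hg₀e : g₀ *ᵥ (Pi.single i₀ 1 : Fin n → F) = (c * lam) • (Pi.single i₀ 1 : Fin n → F) := by
    rw [hg₀, Matrix.smul_mulVec, hg0, smul_smul]
  have hκe : κ = c * lam := by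
    have := congrFun hg₀e i₀
    rw [mulVec_e, Pi.smul_apply, Pi.single_eq_same, smul_eq_mul, mul_one] at this
    exact this
  set Y : Matrix (Fin n) (Fin n) F := g₀ - κ • (1 : Matrix (Fin n) (Fin n) F) with hY
  have hYrat : RatM F₀ Y := ratM_sub hrat (ratM_smul hκm ratM_one)
  have hY0 : Y *ᵥ (Pi.single i₀ 1 : Fin n → F) = 0 := by
    rw [hY, Matrix.sub_mulVec, hg₀e, Matrix.smul_mulVec, Matrix.one_mulVec, hκe, sub_self]
  have hYu : Y *ᵥ u' = (c * β - κ) • u' := by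
    rw [hY, Matrix.sub_mulVec, hg₀, Matrix.smul_mulVec, hgu, Matrix.smul_mulVec,
      Matrix.one_mulVec, smul_smul, sub_smul]
  by_cases hβ : c * β = κ
  · rw [hβ, sub_self, zero_smul] at hYu
    have hYz : Y = 0 := by
      ext i j
      by_contra hne
      have hrow : (fun j => Y i j) ≠ 0 := by
        intro h0
        exact hne (congrFun h0 j)
      apply htot (fun j => Y i j) (hYrat i) hrow
      have := congrFun hYu i
      exact this
    refine ⟨c⁻¹ * κ, ?_⟩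
    have h1 : g₀ = κ • (1 : Matrix (Fin n) (Fin n) F) := sub_eq_zero.mp hYz
    rw [hg₀] at h1
    have h2 := congrArg (fun X => c⁻¹ • X) h1
    simp only [smul_smul, inv_mul_cancel₀ hc, one_smul] at h2
    exact h2
  · exfalso
    have hdet : Y.det = 0 :=
      Matrix.exists_mulVec_eq_zero_iff.mp ⟨_, single_ne_zero' i₀, hY0⟩
    let Y₀ : Matrix (Fin n) (Fin n) F₀ := Matrix.of fun i j => ⟨Y i j, hYrat i j⟩
    have hY₀ : Y₀.map F₀.subtype = Y := by
      ext i j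
      rfl
    have hdet₀ : Y₀.det = 0 := by
      apply Subtype.ext
      have h1 := RingHom.map_det F₀.subtype Y₀
      rw [RingHom.mapMatrix_apply, hY₀, hdet] at h1
      exact h1
    obtain ⟨ψ₀, hψ₀0, hψ₀⟩ := Matrix.exists_vecMul_eq_zero_iff.mpr hdet₀
    set ψ : Fin n → F := fun i => ((ψ₀ i : F₀) : F) with hψdef
    have hψrat : Rat F₀ ψ := fun i => (ψ₀ i).2
    have hψ0 : ψ ≠ 0 := by
      intro h0
      apply hψ₀0
      funext i
      apply Subtype.ext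
      exact congrFun h0 i
    have hψY : ψ ᵥ* Y = 0 := by
      funext j
      have h1 := congrFun hψ₀ j
      have h2 := congrArg (fun x : F₀ => (x : F)) h1
      simp only [Matrix.vecMul, dotProduct, Pi.zero_apply, ZeroMemClass.coe_zero] at h2
      rw [Matrix.vecMul, dotProduct, Pi.zero_apply, ← h2]
      push_cast
      rfl
    have h3 : (ψ ᵥ* Y) ⬝ᵥ u' = 0 := by rw [hψY, zero_dotProduct]
    rw [← Matrix.dotProduct_mulVec, hYu, dotProduct_smul, smul_eq_mul] at h3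
    rcases mul_eq_zero.mp h3 with h4 | h4
    · exact hβ (sub_eq_zero.mp h4)
    · exact htot ψ hψrat hψ0 h4

/-- elements mapping `e_{i₀}` properly into the span of `e_{i₀}` and a totally irrational vector
lie outside `N` -/
theorem not_inN_of_mix (hn : 3 ≤ n) (i₀ : Fin n) {u : Fin n → F}
    (hu : ∀ ψ : Fin n → F, Rat F₀ ψ → ψ ≠ 0 → ψ ⬝ᵥ u ≠ 0) {h : GL (Fin n) F} {s t : F}
    (ht : t ≠ 0)
    (hh : (h : Matrix (Fin n) (Fin n) F) *ᵥ (Pi.single i₀ 1 : Fin n → F) =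
      s • (Pi.single i₀ 1 : Fin n → F) + t • u) : ¬ InN F₀ h := by
  rintro ⟨c, hc, hr⟩
  have hw : Rat F₀ ((c • (h : Matrix (Fin n) (Fin n) F)) *ᵥ (Pi.single i₀ 1 : Fin n → F)) :=
    ratM_mulVec hr (rat_single _ F₀.one_mem)
  obtain ⟨ψ, hψ, hψ0, hψi, hψw⟩ := exists_rat_perp hn i₀ _ hw
  rw [Matrix.smul_mulVec, hh, dotProduct_smul, dotProduct_add, dotProduct_smul, dotProduct_smul,
    dotProduct_single, mul_one, hψi, smul_zero, zero_add, smul_eq_mul, smul_eq_mul] at hψw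
  rcases mul_eq_zero.mp hψw with h1 | h1
  · exact hc h1
  · rcases mul_eq_zero.mp h1 with h2 | h2
    · exact ht h2
    · exact hu ψ hψ hψ0 h2

end Cfsg.Agent.Helper28.Subf
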