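import Mathlib
import Cfsg.Prelude.Def_GeometricClasses
import Cfsg.Agent.Lib.Helper28.SubfB2
import Cfsg.Agent.Lib.Helper28.SubfC3

/-!
# Subfield subgroups of `SL_n` (helper28), part D: the reduction to dimension two
-/

set_option autoImplicit false

namespace Cfsg.Agent.Helper28.Subf

open Matrix Cfsg Cfsg.Agent.Helper28 Cfsg.Agent.Helper28.SubspaceMax Cfsg.Agent.Helper28.SpInSL

variable {F : Type*} [Field F] {n : ℕ}

/-- the `n × 2` matrix with columns `v` and `u` -/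
def colMat (v u : Fin n → F) : Matrix (Fin n) (Fin 2) F := fun i j => if j = 0 then v i else u i

theorem colMat_zero (v u : Fin n → F) (i : Fin n) : colMat v u i 0 = v i := rfl

theorem colMat_one (v u : Fin n → F) (i : Fin n) : colMat v u i 1 = u i := rfl

theorem colMat_inj {v u v' u' : Fin n → F} (h : colMat v u = colMat v' u') : v = v' ∧ u = u' :=
  ⟨funext fun i => congrFun (congrFun h i) 0, funext fun i => congrFun (congrFun h i) 1⟩

theorem mul_colMat (A : Matrix (Fin n) (Fin n) F) (v u : Fin n → F) :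
    A * colMat v u = colMat (A *ᵥ v) (A *ᵥ u) := by
  ext i j
  fin_cases j
  · show (A * colMat v u) i 0 = colMat (A *ᵥ v) (A *ᵥ u) i 0
    rw [colMat_zero, Matrix.mul_apply]
    rfl
  · show (A * colMat v u) i 1 = colMat (A *ᵥ v) (A *ᵥ u) i 1
    rw [colMat_one, Matrix.mul_apply]
    rfl

theorem colMat_mul (v u : Fin n → F) (X : Matrix (Fin 2) (Fin 2) F) :
    colMat v u * X = colMat (X 0 0 • v + X 1 0 • u) (X 0 1 • v + X 1 1 • u) := by
  ext i j
  fin_cases j
  · show (colMat v u * X) i 0 = colMat (X 0 0 • v + X 1 0 • u) (X 0 1 • v + X 1 1 • u) i 0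
    rw [colMat_zero, Matrix.mul_apply, Fin.sum_univ_two, colMat_zero, colMat_one, Pi.add_apply,
      Pi.smul_apply, Pi.smul_apply, smul_eq_mul, smul_eq_mul]
    ring
  · show (colMat v u * X) i 1 = colMat (X 0 0 • v + X 1 0 • u) (X 0 1 • v + X 1 1 • u) i 1
    rw [colMat_one, Matrix.mul_apply, Fin.sum_univ_two, colMat_zero, colMat_one, Pi.add_apply,
      Pi.smul_apply, Pi.smul_apply, smul_eq_mul, smul_eq_mul]
    ring

/-- the group induced on the span of `v`, `u` by the stabiliser in `M` -/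
def indGrp (M : Subgroup (GL (Fin n) F)) (v u : Fin n → F) : Subgroup (GL (Fin 2) F) where
  carrier := {X | ∃ g ∈ M, (g : Matrix (Fin n) (Fin n) F) * colMat v u =
    colMat v u * (X : Matrix (Fin 2) (Fin 2) F)}
  mul_mem' := by
    rintro X Y ⟨g, hg, hgX⟩ ⟨h, hh, hhY⟩
    refine ⟨g * h, M.mul_mem hg hh, ?_⟩
    rw [Units.val_mul, Units.val_mul, Matrix.mul_assoc, hhY, ← Matrix.mul_assoc, hgX,
      Matrix.mul_assoc]
  one_mem' := ⟨1, M.one_mem, by
    rw [Units.val_one, Units.val_one, Matrix.one_mul, Matrix.mul_one]⟩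
  inv_mem' := by
    rintro X ⟨g, hg, hgX⟩
    refine ⟨g⁻¹, M.inv_mem hg, ?_⟩
    have h1 : colMat v u = ((g⁻¹ : GL (Fin n) F) : Matrix (Fin n) (Fin n) F) *
        (colMat v u * (X : Matrix (Fin 2) (Fin 2) F)) := by
      rw [← hgX, ← Matrix.mul_assoc, Units.inv_mul, Matrix.one_mul]
    calc ((g⁻¹ : GL (Fin n) F) : Matrix (Fin n) (Fin n) F) * colMat v u
        = ((g⁻¹ : GL (Fin n) F) : Matrix (Fin n) (Fin n) F) * colMat v u *
            ((X : Matrix (Fin 2) (Fin 2) F) * ((X⁻¹ : GL (Fin 2) F) : Matrix (Fin 2) (Fin 2) F)) := by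
          rw [Units.mul_inv, Matrix.mul_one]
      _ = (((g⁻¹ : GL (Fin n) F) : Matrix (Fin n) (Fin n) F) *
            (colMat v u * (X : Matrix (Fin 2) (Fin 2) F))) *
            ((X⁻¹ : GL (Fin 2) F) : Matrix (Fin 2) (Fin 2) F) := by
          simp only [Matrix.mul_assoc]
      _ = colMat v u * ((X⁻¹ : GL (Fin 2) F) : Matrix (Fin 2) (Fin 2) F) := by rw [← h1]

theorem mem_indGrp_iff (M : Subgroup (GL (Fin n) F)) (v u : Fin n → F) (X : GL (Fin 2) F) :
    X ∈ indGrp M v u ↔ ∃ g ∈ M,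
      (g : Matrix (Fin n) (Fin n) F) *ᵥ v = (X : Matrix (Fin 2) (Fin 2) F) 0 0 • v +
        (X : Matrix (Fin 2) (Fin 2) F) 1 0 • u ∧
      (g : Matrix (Fin n) (Fin n) F) *ᵥ u = (X : Matrix (Fin 2) (Fin 2) F) 0 1 • v +
        (X : Matrix (Fin 2) (Fin 2) F) 1 1 • u := by
  constructor
  · rintro ⟨g, hg, h⟩
    rw [mul_colMat, colMat_mul] at h
    exact ⟨g, hg, colMat_inj h⟩
  · rintro ⟨g, hg, h0, h1⟩
    refine ⟨g, hg, ?_⟩
    rw [mul_colMat, colMat_mul, h0, h1]

/-- lower unitriangular matrices -/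
noncomputable def ymat (b : F) : GL (Fin 2) F :=
  Matrix.GeneralLinearGroup.mkOfDetNeZero !![1, 0; b, 1] (by simp [Matrix.det_fin_two])

theorem ymat_val (b : F) :
    ((ymat b : GL (Fin 2) F) : Matrix (Fin 2) (Fin 2) F) = !![1, 0; b, 1] := rfl

/-- under the standing hypotheses, `M` is contained in `N` -/
theorem hyp_le_N [Fintype F] {F₀ : Subfield F} {M : Subgroup (GL (Fin n) F)} (hyp : Hyp F₀ M)
    {k : GL (Fin n) F} (hk : k ∈ M) : InN F₀ k := by
  by_contra hkN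
  classical
  have hn := hyp.hn
  obtain ⟨i₀⟩ : Nonempty (Fin n) := ⟨⟨0, by omega⟩⟩
  set e₀ : Fin n → F := Pi.single i₀ 1 with he₀
  have he₀rat : Rat F₀ e₀ := rat_single _ F₀.one_mem
  have he₀ne : e₀ ≠ 0 := single_ne_zero' i₀
  set u : Fin n → F := (k : Matrix (Fin n) (Fin n) F) *ᵥ e₀ with hu
  have htot : ∀ ψ : Fin n → F, Rat F₀ ψ → ψ ≠ 0 → ψ ⬝ᵥ u ≠ 0 :=
    fun ψ hψ hψ0 => step2 hyp hk hkN he₀rat he₀ne hψ hψ0
  have hui : ∀ i, u i ≠ 0 := by
    intro i
    have := htot (Pi.single i 1) (rat_single _ F₀.one_mem) (single_ne_zero' i)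
    rwa [single_dotProduct, one_mul] at this
  obtain ⟨i₁, i₂, h10, h20, h12⟩ : ∃ i₁ i₂ : Fin n, i₁ ≠ i₀ ∧ i₂ ≠ i₀ ∧ i₁ ≠ i₂ := by
    obtain ⟨i₁, h1, -⟩ := exists_third hn i₀ i₀
    obtain ⟨i₂, h2, h2'⟩ := exists_third hn i₀ i₁
    exact ⟨i₁, i₂, h1, h2, Ne.symm h2'⟩
  have he₀0 : ∀ i, i ≠ i₀ → e₀ i = 0 := fun i hi => Pi.single_eq_of_ne hi _
  have he₀1 : e₀ i₀ = 1 := Pi.single_eq_same _ _
  haveI : Fintype ↥F₀ := Fintype.ofFinite _
  -- the unipotent elements
  have hx : ∀ ψ : Fin n → F, Rat F₀ ψ → ψ i₀ = 0 → xmat (ψ ⬝ᵥ u) ∈ indGrp M e₀ u := by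
    intro ψ hψ hψ0
    have hψe : ψ ⬝ᵥ e₀ = 0 := by rw [he₀, dotProduct_single, mul_one, hψ0]
    rw [mem_indGrp_iff]
    refine ⟨tv e₀ ψ, hyp.tv_mem he₀rat hψ, ?_, ?_⟩
    · rw [tv_mulVec _ _ _ hψe, hψe, zero_smul, add_zero, xmat_val]
      simp
    · rw [tv_mulVec _ _ _ hψe, xmat_val]
      simp [add_comm]
  apply frob_false (indGrp M e₀ u) ?_ (ι := ↥F₀ × ↥F₀)
    (fun c => (c.1 : F) * u i₁ + (c.2 : F) * u i₂) ?_ ?_ ?_ ?_
  · -- (a)
    intro X hX hX10 Y hY hY10 hW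
    rw [mem_indGrp_iff] at hX hY
    obtain ⟨x, hxM, hx0, hx1⟩ := hX
    obtain ⟨y, hyM, hy0, hy1⟩ := hY
    rw [hX10, zero_smul, add_zero] at hx0
    have hyN : ¬ InN F₀ y := not_inN_of_mix hn i₀ htot hY10 hy0
    have hXY : X * Y = Y * (Y⁻¹ * X * Y) := by group
    have hXYv := congrArg (fun t : GL (Fin 2) F => (t : Matrix (Fin 2) (Fin 2) F)) hXY
    simp only [Units.val_mul] at hXYv
    have e00 := congrFun (congrFun hXYv 0) 0
    have e10 := congrFun (congrFun hXYv 1) 0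
    rw [Matrix.mul_apply, Matrix.mul_apply, Fin.sum_univ_two, Fin.sum_univ_two] at e00 e10
    rw [← Units.val_mul, ← Units.val_mul] at e00 e10
    rw [hW, mul_zero, add_zero] at e00 e10
    rw [hX10, zero_mul, zero_add] at e10
    have hxy : (x : Matrix (Fin n) (Fin n) F) *ᵥ ((y : Matrix (Fin n) (Fin n) F) *ᵥ e₀) =
        ((Y⁻¹ * X * Y : GL (Fin 2) F) : Matrix (Fin 2) (Fin 2) F) 0 0 •
          ((y : Matrix (Fin n) (Fin n) F) *ᵥ e₀) := by
      rw [hy0, Matrix.mulVec_add, Matrix.mulVec_smul, Matrix.mulVec_smul, hx0, hx1]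
      funext i
      simp only [Pi.add_apply, Pi.smul_apply, smul_eq_mul]
      linear_combination (e₀ i) * e00 + (u i) * e10
    obtain ⟨s, hs⟩ := two_point hyp i₀ hxM hx0 hyM hyN hxy
    refine ⟨s, ?_⟩
    rw [hs, Matrix.smul_mulVec, Matrix.one_mulVec] at hx0 hx1
    have a1 := congrFun hx0 i₀
    have a2 := congrFun hx1 i₁
    have a3 := congrFun hx1 i₀
    simp only [Pi.smul_apply, Pi.add_apply, smul_eq_mul, he₀1, he₀0 i₁ h10, mul_zero, mul_one,
      zero_add] at a1 a2 a3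
    have b11 : (X : Matrix (Fin 2) (Fin 2) F) 1 1 = s := by
      exact (mul_right_cancel₀ (hui i₁) a2).symm
    have b01 : (X : Matrix (Fin 2) (Fin 2) F) 0 1 = 0 := by
      rw [b11] at a3
      linear_combination -a3
    ext i j
    fin_cases i <;> fin_cases j <;> simp [hX10, b11, b01, ← a1]
  · -- injectivity
    intro c c' hcc
    simp only at hcc
    set ψ : Fin n → F := ((c.1 : F) - (c'.1 : F)) • Pi.single i₁ 1 +
      ((c.2 : F) - (c'.2 : F)) • Pi.single i₂ 1 with hψ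
    have hψrat : Rat F₀ ψ :=
      rat_add (rat_smul (F₀.sub_mem c.1.2 c'.1.2) (rat_single _ F₀.one_mem))
        (rat_smul (F₀.sub_mem c.2.2 c'.2.2) (rat_single _ F₀.one_mem))
    have hψu : ψ ⬝ᵥ u = 0 := by
      rw [hψ, add_dotProduct, smul_dotProduct, smul_dotProduct, single_dotProduct,
        single_dotProduct, one_mul, one_mul, smul_eq_mul, smul_eq_mul]
      linear_combination hcc
    have hψ0 : ψ = 0 := by
      by_contra h
      exact htot ψ hψrat h hψu
    have h1 := congrFun hψ0 i₁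
    have h2 := congrFun hψ0 i₂
    simp only [hψ, Pi.add_apply, Pi.smul_apply, Pi.single_eq_same, Pi.single_eq_of_ne h12,
      Pi.single_eq_of_ne (Ne.symm h12), smul_eq_mul, mul_one, mul_zero, add_zero, zero_add,
      Pi.zero_apply] at h1 h2
    exact Prod.ext (Subtype.ext (sub_eq_zero.mp h1)) (Subtype.ext (sub_eq_zero.mp h2))
  · -- cardinality
    rw [Fintype.card_prod]
    have : 1 < Fintype.card ↥F₀ := Fintype.one_lt_card
    nlinarith
  · -- the unipotent elements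
    intro c
    have := hx ((c.1 : F) • Pi.single i₁ 1 + (c.2 : F) • Pi.single i₂ 1)
      (rat_add (rat_smul c.1.2 (rat_single _ F₀.one_mem))
        (rat_smul c.2.2 (rat_single _ F₀.one_mem)))
      (by
        rw [Pi.add_apply, Pi.smul_apply, Pi.smul_apply, Pi.single_eq_of_ne (Ne.symm h10),
          Pi.single_eq_of_ne (Ne.symm h20), smul_zero, smul_zero, add_zero])
    rw [add_dotProduct, smul_dotProduct, smul_dotProduct, single_dotProduct, single_dotProduct,
      one_mul, one_mul, smul_eq_mul, smul_eq_mul] at this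
    exact this
  · -- (d)
    set z : Fin n → F := ((k⁻¹ : GL (Fin n) F) : Matrix (Fin n) (Fin n) F) *ᵥ e₀ with hz
    obtain ⟨j, hj0, hzj⟩ : ∃ j, j ≠ i₀ ∧ z j ≠ 0 := by
      by_contra hcon
      push Not at hcon
      have hz' : z = z i₀ • e₀ := by
        funext i
        by_cases hi : i = i₀
        · rw [hi, Pi.smul_apply, he₀1, smul_eq_mul, mul_one]
        · rw [hcon i hi, Pi.smul_apply, he₀0 i hi, smul_zero]
      have h1 : (k : Matrix (Fin n) (Fin n) F) *ᵥ z = e₀ := mulVec_inv_mulVec' k e₀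
      rw [hz', Matrix.mulVec_smul, ← hu] at h1
      have h2 := congrFun h1 i₁
      have h3 := congrFun h1 i₀
      rw [Pi.smul_apply, smul_eq_mul, he₀0 i₁ h10] at h2
      rw [Pi.smul_apply, smul_eq_mul, he₀1] at h3
      rcases mul_eq_zero.mp h2 with h4 | h4
      · rw [h4, zero_mul] at h3
        exact zero_ne_one h3
      · exact hui i₁ h4
    set φ : Fin n → F := (Pi.single j 1 : Fin n → F) ᵥ*
      ((k⁻¹ : GL (Fin n) F) : Matrix (Fin n) (Fin n) F) with hφ
    have hl : φ ᵥ* (k : Matrix (Fin n) (Fin n) F) = Pi.single j 1 := by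
      rw [hφ, vecMul_vecMul_inv]
    have hje : (Pi.single j 1 : Fin n → F) ⬝ᵥ e₀ = 0 := by
      rw [single_dotProduct, one_mul, he₀0 j hj0]
    obtain ⟨h1, h2⟩ := conj_tv k e₀ (Pi.single j 1) u φ hje hu hl
    have h3 : tv u φ ∈ M := by
      rw [← h2]
      exact M.mul_mem (M.mul_mem hk (hyp.tv_mem he₀rat (rat_single _ F₀.one_mem))) (M.inv_mem hk)
    have hφe : φ ⬝ᵥ e₀ = z j := by
      rw [hφ, ← Matrix.dotProduct_mulVec, ← hz, single_dotProduct, one_mul]
    refine ⟨ymat (z j), ?_, ?_⟩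
    · rw [mem_indGrp_iff]
      refine ⟨tv u φ, h3, ?_, ?_⟩
      · rw [tv_mulVec _ _ _ h1, hφe, ymat_val]
        simp
      · rw [tv_mulVec _ _ _ h1, h1, zero_smul, add_zero, ymat_val]
        simp
    · rw [ymat_val]
      simpa using hzj

end Cfsg.Agent.Helper28.Subf
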