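import Mathlib
import Cfsg.Prelude.Def_GeometricClasses
import Cfsg.Agent.Lib.Helper28.SubfD

/-!
# Subfield subgroups of `SL_n` (helper28), part E: maximality of the subfield subgroup
-/

set_option autoImplicit false

namespace Cfsg.Agent.Helper28.Subf

open Matrix Cfsg Cfsg.Agent.Helper28 Cfsg.Agent.Helper28.SubspaceMax Cfsg.Agent.Helper28.SpInSL

variable {F : Type*} [Field F] {n : ℕ} (F₀ : Subfield F)

theorem mem_subfield_iff (P g : GL (Fin n) F) :
    g ∈ Cfsg.Geo.subfieldSubgroup F₀ P ↔ InN F₀ (P⁻¹ * g * P) := by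
  constructor
  · intro hg
    unfold Cfsg.Geo.subfieldSubgroup at hg
    rw [Subgroup.mem_map] at hg
    obtain ⟨x, hx, rfl⟩ := hg
    have hx' : x ∈ (((Matrix.GeneralLinearGroup.map (F₀.subtype : F₀ →+* F)).range ⊔
        Cfsg.Geo.scalars (Fin n) F : Subgroup (GL (Fin n) F)) : Set (GL (Fin n) F)) := hx
    rw [Subgroup.mul_normal] at hx'
    obtain ⟨r', ⟨r, rfl⟩, s, hs, rfl⟩ := Set.mem_mul.mp hx'
    have hs' : s ∈ Cfsg.Geo.scalars (Fin n) F := hs
    rw [Cfsg.Geo.mem_scalars_iff] at hs'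
    obtain ⟨cu, hcu⟩ := hs'
    have h1 : P⁻¹ * ((MulAut.conj P).toMonoidHom
        (Matrix.GeneralLinearGroup.map (F₀.subtype : F₀ →+* F) r * s)) * P =
        Matrix.GeneralLinearGroup.map (F₀.subtype : F₀ →+* F) r * s := by
      simp [MulAut.conj_apply, mul_assoc]
    rw [h1]
    refine ⟨(cu : F)⁻¹, inv_ne_zero cu.ne_zero, ?_⟩
    rw [Units.val_mul, hcu, Matrix.mul_smul, Matrix.mul_one, smul_smul,
      inv_mul_cancel₀ cu.ne_zero, one_smul]
    intro i j
    rw [Matrix.GeneralLinearGroup.map_apply]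
    exact (r i j).2
  · rintro ⟨c, hc, h⟩
    set x : GL (Fin n) F := P⁻¹ * g * P with hx
    set A : Matrix (Fin n) (Fin n) F := c • (x : Matrix (Fin n) (Fin n) F) with hA
    let A₀ : Matrix (Fin n) (Fin n) F₀ := Matrix.of fun i j => ⟨A i j, h i j⟩
    have hA₀ : A₀.map F₀.subtype = A := by
      ext i j
      rfl
    have hdetx : (x : Matrix (Fin n) (Fin n) F).det ≠ 0 :=
      (Matrix.isUnits_det_units x).ne_zero
    have hdetA : A.det ≠ 0 := by
      rw [hA, Matrix.det_smul]
      exact mul_ne_zero (pow_ne_zero _ hc) hdetx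
    have hdetA₀ : A₀.det ≠ 0 := by
      intro h0
      apply hdetA
      rw [← hA₀, ← RingHom.mapMatrix_apply, ← RingHom.map_det, h0, map_zero]
    let r : GL (Fin n) F₀ := Matrix.GeneralLinearGroup.mkOfDetNeZero A₀ hdetA₀
    let r' : GL (Fin n) F := Matrix.GeneralLinearGroup.map (F₀.subtype : F₀ →+* F) r
    have hr' : (r' : Matrix (Fin n) (Fin n) F) = A := by
      ext i j
      rfl
    let s : GL (Fin n) F := Units.map (Matrix.scalar (Fin n) : F →+* Matrix (Fin n) (Fin n) F).toMonoidHom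
      (Units.mk0 c⁻¹ (inv_ne_zero hc))
    have hs : s ∈ Cfsg.Geo.scalars (Fin n) F := ⟨_, rfl⟩
    have hsv : (s : Matrix (Fin n) (Fin n) F) = c⁻¹ • (1 : Matrix (Fin n) (Fin n) F) := by
      show Matrix.scalar (Fin n) c⁻¹ = _
      rw [Matrix.smul_one_eq_diagonal]
      rfl
    have hrs : r' * s = x := by
      apply Units.ext
      rw [Units.val_mul, hr', hsv, hA, Matrix.smul_mul, Matrix.mul_smul, Matrix.mul_one, smul_smul,
        mul_inv_cancel₀ hc, one_smul]
    unfold Cfsg.Geo.subfieldSubgroup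
    rw [Subgroup.mem_map]
    refine ⟨r' * s, Subgroup.mul_mem_sup ⟨r, rfl⟩ hs, ?_⟩
    rw [hrs, hx]
    simp [MulAut.conj_apply, mul_assoc]

theorem conj_mem_specialLinear (P : GL (Fin n) F) {g : GL (Fin n) F}
    (hg : g ∈ Cfsg.Geo.specialLinear (Fin n) F) :
    P * g * P⁻¹ ∈ Cfsg.Geo.specialLinear (Fin n) F := by
  unfold Cfsg.Geo.specialLinear at hg ⊢
  exact (MonoidHom.normal_ker _).conj_mem g hg P

theorem xe_entry_diag {i j : Fin n} (hij : i ≠ j) (a : F) :
    ((xe i j a : GL (Fin n) F) : Matrix (Fin n) (Fin n) F) i i = 1 := by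
  unfold xe
  rw [tv_val _ _ (single_dot_single_ne hij _ _), Matrix.add_apply,
    Matrix.one_apply_eq, Matrix.vecMulVec_apply, Pi.single_eq_of_ne hij, mul_zero, add_zero]

theorem xe_entry_off {i j : Fin n} (hij : i ≠ j) (a : F) :
    ((xe i j a : GL (Fin n) F) : Matrix (Fin n) (Fin n) F) i j = a := by
  unfold xe
  rw [tv_val _ _ (single_dot_single_ne hij _ _), Matrix.add_apply,
    Matrix.one_apply_ne hij, Matrix.vecMulVec_apply, Pi.single_eq_same, Pi.single_eq_same,
    one_mul, zero_add]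

theorem not_inN_xe {i j : Fin n} (hij : i ≠ j) {a : F} (ha : a ∉ F₀) : ¬ InN F₀ (xe i j a) := by
  rintro ⟨c, hc, h⟩
  have h1 := h i i
  have h2 := h i j
  rw [Matrix.smul_apply, xe_entry_diag hij, smul_eq_mul, mul_one] at h1
  rw [Matrix.smul_apply, xe_entry_off hij, smul_eq_mul] at h2
  apply ha
  have h3 : a = c⁻¹ * (c * a) := by rw [← mul_assoc, inv_mul_cancel₀ hc, one_mul]
  rw [h3]
  exact F₀.mul_mem (F₀.inv_mem h1) h2

theorem exists_not_mem [Fintype F] (r : ℕ) (hr : r.Prime)
    (hcard : Fintype.card F = Nat.card F₀ ^ r) : ∃ a : F, a ∉ F₀ := by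
  by_contra h
  push Not at h
  have h1 : Nat.card F₀ = Fintype.card F := by
    rw [← Nat.card_eq_fintype_card]
    exact Nat.card_congr (Equiv.subtypeUnivEquiv h)
  rw [h1] at hcard
  have h2 : 1 < Fintype.card F := Fintype.one_lt_card
  have h3 : Fintype.card F ^ 2 ≤ Fintype.card F ^ r :=
    Nat.pow_le_pow_right (by omega) hr.two_le
  nlinarith

/-- the subfield subgroup is maximal in the special linear group -/
theorem subfield_maximal [Fintype F] (hn : 3 ≤ n) (r : ℕ) (hr : r.Prime)
    (hcard : Fintype.card F = Nat.card F₀ ^ r) (P : GL (Fin n) F) :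
    Cfsg.Geo.IsMaximalIn (Cfsg.Geo.specialLinear (Fin n) F)
      (Cfsg.Geo.subfieldSubgroup F₀ P ⊓ Cfsg.Geo.specialLinear (Fin n) F) := by
  have hcj : ∀ g : GL (Fin n) F, P⁻¹ * (P * g * P⁻¹) * P = g := fun g => by group
  have hcj' : ∀ g : GL (Fin n) F, P * (P⁻¹ * g * P) * P⁻¹ = g := fun g => by group
  constructor
  · apply lt_of_le_of_ne inf_le_right
    intro heq
    obtain ⟨a, ha⟩ := exists_not_mem F₀ r hr hcard
    have hij : (⟨0, by omega⟩ : Fin n) ≠ ⟨1, by omega⟩ := by
      intro h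
      have := congrArg Fin.val h
      simp at this
    have h1 : P * xe ⟨0, by omega⟩ ⟨1, by omega⟩ a * P⁻¹ ∈ Cfsg.Geo.specialLinear (Fin n) F :=
      conj_mem_specialLinear P (tv_mem_specialLinear _ _)
    rw [← heq] at h1
    have h2 := (Subgroup.mem_inf.mp h1).1
    rw [mem_subfield_iff, hcj] at h2
    exact not_inN_xe F₀ hij ha h2
  · intro M hNM hMSL
    by_cases hSL : Cfsg.Geo.specialLinear (Fin n) F ≤ M
    · right
      exact le_antisymm hMSL hSL
    · left
      apply le_antisymm _ hNM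
      set M' : Subgroup (GL (Fin n) F) := M.comap (MulAut.conj P).toMonoidHom with hM'
      have memM' : ∀ g : GL (Fin n) F, g ∈ M' ↔ P * g * P⁻¹ ∈ M := fun g => Iff.rfl
      have hrat_mem : ∀ g : GL (Fin n) F, RatM F₀ (g : Matrix (Fin n) (Fin n) F) →
          g ∈ Cfsg.Geo.specialLinear (Fin n) F → g ∈ M' := by
        intro g hg hgSL
        rw [memM']
        apply hNM
        rw [Subgroup.mem_inf]
        refine ⟨?_, conj_mem_specialLinear P hgSL⟩
        rw [mem_subfield_iff, hcj]
        exact ⟨1, one_ne_zero, by rwa [one_smul]⟩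
      have hyp : Hyp F₀ M' :=
        { hn := hn
          rat_mem := hrat_mem
          no_xe := by
            intro i j hij a hx
            by_contra ha
            apply hSL
            have h1 : Cfsg.Geo.specialLinear (Fin n) F ≤ M' := by
              apply partA F₀ M' hn r hr hcard _ hij a ha hx
              intro i' j' hij' b hb
              exact hrat_mem _ (ratM_tv (rat_single _ F₀.one_mem) (rat_single _ hb))
                (tv_mem_specialLinear _ _)
            intro s hs
            have h2 : P⁻¹ * s * P ∈ Cfsg.Geo.specialLinear (Fin n) F := by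
              have := conj_mem_specialLinear P⁻¹ hs
              rwa [inv_inv] at this
            have h3 := h1 h2
            rw [memM', hcj'] at h3
            exact h3 }
      intro m hm
      rw [Subgroup.mem_inf]
      refine ⟨?_, hMSL hm⟩
      rw [mem_subfield_iff]
      apply hyp_le_N hyp
      rw [memM', hcj']
      exact hm

end Cfsg.Agent.Helper28.Subf
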