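import Mathlib

set_option autoImplicit false

/-!
Element constructions in `Equiv.Perm α` used for the statement on Sylow 2-subgroups of
symmetric and alternating groups lying in a unique maximal subgroup.
-/

namespace Cfsg.Agent.Helper28.SylTwoMax

open Equiv Equiv.Perm MulAction
open scoped Pointwise

variable {α : Type*} [Fintype α] [DecidableEq α]

/-- a point of a set of size at least 4 avoiding three given points -/
theorem exists_mem_ne3 (U : Set α) (h : 4 ≤ U.ncard) (p q r : α) :
    ∃ a ∈ U, a ≠ p ∧ a ≠ q ∧ a ≠ r := by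
  classical
  have h3 : (({p, q, r} : Finset α) : Set α).ncard < U.ncard := by
    rw [Set.ncard_coe_finset]
    exact lt_of_le_of_lt Finset.card_le_three h
  obtain ⟨a, haU, ha⟩ := Set.exists_mem_notMem_of_ncard_lt_ncard h3 (Set.toFinite _)
  refine ⟨a, haU, ?_⟩
  simp only [Finset.coe_insert, Finset.coe_singleton, Set.mem_insert_iff,
    Set.mem_singleton_iff, not_or] at ha
  exact ha

/-- a point of the whole type avoiding two given points -/
theorem exists_ne2 (h : 3 ≤ Fintype.card α) (p q : α) : ∃ a : α, a ≠ p ∧ a ≠ q := by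
  classical
  have h3 : ({p, q} : Finset α).card < (Finset.univ : Finset α).card := by
    rw [Finset.card_univ]
    exact lt_of_le_of_lt Finset.card_le_two h
  obtain ⟨a, -, ha⟩ := Finset.exists_mem_notMem_of_card_lt_card h3
  refine ⟨a, ?_⟩
  simp only [Finset.mem_insert, Finset.mem_singleton, not_or] at ha
  exact ha

/-- three distinct points avoiding two given points -/
theorem exists_three_ne2 (h : 5 ≤ Fintype.card α) (p q : α) :
    ∃ a b c : α, a ≠ b ∧ a ≠ c ∧ b ≠ c ∧ a ≠ p ∧ a ≠ q ∧ b ≠ p ∧ b ≠ q ∧ c ≠ p ∧ c ≠ q := by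
  classical
  have h3 : 2 < ((Finset.univ : Finset α) \ {p, q}).card := by
    have := Finset.card_sdiff_add_card_inter (Finset.univ : Finset α) {p, q}
    have h2 : ((Finset.univ : Finset α) ∩ {p, q}).card ≤ 2 :=
      le_trans (Finset.card_le_card Finset.inter_subset_right) Finset.card_le_two
    rw [Finset.card_univ] at this
    omega
  obtain ⟨a, b, c, ha, hb, hc, hab, hac, hbc⟩ := Finset.two_lt_card_iff.mp h3
  simp only [Finset.mem_sdiff, Finset.mem_univ, Finset.mem_insert, Finset.mem_singleton,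
    true_and, not_or] at ha hb hc
  exact ⟨a, b, c, hab, hac, hbc, ha.1, ha.2, hb.1, hb.2, hc.1, hc.2⟩

/-- E1: an even permutation stabilising `U` but not `V`. -/
theorem exists_even_stab_not_stab (h5 : 5 ≤ Fintype.card α) (U V : Set α)
    (hUV : Disjoint U V) (a c : α) (ha : a ∈ V) (hcU : c ∉ U) (hcV : c ∉ V) :
    ∃ g : Perm α, g ∈ alternatingGroup α ∧ g ∈ stabilizer (Perm α) U ∧
      g ∉ stabilizer (Perm α) V := by
  have haU : a ∉ U := fun h => (Set.disjoint_left.mp hUV h) ha
  have hac : a ≠ c := fun h => hcV (h ▸ ha)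
  obtain ⟨x1, x2, x3, h12, h13, h23, h1a, h1c, h2a, h2c, h3a, h3c⟩ := exists_three_ne2 h5 a c
  -- choose two of the three points on the same side of `U`
  have hpair : ∃ x y : α, x ≠ y ∧ x ≠ a ∧ x ≠ c ∧ y ≠ a ∧ y ≠ c ∧ (x ∈ U ↔ y ∈ U) := by
    by_cases m1 : x1 ∈ U <;> by_cases m2 : x2 ∈ U <;> by_cases m3 : x3 ∈ U
    · exact ⟨x1, x2, h12, h1a, h1c, h2a, h2c, by simp [m1, m2]⟩
    · exact ⟨x1, x2, h12, h1a, h1c, h2a, h2c, by simp [m1, m2]⟩
    · exact ⟨x1, x3, h13, h1a, h1c, h3a, h3c, by simp [m1, m3]⟩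
    · exact ⟨x2, x3, h23, h2a, h2c, h3a, h3c, by simp [m2, m3]⟩
    · exact ⟨x2, x3, h23, h2a, h2c, h3a, h3c, by simp [m2, m3]⟩
    · exact ⟨x1, x3, h13, h1a, h1c, h3a, h3c, by simp [m1, m3]⟩
    · exact ⟨x1, x2, h12, h1a, h1c, h2a, h2c, by simp [m1, m2]⟩
    · exact ⟨x1, x2, h12, h1a, h1c, h2a, h2c, by simp [m1, m2]⟩
  obtain ⟨x, y, hxy, hxa, hxc, hya, hyc, hxyU⟩ := hpair
  refine ⟨swap a c * swap x y, ?_, ?_, ?_⟩
  · rw [mem_alternatingGroup, map_mul, sign_swap hac, sign_swap hxy]; rfl
  · rw [mem_stabilizer_set' (Set.toFinite U)]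
    intro b hb
    have hba : b ≠ a := fun h => haU (h ▸ hb)
    have hbc : b ≠ c := fun h => hcU (h ▸ hb)
    rw [Perm.smul_def, Perm.mul_apply]
    by_cases hbx : b = x
    · subst hbx
      rw [swap_apply_left, swap_apply_of_ne_of_ne hya hyc]
      exact hxyU.mp hb
    · by_cases hby : b = y
      · subst hby
        rw [swap_apply_right, swap_apply_of_ne_of_ne hxa hxc]
        exact hxyU.mpr hb
      · rw [swap_apply_of_ne_of_ne hbx hby, swap_apply_of_ne_of_ne hba hbc]
        exact hb
  · rw [mem_stabilizer_set]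
    intro h
    have := (h a).mpr ha
    rw [Perm.smul_def, Perm.mul_apply, swap_apply_of_ne_of_ne hxa.symm hya.symm,
      swap_apply_left] at this
    exact hcV this

/-- data of a fixed-point-free involution -/
structure IsFpfInv (z : Perm α) : Prop where
  sq : ∀ x, z (z x) = x
  ne : ∀ x, z x ≠ x

theorem IsFpfInv.inv_eq {z : Perm α} (hz : IsFpfInv z) : z⁻¹ = z := by
  ext x
  rw [Perm.inv_eq_iff_eq]
  exact (hz.sq x).symm

theorem IsFpfInv.conj_swap {z : Perm α} (hz : IsFpfInv z) (x y : α) :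
    z * swap x y = swap (z x) (z y) * z := by
  rw [swap_apply_apply, inv_mul_cancel_right]

theorem IsFpfInv.conj {z : Perm α} (hz : IsFpfInv z) (g : Perm α) :
    IsFpfInv (g * z * g⁻¹) where
  sq x := by
    simp [hz.sq]
  ne x := by
    intro h
    simp only [Perm.mul_apply] at h
    have : z (g⁻¹ x) = g⁻¹ x := by
      rw [Perm.eq_inv_iff_eq]; exact h
    exact hz.ne _ this

/-- E2: an even permutation commuting with the fixed-point-free involution `z`,
moving a point of `U` out of `U`; if `U` has at least four points it also keeps a point of `U`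
inside `U`. -/
theorem exists_even_comm_not_stab (h4 : 4 ≤ Fintype.card α) {z : Perm α} (hz : IsFpfInv z)
    (U : Set α) (x y : α) (hx : x ∈ U) (hy : y ∉ U) :
    ∃ g : Perm α, g ∈ alternatingGroup α ∧ g * z = z * g ∧ (∃ a' ∈ U, g a' ∉ U) ∧
      (4 ≤ U.ncard → ∃ a ∈ U, g a ∈ U) := by
  have hxy : x ≠ y := fun h => hy (h ▸ hx)
  by_cases hzx : z x ∈ U
  · -- first case
    have hzxy : z x ≠ y := fun h => hy (h ▸ hzx)
    have hxzy : x ≠ z y := fun h => hzxy (by rw [h, hz.sq])
    have hzxzy : z x ≠ z y := fun h => hxy (z.injective h)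
    refine ⟨swap x y * swap (z x) (z y), ?_, ?_, ⟨x, hx, ?_⟩, ?_⟩
    · rw [mem_alternatingGroup, map_mul, sign_swap hxy, sign_swap hzxzy]; rfl
    · have hc : Commute (swap x y) (swap (z x) (z y)) := by
        apply Perm.Disjoint.commute
        apply disjoint_swap_swap
        simp [hxy, (hz.ne x).symm, hxzy, hzxy.symm, (hz.ne y).symm, hzxzy]
      have hzA : z * swap x y = swap (z x) (z y) * z := hz.conj_swap x y
      have hzB : z * swap (z x) (z y) = swap x y * z := by
        rw [hz.conj_swap, hz.sq, hz.sq]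
      symm
      calc z * (swap x y * swap (z x) (z y))
          = (z * swap x y) * swap (z x) (z y) := (mul_assoc _ _ _).symm
        _ = swap (z x) (z y) * (z * swap (z x) (z y)) := by rw [hzA, mul_assoc]
        _ = (swap (z x) (z y) * swap x y) * z := by rw [hzB, mul_assoc]
        _ = swap x y * swap (z x) (z y) * z := by rw [hc.eq]
    · rw [Perm.mul_apply, swap_apply_of_ne_of_ne (hz.ne x).symm hxzy, swap_apply_left]
      exact hy
    · intro hU
      obtain ⟨a, haU, ha1, ha2, ha3⟩ := exists_mem_ne3 U hU x (z x) (z y)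
      have hay : a ≠ y := fun h => hy (h ▸ haU)
      refine ⟨a, haU, ?_⟩
      rw [Perm.mul_apply, swap_apply_of_ne_of_ne ha2 ha3, swap_apply_of_ne_of_ne ha1 hay]
      exact haU
  · -- second case
    obtain ⟨w, hwx, hwzx⟩ := exists_ne2 (by omega) x (z x)
    have hzwx : z w ≠ x := fun h => hwzx (by rw [← h, hz.sq])
    have hzwzx : z w ≠ z x := fun h => hwx (z.injective h)
    refine ⟨swap x (z x) * swap w (z w), ?_, ?_, ⟨x, hx, ?_⟩, ?_⟩
    · rw [mem_alternatingGroup, map_mul, sign_swap (hz.ne x).symm, sign_swap (hz.ne w).symm]; rfl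
    · have h1 : z * swap x (z x) = swap x (z x) * z := by
        rw [hz.conj_swap, hz.sq, swap_comm]
      have h2 : z * swap w (z w) = swap w (z w) * z := by
        rw [hz.conj_swap, hz.sq, swap_comm]
      rw [mul_assoc, ← h2, ← mul_assoc, ← h1, mul_assoc]
    · rw [Perm.mul_apply, swap_apply_of_ne_of_ne hwx.symm hzwx.symm, swap_apply_left]
      exact hzx
    · intro hU
      obtain ⟨a, haU, ha1, ha2, ha3⟩ := exists_mem_ne3 U hU x w (z w)
      have hazx : a ≠ z x := fun h => hzx (h ▸ haU)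
      refine ⟨a, haU, ?_⟩
      rw [Perm.mul_apply, swap_apply_of_ne_of_ne ha2 ha3, swap_apply_of_ne_of_ne ha1 hazx]
      exact haU

/-- E3: an even permutation not commuting with the fixed-point-free involution `z`. -/
theorem exists_even_not_comm (h3 : 3 ≤ Fintype.card α) {z : Perm α} (hz : IsFpfInv z) :
    ∃ g : Perm α, g ∈ alternatingGroup α ∧ g * z ≠ z * g := by
  have : Nonempty α := by
    rw [← Fintype.card_pos_iff]; omega
  obtain ⟨x⟩ := this
  obtain ⟨w, hwx, hwzx⟩ := exists_ne2 h3 x (z x)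
  refine ⟨swap x (z x) * swap x w, ?_, ?_⟩
  · rw [mem_alternatingGroup, map_mul, sign_swap (hz.ne x).symm, sign_swap hwx.symm]; rfl
  · intro h
    have h1 := congrArg (fun f : Perm α => f x) h
    simp only [Perm.mul_apply] at h1
    rw [swap_apply_of_ne_of_ne (hz.ne x) hwzx.symm, swap_apply_right, swap_apply_left,
      swap_apply_of_ne_of_ne hwx hwzx] at h1
    exact hwzx (by rw [h1, hz.sq])

/-- the stabiliser of the bisection `{U, Uᶜ}` -/
def bisStab (U : Set α) : Subgroup (Perm α) where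
  carrier := {g | g • U = U ∨ g • U = Uᶜ}
  one_mem' := Or.inl (one_smul _ _)
  mul_mem' := by
    intro g h hg hh
    simp only [Set.mem_ofPred_eq] at hg hh ⊢
    rw [mul_smul]
    rcases hh with hh | hh
    · rw [hh]; exact hg
    · rw [hh, Set.smul_set_compl]
      rcases hg with hg | hg
      · right; rw [hg]
      · left; rw [hg, compl_compl]
  inv_mem' := by
    intro g hg
    simp only [Set.mem_ofPred_eq] at hg ⊢
    rcases hg with hg | hg
    · left
      rw [inv_smul_eq_iff, hg]
    · right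
      rw [inv_smul_eq_iff, Set.smul_set_compl, hg, compl_compl]

theorem mem_bisStab {U : Set α} {g : Perm α} : g ∈ bisStab U ↔ g • U = U ∨ g • U = Uᶜ :=
  Iff.rfl

theorem stabilizer_le_bisStab (U : Set α) : stabilizer (Perm α) U ≤ bisStab U :=
  fun _ hg => Or.inl (mem_stabilizer_iff.mp hg)

/-- an element with `a, a' ∈ U`, `g a ∈ U`, `g a' ∉ U` is not in the bisection stabiliser -/
theorem not_mem_bisStab {U : Set α} {g : Perm α} (a a' : α) (ha : a ∈ U) (hga : g a ∈ U)
    (ha' : a' ∈ U) (hga' : g a' ∉ U) : g ∉ bisStab U := by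
  rintro (h | h)
  · apply hga'
    rw [← h]
    exact ⟨a', ha', rfl⟩
  · have : g a ∈ g • U := ⟨a, ha, rfl⟩
    rw [h] at this
    exact this hga

end Cfsg.Agent.Helper28.SylTwoMax
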