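import Mathlib
import Cfsg.Agent.Lib.Helper28.SylTwoMaxA

set_option autoImplicit false

/-!
Generation statements: overgroups of set stabilisers in the symmetric and alternating groups.
-/

namespace Cfsg.Agent.Helper28.SylTwoMax

open Equiv Equiv.Perm MulAction Set
open scoped Pointwise

variable {α : Type*} [Fintype α] [DecidableEq α]

/-- mixing elements prevent `sᶜ` from being a block -/
theorem not_isBlock_compl_of_mixing {M : Type*} [Group M] [MulAction M α] {s : Set α}
    (hcard : s.ncard = sᶜ.ncard) (g : M)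
    (a a' : α) (ha : a ∈ s) (hga : g • a ∈ s) (ha' : a' ∈ s) (hga' : g • a' ∉ s) :
    ¬ IsBlock M sᶜ := by
  intro hsc
  rcases isBlock_iff_smul_eq_or_disjoint.mp hsc g with h | h
  · have h1 : g • a' ∈ g • sᶜ := by rw [h]; exact hga'
    rw [Set.smul_mem_smul_set_iff] at h1
    exact h1 ha'
  · have hsub : g • sᶜ ⊆ s := by
      intro x hx
      by_contra hxs
      exact (Set.disjoint_left.mp h hx) hxs
    have heq : g • sᶜ = s := by
      apply Set.eq_of_subset_of_ncard_le hsub _ (Set.toFinite _)
      rw [Set.ncard_smul_set, hcard]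
    have h1 : g • a ∈ g • sᶜ := by rw [heq]; exact hga
    rw [Set.smul_mem_smul_set_iff] at h1
    exact h1 ha

/-- F2 for the symmetric group: a subgroup containing the stabiliser of a half-set `s`
and an element mixing `s` and `sᶜ` is everything. -/
theorem perm_eq_top_of_mixing {s : Set α} (hcard : s.ncard = sᶜ.ncard)
    (G : Subgroup (Perm α)) (hG : stabilizer (Perm α) s ≤ G) (g : Perm α) (hg : g ∈ G)
    (a a' : α) (ha : a ∈ s) (hga : g a ∈ s) (ha' : a' ∈ s) (hga' : g a' ∉ s) : G = ⊤ := by
  classical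
  have hne : stabilizer (Perm α) s ≠ G := by
    rintro rfl
    rw [mem_stabilizer_set] at hg
    exact hga' ((hg a').mpr ha')
  have hlt : stabilizer (Perm α) s < G := lt_of_le_of_ne hG hne
  have hG' : stabilizer (Perm α) sᶜ < G := by rwa [stabilizer_compl]
  obtain ⟨k, hk_swap, hk⟩ := has_swap_mem_of_lt_stabilizer s G hlt
  apply subgroup_eq_top_of_isPreprimitive_of_isSwap_mem _ k hk_swap hk
  have := G.isPretransitive_of_stabilizer_lt hlt exists_mem_stabilizer_smul_eq
  apply IsPreprimitive.mk
  intro B hB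
  unfold IsTrivialBlock
  rw [or_iff_not_imp_left]
  intro hB'
  have not_isBlock_sc : ¬ IsBlock G sᶜ :=
    not_isBlock_compl_of_mixing hcard (⟨g, hg⟩ : G) a a' ha hga ha' hga'
  have hB_not_le_sc (B : Set α) (hB : IsBlock G B) (hBsc : B ⊆ sᶜ) : B.Subsingleton :=
    hB.subsingleton_of_ssubset_of_stabilizer_Perm_le
      (hBsc.ssubset_of_ne (by rintro rfl; exact not_isBlock_sc hB)) hG'.le
  have hB_not_le_s (B : Set α) (hB : IsBlock G B) (hBs : B ⊆ s) : B.Subsingleton :=
    have := isPreprimitive_stabilizer_subgroup hG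
    hB.subsingleton_of_stabilizer_lt_of_subset hB_not_le_sc hlt hBs
  have _ := Equiv.Perm.isMultiplyPretransitive α (s.ncard + 1)
  have hsub : sᶜ ⊆ B := by
    apply MulAction.IsBlock.compl_subset_of_stabilizer_le_of_not_subset_of_not_subset_compl hG
      _ _ hB
    · intro h; exact hB' (hB_not_le_s B hB h)
    · intro h; exact hB' (hB_not_le_sc B hB h)
  apply hB.eq_univ_of_card_lt
  have hne' : sᶜ ≠ B := by
    rintro rfl; exact not_isBlock_sc hB
  have h1 : sᶜ.ncard < B.ncard := Set.ncard_lt_ncard (hsub.ssubset_of_ne hne') (Set.toFinite _)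
  have h2 := Set.ncard_add_ncard_compl s
  omega

/-- F2 for the alternating group. -/
theorem alt_eq_top_of_mixing {s : Set α} (hcard : s.ncard = sᶜ.ncard) (h3 : 3 ≤ s.ncard)
    (G : Subgroup (alternatingGroup α)) (hG : stabilizer (alternatingGroup α) s ≤ G)
    (g : alternatingGroup α) (hg : g ∈ G)
    (a a' : α) (ha : a ∈ s) (hga : g • a ∈ s) (ha' : a' ∈ s) (hga' : g • a' ∉ s) : G = ⊤ := by
  classical
  have hsum := Set.ncard_add_ncard_compl s
  have h0 : s.Nontrivial := by
    rw [← Set.one_lt_ncard_iff_nontrivial]; omega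
  have h1 : sᶜ.Nontrivial := by
    rw [← Set.one_lt_ncard_iff_nontrivial]; omega
  have hα : 4 < Nat.card α := by omega
  have hne : stabilizer (alternatingGroup α) s ≠ G := by
    rintro rfl
    rw [mem_stabilizer_set] at hg
    exact hga' ((hg a').mpr ha')
  have hlt : stabilizer (alternatingGroup α) s < G := lt_of_le_of_ne hG hne
  suffices IsPreprimitive G α from alternatingGroup.subgroup_eq_top_of_isPreprimitive hα G hG
  have := G.isPretransitive_of_stabilizer_lt hlt
    (alternatingGroup.exists_mem_stabilizer_smul_eq (Nat.le_of_succ_le hα))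
  apply IsPreprimitive.mk
  intro B hB
  rw [IsTrivialBlock, or_iff_not_imp_left]
  intro hB'
  have not_isBlock_sc : ¬ IsBlock G sᶜ :=
    not_isBlock_compl_of_mixing hcard (⟨g, hg⟩ : G) a a' ha hga ha' hga'
  have hB_not_le_sc (B : Set α) (hB : IsBlock G B) (hBsc : B ⊆ sᶜ) : B.Subsingleton :=
    IsBlock.subsingleton_of_ssubset_compl_of_stabilizer_alternatingGroup_le h0
      (hBsc.ssubset_of_ne (by rintro rfl; exact not_isBlock_sc hB)) hG hB
  have hB_not_le_s (B : Set α) (hB : IsBlock G B) (hBs : B ⊆ s) : B.Subsingleton :=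
    have : IsPreprimitive (stabilizer G s) s :=
      alternatingGroup.stabilizer_subgroup_isPreprimitive h1 hG
    hB.subsingleton_of_stabilizer_lt_of_subset hB_not_le_sc hlt hBs
  have hsub : sᶜ ⊆ B := by
    suffices IsMultiplyPretransitive (↥(alternatingGroup α)) α (s.ncard + 1) by
      apply hB.compl_subset_of_stabilizer_le_of_not_subset_of_not_subset_compl hG
      · intro h; exact hB' (hB_not_le_s B hB h)
      · intro h; exact hB' (hB_not_le_sc B hB h)
    have := alternatingGroup.isMultiplyPretransitive α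
    apply isMultiplyPretransitive_of_le (n := Nat.card α - 2) _ (Nat.sub_le _ _)
    omega
  apply hB.eq_univ_of_card_lt
  have hne' : sᶜ ≠ B := by
    rintro rfl; exact not_isBlock_sc hB
  have h1 : sᶜ.ncard < B.ncard := Set.ncard_lt_ncard (hsub.ssubset_of_ne hne') (Set.toFinite _)
  omega

/-- membership in the stabiliser inside the alternating group -/
theorem mem_stabilizer_alt_iff {s : Set α} (g : alternatingGroup α) :
    g ∈ stabilizer (alternatingGroup α) s ↔ (g : Perm α) ∈ stabilizer (Perm α) s :=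
  Iff.rfl

/-- F1 in terms of subgroups of `Perm α`, for `T` the symmetric or the alternating group. -/
theorem eq_of_stab_le (T : Subgroup (Perm α)) (hT : T = ⊤ ∨ T = alternatingGroup α)
    {s : Set α} (hs : s.Nonempty) (hsc : sᶜ.Nonempty) (hn : Nat.card α ≠ 2 * s.ncard)
    (K : Subgroup (Perm α)) (hKT : K ≤ T) (hK : stabilizer (Perm α) s ⊓ T ≤ K)
    (g : Perm α) (hgK : g ∈ K) (hg : g ∉ stabilizer (Perm α) s) : K = T := by
  rcases hT with rfl | rfl
  · apply (Equiv.Perm.isCoatom_stabilizer hs hsc hn).2 K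
    refine lt_of_le_of_ne (by simpa using hK) ?_
    rintro rfl
    exact hg hgK
  · apply le_antisymm hKT
    have hco := alternatingGroup.isCoatom_stabilizer hs hsc hn
    have hlt : stabilizer (alternatingGroup α) s < K.subgroupOf (alternatingGroup α) := by
      refine lt_of_le_of_ne ?_ ?_
      · intro x hx
        rw [Subgroup.mem_subgroupOf]
        exact hK ⟨(mem_stabilizer_alt_iff x).mp hx, x.2⟩
      · intro h
        have h1 : (⟨g, hKT hgK⟩ : alternatingGroup α) ∈ K.subgroupOf (alternatingGroup α) := by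
          rw [Subgroup.mem_subgroupOf]; exact hgK
        rw [← h, mem_stabilizer_alt_iff] at h1
        exact hg h1
    have := hco.2 _ hlt
    rwa [Subgroup.subgroupOf_eq_top] at this

/-- F2 in terms of subgroups of `Perm α`, for `T` the symmetric or the alternating group. -/
theorem eq_of_stab_le_of_mixing (T : Subgroup (Perm α)) (hT : T = ⊤ ∨ T = alternatingGroup α)
    {s : Set α} (hcard : s.ncard = sᶜ.ncard) (h3 : 3 ≤ s.ncard)
    (K : Subgroup (Perm α)) (hKT : K ≤ T) (hK : stabilizer (Perm α) s ⊓ T ≤ K)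
    (g : Perm α) (hgK : g ∈ K)
    (a a' : α) (ha : a ∈ s) (hga : g a ∈ s) (ha' : a' ∈ s) (hga' : g a' ∉ s) : K = T := by
  rcases hT with rfl | rfl
  · exact perm_eq_top_of_mixing hcard K (by simpa using hK) g hgK a a' ha hga ha' hga'
  · apply le_antisymm hKT
    have hle : stabilizer (alternatingGroup α) s ≤ K.subgroupOf (alternatingGroup α) := by
      intro x hx
      rw [Subgroup.mem_subgroupOf]
      exact hK ⟨(mem_stabilizer_alt_iff x).mp hx, x.2⟩
    have h1 : (⟨g, hKT hgK⟩ : alternatingGroup α) ∈ K.subgroupOf (alternatingGroup α) := by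
      rw [Subgroup.mem_subgroupOf]; exact hgK
    have := alt_eq_top_of_mixing hcard h3 _ hle ⟨g, hKT hgK⟩ h1 a a' ha hga ha' hga'
    rwa [Subgroup.subgroupOf_eq_top] at this

end Cfsg.Agent.Helper28.SylTwoMax
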