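import Mathlib
import Cfsg.Agent.Lib.Helper28.SylTwoMaxA

set_option autoImplicit false

/-!
A 2-group of permutations of a set of even size centralises a fixed-point-free involution;
a transitive 2-group leaves a bisection invariant.
-/

namespace Cfsg.Agent.Helper28.SylTwoMax

open Equiv Equiv.Perm MulAction
open scoped Pointwise Nat

variable {α : Type*} [Fintype α] [DecidableEq α]

/-- `(2m)! = 2^m * m! * d` with `d` odd -/
theorem exists_odd_factorial (m : ℕ) : ∃ d : ℕ, Odd d ∧ (2 * m)! = 2 ^ m * m ! * d := by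
  induction m with
  | zero => exact ⟨1, odd_one, by simp⟩
  | succ m ih =>
    obtain ⟨d, hd, h⟩ := ih
    refine ⟨(2 * m + 1) * d, ?_, ?_⟩
    · exact Odd.mul ⟨m, rfl⟩ hd
    · have : 2 * (m + 1) = (2 * m + 1) + 1 := by ring
      rw [this, Nat.factorial_succ, Nat.factorial_succ, h, Nat.factorial_succ, pow_succ]
      ring

/-- a permutation whose cycle type consists of `m` twos on a set of size `2m`
is a fixed-point-free involution -/
theorem isFpfInv_of_cycleType {m : ℕ} (hm : Fintype.card α = 2 * m) {z : Perm α}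
    (hz : z.cycleType = Multiset.replicate m 2) : IsFpfInv z := by
  have hord : orderOf z ∣ 2 := by
    rw [← lcm_cycleType, hz]
    apply Multiset.lcm_dvd.mpr
    intro a ha
    rw [Multiset.eq_of_mem_replicate ha]
  have hsq : z ^ 2 = 1 := orderOf_dvd_iff_pow_eq_one.mp hord
  have hsupp : z.support = Finset.univ := by
    rw [← Finset.card_eq_iff_eq_univ, ← sum_cycleType, hz, Multiset.sum_replicate, hm]
    simp [mul_comm]
  constructor
  · intro x
    have := congrArg (fun f : Perm α => f x) hsq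
    simpa [pow_two] using this
  · intro x
    rw [← Perm.mem_support, hsupp]
    exact Finset.mem_univ x

/-- Lemma Z: a 2-group of permutations of a set of even size centralises
a fixed-point-free involution. -/
theorem exists_fpfInv_commute (R : Subgroup (Perm α)) (hR : IsPGroup 2 R) (m : ℕ)
    (hm : Fintype.card α = 2 * m) :
    ∃ z : Perm α, IsFpfInv z ∧ ∀ r ∈ R, r * z = z * r := by
  have : Fact (Nat.Prime 2) := ⟨Nat.prime_two⟩
  rcases Nat.eq_zero_or_pos m with rfl | hmpos
  · -- empty type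
    have : IsEmpty α := by
      rw [← Fintype.card_eq_zero_iff, hm]
    refine ⟨1, ⟨fun x => rfl, fun x => isEmptyElim x⟩, fun r _ => by simp⟩
  -- a reference involution
  obtain ⟨z₀, hz₀⟩ : ∃ g : Perm α, g.cycleType = Multiset.replicate m 2 := by
    rw [Equiv.Perm.exists_with_cycleType_iff]
    refine ⟨?_, ?_⟩
    · rw [Multiset.sum_replicate, hm]; simp [mul_comm]
    · intro a ha
      rw [Multiset.eq_of_mem_replicate ha]
  have hfp₀ : IsFpfInv z₀ := isFpfInv_of_cycleType hm hz₀
  -- the centraliser has odd index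
  set H : Subgroup (Perm α) := Subgroup.centralizer {z₀} with hH
  have hcardH : Nat.card H = 2 ^ m * m ! := by
    rw [hH, nat_card_centralizer, hz₀, Multiset.sum_replicate, Multiset.prod_replicate, hm]
    have h1 : (Multiset.replicate m 2).toFinset = {2} := by
      rw [Multiset.toFinset_replicate, if_neg (by omega)]
    rw [h1, Finset.prod_singleton, Multiset.count_replicate_self]
    simp [mul_comm]
  have hindex : Odd H.index := by
    obtain ⟨d, hd, hfac⟩ := exists_odd_factorial m
    have h1 := H.card_mul_index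
    rw [hcardH, Nat.card_eq_fintype_card, Fintype.card_perm, hm, hfac] at h1
    have hpos : 0 < 2 ^ m * m ! := Nat.mul_pos (pow_pos (by norm_num) _) (Nat.factorial_pos _)
    have := Nat.eq_of_mul_eq_mul_left hpos h1
    rw [this]; exact hd
  -- fixed point of the action on cosets
  have hnd : ¬ 2 ∣ Nat.card (Perm α ⧸ H) := by
    rw [← Subgroup.index_eq_card]
    intro h2
    exact (Nat.not_even_iff_odd.mpr hindex) (even_iff_two_dvd.mpr h2)
  obtain ⟨q, hq⟩ := hR.nonempty_fixed_point_of_prime_not_dvd_card (Perm α ⧸ H) hnd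
  obtain ⟨g, rfl⟩ := QuotientGroup.mk_surjective q
  have hfix : ∀ r ∈ R, g⁻¹ * r * g ∈ H := by
    intro r hr
    have h1 : (((r⁻¹ * g : Perm α)) : Perm α ⧸ H) = (g : Perm α ⧸ H) :=
      hq ⟨r⁻¹, R.inv_mem hr⟩
    rw [QuotientGroup.eq] at h1
    simp only [mul_inv_rev, inv_inv] at h1
    exact h1
  refine ⟨g * z₀ * g⁻¹, hfp₀.conj g, ?_⟩
  intro r hr
  have h1 := Subgroup.mem_centralizer_singleton_iff.mp (hfix r hr)
  calc r * (g * z₀ * g⁻¹) = g * ((g⁻¹ * r * g) * z₀) * g⁻¹ := by group
    _ = g * (z₀ * (g⁻¹ * r * g)) * g⁻¹ := by rw [h1]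
    _ = g * z₀ * g⁻¹ * r := by group

/-- Lemma β: a transitive 2-group of permutations of a set with at least two points
leaves a bisection invariant, and some element interchanges the two halves. -/
theorem exists_bisection_of_transitive (R : Subgroup (Perm α)) (hR : IsPGroup 2 R)
    (hcard : 2 ≤ Fintype.card α) (htr : ∀ x y : α, ∃ r ∈ R, r x = y) :
    ∃ U : Set α, (∀ r ∈ R, r • U = U ∨ r • U = Uᶜ) ∧ ∃ r ∈ R, r • U = Uᶜ := by
  have : Fact (Nat.Prime 2) := ⟨Nat.prime_two⟩
  have hne : Nonempty α := by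
    rw [← Fintype.card_pos_iff]; omega
  obtain ⟨x⟩ := hne
  obtain ⟨y, hy⟩ : ∃ y : α, y ≠ x := by
    by_contra h
    push Not at h
    have : Fintype.card α ≤ 1 := Fintype.card_le_one_iff.mpr (fun a b => by rw [h a, h b])
    omega
  set S : Subgroup R := stabilizer R x with hS
  obtain ⟨k, hk⟩ := IsPGroup.iff_card.mp hR
  obtain ⟨j, hj⟩ := IsPGroup.iff_card.mp (hR.to_subgroup S)
  -- the stabiliser is proper
  have hSlt : Nat.card S < Nat.card R := by
    obtain ⟨r, hr, hrx⟩ := htr x y
    have hne : S ≠ ⊤ := by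
      intro h
      have : (⟨r, hr⟩ : R) ∈ S := by rw [h]; trivial
      rw [hS, mem_stabilizer_iff] at this
      apply hy
      rw [← hrx]
      exact this
    by_contra hge
    push Not at hge
    exact hne (Subgroup.eq_top_of_le_card S hge)
  have hjk : j < k := by
    rw [hj, hk] at hSlt
    exact (Nat.pow_lt_pow_iff_right (by norm_num)).mp hSlt
  obtain ⟨N, hNcard, hSN⟩ := Sylow.exists_subgroup_card_pow_prime_le 2
    (show 2 ^ (k - 1) ∣ Nat.card R by rw [hk]; exact pow_dvd_pow 2 (by omega)) S hj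
    (show j ≤ k - 1 by omega)
  have hNindex : N.index = 2 := by
    have h1 := N.card_mul_index
    rw [hNcard, hk] at h1
    have h2 : 2 ^ k = 2 ^ (k - 1) * 2 := by
      rw [← pow_succ]; congr 1; omega
    rw [h2] at h1
    exact Nat.eq_of_mul_eq_mul_left (pow_pos (by norm_num) _) h1
  -- the half-orbit
  set U : Set α := {y | ∃ g : R, g ∈ N ∧ (g : Perm α) x = y} with hU
  have hmemN : ∀ r : R, r ∈ N → (r : Perm α) • U = U := by
    intro r hr
    ext y
    constructor
    · rintro ⟨_, ⟨g, hg, rfl⟩, rfl⟩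
      exact ⟨r * g, N.mul_mem hr hg, rfl⟩
    · rintro ⟨g, hg, rfl⟩
      refine ⟨((r⁻¹ * g : R) : Perm α) x, ⟨r⁻¹ * g, N.mul_mem (N.inv_mem hr) hg, rfl⟩, ?_⟩
      simp [Perm.smul_def]
  have hnotN : ∀ r : R, r ∉ N → (r : Perm α) • U = Uᶜ := by
    intro r hr
    ext y
    constructor
    · rintro ⟨_, ⟨g, hg, rfl⟩, rfl⟩ ⟨g', hg', hgg'⟩
      -- g'⁻¹ * r * g fixes x
      have h1 : g'⁻¹ * (r * g) ∈ S := by
        rw [hS, mem_stabilizer_iff]
        change ((g'⁻¹ * (r * g) : R) : Perm α) x = x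
        simp only [Subgroup.coe_mul, InvMemClass.coe_inv, Perm.mul_apply] at hgg' ⊢
        rw [Perm.smul_def] at hgg'
        rw [← hgg']
        simp
      have h2 : g'⁻¹ * (r * g) ∈ N := hSN h1
      have h3 : r * g ∈ N := by
        have := N.mul_mem hg' h2
        simpa using this
      exact hr ((Subgroup.mul_mem_cancel_right N hg).mp h3)
    · intro hy
      obtain ⟨r', hr', hr'x⟩ := htr x y
      have hr'N : (⟨r', hr'⟩ : R) ∉ N := fun h => hy ⟨⟨r', hr'⟩, h, hr'x⟩
      have h1 : r⁻¹ * ⟨r', hr'⟩ ∈ N := by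
        rw [Subgroup.mul_mem_iff_of_index_two hNindex]
        constructor
        · intro h; exact absurd (by simpa using N.inv_mem h) hr
        · intro h; exact absurd h hr'N
      refine ⟨((r⁻¹ * ⟨r', hr'⟩ : R) : Perm α) x, ⟨_, h1, rfl⟩, ?_⟩
      simp [Perm.smul_def, hr'x]
  refine ⟨U, ?_, ?_⟩
  · intro r hr
    by_cases h : (⟨r, hr⟩ : R) ∈ N
    · left; exact hmemN ⟨r, hr⟩ h
    · right; exact hnotN ⟨r, hr⟩ h
  · have hNtop : N ≠ ⊤ := by
      intro h
      rw [h, Subgroup.index_top] at hNindex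
      omega
    obtain ⟨r, hr⟩ : ∃ r : R, r ∉ N := by
      by_contra h
      push Not at h
      exact hNtop (eq_top_iff.mpr fun r _ => h r)
    exact ⟨r, r.2, hnotN r hr⟩

end Cfsg.Agent.Helper28.SylTwoMax
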