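import Mathlib
import Cfsg.Agent.Lib.Helper28.SylTwoMaxA
import Cfsg.Agent.Lib.Helper28.SylTwoMaxB
import Cfsg.Agent.Lib.Helper28.SylTwoMaxC

set_option autoImplicit false

/-!
A 2-subgroup of the symmetric or alternating group of degree `n ≥ 5`, `n` not of the form
`2^k+1`, lies in two proper subgroups which together generate the whole group.
-/

namespace Cfsg.Agent.Helper28.SylTwoMax

open Equiv Equiv.Perm MulAction
open scoped Pointwise

variable {α : Type*} [Fintype α] [DecidableEq α]

/-- the conclusion: two proper overgroups generating `T` -/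
def TwoOver (T R : Subgroup (Perm α)) : Prop :=
  ∃ K₁ K₂ : Subgroup (Perm α), R ≤ K₁ ∧ R ≤ K₂ ∧ K₁ ≤ T ∧ K₂ ≤ T ∧ K₁ ≠ T ∧ K₂ ≠ T ∧
    K₁ ⊔ K₂ = T

theorem alt_le_of (T : Subgroup (Perm α)) (hT : T = ⊤ ∨ T = alternatingGroup α) :
    alternatingGroup α ≤ T := by
  rcases hT with rfl | rfl
  · exact le_top
  · exact le_rfl

/-- D1: three invariant sets -/
theorem twoOver_of_three (T : Subgroup (Perm α)) (hT : T = ⊤ ∨ T = alternatingGroup α)
    (h5 : 5 ≤ Fintype.card α) (U V : Set α) (hUV : Disjoint U V) (hU : U.Nonempty)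
    (hV : V.Nonempty) (c : α) (hcU : c ∉ U) (hcV : c ∉ V)
    (hnU : Nat.card α ≠ 2 * U.ncard) (hnV : Nat.card α ≠ 2 * V.ncard)
    (R : Subgroup (Perm α)) (hRT : R ≤ T) (hRU : R ≤ stabilizer (Perm α) U)
    (hRV : R ≤ stabilizer (Perm α) V) : TwoOver T R := by
  have hA := alt_le_of T hT
  obtain ⟨a, ha⟩ := hV
  obtain ⟨b, hb⟩ := hU
  obtain ⟨g₁, hg₁A, hg₁U, hg₁V⟩ := exists_even_stab_not_stab h5 U V hUV a c ha hcU hcV
  obtain ⟨g₂, hg₂A, hg₂V, hg₂U⟩ := exists_even_stab_not_stab h5 V U hUV.symm b c hb hcV hcU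
  refine ⟨stabilizer (Perm α) U ⊓ T, stabilizer (Perm α) V ⊓ T, le_inf hRU hRT, le_inf hRV hRT,
    inf_le_right, inf_le_right, ?_, ?_, ?_⟩
  · intro h
    have : g₂ ∈ stabilizer (Perm α) U ⊓ T := by rw [h]; exact hA hg₂A
    exact hg₂U this.1
  · intro h
    have : g₁ ∈ stabilizer (Perm α) V ⊓ T := by rw [h]; exact hA hg₁A
    exact hg₁V this.1
  · exact eq_of_stab_le T hT ⟨b, hb⟩ ⟨c, hcU⟩ hnU _ (sup_le inf_le_right inf_le_right)
      le_sup_left g₂ (le_sup_right (a := stabilizer (Perm α) U ⊓ T) ⟨hg₂V, hA hg₂A⟩) hg₂U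

/-- D2: an invariant set of size different from half, and a centralised
fixed-point-free involution -/
theorem twoOver_of_set_of_inv (T : Subgroup (Perm α)) (hT : T = ⊤ ∨ T = alternatingGroup α)
    (h4 : 4 ≤ Fintype.card α) (U : Set α) (hU : U.Nonempty) (hUc : Uᶜ.Nonempty)
    (hnU : Nat.card α ≠ 2 * U.ncard) (z : Perm α) (hz : IsFpfInv z)
    (R : Subgroup (Perm α)) (hRT : R ≤ T) (hRU : R ≤ stabilizer (Perm α) U)
    (hRz : ∀ r ∈ R, r * z = z * r) : TwoOver T R := by
  have hA := alt_le_of T hT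
  obtain ⟨x, hx⟩ := hU
  obtain ⟨y, hy⟩ := hUc
  obtain ⟨g, hgA, hgz, ⟨a', ha', hga'⟩, -⟩ := exists_even_comm_not_stab h4 hz U x y hx hy
  obtain ⟨g', hg'A, hg'z⟩ := exists_even_not_comm (by omega) hz
  have hgU : g ∉ stabilizer (Perm α) U := by
    intro h
    rw [mem_stabilizer_set] at h
    exact hga' ((h a').mpr ha')
  have hgC : g ∈ Subgroup.centralizer {z} := Subgroup.mem_centralizer_singleton_iff.mpr hgz
  refine ⟨stabilizer (Perm α) U ⊓ T, Subgroup.centralizer {z} ⊓ T, le_inf hRU hRT,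
    le_inf (fun r hr => Subgroup.mem_centralizer_singleton_iff.mpr (hRz r hr)) hRT,
    inf_le_right, inf_le_right, ?_, ?_, ?_⟩
  · intro h
    have : g ∈ stabilizer (Perm α) U ⊓ T := by rw [h]; exact hA hgA
    exact hgU this.1
  · intro h
    have : g' ∈ Subgroup.centralizer {z} ⊓ T := by rw [h]; exact hA hg'A
    exact hg'z (Subgroup.mem_centralizer_singleton_iff.mp this.1)
  · exact eq_of_stab_le T hT ⟨x, hx⟩ ⟨y, hy⟩ hnU _ (sup_le inf_le_right inf_le_right)
      le_sup_left g (le_sup_right (a := stabilizer (Perm α) U ⊓ T) ⟨hgC, hA hgA⟩) hgU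

/-- D3: an invariant bisection, and a centralised fixed-point-free involution -/
theorem twoOver_of_bisection (T : Subgroup (Perm α)) (hT : T = ⊤ ∨ T = alternatingGroup α)
    (U : Set α) (hcard : U.ncard = Uᶜ.ncard) (h4 : 4 ≤ U.ncard)
    (z : Perm α) (hz : IsFpfInv z)
    (R : Subgroup (Perm α)) (hRT : R ≤ T) (hRU : R ≤ bisStab U)
    (hRz : ∀ r ∈ R, r * z = z * r) : TwoOver T R := by
  have hA := alt_le_of T hT
  have hsum := Set.ncard_add_ncard_compl U
  have hcα : 4 ≤ Fintype.card α := by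
    rw [← Nat.card_eq_fintype_card]; omega
  obtain ⟨x, hx⟩ : U.Nonempty := by
    rw [← Set.ncard_pos]; omega
  obtain ⟨y, hy⟩ : Uᶜ.Nonempty := by
    rw [← Set.ncard_pos]; omega
  obtain ⟨g, hgA, hgz, ⟨a', ha', hga'⟩, hmix⟩ := exists_even_comm_not_stab hcα hz U x y hx hy
  obtain ⟨a, ha, hga⟩ := hmix h4
  obtain ⟨g', hg'A, hg'z⟩ := exists_even_not_comm (by omega) hz
  have hgU : g ∉ bisStab U := not_mem_bisStab a a' ha hga ha' hga'
  have hgC : g ∈ Subgroup.centralizer {z} := Subgroup.mem_centralizer_singleton_iff.mpr hgz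
  refine ⟨bisStab U ⊓ T, Subgroup.centralizer {z} ⊓ T, le_inf hRU hRT,
    le_inf (fun r hr => Subgroup.mem_centralizer_singleton_iff.mpr (hRz r hr)) hRT,
    inf_le_right, inf_le_right, ?_, ?_, ?_⟩
  · intro h
    have : g ∈ bisStab U ⊓ T := by rw [h]; exact hA hgA
    exact hgU this.1
  · intro h
    have : g' ∈ Subgroup.centralizer {z} ⊓ T := by rw [h]; exact hA hg'A
    exact hg'z (Subgroup.mem_centralizer_singleton_iff.mp this.1)
  · exact eq_of_stab_le_of_mixing T hT hcard (by omega) _ (sup_le inf_le_right inf_le_right)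
      (le_trans (inf_le_inf_right T (stabilizer_le_bisStab U)) le_sup_left)
      g (le_sup_right (a := bisStab U ⊓ T) ⟨hgC, hA hgA⟩) a a' ha hga ha' hga'

/-- orbits of a subgroup are stabilised by it -/
theorem le_stabilizer_orbit (R : Subgroup (Perm α)) (x : α) :
    R ≤ stabilizer (Perm α) (orbit R x) := by
  intro r hr
  rw [mem_stabilizer_set' (Set.toFinite _)]
  intro b hb
  exact mem_orbit_of_mem_orbit (⟨r, hr⟩ : R) hb

theorem pow_two_ge_five {k : ℕ} (h : 5 ≤ 2 ^ k) : 3 ≤ k := by
  by_contra hk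
  push Not at hk
  interval_cases k <;> omega

/-- D4: the main statement of this file. -/
theorem twoOver_of_isPGroup (T : Subgroup (Perm α)) (hT : T = ⊤ ∨ T = alternatingGroup α)
    (h5 : 5 ≤ Fintype.card α) (hn : ¬ ∃ k : ℕ, 2 ≤ k ∧ Fintype.card α = 2 ^ k + 1)
    (R : Subgroup (Perm α)) (hRT : R ≤ T) (hR : IsPGroup 2 R) : TwoOver T R := by
  have : Fact (Nat.Prime 2) := ⟨Nat.prime_two⟩
  have hNc : Nat.card α = Fintype.card α := Nat.card_eq_fintype_card
  have hne : Nonempty α := by
    rw [← Fintype.card_pos_iff]; omega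
  obtain ⟨x₀⟩ := hne
  obtain ⟨a, ha⟩ := hR.card_orbit x₀
  rw [Nat.card_coe_set_eq] at ha
  by_cases h1 : orbit R x₀ = Set.univ
  · -- transitive case
    have hcard : Fintype.card α = 2 ^ a := by
      rw [← ha, h1, Set.ncard_univ, hNc]
    have ha3 : 3 ≤ a := pow_two_ge_five (hcard ▸ h5)
    have htr : ∀ x y : α, ∃ r ∈ R, r x = y := by
      intro x y
      have hx : x ∈ orbit R x₀ := by rw [h1]; trivial
      have hy : y ∈ orbit R x₀ := by rw [h1]; trivial
      rw [← orbit_eq_iff.mpr hx] at hy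
      obtain ⟨g, hg⟩ := hy
      exact ⟨g, g.2, hg⟩
    obtain ⟨z, hz, hRz⟩ := exists_fpfInv_commute R hR (2 ^ (a - 1)) (by
      rw [hcard, ← pow_succ']; congr 1; omega)
    obtain ⟨U, hU, r, hr, hrU⟩ := exists_bisection_of_transitive R hR (by omega) htr
    have hUc : U.ncard = Uᶜ.ncard := by
      rw [← hrU, Set.ncard_smul_set]
    have hsum := Set.ncard_add_ncard_compl U
    have h8 : 8 ≤ Fintype.card α := by
      rw [hcard]
      calc 8 = 2 ^ 3 := by norm_num
        _ ≤ 2 ^ a := Nat.pow_le_pow_right (by norm_num) ha3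
    exact twoOver_of_bisection T hT U hUc (by omega) z hz R hRT (fun r hr => hU r hr) hRz
  · obtain ⟨y, hy⟩ : ∃ y, y ∉ orbit R x₀ := by
      by_contra h
      push Not at h
      exact h1 (Set.eq_univ_of_forall h)
    obtain ⟨b, hb⟩ := hR.card_orbit y
    rw [Nat.card_coe_set_eq] at hb
    have hdisj : Disjoint (orbit R x₀) (orbit R y) := by
      rcases orbit.eq_or_disjoint (G := R) x₀ y with h | h
      · exact absurd (h ▸ mem_orbit_self y) hy
      · exact h
    have hx₀ : x₀ ∈ orbit R x₀ := mem_orbit_self x₀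
    have hyy : y ∈ orbit R y := mem_orbit_self y
    by_cases h2 : orbit R x₀ ∪ orbit R y = Set.univ
    · -- exactly two orbits
      have hcompl : (orbit R x₀)ᶜ = orbit R y := by
        ext w
        constructor
        · intro hw
          have : w ∈ orbit R x₀ ∪ orbit R y := by rw [h2]; trivial
          rcases this with h | h
          · exact absurd h hw
          · exact h
        · intro hw hw'
          exact (Set.disjoint_left.mp hdisj hw') hw
      have hcard : Fintype.card α = 2 ^ a + 2 ^ b := by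
        rw [← ha, ← hb, ← Set.ncard_union_eq hdisj, h2, Set.ncard_univ, hNc]
      by_cases hab : a = b
      · -- two orbits of equal size
        subst hab
        have hcard' : Fintype.card α = 2 ^ (a + 1) := by
          rw [hcard, pow_succ]; ring
        have ha3 : 3 ≤ a + 1 := pow_two_ge_five (hcard' ▸ h5)
        obtain ⟨z, hz, hRz⟩ := exists_fpfInv_commute R hR (2 ^ a) (by
          rw [hcard]; ring)
        have h4 : 4 ≤ (orbit R x₀).ncard := by
          rw [ha]
          calc 4 = 2 ^ 2 := by norm_num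
            _ ≤ 2 ^ a := Nat.pow_le_pow_right (by norm_num) (by omega)
        exact twoOver_of_bisection T hT (orbit R x₀) (by rw [hcompl, ha, hb]) h4 z hz R hRT
          (le_trans (le_stabilizer_orbit R x₀) (stabilizer_le_bisStab _)) hRz
      · -- two orbits of different sizes
        have ha0 : a ≠ 0 := by
          rintro rfl
          apply hn
          refine ⟨b, ?_, by rw [hcard]; ring⟩
          by_contra hb2
          push Not at hb2
          interval_cases b <;> omega
        have hb0 : b ≠ 0 := by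
          rintro rfl
          apply hn
          refine ⟨a, ?_, by rw [hcard, pow_zero]⟩
          by_contra ha2
          push Not at ha2
          interval_cases a <;> omega
        obtain ⟨z, hz, hRz⟩ := exists_fpfInv_commute R hR (2 ^ (a - 1) + 2 ^ (b - 1)) (by
          rw [hcard, mul_add, ← pow_succ', ← pow_succ']
          congr 2 <;> omega)
        have hne : Nat.card α ≠ 2 * (orbit R x₀).ncard := by
          rw [hNc, hcard, ha]
          intro h
          have : 2 ^ b = 2 ^ a := by omega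
          exact hab (Nat.pow_right_injective (le_refl 2) this).symm
        exact twoOver_of_set_of_inv T hT (by omega) (orbit R x₀) ⟨x₀, hx₀⟩
          ⟨y, hy⟩ hne z hz R hRT (le_stabilizer_orbit R x₀) hRz
    · -- at least three orbits
      obtain ⟨w, hw⟩ : ∃ w, w ∉ orbit R x₀ ∪ orbit R y := by
        by_contra h
        push Not at h
        exact h2 (Set.eq_univ_of_forall h)
      have hw1 : w ∉ orbit R x₀ := fun h => hw (Or.inl h)
      have hw2 : w ∉ orbit R y := fun h => hw (Or.inr h)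
      have hww : w ∈ orbit R w := mem_orbit_self w
      have hdisj13 : Disjoint (orbit R x₀) (orbit R w) := by
        rcases orbit.eq_or_disjoint (G := R) x₀ w with h | h
        · exact absurd (h ▸ hww) hw1
        · exact h
      have hdisj23 : Disjoint (orbit R y) (orbit R w) := by
        rcases orbit.eq_or_disjoint (G := R) y w with h | h
        · exact absurd (h ▸ hww) hw2
        · exact h
      have hx₀2 : x₀ ∉ orbit R y := fun h => (Set.disjoint_left.mp hdisj hx₀) h
      have hx₀3 : x₀ ∉ orbit R w := fun h => (Set.disjoint_left.mp hdisj13 hx₀) h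
      have hy3 : y ∉ orbit R w := fun h => (Set.disjoint_left.mp hdisj23 hyy) h
      have hsum : (orbit R x₀).ncard + (orbit R y).ncard + (orbit R w).ncard ≤ Nat.card α := by
        rw [← Set.ncard_union_eq hdisj, ← Set.ncard_union_eq]
        · exact Set.ncard_le_card _
        · rw [Set.disjoint_union_left]
          exact ⟨hdisj13, hdisj23⟩
      have hp1 : 0 < (orbit R x₀).ncard := (Set.ncard_pos (Set.toFinite _)).mpr ⟨x₀, hx₀⟩
      have hp2 : 0 < (orbit R y).ncard := (Set.ncard_pos (Set.toFinite _)).mpr ⟨y, hyy⟩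
      have hp3 : 0 < (orbit R w).ncard := (Set.ncard_pos (Set.toFinite _)).mpr ⟨w, hww⟩
      by_cases hc1 : Nat.card α = 2 * (orbit R x₀).ncard
      · exact twoOver_of_three T hT h5 (orbit R y) (orbit R w) hdisj23 ⟨y, hyy⟩ ⟨w, hww⟩ x₀
          hx₀2 hx₀3 (by omega) (by omega) R hRT (le_stabilizer_orbit R y)
          (le_stabilizer_orbit R w)
      · by_cases hc2 : Nat.card α = 2 * (orbit R y).ncard
        · exact twoOver_of_three T hT h5 (orbit R x₀) (orbit R w) hdisj13 ⟨x₀, hx₀⟩ ⟨w, hww⟩ y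
            hy hy3 hc1 (by omega) R hRT (le_stabilizer_orbit R x₀) (le_stabilizer_orbit R w)
        · exact twoOver_of_three T hT h5 (orbit R x₀) (orbit R y) hdisj ⟨x₀, hx₀⟩ ⟨y, hyy⟩ w
            hw1 hw2 hc1 hc2 R hRT (le_stabilizer_orbit R x₀) (le_stabilizer_orbit R y)

end Cfsg.Agent.Helper28.SylTwoMax
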