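import Mathlib
import Cfsg.Agent.Lib.Helper28.SylTwoMaxA

set_option autoImplicit false

/-!
Structure of a Sylow 2-subgroup of the symmetric group of degree `2^k+1`, and the subgroups
containing it (or its even part).
-/

namespace Cfsg.Agent.Helper28.SylTwoMax

open Equiv Equiv.Perm MulAction
open scoped Pointwise

variable {α : Type*} [Fintype α] [DecidableEq α]

/-- a `p`-subgroup can be conjugated into a given Sylow `p`-subgroup -/
theorem exists_conj_mem_sylow {G : Type*} [Group G] [Finite G] {p : ℕ} [Fact p.Prime]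
    (S : Sylow p G) (P : Subgroup G) (hP : IsPGroup p P) :
    ∃ g : G, ∀ x ∈ P, g * x * g⁻¹ ∈ (S : Subgroup G) := by
  obtain ⟨Q, hPQ⟩ := hP.exists_le_sylow
  obtain ⟨g, hg⟩ := MulAction.exists_smul_eq G Q S
  refine ⟨g, fun x hx => ?_⟩
  have h1 : x ∈ (Q : Subgroup G) := hPQ hx
  have h2 : MulAut.conj g • x ∈ MulAut.conj g • (Q : Subgroup G) :=
    Subgroup.smul_mem_pointwise_smul x (MulAut.conj g) Q h1
  rw [← Sylow.coe_subgroup_smul, hg] at h2
  simpa [MulAut.smul_def] using h2

/-- the cyclic group generated by an element of order `2^k` is a 2-group -/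
theorem isPGroup_zpowers_of_orderOf {G : Type*} [Group G] (c : G) (k : ℕ)
    (h : orderOf c = 2 ^ k) : IsPGroup 2 (Subgroup.zpowers c) := by
  apply IsPGroup.of_card (n := k)
  rw [Nat.card_zpowers, h]

theorem swap_commute_swap {a b c d : α} (hac : a ≠ c) (had : a ≠ d) (hbc : b ≠ c)
    (hbd : b ≠ d) : Commute (swap a b) (swap c d) := by
  have h := swap_apply_apply (swap a b) c d
  rw [swap_apply_of_ne_of_ne hac.symm hbc.symm, swap_apply_of_ne_of_ne had.symm hbd.symm] at h
  have h2 : swap c d * swap a b = swap a b * swap c d := by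
    conv_lhs => rw [h]
    simp [mul_assoc]
  exact h2.symm

/-- the structure of a Sylow 2-subgroup in degree `2^k + 1` that we use -/
structure SylData (R : Subgroup (Perm α)) (inf : α) : Prop where
  fix : ∀ r ∈ R, r inf = inf
  trans : ∀ x y, x ≠ inf → y ≠ inf → ∃ r ∈ R, r ∈ alternatingGroup α ∧ r x = y
  part : ∀ x, x ≠ inf → ∃ x', x' ≠ x ∧ x' ≠ inf ∧ swap x x' ∈ R
  uniq : ∀ x u v, u ≠ x → v ≠ x → swap x u ∈ R → swap x v ∈ R → u = v

/-- E1: the structure of a Sylow 2-subgroup in degree `2^k + 1`. -/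
theorem exists_sylData (k : ℕ) (hk : 2 ≤ k) (hcard : Fintype.card α = 2 ^ k + 1)
    (R : Sylow 2 (Perm α)) : ∃ inf : α, SylData (R : Subgroup (Perm α)) inf := by
  have hfact : Fact (Nat.Prime 2) := ⟨Nat.prime_two⟩
  have hRp : IsPGroup 2 (R : Subgroup (Perm α)) := R.isPGroup'
  have h4 : 4 ≤ 2 ^ k := by
    calc 4 = 2 ^ 2 := by norm_num
      _ ≤ 2 ^ k := Nat.pow_le_pow_right (by norm_num) hk
  -- a cycle of length 2^k
  obtain ⟨c₀, hc₀⟩ : ∃ g : Perm α, g.cycleType = {2 ^ k} := by
    rw [Equiv.Perm.exists_with_cycleType_iff]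
    refine ⟨by simp [hcard], ?_⟩
    intro a ha
    rw [Multiset.mem_singleton] at ha
    omega
  have hord₀ : orderOf c₀ = 2 ^ k := by
    rw [← lcm_cycleType, hc₀, Multiset.lcm_singleton, normalize_eq]
  obtain ⟨g, hg⟩ := exists_conj_mem_sylow R (Subgroup.zpowers c₀)
    (isPGroup_zpowers_of_orderOf c₀ k hord₀)
  set c : Perm α := g * c₀ * g⁻¹ with hc
  have hcR : c ∈ (R : Subgroup (Perm α)) := hg c₀ (Subgroup.mem_zpowers c₀)
  have hcty : c.cycleType = {2 ^ k} := by rw [hc, cycleType_conj, hc₀]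
  have hcyc : c.IsCycle := by
    rw [← card_cycleType_eq_one, hcty]; rfl
  have hsupp : c.support.card = 2 ^ k := by
    rw [← sum_cycleType, hcty, Multiset.sum_singleton]
  -- the unique fixed point
  have hcompl : (c.supportᶜ).card = 1 := by
    rw [Finset.card_compl, hsupp, hcard]; omega
  obtain ⟨inf, hinf⟩ := Finset.card_eq_one.mp hcompl
  have hmem : ∀ x, x ≠ inf ↔ c x ≠ x := by
    intro x
    rw [← Perm.mem_support, ← not_iff_not, not_not, ← Finset.mem_compl, hinf,
      Finset.mem_singleton]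
  have hcinf : c inf = inf := by
    by_contra h
    exact ((hmem inf).mpr h) rfl
  -- R fixes a point, which must be `inf`
  have hRfix : ∀ r ∈ (R : Subgroup (Perm α)), r inf = inf := by
    have hnd : ¬ 2 ∣ Nat.card α := by
      rw [Nat.card_eq_fintype_card, hcard]
      have : 2 ∣ 2 ^ k := dvd_pow_self 2 (by omega)
      omega
    obtain ⟨p, hp⟩ := hRp.nonempty_fixed_point_of_prime_not_dvd_card α hnd
    have hpc : c p = p := hp ⟨c, hcR⟩
    have : p = inf := by
      by_contra h
      exact ((hmem p).mp h) hpc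
    subst this
    intro r hr
    exact hp ⟨r, hr⟩
  -- transitivity of R on the other points
  have hRtr : ∀ x y, x ≠ inf → y ≠ inf → ∃ r ∈ (R : Subgroup (Perm α)), r x = y := by
    intro x y hx hy
    obtain ⟨i, hi⟩ := hcyc.exists_zpow_eq ((hmem x).mp hx) ((hmem y).mp hy)
    exact ⟨c ^ i, Subgroup.zpow_mem _ hcR i, hi⟩
  -- a swap in R
  have hne : Nonempty α := by
    rw [← Fintype.card_pos_iff]; omega
  obtain ⟨a₀⟩ := hne
  obtain ⟨b₀, hb₀, -⟩ := exists_ne2 (by omega) a₀ a₀
  obtain ⟨g', hg'⟩ := exists_conj_mem_sylow R (Subgroup.zpowers (swap a₀ b₀))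
    (isPGroup_zpowers_of_orderOf (swap a₀ b₀) 1
      (by rw [pow_one]; exact IsSwap.orderOf ⟨a₀, b₀, hb₀.symm, rfl⟩))
  have hsR : swap (g' a₀) (g' b₀) ∈ (R : Subgroup (Perm α)) := by
    rw [swap_apply_apply]
    exact hg' _ (Subgroup.mem_zpowers _)
  set a := g' a₀ with ha
  set b := g' b₀ with hb
  have hab : a ≠ b := fun h => hb₀ (g'.injective h).symm
  have hainf : a ≠ inf := by
    intro h
    have := hRfix _ hsR
    rw [← h, swap_apply_left] at this
    exact hab this.symm
  have hbinf : b ≠ inf := by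
    intro h
    have := hRfix _ hsR
    rw [← h, swap_apply_right] at this
    exact hab this
  -- even transitivity
  have hsign : sign (swap a b) = -1 := sign_swap hab
  have htr1 : ∀ x y, x ≠ inf → y ≠ inf → x ≠ a → x ≠ b →
      ∃ r ∈ (R : Subgroup (Perm α)), r ∈ alternatingGroup α ∧ r x = y := by
    intro x y hx hy hxa hxb
    obtain ⟨r, hr, hrx⟩ := hRtr x y hx hy
    rcases Int.units_eq_one_or (sign r) with h | h
    · exact ⟨r, hr, h, hrx⟩
    · refine ⟨r * swap a b, Subgroup.mul_mem _ hr hsR, ?_, ?_⟩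
      · rw [mem_alternatingGroup, map_mul, h, hsign]; rfl
      · rw [Perm.mul_apply, swap_apply_of_ne_of_ne hxa hxb, hrx]
  have htr2 : ∀ x y, x ≠ inf → y ≠ inf → y ≠ a → y ≠ b →
      ∃ r ∈ (R : Subgroup (Perm α)), r ∈ alternatingGroup α ∧ r x = y := by
    intro x y hx hy hya hyb
    obtain ⟨r, hr, hrx⟩ := hRtr x y hx hy
    rcases Int.units_eq_one_or (sign r) with h | h
    · exact ⟨r, hr, h, hrx⟩
    · refine ⟨swap a b * r, Subgroup.mul_mem _ hsR hr, ?_, ?_⟩
      · rw [mem_alternatingGroup, map_mul, h, hsign]; rfl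
      · rw [Perm.mul_apply, hrx, swap_apply_of_ne_of_ne hya hyb]
  obtain ⟨w, hwinf, hwa, hwb⟩ : ∃ w : α, w ≠ inf ∧ w ≠ a ∧ w ≠ b := by
    classical
    have h3 : ({inf, a, b} : Finset α).card < (Finset.univ : Finset α).card := by
      rw [Finset.card_univ]
      exact lt_of_le_of_lt Finset.card_le_three (by omega)
    obtain ⟨w, -, hw⟩ := Finset.exists_mem_notMem_of_card_lt_card h3
    simp only [Finset.mem_insert, Finset.mem_singleton, not_or] at hw
    exact ⟨w, hw⟩
  refine ⟨inf, hRfix, ?_, ?_, ?_⟩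
  · intro x y hx hy
    obtain ⟨r₁, hr₁, hr₁A, hr₁x⟩ := htr2 x w hx hwinf hwa hwb
    obtain ⟨r₂, hr₂, hr₂A, hr₂x⟩ := htr1 w y hwinf hy hwa hwb
    refine ⟨r₂ * r₁, Subgroup.mul_mem _ hr₂ hr₁, Subgroup.mul_mem _ hr₂A hr₁A, ?_⟩
    rw [Perm.mul_apply, hr₁x, hr₂x]
  · intro x hx
    obtain ⟨r, hr, hrx⟩ := hRtr a x hainf hx
    refine ⟨r b, ?_, ?_, ?_⟩
    · rw [← hrx]
      exact fun h => hab (r.injective h).symm
    · intro h
      rw [← hRfix r hr] at h
      exact hbinf (r.injective h)
    · rw [← hrx, swap_apply_apply]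
      exact Subgroup.mul_mem _ (Subgroup.mul_mem _ hr hsR) (Subgroup.inv_mem _ hr)
  · intro x u v hux hvx hu hv
    by_contra huv
    have h3 : IsThreeCycle (swap x u * swap x v) :=
      isThreeCycle_swap_mul_swap_same hux.symm hvx.symm huv
    have hmem3 : swap x u * swap x v ∈ (R : Subgroup (Perm α)) := Subgroup.mul_mem _ hu hv
    obtain ⟨j, hj⟩ := (IsPGroup.iff_orderOf.mp hRp) ⟨_, hmem3⟩
    rw [Subgroup.orderOf_mk, h3.orderOf] at hj
    have h2 : 2 ∣ 3 := by
      rw [hj]
      rcases Nat.eq_zero_or_pos j with rfl | hjpos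
      · simp at hj
      · exact dvd_pow_self 2 (by omega)
    omega

/-- E2: a subgroup containing the even part of `R` and moving `inf` is primitive. -/
theorem isPreprimitive_of_sylData {R : Subgroup (Perm α)} {inf : α} (hD : SylData R inf)
    (K : Subgroup (Perm α)) (hK : R ⊓ alternatingGroup α ≤ K) (g₀ : Perm α) (hg₀ : g₀ ∈ K)
    (hg₀inf : g₀ inf ≠ inf) : IsPreprimitive K α := by
  have htrans : IsPretransitive K α := by
    rw [isPretransitive_iff_base inf]
    intro x
    by_cases hx : x = inf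
    · exact ⟨1, by rw [hx, one_smul]⟩
    · obtain ⟨r, hr, hrA, hrx⟩ := hD.trans (g₀ inf) x hg₀inf hx
      exact ⟨⟨r * g₀, K.mul_mem (hK ⟨hr, hrA⟩) hg₀⟩, hrx⟩
  apply IsPreprimitive.of_isTrivialBlock_base inf
  intro B hinfB hB
  unfold IsTrivialBlock
  rw [or_iff_not_imp_left]
  intro hns
  obtain ⟨x, hxB, hx⟩ : ∃ x ∈ B, x ≠ inf := by
    by_contra h
    push Not at h
    apply hns
    intro p hp q hq
    rw [h p hp, h q hq]
  apply Set.eq_univ_of_forall
  intro y
  by_cases hy : y = inf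
  · rw [hy]; exact hinfB
  · obtain ⟨r, hr, hrA, hrx⟩ := hD.trans x y hx hy
    have hrK : r ∈ K := hK ⟨hr, hrA⟩
    have h1 : (⟨r, hrK⟩ : K) • B = B := by
      apply isBlock_iff_smul_eq_of_mem.mp hB hinfB
      change r inf ∈ B
      rw [hD.fix r hr]
      exact hinfB
    rw [← h1, ← hrx]
    exact ⟨x, hxB, rfl⟩

/-- E3: a subgroup of the symmetric group containing `R` and moving `inf` is everything. -/
theorem eq_top_of_sylData {R : Subgroup (Perm α)} {inf : α} (hD : SylData R inf)
    (h3 : 3 ≤ Fintype.card α)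
    (K : Subgroup (Perm α)) (hK : R ≤ K) (g₀ : Perm α) (hg₀ : g₀ ∈ K)
    (hg₀inf : g₀ inf ≠ inf) : K = ⊤ := by
  have hprim := isPreprimitive_of_sylData hD K (le_trans inf_le_left hK) g₀ hg₀ hg₀inf
  obtain ⟨x, hx, -⟩ := exists_ne2 h3 inf inf
  obtain ⟨x', hx'x, -, hs⟩ := hD.part x hx
  exact subgroup_eq_top_of_isPreprimitive_of_isSwap_mem hprim (swap x x')
    ⟨x, x', hx'x.symm, rfl⟩ (hK hs)

/-- an algebraic identity used to produce a 3-cycle -/
theorem sq_mul_eq {G : Type*} [Group G] (A B C D : G) (hB : B * B = 1) (hD : D * D = 1)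
    (hBA : Commute B A) (hBC : Commute B C) (hBD : Commute B D) (hDA : Commute D A)
    (hDC : Commute D C) : (A * B * (C * D)) ^ 2 = (A * C) ^ 2 := by
  have h1 : A * B * (C * D) = (A * C) * (B * D) := by
    rw [mul_assoc A B, ← mul_assoc B C, hBC.eq, mul_assoc C B, ← mul_assoc A]
  have h2 : Commute (A * C) (B * D) :=
    Commute.mul_left (Commute.mul_right hBA.symm hDA.symm)
      (Commute.mul_right hBC.symm hDC.symm)
  rw [h1, h2.mul_pow]
  have h3 : (B * D) ^ 2 = 1 := by
    rw [hBD.mul_pow, pow_two, pow_two, hB, hD, one_mul]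
  rw [h3, mul_one]

/-- E4: for degree at least 9, a subgroup containing the even part of `R` and moving `inf`
contains the alternating group. -/
theorem alt_le_of_sylData {R : Subgroup (Perm α)} {inf : α} (hD : SylData R inf)
    (h9 : 9 ≤ Fintype.card α)
    (K : Subgroup (Perm α)) (hK : R ⊓ alternatingGroup α ≤ K) (g₀ : Perm α) (hg₀ : g₀ ∈ K)
    (hg₀inf : g₀ inf ≠ inf) : alternatingGroup α ≤ K := by
  classical
  have hprim := isPreprimitive_of_sylData hD K hK g₀ hg₀ hg₀inf
  have htrans : IsPretransitive K α := hprim.toIsPretransitive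
  -- a basic double transposition
  obtain ⟨a, ha, -⟩ := exists_ne2 (by omega) inf inf
  obtain ⟨b, hba, hbinf, hab⟩ := hD.part a ha
  obtain ⟨c, hcinf, hca, hcb⟩ : ∃ c : α, c ≠ inf ∧ c ≠ a ∧ c ≠ b := by
    have h3 : ({inf, a, b} : Finset α).card < (Finset.univ : Finset α).card := by
      rw [Finset.card_univ]
      exact lt_of_le_of_lt Finset.card_le_three (by omega)
    obtain ⟨w, -, hw⟩ := Finset.exists_mem_notMem_of_card_lt_card h3
    simp only [Finset.mem_insert, Finset.mem_singleton, not_or] at hw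
    exact ⟨w, hw⟩
  obtain ⟨d, hdc, hdinf, hcd⟩ := hD.part c hcinf
  have hda : d ≠ a := by
    intro h
    rw [h, swap_comm] at hcd
    exact hcb (hD.uniq a c b hca hba hcd hab)
  have hdb : d ≠ b := by
    intro h
    rw [h, swap_comm] at hcd
    rw [swap_comm] at hab
    exact hca (hD.uniq b c a hcb hba.symm hcd hab)
  have htK : swap a b * swap c d ∈ K := by
    have hA : swap a b * swap c d ∈ alternatingGroup α := by
      rw [mem_alternatingGroup, map_mul, sign_swap hba.symm, sign_swap hdc.symm]; rfl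
    exact hK (Subgroup.mem_inf.mpr ⟨Subgroup.mul_mem _ hab hcd, hA⟩)
  -- move `a` to `inf`
  obtain ⟨⟨h, hhK⟩, hha⟩ := htrans.exists_smul_eq a inf
  change h a = inf at hha
  set p := h b with hp
  set q := h c with hq
  set r := h d with hr
  have hpinf : p ≠ inf := by rw [← hha]; exact fun e => hba (h.injective e)
  have hqinf : q ≠ inf := by rw [← hha]; exact fun e => hca (h.injective e)
  have hrinf : r ≠ inf := by rw [← hha]; exact fun e => hda (h.injective e)
  have hpq : p ≠ q := fun e => hcb (h.injective e).symm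
  have hpr : p ≠ r := fun e => hdb (h.injective e).symm
  have hqr : q ≠ r := fun e => hdc (h.injective e).symm
  have ht'K : swap inf p * swap q r ∈ K := by
    have e1 : swap (h a) (h b) * swap (h c) (h d) = h * (swap a b * swap c d) * h⁻¹ := by
      rw [swap_apply_apply, swap_apply_apply]; group
    rw [← hha, hp, hq, hr, e1]
    exact K.mul_mem (K.mul_mem hhK htK) (K.inv_mem hhK)
  obtain ⟨p', hp'p, hp'inf, hpp'⟩ := hD.part p hpinf
  obtain ⟨q', hq'q, hq'inf, hqq'⟩ := hD.part q hqinf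
  obtain ⟨r', hr'r, hr'inf, hrr'⟩ := hD.part r hrinf
  -- choose `x` among `p, q, r` whose partner lies outside, together with the decomposition
  -- of `t'` as `swap x y * swap d₁ d₂`
  have hcomm : Commute (swap inf p) (swap q r) :=
    swap_commute_swap hqinf.symm hrinf.symm hpq hpr
  have hchoice : ∃ x x' y d₁ d₂ : α, swap x x' ∈ R ∧ x' ≠ x ∧ x' ≠ inf ∧ x' ≠ p ∧ x' ≠ q ∧
      x' ≠ r ∧ (x' = p' ∨ x' = q' ∨ x' = r') ∧ (x = p ∨ x = q ∨ x = r) ∧
      swap x y * swap d₁ d₂ ∈ K ∧ x ≠ y ∧ d₁ ≠ x ∧ d₂ ≠ x ∧ d₁ ≠ y ∧ d₂ ≠ y ∧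
      (∀ e, e ≠ inf → e ≠ p → e ≠ q → e ≠ r → e ≠ y ∧ e ≠ d₁ ∧ e ≠ d₂) := by
    by_cases h1 : p' ≠ q ∧ p' ≠ r
    · refine ⟨p, p', inf, q, r, hpp', hp'p, hp'inf, hp'p, h1.1, h1.2, Or.inl rfl, Or.inl rfl, ?_,
        hpinf, hpq.symm, hpr.symm, hqinf, hrinf, ?_⟩
      · rw [swap_comm p inf]; exact ht'K
      · intro e he1 he2 he3 he4; exact ⟨he1, he3, he4⟩
    · by_cases h2 : p' = q
      · -- x = r
        have hr'p : r' ≠ p := by
          intro e
          rw [e, swap_comm] at hrr'
          rw [h2] at hpp'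
          exact hqr (hD.uniq p q r hpq.symm hpr.symm hpp' hrr')
        have hr'q : r' ≠ q := by
          intro e
          rw [e, swap_comm] at hrr'
          rw [h2, swap_comm] at hpp'
          exact hpr (hD.uniq q p r hpq hqr.symm hpp' hrr')
        refine ⟨r, r', q, inf, p, hrr', hr'r, hr'inf, hr'p, hr'q, hr'r, Or.inr (Or.inr rfl),
          Or.inr (Or.inr rfl), ?_, hqr.symm, hrinf.symm, hpr, hqinf.symm, hpq, ?_⟩
        · rw [swap_comm r q, ← hcomm.eq]; exact ht'K
        · intro e he1 he2 he3 he4; exact ⟨he3, he1, he2⟩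
      · -- x = q
        have h3 : p' = r := by
          by_contra h3
          exact h1 ⟨h2, h3⟩
        have hq'p : q' ≠ p := by
          intro e
          rw [e, swap_comm] at hqq'
          rw [h3] at hpp'
          exact hqr.symm (hD.uniq p r q hpr.symm hpq.symm hpp' hqq')
        have hq'r : q' ≠ r := by
          intro e
          rw [e, swap_comm] at hqq'
          rw [h3, swap_comm] at hpp'
          exact hpq (hD.uniq r p q hpr hqr hpp' hqq')
        refine ⟨q, q', r, inf, p, hqq', hq'q, hq'inf, hq'p, hq'q, hq'r, Or.inr (Or.inl rfl),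
          Or.inr (Or.inl rfl), ?_, hqr, hqinf.symm, hpq, hrinf.symm, hpr, ?_⟩
        · rw [← hcomm.eq]; exact ht'K
        · intro e he1 he2 he3 he4; exact ⟨he4, he1, he2⟩
  obtain ⟨x, x', y, d₁, d₂, hxx', hx'x, hx'inf, hx'p, hx'q, hx'r, hx'mem, hxmem, ht', hxy,
    hd₁x, hd₂x, hd₁y, hd₂y, hout⟩ := hchoice
  obtain ⟨hx'y, hx'd₁, hx'd₂⟩ := hout x' hx'inf hx'p hx'q hx'r
  -- another pair, far away
  obtain ⟨e₁, he₁⟩ : ∃ e : α, e ∉ ([inf, p, q, r, p', q', r'] : List α).toFinset := by
    have h3 : ([inf, p, q, r, p', q', r'] : List α).toFinset.card <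
        (Finset.univ : Finset α).card := by
      rw [Finset.card_univ]
      refine lt_of_le_of_lt (List.toFinset_card_le _) ?_
      simp only [List.length_cons, List.length_nil]
      omega
    obtain ⟨w, -, hw⟩ := Finset.exists_mem_notMem_of_card_lt_card h3
    exact ⟨w, hw⟩
  simp only [List.toFinset_cons, List.toFinset_nil, insert_empty_eq, Finset.mem_insert,
    Finset.mem_singleton, not_or] at he₁
  obtain ⟨he₁inf, he₁p, he₁q, he₁r, he₁p', he₁q', he₁r'⟩ := he₁
  obtain ⟨e₂, he₂e₁, he₂inf, hee⟩ := hD.part e₁ he₁inf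
  have he₂p : e₂ ≠ p := by
    intro e
    rw [e, swap_comm] at hee
    exact he₁p' (hD.uniq p e₁ p' he₁p hp'p hee hpp')
  have he₂q : e₂ ≠ q := by
    intro e
    rw [e, swap_comm] at hee
    exact he₁q' (hD.uniq q e₁ q' he₁q hq'q hee hqq')
  have he₂r : e₂ ≠ r := by
    intro e
    rw [e, swap_comm] at hee
    exact he₁r' (hD.uniq r e₁ r' he₁r hr'r hee hrr')
  have he₁x' : e₁ ≠ x' := by
    rcases hx'mem with e | e | e <;> rw [e] <;> assumption
  have he₁x : e₁ ≠ x := by
    rcases hxmem with e | e | e <;> rw [e] <;> assumption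
  have he₂x : e₂ ≠ x := by
    rcases hxmem with e | e | e <;> rw [e] <;> assumption
  have he₂x' : e₂ ≠ x' := by
    intro e
    rw [e, swap_comm] at hee
    rw [swap_comm] at hxx'
    exact he₁x (hD.uniq x' e₁ x he₁x' hx'x.symm hee hxx')
  obtain ⟨he₁y, he₁d₁, he₁d₂⟩ := hout e₁ he₁inf he₁p he₁q he₁r
  obtain ⟨he₂y, he₂d₁, he₂d₂⟩ := hout e₂ he₂inf he₂p he₂q he₂r
  have huK : swap x x' * swap e₁ e₂ ∈ K := by
    have hA : swap x x' * swap e₁ e₂ ∈ alternatingGroup α := by
      rw [mem_alternatingGroup, map_mul, sign_swap hx'x.symm, sign_swap he₂e₁.symm]; rfl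
    exact hK (Subgroup.mem_inf.mpr ⟨Subgroup.mul_mem _ hxx' hee, hA⟩)
  have h3K : (swap x x' * swap e₁ e₂ * (swap x y * swap d₁ d₂)) ^ 2 ∈ K :=
    K.pow_mem (K.mul_mem huK ht') 2
  rw [sq_mul_eq (swap x x') (swap e₁ e₂) (swap x y) (swap d₁ d₂) (swap_mul_self _ _)
    (swap_mul_self _ _)
    (swap_commute_swap he₁x he₁x' he₂x he₂x')
    (swap_commute_swap he₁x he₁y he₂x he₂y)
    (swap_commute_swap he₁d₁ he₁d₂ he₂d₁ he₂d₂)
    (swap_commute_swap hd₁x hx'd₁.symm hd₂x hx'd₂.symm)
    (swap_commute_swap hd₁x hd₁y hd₂x hd₂y)] at h3K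
  have h3c : IsThreeCycle ((swap x x' * swap x y) ^ 2) :=
    (isThreeCycle_swap_mul_swap_same hx'x.symm hxy hx'y).isThreeCycle_sq
  exact alternatingGroup_le_of_isPreprimitive_of_isThreeCycle_mem hprim h3c h3K

end Cfsg.Agent.Helper28.SylTwoMax

namespace Cfsg.Agent.Helper28.SylTwoMax

open Equiv Equiv.Perm MulAction
open scoped Pointwise Nat

variable {α : Type*} [Fintype α] [DecidableEq α]

/-- a proper subgroup of a finite simple group has index `m` with `|G|` dividing `m!` -/
theorem card_dvd_factorial_index_of_simple {G : Type*} [Group G] [Finite G] [IsSimpleGroup G]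
    (H : Subgroup G) (hH : H ≠ ⊤) : Nat.card G ∣ (H.index)! := by
  have hker : (MulAction.toPermHom G (G ⧸ H)).ker = ⊥ := by
    have hn : (MulAction.toPermHom G (G ⧸ H)).ker.Normal := inferInstance
    rcases hn.eq_bot_or_eq_top with h | h
    · exact h
    · exfalso
      apply hH
      rw [eq_top_iff, ← h, ← Subgroup.normalCore_eq_ker]
      exact H.normalCore_le
  have hinj : Function.Injective (MulAction.toPermHom G (G ⧸ H)) :=
    (MonoidHom.ker_eq_bot_iff _).mp hker
  have := Subgroup.card_dvd_of_injective _ hinj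
  rwa [Nat.card_perm, ← Subgroup.index_eq_card] at this

/-- E5: in degree 5, a subgroup of the alternating group containing the even part of `R`
and moving `inf` is the alternating group. -/
theorem alt_le_of_sylData_five {R : Subgroup (Perm α)} {inf : α} (hD : SylData R inf)
    (h5 : Fintype.card α = 5)
    (K : Subgroup (Perm α)) (hKA : K ≤ alternatingGroup α)
    (hK : R ⊓ alternatingGroup α ≤ K) (g₀ : Perm α) (hg₀ : g₀ ∈ K)
    (hg₀inf : g₀ inf ≠ inf) : alternatingGroup α ≤ K := by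
  classical
  have hNc : Nat.card α = 5 := by rw [Nat.card_eq_fintype_card, h5]
  have hprim := isPreprimitive_of_sylData hD K hK g₀ hg₀ hg₀inf
  have htrans : IsPretransitive K α := hprim.toIsPretransitive
  -- 5 divides |K|
  have h5K : 5 ∣ Nat.card K := by
    have h1 := MulAction.index_stabilizer_of_transitive K inf
    rw [hNc] at h1
    rw [← h1]
    exact Subgroup.index_dvd_card _
  -- 4 divides |R ⊓ A|
  obtain ⟨x, hx, -⟩ := exists_ne2 (by omega) inf inf
  have horb : orbit (R ⊓ alternatingGroup α : Subgroup (Perm α)) x = ({inf} : Set α)ᶜ := by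
    ext y
    simp only [Set.mem_compl_iff, Set.mem_singleton_iff]
    constructor
    · rintro ⟨⟨r, hr⟩, rfl⟩ h
      have hr' : r ∈ R := (Subgroup.mem_inf.mp hr).1
      change r x = inf at h
      rw [← hD.fix r hr'] at h
      exact hx (r.injective h)
    · intro hy
      obtain ⟨r, hr, hrA, hrx⟩ := hD.trans x y hx hy
      exact ⟨⟨r, Subgroup.mem_inf.mpr ⟨hr, hrA⟩⟩, hrx⟩
  have h4P : 4 ∣ Nat.card (R ⊓ alternatingGroup α : Subgroup (Perm α)) := by
    have h1 := MulAction.index_stabilizer (R ⊓ alternatingGroup α : Subgroup (Perm α)) x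
    rw [horb, Set.ncard_compl, hNc, Set.ncard_singleton] at h1
    have h2 := Subgroup.index_dvd_card
      (stabilizer (R ⊓ alternatingGroup α : Subgroup (Perm α)) x)
    rw [h1] at h2
    exact h2
  have h4K : 4 ∣ Nat.card K := dvd_trans h4P (Subgroup.card_dvd_of_le hK)
  have h20 : 20 ∣ Nat.card K := by
    have : Nat.Coprime 4 5 := by decide
    exact this.mul_dvd_of_dvd_of_dvd h4K h5K
  -- |A| = 60
  have hnt : Nontrivial α := by
    rw [← Fintype.one_lt_card_iff_nontrivial]; omega
  have hA60 : Nat.card (alternatingGroup α) = 60 := by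
    have h1 := two_mul_nat_card_alternatingGroup (α := α)
    rw [Nat.card_perm, hNc] at h1
    have : (5 : ℕ)! = 120 := by decide
    omega
  have hKdvd : Nat.card K ∣ 60 := hA60 ▸ Subgroup.card_dvd_of_le hKA
  have hcases : Nat.card K = 20 ∨ Nat.card K = 60 := by
    obtain ⟨m, hm⟩ := h20
    obtain ⟨l, hl⟩ := hKdvd
    have hm3 : m ∣ 3 := by
      refine ⟨l, ?_⟩
      rw [hm] at hl
      have : 20 * 3 = 20 * (m * l) := by rw [← mul_assoc, ← hl]
      exact Nat.eq_of_mul_eq_mul_left (by norm_num) this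
    have hmle : m ≤ 3 := Nat.le_of_dvd (by norm_num) hm3
    interval_cases m
    · simp at hm3
    · left; omega
    · omega
    · right; omega
  rcases hcases with h | h
  · -- index 3 in a simple group of order 60
    exfalso
    have hsimple : IsSimpleGroup (alternatingGroup α) :=
      alternatingGroup.isSimpleGroup (by omega)
    have hcardK' : Nat.card (K.subgroupOf (alternatingGroup α)) = 20 := by
      rw [Nat.card_congr (Subgroup.subgroupOfEquivOfLe hKA).toEquiv, h]
    have hidx : (K.subgroupOf (alternatingGroup α)).index = 3 := by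
      have h1 := (K.subgroupOf (alternatingGroup α)).index_mul_card
      rw [hcardK', hA60] at h1
      omega
    have hne : K.subgroupOf (alternatingGroup α) ≠ ⊤ := by
      intro htop
      rw [htop, Subgroup.index_top] at hidx
      omega
    have := card_dvd_factorial_index_of_simple _ hne
    rw [hidx, hA60] at this
    have h6 : (3 : ℕ)! = 6 := by decide
    rw [h6] at this
    omega
  · have : K = alternatingGroup α := by
      apply Subgroup.eq_of_le_of_card_ge hKA
      rw [hA60, h]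
    rw [this]

end Cfsg.Agent.Helper28.SylTwoMax
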