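import Mathlib
import Cfsg.Agent.Lib.Helper28.SylTwoMaxA
import Cfsg.Agent.Lib.Helper28.SylTwoMaxB
import Cfsg.Agent.Lib.Helper28.SylTwoMaxC
import Cfsg.Agent.Lib.Helper28.SylTwoMaxD
import Cfsg.Agent.Lib.Helper28.SylTwoMaxE

set_option autoImplicit false

/-!
A Sylow 2-subgroup of the symmetric / alternating group of degree `n ≥ 5` lies in a unique
maximal subgroup iff `n = 2^k + 1`.
-/

namespace Cfsg.Agent.Helper28.SylTwoMax

open Equiv Equiv.Perm MulAction
open scoped Pointwise

variable {α : Type*} [Fintype α] [DecidableEq α]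

theorem not_existsUnique_coatom {G : Type*} [Group G] [Finite G] (R K₁ K₂ : Subgroup G)
    (h1 : R ≤ K₁) (h2 : R ≤ K₂) (hK₁ : K₁ ≠ ⊤) (hK₂ : K₂ ≠ ⊤) (hsup : K₁ ⊔ K₂ = ⊤) :
    ¬ ∃! M : Subgroup G, IsCoatom M ∧ R ≤ M := by
  rintro ⟨M, -, huniq⟩
  obtain ⟨M₁, hM₁, hKM₁⟩ := (eq_top_or_exists_le_coatom K₁).resolve_left hK₁
  obtain ⟨M₂, hM₂, hKM₂⟩ := (eq_top_or_exists_le_coatom K₂).resolve_left hK₂
  have e1 := huniq M₁ ⟨hM₁, le_trans h1 hKM₁⟩
  have e2 := huniq M₂ ⟨hM₂, le_trans h2 hKM₂⟩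
  subst e1
  subst e2
  apply hM₁.1
  rw [eq_top_iff, ← hsup]
  exact sup_le hKM₁ hKM₂

theorem existsUnique_coatom {G : Type*} [Group G] (R M₀ : Subgroup G) (hM₀ : IsCoatom M₀)
    (hR : R ≤ M₀) (h : ∀ M, IsCoatom M → R ≤ M → M ≤ M₀) :
    ∃! M : Subgroup G, IsCoatom M ∧ R ≤ M := by
  refine ⟨M₀, ⟨hM₀, hR⟩, ?_⟩
  rintro M ⟨hM, hRM⟩
  have hle := h M hM hRM
  by_contra hne
  exact hM₀.1 (hM.2 M₀ (lt_of_le_of_ne hle hne))

theorem mem_stabilizer_singleton_set {G : Type*} [Group G] [MulAction G α] (g : G) (a : α) :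
    g ∈ stabilizer G ({a} : Set α) ↔ g • a = a := by
  rw [mem_stabilizer_set' (Set.toFinite _)]
  simp

/-- the symmetric group case -/
theorem perm_case (h5 : 5 ≤ Fintype.card α) (R : Sylow 2 (Perm α)) :
    (∃! M : Subgroup (Perm α), IsCoatom M ∧ (R : Subgroup (Perm α)) ≤ M) ↔
      ∃ k : ℕ, 2 ≤ k ∧ Fintype.card α = 2 ^ k + 1 := by
  have hfact : Fact (Nat.Prime 2) := ⟨Nat.prime_two⟩
  constructor
  · intro huniq
    by_contra hn
    obtain ⟨K₁, K₂, h1, h2, -, -, hK₁, hK₂, hsup⟩ :=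
      twoOver_of_isPGroup ⊤ (Or.inl rfl) h5 hn (R : Subgroup (Perm α)) le_top R.isPGroup'
    exact not_existsUnique_coatom _ K₁ K₂ h1 h2 hK₁ hK₂ hsup huniq
  · rintro ⟨k, hk, hcard⟩
    obtain ⟨inf, hD⟩ := exists_sylData k hk hcard R
    have hco : IsCoatom (stabilizer (Perm α) ({inf} : Set α)) := by
      apply Equiv.Perm.isCoatom_stabilizer (s := {inf}) (Set.singleton_nonempty inf)
      · obtain ⟨x, hx, -⟩ := exists_ne2 (by omega) inf inf
        exact ⟨x, hx⟩
      · rw [Set.ncard_singleton, Nat.card_eq_fintype_card]; omega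
    apply existsUnique_coatom _ _ hco
    · intro r hr
      rw [mem_stabilizer_singleton_set]
      exact hD.fix r hr
    · intro M hM hRM
      by_contra hle
      obtain ⟨g₀, hg₀, hg₀'⟩ := SetLike.not_le_iff_exists.mp hle
      rw [mem_stabilizer_singleton_set] at hg₀'
      exact hM.1 (eq_top_of_sylData hD (by omega) M hRM g₀ hg₀ hg₀')

/-- the alternating group case -/
theorem alt_case (h5 : 5 ≤ Fintype.card α) (R : Sylow 2 (alternatingGroup α)) :
    (∃! M : Subgroup (alternatingGroup α),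
        IsCoatom M ∧ (R : Subgroup (alternatingGroup α)) ≤ M) ↔
      ∃ k : ℕ, 2 ≤ k ∧ Fintype.card α = 2 ^ k + 1 := by
  have hfact : Fact (Nat.Prime 2) := ⟨Nat.prime_two⟩
  set Rp : Subgroup (Perm α) :=
    (R : Subgroup (alternatingGroup α)).map (alternatingGroup α).subtype with hRp
  have hRpA : Rp ≤ (alternatingGroup α) := by
    rintro _ ⟨x, -, rfl⟩
    exact x.2
  have hRpP : IsPGroup 2 Rp := R.isPGroup'.map _
  have hmemRp : ∀ x : alternatingGroup α, x ∈ (R : Subgroup (alternatingGroup α)) →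
      (x : Perm α) ∈ Rp := fun x hx => ⟨x, hx, rfl⟩
  constructor
  · intro huniq
    by_contra hn
    obtain ⟨K₁, K₂, h1, h2, hK₁A, hK₂A, hK₁, hK₂, hsup⟩ :=
      twoOver_of_isPGroup (alternatingGroup α) (Or.inr rfl) h5 hn Rp hRpA hRpP
    apply not_existsUnique_coatom _ (K₁.subgroupOf (alternatingGroup α)) (K₂.subgroupOf (alternatingGroup α)) _ _ _ _ _ huniq
    · intro x hx
      rw [Subgroup.mem_subgroupOf]
      exact h1 (hmemRp x hx)
    · intro x hx
      rw [Subgroup.mem_subgroupOf]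
      exact h2 (hmemRp x hx)
    · intro h
      rw [Subgroup.subgroupOf_eq_top] at h
      exact hK₁ (le_antisymm hK₁A h)
    · intro h
      rw [Subgroup.subgroupOf_eq_top] at h
      exact hK₂ (le_antisymm hK₂A h)
    · rw [← Subgroup.subgroupOf_sup hK₁A hK₂A, hsup, Subgroup.subgroupOf_self]
  · rintro ⟨k, hk, hcard⟩
    obtain ⟨RS, hRS⟩ := hRpP.exists_le_sylow
    obtain ⟨inf, hD⟩ := exists_sylData k hk hcard RS
    -- the even part of `RS` is `Rp`
    have hmax : ∀ y : Perm α, y ∈ (RS : Subgroup (Perm α)) ⊓ (alternatingGroup α) → ∃ hy : y ∈ (alternatingGroup α),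
        (⟨y, hy⟩ : alternatingGroup α) ∈ (R : Subgroup (alternatingGroup α)) := by
      intro y hy
      have hQ : IsPGroup 2 (((RS : Subgroup (Perm α)) ⊓ (alternatingGroup α)).subgroupOf (alternatingGroup α)) := by
        apply IsPGroup.comap_of_injective _ _ (alternatingGroup α).subtype_injective
        exact RS.isPGroup'.to_le inf_le_left
      have hle : (R : Subgroup (alternatingGroup α)) ≤
          ((RS : Subgroup (Perm α)) ⊓ (alternatingGroup α)).subgroupOf (alternatingGroup α) := by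
        intro x hx
        rw [Subgroup.mem_subgroupOf]
        exact Subgroup.mem_inf.mpr ⟨hRS (hmemRp x hx), x.2⟩
      have heq := R.is_maximal' hQ hle
      refine ⟨(Subgroup.mem_inf.mp hy).2, ?_⟩
      rw [← heq, Subgroup.mem_subgroupOf]
      exact hy
    have hco : IsCoatom (stabilizer (alternatingGroup α) ({inf} : Set α)) := by
      apply alternatingGroup.isCoatom_stabilizer (s := {inf}) (Set.singleton_nonempty inf)
      · obtain ⟨x, hx, -⟩ := exists_ne2 (by omega) inf inf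
        exact ⟨x, hx⟩
      · rw [Set.ncard_singleton, Nat.card_eq_fintype_card]; omega
    apply existsUnique_coatom _ _ hco
    · intro r hr
      rw [mem_stabilizer_singleton_set]
      exact hD.fix (r : Perm α) (hRS (hmemRp r hr))
    · intro M hM hRM
      by_contra hle
      obtain ⟨g₀, hg₀, hg₀'⟩ := SetLike.not_le_iff_exists.mp hle
      rw [mem_stabilizer_singleton_set] at hg₀'
      have hK : (RS : Subgroup (Perm α)) ⊓ (alternatingGroup α) ≤ M.map (alternatingGroup α).subtype := by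
        intro y hy
        obtain ⟨hyA, hyR⟩ := hmax y hy
        exact ⟨⟨y, hyA⟩, hRM hyR, rfl⟩
      have hKA : M.map (alternatingGroup α).subtype ≤ (alternatingGroup α) := by
        rintro _ ⟨x, -, rfl⟩
        exact x.2
      have hg₀K : (g₀ : Perm α) ∈ M.map (alternatingGroup α).subtype := ⟨g₀, hg₀, rfl⟩
      have hAle : (alternatingGroup α) ≤ M.map (alternatingGroup α).subtype := by
        rcases Nat.lt_or_ge k 3 with hk3 | hk3
        · have hk2 : k = 2 := by omega
          subst hk2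
          exact alt_le_of_sylData_five hD (by rw [hcard]; norm_num) _ hKA hK g₀ hg₀K hg₀'
        · have h9 : 9 ≤ Fintype.card α := by
            rw [hcard]
            have : 2 ^ 3 ≤ 2 ^ k := Nat.pow_le_pow_right (by norm_num) hk3
            omega
          exact alt_le_of_sylData hD h9 _ hK g₀ hg₀K hg₀'
      apply hM.1
      rw [eq_top_iff]
      intro x _
      obtain ⟨y, hy, hyx⟩ := hAle x.2
      have : y = x := Subtype.ext hyx
      rw [← this]
      exact hy

end Cfsg.Agent.Helper28.SylTwoMax
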