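import Mathlib
import Cfsg.Agent.Lib.Helper28.MatchingS8

set_option autoImplicit false

namespace Cfsg.Agent.Helper28.S8

/-- The standard fixed-point-free involution as a permutation. -/
def m0 : Equiv.Perm (Fin 8) := ⟨m0f, m0f, by decide, by decide⟩

theorem m0_apply (a : Fin 8) : m0 a = m0f a := rfl

/-- The edge containing a point. -/
def ef : Fin 8 → Fin 4 := ![0, 0, 1, 1, 2, 2, 3, 3]

/-- A point on each edge. -/
def sf : Fin 4 → Fin 8 := ![0, 2, 4, 6]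

theorem ef_eq_iff : ∀ a b : Fin 8, ef a = ef b ↔ (b = a ∨ b = m0f a) := by decide

theorem ef_sf : ∀ j : Fin 4, ef (sf j) = j := by decide

theorem m0f_invol : ∀ a, m0f (m0f a) = a := by decide

theorem m0f_ne : ∀ a, m0f a ≠ a := by decide

/-- The centraliser of the standard involution. -/
def C0 : Subgroup (Equiv.Perm (Fin 8)) := Subgroup.centralizer ({m0} : Set (Equiv.Perm (Fin 8)))

theorem mem_C0_iff (σ : Equiv.Perm (Fin 8)) : σ ∈ C0 ↔ ∀ a, σ (m0f a) = m0f (σ a) := by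
  unfold C0
  rw [Subgroup.mem_centralizer_iff]
  constructor
  · intro h a
    have := h m0 (Set.mem_singleton _)
    have h2 := congrArg (fun ρ : Equiv.Perm (Fin 8) => ρ a) this
    simp only [Equiv.Perm.mul_apply, m0_apply] at h2
    exact h2.symm
  · intro h ρ hρ
    rw [Set.mem_singleton_iff] at hρ
    subst hρ
    ext a
    simp only [Equiv.Perm.mul_apply, m0_apply]
    rw [h a]

/-- The induced map on edges. -/
def pifun (σ : Equiv.Perm (Fin 8)) : Fin 4 → Fin 4 := fun j => ef (σ (sf j))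

theorem pifun_ef (σ : Equiv.Perm (Fin 8)) (hσ : σ ∈ C0) (a : Fin 8) : pifun σ (ef a) = ef (σ a) := by
  rw [mem_C0_iff] at hσ
  have h1 : ef a = ef (sf (ef a)) := (ef_sf (ef a)).symm
  rcases (ef_eq_iff a (sf (ef a))).mp h1 with h | h
  · show ef (σ (sf (ef a))) = _
    rw [h]
  · show ef (σ (sf (ef a))) = _
    rw [h, hσ a]
    exact ((ef_eq_iff (σ a) (m0f (σ a))).mpr (Or.inr rfl)).symm

theorem pifun_mul (σ τ : Equiv.Perm (Fin 8)) (hσ : σ ∈ C0) (j : Fin 4) :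
    pifun (σ * τ) j = pifun σ (pifun τ j) := by
  show ef ((σ * τ) (sf j)) = pifun σ (ef (τ (sf j)))
  rw [pifun_ef σ hσ, Equiv.Perm.mul_apply]

theorem pifun_one (j : Fin 4) : pifun 1 j = j := by
  show ef ((1 : Equiv.Perm (Fin 8)) (sf j)) = j
  rw [Equiv.Perm.one_apply, ef_sf]

/-- The action of the centraliser on the four edges. -/
def piHom : ↥C0 →* Equiv.Perm (Fin 4) where
  toFun σ := ⟨pifun σ.1, pifun (σ⁻¹ : ↥C0).1,
    fun j => by
      rw [← pifun_mul _ _ (σ⁻¹ : ↥C0).2]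
      have : ((σ⁻¹ : ↥C0) : Equiv.Perm (Fin 8)) * (σ : Equiv.Perm (Fin 8)) = 1 := by
        rw [← Subgroup.coe_mul, inv_mul_cancel, Subgroup.coe_one]
      rw [this, pifun_one],
    fun j => by
      rw [← pifun_mul _ _ σ.2]
      have : (σ : Equiv.Perm (Fin 8)) * ((σ⁻¹ : ↥C0) : Equiv.Perm (Fin 8)) = 1 := by
        rw [← Subgroup.coe_mul, mul_inv_cancel, Subgroup.coe_one]
      rw [this, pifun_one]⟩
  map_one' := by
    ext j
    show ((pifun ((1 : ↥C0) : Equiv.Perm (Fin 8)) j : Fin 4) : ℕ) = _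
    rw [Subgroup.coe_one, pifun_one]
    rfl
  map_mul' σ τ := by
    ext j
    show ((pifun ((σ * τ : ↥C0) : Equiv.Perm (Fin 8)) j : Fin 4) : ℕ) = _
    rw [Subgroup.coe_mul, pifun_mul _ _ σ.2]
    rfl

theorem piHom_apply (σ : ↥C0) (j : Fin 4) : piHom σ j = pifun σ.1 j := rfl

set_option maxRecDepth 1000000 in
theorem V4_mul_aux : ∀ ρ ρ' : Equiv.Perm (Fin 4), (ρ = 1 ∨ (ρ * ρ = 1 ∧ ∀ j, ρ j ≠ j)) →
    (ρ' = 1 ∨ (ρ' * ρ' = 1 ∧ ∀ j, ρ' j ≠ j)) →
    (ρ * ρ' = 1 ∨ ((ρ * ρ') * (ρ * ρ') = 1 ∧ ∀ j, (ρ * ρ') j ≠ j)) := by decide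

set_option maxRecDepth 1000000 in
theorem V4_inv_aux : ∀ ρ : Equiv.Perm (Fin 4), (ρ = 1 ∨ (ρ * ρ = 1 ∧ ∀ j, ρ j ≠ j)) →
    (ρ⁻¹ = 1 ∨ (ρ⁻¹ * ρ⁻¹ = 1 ∧ ∀ j, ρ⁻¹ j ≠ j)) := by decide

set_option maxRecDepth 1000000 in
theorem V4_conj_aux : ∀ ρ : Equiv.Perm (Fin 4), (ρ = 1 ∨ (ρ * ρ = 1 ∧ ∀ j, ρ j ≠ j)) →
    ∀ c : Equiv.Perm (Fin 4), (c * ρ * c⁻¹ = 1 ∨ ((c * ρ * c⁻¹) * (c * ρ * c⁻¹) = 1 ∧
      ∀ j, (c * ρ * c⁻¹) j ≠ j)) := by decide

/-- The Klein four-group inside `S₄`. -/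
def V4 : Subgroup (Equiv.Perm (Fin 4)) where
  carrier := {ρ | ρ = 1 ∨ (ρ * ρ = 1 ∧ ∀ j, ρ j ≠ j)}
  mul_mem' := by
    intro a b ha hb
    exact V4_mul_aux a b ha hb
  one_mem' := Or.inl rfl
  inv_mem' := by
    intro a ha
    exact V4_inv_aux a ha

theorem mem_V4_iff (ρ : Equiv.Perm (Fin 4)) : ρ ∈ V4 ↔ (ρ = 1 ∨ (ρ * ρ = 1 ∧ ∀ j, ρ j ≠ j)) := Iff.rfl

theorem V4_normal : V4.Normal := by
  constructor
  intro n hn g
  exact V4_conj_aux n hn g

theorem V4_sq (ρ : Equiv.Perm (Fin 4)) (hρ : ρ ∈ V4) : ρ * ρ = 1 := by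
  rcases hρ with h | h
  · rw [h, mul_one]
  · exact h.1

/-- The maximal normal 2-subgroup of the centraliser. -/
def N0 : Subgroup ↥C0 := V4.comap piHom

theorem N0_normal : N0.Normal := V4_normal.comap piHom

theorem sq_eq_one_of_piHom_eq_one (σ : ↥C0) (h : piHom σ = 1) : σ * σ = 1 := by
  have hσ := (mem_C0_iff σ.1).mp σ.2
  have h1 : ∀ a : Fin 8, σ.1 a = a ∨ σ.1 a = m0f a := by
    intro a
    have h2 : ef (σ.1 a) = ef a := by
      rw [← pifun_ef σ.1 σ.2, ← piHom_apply, h, Equiv.Perm.one_apply]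
    exact (ef_eq_iff a (σ.1 a)).mp h2.symm
  apply Subtype.ext
  rw [Subgroup.coe_mul, Subgroup.coe_one]
  ext a
  rw [Equiv.Perm.mul_apply, Equiv.Perm.one_apply]
  rcases h1 a with h3 | h3
  · rw [h3, h3]
  · rw [h3, hσ a, h3, m0f_invol]

theorem pow_four_of_mem_N0 (σ : ↥C0) (hσ : σ ∈ N0) : σ ^ 4 = 1 := by
  have h1 : piHom (σ * σ) = 1 := by
    rw [map_mul]
    exact V4_sq _ hσ
  have h2 := sq_eq_one_of_piHom_eq_one (σ * σ) h1
  calc σ ^ 4 = (σ * σ) * (σ * σ) := by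
        rw [show (4 : ℕ) = 2 + 2 from rfl, pow_add, pow_two]
    _ = 1 := h2

theorem N0_isPGroup : IsPGroup 2 ↥N0 := by
  intro g
  refine ⟨2, ?_⟩
  apply Subtype.ext
  rw [Subgroup.coe_pow, Subgroup.coe_one]
  exact pow_four_of_mem_N0 g.1 g.2

theorem m0_sq : m0 ^ 2 = 1 := by
  ext a
  rw [pow_two, Equiv.Perm.mul_apply, m0_apply, m0_apply, m0f_invol, Equiv.Perm.one_apply]

theorem m0_support : m0.support = Finset.univ := by
  ext a
  simp only [Equiv.Perm.mem_support, Finset.mem_univ, iff_true, m0_apply]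
  exact m0f_ne a

theorem m0_cycleType : m0.cycleType = Multiset.replicate 4 2 := by
  have : Fact (Nat.Prime 2) := ⟨Nat.prime_two⟩
  have h1 := Equiv.Perm.cycleType_of_pow_prime_eq_one m0_sq
  have h2 := Equiv.Perm.sum_cycleType m0
  rw [m0_support, Finset.card_univ, Fintype.card_fin] at h2
  rw [h1, Multiset.sum_replicate, smul_eq_mul] at h2
  have h3 : Multiset.card m0.cycleType = 4 := by omega
  rw [h1, h3]

theorem card_C0 : Nat.card ↥C0 = 384 := by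
  unfold C0
  rw [Equiv.Perm.nat_card_centralizer, m0_cycleType]
  decide

/-- A normal `p`-subgroup lies in every subgroup whose order is the full power of `p`. -/
theorem normal_pgroup_le {G : Type*} [Group G] [Finite G] (p k r : ℕ) [Fact p.Prime]
    (hG : Nat.card G = p ^ k * r) (hr : ¬ p ∣ r) (N K : Subgroup G) [N.Normal] (hN : IsPGroup p ↥N)
    (hK : Nat.card ↥K = p ^ k) : N ≤ K := by
  have hp : p.Prime := Fact.out
  have hKp : IsPGroup p ↥K := IsPGroup.of_card hK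
  have hsup : IsPGroup p ↥(N ⊔ K) := hN.to_sup_of_normal_left hKp
  obtain ⟨j, hj⟩ := IsPGroup.iff_card.mp hsup
  have hdvd : p ^ j ∣ p ^ k * r := by
    rw [← hj, ← hG]
    exact Subgroup.card_subgroup_dvd_card _
  have hcop : (p ^ j).Coprime r := Nat.Coprime.pow_left j ((Nat.Prime.coprime_iff_not_dvd hp).mpr hr)
  have hdvd2 : p ^ j ∣ p ^ k := hcop.dvd_of_dvd_mul_right hdvd
  have hle : Nat.card ↥(N ⊔ K) ≤ Nat.card ↥K := by
    rw [hj, hK]
    exact Nat.le_of_dvd (pow_pos hp.pos k) hdvd2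
  have heq : K = N ⊔ K := Subgroup.eq_of_le_of_card_ge le_sup_right hle
  rw [heq]
  exact le_sup_left

end Cfsg.Agent.Helper28.S8
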