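import Mathlib
import Cfsg.Agent.Lib.Helper20.TCDefs
import Cfsg.Agent.Lib.Helper28.TCEFORM

/-!
# S3104 piece ECARD (helper28): the closure of three independent commuting involutions has 8 elements
-/

set_option autoImplicit false

namespace Cfsg.Agent.Helper20.TC

open Cfsg

namespace ECARD

open EFORM

/-- conditional flip -/
def cflip (b : Bool) (e : Fin 3 → Bool) (i : Fin 3) : Fin 3 → Bool := if b then EFORM.flip e i else e

theorem if_mul {M : Type*} [Monoid M] (a : Fin 3 → M) (sq : ∀ i, a i * a i = 1)
    (comm : ∀ i j, a i * a j = a j * a i) (b : Bool) (i : Fin 3) (e : Fin 3 → Bool) :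
    (if b then a i else 1) * prod a e = prod a (cflip b e i) := by
  cases b
  · simp [cflip]
  · simp only [cflip, if_true]
    exact gen_mul a sq comm i e

/-- the product of two of the eight products -/
theorem prod_mul {M : Type*} [Monoid M] (a : Fin 3 → M) (sq : ∀ i, a i * a i = 1)
    (comm : ∀ i j, a i * a j = a j * a i) (e e' : Fin 3 → Bool) :
    prod a e * prod a e' = prod a (cflip (e 0) (cflip (e 1) (cflip (e 2) e' 2) 1) 0) := by
  have h : prod a e * prod a e' =
      (if e 0 then a 0 else 1) * ((if e 1 then a 1 else 1) * ((if e 2 then a 2 else 1) * prod a e')) := by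
    unfold prod
    simp only [mul_assoc]
  rw [h, if_mul a sq comm, if_mul a sq comm, if_mul a sq comm]

theorem cflip_apply' (b0 b1 b2 : Bool) (e' : Fin 3 → Bool) (i : Fin 3) :
    cflip b0 (cflip b1 (cflip b2 e' 2) 1) 0 i = xor (![b0, b1, b2] i) (e' i) := by
  unfold cflip EFORM.flip
  cases b0 <;> cases b1 <;> cases b2 <;> fin_cases i <;> simp [Function.update_apply]

theorem cflip_apply (e e' : Fin 3 → Bool) (i : Fin 3) :
    cflip (e 0) (cflip (e 1) (cflip (e 2) e' 2) 1) 0 i = xor (e i) (e' i) := by
  rw [cflip_apply']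
  congr 1
  fin_cases i <;> rfl

theorem prod_mem {V : Type*} [Group V] (a : Fin 3 → V) (e : Fin 3 → Bool) :
    prod a e ∈ Subgroup.closure (Set.range a) := by
  have hm : ∀ i, a i ∈ Subgroup.closure (Set.range a) := fun i => Subgroup.subset_closure ⟨i, rfl⟩
  have hi : ∀ (b : Bool) (i : Fin 3), (if b then a i else 1) ∈ Subgroup.closure (Set.range a) := by
    intro b i
    cases b
    · simp
    · simpa using hm i
  exact mul_mem (mul_mem (hi _ _) (hi _ _)) (hi _ _)

end ECARD

theorem closure_card {V : Type*} [Group V] (a : Fin 3 → MulAut V) (sq : ∀ i, a i * a i = 1)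
    (comm : ∀ i j, a i * a j = a j * a i)
    (indep : ∀ e : Fin 3 → Bool,
      (if e 0 then a 0 else 1) * (if e 1 then a 1 else 1) * (if e 2 then a 2 else 1) = 1 →
        ∀ i, e i = false)
    (hform : ∀ g ∈ Subgroup.closure (Set.range a), ∃ e : Fin 3 → Bool,
      g = (if e 0 then a 0 else 1) * (if e 1 then a 1 else 1) * (if e 2 then a 2 else 1)) :
    Nat.card ↥(Subgroup.closure (Set.range a)) = 8 := by
  let f : (Fin 3 → Bool) → ↥(Subgroup.closure (Set.range a)) :=
    fun e => ⟨EFORM.prod a e, ECARD.prod_mem a e⟩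
  have hsq : ∀ e, EFORM.prod a e * EFORM.prod a e = 1 := by
    intro e
    rw [ECARD.prod_mul a sq comm]
    have : (ECARD.cflip (e 0) (ECARD.cflip (e 1) (ECARD.cflip (e 2) e 2) 1) 0) = fun _ => false := by
      funext i
      rw [ECARD.cflip_apply]
      simp
    rw [this, EFORM.prod_false]
  have hinj : Function.Injective f := by
    intro e e' h
    have h1 : EFORM.prod a e = EFORM.prod a e' := congrArg Subtype.val h
    have h2 : EFORM.prod a e * EFORM.prod a e' = 1 := by rw [h1, hsq]
    rw [ECARD.prod_mul a sq comm] at h2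
    have h3 := indep _ h2
    funext i
    have h4 := h3 i
    rw [ECARD.cflip_apply] at h4
    revert h4
    cases e i <;> cases e' i <;> simp
  have hsurj : Function.Surjective f := by
    rintro ⟨g, hg⟩
    obtain ⟨e, he⟩ := hform g hg
    exact ⟨e, Subtype.ext he.symm⟩
  rw [← Nat.card_congr (Equiv.ofBijective f ⟨hinj, hsurj⟩)]
  rw [Nat.card_eq_fintype_card]
  decide

end Cfsg.Agent.Helper20.TC
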