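import Mathlib
import Cfsg.Agent.Lib.Helper11.TGBase
import Cfsg.Agent.Lib.Helper11.TGDefsE6
import Cfsg.Agent.Lib.Lead.TwE6Grp

/-!
# S2406, piece E6COMM: the commutator of the class elements of the roots 42 and 43 of `E₆`

`yC 2 (x_42(a)) = x_42(a) x_37(f a)`, `yC 2 (x_43(b)) = x_43(b) x_40(± f b)`; the only non-trivial
commutators among the four root elements are `[x_37, x_43]` and `[x_42, x_40]`, both in the central
root subgroup `X_44`.
-/

set_option autoImplicit false

namespace Cfsg.Agent.Helper11.TG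

open Cfsg Cfsg.Lie Cfsg.Agent.Lead.Chev Cfsg.Agent.Lead.Tw Cfsg.Agent.Helper11.CG
open scoped commutatorElement

/-- `⁅A B, C E⁆ = z₁ z₂` when `B C = z₁ C B`, `A E = z₂ E A`, `A` commutes with `C` and `z₁`,
`B` commutes with `E`, and `C` commutes with `z₂`. -/
theorem E6COMM_comm_four {G : Type*} [Group G] (A B C E z₁ z₂ : G)
    (hAC : Commute A C) (hBE : Commute B E)
    (h1 : B * C = z₁ * C * B) (h2 : A * E = z₂ * E * A)
    (hz1 : Commute z₁ A) (hz2 : Commute z₂ C) :
    ⁅A * B, C * E⁆ = z₁ * z₂ := by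
  have key : (A * B) * (C * E) = z₁ * z₂ * ((C * E) * (A * B)) := by
    calc (A * B) * (C * E) = A * (B * C) * E := by group
      _ = A * (z₁ * C * B) * E := by rw [h1]
      _ = (A * z₁) * C * B * E := by group
      _ = (z₁ * A) * C * B * E := by rw [hz1.eq]
      _ = z₁ * (A * C) * (B * E) := by group
      _ = z₁ * (C * A) * (E * B) := by rw [hAC.eq, hBE.eq]
      _ = z₁ * C * (A * E) * B := by group
      _ = z₁ * C * (z₂ * E * A) * B := by rw [h2]
      _ = z₁ * (C * z₂) * E * A * B := by group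
      _ = z₁ * (z₂ * C) * E * A * B := by rw [hz2.eq]
      _ = z₁ * z₂ * ((C * E) * (A * B)) := by group
  rw [commutatorElement_def, key]
  group

section E6aux

variable {K : Type*} [Field K] (f : K ≃+* K)

set_option quotPrecheck false in
local notation "X" => xGL chevE6 (E6.hF (K := K)).xadd

theorem E6COMM_yC42 (a : K) :
    yC E6.hF (E6.tw f) 2 (X 42 a) = X 42 a * X 37 (f a) := by
  rw [yC_two, (E6.tw f).map_x 42 (by decide)]
  have e1 : (E6.tw f).ρ 42 = 37 := by
    show Cfsg.Agent.Helper6.ChevC.GE6.gp.π 42 = 37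
    decide +kernel
  have e2 : (E6.tw f).c 42 a = f a := by
    show ((Cfsg.Agent.Helper6.ChevC.GE6.gp.ε 42 : ℤ) : K) * f a = f a
    have : Cfsg.Agent.Helper6.ChevC.GE6.gp.ε 42 = 1 := by decide +kernel
    rw [this]
    simp
  rw [e1, e2]

theorem E6COMM_yC43 (b : K) :
    yC E6.hF (E6.tw f) 2 (X 43 b) = X 43 b * X 40 (-f b) := by
  rw [yC_two, (E6.tw f).map_x 43 (by decide)]
  have e1 : (E6.tw f).ρ 43 = 40 := by
    show Cfsg.Agent.Helper6.ChevC.GE6.gp.π 43 = 40
    decide +kernel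
  have e2 : (E6.tw f).c 43 b = -f b := by
    show ((Cfsg.Agent.Helper6.ChevC.GE6.gp.ε 43 : ℤ) : K) * f b = -f b
    have : Cfsg.Agent.Helper6.ChevC.GE6.gp.ε 43 = -1 := by decide +kernel
    rw [this]
    simp
  rw [e1, e2]

/-- `x_37(u) x_43(t) = x_44(t u) x_43(t) x_37(u)` -/
theorem E6COMM_37_43 (t u : K) : X 37 u * X 43 t = X 44 (t * u) * X 43 t * X 37 u := by
  have hc := (E6.hF (K := K)).comm 43 (by decide) 37 (by decide) (by decide) (by decide +kernel)
  have h := comm_GL chevE6 (E6.hF (K := K)).xadd 43 37 hc (-t) (-u)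
  have hw : chevE6.commWord K 43 37 (-t) (-u) = [(44, t * u)] := by
    unfold ChevalleyDatum.commWord
    rw [show chevE6.commTerms 43 37 = [(44, -1, 1, 1)] by decide +kernel]
    simp
  rw [hw, wordGL_singleton, xGL_inv, xGL_inv, neg_neg, neg_neg, commutatorElement_def] at h
  rw [← h]
  group

/-- `x_42(t) x_40(u) = x_44(-(t u)) x_40(u) x_42(t)` -/
theorem E6COMM_42_40 (t u : K) : X 42 t * X 40 u = X 44 (-(t * u)) * X 40 u * X 42 t := by
  have hc := (E6.hF (K := K)).comm 40 (by decide) 42 (by decide) (by decide) (by decide +kernel)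
  have h := comm_GL chevE6 (E6.hF (K := K)).xadd 40 42 hc (-u) (-t)
  have hw : chevE6.commWord K 40 42 (-u) (-t) = [(44, -(t * u))] := by
    unfold ChevalleyDatum.commWord
    rw [show chevE6.commTerms 40 42 = [(44, 1, 1, 1)] by decide +kernel]
    simp [mul_comm]
  rw [hw, wordGL_singleton, xGL_inv, xGL_inv, neg_neg, neg_neg, commutatorElement_def] at h
  rw [← h]
  group

end E6aux

section E6

variable {K : Type*} [Field K] [Fintype K] {q : ℕ} (hq : 1 < q) (hK : Fintype.card K = q ^ 2)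
  (f : K ≃+* K) (hf : ∀ t, f t = t ^ q)

set_option quotPrecheck false in
local notation "X" => xGL chevE6 (E6.hF (K := K)).xadd

theorem e6_comm : ∃ e : K, (e = 1 ∨ e = -1) ∧ ∀ a b : K,
    ⁅yC E6.hF (E6.tw f) 2 (xGL chevE6 (E6.hF (K := K)).xadd 42 a),
      yC E6.hF (E6.tw f) 2 (xGL chevE6 (E6.hF (K := K)).xadd 43 b)⁆ =
      xGL chevE6 (E6.hF (K := K)).xadd 44 (e * (a * f b + b * f a)) := by
  refine ⟨1, Or.inl rfl, fun a b => ?_⟩
  rw [E6COMM_yC42, E6COMM_yC43]
  have hAC : Commute (X 42 a) (X 43 b) :=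
    xGL_commute E6.hF 42 43 (by decide) (by decide) (by decide +kernel) a b
  have hBE : Commute (X 37 (f a)) (X 40 (-f b)) :=
    xGL_commute E6.hF 37 40 (by decide) (by decide) (by decide +kernel) _ _
  have hz1 : Commute (X 44 (b * f a)) (X 42 a) :=
    xGL_commute E6.hF 44 42 (by decide) (by decide) (by decide +kernel) _ _
  have hz2 : Commute (X 44 (-(a * -f b))) (X 43 b) :=
    xGL_commute E6.hF 44 43 (by decide) (by decide) (by decide +kernel) _ _
  rw [E6COMM_comm_four _ _ _ _ _ _ hAC hBE (E6COMM_37_43 b (f a)) (E6COMM_42_40 a (-f b)) hz1 hz2,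
    xGL_mul]
  congr 1
  ring

end E6

end Cfsg.Agent.Helper11.TG
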