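import Mathlib
import Cfsg.Agent.Lib.Helper5.TLRHomDefs
import Cfsg.Agent.Lib.Helper5.TLRHom

set_option autoImplicit false

/-!
# S4442 lattice side, LAYER C, piece HOM-TR: the trace of `ψ ↦ B ∘ ψ ∘ A`
-/

namespace Cfsg.Agent.Helper5.TLR

section Tr

variable {R : Type*} [CommRing R]
variable {U : Type*} [AddCommGroup U] [Module R U] [Module.Free R U] [Module.Finite R U]
variable {M : Type*} [AddCommGroup M] [Module R M] [Module.Free R M] [Module.Finite R M]

omit [Module.Free R U] [Module.Finite R U] [Module.Free R M] [Module.Finite R M] in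
theorem homtr_linearMap_eq {ι κ : Type*} [Fintype ι] [Fintype κ] [DecidableEq ι] [DecidableEq κ]
    (bU : Module.Basis ι R U) (bM : Module.Basis κ R M) (ij : κ × ι) :
    bU.linearMap bM ij = (bU.coord ij.2).smulRight (bM ij.1) := by
  apply bU.ext
  intro k
  rw [Module.Basis.linearMap_apply_apply, LinearMap.smulRight_apply, Module.Basis.coord_apply,
    Module.Basis.repr_self, Finsupp.single_apply]
  by_cases h : ij.2 = k
  · rw [if_pos h, if_pos h.symm, one_smul]
  · rw [if_neg h, if_neg (Ne.symm h), zero_smul]

omit [Module.Free R U] [Module.Finite R U] [Module.Free R M] [Module.Finite R M] in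
theorem homtr_stdBasis_repr {m n : Type*} [Fintype m] [Fintype n]
    [DecidableEq m] [DecidableEq n] (N : Matrix m n R) (i : m) (j : n) :
    (Matrix.stdBasis R m n).repr N (i, j) = N i j := by
  simp [Matrix.stdBasis]

theorem trace_post_mul_pre (B : Module.End R M) (A : Module.End R U) :
    LinearMap.trace R (U →ₗ[R] M) (post U B * pre M A) =
      LinearMap.trace R U A * LinearMap.trace R M B := by
  classical
  let bU := Module.Free.chooseBasis R U
  let bM := Module.Free.chooseBasis R M
  rw [LinearMap.trace_eq_matrix_trace R (bU.linearMap bM), LinearMap.trace_eq_matrix_trace R bU,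
    LinearMap.trace_eq_matrix_trace R bM]
  simp only [Matrix.trace, Matrix.diag, LinearMap.toMatrix_apply]
  rw [Fintype.sum_prod_type, Finset.sum_comm, Finset.sum_mul_sum]
  refine Finset.sum_congr rfl fun j _ => Finset.sum_congr rfl fun i _ => ?_
  rw [homtr_linearMap_eq, Module.End.mul_apply, pre_smulRight, post_smulRight,
    Module.Basis.linearMap_repr_apply, homtr_stdBasis_repr, LinearMap.toMatrix_apply]
  simp only [LinearMap.smulRight_apply, LinearMap.comp_apply, Module.Basis.coord_apply, map_smul,
    Finsupp.smul_apply, smul_eq_mul]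

end Tr

end Cfsg.Agent.Helper5.TLR
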