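import Mathlib
import Cfsg.Agent.Lib.Helper28.TensFrameF
set_option autoImplicit false
open Cfsg
namespace Cfsg.Agent.H28TF
open Matrix Kronecker
open scoped commutatorElement

variable {F : Type*} [Field F]

/-- block matrices with first block `A` and the others the identity, as a homomorphism -/
def bkHom {n₁ n₂ : ℕ} (k₀ : Fin n₂) : GL (Fin n₁) F →* GL (Fin n₁ × Fin n₂) F where
  toFun A := bkU k₀ A 1
  map_one' := by
    apply Units.ext
    rw [bkU_val, Units.val_one, bk_one, Units.val_one]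
  map_mul' A B := by
    apply Units.ext
    rw [Units.val_mul, bkU_val, bkU_val, bkU_val, bk_mul, Units.val_mul, Units.val_one, one_mul]

theorem bkHom_apply {n₁ n₂ : ℕ} (k₀ : Fin n₂) (A : GL (Fin n₁) F) :
    bkHom (n₂ := n₂) k₀ A = bkU k₀ A 1 := rfl

theorem Bf_tp {n₁ n₂ : ℕ} (G₁ : Matrix (Fin n₁) (Fin n₁) F) (x y : Fin n₁ → F) (w z : Fin n₂ → F) :
    Bf (G₁ ⊗ₖ (1 : Matrix (Fin n₂) (Fin n₂) F)) (tp x w) (tp y z) = Bf G₁ x y * (w ⬝ᵥ z) := by
  rw [← formOfGram_eq_Bf, form_tp, Matrix.one_mulVec]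
  rfl

/-- the orthogonal core: the Kronecker products in the commutator subgroup of the isometry group
of `G₂ ⊗ 1` do not form a maximal subgroup of it -/
theorem coreO (h3 : (3 : F) = 0) (hc : ∀ x : F, x = 0 ∨ x = 1 ∨ x = -1) {n₂ : ℕ}
    (G₂ : Matrix (Fin n₂) (Fin n₂) F) (hsymm : G₂ᵀ = G₂) (a y x : Fin n₂ → F)
    (haa : Bf G₂ a a ≠ 0) (hyy : Bf G₂ y y = 0) (hay : Bf G₂ a y = 0) (hxa : Bf G₂ x a = 0)
    (hxy : Bf G₂ x y ≠ 0) :
    ∃ K₀ : Subgroup (GL (Fin n₂ × Fin 3) F),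
      Cfsg.Geo.kroneckerSubgroup n₂ 3 F ⊓
        ⁅Cfsg.preserving (Cfsg.glToMat (Fin n₂ × Fin 3) F)
          (Cfsg.Geo.formOfGram id (G₂ ⊗ₖ (1 : Matrix (Fin 3) (Fin 3) F))),
         Cfsg.preserving (Cfsg.glToMat (Fin n₂ × Fin 3) F)
          (Cfsg.Geo.formOfGram id (G₂ ⊗ₖ (1 : Matrix (Fin 3) (Fin 3) F)))⁆ < K₀ ∧
      K₀ < ⁅Cfsg.preserving (Cfsg.glToMat (Fin n₂ × Fin 3) F)
          (Cfsg.Geo.formOfGram id (G₂ ⊗ₖ (1 : Matrix (Fin 3) (Fin 3) F))),
         Cfsg.preserving (Cfsg.glToMat (Fin n₂ × Fin 3) F)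
          (Cfsg.Geo.formOfGram id (G₂ ⊗ₖ (1 : Matrix (Fin 3) (Fin 3) F)))⁆ := by
  have h2 : (2 : F) ≠ 0 := two_ne_zero_of_three h3
  have h4 : (4 : F) ≠ 0 := by
    intro h
    have : (1 : F) = 0 := by linear_combination h - h3
    exact one_ne_zero this
  obtain ⟨G, hG⟩ : ∃ G, G = G₂ ⊗ₖ (1 : Matrix (Fin 3) (Fin 3) F) := ⟨_, rfl⟩
  have hGsymm : Gᵀ = G := by
    rw [hG, ← Matrix.kroneckerMap_transpose, hsymm, Matrix.transpose_one]
  rw [← hG]
  obtain ⟨Isom, hIsom⟩ : ∃ I, I = Cfsg.preserving (Cfsg.glToMat (Fin n₂ × Fin 3) F)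
    (Cfsg.Geo.formOfGram id G) := ⟨_, rfl⟩
  rw [← hIsom]
  have hay' : Bf G₂ y a = 0 := by rw [Bf_symm G₂ hsymm, hay]
  have haypp : Bf G₂ (a + y) (a + y) ≠ 0 := by
    rw [Bf_add_left, Bf_add_right, Bf_add_right, hyy, hay, hay']
    simpa using haa
  obtain ⟨μ, hμ⟩ : ∃ μ, μ = Bf G₂ x y := ⟨_, rfl⟩
  have hμ0 : μ ≠ 0 := by rw [hμ]; exact hxy
  refine ⟨Stab n₂ 3 F ⊓ ⁅Isom, Isom⁆, ?_, ?_⟩
  · rw [lt_iff_le_and_ne]
    refine ⟨le_inf ?_ inf_le_right, ?_⟩
    · apply mem_Stab_of_maps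
      rintro g ⟨hgk, hgi⟩ v hv
      have hgi' : g ∈ Isom := Subgroup.commutator_le_self Isom hgi
      rw [hIsom, hG] at hgi'
      exact kron_isom_maps h3 hc G₂ ⟨x, y, hxy⟩ g hgk hgi' v hv
    · intro heq
      obtain ⟨A, hA⟩ : ∃ A : GL (Fin n₂) F, A = ⁅rfU G₂ a haa, rfU G₂ (a + y) haypp⁆ := ⟨_, rfl⟩
      have hbi : ∀ (c : Fin n₂ → F) (hcc : Bf G₂ c c ≠ 0),
          bkHom (n₂ := 3) (0 : Fin 3) (rfU G₂ c hcc) ∈ Isom := by
        intro c hcc
        rw [hIsom, bkHom_apply, mem_isom_iff, bkU_val, hG]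
        apply bk_isom 0 G₂ _ _ ((mem_isom_iff G₂ _).mp (rfU_mem_isom G₂ hsymm c hcc))
        rw [Units.val_one, Matrix.transpose_one, one_mul, mul_one]
      have hmem : bkHom (n₂ := 3) (0 : Fin 3) A ∈ Stab n₂ 3 F ⊓ ⁅Isom, Isom⁆ := by
        refine Subgroup.mem_inf.mpr ⟨bkU_mem_Stab 0 A 1, ?_⟩
        rw [hA, map_commutatorElement]
        exact Subgroup.commutator_mem_commutator (hbi a haa) (hbi _ haypp)
      rw [← heq] at hmem
      obtain ⟨a', b', hab⟩ := hmem.1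
      rw [bkHom_apply, bkU_val, Units.val_one] at hab
      have hn₂ : 0 < n₂ := by
        by_contra h0
        have : n₂ = 0 := by omega
        subst this
        apply haa
        unfold Bf
        simp
      obtain ⟨s, hs⟩ := bk_kron (0 : Fin 3) (A : Matrix (Fin n₂) (Fin n₂) F) 1 (by decide) _ _ hab
        ⟨0, hn₂⟩
      have h1 : (A : Matrix (Fin n₂) (Fin n₂) F) *ᵥ x =
          x + (4 * Bf G₂ x y / Bf G₂ a a) • (a - (2 : F) • y) := by
        rw [hA]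
        exact comm_rf_apply G₂ hsymm a y x haa hyy hay hxa haypp
      rw [hs, Matrix.smul_mulVec, Matrix.one_mulVec] at h1
      have h5 := congrArg (fun z => Bf G₂ z a) h1
      simp only [Bf_add_left, Bf_smul_left, hxa, sub_eq_add_neg, ← neg_smul, hay'] at h5
      have : 4 * Bf G₂ x y = 0 := by
        have h6 : 4 * Bf G₂ x y / Bf G₂ a a * Bf G₂ a a = 4 * Bf G₂ x y := by
          field_simp
        linear_combination -h6 - h5
      exact hxy ((mul_eq_zero.mp this).resolve_left h4)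
  · rw [lt_iff_le_and_ne]
    refine ⟨inf_le_right, fun heq => ?_⟩
    obtain ⟨p, hp⟩ : ∃ p, p = tp a (Pi.single (0 : Fin 3) (1 : F)) := ⟨_, rfl⟩
    obtain ⟨n, hn⟩ : ∃ n, n = tp y (Pi.single (1 : Fin 3) (1 : F)) := ⟨_, rfl⟩
    obtain ⟨v, hv⟩ : ∃ v, v = tp x (Pi.single (1 : Fin 3) (1 : F)) := ⟨_, rfl⟩
    have e00 : (Pi.single (0 : Fin 3) (1 : F) : Fin 3 → F) ⬝ᵥ Pi.single 0 1 = 1 := by
      rw [single_one_dotProduct, Pi.single_eq_same]
    have e11 : (Pi.single (1 : Fin 3) (1 : F) : Fin 3 → F) ⬝ᵥ Pi.single 1 1 = 1 := by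
      rw [single_one_dotProduct, Pi.single_eq_same]
    have e01 : (Pi.single (0 : Fin 3) (1 : F) : Fin 3 → F) ⬝ᵥ Pi.single 1 1 = 0 := by
      rw [single_one_dotProduct, Pi.single_eq_of_ne (by decide)]
    have e10 : (Pi.single (1 : Fin 3) (1 : F) : Fin 3 → F) ⬝ᵥ Pi.single 0 1 = 0 := by
      rw [single_one_dotProduct, Pi.single_eq_of_ne (by decide)]
    have hpp : Bf G p p ≠ 0 := by rw [hG, hp, Bf_tp, e00, mul_one]; exact haa
    have hnn : Bf G n n = 0 := by rw [hG, hn, Bf_tp, hyy, zero_mul]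
    have hpn : Bf G p n = 0 := by rw [hG, hp, hn, Bf_tp, e01, mul_zero]
    have hvp : Bf G v p = 0 := by rw [hG, hv, hp, Bf_tp, e10, mul_zero]
    have hvn : Bf G v n = μ := by rw [hG, hv, hn, Bf_tp, e11, mul_one, hμ]
    have hppval : Bf G p p = Bf G₂ a a := by rw [hG, hp, Bf_tp, e00, mul_one]
    have hnp : Bf G n p = 0 := by rw [Bf_symm G hGsymm, hpn]
    have hpnpn : Bf G (p + n) (p + n) ≠ 0 := by
      rw [Bf_add_left, Bf_add_right, Bf_add_right, hnn, hpn, hnp]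
      simpa using hpp
    have hg : ⁅rfU G p hpp, rfU G (p + n) hpnpn⁆ ∈ Stab n₂ 3 F ⊓ ⁅Isom, Isom⁆ := by
      rw [heq]
      apply Subgroup.commutator_mem_commutator
      · rw [hIsom]
        exact rfU_mem_isom G hGsymm p hpp
      · rw [hIsom]
        exact rfU_mem_isom G hGsymm _ hpnpn
    have hvS : v ∈ SS n₂ 3 F := ⟨1, x, hv⟩
    have h1 := (hg.1 v).mpr hvS
    rw [comm_rf_apply G hGsymm p n v hpp hnn hpn hvp hpnpn, hvn, hppval] at h1
    obtain ⟨k, hk⟩ : ∃ k, k = 4 * μ / Bf G₂ a a := ⟨_, rfl⟩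
    have hk0 : k ≠ 0 := by
      rw [hk]
      exact div_ne_zero (mul_ne_zero h4 hμ0) haa
    rw [← hk] at h1
    obtain ⟨i, z, hz⟩ := h1
    have ea : ∀ j, k * a j = z j * (Pi.single i (1 : F) : Fin 3 → F) 0 := by
      intro j
      have := congrFun hz (j, 0)
      simp only [Pi.add_apply, Pi.smul_apply, Pi.sub_apply, tp_apply, smul_eq_mul, hv, hp, hn,
        Pi.single_eq_same] at this
      rw [Pi.single_eq_of_ne (by decide : (0 : Fin 3) ≠ 1)] at this
      linear_combination this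
    have ex : ∀ j, x j - 2 * k * y j = z j * (Pi.single i (1 : F) : Fin 3 → F) 1 := by
      intro j
      have := congrFun hz (j, 1)
      simp only [Pi.add_apply, Pi.smul_apply, Pi.sub_apply, tp_apply, smul_eq_mul, hv, hp, hn,
        Pi.single_eq_same] at this
      rw [Pi.single_eq_of_ne (by decide : (1 : Fin 3) ≠ 0)] at this
      linear_combination this
    have hi : i = 0 := by
      by_contra hne
      have ha0 : a = 0 := by
        funext j
        have := ea j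
        rw [Pi.single_eq_of_ne (fun h => hne h.symm), mul_zero] at this
        exact (mul_eq_zero.mp this).resolve_left hk0
      apply haa
      rw [ha0]
      unfold Bf
      simp
    rw [hi] at ex
    have hx : x = (2 * k) • y := by
      funext j
      have := ex j
      rw [Pi.single_eq_of_ne (by decide : (1 : Fin 3) ≠ 0), mul_zero] at this
      rw [Pi.smul_apply, smul_eq_mul]
      linear_combination this
    apply hxy
    rw [hx, Bf_smul_left, hyy, mul_zero]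

end Cfsg.Agent.H28TF
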