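import Mathlib
import Cfsg.Agent.Lib.Helper28.TensFrameG
set_option autoImplicit false
open Cfsg
namespace Cfsg.Agent.H28TF
open Matrix Kronecker
open scoped commutatorElement

/-- over the field with three elements, the stabiliser in `Ω(Q)` of a tensor decomposition of
the polar form of `Q` with a ternary first factor is not maximal -/
theorem orth_main {F : Type*} [Field F] [Fintype F] (hq : Fintype.card F = 3)
    {ι : Type} [Fintype ι] [DecidableEq ι] (Q : (ι → F) → F)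
    (hsm : ∀ (c : F) (v : ι → F), Q (c • v) = c ^ 2 * Q v) {n₂ : ℕ} (h2 : 4 ≤ n₂)
    (e : ι ≃ Fin 3 × Fin n₂) (P : GL ι F)
    (f₁ : (Fin 3 → F) → (Fin 3 → F) → F) (f₂ : (Fin n₂ → F) → (Fin n₂ → F) → F)
    (hf₁ : Cfsg.Geo.IsSymmetricForm f₁) (hf₂ : Cfsg.Geo.IsSymmetricForm f₂)
    (hT : Cfsg.Geo.IsTensorFormStructure id (QuadraticMap.polar Q) f₁ f₂ e P) :
    ∃ K : Subgroup (GL ι F), Cfsg.Geo.tensorProductSubgroup 3 n₂ e P ⊓ Cfsg.Geo.omegaGL Q < K ∧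
      K < Cfsg.Geo.omegaGL Q := by
  have h3 := three_eq_zero hq
  have hc := three_cases hq
  have h2' : (2 : F) ≠ 0 := two_ne_zero_of_three h3
  rw [tps_swap]
  have hT' := tensorForm_swap (QuadraticMap.polar Q) f₁ f₂ e P hT
  obtain ⟨e', he'⟩ : ∃ e' : ι ≃ Fin n₂ × Fin 3, e' = e.trans (Equiv.prodComm _ _) := ⟨_, rfl⟩
  rw [← he'] at hT' ⊢
  obtain ⟨P', c, hc0, htps, hform⟩ :=
    exists_normal_form h3 hc (QuadraticMap.polar Q) f₂ f₁ hf₁ e' P hT'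
  rw [← htps]
  obtain ⟨G₂, hG₂⟩ : ∃ G₂, G₂ = Cfsg.Geo.gramMatrix f₂ := ⟨_, rfl⟩
  rw [← hG₂] at hform
  have hsymm : G₂ᵀ = G₂ := by
    ext i j
    rw [hG₂, Matrix.transpose_apply]
    exact hf₂.symm _ _
  have hfB : ∀ x y, f₂ x y = Bf G₂ x y := by
    intro x y
    rw [bil_eq_gram f₂ hf₂.bilinear, ← hG₂]
    rfl
  obtain ⟨a, y, x, haa, hyy, hay, hxa, hxy⟩ := exists_triple h3 hc h2 f₂ hf₂
  rw [hfB] at haa hyy hay hxa hxy
  obtain ⟨K₀, hK1, hK2⟩ := coreO h3 hc G₂ hsymm a y x haa hyy hay hxa hxy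
  have hcomap : (Cfsg.Geo.omegaGL Q).comap (Th e' P').toMonoidHom =
      ⁅Cfsg.preserving (Cfsg.glToMat (Fin n₂ × Fin 3) F)
          (Cfsg.Geo.formOfGram id (G₂ ⊗ₖ (1 : Matrix (Fin 3) (Fin 3) F))),
       Cfsg.preserving (Cfsg.glToMat (Fin n₂ × Fin 3) F)
          (Cfsg.Geo.formOfGram id (G₂ ⊗ₖ (1 : Matrix (Fin 3) (Fin 3) F)))⁆ := by
    rw [omegaGL_eq, comap_commutator_equiv,
      comap_isometryGroup h2' Q hsm e' P' _ c hc0 hform]
  apply sandwich e' P' (Cfsg.Geo.omegaGL Q) K₀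
  · rw [hcomap]
    exact hK1
  · rw [hcomap]
    exact hK2

end Cfsg.Agent.H28TF
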