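import Mathlib
import Cfsg.Agent.Lib.Helper28.TensFrameH
import Cfsg.Agent.Lib.Helper28.OrthRootEven
set_option autoImplicit false
open Cfsg
namespace Cfsg.Agent.H28TF
open Matrix Kronecker QuadraticMap
open Cfsg.Agent.Helper2.Orth Cfsg.Agent.Helper17.OmegaElts Cfsg.Agent.Helper28.OrthRootEven
  Cfsg.Agent.Helper28.WittQuad

variable {F : Type*} [Field F] [Fintype F]

/-- Eichler transformations as elements of `Ω` inside the general linear group -/
theorem exists_eich {n : ℕ} (hn : 6 ≤ n) (heven : Even n) (Q : (Fin n → F) → F)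
    (hQ : Cfsg.Geo.IsNondegenerateQuadraticForm Q) (z b : Fin n → F) (hz : Q z = 0)
    (hzb : polar Q z b = 0) :
    ∃ g : GL (Fin n) F, g ∈ Cfsg.Geo.omegaGL Q ∧ ∀ x : Fin n → F,
      (g : Matrix (Fin n) (Fin n) F) *ᵥ x =
        x + (polar Q b x • z - polar Q z x • b - Q b • polar Q z x • z) := by
  have hQ' := toQF_nondeg Q hQ
  have hΩ := omega_eq_eich_even (toQF Q hQ) hQ' hn heven
  have hz' : toQF Q hQ z = 0 := hz
  have hzb' : polar (toQF Q hQ) z b = 0 := hzb
  refine ⟨((eichG (toQF Q hQ) z b : Cfsg.isometryGroup F (⇑(toQF Q hQ))) : GL (Fin n) F), ?_, ?_⟩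
  · apply coe_mem_omegaGL (toQF Q hQ)
    rw [hΩ]
    exact eichG_mem hz' hzb'
  · intro x
    have h1 := eichG_smul (Q := toQF Q hQ) hz' hzb' x
    rw [eich_apply] at h1
    exact h1

section transfer

variable {ι : Type} [Fintype ι] [DecidableEq ι] {n₁ n₂ : ℕ}

theorem ps_injective (e : ι ≃ Fin n₁ × Fin n₂) (P : GL ι F) : Function.Injective (ps e P) := by
  intro x y hxy
  unfold ps at hxy
  have h1 := congrArg (fun v => ((P⁻¹ : GL ι F) : Matrix ι ι F) *ᵥ v) hxy
  simp only [Matrix.mulVec_mulVec, ← Units.val_mul, inv_mul_cancel, Units.val_one,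
    Matrix.one_mulVec] at h1
  funext a
  have := congrFun h1 (e.symm a)
  simpa using this

theorem ps_sub (e : ι ≃ Fin n₁ × Fin n₂) (P : GL ι F) (x y : Fin n₁ × Fin n₂ → F) :
    ps e P (x - y) = ps e P x - ps e P y := by
  rw [sub_eq_add_neg, ps_add, ← neg_one_smul F y, ps_smul, neg_one_smul, ← sub_eq_add_neg]

end transfer

/-- Eichler transformations pulled back to the pairs -/
theorem exists_eich_pairs {n n₁ n₂ : ℕ} (hn : 6 ≤ n) (heven : Even n) (Q : (Fin n → F) → F)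
    (hQ : Cfsg.Geo.IsNondegenerateQuadraticForm Q) (e : Fin n ≃ Fin n₁ × Fin n₂)
    (P : GL (Fin n) F) (z b : Fin n₁ × Fin n₂ → F) (hz : Q (ps e P z) = 0)
    (hzb : polar Q (ps e P z) (ps e P b) = 0) :
    ∃ g : GL (Fin n₁ × Fin n₂) F, g ∈ (Cfsg.Geo.omegaGL Q).comap (Th e P).toMonoidHom ∧
      ∀ x : Fin n₁ × Fin n₂ → F,
      (g : Matrix (Fin n₁ × Fin n₂) (Fin n₁ × Fin n₂) F) *ᵥ x =
        x + (polar Q (ps e P b) (ps e P x) • z - polar Q (ps e P z) (ps e P x) • b -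
          Q (ps e P b) • polar Q (ps e P z) (ps e P x) • z) := by
  obtain ⟨g, hg, hact⟩ := exists_eich hn heven Q hQ (ps e P z) (ps e P b) hz hzb
  refine ⟨(Th e P).symm g, ?_, ?_⟩
  · rw [Subgroup.mem_comap]
    show (Th e P) ((Th e P).symm g) ∈ _
    rw [MulEquiv.apply_symm_apply]
    exact hg
  · intro x
    apply ps_injective e P
    rw [← Th_mulVec, MulEquiv.apply_symm_apply, hact, ps_add, ps_sub, ps_sub, ps_smul, ps_smul,
      ps_smul, ps_smul]

end Cfsg.Agent.H28TF
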