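import Mathlib
import Cfsg.Agent.Lib.Helper28.TensFrameG
set_option autoImplicit false
open Cfsg
namespace Cfsg.Agent.H28TF
open Matrix Kronecker

variable {F : Type*} [Field F] (φ : F →+* F)

section forms

variable {κ : Type} [Fintype κ]

/-- the sesquilinear form with matrix `G` -/
def Bh (G : Matrix κ κ F) (x y : κ → F) : F := x ⬝ᵥ G *ᵥ (fun i => φ (y i))

theorem formOfGram_phi (G : Matrix κ κ F) (x y : κ → F) :
    Cfsg.Geo.formOfGram (⇑φ) G x y = Bh φ G x y := by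
  unfold Cfsg.Geo.formOfGram Bh
  simp only [dotProduct, Matrix.mulVec, Finset.mul_sum, mul_assoc]

theorem Bh_add_left (G : Matrix κ κ F) (x y z : κ → F) :
    Bh φ G (x + y) z = Bh φ G x z + Bh φ G y z := by
  unfold Bh
  rw [add_dotProduct]

theorem Bh_smul_left (G : Matrix κ κ F) (c : F) (x z : κ → F) :
    Bh φ G (c • x) z = c * Bh φ G x z := by
  unfold Bh
  rw [smul_dotProduct, smul_eq_mul]

theorem Bh_add_right (G : Matrix κ κ F) (x y z : κ → F) :
    Bh φ G x (y + z) = Bh φ G x y + Bh φ G x z := by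
  unfold Bh
  have : (fun i => φ ((y + z) i)) = (fun i => φ (y i)) + (fun i => φ (z i)) := by
    funext i
    simp
  rw [this, Matrix.mulVec_add, dotProduct_add]

theorem Bh_smul_right (G : Matrix κ κ F) (c : F) (x z : κ → F) :
    Bh φ G x (c • z) = φ c * Bh φ G x z := by
  unfold Bh
  have : (fun i => φ ((c • z) i)) = φ c • (fun i => φ (z i)) := by
    funext i
    simp
  rw [this, Matrix.mulVec_smul, dotProduct_smul, smul_eq_mul]

theorem Bh_conj (hφφ : ∀ x, φ (φ x) = x) (G : Matrix κ κ F) (hG : Gᵀ = G.map φ) (x y : κ → F) :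
    φ (Bh φ G x y) = Bh φ G y x := by
  unfold Bh
  simp only [dotProduct, Matrix.mulVec, map_sum, map_mul, hφφ, Finset.mul_sum]
  rw [Finset.sum_comm]
  refine Finset.sum_congr rfl fun b _ => Finset.sum_congr rfl fun a _ => ?_
  have : φ (G a b) = G b a := by
    have := congrFun (congrFun hG a) b
    rw [Matrix.transpose_apply, Matrix.map_apply] at this
    exact this.symm
  rw [this]
  ring

variable [DecidableEq κ]

theorem Bh_mulVec (G u : Matrix κ κ F) (x y : κ → F) :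
    Bh φ G (u *ᵥ x) (u *ᵥ y) = Bh φ (uᵀ * G * u.map φ) x y := by
  unfold Bh
  have : (fun i => φ ((u *ᵥ y) i)) = u.map φ *ᵥ (fun i => φ (y i)) := by
    funext i
    exact RingHom.map_mulVec φ u y i
  rw [this, ← Matrix.mulVec_mulVec, ← Matrix.mulVec_mulVec, Matrix.dotProduct_mulVec x,
    Matrix.vecMul_transpose]

theorem Bh_single (G : Matrix κ κ F) (a b : κ) : Bh φ G (Pi.single a 1) (Pi.single b 1) = G a b := by
  unfold Bh
  have : (fun i => φ ((Pi.single b (1 : F) : κ → F) i)) = Pi.single b 1 := by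
    funext i
    by_cases h : i = b
    · subst h
      simp
    · simp [h]
  rw [this, Matrix.mulVec_single_one, single_one_dotProduct]
  rfl

theorem mem_isomh_iff (G : Matrix κ κ F) (g : GL κ F) :
    g ∈ Cfsg.preserving (Cfsg.glToMat κ F) (Cfsg.Geo.formOfGram (⇑φ) G) ↔
      (g : Matrix κ κ F)ᵀ * G * (g : Matrix κ κ F).map φ = G := by
  constructor
  · intro h
    ext a b
    have h2 : Cfsg.Geo.formOfGram (⇑φ) G ((g : Matrix κ κ F) *ᵥ Pi.single a 1)
        ((g : Matrix κ κ F) *ᵥ Pi.single b 1) =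
        Cfsg.Geo.formOfGram (⇑φ) G (Pi.single a 1) (Pi.single b 1) :=
      h (Pi.single a 1) (Pi.single b 1)
    rw [formOfGram_phi, formOfGram_phi, Bh_mulVec, Bh_single, Bh_single] at h2
    exact h2
  · intro h u v
    show Cfsg.Geo.formOfGram (⇑φ) G ((g : Matrix κ κ F) *ᵥ u) ((g : Matrix κ κ F) *ᵥ v) = _
    rw [formOfGram_phi, formOfGram_phi, Bh_mulVec, h]

end forms

section tensor

variable {n₁ n₂ : ℕ}

theorem Bh_tp (G₁ : Matrix (Fin n₁) (Fin n₁) F) (G₂ : Matrix (Fin n₂) (Fin n₂) F)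
    (x y : Fin n₁ → F) (w z : Fin n₂ → F) :
    Bh φ (G₁ ⊗ₖ G₂) (tp x w) (tp y z) = Bh φ G₁ x y * Bh φ G₂ w z := by
  unfold Bh
  have : (fun i => φ (tp y z i)) = tp (fun i => φ (y i)) (fun i => φ (z i)) := by
    funext ⟨i, j⟩
    simp [tp]
  rw [this, kron_mulVec_tp, tp_dot_tp]

theorem Bh_one (w z : Fin n₂ → F) :
    Bh φ (1 : Matrix (Fin n₂) (Fin n₂) F) w z = ∑ k, w k * φ (z k) := by
  unfold Bh
  rw [Matrix.one_mulVec]
  rfl

end tensor

section transvections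

variable {κ : Type} [Fintype κ] [DecidableEq κ]

/-- the transvection `x ↦ x + (l ⬝ x) z` -/
def tvl (z l : κ → F) (h : l ⬝ᵥ z = 0) : GL κ F :=
  have hsq : Matrix.vecMulVec z l * Matrix.vecMulVec z l = 0 := by
    rw [Matrix.vecMulVec_mul_vecMulVec, h, zero_smul]
    ext i j
    simp [Matrix.vecMulVec_apply]
  ⟨1 + Matrix.vecMulVec z l, 1 - Matrix.vecMulVec z l, by
    rw [mul_sub, mul_one, add_mul, one_mul, hsq, add_zero, add_sub_cancel_right], by
    rw [sub_mul, one_mul, mul_add, mul_one, hsq, add_zero, add_sub_cancel_right]⟩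

theorem tvl_val (z l : κ → F) (h : l ⬝ᵥ z = 0) :
    ((tvl z l h : GL κ F) : Matrix κ κ F) = 1 + Matrix.vecMulVec z l := rfl

theorem tvl_mulVec (z l : κ → F) (h : l ⬝ᵥ z = 0) (x : κ → F) :
    ((tvl z l h : GL κ F) : Matrix κ κ F) *ᵥ x = x + (l ⬝ᵥ x) • z := by
  rw [tvl_val, Matrix.add_mulVec, Matrix.one_mulVec, Matrix.vecMulVec_mulVec, op_smul_eq_smul]

theorem tvl_det (z l : κ → F) (h : l ⬝ᵥ z = 0) :
    ((tvl z l h : GL κ F) : Matrix κ κ F).det = 1 := by
  rw [tvl_val, Matrix.vecMulVec_eq (Fin 1), Matrix.det_one_add_replicateCol_mul_replicateRow, h,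
    add_zero]

theorem tvl_mem_SL (z l : κ → F) (h : l ⬝ᵥ z = 0) : tvl z l h ∈ Cfsg.Geo.specialLinear κ F := by
  unfold Cfsg.Geo.specialLinear
  rw [MonoidHom.mem_ker]
  apply Units.ext
  rw [Matrix.GeneralLinearGroup.val_det_apply, tvl_det, Units.val_one]

theorem Bh_self_eq (G : Matrix κ κ F) (z : κ → F) :
    (G *ᵥ (fun i => φ (z i))) ⬝ᵥ z = Bh φ G z z := by
  unfold Bh
  rw [dotProduct_comm]

/-- the unitary transvection `x ↦ x + B(x, z) z` -/
def tvh (G : Matrix κ κ F) (z : κ → F) (hz : Bh φ G z z = 0) : GL κ F :=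
  tvl z (G *ᵥ (fun i => φ (z i))) (by rw [Bh_self_eq, hz])

theorem tvh_mulVec (G : Matrix κ κ F) (z : κ → F) (hz : Bh φ G z z = 0) (x : κ → F) :
    ((tvh φ G z hz : GL κ F) : Matrix κ κ F) *ᵥ x = x + Bh φ G x z • z := by
  unfold tvh
  rw [tvl_mulVec]
  unfold Bh
  rw [dotProduct_comm]

theorem tvh_mem_SL (G : Matrix κ κ F) (z : κ → F) (hz : Bh φ G z z = 0) :
    tvh φ G z hz ∈ Cfsg.Geo.specialLinear κ F := tvl_mem_SL _ _ _

theorem tvh_mem_isom (h2 : (1 : F) + 1 = 0) (hφφ : ∀ x, φ (φ x) = x) (G : Matrix κ κ F)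
    (hG : Gᵀ = G.map φ) (z : κ → F) (hz : Bh φ G z z = 0) :
    tvh φ G z hz ∈ Cfsg.preserving (Cfsg.glToMat κ F) (Cfsg.Geo.formOfGram (⇑φ) G) := by
  intro u v
  show Cfsg.Geo.formOfGram (⇑φ) G (((tvh φ G z hz : GL κ F) : Matrix κ κ F) *ᵥ u)
    (((tvh φ G z hz : GL κ F) : Matrix κ κ F) *ᵥ v) = _
  rw [tvh_mulVec, tvh_mulVec, formOfGram_phi, formOfGram_phi]
  simp only [Bh_add_left, Bh_add_right, Bh_smul_left, Bh_smul_right, hz, Bh_conj φ hφφ G hG]
  linear_combination (Bh φ G u z * Bh φ G z v) * h2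

end transvections

end Cfsg.Agent.H28TF
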