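import Mathlib
import Cfsg.Agent.Lib.Helper28.TensUnitA
set_option autoImplicit false
open Cfsg
namespace Cfsg.Agent.H28TF
open Matrix Kronecker

variable {F : Type*} [Field F]

section swap

variable {ι : Type} [Fintype ι] [DecidableEq ι] {n₁ n₂ : ℕ}

theorem tensorForm_swap' (σ : F → F) (f : (ι → F) → (ι → F) → F)
    (f₁ : (Fin n₁ → F) → (Fin n₁ → F) → F)
    (f₂ : (Fin n₂ → F) → (Fin n₂ → F) → F) (e : ι ≃ Fin n₁ × Fin n₂) (P : GL ι F)
    (hT : Cfsg.Geo.IsTensorFormStructure σ f f₁ f₂ e P) :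
    Cfsg.Geo.IsTensorFormStructure σ f f₂ f₁ (e.trans (Equiv.prodComm _ _)) P := by
  obtain ⟨c, hc, h⟩ := hT
  refine ⟨c, hc, fun x y => ?_⟩
  have h1 := h (x ∘ Equiv.prodComm _ _) (y ∘ Equiv.prodComm _ _)
  have e1 : (x ∘ Equiv.prodComm _ _) ∘ e = x ∘ (e.trans (Equiv.prodComm _ _)) := rfl
  have e2 : (y ∘ Equiv.prodComm _ _) ∘ e = y ∘ (e.trans (Equiv.prodComm _ _)) := rfl
  rw [e1, e2] at h1
  rw [h1]
  congr 1
  unfold Cfsg.Geo.formOfGram
  rw [← Equiv.sum_comp (Equiv.prodComm (Fin n₁) (Fin n₂))]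
  refine Finset.sum_congr rfl fun a _ => ?_
  rw [← Equiv.sum_comp (Equiv.prodComm (Fin n₁) (Fin n₂))]
  refine Finset.sum_congr rfl fun b _ => ?_
  simp only [Function.comp_apply, Matrix.kroneckerMap_apply, Equiv.prodComm_apply,
    Prod.fst_swap, Prod.snd_swap]
  ring

theorem Th_det (e : ι ≃ Fin n₁ × Fin n₂) (P : GL ι F) (g : GL (Fin n₁ × Fin n₂) F) :
    ((Th e P g : GL ι F) : Matrix ι ι F).det =
      (g : Matrix (Fin n₁ × Fin n₂) (Fin n₁ × Fin n₂) F).det := by
  unfold Th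
  show ((P * Cfsg.Geo.glReindex e.symm g * P⁻¹ : GL ι F) : Matrix ι ι F).det = _
  rw [Units.val_mul, Units.val_mul, Matrix.det_mul, Matrix.det_mul, glReindex_val,
    Matrix.det_submatrix_equiv_self, mul_comm, ← mul_assoc, ← Matrix.det_mul, ← Units.val_mul,
    inv_mul_cancel, Units.val_one, Matrix.det_one, one_mul]

theorem mem_SL_iff {κ : Type} [Fintype κ] [DecidableEq κ] (g : GL κ F) :
    g ∈ Cfsg.Geo.specialLinear κ F ↔ (g : Matrix κ κ F).det = 1 := by
  unfold Cfsg.Geo.specialLinear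
  rw [MonoidHom.mem_ker]
  constructor
  · intro h
    have := congrArg Units.val h
    rwa [Matrix.GeneralLinearGroup.val_det_apply, Units.val_one] at this
  · intro h
    apply Units.ext
    rw [Matrix.GeneralLinearGroup.val_det_apply, h, Units.val_one]

theorem comap_SL (e : ι ≃ Fin n₁ × Fin n₂) (P : GL ι F) :
    (Cfsg.Geo.specialLinear ι F).comap (Th e P).toMonoidHom =
      Cfsg.Geo.specialLinear (Fin n₁ × Fin n₂) F := by
  ext g
  rw [Subgroup.mem_comap]
  show (Th e P) g ∈ _ ↔ _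
  rw [mem_SL_iff, mem_SL_iff, Th_det]

end swap

section blockdet

variable {n₁ n₂ : ℕ} (k₀ : Fin n₂)

theorem bk_eq_blockDiagonal (A B : Matrix (Fin n₁) (Fin n₁) F) :
    bk k₀ A B = Matrix.blockDiagonal (fun k => if k = k₀ then A else B) := by
  ext ⟨i, k⟩ ⟨j, k'⟩
  unfold bk pj pj'
  rw [Matrix.blockDiagonal_apply]
  simp only [Matrix.add_apply, Matrix.kroneckerMap_apply, Matrix.diagonal_apply]
  by_cases hk : k = k'
  · subst hk
    by_cases hk0 : k = k₀
    · simp [hk0]
    · simp [hk0]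
  · simp [hk]

theorem det_bk_one (A : Matrix (Fin n₁) (Fin n₁) F) : (bk k₀ A 1).det = A.det := by
  rw [bk_eq_blockDiagonal, Matrix.det_blockDiagonal, Finset.prod_eq_single k₀]
  · rw [if_pos rfl]
  · intro k _ hk
    rw [if_neg hk, Matrix.det_one]
  · intro h
    exact absurd (Finset.mem_univ _) h

end blockdet

section frame

variable (φ : F →+* F) (hφφ : ∀ x, φ (φ x) = x) (h2 : (1 : F) + 1 = 0)
  (hN : ∀ x : F, x ≠ 0 → x * φ x = 1) (hφ : ∀ x, φ x = x ^ 2)

section sesq

variable {κ : Type} [Fintype κ] [DecidableEq κ] (f : (κ → F) → (κ → F) → F)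
  (hf : Cfsg.Geo.IsUnitaryFormPow 2 f)

include hφ hf in
theorem uf_conj (x y : κ → F) : f x y = φ (f y x) := by
  rw [hφ]
  exact hf.herm x y

include hφ hf in
theorem uf_add_right (x y z : κ → F) : f x (y + z) = f x y + f x z := by
  rw [uf_conj φ hφ f hf, hf.add_left, map_add, ← uf_conj φ hφ f hf, ← uf_conj φ hφ f hf]

include hφ hf in
theorem uf_smul_right (c : F) (x z : κ → F) : f x (c • z) = φ c * f x z := by
  rw [uf_conj φ hφ f hf, hf.smul_left, map_mul, ← uf_conj φ hφ f hf]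

include hf in
theorem uf_neg_left (x z : κ → F) : f (-x) z = - f x z := by
  have := hf.smul_left (-1) x z
  rwa [neg_one_smul, neg_one_mul] at this

include hf in
theorem uf_sum_left {α : Type*} (s : Finset α) (g : α → (κ → F)) (z : κ → F) :
    f (∑ i ∈ s, g i) z = ∑ i ∈ s, f (g i) z := by
  classical
  induction s using Finset.induction_on with
  | empty =>
    have := hf.smul_left 0 0 z
    simpa using this
  | insert a s ha ih => rw [Finset.sum_insert ha, Finset.sum_insert ha, hf.add_left, ih]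

include hφ hf in
theorem uf_sum_right {α : Type*} (s : Finset α) (g : α → (κ → F)) (z : κ → F) :
    f z (∑ i ∈ s, g i) = ∑ i ∈ s, f z (g i) := by
  rw [uf_conj φ hφ f hf, uf_sum_left f hf, map_sum]
  refine Finset.sum_congr rfl fun i _ => ?_
  rw [← uf_conj φ hφ f hf]

include hφ hf in
/-- a unitary form in terms of its Gram matrix -/
theorem unit_eq_gram (x y : κ → F) : f x y = Bh φ (Cfsg.Geo.gramMatrix f) x y := by
  have hx : x = ∑ a, x a • (Pi.single a (1 : F) : κ → F) := by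
    funext i
    simp [Finset.sum_apply, Pi.single_apply]
  have hy : y = ∑ b, y b • (Pi.single b (1 : F) : κ → F) := by
    funext i
    simp [Finset.sum_apply, Pi.single_apply]
  conv_lhs => rw [hx, hy]
  rw [uf_sum_left f hf]
  unfold Bh
  simp only [dotProduct, Matrix.mulVec, Finset.mul_sum]
  refine Finset.sum_congr rfl fun a _ => ?_
  rw [hf.smul_left, uf_sum_right φ hφ f hf, Finset.mul_sum]
  refine Finset.sum_congr rfl fun b _ => ?_
  rw [uf_smul_right φ hφ f hf]
  unfold Cfsg.Geo.gramMatrix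
  ring

include hφ hf in
theorem gram_herm : (Cfsg.Geo.gramMatrix f)ᵀ = (Cfsg.Geo.gramMatrix f).map φ := by
  ext a b
  rw [Matrix.transpose_apply, Matrix.map_apply]
  unfold Cfsg.Geo.gramMatrix
  exact uf_conj φ hφ f hf _ _

include hφφ h2 hN hφ hf in
theorem uf_norm_eq_one (v : κ → F) (hv : f v v ≠ 0) : f v v = 1 := by
  have h1 : φ (f v v) = f v v := (uf_conj φ hφ f hf v v).symm
  have h3 := hN _ hv
  rw [h1] at h3
  have h4 : (f v v + 1) * (f v v + 1) = 0 := by
    linear_combination h3 + (f v v + 1) * h2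
  have h5 : f v v + 1 = 0 := mul_self_eq_zero.mp h4
  linear_combination h5 - h2

include hφφ h2 hN hφ hf in
/-- a vector of norm one -/
theorem exists_norm_one (htr : ∃ μ : F, μ + φ μ ≠ 0) (v : κ → F) (hv : v ≠ 0) :
    ∃ w, f w w = 1 := by
  by_cases hvv : f v v = 0
  · obtain ⟨x, hx⟩ := (hf.nondegenerate v hv).1
    by_cases hxx : f x x = 0
    · obtain ⟨μ, hμ⟩ := htr
      have hc : φ (f x v) ≠ 0 := fun h => hx (by
        have := congrArg φ h
        rwa [hφφ, map_zero] at this)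
      refine ⟨(μ * (f x v)⁻¹) • x + v, uf_norm_eq_one φ hφφ h2 hN hφ f hf _ ?_⟩
      rw [hf.add_left, uf_add_right φ hφ f hf, uf_add_right φ hφ f hf, hf.smul_left, hf.smul_left,
        uf_smul_right φ hφ f hf, uf_smul_right φ hφ f hf, hxx, hvv, uf_conj φ hφ f hf v x, map_mul,
        map_inv₀]
      intro h0
      apply hμ
      have e1 : μ * (f x v)⁻¹ * f x v = μ := by
        rw [mul_assoc, inv_mul_cancel₀ hx, mul_one]
      have e2 : φ μ * (φ (f x v))⁻¹ * φ (f x v) = φ μ := by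
        rw [mul_assoc, inv_mul_cancel₀ hc, mul_one]
      rw [e1, e2] at h0
      linear_combination h0
    · exact ⟨x, uf_norm_eq_one φ hφφ h2 hN hφ f hf x hxx⟩
  · exact ⟨v, uf_norm_eq_one φ hφφ h2 hN hφ f hf v hvv⟩

end sesq

include hφφ h2 hN hφ in
/-- an orthonormal basis of a binary unitary form -/
theorem exists_orthonormal2 (htr : ∃ μ : F, μ + φ μ ≠ 0) (f : (Fin 2 → F) → (Fin 2 → F) → F)
    (hf : Cfsg.Geo.IsUnitaryFormPow 2 f) :
    ∃ w : Fin 2 → (Fin 2 → F), ∀ i j, f (w i) (w j) = if i = j then 1 else 0 := by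
  have he0 : (Pi.single (0 : Fin 2) (1 : F) : Fin 2 → F) ≠ 0 := by
    intro h
    have := congrFun h 0
    simp at this
  obtain ⟨w₀, hw₀⟩ := exists_norm_one φ hφφ h2 hN hφ f hf htr _ he0
  -- a vector outside the span of `w₀`
  obtain ⟨v, hv⟩ : ∃ v : Fin 2 → F, ∀ c : F, v ≠ c • w₀ := by
    by_contra hcon
    push Not at hcon
    obtain ⟨c₀, hc₀⟩ := hcon (Pi.single 0 1)
    obtain ⟨c₁, hc₁⟩ := hcon (Pi.single 1 1)
    have e00 := congrFun hc₀ 0
    have e01 := congrFun hc₀ 1
    have e10 := congrFun hc₁ 0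
    have e11 := congrFun hc₁ 1
    simp only [Pi.smul_apply, smul_eq_mul, Pi.single_eq_same] at e00 e11
    rw [Pi.single_eq_of_ne (by decide : (1 : Fin 2) ≠ 0)] at e01
    rw [Pi.single_eq_of_ne (by decide : (0 : Fin 2) ≠ 1)] at e10
    simp only [Pi.smul_apply, smul_eq_mul] at e01 e10
    have : (1 : F) = 0 := by
      calc (1 : F) = (c₀ * w₀ 0) * (c₁ * w₀ 1) := by rw [← e00, ← e11, mul_one]
        _ = (c₀ * w₀ 1) * (c₁ * w₀ 0) := by ring
        _ = 0 := by rw [← e01, zero_mul]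
    exact one_ne_zero this
  obtain ⟨w₁, hw₁⟩ : ∃ w₁, w₁ = v + (-(f v w₀)) • w₀ := ⟨_, rfl⟩
  have hw₁0 : w₁ ≠ 0 := by
    intro h
    apply hv (f v w₀)
    rw [hw₁, neg_smul] at h
    exact add_neg_eq_zero.mp h
  have h10 : f w₁ w₀ = 0 := by
    rw [hw₁, hf.add_left, hf.smul_left, hw₀]
    ring
  have h01 : f w₀ w₁ = 0 := by
    rw [uf_conj φ hφ f hf, h10, map_zero]
  have h11 : f w₁ w₁ ≠ 0 := by
    intro h11
    obtain ⟨x, hx⟩ := (hf.nondegenerate w₁ hw₁0).1
    apply hx
    have hli : LinearIndependent F ![w₀, w₁] := by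
      rw [LinearIndependent.pair_iff]
      intro α β hαβ
      have h1 := congrArg (fun z => f z w₀) hαβ
      simp only [hf.add_left, hf.smul_left, hw₀, h10] at h1
      have h0 : f 0 w₀ = 0 := by
        have := hf.smul_left 0 0 w₀
        simpa using this
      rw [h0] at h1
      have hα : α = 0 := by linear_combination h1
      rw [hα, zero_smul, zero_add] at hαβ
      exact ⟨hα, (smul_eq_zero.mp hαβ).resolve_right hw₁0⟩
    have hspan : Submodule.span F (Set.range ![w₀, w₁]) = ⊤ := by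
      apply Submodule.eq_top_of_finrank_eq
      rw [finrank_span_eq_card hli, Fintype.card_fin, Module.finrank_fintype_fun_eq_card,
        Fintype.card_fin]
    have hxs : x ∈ Submodule.span F (Set.range ![w₀, w₁]) := by
      rw [hspan]
      exact Submodule.mem_top
    rw [Matrix.range_cons_cons_empty, Submodule.mem_span_pair] at hxs
    obtain ⟨α, β, rfl⟩ := hxs
    rw [hf.add_left, hf.smul_left, hf.smul_left, h01, h11]
    ring
  have h11' := uf_norm_eq_one φ hφφ h2 hN hφ f hf w₁ h11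
  refine ⟨![w₀, w₁], ?_⟩
  intro i j
  fin_cases i <;> fin_cases j
  · simpa using hw₀
  · simpa using h01
  · simpa using h10
  · simpa using h11'

end frame

end Cfsg.Agent.H28TF
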