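import Mathlib
import Cfsg.Agent.Lib.Helper28.TensUnitB
set_option autoImplicit false
open Cfsg
namespace Cfsg.Agent.H28TF
open Matrix Kronecker

variable {F : Type*} [Field F]

section normal

variable (φ : F →+* F) (hφφ : ∀ x, φ (φ x) = x) (h2 : (1 : F) + 1 = 0)
  (hN : ∀ x : F, x ≠ 0 → x * φ x = 1) (hφ : ∀ x, φ x = x ^ 2)

theorem gram_congr_apply_h {κ : Type} [Fintype κ] [DecidableEq κ] (G W : Matrix κ κ F) (i j : κ) :
    (Wᵀ * G * W.map φ) i j = Bh φ G (fun k => W k i) (fun k => W k j) := by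
  rw [← Bh_single φ (Wᵀ * G * W.map φ) i j, ← Bh_mulVec, Matrix.mulVec_single_one,
    Matrix.mulVec_single_one]
  rfl

theorem one_kron_map {n₁ n₂ : ℕ} (W : Matrix (Fin n₂) (Fin n₂) F) :
    ((1 : Matrix (Fin n₁) (Fin n₁) F) ⊗ₖ W).map φ =
      (1 : Matrix (Fin n₁) (Fin n₁) F) ⊗ₖ W.map φ := by
  ext ⟨i, j⟩ ⟨i', j'⟩
  simp only [Matrix.map_apply, Matrix.kroneckerMap_apply, Matrix.one_apply]
  split_ifs <;> simp

variable {ι : Type} [Fintype ι] [DecidableEq ι] {n₁ : ℕ}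

include hφφ h2 hN hφ in
/-- the normal form of a tensor form structure whose second factor is a binary unitary form
over the field with four elements -/
theorem exists_normal_form_u (htr : ∃ μ : F, μ + φ μ ≠ 0)
    (f : (ι → F) → (ι → F) → F) (f₁ : (Fin n₁ → F) → (Fin n₁ → F) → F)
    (f₂ : (Fin 2 → F) → (Fin 2 → F) → F) (hf₂ : Cfsg.Geo.IsUnitaryFormPow 2 f₂)
    (e : ι ≃ Fin n₁ × Fin 2) (P : GL ι F)
    (hT : Cfsg.Geo.IsTensorFormStructure (⇑φ) f f₁ f₂ e P) :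
    ∃ (P' : GL ι F) (c : F), c ≠ 0 ∧
      Cfsg.Geo.tensorProductSubgroup n₁ 2 e P' = Cfsg.Geo.tensorProductSubgroup n₁ 2 e P ∧
      ∀ x y, f (ps e P' x) (ps e P' y) =
        c * Cfsg.Geo.formOfGram (⇑φ)
          (Cfsg.Geo.gramMatrix f₁ ⊗ₖ (1 : Matrix (Fin 2) (Fin 2) F)) x y := by
  obtain ⟨c, hc0, hT⟩ := hT
  obtain ⟨w, hw⟩ := exists_orthonormal2 φ hφφ h2 hN hφ htr f₂ hf₂
  obtain ⟨W, hW⟩ : ∃ W : Matrix (Fin 2) (Fin 2) F, W = Matrix.of (fun j i => w i j) := ⟨_, rfl⟩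
  have hWG : Wᵀ * Cfsg.Geo.gramMatrix f₂ * W.map φ = (1 : Matrix (Fin 2) (Fin 2) F) := by
    ext i j
    rw [gram_congr_apply_h]
    have e1 : (fun k => W k i) = w i := by
      funext k
      rw [hW]
      rfl
    have e2 : (fun k => W k j) = w j := by
      funext k
      rw [hW]
      rfl
    rw [e1, e2, ← unit_eq_gram φ hφ f₂ hf₂, hw, Matrix.one_apply]
  have hdet : W.det ≠ 0 := by
    intro h0
    have := congrArg Matrix.det hWG
    rw [Matrix.det_mul, Matrix.det_mul, Matrix.det_transpose, h0, zero_mul, zero_mul,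
      Matrix.det_one] at this
    exact zero_ne_one this
  obtain ⟨Wg, hWg⟩ : ∃ Wg : GL (Fin 2) F, (Wg : Matrix (Fin 2) (Fin 2) F) = W :=
    ⟨Matrix.GeneralLinearGroup.mkOfDetNeZero W hdet, rfl⟩
  obtain ⟨u, hu⟩ : ∃ u : GL (Fin n₁ × Fin 2) F, u = kronGL 1 Wg := ⟨_, rfl⟩
  have huval : (u : Matrix (Fin n₁ × Fin 2) (Fin n₁ × Fin 2) F) =
      (1 : Matrix (Fin n₁) (Fin n₁) F) ⊗ₖ W := by
    rw [hu]
    show ((1 : GL (Fin n₁) F) : Matrix (Fin n₁) (Fin n₁) F) ⊗ₖ (Wg : Matrix (Fin 2) (Fin 2) F) = _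
    rw [hWg, Units.val_one]
  have hukron : u ∈ Cfsg.Geo.kroneckerSubgroup n₁ 2 F := (mem_kron_iff u).mpr ⟨1, Wg, hu⟩
  refine ⟨P * Cfsg.Geo.glReindex e.symm u, c, hc0, tps_mul e P u hukron, ?_⟩
  intro x y
  rw [ps_mul, ps_mul]
  have := hT ((u : Matrix (Fin n₁ × Fin 2) (Fin n₁ × Fin 2) F) *ᵥ x)
    ((u : Matrix (Fin n₁ × Fin 2) (Fin n₁ × Fin 2) F) *ᵥ y)
  unfold ps
  rw [this, formOfGram_phi, formOfGram_phi, Bh_mulVec, huval, one_kron_map,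
    ← Matrix.kroneckerMap_transpose, Matrix.transpose_one, ← Matrix.mul_kronecker_mul,
    ← Matrix.mul_kronecker_mul, one_mul, mul_one, hWG]

end normal

section mono

variable (φ : F →+* F) (h2 : (1 : F) + 1 = 0) (hN : ∀ x : F, x ≠ 0 → x * φ x = 1)

include h2 hN in
/-- a vector of norm one in the plane over the field with four elements has exactly one
non-zero coordinate -/
theorem unit_vec2 (w : Fin 2 → F) (hw : ∑ k, w k * φ (w k) = 1) :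
    ∃ (k : Fin 2) (t : F), w = t • Pi.single k 1 := by
  rw [Fin.sum_univ_two] at hw
  have hrep : ∀ (k : Fin 2), (∀ j, j ≠ k → w j = 0) → w = w k • Pi.single k 1 := by
    intro k hk
    funext j
    by_cases hj : j = k
    · subst hj
      simp
    · rw [hk j hj]
      simp [hj]
  by_cases h0 : w 0 = 0 <;> by_cases h1 : w 1 = 0
  · exfalso
    rw [h0, h1] at hw
    simp at hw
  · refine ⟨1, w 1, hrep 1 ?_⟩
    intro j hj
    fin_cases j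
    · exact h0
    · exact absurd rfl hj
  · refine ⟨0, w 0, hrep 0 ?_⟩
    intro j hj
    fin_cases j
    · exact absurd rfl hj
    · exact h1
  · exfalso
    rw [hN _ h0, hN _ h1] at hw
    have : (1 : F) = 0 := by linear_combination h2 - hw
    exact one_ne_zero this

include h2 hN in
/-- a Kronecker product preserving the sesquilinear form `G₁ ⊗ 1` preserves the set of the
vectors supported in a single column -/
theorem kron_isomh_maps {n₁ : ℕ} (G₁ : Matrix (Fin n₁) (Fin n₁) F)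
    (hG₁ : ∃ x y : Fin n₁ → F, Bh φ G₁ x y ≠ 0)
    (g : GL (Fin n₁ × Fin 2) F) (hgk : g ∈ Cfsg.Geo.kroneckerSubgroup n₁ 2 F)
    (hgi : g ∈ Cfsg.preserving (Cfsg.glToMat (Fin n₁ × Fin 2) F)
      (Cfsg.Geo.formOfGram (⇑φ) (G₁ ⊗ₖ (1 : Matrix (Fin 2) (Fin 2) F))))
    (v : Fin n₁ × Fin 2 → F) (hv : v ∈ SS n₁ 2 F) :
    (g : Matrix (Fin n₁ × Fin 2) (Fin n₁ × Fin 2) F) *ᵥ v ∈ SS n₁ 2 F := by
  obtain ⟨a, b, hg⟩ := hgk
  obtain ⟨x₀, y₀, hxy⟩ := hG₁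
  have hpres : ∀ (x y : Fin n₁ → F) (w z : Fin 2 → F),
      Bh φ G₁ ((a : Matrix (Fin n₁) (Fin n₁) F) *ᵥ x) ((a : Matrix (Fin n₁) (Fin n₁) F) *ᵥ y) *
        Bh φ (1 : Matrix (Fin 2) (Fin 2) F) ((b : Matrix (Fin 2) (Fin 2) F) *ᵥ w)
          ((b : Matrix (Fin 2) (Fin 2) F) *ᵥ z) =
      Bh φ G₁ x y * Bh φ (1 : Matrix (Fin 2) (Fin 2) F) w z := by
    intro x y w z
    have h2' : Cfsg.Geo.formOfGram (⇑φ) (G₁ ⊗ₖ (1 : Matrix (Fin 2) (Fin 2) F))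
        ((g : Matrix (Fin n₁ × Fin 2) (Fin n₁ × Fin 2) F) *ᵥ tp x w)
        ((g : Matrix (Fin n₁ × Fin 2) (Fin n₁ × Fin 2) F) *ᵥ tp y z) =
        Cfsg.Geo.formOfGram (⇑φ) (G₁ ⊗ₖ (1 : Matrix (Fin 2) (Fin 2) F)) (tp x w) (tp y z) :=
      hgi (tp x w) (tp y z)
    rw [hg, kron_mulVec_tp, kron_mulVec_tp, formOfGram_phi, formOfGram_phi, Bh_tp, Bh_tp] at h2'
    exact h2'
  obtain ⟨α, hα⟩ : ∃ α, α = Bh φ G₁ ((a : Matrix (Fin n₁) (Fin n₁) F) *ᵥ x₀)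
    ((a : Matrix (Fin n₁) (Fin n₁) F) *ᵥ y₀) := ⟨_, rfl⟩
  obtain ⟨β, hβ⟩ : ∃ β, β = Bh φ G₁ x₀ y₀ := ⟨_, rfl⟩
  have hαβ : ∀ w z : Fin 2 → F, α * Bh φ (1 : Matrix (Fin 2) (Fin 2) F)
      ((b : Matrix (Fin 2) (Fin 2) F) *ᵥ w) ((b : Matrix (Fin 2) (Fin 2) F) *ᵥ z) =
      β * Bh φ (1 : Matrix (Fin 2) (Fin 2) F) w z := by
    intro w z
    rw [hα, hβ]
    exact hpres x₀ y₀ w z
  have hnorm1 : ∀ i : Fin 2, Bh φ (1 : Matrix (Fin 2) (Fin 2) F) (Pi.single i 1) (Pi.single i 1) = 1 := by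
    intro i
    rw [Bh_single, Matrix.one_apply_eq]
  have hα0 : α ≠ 0 := by
    intro h0
    have := hαβ (Pi.single 0 1) (Pi.single 0 1)
    rw [h0, zero_mul, hnorm1, mul_one] at this
    exact hxy (by rw [← hβ]; exact this.symm)
  obtain ⟨l, hl⟩ : ∃ l, l = α⁻¹ * β := ⟨_, rfl⟩
  have hl0 : l ≠ 0 := by
    rw [hl]
    exact mul_ne_zero (inv_ne_zero hα0) (by rw [hβ]; exact hxy)
  have hb : ∀ w z : Fin 2 → F, Bh φ (1 : Matrix (Fin 2) (Fin 2) F)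
      ((b : Matrix (Fin 2) (Fin 2) F) *ᵥ w) ((b : Matrix (Fin 2) (Fin 2) F) *ᵥ z) =
      l * Bh φ (1 : Matrix (Fin 2) (Fin 2) F) w z := by
    intro w z
    rw [hl, mul_assoc, ← hαβ w z, ← mul_assoc, inv_mul_cancel₀ hα0, one_mul]
  have hnv : ∀ t : F, t * φ t = 0 ∨ t * φ t = 1 := by
    intro t
    by_cases ht : t = 0
    · left
      rw [ht, zero_mul]
    · right
      exact hN t ht
  have hl1 : l = 1 := by
    have h := hb (Pi.single 0 1) (Pi.single 0 1)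
    rw [hnorm1, mul_one, Bh_one, Fin.sum_univ_two] at h
    rcases hnv (((b : Matrix (Fin 2) (Fin 2) F) *ᵥ Pi.single 0 1) 0) with h0 | h0 <;>
      rcases hnv (((b : Matrix (Fin 2) (Fin 2) F) *ᵥ Pi.single 0 1) 1) with h1 | h1 <;>
      rw [h0, h1] at h
    · exact absurd (by rw [← h]; ring) hl0
    · rw [← h]; ring
    · rw [← h]; ring
    · exact absurd (by rw [← h]; exact h2) hl0
  rw [hl1] at hb
  obtain ⟨i, x, rfl⟩ := hv
  rw [hg, kron_mulVec_tp]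
  have hnorm : ∑ k, ((b : Matrix (Fin 2) (Fin 2) F) *ᵥ Pi.single i 1) k *
      φ (((b : Matrix (Fin 2) (Fin 2) F) *ᵥ Pi.single i 1) k) = 1 := by
    rw [← Bh_one, hb, one_mul, hnorm1]
  obtain ⟨k, t, hkt⟩ := unit_vec2 φ h2 hN _ hnorm
  rw [hkt, tp_smul_right, ← tp_smul_left]
  exact ⟨k, _, rfl⟩

end mono

end Cfsg.Agent.H28TF
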