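import Mathlib
import Cfsg.Agent.Lib.Helper28.SpInSL
import Cfsg.Agent.Lib.Helper28.FieldInvolution

set_option autoImplicit false
set_option linter.unusedSectionVars false

/-! The similarity group of a unitary form is a maximal subgroup of the special linear group
(helper28). -/

namespace Cfsg.Agent.Helper28.UnitInSL

open Matrix Cfsg Cfsg.Agent.Helper28 Cfsg.Agent.Helper28.SubspaceMax Cfsg.Agent.Helper28.SpInSL

variable {F : Type*} [Field F] {n : ℕ} {σ : F ≃+* F} {f : (Fin n → F) → (Fin n → F) → F}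

section basic

variable (hf : Cfsg.Geo.IsUnitaryForm σ f)

include hf in
theorem f_add_right (v x y : Fin n → F) : f v (x + y) = f v x + f v y := by
  rw [hf.herm, hf.add_left, map_add, ← hf.herm, ← hf.herm]

include hf in
theorem f_smul_right (c : F) (v x : Fin n → F) : f v (c • x) = σ c * f v x := by
  rw [hf.herm, hf.smul_left, map_mul, ← hf.herm]

include hf in
theorem f_zero_left (a : Fin n → F) : f 0 a = 0 := by
  have := hf.smul_left 0 0 a
  rwa [zero_smul, zero_mul] at this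

include hf in
theorem f_zero_right (a : Fin n → F) : f a 0 = 0 := by
  rw [hf.herm, f_zero_left hf, map_zero]

include hf in
theorem f_neg_left (a b : Fin n → F) : f (-a) b = - f a b := by
  have := hf.smul_left (-1) a b
  rwa [neg_one_smul, neg_one_mul] at this

include hf in
theorem f_neg_right (a b : Fin n → F) : f a (-b) = - f a b := by
  rw [hf.herm, f_neg_left hf, map_neg, ← hf.herm]

include hf in
theorem f_sub_left (a b c : Fin n → F) : f (a - b) c = f a c - f b c := by
  rw [sub_eq_add_neg, hf.add_left, f_neg_left hf, ← sub_eq_add_neg]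

include hf in
theorem f_sub_right (a b c : Fin n → F) : f a (b - c) = f a b - f a c := by
  rw [sub_eq_add_neg, f_add_right hf, f_neg_right hf, ← sub_eq_add_neg]

include hf in
theorem f_self_fixed (v : Fin n → F) : σ (f v v) = f v v := (hf.herm v v).symm

include hf in
theorem f_comm_zero {v w : Fin n → F} (h : f v w = 0) : f w v = 0 := by
  rw [hf.herm, h, map_zero]

include hf in
theorem f_comm_ne {v w : Fin n → F} (h : f v w ≠ 0) : f w v ≠ 0 := fun h' =>
  h (f_comm_zero hf h')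

include hf in
theorem fv_dot (a x : Fin n → F) : fv f a ⬝ᵥ x = f x a := by
  let L : (Fin n → F) →ₗ[F] F :=
    { toFun := fun x => f x a
      map_add' := fun x y => hf.add_left x y a
      map_smul' := fun c x => by simp [hf.smul_left] }
  have h := LinearMap.pi_apply_eq_sum_univ L x
  show fv f a ⬝ᵥ x = L x
  rw [h]
  unfold dotProduct fv
  apply Finset.sum_congr rfl
  intro i _
  rw [smul_eq_mul, mul_comm]
  congr 1
  show f (Pi.single i 1) a = f (fun j => if i = j then 1 else 0) a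
  congr 1
  ext j
  rw [Pi.single_apply]
  by_cases h : j = i
  · rw [if_pos h, if_pos h.symm]
  · rw [if_neg h, if_neg (Ne.symm h)]

include hf in
theorem fv_add (a b : Fin n → F) : fv f (a + b) = fv f a + fv f b := by
  ext j
  simp only [fv, Pi.add_apply, f_add_right hf]

include hf in
theorem fv_smul (c : F) (a : Fin n → F) : fv f (c • a) = σ c • fv f a := by
  ext j
  simp only [fv, Pi.smul_apply, f_smul_right hf, smul_eq_mul]

include hf in
theorem fv_sub (a b : Fin n → F) : fv f (a - b) = fv f a - fv f b := by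
  ext j
  simp only [fv, Pi.sub_apply, f_sub_right hf]

include hf in
theorem fv_injective : Function.Injective (fv f) := by
  intro a b hab
  by_contra hne
  have hne' : a - b ≠ 0 := sub_ne_zero.mpr hne
  obtain ⟨⟨x, hx⟩, -⟩ := hf.nondegenerate (a - b) hne'
  apply hx
  rw [← fv_dot hf, fv_sub hf, hab, sub_self, zero_dotProduct]

include hf in
theorem fv_surjective [Finite F] (l : Fin n → F) : ∃ a, fv f a = l :=
  (Finite.injective_iff_surjective.mp (fv_injective hf)) l

/-- a functional vanishing on the kernel of another one is a multiple of it -/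
theorem exists_smul_of_ker (l l' : Fin n → F) (h : ∀ y : Fin n → F, l' ⬝ᵥ y = 0 → l ⬝ᵥ y = 0) :
    ∃ β : F, l = β • l' := by
  by_cases h0 : l' = 0
  · refine ⟨0, ?_⟩
    rw [zero_smul]
    ext i
    have := h (Pi.single i 1) (by rw [h0, zero_dotProduct])
    rw [dotProduct_single, mul_one] at this
    exact this
  · obtain ⟨i, hi⟩ : ∃ i, l' i ≠ 0 := by
      by_contra hcon
      push Not at hcon
      exact h0 (funext hcon)
    refine ⟨l i / l' i, ?_⟩
    ext j
    have := h (Pi.single j 1 - (l' j / l' i) • Pi.single i 1) (by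
      rw [dotProduct_sub, dotProduct_smul, dotProduct_single, dotProduct_single, mul_one, mul_one,
        smul_eq_mul, div_mul_cancel₀ _ hi, sub_self])
    rw [dotProduct_sub, dotProduct_smul, dotProduct_single, dotProduct_single, mul_one, mul_one,
      smul_eq_mul] at this
    rw [Pi.smul_apply, smul_eq_mul, sub_eq_zero.mp this]
    ring

include hf in
/-- a vector orthogonal to the whole orthogonal complement of `u` is a multiple of `u` -/
theorem exists_smul_of_perp (u w : Fin n → F) (h : ∀ y : Fin n → F, f y u = 0 → f y w = 0) :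
    ∃ β : F, w = β • u := by
  obtain ⟨β, hβ⟩ := exists_smul_of_ker (fv f w) (fv f u) (by
    intro y hy
    rw [fv_dot hf] at hy ⊢
    exact h y hy)
  refine ⟨σ β, ?_⟩
  apply fv_injective hf
  rw [fv_smul hf, hf.involutive, hβ]

include hf in
/-- a partner in the orthogonal complement of `u` for a vector not on the line of `u` -/
theorem exists_partner_in_perp (u w : Fin n → F) (hw : ∀ β : F, w ≠ β • u) :
    ∃ y : Fin n → F, f y u = 0 ∧ f y w ≠ 0 := by
  by_contra hcon
  push Not at hcon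
  obtain ⟨β, hβ⟩ := exists_smul_of_perp hf u w hcon
  exact hw β hβ

end basic

section field

variable (hσ : σ ≠ RingEquiv.refl F) (hσσ : ∀ a : F, σ (σ a) = a)

include hσ in
theorem exists_not_fixed : ∃ a : F, σ a ≠ a := by
  by_contra hcon
  push Not at hcon
  apply hσ
  ext a
  exact hcon a

include hσ hσσ in
/-- a non-zero element of trace zero -/
theorem exists_trace_zero : ∃ c : F, c ≠ 0 ∧ c + σ c = 0 := by
  obtain ⟨a, ha⟩ := exists_not_fixed hσ
  refine ⟨a - σ a, ?_, ?_⟩
  · intro h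
    exact ha (sub_eq_zero.mp h).symm
  · rw [map_sub, hσσ]
    ring

include hσ in
theorem exists_trace_ne : ∃ a : F, a + σ a ≠ 0 := by
  by_contra hcon
  push Not at hcon
  have h1 := hcon 1
  rw [map_one] at h1
  obtain ⟨a, ha⟩ := exists_not_fixed hσ
  apply ha
  have h2 : σ a = -a := by linear_combination hcon a
  rw [h2]
  linear_combination (-a) * h1

include hσ hσσ in
/-- the trace is onto the fixed field -/
theorem exists_trace_eq (t : F) (ht : σ t = t) : ∃ x : F, x + σ x = t := by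
  obtain ⟨a, ha⟩ := exists_trace_ne hσ
  have hs : σ (a + σ a) = a + σ a := by rw [map_add, hσσ, add_comm]
  refine ⟨t * a / (a + σ a), ?_⟩
  rw [map_div₀, map_mul, hs, ht]
  field_simp

include hσ hσσ in
/-- the norm is onto the non-zero elements of the fixed field -/
theorem exists_norm_eq' [Finite F] (t : F) (ht0 : t ≠ 0) (ht : σ t = t) : ∃ x : F, x * σ x = t := by
  have h1 : (σ : F →+* F) ≠ RingHom.id F := by
    intro h
    apply hσ
    ext a
    have := congrArg (fun φ : F →+* F => φ a) h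
    exact this
  exact exists_norm_eq (σ : F →+* F) h1 hσσ ht0 ht

end field

section iso

variable [Fintype F] (hf : Cfsg.Geo.IsUnitaryForm σ f)

include hf in
/-- correcting a vector by a multiple of an isotropic vector to make it isotropic -/
theorem exists_iso_sub (w y : Fin n → F) (hw : f w w = 0) (hwy : f w y ≠ 0) :
    ∃ c : F, f (y - c • w) (y - c • w) = 0 := by
  obtain ⟨x, hx⟩ := exists_trace_eq hf.ne_refl hf.involutive (f y y) (f_self_fixed hf y)
  refine ⟨x / f w y, ?_⟩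
  rw [f_sub_left hf, f_sub_right hf, f_sub_right hf, hf.smul_left, hf.smul_left,
    f_smul_right hf, f_smul_right hf, hw, hf.herm y w, map_div₀, ← hf.herm y w,
    hf.herm y w]
  have h1 : x / f w y * f w y = x := div_mul_cancel₀ _ hwy
  have h2 : σ x / σ (f w y) * σ (f w y) = σ x := by
    apply div_mul_cancel₀
    rw [← hf.herm y w]
    exact f_comm_ne hf hwy
  rw [h2, h1]
  linear_combination -hx

include hf in
/-- a subspace of dimension at least two contains a non-zero isotropic vector -/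
theorem exists_iso_in (S : Submodule F (Fin n → F)) (hS : 2 ≤ Module.finrank F S) :
    ∃ w ∈ S, w ≠ 0 ∧ f w w = 0 := by
  have : Module.Finite F S := Module.finite_of_finrank_pos (by omega)
  let b := Module.finBasis F S
  let e : Fin 2 → Fin (Module.finrank F S) := Fin.castLE hS
  have hli2 : LinearIndependent F (fun i : Fin 2 => ((b (e i) : S) : Fin n → F)) :=
    (b.linearIndependent.comp e (Fin.castLE_injective hS)).map' S.subtype (Submodule.ker_subtype S)
  rw [Fintype.linearIndependent_iff] at hli2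
  obtain ⟨x, hxdef⟩ : ∃ x : Fin n → F, x = ((b (e 0) : S) : Fin n → F) := ⟨_, rfl⟩
  obtain ⟨y, hydef⟩ : ∃ y : Fin n → F, y = ((b (e 1) : S) : Fin n → F) := ⟨_, rfl⟩
  have hxS : x ∈ S := by rw [hxdef]; exact (b (e 0)).2
  have hyS : y ∈ S := by rw [hydef]; exact (b (e 1)).2
  have hind : ∀ α β : F, α • x + β • y = 0 → α = 0 ∧ β = 0 := by
    intro α β h
    have := hli2 ![α, β] (by
      rw [Fin.sum_univ_two]
      simp only [Matrix.cons_val_zero, Matrix.cons_val_one]
      rw [← hxdef, ← hydef]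
      exact h)
    exact ⟨this 0, this 1⟩
  by_cases hxx : f x x = 0
  · refine ⟨x, hxS, ?_, hxx⟩
    intro h0
    have := (hind 1 0 (by rw [h0, smul_zero, zero_smul, add_zero])).1
    exact one_ne_zero this
  obtain ⟨y', hy'def⟩ : ∃ y', y' = y - (f y x / f x x) • x := ⟨_, rfl⟩
  have hy'S : y' ∈ S := by rw [hy'def]; exact S.sub_mem hyS (S.smul_mem _ hxS)
  have hy'x : f y' x = 0 := by
    rw [hy'def, f_sub_left hf, hf.smul_left, div_mul_cancel₀ _ hxx, sub_self]
  have hxy' : f x y' = 0 := f_comm_zero hf hy'x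
  have hy'0 : y' ≠ 0 := by
    intro h0
    have := (hind (-(f y x / f x x)) 1 (by
      rw [neg_smul, one_smul, neg_add_eq_sub, ← hy'def, h0])).2
    exact one_ne_zero this
  by_cases hyy : f y' y' = 0
  · exact ⟨y', hy'S, hy'0, hyy⟩
  have ht : σ (-f x x / f y' y') = -f x x / f y' y' := by
    rw [map_div₀, map_neg, f_self_fixed hf, f_self_fixed hf]
  have ht0 : -f x x / f y' y' ≠ 0 := div_ne_zero (neg_ne_zero.mpr hxx) hyy
  obtain ⟨c, hc⟩ := exists_norm_eq' hf.ne_refl hf.involutive _ ht0 ht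
  refine ⟨x + c • y', S.add_mem hxS (S.smul_mem _ hy'S), ?_, ?_⟩
  · intro h0
    rw [hy'def, smul_sub, smul_smul] at h0
    have := hind (1 - c * (f y x / f x x)) c (by
      rw [sub_smul, one_smul]
      rw [← h0]
      abel)
    have h1 := this.1
    rw [this.2, zero_mul, sub_zero] at h1
    exact one_ne_zero h1
  · rw [hf.add_left, f_add_right hf, f_add_right hf, hf.smul_left, hf.smul_left,
      f_smul_right hf, f_smul_right hf, hxy', hy'x]
    have : c * σ c * f y' y' = -f x x := by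
      rw [hc, div_mul_cancel₀ _ hyy]
    linear_combination this

include hf in
/-- a non-zero isotropic vector satisfying a few linear conditions -/
theorem exists_iso_perp (k : ℕ) (L : Fin k → (Fin n → F)) (hk : k + 2 ≤ n) :
    ∃ w : Fin n → F, w ≠ 0 ∧ f w w = 0 ∧ ∀ i, L i ⬝ᵥ w = 0 := by
  let Φ : (Fin n → F) →ₗ[F] (Fin k → F) := Matrix.mulVecLin (Matrix.of L)
  have h1 := LinearMap.finrank_range_add_finrank_ker Φ
  have h2 := Submodule.finrank_le (LinearMap.range Φ)
  rw [Module.finrank_fintype_fun_eq_card, Fintype.card_fin] at h1 h2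
  obtain ⟨w, hwS, hw0, hww⟩ := exists_iso_in hf (LinearMap.ker Φ) (by omega)
  refine ⟨w, hw0, hww, fun i => ?_⟩
  have := congrFun (LinearMap.mem_ker.mp hwS) i
  exact this

end iso

section transv

variable (hf : Cfsg.Geo.IsUnitaryForm σ f)

include hf in
theorem ut_dot (w : Fin n → F) (hw : f w w = 0) (c : F) : (c • fv f w) ⬝ᵥ w = 0 := by
  rw [smul_dotProduct, fv_dot hf, hw, smul_zero]

include hf in
theorem ut_mulVec (w : Fin n → F) (hw : f w w = 0) (c : F) (x : Fin n → F) :
    ((tv w (c • fv f w) : GL (Fin n) F) : Matrix (Fin n) (Fin n) F) *ᵥ x = x + (c * f x w) • w := by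
  rw [tv_mulVec _ _ _ (ut_dot hf w hw c), smul_dotProduct, fv_dot hf, smul_eq_mul]

include hf in
/-- unitary transvections are isometries of determinant one -/
theorem ut_mem (w : Fin n → F) (hw : f w w = 0) (c : F) (hc : c + σ c = 0) :
    tv w (c • fv f w) ∈ Cfsg.Geo.similarityGroup f ⊓ Cfsg.Geo.specialLinear (Fin n) F := by
  refine ⟨⟨1, fun x y => ?_⟩, tv_mem_specialLinear _ _⟩
  rw [ut_mulVec hf w hw, ut_mulVec hf w hw, hf.add_left, f_add_right hf, f_add_right hf,
    hf.smul_left, hf.smul_left, f_smul_right hf, f_smul_right hf, hw, map_mul, ← hf.herm w y,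
    Units.val_one]
  linear_combination (f x w * f w y) * hc

include hf in
/-- conjugating by a unitary transvection fixing the centre -/
theorem ax_step (M : Subgroup (GL (Fin n) F))
    (hHM : Cfsg.Geo.similarityGroup f ⊓ Cfsg.Geo.specialLinear (Fin n) F ≤ M)
    (u l w : Fin n → F) (hl : l ∈ Ax M u) (hw : f w w = 0) (hwu : f u w = 0) (c : F)
    (hc : c + σ c = 0) : (c * (l ⬝ᵥ w)) • fv f w ∈ Ax M u := by
  have hc' : -c + σ (-c) = 0 := by rw [map_neg]; linear_combination -hc
  have hfix : ((tv w ((-c) • fv f w) : GL (Fin n) F) : Matrix (Fin n) (Fin n) F) *ᵥ u = u := by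
    rw [ut_mulVec hf w hw, hwu, mul_zero, zero_smul, add_zero]
  have hmem : tv w ((-c) • fv f w) ∈ M := hHM (ut_mem hf w hw (-c) hc')
  obtain ⟨l', hl'def⟩ : ∃ l', l' = l ᵥ*
      (((tv w ((-c) • fv f w))⁻¹ : GL (Fin n) F) : Matrix (Fin n) (Fin n) F) := ⟨_, rfl⟩
  have hl'g : l' ᵥ* ((tv w ((-c) • fv f w) : GL (Fin n) F) : Matrix (Fin n) (Fin n) F) = l := by
    rw [hl'def, Matrix.vecMul_vecMul, ← Units.val_mul, inv_mul_cancel, Units.val_one,
      Matrix.vecMul_one]
  obtain ⟨h0, hconj⟩ := conj_tv (tv w ((-c) • fv f w)) u l u l' hl.1 hfix.symm hl'g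
  have hl'M : l' ∈ Ax M u := by
    refine ⟨h0, ?_⟩
    rw [← hconj]
    exact M.mul_mem (M.mul_mem hmem hl.2) (M.inv_mem hmem)
  have hl'val : l' = l + (c * (l ⬝ᵥ w)) • fv f w := by
    rw [hl'def, tv_inv _ _ (ut_dot hf w hw (-c)), vecMul_tv _ _ _ (by
      rw [neg_dotProduct, ut_dot hf w hw (-c), neg_zero])]
    rw [neg_smul, neg_neg, smul_smul, mul_comm]
  have := ax_sub M u _ _ hl'M hl
  rw [hl'val, add_sub_cancel_left] at this
  exact this

end transv

section spread

variable [Fintype F] (hf : Cfsg.Geo.IsUnitaryForm σ f)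

include hf in
/-- a transvection of `M` whose axis is not the unitary one forces all transvections with the
same centre -/
theorem cen_of_ax (hn : 6 ≤ n) (M : Subgroup (GL (Fin n) F))
    (hHM : Cfsg.Geo.similarityGroup f ⊓ Cfsg.Geo.specialLinear (Fin n) F ≤ M)
    (u l₀ y₀ : Fin n → F) (hu : u ≠ 0) (hl₀ : l₀ ∈ Ax M u) (hy₀ : f y₀ u = 0)
    (hly : l₀ ⬝ᵥ y₀ ≠ 0) : u ∈ Cen M := by
  obtain ⟨c₀, hc₀, hc₀tr⟩ := exists_trace_zero hf.ne_refl hf.involutive
  obtain ⟨-, ⟨v₁, hv₁⟩⟩ := hf.nondegenerate u hu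
  -- an isotropic vector of the complement off the line of `u`
  have hoff : ∀ w : Fin n → F, w ≠ 0 → f w v₁ = 0 → ∀ β : F, w ≠ β • u := by
    intro w hw0 hwv β hβ
    rw [hβ, hf.smul_left] at hwv
    rcases mul_eq_zero.mp hwv with h | h
    · apply hw0
      rw [hβ, h, zero_smul]
    · exact hv₁ h
  obtain ⟨w, hw0, hww, hwL⟩ := exists_iso_perp hf 2 ![fv f u, fv f v₁] (by omega)
  have hwu : f w u = 0 := by
    have := hwL 0
    rwa [Matrix.cons_val_zero, fv_dot hf] at this
  have hwv : f w v₁ = 0 := by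
    have := hwL 1
    rwa [Matrix.cons_val_one, Matrix.cons_val_zero, fv_dot hf] at this
  obtain ⟨y, hyu, hyw⟩ := exists_partner_in_perp hf u w (hoff w hw0 hwv)
  -- an isotropic vector of the complement on which the axis does not vanish
  obtain ⟨w₁, hw₁w₁, hw₁u, hlw₁⟩ : ∃ w₁ : Fin n → F, f w₁ w₁ = 0 ∧ f w₁ u = 0 ∧ l₀ ⬝ᵥ w₁ ≠ 0 := by
    by_cases h1 : l₀ ⬝ᵥ w = 0
    · obtain ⟨y', hy'u, hy'w, hly'⟩ : ∃ y' : Fin n → F, f y' u = 0 ∧ f y' w ≠ 0 ∧ l₀ ⬝ᵥ y' ≠ 0 := by
        by_cases h2 : f y₀ w = 0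
        · by_cases h3 : l₀ ⬝ᵥ y = 0
          · refine ⟨y₀ + y, ?_, ?_, ?_⟩
            · rw [hf.add_left, hy₀, hyu, add_zero]
            · rw [hf.add_left, h2, zero_add]; exact hyw
            · rw [dotProduct_add, h3, add_zero]; exact hly
          · exact ⟨y, hyu, hyw, h3⟩
        · exact ⟨y₀, hy₀, h2, hly⟩
      obtain ⟨c, hc⟩ := exists_iso_sub hf w y' hww (f_comm_ne hf hy'w)
      refine ⟨y' - c • w, hc, ?_, ?_⟩
      · rw [f_sub_left hf, hf.smul_left, hy'u, hwu, mul_zero, sub_zero]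
      · rw [dotProduct_sub, dotProduct_smul, h1, smul_zero, sub_zero]; exact hly'
    · exact ⟨w, hww, hwu, h1⟩
  -- a second isotropic vector, orthogonal to the first, in the kernel of the axis
  obtain ⟨w₂, hw₂0, hw₂w₂, hw₂L⟩ := exists_iso_perp hf 4 ![fv f u, fv f v₁, fv f w₁, l₀] (by omega)
  have hw₂u : f w₂ u = 0 := by
    have := hw₂L 0
    rwa [Matrix.cons_val_zero, fv_dot hf] at this
  have hw₂v : f w₂ v₁ = 0 := by
    have := hw₂L 1
    rwa [Matrix.cons_val_one, Matrix.cons_val_zero, fv_dot hf] at this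
  have hw₂w₁ : f w₂ w₁ = 0 := by
    have := hw₂L 2
    simpa [fv_dot hf] using this
  have hlw₂ : l₀ ⬝ᵥ w₂ = 0 := by
    have := hw₂L 3
    simpa using this
  obtain ⟨y₂, hy₂u, hy₂w₂⟩ := exists_partner_in_perp hf u w₂ (hoff w₂ hw₂0 hw₂v)
  -- all multiples of the functional of `w₂` are axes
  have hI₂ : ∀ a : F, a • fv f w₂ ∈ Ax M u := by
    intro a
    obtain ⟨c, hcdef⟩ : ∃ c : F, c = σ (a / (c₀ * (l₀ ⬝ᵥ w₁))) := ⟨_, rfl⟩
    have hiso : f (w₁ + c • w₂) (w₁ + c • w₂) = 0 := by
      rw [hf.add_left, f_add_right hf, f_add_right hf, hf.smul_left, hf.smul_left,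
        f_smul_right hf, f_smul_right hf, hw₁w₁, hw₂w₂, hw₂w₁, f_comm_zero hf hw₂w₁]
      ring
    have hperp : f u (w₁ + c • w₂) = 0 := by
      rw [f_add_right hf, f_smul_right hf, f_comm_zero hf hw₁u, f_comm_zero hf hw₂u]
      ring
    have h1 := ax_step hf M hHM u l₀ _ hl₀ hiso hperp c₀ hc₀tr
    have h2 := ax_step hf M hHM u l₀ w₁ hl₀ hw₁w₁ (f_comm_zero hf hw₁u) c₀ hc₀tr
    have h3 := ax_sub M u _ _ h1 h2
    have : (c₀ * l₀ ⬝ᵥ (w₁ + c • w₂)) • fv f (w₁ + c • w₂) - (c₀ * l₀ ⬝ᵥ w₁) • fv f w₁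
        = a • fv f w₂ := by
      rw [dotProduct_add, dotProduct_smul, hlw₂, smul_zero, add_zero, fv_add hf, fv_smul hf,
        smul_add, add_sub_cancel_left, smul_smul, hcdef, hf.involutive]
      congr 1
      have : c₀ * l₀ ⬝ᵥ w₁ ≠ 0 := mul_ne_zero hc₀ hlw₁
      field_simp
    rw [this] at h3
    exact h3
  -- the set of vectors all of whose functional multiples are axes
  have hPadd : ∀ x x' : Fin n → F, (∀ a : F, a • fv f x ∈ Ax M u) →
      (∀ a : F, a • fv f x' ∈ Ax M u) → ∀ a : F, a • fv f (x + x') ∈ Ax M u := by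
    intro x x' hx hx' a
    rw [fv_add hf, smul_add]
    exact ax_add M u _ _ (hx a) (hx' a)
  have hPsub : ∀ x x' : Fin n → F, (∀ a : F, a • fv f x ∈ Ax M u) →
      (∀ a : F, a • fv f x' ∈ Ax M u) → ∀ a : F, a • fv f (x - x') ∈ Ax M u := by
    intro x x' hx hx' a
    rw [fv_sub hf, smul_sub]
    exact ax_sub M u _ _ (hx a) (hx' a)
  have hPsmul : ∀ (b : F) (x : Fin n → F), (∀ a : F, a • fv f x ∈ Ax M u) →
      ∀ a : F, a • fv f (b • x) ∈ Ax M u := by
    intro b x hx a
    rw [fv_smul hf, smul_smul]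
    exact hx _
  have hI : ∀ z : Fin n → F, f z z = 0 → f z u = 0 → f z w₂ ≠ 0 →
      ∀ a : F, a • fv f z ∈ Ax M u := by
    intro z hzz hzu hzw₂ a
    have h1 := ax_step hf M hHM u _ z (hI₂ (a / (c₀ * f z w₂))) hzz (f_comm_zero hf hzu) c₀ hc₀tr
    have : c₀ * (a / (c₀ * f z w₂)) • fv f w₂ ⬝ᵥ z = a := by
      rw [smul_dotProduct, fv_dot hf, smul_eq_mul]
      field_simp
    rw [this] at h1
    exact h1
  have hPx : ∀ x : Fin n → F, f x u = 0 → f x w₂ ≠ 0 → ∀ a : F, a • fv f x ∈ Ax M u := by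
    intro x hxu hxw₂
    obtain ⟨c, hc⟩ := exists_iso_sub hf w₂ x hw₂w₂ (f_comm_ne hf hxw₂)
    have hz := hI (x - c • w₂) hc (by
      rw [f_sub_left hf, hf.smul_left, hxu, hw₂u, mul_zero, sub_zero]) (by
      rw [f_sub_left hf, hf.smul_left, hw₂w₂, mul_zero, sub_zero]; exact hxw₂)
    have := hPadd _ _ hz (hPsmul c w₂ hI₂)
    rwa [sub_add_cancel] at this
  have hPall : ∀ x : Fin n → F, f x u = 0 → ∀ a : F, a • fv f x ∈ Ax M u := by
    intro x hxu
    by_cases hxw₂ : f x w₂ = 0
    · have h1 := hPx (x + y₂) (by rw [hf.add_left, hxu, hy₂u, add_zero]) (by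
        rw [hf.add_left, hxw₂, zero_add]; exact hy₂w₂)
      have h2 := hPx y₂ hy₂u hy₂w₂
      have := hPsub _ _ h1 h2
      rwa [add_sub_cancel_right] at this
    · exact hPx x hxu hxw₂
  intro l
  by_cases hl : l ⬝ᵥ u = 0
  · obtain ⟨a, rfl⟩ := fv_surjective hf l
    rw [fv_dot hf] at hl
    have := hPall a (f_comm_zero hf hl) 1
    rw [one_smul] at this
    exact this.2
  · rw [tv_of_not _ _ hl]
    exact M.one_mem

end spread

section simker

variable [Fintype F] (hf : Cfsg.Geo.IsUnitaryForm σ f)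

include hf in
/-- a vector pairing non-trivially with two given non-zero vectors -/
theorem exists_both (a b : Fin n → F) (ha : a ≠ 0) (hb : b ≠ 0) :
    ∃ y : Fin n → F, f y a ≠ 0 ∧ f y b ≠ 0 := by
  obtain ⟨⟨y₁, hy₁⟩, -⟩ := hf.nondegenerate a ha
  obtain ⟨⟨y₂, hy₂⟩, -⟩ := hf.nondegenerate b hb
  by_cases h1 : f y₁ b = 0
  · by_cases h2 : f y₂ a = 0
    · refine ⟨y₁ + y₂, ?_, ?_⟩
      · rw [hf.add_left, h2, add_zero]; exact hy₁
      · rw [hf.add_left, h1, zero_add]; exact hy₂
    · exact ⟨y₂, h2, hy₂⟩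
  · exact ⟨y₁, hy₁, h1⟩

include hf in
/-- an isotropic vector not orthogonal to a given non-zero vector -/
theorem exists_iso_not_perp (hn : 2 ≤ n) (v : Fin n → F) (hv : v ≠ 0) :
    ∃ w : Fin n → F, f w w = 0 ∧ f w v ≠ 0 := by
  obtain ⟨w₀, hw₀0, hw₀, -⟩ := exists_iso_perp hf 0 (fun i => Fin.elim0 i) (by omega)
  by_cases h0 : f w₀ v = 0
  · obtain ⟨y, hyw, hyv⟩ := exists_both hf w₀ v hw₀0 hv
    obtain ⟨c, hc⟩ := exists_iso_sub hf w₀ y hw₀ (f_comm_ne hf hyw)
    refine ⟨y - c • w₀, hc, ?_⟩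
    rw [f_sub_left hf, hf.smul_left, h0, mul_zero, sub_zero]
    exact hyv
  · exact ⟨w₀, hw₀, h0⟩

include hf in
/-- an invertible matrix that does not enlarge the orthogonality relation at isotropic vectors is a
similarity -/
theorem similarity_of_ker (hn : 2 ≤ n) (g : GL (Fin n) F)
    (h : ∀ u : Fin n → F, f u u = 0 → ∀ y : Fin n → F,
      f ((g : Matrix (Fin n) (Fin n) F) *ᵥ y) ((g : Matrix (Fin n) (Fin n) F) *ᵥ u) = 0 → f y u = 0) :
    g ∈ Cfsg.Geo.similarityGroup f := by
  -- the pulled back form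
  obtain ⟨f', hf'def⟩ : ∃ f' : (Fin n → F) → (Fin n → F) → F, f' = fun x y =>
      f ((g : Matrix (Fin n) (Fin n) F) *ᵥ x) ((g : Matrix (Fin n) (Fin n) F) *ᵥ y) := ⟨_, rfl⟩
  have hf'add : ∀ y a b, f' y (a + b) = f' y a + f' y b := by
    intro y a b
    rw [hf'def]
    simp only [Matrix.mulVec_add, f_add_right hf]
  have hf'smul : ∀ (c : F) y a, f' y (c • a) = σ c * f' y a := by
    intro c y a
    rw [hf'def]
    simp only [Matrix.mulVec_smul, f_smul_right hf]
  have hf'nd : ∀ x : Fin n → F, (∀ y, f' y x = 0) → x = 0 := by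
    intro x hx
    by_contra hx0
    have hgx : (g : Matrix (Fin n) (Fin n) F) *ᵥ x ≠ 0 := by
      intro h0
      have := congrArg (fun z => ((g⁻¹ : GL (Fin n) F) : Matrix (Fin n) (Fin n) F) *ᵥ z) h0
      simp only [Matrix.mulVec_mulVec, Matrix.mulVec_zero] at this
      rw [← Units.val_mul, inv_mul_cancel, Units.val_one, Matrix.one_mulVec] at this
      exact hx0 this
    obtain ⟨⟨z, hz⟩, -⟩ := hf.nondegenerate _ hgx
    apply hz
    have := hx (((g⁻¹ : GL (Fin n) F) : Matrix (Fin n) (Fin n) F) *ᵥ z)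
    rw [hf'def] at this
    simp only [Matrix.mulVec_mulVec] at this
    rwa [← Units.val_mul, mul_inv_cancel, Units.val_one, Matrix.one_mulVec] at this
  -- pointwise proportionality at isotropic vectors
  have hpt : ∀ u : Fin n → F, f u u = 0 → ∃ b : F, ∀ y, f y u = b * f' y u := by
    intro u hu
    obtain ⟨b, hb⟩ := exists_smul_of_ker (fv f u)
      (fv f ((g : Matrix (Fin n) (Fin n) F) *ᵥ u) ᵥ* (g : Matrix (Fin n) (Fin n) F)) (by
        intro y hy
        rw [← Matrix.dotProduct_mulVec, fv_dot hf] at hy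
        rw [fv_dot hf]
        exact h u hu y hy)
    refine ⟨b, fun y => ?_⟩
    rw [← fv_dot hf, hb, smul_dotProduct, ← Matrix.dotProduct_mulVec, fv_dot hf, smul_eq_mul, hf'def]
  obtain ⟨c₀, hc₀, hc₀tr⟩ := exists_trace_zero hf.ne_refl hf.involutive
  obtain ⟨u₀, hu₀0, hu₀, -⟩ := exists_iso_perp hf 0 (fun i => Fin.elim0 i) (by omega)
  obtain ⟨b₀, hb₀⟩ := hpt u₀ hu₀
  -- the constant is the same at every isotropic vector
  have hconst : ∀ u : Fin n → F, f u u = 0 → ∀ y, f y u = b₀ * f' y u := by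
    intro u hu
    by_cases hdep : ∃ β : F, u = β • u₀
    · obtain ⟨β, rfl⟩ := hdep
      intro y
      rw [f_smul_right hf, hf'smul, hb₀ y]
      ring
    · push Not at hdep
      obtain ⟨b, hb⟩ := hpt u hu
      obtain ⟨c, hc0, hciso⟩ : ∃ c : F, c ≠ 0 ∧ f (u₀ + c • u) (u₀ + c • u) = 0 := by
        by_cases huu₀ : f u u₀ = 0
        · refine ⟨1, one_ne_zero, ?_⟩
          rw [one_smul, hf.add_left, f_add_right hf, f_add_right hf, hu, hu₀, huu₀,
            f_comm_zero hf huu₀]
          ring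
        · refine ⟨c₀ / f u u₀, div_ne_zero hc₀ huu₀, ?_⟩
          rw [hf.add_left, f_add_right hf, f_add_right hf, hf.smul_left, hf.smul_left,
            f_smul_right hf, f_smul_right hf, hu, hu₀, hf.herm u₀ u, map_div₀]
          have h1 : c₀ / f u u₀ * f u u₀ = c₀ := div_mul_cancel₀ _ huu₀
          have h2 : σ c₀ / σ (f u u₀) * σ (f u u₀) = σ c₀ := by
            apply div_mul_cancel₀
            intro h0
            apply huu₀
            have := congrArg σ h0
            rwa [hf.involutive, map_zero] at this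
          rw [h1, h2]
          linear_combination hc₀tr
      obtain ⟨b₂, hb₂⟩ := hpt _ hciso
      have hvec : σ (b₀ - b₂) • u₀ + (c * σ (b - b₂)) • u = 0 := by
        apply hf'nd
        intro y
        have e := hb₂ y
        rw [f_add_right hf, f_smul_right hf, hf'add, hf'smul, hb₀ y, hb y] at e
        rw [hf'add, hf'smul, hf'smul, map_mul, hf.involutive, hf.involutive]
        linear_combination e
      have hcoef : c * σ (b - b₂) = 0 := by
        by_contra hne
        apply hdep (-(σ (b₀ - b₂)) / (c * σ (b - b₂)))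
        have : (c * σ (b - b₂)) • u = -(σ (b₀ - b₂) • u₀) := eq_neg_of_add_eq_zero_right hvec
        calc u = (c * σ (b - b₂))⁻¹ • ((c * σ (b - b₂)) • u) := by
              rw [smul_smul, inv_mul_cancel₀ hne, one_smul]
          _ = (-(σ (b₀ - b₂)) / (c * σ (b - b₂))) • u₀ := by
              rw [this, smul_neg, smul_smul, ← neg_smul]
              congr 1
              field_simp
      have hb₂b : b = b₂ := by
        rcases mul_eq_zero.mp hcoef with h' | h'
        · exact absurd h' hc0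
        · have := congrArg σ h'
          rw [hf.involutive, map_zero] at this
          exact sub_eq_zero.mp this
      have hb₂b₀ : b₀ = b₂ := by
        rw [hcoef, zero_smul, add_zero] at hvec
        rcases smul_eq_zero.mp hvec with h' | h'
        · have := congrArg σ h'
          rw [hf.involutive, map_zero] at this
          exact sub_eq_zero.mp this
        · exact absurd h' hu₀0
      intro y
      rw [hb y, hb₂b, ← hb₂b₀]
  -- hence everywhere
  have hall : ∀ v y : Fin n → F, f y v = b₀ * f' y v := by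
    intro v y
    by_cases hv : v = 0
    · rw [hv, f_zero_right hf, hf'def]
      simp only [Matrix.mulVec_zero, f_zero_right hf, mul_zero]
    · obtain ⟨w, hww, hwv⟩ := exists_iso_not_perp hf hn v hv
      obtain ⟨c, hc⟩ := exists_iso_sub hf w v hww hwv
      have hv' : v = (v - c • w) + c • w := by rw [sub_add_cancel]
      rw [hv', f_add_right hf, hf'add, f_smul_right hf, hf'smul, hconst _ hc y, hconst _ hww y]
      ring
  have hb₀ne : b₀ ≠ 0 := by
    intro h0
    obtain ⟨⟨x, hx⟩, -⟩ := hf.nondegenerate u₀ hu₀0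
    apply hx
    rw [hb₀ x, h0, zero_mul]
  refine ⟨Units.mk0 b₀⁻¹ (inv_ne_zero hb₀ne), fun u v => ?_⟩
  rw [Units.val_mk0, hall v u, ← mul_assoc, inv_mul_cancel₀ hb₀ne, one_mul, hf'def]

end simker

section main

variable [Fintype F] (hf : Cfsg.Geo.IsUnitaryForm σ f)

include hf in
/-- unitary transvections move isotropic vectors to each other up to scalars -/
theorem exists_move (a b : Fin n → F) (ha0 : a ≠ 0) (hb0 : b ≠ 0) (ha : f a a = 0)
    (hb : f b b = 0) :
    ∃ h ∈ Cfsg.Geo.similarityGroup f ⊓ Cfsg.Geo.specialLinear (Fin n) F, ∃ μ : F, μ ≠ 0 ∧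
      (h : Matrix (Fin n) (Fin n) F) *ᵥ a = μ • b := by
  obtain ⟨c₀, hc₀, hc₀tr⟩ := exists_trace_zero hf.ne_refl hf.involutive
  have hstep : ∀ a b : Fin n → F, f a a = 0 → f b b = 0 → f a b ≠ 0 →
      ∃ h ∈ Cfsg.Geo.similarityGroup f ⊓ Cfsg.Geo.specialLinear (Fin n) F, ∃ μ : F, μ ≠ 0 ∧
        (h : Matrix (Fin n) (Fin n) F) *ᵥ a = μ • b := by
    intro a b ha hb hab
    have hσc₀ : σ c₀ = -c₀ := by linear_combination hc₀tr
    have hw : f (b - (c₀ / f a b) • a) (b - (c₀ / f a b) • a) = 0 := by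
      rw [f_sub_left hf, f_sub_right hf, f_sub_right hf, hf.smul_left, hf.smul_left,
        f_smul_right hf, f_smul_right hf, ha, hb, hf.herm b a, map_div₀]
      have h1 : c₀ / f a b * f a b = c₀ := div_mul_cancel₀ _ hab
      have h2 : σ c₀ / σ (f a b) * σ (f a b) = σ c₀ := by
        apply div_mul_cancel₀
        intro h0
        apply hab
        have := congrArg σ h0
        rwa [hf.involutive, map_zero] at this
      rw [h2, h1]
      linear_combination -hc₀tr
    have hc : c₀⁻¹ + σ c₀⁻¹ = 0 := by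
      rw [map_inv₀, hσc₀, inv_neg, add_neg_cancel]
    refine ⟨tv _ (c₀⁻¹ • fv f (b - (c₀ / f a b) • a)), ut_mem hf _ hw _ hc, c₀⁻¹ * f a b,
      mul_ne_zero (inv_ne_zero hc₀) hab, ?_⟩
    rw [ut_mulVec hf _ hw, f_sub_right hf, f_smul_right hf, ha, mul_zero, sub_zero, smul_sub,
      smul_smul]
    have : c₀⁻¹ * f a b * (c₀ / f a b) = 1 := by field_simp
    rw [this, one_smul]
    abel
  by_cases hab : f a b = 0
  · obtain ⟨y, hya, hyb⟩ := exists_both hf a b ha0 hb0
    obtain ⟨c, hc⟩ := exists_iso_sub hf a y ha (f_comm_ne hf hya)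
    have haz : f a (y - c • a) ≠ 0 := by
      rw [f_sub_right hf, f_smul_right hf, ha, mul_zero, sub_zero]
      exact f_comm_ne hf hya
    have hzb : f (y - c • a) b ≠ 0 := by
      rw [f_sub_left hf, hf.smul_left, hab, mul_zero, sub_zero]
      exact hyb
    obtain ⟨h₁, hh₁, μ₁, hμ₁, e₁⟩ := hstep a _ ha hc haz
    obtain ⟨h₂, hh₂, μ₂, hμ₂, e₂⟩ := hstep _ b hc hb hzb
    refine ⟨h₂ * h₁, Subgroup.mul_mem _ hh₂ hh₁, μ₁ * μ₂, mul_ne_zero hμ₁ hμ₂, ?_⟩
    rw [Units.val_mul, ← Matrix.mulVec_mulVec, e₁, Matrix.mulVec_smul, e₂, smul_smul]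
  · exact hstep a b ha hb hab

include hf in
/-- a subgroup of the special linear group properly containing the unitary similarities is
everything -/
theorem unit_top (hn : 6 ≤ n) (M : Subgroup (GL (Fin n) F))
    (hHM : Cfsg.Geo.similarityGroup f ⊓ Cfsg.Geo.specialLinear (Fin n) F ≤ M)
    (hMS : M ≤ Cfsg.Geo.specialLinear (Fin n) F)
    (hM : M ≠ Cfsg.Geo.similarityGroup f ⊓ Cfsg.Geo.specialLinear (Fin n) F) :
    M = Cfsg.Geo.specialLinear (Fin n) F := by
  obtain ⟨c₀, hc₀, hc₀tr⟩ := exists_trace_zero hf.ne_refl hf.involutive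
  obtain ⟨g, hgM, hgS⟩ : ∃ g ∈ M, g ∉ Cfsg.Geo.similarityGroup f := by
    by_contra hcon
    push Not at hcon
    exact hM (le_antisymm (fun x hx => ⟨hcon x hx, hMS hx⟩) hHM)
  obtain ⟨u₀, hu₀, y, hgy, hyu⟩ : ∃ u₀ : Fin n → F, f u₀ u₀ = 0 ∧ ∃ y : Fin n → F,
      f ((g : Matrix (Fin n) (Fin n) F) *ᵥ y) ((g : Matrix (Fin n) (Fin n) F) *ᵥ u₀) = 0 ∧
      f y u₀ ≠ 0 := by
    by_contra hcon
    push Not at hcon
    exact hgS (similarity_of_ker hf (by omega) g hcon)
  have hu₀0 : u₀ ≠ 0 := by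
    intro h
    rw [h, f_zero_right hf] at hyu
    exact hyu rfl
  have hgu₀ : (g : Matrix (Fin n) (Fin n) F) *ᵥ u₀ ≠ 0 := by
    intro h
    have := congrArg (fun z => ((g⁻¹ : GL (Fin n) F) : Matrix (Fin n) (Fin n) F) *ᵥ z) h
    simp only [Matrix.mulVec_mulVec, Matrix.mulVec_zero] at this
    rw [← Units.val_mul, inv_mul_cancel, Units.val_one, Matrix.one_mulVec] at this
    exact hu₀0 this
  -- the conjugated transvection
  obtain ⟨l', hl'def⟩ : ∃ l', l' = (c₀ • fv f u₀) ᵥ*
      (((g⁻¹ : GL (Fin n) F)) : Matrix (Fin n) (Fin n) F) := ⟨_, rfl⟩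
  have hl'g : l' ᵥ* (g : Matrix (Fin n) (Fin n) F) = c₀ • fv f u₀ := by
    rw [hl'def, Matrix.vecMul_vecMul, ← Units.val_mul, inv_mul_cancel, Units.val_one,
      Matrix.vecMul_one]
  obtain ⟨h0, hconj⟩ := conj_tv g u₀ (c₀ • fv f u₀) _ l' (ut_dot hf u₀ hu₀ c₀) rfl hl'g
  have hl'M : l' ∈ Ax M ((g : Matrix (Fin n) (Fin n) F) *ᵥ u₀) := by
    refine ⟨h0, ?_⟩
    rw [← hconj]
    exact M.mul_mem (M.mul_mem hgM (hHM (ut_mem hf u₀ hu₀ c₀ hc₀tr))) (M.inv_mem hgM)
  have hl'w : l' ⬝ᵥ ((g : Matrix (Fin n) (Fin n) F) *ᵥ y) ≠ 0 := by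
    rw [Matrix.dotProduct_mulVec, hl'g, smul_dotProduct, fv_dot hf, smul_eq_mul]
    exact mul_ne_zero hc₀ hyu
  have hcen := cen_of_ax hf hn M hHM _ l' _ hgu₀ hl'M hgy hl'w
  obtain ⟨u, hudef⟩ : ∃ u, u = (g : Matrix (Fin n) (Fin n) F) *ᵥ u₀ := ⟨_, rfl⟩
  rw [← hudef] at hcen hgu₀
  -- an isotropic centre
  obtain ⟨z, hz0, hzz, hzM⟩ : ∃ z : Fin n → F, z ≠ 0 ∧ f z z = 0 ∧ z ∈ Cen M := by
    by_cases huu : f u u = 0
    · exact ⟨u, hgu₀, huu, hcen⟩
    · obtain ⟨z, hzz, hzu⟩ := exists_iso_not_perp hf (by omega) u hgu₀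
      have hz0 : z ≠ 0 := by
        intro h
        rw [h, f_zero_left hf] at hzu
        exact hzu rfl
      obtain ⟨a, ha0, -, haL⟩ := exists_iso_perp hf 2 ![fv f u, fv f z] (by omega)
      have hau : f a u = 0 := by
        have := haL 0
        rwa [Matrix.cons_val_zero, fv_dot hf] at this
      have haz : f a z = 0 := by
        have := haL 1
        rwa [Matrix.cons_val_one, Matrix.cons_val_zero, fv_dot hf] at this
      have haline : ∀ β : F, a ≠ β • z := by
        intro β hβ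
        rw [hβ, hf.smul_left] at hau
        rcases mul_eq_zero.mp hau with h | h
        · apply ha0
          rw [hβ, h, zero_smul]
        · exact hzu h
      obtain ⟨y₀, hy₀z, hy₀a⟩ := exists_partner_in_perp hf z a haline
      have hlu : fv f a ⬝ᵥ u = 0 := by rw [fv_dot hf]; exact f_comm_zero hf hau
      have hlz : fv f a ⬝ᵥ z = 0 := by rw [fv_dot hf]; exact f_comm_zero hf haz
      have hTM : tv u (fv f a) ∈ M := hcen _
      have hTz : z = ((tv u (fv f a) : GL (Fin n) F) : Matrix (Fin n) (Fin n) F) *ᵥ z := by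
        rw [tv_mulVec _ _ _ hlu, hlz, zero_smul, add_zero]
      obtain ⟨l₁, hl₁def⟩ : ∃ l₁, l₁ = (c₀ • fv f z) ᵥ*
          (((tv u (fv f a))⁻¹ : GL (Fin n) F) : Matrix (Fin n) (Fin n) F) := ⟨_, rfl⟩
      have hl₁g : l₁ ᵥ* ((tv u (fv f a) : GL (Fin n) F) : Matrix (Fin n) (Fin n) F) =
          c₀ • fv f z := by
        rw [hl₁def, Matrix.vecMul_vecMul, ← Units.val_mul, inv_mul_cancel, Units.val_one,
          Matrix.vecMul_one]
      obtain ⟨h0', hconj'⟩ := conj_tv (tv u (fv f a)) z (c₀ • fv f z) z l₁ (ut_dot hf z hzz c₀)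
        hTz hl₁g
      have hl₁M : l₁ ∈ Ax M z := by
        refine ⟨h0', ?_⟩
        rw [← hconj']
        exact M.mul_mem (M.mul_mem hTM (hHM (ut_mem hf z hzz c₀ hc₀tr))) (M.inv_mem hTM)
      have hl₁y : l₁ ⬝ᵥ y₀ ≠ 0 := by
        have hneg : (-fv f a) ⬝ᵥ u = 0 := by rw [neg_dotProduct, hlu, neg_zero]
        rw [hl₁def, tv_inv _ _ hlu, ← Matrix.dotProduct_mulVec, tv_mulVec _ _ _ hneg,
          neg_dotProduct, fv_dot hf, dotProduct_add, dotProduct_smul, smul_dotProduct,
          smul_dotProduct, fv_dot hf, fv_dot hf, hy₀z]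
        simp only [smul_eq_mul, mul_zero, zero_add]
        exact mul_ne_zero (neg_ne_zero.mpr hy₀a) (mul_ne_zero hc₀ (f_comm_ne hf hzu))
      exact ⟨z, hz0, hzz, cen_of_ax hf hn M hHM z l₁ y₀ hz0 hl₁M hy₀z hl₁y⟩
  -- all isotropic vectors
  have hiso : ∀ b : Fin n → F, b ≠ 0 → f b b = 0 → b ∈ Cen M := by
    intro b hb0 hbb
    obtain ⟨h, hh, μ, hμ, e⟩ := exists_move hf z b hz0 hb0 hzz hbb
    have h1 := cen_smul M h (hHM hh) z hzM
    rw [e] at h1
    have h2 := cen_scalar M μ⁻¹ _ h1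
    rwa [smul_smul, inv_mul_cancel₀ hμ, one_smul] at h2
  apply le_antisymm hMS
  apply specialLinear_le_of_tv (by omega)
  intro x l
  by_cases hx0 : x = 0
  · have : tv x l = 1 := by
      apply Units.ext
      rw [hx0, tv_val _ _ (dotProduct_zero l), Matrix.zero_vecMulVec, add_zero, Units.val_one]
    rw [this]
    exact M.one_mem
  by_cases hxx : f x x = 0
  · exact hiso x hx0 hxx l
  obtain ⟨v, hvv, hvx⟩ := exists_iso_not_perp hf (by omega) x hx0
  have hv0 : v ≠ 0 := by
    intro h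
    rw [h, f_zero_left hf] at hvx
    exact hvx rfl
  obtain ⟨c, hc⟩ := exists_iso_sub hf v x hvv hvx
  have hz'0 : x - c • v ≠ 0 := by
    intro h
    have hxe : x = c • v := sub_eq_zero.mp h
    apply hxx
    rw [hxe, hf.smul_left, f_smul_right hf, hvv, mul_zero, mul_zero]
  have hz'v : f (x - c • v) v ≠ 0 := by
    rw [f_sub_left hf, hf.smul_left, hvv, mul_zero, sub_zero]
    exact f_comm_ne hf hvx
  have hTM : tv v ((c / f (x - c • v) v) • fv f v) ∈ M := hiso v hv0 hvv _
  have h1 := cen_smul M _ hTM _ (hiso _ hz'0 hc)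
  rw [ut_mulVec hf v hvv, div_mul_cancel₀ _ hz'v, sub_add_cancel] at h1
  exact h1 l

include hf in
/-- some element of the special linear group is not a unitary similarity -/
theorem exists_not_similarity (hn : 4 ≤ n) :
    ∃ g ∈ Cfsg.Geo.specialLinear (Fin n) F, g ∉ Cfsg.Geo.similarityGroup f := by
  obtain ⟨u, hu0, huu, -⟩ := exists_iso_perp hf 0 (fun i => Fin.elim0 i) (by omega)
  obtain ⟨-, ⟨v₁, hv₁⟩⟩ := hf.nondegenerate u hu0
  obtain ⟨a, ha0, -, haL⟩ := exists_iso_perp hf 2 ![fv f u, fv f v₁] (by omega)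
  have hau : f a u = 0 := by
    have := haL 0
    rwa [Matrix.cons_val_zero, fv_dot hf] at this
  have hav : f a v₁ = 0 := by
    have := haL 1
    rwa [Matrix.cons_val_one, Matrix.cons_val_zero, fv_dot hf] at this
  have haline : ∀ β : F, a ≠ β • u := by
    intro β hβ
    rw [hβ, hf.smul_left] at hav
    rcases mul_eq_zero.mp hav with h | h
    · apply ha0
      rw [hβ, h, zero_smul]
    · exact hv₁ h
  have huline : ∀ β : F, u ≠ β • a := by
    intro β hβ
    apply hv₁
    rw [hβ, hf.smul_left, hav, mul_zero]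
  obtain ⟨y₀, hy₀u, hy₀a⟩ := exists_partner_in_perp hf u a haline
  obtain ⟨x, hxa, hxu⟩ := exists_partner_in_perp hf a u huline
  have hlu : fv f a ⬝ᵥ u = 0 := by rw [fv_dot hf]; exact f_comm_zero hf hau
  refine ⟨tv u (fv f a), tv_mem_specialLinear _ _, ?_⟩
  rintro ⟨c, hc⟩
  have hTx : ((tv u (fv f a) : GL (Fin n) F) : Matrix (Fin n) (Fin n) F) *ᵥ x = x := by
    rw [tv_mulVec _ _ _ hlu, fv_dot hf, hxa, zero_smul, add_zero]
  have hTu : ((tv u (fv f a) : GL (Fin n) F) : Matrix (Fin n) (Fin n) F) *ᵥ u = u := by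
    rw [tv_mulVec _ _ _ hlu, hlu, zero_smul, add_zero]
  have hc1 : (c : F) = 1 := by
    have := hc x u
    rw [hTx, hTu] at this
    have h2 : ((c : F) - 1) * f x u = 0 := by linear_combination -this
    rcases mul_eq_zero.mp h2 with h3 | h3
    · linear_combination h3
    · exact absurd h3 hxu
  have := hc x y₀
  rw [hTx, tv_mulVec _ _ _ hlu, fv_dot hf, hc1, one_mul, f_add_right hf, f_smul_right hf] at this
  have h4 : σ (f y₀ a) * f x u = 0 := by linear_combination this
  rcases mul_eq_zero.mp h4 with h5 | h5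
  · apply hy₀a
    have := congrArg σ h5
    rwa [hf.involutive, map_zero] at this
  · exact hxu h5

include hf in
/-- **the unitary similarities form a maximal subgroup of the special linear group** -/
theorem maximal_unit (hn : 6 ≤ n) :
    Cfsg.Geo.IsMaximalIn (Cfsg.Geo.specialLinear (Fin n) F)
      (Cfsg.Geo.similarityGroup f ⊓ Cfsg.Geo.specialLinear (Fin n) F) := by
  refine ⟨?_, fun M hHM hMS => ?_⟩
  · apply lt_of_le_of_ne inf_le_right
    intro heq
    obtain ⟨g, hg, hgS⟩ := exists_not_similarity hf (by omega)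
    rw [← heq] at hg
    exact hgS hg.1
  · by_cases hM : M = Cfsg.Geo.similarityGroup f ⊓ Cfsg.Geo.specialLinear (Fin n) F
    · left; exact hM
    · right; exact unit_top hf hn M hHM hMS hM

end main

end Cfsg.Agent.Helper28.UnitInSL
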