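import Mathlib
import Cfsg.Prelude.Def_JComponents
import Cfsg.Agent.Lib.Helper4.ZNDefs
import Cfsg.Agent.Lib.Helper4.ZNMAXL
import Cfsg.Agent.Lib.Helper19.ZNMODELB

/-!
# S0518 (helper4's farm-out), PIECE CTX (helper28): the context of Case B

`exists_ctx`: two distinct maximal 2-locals `P₁, P₂ ≅ S₄ × C₂` with a common Sylow 2-subgroup `T`
give the context `Ctx` (from pieces MODELB and MAXL).
-/

set_option autoImplicit false
open Cfsg

namespace Cfsg.Agent.Helper4.ZN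

variable {G : Type*} [Group G]

/-- a subgroup of order `2 ^ k` is a `2`-group -/
theorem CTX_isPGroup_of_card {X : Subgroup G} {k : ℕ} (h : Nat.card ↥X = 2 ^ k) : IsPGroup 2 ↥X :=
  IsPGroup.of_card h

/-- a subgroup of order `> 1` is nontrivial -/
theorem CTX_ne_bot_of_card {X : Subgroup G} {n : ℕ} (h : Nat.card ↥X = n) (hn : n ≠ 1) : X ≠ ⊥ := by
  rintro rfl
  rw [Subgroup.card_bot] at h
  exact hn h.symm

/-- a Sylow `2`-subgroup (in the sense of `IsSylowTwoIn`) of a group of order `48` has index `3` -/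
theorem CTX_relIndex_eq_three {T P : Subgroup G} (hT : IsSylowTwoIn T P) (hP : Nat.card ↥P = 48) :
    T.relIndex P = 3 := by
  obtain ⟨hTP, hT2, hodd⟩ := hT
  have : Finite ↥P := Nat.finite_of_card_ne_zero (by rw [hP]; norm_num)
  have : Finite ↥T := Finite.of_injective (Subgroup.inclusion hTP) (Subgroup.inclusion_injective hTP)
  have h2 := Subgroup.card_mul_index (T.subgroupOf P)
  rw [Nat.card_congr (Subgroup.subgroupOfEquivOfLe hTP).toEquiv, hP] at h2
  obtain ⟨k, hk⟩ := (IsPGroup.iff_card (p := 2) (G := ↥T)).1 hT2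
  have h3 : 2 ^ k * T.relIndex P = 48 := by
    rw [← hk]
    exact h2
  -- `2 ^ k ∣ 48` so `k ≤ 4`
  have hk4 : k ≤ 4 := by
    by_contra hlt
    have hlt' : 5 ≤ k := by omega
    have hdvd : 2 ^ 5 ∣ 48 := by
      rw [← h3]
      exact Dvd.dvd.mul_right (pow_dvd_pow 2 hlt') _
    norm_num at hdvd
  interval_cases k
  · have : T.relIndex P = 48 := by omega
    rw [this] at hodd
    exact absurd hodd (by decide)
  · have : T.relIndex P = 24 := by omega
    rw [this] at hodd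
    exact absurd hodd (by decide)
  · have : T.relIndex P = 12 := by omega
    rw [this] at hodd
    exact absurd hodd (by decide)
  · have : T.relIndex P = 6 := by omega
    rw [this] at hodd
    exact absurd hodd (by decide)
  · omega

/-- Piece CTX -/
theorem exists_ctx [Finite G] {P₁ P₂ T : Subgroup G} (hne : P₁ ≠ P₂) (hm₁ : IsMaximalTwoLocal P₁)
    (hm₂ : IsMaximalTwoLocal P₂) (hT₁ : IsSylowTwoIn T P₁) (hT₂ : IsSylowTwoIn T P₂)
    (h₁ : Nonempty (↥P₁ ≃* Equiv.Perm (Fin 4) × Multiplicative (ZMod 2)))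
    (h₂ : Nonempty (↥P₂ ≃* Equiv.Perm (Fin 4) × Multiplicative (ZMod 2))) :
    ∃ (t₁ t₂ : G) (E₁ E₂ V₁ V₂ : Subgroup G), Ctx P₁ P₂ T t₁ t₂ E₁ E₂ V₁ V₂ := by
  obtain ⟨t₁, E₁, V₁, b₁⟩ := exists_PB P₁ h₁
  obtain ⟨t₂, E₂, V₂, b₂⟩ := exists_PB P₂ h₂
  refine ⟨t₁, t₂, E₁, E₂, V₁, V₂, ?_⟩
  have hE₁ : IsPGroup 2 ↥E₁ := CTX_isPGroup_of_card (k := 3) b₁.card_E
  have hE₂ : IsPGroup 2 ↥E₂ := CTX_isPGroup_of_card (k := 3) b₂.card_E
  have hV₁ : IsPGroup 2 ↥V₁ := CTX_isPGroup_of_card (k := 2) b₁.card_V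
  have hV₂ : IsPGroup 2 ↥V₂ := CTX_isPGroup_of_card (k := 2) b₂.card_V
  have hnorm : ∀ {P X : Subgroup G}, (∀ p ∈ P, ∀ x ∈ X, p * x * p⁻¹ ∈ X) →
      P ≤ Subgroup.normalizer (X : Set G) := by
    intro P X h p hp
    rw [Subgroup.mem_normalizer_iff]
    intro x
    constructor
    · exact h p hp x
    · intro hx
      have := h p⁻¹ (P.inv_mem hp) _ hx
      have e : p⁻¹ * (p * x * p⁻¹) * p⁻¹⁻¹ = x := by group
      rwa [e] at this
  exact
    { b₁ := b₁
      b₂ := b₂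
      syl₁ := hT₁
      syl₂ := hT₂
      nE₁ := normalizer_eq_of_maximal hm₁ hE₁ (CTX_ne_bot_of_card b₁.card_E (by norm_num))
        (hnorm b₁.E_norm)
      nE₂ := normalizer_eq_of_maximal hm₂ hE₂ (CTX_ne_bot_of_card b₂.card_E (by norm_num))
        (hnorm b₂.E_norm)
      nV₁ := normalizer_eq_of_maximal hm₁ hV₁ (CTX_ne_bot_of_card b₁.card_V (by norm_num))
        (hnorm b₁.V_norm)
      nV₂ := normalizer_eq_of_maximal hm₂ hV₂ (CTX_ne_bot_of_card b₂.card_V (by norm_num))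
        (hnorm b₂.V_norm)
      cT₁ := centralizer_eq_of_maximal hm₁ b₁.t_ne b₁.t_sq b₁.t_comm
      cT₂ := centralizer_eq_of_maximal hm₂ b₂.t_ne b₂.t_sq b₂.t_comm
      inter := inf_eq_of_maximal hne hm₁ hm₂ hT₁.1 hT₂.1 (CTX_relIndex_eq_three hT₁ b₁.card_P)
      ne := hne
      max₁ := hm₁
      max₂ := hm₂ }

end Cfsg.Agent.Helper4.ZN
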